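import Cfsg.Agent.Lib.Helper16.StronglyEmbedded
import Cfsg.Agent.Lib.Helper11.ThompsonTransfer
import Cfsg.Prelude.Def_PLocal
import Cfsg.Prelude.Def_Transfer

set_option autoImplicit false
open Cfsg

namespace Cfsg.Agent.Lib.Helper16

/-- A maximal subgroup avoiding a given non-Frattini element of a finite `p`-group: it is normal of
index `p`. -/
theorem exists_normal_index_prime_of_not_mem_frattini {R : Type*} [Group R] [Finite R] {p : ℕ}
    [Fact p.Prime] (hR : IsPGroup p R) {z : R} (hz : z ∉ frattini R) :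
    ∃ R₀ : Subgroup R, R₀.Normal ∧ z ∉ R₀ ∧ R₀.index = p := by
  have hp : p.Prime := Fact.out
  obtain ⟨R₀, hR₀, hzR₀⟩ : ∃ R₀ : Subgroup R, IsCoatom R₀ ∧ z ∉ R₀ := by
    by_contra hcon
    push Not at hcon
    apply hz
    unfold frattini Order.radical
    rw [Subgroup.mem_iInf]
    intro K
    rw [Subgroup.mem_iInf]
    intro hK
    exact hcon K hK
  have hnil : Group.IsNilpotent R := hR.isNilpotent
  have hn : R₀.Normal := Subgroup.NormalizerCondition.normal_of_coatom R₀ Group.normalizerCondition_of_isNilpotent hR₀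
  refine ⟨R₀, hn, hzR₀, ?_⟩
  -- the quotient
  have hsub : ∀ K : Subgroup (R ⧸ R₀), K = ⊥ ∨ K = ⊤ := by
    intro K
    have h1 : R₀ ≤ K.comap (QuotientGroup.mk' R₀) := by
      intro x hx
      rw [Subgroup.mem_comap]
      have : (QuotientGroup.mk' R₀) x = 1 := by
        rw [QuotientGroup.mk'_apply, QuotientGroup.eq_one_iff]; exact hx
      rw [this]; exact K.one_mem
    rcases eq_or_lt_of_le h1 with h | h
    · left
      rw [eq_bot_iff]
      intro k hk
      obtain ⟨x, rfl⟩ := QuotientGroup.mk'_surjective R₀ k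
      have hx : x ∈ K.comap (QuotientGroup.mk' R₀) := hk
      rw [← h] at hx
      rw [Subgroup.mem_bot, QuotientGroup.mk'_apply, QuotientGroup.eq_one_iff]
      exact hx
    · right
      have := hR₀.2 _ h
      rw [eq_top_iff]
      intro k _
      obtain ⟨x, rfl⟩ := QuotientGroup.mk'_surjective R₀ k
      have hx : x ∈ K.comap (QuotientGroup.mk' R₀) := by rw [this]; exact Subgroup.mem_top x
      exact hx
  set a : R ⧸ R₀ := QuotientGroup.mk' R₀ z with ha
  have ha1 : a ≠ 1 := by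
    rw [ha, QuotientGroup.mk'_apply, Ne, QuotientGroup.eq_one_iff]
    exact hzR₀
  have hQp : IsPGroup p (R ⧸ R₀) := hR.to_quotient R₀
  have hza : Subgroup.zpowers a = ⊤ := by
    rcases hsub (Subgroup.zpowers a) with h | h
    · exfalso; apply ha1
      have : a ∈ Subgroup.zpowers a := Subgroup.mem_zpowers a
      rw [h, Subgroup.mem_bot] at this
      exact this
    · exact h
  have hap : a ^ p = 1 := by
    rcases hsub (Subgroup.zpowers (a ^ p)) with h | h
    · have : a ^ p ∈ Subgroup.zpowers (a ^ p) := Subgroup.mem_zpowers _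
      rw [h, Subgroup.mem_bot] at this
      exact this
    · exfalso
      have h1 : a ∈ Subgroup.zpowers (a ^ p) := by rw [h]; exact Subgroup.mem_top a
      obtain ⟨k, hk⟩ := Subgroup.mem_zpowers_iff.mp h1
      obtain ⟨j, hj⟩ := hQp a
      -- orderOf a = p^i, divides p*k - 1
      have h2 : a ^ ((p : ℤ) * k - 1) = 1 := by
        rw [zpow_sub, zpow_mul, zpow_natCast, hk, zpow_one, mul_inv_cancel]
      have h3 : (orderOf a : ℤ) ∣ (p : ℤ) * k - 1 := orderOf_dvd_iff_zpow_eq_one.mpr h2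
      have h4 : p ∣ orderOf a := by
        obtain ⟨i, -, hi⟩ := (Nat.dvd_prime_pow hp).mp (orderOf_dvd_of_pow_eq_one hj)
        rcases i with _ | i
        · exfalso; apply ha1
          rw [pow_zero] at hi
          exact orderOf_eq_one_iff.mp hi
        · rw [hi, pow_succ]; exact dvd_mul_left _ _
      have h5 : (p : ℤ) ∣ (p : ℤ) * k - 1 := (Int.natCast_dvd_natCast.mpr h4).trans h3
      have h6 : (p : ℤ) ∣ 1 := by
        have := dvd_sub (dvd_mul_right (p : ℤ) k) h5
        simpa using this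
      have := Int.natCast_dvd_natCast.mp (by simpa using h6 : ((p : ℕ) : ℤ) ∣ ((1 : ℕ) : ℤ))
      exact hp.one_lt.ne' (Nat.dvd_one.mp this)
  have hord : orderOf a = p := orderOf_eq_prime hap ha1
  rw [Subgroup.index_eq_card, ← hord, ← Nat.card_zpowers, hza]
  exact (Nat.card_congr Subgroup.topEquiv.toEquiv).symm


theorem transfer_conj_aux {G : Type*} [Group G] {S : Subgroup G} {A : Type*} [CommGroup A]
    (ϕ : ↥S →* A) {z x x' s t : G} (hs : s ∈ S) (ht : t ∈ S) (hx' : x' = s * x * t)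
    (hsz : s * z = z * s) (h : x⁻¹ * z * x ∈ S) (hϕ : ϕ ⟨_, h⟩ = 1) :
    ∃ h' : x'⁻¹ * z * x' ∈ S, ϕ ⟨_, h'⟩ = 1 := by
  have e : x'⁻¹ * z * x' = t⁻¹ * (x⁻¹ * z * x) * t := by
    rw [hx']
    have : s⁻¹ * z * s = z := by rw [mul_assoc, ← hsz]; group
    calc (s * x * t)⁻¹ * z * (s * x * t) = t⁻¹ * (x⁻¹ * (s⁻¹ * z * s) * x) * t := by group
      _ = t⁻¹ * (x⁻¹ * z * x) * t := by rw [this]
  have h' : x'⁻¹ * z * x' ∈ S := by
    rw [e]; exact S.mul_mem (S.mul_mem (S.inv_mem ht) h) ht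
  refine ⟨h', ?_⟩
  have e2 : (⟨x'⁻¹ * z * x', h'⟩ : ↥S) = (⟨t, ht⟩ : ↥S)⁻¹ * ⟨x⁻¹ * z * x, h⟩ * ⟨t, ht⟩ := by
    apply Subtype.ext
    simp only [Subgroup.coe_mul, Subgroup.coe_inv]
    exact e
  rw [e2, map_mul, map_mul, map_inv, hϕ, mul_one, inv_mul_cancel]

theorem exists_index_two_of_central_involution {G : Type*} [Group G] [Finite G] (S : Sylow 2 G)
    (z : G) (hzZ : z ∈ (S : Subgroup G) ⊓ Subgroup.centralizer ((S : Subgroup G) : Set G))
    (hz2 : z ^ 2 = 1) (hzΦ : z ∉ (frattini ↥(S : Subgroup G)).map (S : Subgroup G).subtype)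
    (hN : ∀ g ∈ Subgroup.normalizer ((S : Subgroup G) : Set G), g * z * g⁻¹ = z) :
    ∃ H : Subgroup G, H.Normal ∧ H.index = 2 ∧ z ∉ H := by
  have hzS : z ∈ (S : Subgroup G) := hzZ.1
  have hzC : ∀ s ∈ (S : Subgroup G), s * z = z * s := fun s hs =>
    (Subgroup.mem_centralizer_iff.mp hzZ.2) s hs
  have hz1 : z ≠ 1 := by rintro rfl; exact hzΦ (Subgroup.one_mem _)
  have hzo : orderOf z = 2 := orderOf_eq_prime hz2 hz1
  have hz' : (⟨z, hzS⟩ : ↥(S : Subgroup G)) ∉ frattini ↥(S : Subgroup G) := fun h => hzΦ ⟨_, h, rfl⟩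
  obtain ⟨S₀, hS₀n, hzS₀, hS₀i⟩ := exists_normal_index_prime_of_not_mem_frattini S.isPGroup' hz'
  have hcard : Nat.card (↥(S : Subgroup G) ⧸ S₀) = 2 := by
    rw [← Subgroup.index_eq_card]; exact hS₀i
  have : Fact (Nat.Prime 2) := ⟨Nat.prime_two⟩
  have : IsCyclic (↥(S : Subgroup G) ⧸ S₀) := isCyclic_of_prime_card hcard
  letI : CommGroup (↥(S : Subgroup G) ⧸ S₀) := IsCyclic.commGroup
  set ϕ : ↥(S : Subgroup G) →* (↥(S : Subgroup G) ⧸ S₀) := QuotientGroup.mk' S₀ with hϕ
  have hϕz : ϕ ⟨z, hzS⟩ ≠ 1 := by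
    rw [hϕ, QuotientGroup.mk'_apply, Ne, QuotientGroup.eq_one_iff]
    exact hzS₀
  have hA2 : ∀ a : ↥(S : Subgroup G) ⧸ S₀, a ^ 2 = 1 := by
    intro a
    have := pow_card_eq_one' (x := a)
    rwa [hcard] at this
  have huniq : ∀ a b : ↥(S : Subgroup G) ⧸ S₀, a ^ 2 = 1 → b ^ 2 = 1 → a ≠ 1 → b ≠ 1 → a = b := by
    intro a b _ _ ha hb
    obtain ⟨y, -, hy⟩ := (Nat.card_eq_two_iff' (1 : ↥(S : Subgroup G) ⧸ S₀)).mp hcard
    rw [hy a ha, hy b hb]
  have hne : MonoidHom.transfer ϕ z ≠ 1 := by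
    intro htrz
    have hSodd : ¬ 2 ∣ (S : Subgroup G).index := S.not_dvd_index
    have hodd := Cfsg.Agent.Lib.Helper11.odd_card_fixed_in_ker (S : Subgroup G) hSodd ϕ huniq z hzo hzS hϕz htrz
    -- the S-action on the set of such cosets
    have hsm : ∀ (s : ↥(S : Subgroup G)) (c : G ⧸ (S : Subgroup G)), s • c = (s : G) • c :=
      fun _ _ => rfl
    let Ω : SubMulAction ↥(S : Subgroup G) (G ⧸ (S : Subgroup G)) :=
      { carrier := {c | z • c = c ∧ ∃ h : (Quotient.out c)⁻¹ * z * Quotient.out c ∈ (S : Subgroup G), ϕ ⟨_, h⟩ = 1}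
        smul_mem' := by
          rintro s c ⟨hc1, hc2, hc3⟩
          refine ⟨?_, ?_⟩
          · rw [hsm, ← mul_smul, ← hzC _ s.2, mul_smul, hc1]
          · -- representative of s • c
            have hmk : (QuotientGroup.mk (Quotient.out (s • c)) : G ⧸ (S : Subgroup G)) =
                QuotientGroup.mk ((s : G) * Quotient.out c) := by
              rw [QuotientGroup.out_eq', hsm]
              conv_lhs => rw [← QuotientGroup.out_eq' c]
              rw [MulAction.Quotient.smul_mk, smul_eq_mul]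
            rw [eq_comm, QuotientGroup.eq] at hmk
            set t : G := ((s : G) * Quotient.out c)⁻¹ * Quotient.out (s • c) with ht
            have hx' : Quotient.out (s • c) = (s : G) * Quotient.out c * t := by rw [ht]; group
            exact transfer_conj_aux ϕ s.2 hmk hx' (hzC _ s.2) hc2 hc3 }
    have hΩcard : Nat.card ↥Ω = Nat.card {c : G ⧸ (S : Subgroup G) // z • c = c ∧
        ∃ h : (Quotient.out c)⁻¹ * z * Quotient.out c ∈ (S : Subgroup G), ϕ ⟨_, h⟩ = 1} :=
      Nat.card_congr (Equiv.subtypeEquivRight (fun c => Iff.rfl))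
    have hmod := S.isPGroup'.card_modEq_card_fixedPoints ↥Ω
    have hfix : IsEmpty (MulAction.fixedPoints ↥(S : Subgroup G) ↥Ω) := by
      constructor
      rintro ⟨⟨c, hc1, hc2, hc3⟩, hfix⟩
      apply hϕz
      set x : G := Quotient.out c with hx
      have hcx : (QuotientGroup.mk x : G ⧸ (S : Subgroup G)) = c := QuotientGroup.out_eq' c
      -- x⁻¹ normalizes S
      have hxn : x⁻¹ ∈ Subgroup.normalizer ((S : Subgroup G) : Set G) := by
        apply mem_normalizer_of_map_conj_le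
        rintro _ ⟨s, hs, rfl⟩
        have h4 := hfix ⟨s, hs⟩
        have h5 : (⟨s, hs⟩ : ↥(S : Subgroup G)) • c = c := by
          have := congrArg Subtype.val h4
          exact this
        rw [hsm, ← hcx, MulAction.Quotient.smul_mk, smul_eq_mul, QuotientGroup.eq] at h5
        have h6 := (S : Subgroup G).inv_mem h5
        simp only [MulEquiv.coe_toMonoidHom, MulAut.conj_apply, inv_inv]
        have e : x⁻¹ * s * x = ((s * x)⁻¹ * x)⁻¹ := by group
        rw [e]; exact h6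
      have h7 := hN x⁻¹ hxn
      rw [inv_inv] at h7
      have := hc3
      rw [← this]
      exact Cfsg.Agent.Lib.Helper11.map_mk_congr ϕ h7.symm hzS hc2
    have hzero : Nat.card (MulAction.fixedPoints ↥(S : Subgroup G) ↥Ω) = 0 := by
      rw [Nat.card_eq_zero]; left; exact hfix
    rw [hzero, hΩcard] at hmod
    have heven : 2 ∣ Nat.card {c : G ⧸ (S : Subgroup G) // z • c = c ∧
        ∃ h : (Quotient.out c)⁻¹ * z * Quotient.out c ∈ (S : Subgroup G), ϕ ⟨_, h⟩ = 1} :=
      (Nat.modEq_zero_iff_dvd).mp hmod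
    exact (Nat.not_even_iff_odd.mpr hodd) (even_iff_two_dvd.mpr heven)

  refine ⟨(MonoidHom.transfer ϕ).ker, inferInstance, ?_, ?_⟩
  · rw [Subgroup.index_ker]
    have hd : Nat.card ↥(MonoidHom.transfer ϕ).range ∣ 2 := by
      have := Subgroup.card_subgroup_dvd_card (MonoidHom.transfer ϕ).range
      rwa [hcard] at this
    rcases (Nat.dvd_prime Nat.prime_two).mp hd with h | h
    · exfalso
      apply hne
      have hb := Subgroup.eq_bot_of_card_eq _ h
      have hm : MonoidHom.transfer ϕ z ∈ (MonoidHom.transfer ϕ).range := ⟨z, rfl⟩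
      rw [hb, Subgroup.mem_bot] at hm
      exact hm
    · exact h
  · rw [MonoidHom.mem_ker]; exact hne

theorem two_residual_or_frattini_or_normalizer {G : Type*} [Group G] [Finite G] (S : Sylow 2 G) : Cfsg.pResidual 2 G ≠ ⊤ ∨ Cfsg.omegaOne 2 ((S : Subgroup G) ⊓ Subgroup.centralizer ((S : Subgroup G) : Set G)) ≤ (frattini ↥(S : Subgroup G)).map (S : Subgroup G).subtype ∨ ∃ g ∈ Subgroup.normalizer ((S : Subgroup G) : Set G), ∃ z ∈ Cfsg.omegaOne 2 ((S : Subgroup G) ⊓ Subgroup.centralizer ((S : Subgroup G) : Set G)), g * z * g⁻¹ ≠ z := by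
  by_contra hcon
  rw [not_or, not_or] at hcon
  obtain ⟨h1, h2, h3⟩ := hcon
  rw [not_not] at h1
  have h3' : ∀ g ∈ Subgroup.normalizer ((S : Subgroup G) : Set G), ∀ z ∈ Cfsg.omegaOne 2 ((S : Subgroup G) ⊓ Subgroup.centralizer ((S : Subgroup G) : Set G)), g * z * g⁻¹ = z := by
    intro g hg z hz
    by_contra hne
    exact h3 ⟨g, hg, z, hz, hne⟩
  obtain ⟨z, ⟨hzZ, hz2⟩, hzΦ⟩ : ∃ z, (z ∈ (S : Subgroup G) ⊓ Subgroup.centralizer ((S : Subgroup G) : Set G) ∧ z ^ 2 = 1) ∧ z ∉ (frattini ↥(S : Subgroup G)).map (S : Subgroup G).subtype := by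
    by_contra hc
    push Not at hc
    apply h2
    unfold Cfsg.omegaOne
    rw [Subgroup.closure_le]
    intro z hz
    exact hc z hz
  have hzΩ : z ∈ Cfsg.omegaOne 2 ((S : Subgroup G) ⊓ Subgroup.centralizer ((S : Subgroup G) : Set G)) :=
    Subgroup.subset_closure ⟨hzZ, hz2⟩
  obtain ⟨H, hHn, hHi, hzH⟩ := exists_index_two_of_central_involution S z hzZ hz2 hzΦ
    (fun g hg => h3' g hg z hzΩ)
  apply hzH
  have hle : Cfsg.pResidual 2 G ≤ H := by
    unfold Cfsg.pResidual
    rw [Subgroup.closure_le]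
    intro g hg
    have hg' : (orderOf g).Coprime 2 := hg
    have hodd : Odd (orderOf g) := Nat.Coprime.odd_of_right hg'
    obtain ⟨k, hk⟩ := hodd
    have h4 : g * g ∈ H := Subgroup.mul_self_mem_of_index_two hHi g
    have h5 : (g * g) ^ (k + 1) = g := by
      rw [← pow_two, ← pow_mul]
      have : 2 * (k + 1) = orderOf g + 1 := by omega
      rw [this, pow_succ, pow_orderOf_eq_one, one_mul]
    rw [SetLike.mem_coe, ← h5]
    exact H.pow_mem h4 _
  apply hle
  rw [h1]; exact Subgroup.mem_top z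

end Cfsg.Agent.Lib.Helper16
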