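import Mathlib.GroupTheory.Sylow
import Mathlib.GroupTheory.PGroup
import Mathlib.Data.ZMod.Basic
import Cfsg.Agent.Lib.Helper16.TransferInvolution
import Cfsg.Prelude.Def_Transfer

set_option autoImplicit false
open Cfsg
open scoped commutatorElement

namespace Cfsg.Agent.Lib.Helper16

theorem pow_mem_frattini {R : Type*} [Group R] [Finite R] {p : ℕ} [Fact p.Prime]
    (hR : IsPGroup p R) (x : R) : x ^ p ∈ frattini R := by
  by_contra h
  obtain ⟨R₀, hn, hx, hidx⟩ := exists_normal_index_prime_of_not_mem_frattini hR h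
  apply hx
  have := Subgroup.pow_index_mem R₀ x
  rwa [hidx] at this

/-- fibres of a nontrivial hom with values in `{1, z}`. -/
theorem two_fiber {B E' : Type*} [Group B] [Group E'] [Fintype B] [DecidableEq E'] (f : B →* E')
    (z : E') (hz : z ≠ 1) (hf : ∀ b, f b = 1 ∨ f b = z) (hnt : ∃ b, f b ≠ 1) :
    2 * (Finset.univ.filter (fun b => f b = 1)).card = Fintype.card B ∧
    2 * (Finset.univ.filter (fun b => f b = z)).card = Fintype.card B := by
  classical
  obtain ⟨b₀, hb₀⟩ := hnt
  have hb₀z : f b₀ = z := (hf b₀).resolve_left hb₀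
  have hidx : f.ker.index = 2 := by
    rw [Subgroup.index_ker, Nat.card_eq_two_iff]
    refine ⟨1, ⟨z, hb₀z ▸ ⟨b₀, rfl⟩⟩, ?_, ?_⟩
    · intro h
      apply hz
      have := congrArg Subtype.val h
      exact this.symm
    · ext ⟨w, b, rfl⟩
      simp only [Set.mem_insert_iff, Set.mem_singleton_iff, Set.mem_univ, iff_true]
      rcases hf b with h | h
      · left; exact Subtype.ext h
      · right; exact Subtype.ext h
  have hcard := Subgroup.card_mul_index f.ker
  rw [hidx, Nat.card_eq_fintype_card (α := B)] at hcard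
  have hker : Nat.card f.ker = (Finset.univ.filter (fun b => f b = 1)).card := by
    rw [Nat.card_eq_fintype_card, ← Fintype.card_subtype]
    apply Fintype.card_congr
    exact Equiv.subtypeEquivRight (fun b => MonoidHom.mem_ker)
  have hsplit := Finset.card_filter_add_card_filter_not (s := (Finset.univ : Finset B)) (fun b => f b = 1)
  have hneg : (Finset.univ.filter (fun b => ¬ f b = 1)) = (Finset.univ.filter (fun b => f b = z)) := by
    apply Finset.filter_congr
    intro b _
    constructor
    · intro h; exact (hf b).resolve_left h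
    · intro h h1; rw [h] at h1; exact hz h1
  rw [hneg, Finset.card_univ] at hsplit
  rw [hker] at hcard
  constructor <;> omega

theorem extraspecial_basic {E : Type*} [Group E] [Finite E] (hE : IsExtraspecial 2 E) :
    ∃ z : E, z ≠ 1 ∧ z ∈ Subgroup.center E ∧ z * z = 1 ∧
      (∀ w ∈ Subgroup.center E, w = 1 ∨ w = z) ∧ (∀ x y : E, ⁅x, y⁆ ∈ Subgroup.center E) ∧
      (∀ x : E, x ^ 2 ∈ Subgroup.center E) := by
  obtain ⟨⟨hp, hfr, hcm⟩, hZ⟩ := hE
  have : Fact (Nat.Prime 2) := ⟨Nat.prime_two⟩
  obtain ⟨⟨z, hzZ⟩, hz1, huniq⟩ := (Nat.card_eq_two_iff' (1 : Subgroup.center E)).mp hZ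
  have hz1' : z ≠ 1 := by
    intro h
    apply hz1
    exact Subtype.ext h
  have hall : ∀ w ∈ Subgroup.center E, w = 1 ∨ w = z := by
    intro w hw
    by_cases h : w = 1
    · left; exact h
    · right
      have := huniq ⟨w, hw⟩ (by intro h'; apply h; exact congrArg Subtype.val h')
      exact congrArg Subtype.val this
  refine ⟨z, hz1', hzZ, ?_, hall, ?_, ?_⟩
  · rcases hall (z * z) (Subgroup.mul_mem _ hzZ hzZ) with h | h
    · exact h
    · exfalso; apply hz1'
      have : z * z = z * 1 := by rw [h, mul_one]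
      exact mul_left_cancel this
  · intro x y
    rw [← hcm, commutator_def]
    exact Subgroup.commutator_mem_commutator (Subgroup.mem_top x) (Subgroup.mem_top y)
  · intro x
    rw [← hfr]
    exact pow_mem_frattini hp x

/-- the commutator map `b ↦ ⁅y, b⁆` is a hom when commutators are central. -/
theorem exists_commHom {E : Type*} [Group E] (hcomm : ∀ x y : E, ⁅x, y⁆ ∈ Subgroup.center E) (y : E) :
    ∃ f : E →* E, ∀ b, f b = ⁅y, b⁆ := by
  refine ⟨⟨⟨fun b => ⁅y, b⁆, by simp⟩, ?_⟩, fun b => rfl⟩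
  intro a b
  show ⁅y, a * b⁆ = ⁅y, a⁆ * ⁅y, b⁆
  have h1 : ⁅y, a * b⁆ = ⁅y, a⁆ * (a * ⁅y, b⁆ * a⁻¹) := by
    simp only [commutatorElement_def]; group
  have h2 := Subgroup.mem_center_iff.mp (hcomm y b) a
  rw [h1, h2, mul_inv_cancel_right]

/-- dichotomy for the commutator map on a subgroup. -/
theorem comm_dichotomy {E : Type*} [Group E] [Fintype E] [DecidableEq E] {z : E} (hz1 : z ≠ 1)
    (hZ : ∀ w ∈ Subgroup.center E, w = 1 ∨ w = z)
    (hcomm : ∀ x y : E, ⁅x, y⁆ ∈ Subgroup.center E) (B : Subgroup E) [Fintype B] (y : E) :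
    (∀ b ∈ B, ⁅y, b⁆ = 1) ∨
      (2 * (Finset.univ.filter (fun b : B => ⁅y, (b : E)⁆ = 1)).card = Fintype.card B ∧
        2 * (Finset.univ.filter (fun b : B => ⁅y, (b : E)⁆ = z)).card = Fintype.card B) := by
  obtain ⟨f, hf⟩ := exists_commHom hcomm y
  by_cases h : ∀ b ∈ B, ⁅y, b⁆ = 1
  · left; exact h
  · right
    push Not at h
    obtain ⟨b₀, hb₀B, hb₀⟩ := h
    have := two_fiber (f.comp B.subtype) z hz1
      (fun b => by
        simp only [MonoidHom.coe_comp, Function.comp_apply, Subgroup.coe_subtype, hf]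
        exact hZ _ (hcomm y b))
      ⟨⟨b₀, hb₀B⟩, by simpa [hf] using hb₀⟩
    simpa [hf] using this

theorem comm_dichotomy_top {E : Type*} [Group E] [Fintype E] [DecidableEq E] {z : E} (hz1 : z ≠ 1)
    (hZ : ∀ w ∈ Subgroup.center E, w = 1 ∨ w = z)
    (hcomm : ∀ x y : E, ⁅x, y⁆ ∈ Subgroup.center E) (y : E) :
    (∀ b : E, ⁅y, b⁆ = 1) ∨
      2 * (Finset.univ.filter (fun b : E => ⁅y, b⁆ = 1)).card = Fintype.card E := by
  obtain ⟨f, hf⟩ := exists_commHom hcomm y
  by_cases h : ∀ b : E, ⁅y, b⁆ = 1
  · left; exact h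
  · right
    push Not at h
    obtain ⟨b₀, hb₀⟩ := h
    have := (two_fiber f z hz1
      (fun b => by
        rw [hf]
        exact hZ _ (hcomm y b))
      ⟨b₀, by simpa [hf] using hb₀⟩).1
    simpa [hf] using this

/-- self-centralizing: an abelian subgroup of order `2^(m+1)` in a group of order `2^(2m+1)` with
centre `{1,z}` and central commutators. -/
theorem self_centralizing {E : Type*} [Group E] [Fintype E] [DecidableEq E] {z : E} (hz1 : z ≠ 1)
    (hZ : ∀ w ∈ Subgroup.center E, w = 1 ∨ w = z)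
    (hcomm : ∀ x y : E, ⁅x, y⁆ ∈ Subgroup.center E) (m : ℕ)
    (hcard : Fintype.card E = 2 ^ (2 * m + 1)) (A : Subgroup E) [Fintype A]
    (hAcomm : ∀ a ∈ A, ∀ b ∈ A, ⁅a, b⁆ = 1) (hAc : Fintype.card A = 2 ^ (m + 1)) (x : E)
    (hx : ∀ a ∈ A, ⁅x, a⁆ = 1) : x ∈ A := by
  classical
  set F : E → A → ℕ := fun x a => if ⁅x, (a : E)⁆ = 1 then 1 else 0 with hF
  -- first count
  have hS1 : ∀ a : A, 2 * ∑ x, F x a ≤ Fintype.card E + (if (a : E) ∈ Subgroup.center E then Fintype.card E else 0) := by
    intro a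
    have hsum : ∑ x, F x a = (Finset.univ.filter (fun x : E => ⁅x, (a : E)⁆ = 1)).card := by
      rw [hF]; simp only [Finset.sum_boole, Nat.cast_id]
    rw [hsum]
    by_cases ha : (a : E) ∈ Subgroup.center E
    · rw [if_pos ha]
      have := Finset.card_filter_le (Finset.univ : Finset E) (fun x : E => ⁅x, (a : E)⁆ = 1)
      rw [Finset.card_univ] at this
      omega
    · rw [if_neg ha, add_zero]
      rcases comm_dichotomy_top hz1 hZ hcomm (a : E) with h | h
      · exfalso
        apply ha
        rw [Subgroup.mem_center_iff]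
        intro g
        have := h g
        rw [commutatorElement_eq_one_iff_mul_comm] at this
        exact this.symm
      · have hfc : (Finset.univ.filter (fun x : E => ⁅x, (a : E)⁆ = 1)) = (Finset.univ.filter (fun b : E => ⁅(a : E), b⁆ = 1)) := by
          apply Finset.filter_congr
          intro b _
          rw [commutatorElement_eq_one_iff_mul_comm, commutatorElement_eq_one_iff_mul_comm]
          exact eq_comm
        rw [hfc, h]
  have hZA : (Finset.univ.filter (fun a : A => (a : E) ∈ Subgroup.center E)).card ≤ 2 := by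
    have h1 : (Finset.univ.filter (fun a : A => (a : E) ∈ Subgroup.center E)).card ≤ ({1, z} : Finset E).card := by
      apply Finset.card_le_card_of_injOn (fun a : A => (a : E))
      · intro a ha
        have ha' : (a : E) ∈ Subgroup.center E := by simpa using ha
        rcases hZ _ ha' with h | h
        · simp [h]
        · simp [h]
      · intro a _ b _ h
        exact Subtype.ext h
    exact h1.trans Finset.card_le_two
  have hT1 : 2 * ∑ a, ∑ x, F x a ≤ Fintype.card A * Fintype.card E + 2 * Fintype.card E := by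
    rw [Finset.mul_sum]
    calc ∑ a, 2 * ∑ x, F x a ≤ ∑ a : A, (Fintype.card E + (if (a : E) ∈ Subgroup.center E then Fintype.card E else 0)) :=
          Finset.sum_le_sum (fun a _ => hS1 a)
      _ = Fintype.card A * Fintype.card E + (Finset.univ.filter (fun a : A => (a : E) ∈ Subgroup.center E)).card * Fintype.card E := by
          rw [Finset.sum_add_distrib, Finset.sum_const, Finset.card_univ, smul_eq_mul, ← Finset.sum_filter, Finset.sum_const, smul_eq_mul]
      _ ≤ _ := by
          apply Nat.add_le_add_left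
          exact Nat.mul_le_mul_right _ hZA
  -- second count
  have hS2 : ∀ x : E, 2 * ∑ a, F x a = Fintype.card A + (if ∀ a ∈ A, ⁅x, a⁆ = 1 then Fintype.card A else 0) := by
    intro x
    have hsum : ∑ a, F x a = (Finset.univ.filter (fun a : A => ⁅x, (a : E)⁆ = 1)).card := by
      rw [hF]; simp only [Finset.sum_boole, Nat.cast_id]
    rw [hsum]
    by_cases hxA : ∀ a ∈ A, ⁅x, a⁆ = 1
    · rw [if_pos hxA]
      have : (Finset.univ.filter (fun a : A => ⁅x, (a : E)⁆ = 1)) = Finset.univ := by
        apply Finset.filter_true_of_mem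
        intro a _
        exact hxA a a.2
      rw [this, Finset.card_univ]; ring
    · rw [if_neg hxA, add_zero]
      rcases comm_dichotomy hz1 hZ hcomm A x with h | h
      · exact absurd h hxA
      · exact h.1
  have hT2 : 2 * ∑ x, ∑ a, F x a = Fintype.card E * Fintype.card A + (Finset.univ.filter (fun x : E => ∀ a ∈ A, ⁅x, a⁆ = 1)).card * Fintype.card A := by
    rw [Finset.mul_sum]
    calc ∑ x, 2 * ∑ a, F x a = ∑ x : E, (Fintype.card A + (if ∀ a ∈ A, ⁅x, a⁆ = 1 then Fintype.card A else 0)) :=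
          Finset.sum_congr rfl (fun x _ => hS2 x)
      _ = _ := by
          rw [Finset.sum_add_distrib, Finset.sum_const, Finset.card_univ, smul_eq_mul, ← Finset.sum_filter, Finset.sum_const, smul_eq_mul]
  have hcomm' : ∑ x, ∑ a, F x a = ∑ a, ∑ x, F x a := Finset.sum_comm
  set c := (Finset.univ.filter (fun x : E => ∀ a ∈ A, ⁅x, a⁆ = 1)).card with hc
  have hcle : c ≤ 2 ^ (m + 1) := by
    have h1 : c * Fintype.card A ≤ 2 * Fintype.card E := by
      have := hT1
      rw [← hcomm', hT2] at this
      have h2 : Fintype.card A * Fintype.card E = Fintype.card E * Fintype.card A := Nat.mul_comm _ _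
      omega
    rw [hAc, hcard] at h1
    have h3 : 2 * 2 ^ (2 * m + 1) = 2 ^ (m + 1) * 2 ^ (m + 1) := by
      rw [← pow_add, ← pow_succ']
      congr 1; omega
    rw [h3] at h1
    exact Nat.le_of_mul_le_mul_right h1 (by positivity)
  -- conclude
  have hsub : (Finset.univ.filter (fun x : E => x ∈ A)) ⊆ (Finset.univ.filter (fun x : E => ∀ a ∈ A, ⁅x, a⁆ = 1)) := by
    intro y hy
    simp only [Finset.mem_filter, Finset.mem_univ, true_and] at hy ⊢
    intro a ha
    exact hAcomm y hy a ha
  have hAF : (Finset.univ.filter (fun x : E => x ∈ A)).card = 2 ^ (m + 1) := by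
    rw [← hAc, ← Fintype.card_subtype]
  have heq := Finset.eq_of_subset_of_card_le hsub (by rw [hAF]; exact hcle)
  have : x ∈ (Finset.univ.filter (fun x : E => ∀ a ∈ A, ⁅x, a⁆ = 1)) := by
    simp only [Finset.mem_filter, Finset.mem_univ, true_and]
    exact hx
  rw [← heq] at this
  simpa using this

theorem extraspecial_order_four_iff {E : Type*} [Group E] {z : E} (hz1 : z ≠ 1) (hzz : z * z = 1)
    (hZ : ∀ w ∈ Subgroup.center E, w = 1 ∨ w = z) (hsq : ∀ x : E, x ^ 2 ∈ Subgroup.center E)
    (x : E) : orderOf x = 4 ↔ x ^ 2 = z := by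
  constructor
  · intro h
    rcases hZ _ (hsq x) with h1 | h1
    · exfalso
      have := orderOf_dvd_of_pow_eq_one h1
      rw [h] at this
      omega
    · exact h1
  · intro h
    have h4 : x ^ 2 ^ (1 + 1) = 1 := by
      have : x ^ 2 ^ (1 + 1) = x ^ 2 * x ^ 2 := by
        rw [← pow_add]; norm_num
      rw [this, h, hzz]
    have h2 : ¬ x ^ 2 ^ 1 = 1 := by
      rw [pow_one, h]; exact hz1
    have := orderOf_eq_prime_pow h2 h4
    rw [this]; norm_num

theorem extraspecial_plus_count {E : Type*} [Group E] [Finite E] (m : ℕ) (hE : IsExtraspecial 2 E)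
    (hcard : Nat.card E = 2 ^ (2 * m + 1)) (A : Subgroup E) (hA : IsElementaryAbelian 2 A)
    (hAc : Nat.card A = 2 ^ (m + 1)) :
    Nat.card {x : E // orderOf x = 4} = 2 ^ (2 * m) - 2 ^ m := by
  classical
  have : Fintype E := Fintype.ofFinite E
  obtain ⟨z, hz1, hzZ, hzz, hZ, hcomm, hsq⟩ := extraspecial_basic hE
  obtain ⟨hAcomm, hAexp⟩ := hA
  have hAcomm' : ∀ a ∈ A, ∀ b ∈ A, ⁅a, b⁆ = 1 := by
    intro a ha b hb
    rw [commutatorElement_eq_one_iff_mul_comm]
    have := hAcomm.is_comm.comm ⟨a, ha⟩ ⟨b, hb⟩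
    exact congrArg Subtype.val this
  rw [Nat.card_eq_fintype_card] at hcard hAc
  have hself := self_centralizing hz1 hZ hcomm m hcard A hAcomm' hAc
  have hord := extraspecial_order_four_iff hz1 hzz hZ hsq
  set N := (Finset.univ.filter (fun x : E => x ^ 2 = z)).card with hN
  have hNcard : Nat.card {x : E // orderOf x = 4} = N := by
    rw [Nat.card_eq_fintype_card, Fintype.card_subtype, hN]
    congr 1
    apply Finset.filter_congr
    intro x _; exact hord x
  rw [hNcard]
  set G : E → A → ℕ := fun x a => if (x * (a : E)) ^ 2 = z then 1 else 0 with hG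
  have hT1 : ∀ a : A, ∑ x, G x a = N := by
    intro a
    rw [hG]
    simp only
    have h := Equiv.sum_comp (Equiv.mulRight (a : E)) (fun x => if x ^ 2 = z then (1 : ℕ) else 0)
    simp only [Equiv.coe_mulRight] at h
    refine h.trans ?_
    simp only [Finset.sum_boole, Nat.cast_id, hN]
  have hT2 : ∀ x : E, 2 * ∑ a, G x a = if x ∈ A then 0 else Fintype.card A := by
    intro x
    by_cases hxA : x ∈ A
    · rw [if_pos hxA]
      have : ∑ a, G x a = 0 := by
        apply Finset.sum_eq_zero
        intro a _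
        rw [hG]; simp only
        rw [if_neg]
        have h1 := hAexp (x * a) (A.mul_mem hxA a.2)
        rw [h1]; exact fun h => hz1 h.symm
      rw [this]
    · rw [if_neg hxA]
      have hnc : ¬ ∀ a ∈ A, ⁅x⁻¹, a⁆ = 1 := by
        intro h
        apply hxA
        apply hself
        intro a ha
        have := h a ha
        rw [commutatorElement_eq_one_iff_mul_comm] at this ⊢
        calc x * a = x * (a * x⁻¹) * x := by group
          _ = x * (x⁻¹ * a) * x := by rw [this]
          _ = a * x := by group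
      have hkey : ∀ a : A, (x * (a : E)) ^ 2 = x ^ 2 * ⁅x⁻¹, (a : E)⁆ := by
        intro a
        have ha2 : (a : E)⁻¹ = a := by
          have := hAexp a a.2
          rw [pow_two] at this
          exact inv_eq_of_mul_eq_one_left this
        rw [commutatorElement_def, ha2, inv_inv, pow_two, pow_two]; group
      rcases comm_dichotomy hz1 hZ hcomm A x⁻¹ with h | h
      · exact absurd h hnc
      · have hsum : ∑ a, G x a = (Finset.univ.filter (fun a : A => (x * (a : E)) ^ 2 = z)).card := by
          rw [hG]; simp only [Finset.sum_boole, Nat.cast_id]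
        rw [hsum]
        rcases hZ _ (hsq x) with hx2 | hx2
        · have : (Finset.univ.filter (fun a : A => (x * (a : E)) ^ 2 = z)) = (Finset.univ.filter (fun a : A => ⁅x⁻¹, (a : E)⁆ = z)) := by
            apply Finset.filter_congr
            intro a _
            rw [hkey a, hx2, one_mul]
          rw [this]; exact h.2
        · have : (Finset.univ.filter (fun a : A => (x * (a : E)) ^ 2 = z)) = (Finset.univ.filter (fun a : A => ⁅x⁻¹, (a : E)⁆ = 1)) := by
            apply Finset.filter_congr
            intro a _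
            rw [hkey a, hx2]
            exact mul_eq_left
          rw [this]; exact h.1
  -- combine
  have hcomm' : ∑ x, ∑ a, G x a = ∑ a, ∑ x, G x a := Finset.sum_comm
  have hL : ∑ a : A, ∑ x, G x a = Fintype.card A * N := by
    rw [Finset.sum_congr rfl (fun a _ => hT1 a), Finset.sum_const, Finset.card_univ, smul_eq_mul]
  have hAF : (Finset.univ.filter (fun x : E => x ∈ A)).card = Fintype.card A := by
    rw [← Fintype.card_subtype]
  have hR : 2 * ∑ x, ∑ a, G x a = (Fintype.card E - Fintype.card A) * Fintype.card A := by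
    rw [Finset.mul_sum, Finset.sum_congr rfl (fun x _ => hT2 x), Finset.sum_ite, Finset.sum_const, Finset.sum_const, smul_eq_mul, smul_eq_mul, mul_zero, zero_add]
    congr 1
    have := Finset.card_filter_add_card_filter_not (s := (Finset.univ : Finset E)) (fun x => x ∈ A)
    rw [hAF, Finset.card_univ] at this
    omega
  rw [hcomm', hL, hAc, hcard] at hR
  have h1 : 2 ^ (2 * m + 1) = 2 * 2 ^ (2 * m) := by rw [pow_succ']
  have h2 : 2 ^ (m + 1) = 2 * 2 ^ m := by rw [pow_succ']
  have h3 : 2 * N = 2 ^ (2 * m + 1) - 2 ^ (m + 1) := by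
    have h4 : (2 * N) * 2 ^ (m + 1) = (2 ^ (2 * m + 1) - 2 ^ (m + 1)) * 2 ^ (m + 1) := by
      rw [← hR]; ring
    exact Nat.eq_of_mul_eq_mul_right (by positivity) h4
  omega

theorem four_dvd_of_five_dvd (m : ℕ) (h5 : 5 ∣ 2 ^ (2 * m) - 2 ^ m) : 4 ∣ m := by
  have h20 : (2 : ZMod 5) ≠ 0 := by decide
  have ha : ¬ (2 : ZMod 5) ^ 2 ^ 1 = 1 := by decide
  have hb : (2 : ZMod 5) ^ 2 ^ (1 + 1) = 1 := by decide
  have : Fact (Nat.Prime 5) := ⟨by norm_num⟩
  have hle : 2 ^ m ≤ 2 ^ (2 * m) := Nat.pow_le_pow_right (by norm_num) (by omega)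
  have h0 : ((2 ^ (2 * m) - 2 ^ m : ℕ) : ZMod 5) = 0 := (ZMod.natCast_eq_zero_iff _ 5).mpr h5
  rw [Nat.cast_sub hle] at h0
  push_cast at h0
  have hu : (2 : ZMod 5) ^ m = 1 := by
    have h1 : (2 : ZMod 5) ^ m * ((2 : ZMod 5) ^ m - 1) = 0 := by
      rw [mul_sub, mul_one, ← pow_add, ← two_mul]; exact h0
    rcases mul_eq_zero.mp h1 with h | h
    · exfalso
      exact h20 (eq_zero_of_pow_eq_zero h)
    · exact sub_eq_zero.mp h
  have hord : orderOf (2 : ZMod 5) = 2 ^ (1 + 1) := orderOf_eq_prime_pow ha hb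
  have := orderOf_dvd_of_pow_eq_one hu
  rw [hord] at this
  exact this

theorem extraspecial_order_five_aut {E : Type*} [Group E] [Finite E] (m : ℕ)
    (hE : Cfsg.IsExtraspecial 2 E) (hcard : Nat.card E = 2 ^ (2 * m + 1))
    (A : Subgroup E) (hA : Cfsg.IsElementaryAbelian 2 A) (hAc : Nat.card A = 2 ^ (m + 1))
    (ω : E ≃* E) (hω : orderOf ω = 5) (hfix : ∀ x : E, ω x = x → x ∈ Subgroup.center E) :
    4 ∣ m := by
  classical
  apply four_dvd_of_five_dvd
  rw [← extraspecial_plus_count m hE hcard A hA hAc]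
  have : Fact (Nat.Prime 5) := ⟨by norm_num⟩
  set H : Subgroup (MulAut E) := Subgroup.zpowers (ω : MulAut E) with hH
  have hHp : IsPGroup 5 H := by
    apply IsPGroup.of_card (n := 1)
    rw [pow_one, hH, Nat.card_zpowers]
    exact hω
  letI : MulAction H {x : E // orderOf x = 4} :=
    { smul := fun h x => ⟨(h : MulAut E) x.1, by rw [MulEquiv.orderOf_eq]; exact x.2⟩
      one_smul := fun x => Subtype.ext rfl
      mul_smul := fun g h x => Subtype.ext rfl }
  have hmod := hHp.card_modEq_card_fixedPoints {x : E // orderOf x = 4}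
  have hempty : IsEmpty (MulAction.fixedPoints H {x : E // orderOf x = 4}) := by
    constructor
    rintro ⟨x, hx⟩
    rw [MulAction.mem_fixedPoints] at hx
    have h1 := hx ⟨ω, Subgroup.mem_zpowers _⟩
    have h2 : ω x.1 = x.1 := congrArg Subtype.val h1
    have h3 := hfix _ h2
    obtain ⟨z, hz1, hzZ, hzz, hZ, hcomm, hsq⟩ := extraspecial_basic hE
    have h4 := x.2
    rcases hZ _ h3 with h | h
    · rw [h, orderOf_one] at h4; omega
    · have : orderOf x.1 ∣ 2 := by
        apply orderOf_dvd_of_pow_eq_one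
        rw [h, pow_two, hzz]
      rw [h4] at this
      omega
  have h0 : Nat.card (MulAction.fixedPoints H {x : E // orderOf x = 4}) = 0 := Nat.card_of_isEmpty
  rw [h0] at hmod
  exact (Nat.modEq_zero_iff_dvd.mp hmod)

end Cfsg.Agent.Lib.Helper16
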