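import Cfsg.Prelude.Def_Local
import Cfsg.Prelude.Def_PLocal

set_option autoImplicit false
open Cfsg

namespace Cfsg.Agent.Lib.Helper16

variable {G : Type*} [Group G] {p : ℕ}

theorem pCore_isPGroup [Fact p.Prime] : IsPGroup p (pCore p G) :=
  Sylow.sSup_of_normal _ (fun _ h => h.2) (fun _ h => h.1)

theorem le_pCore {N : Subgroup G} (hN : N.Normal) (hp : IsPGroup p N) : N ≤ pCore p G :=
  le_sSup ⟨hN, hp⟩

theorem pCore_le_sylow [Fact p.Prime] (P : Sylow p G) : pCore p G ≤ P :=
  (pCore_isPGroup (G := G) (p := p)).le_sylow_of_normal P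

theorem pCore_map_equiv [Fact p.Prime] {G' : Type*} [Group G'] (e : G ≃* G') :
    (pCore p G).map e.toMonoidHom = pCore p G' := by
  have key1 : (pCore p G).map e.toMonoidHom ≤ pCore p G' := by
    apply le_pCore
    · exact Subgroup.Normal.map inferInstance _ e.surjective
    · exact (pCore_isPGroup (G := G) (p := p)).map _
  have h2 : (pCore p G').map e.symm.toMonoidHom ≤ pCore p G := by
    apply le_pCore
    · exact Subgroup.Normal.map inferInstance _ e.symm.surjective
    · exact (pCore_isPGroup (G := G') (p := p)).map _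
  apply le_antisymm key1
  intro x hx
  refine ⟨e.symm x, h2 ⟨x, hx, rfl⟩, by simp⟩

instance pCore_characteristic [Fact p.Prime] : (pCore p G).Characteristic :=
  Subgroup.characteristic_iff_map_eq.mpr (fun ϕ => pCore_map_equiv ϕ)

/-- `O_p(N) ≤ O_p(G)` for `N` normal in `G`. -/
theorem pCoreOf_le_pCore_of_normal [Fact p.Prime] (N : Subgroup G) [N.Normal] :
    (pCore p N).map N.subtype ≤ pCore p G := by
  apply le_pCore
  · infer_instance
  · exact (pCore_isPGroup (G := N) (p := p)).map _

/-- `O_p(G) ∩ N ≤ O_p(N)` for `N` normal in `G` (in fact for any `N`). -/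
theorem pCore_inf_le_pCoreOf [Fact p.Prime] (N : Subgroup G) :
    pCore p G ⊓ N ≤ (pCore p N).map N.subtype := by
  intro x hx
  have h1 : ((pCore p G).subgroupOf N) ≤ pCore p N := by
    apply le_pCore
    · infer_instance
    · exact (pCore_isPGroup (G := G) (p := p)).comap_subtype
  exact ⟨⟨x, hx.2⟩, h1 (by simpa [Subgroup.mem_subgroupOf] using hx.1), rfl⟩

theorem pCoreOf_eq_of_normal [Fact p.Prime] (N : Subgroup G) [N.Normal] :
    (pCore p N).map N.subtype = pCore p G ⊓ N := by
  apply le_antisymm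
  · apply le_inf (pCoreOf_le_pCore_of_normal N)
    exact Subgroup.map_subtype_le _
  · exact pCore_inf_le_pCoreOf N

/-- Key coprime step: if `c` has order prime to `p`, `z = c x c⁻¹ x⁻¹` commutes with `c` and has
`p`-power order, then `z = 1`. -/
theorem coprime_step [Fact p.Prime] (c x : G) (hc : (orderOf c).Coprime p)
    (hcomm : c * (c * x * c⁻¹ * x⁻¹) = (c * x * c⁻¹ * x⁻¹) * c)
    (hz : ∃ k : ℕ, (c * x * c⁻¹ * x⁻¹) ^ (p ^ k) = 1) : c * x * c⁻¹ * x⁻¹ = 1 := by
  set z := c * x * c⁻¹ * x⁻¹ with hzdef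
  have hcz : Commute c z := hcomm
  -- c^n x c^-n = z^n x
  have key : ∀ n : ℕ, c ^ n * x * (c ^ n)⁻¹ = z ^ n * x := by
    intro n
    induction n with
    | zero => simp
    | succ n ih =>
      have h1 : c ^ (n + 1) * x * (c ^ (n + 1))⁻¹ = c * (c ^ n * x * (c ^ n)⁻¹) * c⁻¹ := by
        rw [pow_succ']; simp [mul_assoc]
      rw [h1, ih]
      have h2 : c * (z ^ n * x) * c⁻¹ = (c * z ^ n * c⁻¹) * (c * x * c⁻¹) := by simp [mul_assoc]
      rw [h2]
      have h3 : c * z ^ n * c⁻¹ = z ^ n := by
        have := (hcz.pow_right n).eq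
        rw [this]; simp
      rw [h3]
      have h4 : c * x * c⁻¹ = z * x := by rw [hzdef]; simp [mul_assoc]
      rw [h4, pow_succ]; simp [mul_assoc]
  have h5 := key (orderOf c)
  rw [pow_orderOf_eq_one] at h5
  simp at h5
  -- z ^ orderOf c = 1
  obtain ⟨k, hk⟩ := hz
  have h6 : orderOf z ∣ orderOf c := orderOf_dvd_of_pow_eq_one h5
  have h7 : orderOf z ∣ p ^ k := orderOf_dvd_of_pow_eq_one hk
  have h8 : orderOf z ∣ Nat.gcd (orderOf c) (p ^ k) := Nat.dvd_gcd h6 h7
  have h9 : Nat.gcd (orderOf c) (p ^ k) = 1 := Nat.Coprime.pow_right k hc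
  rw [h9] at h8
  have := Nat.dvd_one.mp h8
  exact orderOf_eq_one_iff.mp this

/-- A subgroup of a torsion group all of whose `p'`-elements are trivial is a `p`-group. -/
theorem isPGroup_of_coprime_trivial [Fact p.Prime] [Finite G] (H : Subgroup G)
    (h : ∀ x ∈ H, (orderOf x).Coprime p → x = 1) : IsPGroup p H := by
  intro ⟨x, hx⟩
  have hpos : 0 < orderOf x := orderOf_pos x
  obtain ⟨a, m, hm, hxm⟩ := Nat.exists_eq_pow_mul_and_not_dvd hpos.ne' p (Fact.out : p.Prime).ne_one
  refine ⟨a, ?_⟩
  have hcop : (orderOf (x ^ (p ^ a))).Coprime p := by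
    have : orderOf (x ^ (p ^ a)) = m := by
      rw [orderOf_pow' x (pow_ne_zero a (Fact.out : p.Prime).ne_zero), hxm, Nat.gcd_eq_right (dvd_mul_right _ _)]
      exact Nat.mul_div_cancel_left m (pow_pos (Fact.out : p.Prime).pos a)
    rw [this]
    exact ((Fact.out : p.Prime).coprime_iff_not_dvd.mpr hm).symm
  have := h (x ^ (p ^ a)) (H.pow_mem hx _) hcop
  exact Subtype.ext (by simpa using this)


/-- An element of a `p`-group of order prime to `p` is trivial. -/
theorem eq_one_of_mem_pgroup_of_coprime [Fact p.Prime] {P : Subgroup G} (hP : IsPGroup p P)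
    {x : G} (hx : x ∈ P) (hc : (orderOf x).Coprime p) : x = 1 := by
  obtain ⟨k, hk⟩ := hP ⟨x, hx⟩
  have hk' : x ^ (p ^ k) = 1 := by simpa using congrArg Subtype.val hk
  have h7 : orderOf x ∣ p ^ k := orderOf_dvd_of_pow_eq_one hk'
  have h8 : orderOf x ∣ Nat.gcd (orderOf x) (p ^ k) := Nat.dvd_gcd dvd_rfl h7
  rw [Nat.Coprime.pow_right k hc] at h8
  exact orderOf_eq_one_iff.mp (Nat.dvd_one.mp h8)

/-- Characteristic `p` (`C_G(O_p(G)) ≤ O_p(G)`) passes to normal subgroups (finite case). -/
theorem charP_of_normal [Fact p.Prime] [Finite G]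
    (hG : Subgroup.centralizer (pCore p G : Set G) ≤ pCore p G) (N : Subgroup G) [N.Normal] :
    Subgroup.centralizer (pCore p N : Set N) ≤ pCore p N := by
  apply le_pCore inferInstance
  apply isPGroup_of_coprime_trivial
  intro c hc hcop
  -- view c in G
  have hcop' : (orderOf (c : G)).Coprime p := by
    rwa [Subgroup.orderOf_coe]
  have hcent : (c : G) ∈ Subgroup.centralizer (pCore p G : Set G) := by
    rw [Subgroup.mem_centralizer_iff]
    intro x hx
    have hz1 : (c : G) * x * (c : G)⁻¹ * x⁻¹ ∈ pCore p G := by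
      apply Subgroup.mul_mem _ _ (Subgroup.inv_mem _ hx)
      exact (inferInstance : (pCore p G).Normal).conj_mem x hx c
    have hz2 : (c : G) * x * (c : G)⁻¹ * x⁻¹ ∈ N := by
      have : (c : G) * x * (c : G)⁻¹ * x⁻¹ = (c : G) * (x * (c : G)⁻¹ * x⁻¹) := by group
      rw [this]
      apply Subgroup.mul_mem _ c.2
      exact (inferInstance : N.Normal).conj_mem _ (N.inv_mem c.2) x
    have hz3 : (c : G) * x * (c : G)⁻¹ * x⁻¹ ∈ (pCore p N).map N.subtype :=
      pCore_inf_le_pCoreOf N ⟨hz1, hz2⟩
    obtain ⟨z, hz, hzeq⟩ := hz3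
    have hcz : c * z = z * c := ((Subgroup.mem_centralizer_iff.mp hc) z hz).symm
    have hcz' : (c : G) * ((c : G) * x * (c : G)⁻¹ * x⁻¹) = ((c : G) * x * (c : G)⁻¹ * x⁻¹) * (c : G) := by
      rw [← hzeq]
      have := congrArg Subtype.val hcz
      simpa using this
    have hzp : ∃ k : ℕ, ((c : G) * x * (c : G)⁻¹ * x⁻¹) ^ (p ^ k) = 1 := by
      obtain ⟨k, hk⟩ := (pCore_isPGroup (G := G) (p := p)) ⟨_, hz1⟩
      exact ⟨k, by simpa using congrArg Subtype.val hk⟩
    have := coprime_step (p := p) (c : G) x hcop' hcz' hzp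
    -- c x c⁻¹ x⁻¹ = 1 → x c = c x
    have h2 : (c : G) * x = x * (c : G) := by
      have h3 : (c : G) * x * (c : G)⁻¹ * x⁻¹ * (x * (c : G)) = x * (c : G) := by rw [this, one_mul]
      rw [← h3]; group
    exact h2.symm
  have hmem := hG hcent
  have := eq_one_of_mem_pgroup_of_coprime (pCore_isPGroup (G := G) (p := p)) hmem hcop'
  exact Subtype.ext (by simpa using this)

/-- Characteristic `p` transports along isomorphisms. -/
theorem charP_of_equiv [Fact p.Prime] {G' : Type*} [Group G'] (e : G ≃* G')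
    (hG : Subgroup.centralizer (pCore p G : Set G) ≤ pCore p G) :
    Subgroup.centralizer (pCore p G' : Set G') ≤ pCore p G' := by
  intro x hx
  have h1 : e.symm x ∈ Subgroup.centralizer (pCore p G : Set G) := by
    rw [Subgroup.mem_centralizer_iff]
    intro y hy
    have hy' : e y ∈ pCore p G' := by
      rw [← pCore_map_equiv e]; exact ⟨y, hy, rfl⟩
    have := (Subgroup.mem_centralizer_iff.mp hx) (e y) hy'
    apply e.injective
    simpa using this
  have h2 := hG h1
  rw [← pCore_map_equiv e]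
  exact ⟨e.symm x, h2, by simp⟩

/-- Characteristic `p` passes to subnormal subgroups (finite case). -/
theorem charP_of_subnormal [Fact p.Prime] [Finite G]
    (hG : Subgroup.centralizer (pCore p G : Set G) ≤ pCore p G) (Y : Subgroup G)
    (hY : Y.IsSubnormal) :
    Subgroup.centralizer (pCore p Y : Set Y) ≤ pCore p Y := by
  induction hY with
  | top => exact charP_of_equiv (Subgroup.topEquiv (G := G)).symm hG
  | step H K h_le hSubn hN ih =>
    have := hN
    have h1 := charP_of_normal (p := p) ih (H.subgroupOf K)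
    exact charP_of_equiv (Subgroup.subgroupOfEquivOfLe h_le) h1

instance pResidual_normal : (pResidual p G).Normal := by
  unfold pResidual
  have : Subgroup.closure {g : G | Nat.Coprime (orderOf g) p} =
      Subgroup.normalClosure {g : G | Nat.Coprime (orderOf g) p} := by
    apply le_antisymm
    · exact Subgroup.closure_le_normalClosure
    · unfold Subgroup.normalClosure
      apply Subgroup.closure_mono
      intro x hx
      rw [Group.mem_conjugatesOfSet_iff] at hx
      obtain ⟨a, ha, hconj⟩ := hx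
      obtain ⟨c, rfl⟩ := isConj_iff.mp hconj
      show Nat.Coprime (orderOf (c * a * c⁻¹)) p
      have : orderOf (c * a * c⁻¹) = orderOf a := (MulAut.conj c).orderOf_eq a
      rw [this]
      exact ha
  rw [this]
  infer_instance

theorem mem_pResidual_of_coprime {x : G} (hx : (orderOf x).Coprime p) : x ∈ pResidual p G :=
  Subgroup.subset_closure hx

/-- If `O^p(H)` has characteristic `p` then so has `H` (finite case). -/
theorem charP_of_pResidual [Fact p.Prime] [Finite G]
    (hR : Subgroup.centralizer (pCore p (pResidual p G) : Set (pResidual p G)) ≤ pCore p (pResidual p G)) :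
    Subgroup.centralizer (pCore p G : Set G) ≤ pCore p G := by
  apply le_pCore inferInstance
  apply isPGroup_of_coprime_trivial
  intro c hc hcop
  have hcR : c ∈ pResidual p G := mem_pResidual_of_coprime hcop
  have h1 : (⟨c, hcR⟩ : pResidual p G) ∈ Subgroup.centralizer (pCore p (pResidual p G) : Set (pResidual p G)) := by
    rw [Subgroup.mem_centralizer_iff]
    intro y hy
    have hy' : (y : G) ∈ pCore p G := pCoreOf_le_pCore_of_normal (pResidual p G) ⟨y, hy, rfl⟩
    have := (Subgroup.mem_centralizer_iff.mp hc) (y : G) hy'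
    exact Subtype.ext (by simpa using this)
  have h2 := hR h1
  have hcop' : (orderOf (⟨c, hcR⟩ : pResidual p G)).Coprime p := by
    rw [← Subgroup.orderOf_coe]; exact hcop
  have := eq_one_of_mem_pgroup_of_coprime (pCore_isPGroup (G := pResidual p G) (p := p)) h2 hcop'
  simpa using congrArg Subtype.val this

/-- From `c x c⁻¹ x⁻¹ = 1` deduce that `c` and `x` commute. -/
theorem commute_of_comm_eq_one {c x : G} (h : c * x * c⁻¹ * x⁻¹ = 1) : c * x = x * c := by
  have h3 : c * x * c⁻¹ * x⁻¹ * (x * c) = x * c := by rw [h, one_mul]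
  rw [← h3]; group

theorem iterCommutator_succ' (N L : Subgroup G) (n : ℕ) :
    iterCommutator N L (n + 1) = iterCommutator ⁅N, L⁆ L n := by
  induction n with
  | zero => rfl
  | succ n ih =>
    show ⁅iterCommutator N L (n + 1), L⁆ = ⁅iterCommutator ⁅N, L⁆ L n, L⁆
    rw [ih]

end Cfsg.Agent.Lib.Helper16
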