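import Cfsg.Agent.Lib.Helper16.Frattini
import Cfsg.Agent.Lib.Helper16.PCore
import Cfsg.Prelude.Def_Transfer
import Cfsg.Prelude.Def_LocalEven

set_option autoImplicit false
open Cfsg
open scoped commutatorElement

namespace Cfsg.Agent.Lib.Helper16

variable {G : Type*} [Group G] {p : ℕ}

theorem conj_mem_map_of_characteristic {T : Subgroup G} (K : Subgroup ↥T) [hK : K.Characteristic]
    {x : G} (hx : x ∈ Subgroup.normalizer (T : Set G)) {c : G} (hc : c ∈ K.map T.subtype) :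
    x * c * x⁻¹ ∈ K.map T.subtype := by
  obtain ⟨k, hk, rfl⟩ := hc
  have h1 := (Subgroup.characteristic_iff_le_comap.mp hK) (T.normalizerMonoidHom ⟨x, hx⟩)
  have h3 := h1 hk
  rw [Subgroup.mem_comap] at h3
  exact ⟨_, h3, by simp⟩

theorem commutator_mem_of_mem_frattini [Finite G] [Fact p.Prime] {P : Subgroup G} {y : G}
    (hy : y ∈ Subgroup.normalizer (P : Set G))
    (hpow : ∀ x ∈ P, (x * y * x⁻¹ * y⁻¹) ^ p = 1) :
    ∀ x ∈ (frattini ↥P).map P.subtype, x * y * x⁻¹ * y⁻¹ ∈ ⁅P, P⁆ := by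
  have hmem : ∀ x : ↥P, (x : G) * y * (x : G)⁻¹ * y⁻¹ ∈ P := by
    intro x
    have h1 : y * (x : G)⁻¹ * y⁻¹ ∈ P := (Subgroup.mem_normalizer_iff.mp hy _).mp (P.inv_mem x.2)
    have := P.mul_mem x.2 h1
    simpa [mul_assoc] using this
  let c : ↥P → ↥P := fun x => ⟨(x : G) * y * (x : G)⁻¹ * y⁻¹, hmem x⟩
  have hmul : ∀ a b : ↥P, Abelianization.of (c (a * b)) = Abelianization.of (c a) * Abelianization.of (c b) := by
    intro a b
    have e : c (a * b) = (a * c b * a⁻¹) * c a := by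
      apply Subtype.ext
      simp only [c, Subgroup.coe_mul, Subgroup.coe_inv]
      group
    rw [e, map_mul, map_mul, map_mul, map_inv]
    have : Abelianization.of a * Abelianization.of (c b) * (Abelianization.of a)⁻¹ = Abelianization.of (c b) := by
      rw [mul_comm (Abelianization.of a), mul_inv_cancel_right]
    rw [this, mul_comm]
  let f : ↥P →* Abelianization ↥P := MonoidHom.mk' (fun x => Abelianization.of (c x)) hmul
  have hcomm : ∀ a b : ↥f.range, a * b = b * a := by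
    intro a b; exact Subtype.ext (mul_comm _ _)
  have hexp : ∀ e : ↥f.range, e ^ p = 1 := by
    rintro ⟨_, x, rfl⟩
    apply Subtype.ext
    simp only [Subgroup.coe_pow, Subgroup.coe_one]
    show (Abelianization.of (c x)) ^ p = 1
    rw [← map_pow]
    have : c x ^ p = 1 := by
      apply Subtype.ext
      simp only [Subgroup.coe_pow, Subgroup.coe_one]
      exact hpow x x.2
    rw [this, map_one]
  have hker := frattini_le_ker' hcomm hexp f.rangeRestrict
  rw [MonoidHom.ker_rangeRestrict] at hker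
  rintro _ ⟨x, hx, rfl⟩
  have h1 : f x = 1 := hker hx
  have h2 : c x ∈ commutator ↥P := by
    rw [← Abelianization.ker_of]
    exact h1
  rw [← Subgroup.map_subtype_commutator]
  exact ⟨c x, h2, rfl⟩


/-- The stability group of the chain `Φ ≥ D ≥ 1`. -/
def stabChain (D Φ : Subgroup G) : Subgroup G where
  carrier := {h | h ∈ Subgroup.centralizer (D : Set G) ∧ ∀ x ∈ Φ, x * h * x⁻¹ * h⁻¹ ∈ D}
  one_mem' := ⟨Subgroup.one_mem _, fun x _ => by simp⟩
  mul_mem' := by
    rintro a b ⟨ha1, ha2⟩ ⟨hb1, hb2⟩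
    refine ⟨Subgroup.mul_mem _ ha1 hb1, fun x hx => ?_⟩
    have e : x * (a * b) * x⁻¹ * (a * b)⁻¹ = (x * a * x⁻¹ * a⁻¹) * (a * (x * b * x⁻¹ * b⁻¹) * a⁻¹) := by
      group
    rw [e]
    have h1 : a * (x * b * x⁻¹ * b⁻¹) * a⁻¹ = x * b * x⁻¹ * b⁻¹ := by
      have := (Subgroup.mem_centralizer_iff.mp ha1) _ (hb2 x hx)
      rw [← this]; group
    rw [h1]
    exact D.mul_mem (ha2 x hx) (hb2 x hx)
  inv_mem' := by
    rintro a ⟨ha1, ha2⟩
    refine ⟨Subgroup.inv_mem _ ha1, fun x hx => ?_⟩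
    have e : x * a⁻¹ * x⁻¹ * a⁻¹⁻¹ = a⁻¹ * (x * a * x⁻¹ * a⁻¹)⁻¹ * a := by group
    rw [e]
    have h1 : a⁻¹ * (x * a * x⁻¹ * a⁻¹)⁻¹ * a = (x * a * x⁻¹ * a⁻¹)⁻¹ := by
      have := (Subgroup.mem_centralizer_iff.mp ha1) _ (D.inv_mem (ha2 x hx))
      rw [mul_assoc, this]; group
    rw [h1]
    exact D.inv_mem (ha2 x hx)

theorem mem_stabChain {D Φ : Subgroup G} {h : G} :
    h ∈ stabChain D Φ ↔ h ∈ Subgroup.centralizer (D : Set G) ∧ ∀ x ∈ Φ, x * h * x⁻¹ * h⁻¹ ∈ D :=
  Iff.rfl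

/-- conjugation invariance of the stability group -/
theorem conj_mem_stabChain {D Φ : Subgroup G} {g h : G}
    (hD : ∀ d ∈ D, g⁻¹ * d * g ∈ D) (hD' : ∀ d ∈ D, g * d * g⁻¹ ∈ D)
    (hΦ : ∀ x ∈ Φ, g⁻¹ * x * g ∈ Φ) (hh : h ∈ stabChain D Φ) :
    g * h * g⁻¹ ∈ stabChain D Φ := by
  obtain ⟨h1, h2⟩ := hh
  refine ⟨?_, fun x hx => ?_⟩
  · rw [Subgroup.mem_centralizer_iff]
    intro d hd
    have := (Subgroup.mem_centralizer_iff.mp h1) _ (hD d hd)
    calc d * (g * h * g⁻¹) = g * ((g⁻¹ * d * g) * h) * g⁻¹ := by group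
      _ = g * (h * (g⁻¹ * d * g)) * g⁻¹ := by rw [this]
      _ = g * h * g⁻¹ * d := by group
  · have e : x * (g * h * g⁻¹) * x⁻¹ * (g * h * g⁻¹)⁻¹ =
        g * ((g⁻¹ * x * g) * h * (g⁻¹ * x * g)⁻¹ * h⁻¹) * g⁻¹ := by group
    rw [e]
    exact hD' _ (h2 _ (hΦ x hx))

/-- a `p'`-element of the stability group centralizes `Φ` when `D` is a `p`-group. -/
theorem stabChain_coprime_centralizes [Fact p.Prime] {D Φ : Subgroup G} (hD : IsPGroup p D)
    {c : G} (hc : c ∈ stabChain D Φ) (hcop : (orderOf c).Coprime p) :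
    c ∈ Subgroup.centralizer (Φ : Set G) := by
  obtain ⟨h1, h2⟩ := hc
  rw [Subgroup.mem_centralizer_iff]
  intro x hx
  have hz : c * x * c⁻¹ * x⁻¹ ∈ D := by
    have := D.inv_mem (h2 x hx)
    have e : (x * c * x⁻¹ * c⁻¹)⁻¹ = c * x * c⁻¹ * x⁻¹ := by group
    rwa [e] at this
  have hcomm : c * (c * x * c⁻¹ * x⁻¹) = (c * x * c⁻¹ * x⁻¹) * c :=
    ((Subgroup.mem_centralizer_iff.mp h1) _ hz).symm
  obtain ⟨k, hk⟩ := hD ⟨_, hz⟩
  have hk' : (c * x * c⁻¹ * x⁻¹) ^ (p ^ k) = 1 := by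
    have := congrArg Subtype.val hk
    simpa using this
  have := coprime_step c x hcop hcomm ⟨k, hk'⟩
  have e : c * x = (c * x * c⁻¹ * x⁻¹) * (x * c) := by group
  rw [e, this, one_mul]

theorem pResidual_normalClosure_centralizes_frattini [Finite G] [Fact p.Prime] (P : Subgroup G) (hP : IsPGroup p ↥P) (H : Subgroup G) (hH : H ≤ Subgroup.normalizer (P : Set G)) (Y : Subgroup G) (hYH : Y ≤ H) (hYc : Y ≤ Subgroup.centralizer ((⁅P, P⁆ : Subgroup G) : Set G)) (hel : Cfsg.IsElementaryAbelian p ⁅P, Y⁆) (NY : Subgroup G) (hNY : NY = (Subgroup.normalClosure ((Y.subgroupOf H : Subgroup ↥H) : Set ↥H)).map H.subtype) : (Cfsg.pResidual p ↥NY).map NY.subtype ≤ Subgroup.centralizer (((frattini ↥P).map P.subtype : Subgroup G) : Set G) := by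
  set D : Subgroup G := ⁅P, P⁆ with hD
  set Φ : Subgroup G := (frattini ↥P).map P.subtype with hΦ
  have hDP : D ≤ P := Subgroup.commutator_le_self P
  have hDp : IsPGroup p D := hP.to_le hDP
  -- invariance of D and Φ under N_G(P)
  have hDinv : ∀ g ∈ Subgroup.normalizer (P : Set G), ∀ d ∈ D, g * d * g⁻¹ ∈ D := by
    intro g hg d hd
    have h1 : P.map (MulAut.conj g).toMonoidHom = P := Subgroup.mem_normalizer_iff_map_conj_eq.mp hg
    have h2 : D.map (MulAut.conj g).toMonoidHom = D := by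
      rw [hD, Subgroup.map_commutator, h1]
    rw [← h2]
    exact ⟨d, hd, by simp [MulAut.conj_apply]⟩
  have hΦinv : ∀ g ∈ Subgroup.normalizer (P : Set G), ∀ x ∈ Φ, g * x * g⁻¹ ∈ Φ := by
    intro g hg x hx
    have : (frattini ↥P).Characteristic := frattini_characteristic
    exact conj_mem_map_of_characteristic (frattini ↥P) hg hx
  -- Y ≤ stabChain
  have hYK : Y ≤ stabChain D Φ := by
    intro y hy
    refine ⟨hYc hy, ?_⟩
    apply commutator_mem_of_mem_frattini (p := p) (hH (hYH hy))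
    intro x hx
    have h1 : ⁅x, y⁆ ∈ ⁅P, Y⁆ := Subgroup.commutator_mem_commutator hx hy
    have h2 := hel.2 _ h1
    rw [commutatorElement_def] at h2
    exact h2
  -- normal closure ≤ stabChain
  have hNYK : NY ≤ stabChain D Φ := by
    rw [hNY, Subgroup.map_le_iff_le_comap]
    have hn : ((stabChain D Φ).comap H.subtype).Normal := by
      constructor
      intro n hn g
      rw [Subgroup.mem_comap] at hn ⊢
      simp only [Subgroup.coe_subtype, Subgroup.coe_mul, Subgroup.coe_inv]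
      have hg := hH g.2
      have hg' : (g : G)⁻¹ ∈ Subgroup.normalizer (P : Set G) := Subgroup.inv_mem _ hg
      apply conj_mem_stabChain _ _ _ hn
      · intro d hd
        have := hDinv _ hg' d hd
        simpa using this
      · intro d hd
        exact hDinv _ hg d hd
      · intro x hx
        have := hΦinv _ hg' x hx
        simpa using this
    apply Subgroup.normalClosure_le_normal
    intro y hy
    have hy' : (y : G) ∈ Y := hy
    exact hYK hy'
  -- conclude
  rw [Subgroup.map_le_iff_le_comap]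
  unfold Cfsg.pResidual
  rw [Subgroup.closure_le]
  intro c hc
  have hc' : (orderOf c).Coprime p := hc
  show (NY.subtype c) ∈ Subgroup.centralizer (Φ : Set G)
  apply stabChain_coprime_centralizes hDp (hNYK c.2)
  rw [Subgroup.orderOf_coe]
  exact hc'

end Cfsg.Agent.Lib.Helper16
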