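import Cfsg.Agent.Lib.Helper16.Subnormal
import Cfsg.Prelude.Def_LocalStructure

set_option autoImplicit false
open Cfsg
open scoped Pointwise

namespace Cfsg.Agent.Lib.Helper16

variable {G : Type*} [Group G] {p : ℕ}

/-- For `N` normal and `T` Sylow in `G`, `T ∩ N` is (the image of) a Sylow subgroup of `N`. -/
theorem exists_sylow_of_normal_inf [Finite G] [Fact p.Prime] (T : Sylow p G) (N : Subgroup G)
    [hN : N.Normal] : ∃ P : Sylow p N, (P : Subgroup N).map N.subtype = (T : Subgroup G) ⊓ N := by
  set Q : Subgroup G := (T : Subgroup G) ⊓ N with hQ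
  have hQp : IsPGroup p Q := T.isPGroup'.to_le inf_le_left
  obtain ⟨P, hP⟩ := (hQp.comap_subtype : IsPGroup p (Q.subgroupOf N)).exists_le_sylow
  refine ⟨P, ?_⟩
  set P' : Subgroup G := (P : Subgroup N).map N.subtype with hP'
  have hP'p : IsPGroup p P' := P.isPGroup'.map _
  have hP'N : P' ≤ N := Subgroup.map_subtype_le _
  have hQP' : Q ≤ P' := by
    intro x hx
    exact ⟨⟨x, hx.2⟩, hP (by rw [Subgroup.mem_comap]; exact hx), rfl⟩
  obtain ⟨y, -, hy⟩ := exists_conj_le_sylow T (le_top : (T : Subgroup G) ≤ ⊤) (le_top : P' ≤ ⊤) hP'p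
  have hle : P'.map (MulAut.conj y).toMonoidHom ≤ Q := by
    refine le_inf hy ?_
    rintro _ ⟨x, hx, rfl⟩
    exact hN.conj_mem x (hP'N hx) y
  have hcard : Nat.card P' ≤ Nat.card Q := by
    rw [← card_map_conj P' y]
    exact Subgroup.card_le_of_le hle
  exact (Subgroup.eq_of_le_of_card_ge hQP' hcard).symm

theorem minimalOver_key [Finite G] {Y M : Subgroup G}
    (hMuniq : ∀ M1 : Subgroup G, IsCoatom M1 ∧ Y ≤ M1 → M1 = M) (K : Subgroup G) (hYK : Y ≤ K)
    (hK : K ≠ ⊤) : K ≤ M := by
  rcases eq_top_or_exists_le_coatom K with h | ⟨M1, hM1, hKM1⟩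
  · exact absurd h hK
  · have := hMuniq M1 ⟨hM1, hYK.trans hKM1⟩
    rw [← this]; exact hKM1

/-- image of a coatom containing the kernel under a surjective hom is a coatom. -/
theorem isCoatom_map_of_surjective {H : Type*} [Group H] {φ : G →* H}
    (hφ : Function.Surjective φ) {M : Subgroup G} (hM : IsCoatom M) (hker : φ.ker ≤ M) :
    IsCoatom (M.map φ) := by
  constructor
  · intro h
    apply hM.1
    rw [← Subgroup.comap_map_eq_self hker, h, Subgroup.comap_top]
  · intro K hK
    have h1 : M ≤ K.comap φ := by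
      rw [← Subgroup.comap_map_eq_self hker]
      exact Subgroup.comap_mono hK.le
    have h2 : M ≠ K.comap φ := by
      intro h
      apply hK.ne
      rw [h, Subgroup.map_comap_eq_self_of_surjective hφ]
    have h3 := hM.2 _ (lt_of_le_of_ne h1 h2)
    rw [← Subgroup.map_comap_eq_self_of_surjective hφ K, h3, Subgroup.map_top_of_surjective φ hφ]

theorem minimalOver_quotient [Finite G] [Fact p.Prime] (T : Sylow p G)
    (hmin : IsMinimalOver (T : Subgroup G)) (N : Subgroup G) [hN : N.Normal] :
    IsPGroup p (G ⧸ N) ∨ IsMinimalOver ((T : Subgroup G).map (QuotientGroup.mk' N)) := by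
  obtain ⟨hnc, M, ⟨hMco, hTM⟩, hMuniq⟩ := hmin
  have hkey := minimalOver_key hMuniq
  have hsurj := QuotientGroup.mk'_surjective N
  have hTN : (T : Subgroup G) ≤ Subgroup.normalizer (N : Set G) := by
    rw [Subgroup.normalizer_eq_top]; exact le_top
  by_cases h3 : (T : Subgroup G) ⊔ N = ⊤
  · left
    intro q
    obtain ⟨g, rfl⟩ := hsurj q
    have hg' : g ∈ ((N ⊔ T : Subgroup G) : Set G) := by rw [sup_comm, h3]; trivial
    rw [Subgroup.coe_mul_of_right_le_normalizer_left N T hTN] at hg'
    obtain ⟨b, hb, a, ha, rfl⟩ := hg'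
    obtain ⟨k, hk⟩ := exists_pow_eq_one_of_isPGroup T.isPGroup' ha
    refine ⟨k, ?_⟩
    have e : (QuotientGroup.mk' N) (b * a) = (QuotientGroup.mk' N) a := by
      rw [map_mul]
      have : (QuotientGroup.mk' N) b = 1 := by
        rw [QuotientGroup.mk'_apply, QuotientGroup.eq_one_iff]; exact hb
      rw [this, one_mul]
    rw [e, ← map_pow, hk, map_one]
  · right
    have h4 := hkey _ le_sup_left h3
    have hNM : N ≤ M := le_sup_right.trans h4
    have hker : (QuotientGroup.mk' N).ker ≤ M := by rw [QuotientGroup.ker_mk']; exact hNM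
    constructor
    · rw [Subgroup.coe_map, ← Subgroup.map_normalClosure _ _ hsurj, hnc,
        Subgroup.map_top_of_surjective _ hsurj]
    · refine ⟨M.map (QuotientGroup.mk' N), ⟨isCoatom_map_of_surjective hsurj hMco hker,
        Subgroup.map_mono hTM⟩, ?_⟩
      rintro K ⟨hKco, hTK⟩
      have h5 := Subgroup.isCoatom_comap_of_surjective hsurj hKco
      have h6 : (T : Subgroup G) ≤ K.comap (QuotientGroup.mk' N) := by
        rw [← Subgroup.map_le_iff_le_comap]; exact hTK
      have h7 := hMuniq _ ⟨h5, h6⟩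
      rw [← h7, Subgroup.map_comap_eq_self_of_surjective hsurj]

theorem pIrreducible_of_minimalOver [Finite G] [Fact p.Prime] (T : Sylow p G)
    (hmin : IsMinimalOver (T : Subgroup G)) : IsPIrreducible p G := by
  obtain ⟨hnc, M, ⟨hMco, hTM⟩, hMuniq⟩ := hmin
  have hkey := minimalOver_key hMuniq
  constructor
  · intro hcl
    have hTn : (T : Subgroup G).Normal := hcl T
    have : (T : Subgroup G) = ⊤ := by
      rw [← hnc]; exact (Subgroup.normalClosure_eq_self _).symm
    exact hMco.1 (eq_top_iff.mpr (this ▸ hTM))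
  · intro N hN hNcl
    obtain ⟨P, hP⟩ := exists_sylow_of_normal_inf T N
    have hfr := Sylow.normalizer_sup_eq_top P
    rw [hP] at hfr
    have hTnorm : (T : Subgroup G) ≤ Subgroup.normalizer (((T : Subgroup G) ⊓ N : Subgroup G) : Set G) := by
      intro t ht
      apply mem_normalizer_of_map_conj_le
      rintro _ ⟨x, hx, rfl⟩
      exact ⟨(T : Subgroup G).mul_mem ((T : Subgroup G).mul_mem ht hx.1) ((T : Subgroup G).inv_mem ht),
        hN.conj_mem x hx.2 t⟩
    by_cases h1 : Subgroup.normalizer (((T : Subgroup G) ⊓ N : Subgroup G) : Set G) = ⊤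
    · exfalso
      apply hNcl
      have hPn' : ((P : Subgroup N).map N.subtype).Normal := by
        rw [hP]; exact Subgroup.normalizer_eq_top_iff.mp h1
      have hPn : (P : Subgroup N).Normal := hPn'.of_map_subtype
      intro P2
      have := Sylow.unique_of_normal P hPn
      rw [Subsingleton.elim P2 P]; exact hPn
    · have h2 := hkey _ hTnorm h1
      have h3 : (T : Subgroup G) ⊔ N = ⊤ := by
        by_contra h3
        have h4 := hkey _ le_sup_left h3
        have : (⊤ : Subgroup G) ≤ M := by rw [← hfr]; exact sup_le h2 (le_sup_right.trans h4)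
        exact hMco.1 (eq_top_iff.mpr this)
      unfold pResidual
      rw [Subgroup.closure_le]
      intro g hg
      have hTN : (T : Subgroup G) ≤ Subgroup.normalizer (N : Set G) := by
        rw [Subgroup.normalizer_eq_top]; exact le_top
      have hg' : g ∈ ((N ⊔ T : Subgroup G) : Set G) := by rw [sup_comm, h3]; trivial
      rw [Subgroup.coe_mul_of_right_le_normalizer_left N T hTN] at hg'
      obtain ⟨b, hb, a, ha, rfl⟩ := hg'
      exact mul_mem_of_coprime hb (hTN ha) (exists_pow_eq_one_of_isPGroup T.isPGroup' ha) hg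

end Cfsg.Agent.Lib.Helper16
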