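import Mathlib.GroupTheory.Perm.Sign
import Mathlib.LinearAlgebra.Matrix.SpecialLinearGroup
import Mathlib.Tactic
import Cfsg.Prelude.Def_PLocal

set_option autoImplicit false
open Cfsg

namespace Cfsg.Agent.Lib.Helper16

abbrev V3 := Fin 3 → ZMod 2

def qpt (i : Fin 4) : V3 := ![(i.val % 2 : ℕ), (i.val / 2 : ℕ), 1]

def qidx (v : V3) : Fin 4 := ⟨(v 0).val + 2 * (v 1).val, by
  have h0 := (v 0).val_lt
  have h1 := (v 1).val_lt
  omega⟩

theorem qpt_qidx : ∀ v : V3, v 2 = 1 → qpt (qidx v) = v := by decide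

theorem qidx_qpt : ∀ i : Fin 4, qidx (qpt i) = i := by decide

theorem qpt_two : ∀ i : Fin 4, qpt i 2 = 1 := by decide

/-- elements of `qd 2` have last row `(0,0,1)`. -/
theorem qd_lastRow {p : ℕ} (M : Matrix.SpecialLinearGroup (Fin 3) (ZMod p)) (hM : M ∈ qd p) :
    (M : Matrix (Fin 3) (Fin 3) (ZMod p)) 2 0 = 0 ∧
    (M : Matrix (Fin 3) (Fin 3) (ZMod p)) 2 1 = 0 ∧ (M : Matrix (Fin 3) (Fin 3) (ZMod p)) 2 2 = 1 := by
  unfold qd at hM
  induction hM using Subgroup.closure_induction with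
  | mem x hx => exact hx
  | one => simp
  | mul x y _ _ hx hy =>
    obtain ⟨a0, a1, a2⟩ := hx
    obtain ⟨b0, b1, b2⟩ := hy
    simp [Matrix.mul_apply, Fin.sum_univ_three, a0, a1, a2, b0, b1, b2]
  | inv x _ hx =>
    obtain ⟨a0, a1, a2⟩ := hx
    have h : (x * x⁻¹ : Matrix.SpecialLinearGroup (Fin 3) (ZMod p)) = 1 := mul_inv_cancel x
    have h' : (x : Matrix (Fin 3) (Fin 3) (ZMod p)) * (x⁻¹ : Matrix.SpecialLinearGroup (Fin 3) (ZMod p)) = 1 := by
      rw [← Matrix.SpecialLinearGroup.coe_mul, h]; simp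
    have e0 := congrFun (congrFun h' 2) 0
    have e1 := congrFun (congrFun h' 2) 1
    have e2 := congrFun (congrFun h' 2) 2
    simp [Matrix.mul_apply, Fin.sum_univ_three, a0, a1, a2] at e0 e1 e2
    exact ⟨e0, e1, e2⟩

theorem qd_mulVec_two (M : Matrix.SpecialLinearGroup (Fin 3) (ZMod 2)) (hM : M ∈ qd 2) (v : V3)
    (hv : v 2 = 1) : ((M : Matrix (Fin 3) (Fin 3) (ZMod 2)).mulVec v) 2 = 1 := by
  obtain ⟨a0, a1, a2⟩ := qd_lastRow M hM
  simp [Matrix.mulVec, dotProduct, Fin.sum_univ_three, a0, a1, a2, hv]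

instance qdAction : MulAction (qd 2) (Fin 4) where
  smul M i := qidx ((M.1 : Matrix (Fin 3) (Fin 3) (ZMod 2)).mulVec (qpt i))
  one_smul i := by
    show qidx (((1 : qd 2).1 : Matrix (Fin 3) (Fin 3) (ZMod 2)).mulVec (qpt i)) = i
    simp [qidx_qpt]
  mul_smul M N i := by
    show qidx (((M * N).1 : Matrix (Fin 3) (Fin 3) (ZMod 2)).mulVec (qpt i)) =
      qidx ((M.1 : Matrix (Fin 3) (Fin 3) (ZMod 2)).mulVec (qpt (qidx ((N.1 : Matrix (Fin 3) (Fin 3) (ZMod 2)).mulVec (qpt i)))))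
    rw [qpt_qidx _ (qd_mulVec_two N.1 N.2 _ (qpt_two i))]
    simp [Matrix.mulVec_mulVec]

theorem qd_smul_def (M : qd 2) (i : Fin 4) :
    M • i = qidx ((M.1 : Matrix (Fin 3) (Fin 3) (ZMod 2)).mulVec (qpt i)) := rfl

theorem qd_mulVec_qpt (M : qd 2) (i : Fin 4) :
    (M.1 : Matrix (Fin 3) (Fin 3) (ZMod 2)).mulVec (qpt i) = qpt (M • i) := by
  rw [qd_smul_def, qpt_qidx _ (qd_mulVec_two M.1 M.2 _ (qpt_two i))]

theorem qd_eq_one (M : qd 2) (h : ∀ i : Fin 4, M • i = i) : M = 1 := by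
  have hv : ∀ i, (M.1 : Matrix (Fin 3) (Fin 3) (ZMod 2)).mulVec (qpt i) = qpt i := fun i => by
    rw [qd_mulVec_qpt, h]
  apply Subtype.ext
  apply Matrix.SpecialLinearGroup.ext
  have e00 := congrFun (hv 0) 0
  have e01 := congrFun (hv 0) 1
  have e02 := congrFun (hv 0) 2
  have e10 := congrFun (hv 1) 0
  have e11 := congrFun (hv 1) 1
  have e12 := congrFun (hv 1) 2
  have e20 := congrFun (hv 2) 0
  have e21 := congrFun (hv 2) 1
  have e22 := congrFun (hv 2) 2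
  simp [qpt, Matrix.mulVec, dotProduct, Fin.sum_univ_three] at e00 e01 e02 e10 e11 e12 e20 e21 e22
  intro r c
  fin_cases r <;> fin_cases c <;> simp_all

def qdM (a b e c d f : ZMod 2) (h : a * d - b * c = 1) : Matrix.SpecialLinearGroup (Fin 3) (ZMod 2) :=
  ⟨!![a, b, e; c, d, f; 0, 0, 1], by rw [Matrix.det_fin_three]; simp; linear_combination h⟩

theorem qdM_mem (a b e c d f : ZMod 2) (h : a * d - b * c = 1) : qdM a b e c d f h ∈ qd 2 := by
  apply Subgroup.subset_closure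
  exact ⟨rfl, rfl, rfl⟩

theorem qd_surj : Function.Surjective (MulAction.toPermHom (qd 2) (Fin 4)) := by
  rw [← MonoidHom.range_eq_top, eq_top_iff]
  have h1 : (⊤ : Submonoid (Equiv.Perm (Fin 4))) ≤ (MulAction.toPermHom (qd 2) (Fin 4)).range.toSubmonoid := by
    rw [← Equiv.Perm.mclosure_swap_castSucc_succ 3, Submonoid.closure_le]
    rintro _ ⟨i, rfl⟩
    fin_cases i
    · refine ⟨⟨qdM 1 1 1 0 1 0 (by decide), qdM_mem _ _ _ _ _ _ _⟩, ?_⟩
      ext k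
      fin_cases k <;> decide
    · refine ⟨⟨qdM 0 1 0 1 0 0 (by decide), qdM_mem _ _ _ _ _ _ _⟩, ?_⟩
      ext k
      fin_cases k <;> decide
    · refine ⟨⟨qdM 1 1 0 0 1 0 (by decide), qdM_mem _ _ _ _ _ _ _⟩, ?_⟩
      ext k
      fin_cases k <;> decide
  intro x _
  exact h1 (Submonoid.mem_top x)

theorem qd_equiv : Nonempty (↥(qd 2) ≃* Equiv.Perm (Fin 4)) := by
  refine ⟨MulEquiv.ofBijective (MulAction.toPermHom (qd 2) (Fin 4)) ⟨?_, qd_surj⟩⟩
  rw [injective_iff_map_eq_one]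
  intro M hM
  apply qd_eq_one
  intro i
  have := congrArg (fun σ : Equiv.Perm (Fin 4) => σ i) hM
  simpa using this

end Cfsg.Agent.Lib.Helper16
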