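import Mathlib.GroupTheory.Frattini
import Mathlib.Order.Preorder.Finite
import Mathlib.Tactic

set_option autoImplicit false

namespace Cfsg.Agent.Lib.Helper16

theorem frattini_eq_bot_of_elementary {E : Type*} [CommGroup E] [Finite E] {p : ℕ}
    [Fact p.Prime] (h : ∀ e : E, e ^ p = 1) : frattini E = ⊥ := by
  have hp : p.Prime := Fact.out
  rw [eq_bot_iff]
  intro e he
  rw [Subgroup.mem_bot]
  by_contra hne
  obtain ⟨M, -, hM⟩ := Finite.exists_le_maximal (p := fun K : Subgroup E => e ∉ K) (a := ⊥)
    (by simpa using hne)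
  have hMco : IsCoatom M := by
    constructor
    · intro htop
      apply hM.prop
      rw [htop]; exact Subgroup.mem_top e
    · intro K hMK
      by_contra hKtop
      have heK : e ∈ K := by
        by_contra h1
        exact hMK.ne (le_antisymm hMK.le (hM.le_of_ge h1 hMK.le))
      obtain ⟨y, hy⟩ : ∃ y, y ∉ K := by
        by_contra h2
        push Not at h2
        exact hKtop (eq_top_iff.mpr fun x _ => h2 x)
      have hyM : y ∉ M := fun h3 => hy (hMK.le h3)
      have h5 : e ∈ M ⊔ Subgroup.zpowers y := by
        by_contra h4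
        have := hM.le_of_ge h4 le_sup_left
        exact hyM (this (Subgroup.mem_sup_right (Subgroup.mem_zpowers y)))
      rw [Subgroup.mem_sup] at h5
      obtain ⟨m, hm, z, hz, rfl⟩ := h5
      obtain ⟨i, hi⟩ := hz
      have hi' : y ^ i = z := hi
      subst hi'
      have hyiK : y ^ i ∈ K := by
        have : y ^ i = m⁻¹ * (m * y ^ i) := by group
        rw [this]; exact K.mul_mem (K.inv_mem (hMK.le hm)) heK
      have hpi : ¬ (p : ℤ) ∣ i := by
        rintro ⟨j, rfl⟩
        apply hM.prop
        have : y ^ ((p : ℤ) * j) = 1 := by rw [zpow_mul, zpow_natCast, h y, one_zpow]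
        rw [this, mul_one]; exact hm
      have hcop : IsCoprime i (p : ℤ) := by
        have := (Nat.prime_iff_prime_int.mp hp)
        exact (this.coprime_iff_not_dvd.mpr hpi).symm
      obtain ⟨a, b, hab⟩ := hcop
      have hy' : y = (y ^ i) ^ a := by
        calc y = y ^ (1 : ℤ) := (zpow_one y).symm
          _ = y ^ (a * i + b * p) := by rw [hab]
          _ = y ^ (a * i) * y ^ (b * (p : ℤ)) := zpow_add y _ _
          _ = (y ^ i) ^ a * 1 := by
              rw [mul_comm a i, zpow_mul, mul_comm b (p : ℤ), zpow_mul, zpow_natCast, h y, one_zpow]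
          _ = (y ^ i) ^ a := mul_one _
      apply hy
      rw [hy']
      exact K.zpow_mem hyiK a
  exact hM.prop (frattini_le_coatom hMco he)

/-- A homomorphism from a group to an elementary abelian `p`-group kills the Frattini
subgroup. -/
theorem frattini_le_ker {P E : Type*} [Group P] [CommGroup E] [Finite E] {p : ℕ}
    [Fact p.Prime] (h : ∀ e : E, e ^ p = 1) (φ : P →* E) : frattini P ≤ φ.ker := by
  intro x hx
  have h1 := frattini_le_comap_frattini_of_surjective (φ := φ.rangeRestrict)
    φ.rangeRestrict_surjective hx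
  rw [Subgroup.mem_comap] at h1
  have h2 : frattini ↥φ.range = ⊥ := by
    apply frattini_eq_bot_of_elementary (p := p)
    intro e
    apply Subtype.ext
    simpa using h (e : E)
  rw [h2, Subgroup.mem_bot] at h1
  rw [MonoidHom.mem_ker]
  have := congrArg Subtype.val h1
  simpa using this

theorem frattini_le_ker' {P E : Type*} [Group P] [Group E] [Finite E] {p : ℕ}
    [Fact p.Prime] (hcomm : ∀ a b : E, a * b = b * a) (h : ∀ e : E, e ^ p = 1) (φ : P →* E) :
    frattini P ≤ φ.ker := by
  let _ : CommGroup E := { ‹Group E› with mul_comm := hcomm }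
  exact frattini_le_ker h φ

end Cfsg.Agent.Lib.Helper16
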