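import Mathlib
import Cfsg.Prelude.Def_OddOrderLocal
import Cfsg.Agent.Lib.Helper23.BGY4
import Cfsg.Agent.Lib.Helper2.BGCorC
import Cfsg.Agent.Lib.Helper9.BGSigEmb
import Cfsg.Agent.S1409

/-!
# B & G section 13 preliminaries (helper16)

General lemmas used for S1427 (B & G 13.3(a)): coprime commutators, conjugation invariance of
`σ(M)`, Sylow subgroups of Hall subgroups, and the "Lemma X" of `notes`:
if `p ∉ σ(M)`, `S ≤ M` is a `p`-group normalizing `T ≤ M_σ` and some maximal subgroup `N`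
with `p ∈ σ(N)` contains `S` and `T`, then `[T, S] = 1`.

The conclusions of the frozen statements S1417, S1418, S1423, S1424 are taken as hypotheses
(`H17n`, `H18a`, `H23`, `H24`).
-/

set_option autoImplicit false
open scoped commutatorElement

namespace Cfsg.Agent.Lib.Helper16.BGPrim

open Cfsg Cfsg.Agent.Lib.Helper1.BGX
open Cfsg.Agent.Lib.Helper8 (mem_map_conj conj_mem_map_conj map_conj_map_conj map_conj_one
  map_conj_le_iff map_conj_eq_iff card_map_conj mem_normalizer_iff_map_conj IsSylIn sylow_smul_coe)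

variable {G : Type*} [Group G]

/-! ### hypotheses: the parts of the frozen statements that we use -/

/-- the part of S1417 we use: for `p ∈ τ₂(M)`, `M_σ` is nilpotent. -/
def H17n (G : Type*) [Group G] : Prop :=
  ∀ (M : Subgroup G), IsCoatom M → ∀ (p : ℕ) [Fact p.Prime], p ∈ Cfsg.tau2 M → ∀ A : Subgroup G,
    (A ≤ M ∧ Cfsg.IsElementaryAbelian p A ∧ Nat.card A = p ^ 2) →
    Group.IsNilpotent (Cfsg.sigmaCore M)

/-- the part of S1418 we use. -/
def H18a (G : Type*) [Group G] : Prop :=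
  ∀ (M : Subgroup G), IsCoatom M → ∀ E : Subgroup G, Cfsg.IsComplIn E (Cfsg.sigmaCore M) M →
    ∀ (p : ℕ) [Fact p.Prime], p ∈ Cfsg.tau2 M → ∀ A : Subgroup G,
    (A ≤ E ∧ Cfsg.IsElementaryAbelian p A ∧ Nat.card A = p ^ 2) →
    E ≤ Subgroup.normalizer (A : Set G) ∧ ¬ Subgroup.normalizer (A : Set G) ≤ M

/-- the part of S1423 we use. -/
def H23 (G : Type*) [Group G] : Prop :=
  ∀ (M : Subgroup G), IsCoatom M → ∀ (p : ℕ) [Fact p.Prime], p ∈ Cfsg.sigma M →
    ∀ X : Subgroup G, X ≤ M → Nat.card X = p → ∀ P : Sylow p ↥(Cfsg.sigmaCore M),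
    X ≤ ⁅Cfsg.sigmaCore M, Cfsg.sigmaCore M⁆ →
    Cfsg.InUniqueMaximal ((P : Subgroup ↥(Cfsg.sigmaCore M)).map (Cfsg.sigmaCore M).subtype) ∧
      (P : Subgroup ↥(Cfsg.sigmaCore M)).map (Cfsg.sigmaCore M).subtype ≤ M

/-- the conclusion of S1424. -/
def H24 (G : Type*) [Group G] : Prop :=
  ∀ (M : Subgroup G), IsCoatom M → ∀ (q : ℕ) [Fact q.Prime], q ∈ Cfsg.sigma M →
    ∀ X : Subgroup G, IsPGroup q X → X ≠ ⊥ → X ≤ M →
    ∀ Mstar : Subgroup G, IsCoatom Mstar → Mstar ≠ M →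
    Subgroup.normalizer (X : Set G) ≤ Mstar →
    ∀ S : Sylow q ↥(M ⊓ Mstar), X ≤ (S : Subgroup ↥(M ⊓ Mstar)).map (M ⊓ Mstar).subtype →
    (∀ g : G, Mstar ≠ M.map (MulAut.conj g).toMonoidHom) ∧
      Subgroup.normalizer (((S : Subgroup ↥(M ⊓ Mstar)).map (M ⊓ Mstar).subtype : Subgroup G) :
        Set G) ≤ M ∧
      ¬ q ∣ ((S : Subgroup ↥(M ⊓ Mstar)).map (M ⊓ Mstar).subtype).relIndex Mstar

/-! ### coprime commutators -/

/-- coprime action: `R = [R, A] C_R(A)` in product form (general coprime version). -/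
theorem exists_mul_of_coprime' [Finite G] (R A : Subgroup G)
    (hA : A ≤ Subgroup.normalizer (R : Set G)) (hcop : (Nat.card A).Coprime (Nat.card R))
    (hsolv : Group.IsSolvable A ∨ Group.IsSolvable R) (x : G) (hx : x ∈ R) :
    ∃ k ∈ ⁅R, A⁆, ∃ c ∈ R ⊓ Subgroup.centralizer (A : Set G), x = k * c := by
  have hKR : ⁅R, A⁆ ≤ R := Cfsg.Agent.Lib.Helper1.commutator_le_of_le_normalizer hA
  have hnorm : A ≤ Subgroup.normalizer ((⁅R, A⁆ : Subgroup G) : Set G) :=
    Cfsg.Agent.Lib.Helper1.le_normalizer_commutator_right R A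
  have hcop' : Nat.Coprime (Nat.card A) (Nat.card (⁅R, A⁆ : Subgroup G)) :=
    Nat.Coprime.coprime_dvd_right (Subgroup.card_dvd_of_le hKR) hcop
  have hsolv' : Group.IsSolvable A ∨ Group.IsSolvable (⁅R, A⁆ : Subgroup G) := by
    rcases hsolv with h | h
    · exact Or.inl h
    · right
      exact solvable_of_solvable_injective (Subgroup.inclusion_injective hKR)
  obtain ⟨n, hn, hc⟩ := Cfsg.Agent.Lib.Helper1.exists_mul_mem_centralizer hnorm hcop' hsolv' x⁻¹ (by
    intro a ha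
    have : x⁻¹⁻¹ * a * x⁻¹ * a⁻¹ = ⁅x, a⁆ := by rw [commutatorElement_def, inv_inv]
    rw [this]
    exact Subgroup.commutator_mem_commutator hx ha)
  exact ⟨n, hn, (x⁻¹ * n)⁻¹, ⟨R.inv_mem (R.mul_mem (R.inv_mem hx) (hKR hn)), Subgroup.inv_mem _ hc⟩,
    by group⟩

/-- coprime action: `[R, A, A] = [R, A]`. -/
theorem comm_comm_eq_coprime [Finite G] (R A : Subgroup G)
    (hA : A ≤ Subgroup.normalizer (R : Set G)) (hcop : (Nat.card A).Coprime (Nat.card R))
    (hsolv : Group.IsSolvable A ∨ Group.IsSolvable R) :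
    ⁅⁅R, A⁆, A⁆ = ⁅R, A⁆ := by
  apply le_antisymm
    (Subgroup.commutator_mono (Cfsg.Agent.Lib.Helper1.commutator_le_of_le_normalizer hA) le_rfl)
  rw [Subgroup.commutator_le]
  intro x hx a ha
  obtain ⟨k, hk, c, hc, rfl⟩ := exists_mul_of_coprime' R A hA hcop hsolv x hx
  have hca : c * a = a * c := ((Subgroup.mem_centralizer_iff.mp hc.2) a ha).symm
  have h1 : ⁅k * c, a⁆ = ⁅k, a⁆ := by
    rw [commutatorElement_def, commutatorElement_def]
    have : k * c * a * (k * c)⁻¹ * a⁻¹ = k * (c * a) * c⁻¹ * k⁻¹ * a⁻¹ := by group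
    rw [this, hca]
    group
  rw [h1]
  exact Subgroup.commutator_mem_commutator hk ha

/-- elements of `R` and `A` commute when `[R, A] = 1`. -/
theorem comm_of_commutator_eq_bot {R A : Subgroup G} (h : ⁅R, A⁆ = ⊥) :
    ∀ x ∈ R, ∀ a ∈ A, a * x = x * a := by
  intro x hx a ha
  have h1 : ⁅x, a⁆ ∈ ⁅R, A⁆ := Subgroup.commutator_mem_commutator hx ha
  rw [h, Subgroup.mem_bot, commutatorElement_eq_one_iff_mul_comm] at h1
  exact h1.symm

/-! ### `σ(M)` and Sylow subgroups -/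

/-- A nontrivial Sylow `p`-subgroup `S` of `G` with `S ≤ N_G(S) ≤ M` shows `p ∈ σ(M)`. -/
theorem mem_sigma_of_sylow [Finite G] {M : Subgroup G} {p : ℕ} [Fact p.Prime] (S : Sylow p G)
    (hSM : (S : Subgroup G) ≤ M) (hS1 : (S : Subgroup G) ≠ ⊥)
    (hN : Subgroup.normalizer ((S : Subgroup G) : Set G) ≤ M) : p ∈ Cfsg.sigma M := by
  have hpp : p.Prime := Fact.out
  refine ⟨hpp, ?_, S.subtype hSM, ?_⟩
  · obtain ⟨k, hk⟩ := IsPGroup.iff_card.mp S.isPGroup'
    have hk0 : k ≠ 0 := by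
      rintro rfl
      rw [pow_zero] at hk
      exact hS1 (Subgroup.card_eq_one.mp hk)
    exact (dvd_pow_self p hk0).trans (hk ▸ Subgroup.card_dvd_of_le hSM)
  · rw [Sylow.coe_subtype, Subgroup.map_subgroupOf_eq_of_le hSM]
    exact hN

/-- `σ` is invariant under conjugation. -/
theorem sigma_map_conj [Finite G] {M : Subgroup G} {p : ℕ} (hp : p ∈ Cfsg.sigma M) (g : G) :
    p ∈ Cfsg.sigma (M.map (MulAut.conj g).toMonoidHom) := by
  haveI : Fact p.Prime := ⟨hp.1⟩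
  obtain ⟨S, hSM, hS1, hNM⟩ := exists_sylow_of_mem_sigma hp
  apply mem_sigma_of_sylow (g • S)
  · rw [sylow_smul_coe]
    exact Subgroup.map_mono hSM
  · intro h
    apply hS1
    rw [sylow_smul_coe] at h
    exact (Subgroup.map_eq_bot_iff_of_injective _ (MulAut.conj g).injective).mp h
  · intro n hn
    have h1 : n • (g • S) = g • S := Sylow.smul_eq_iff_mem_normalizer.mpr hn
    have h2 : (g⁻¹ * n * g) • S = S := by
      have h3 := congrArg (fun Q : Sylow p G => g⁻¹ • Q) h1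
      simp only [smul_smul] at h3
      rw [inv_mul_cancel, one_smul, ← mul_assoc] at h3
      exact h3
    have h4 : g⁻¹ * n * g ∈ M := hNM (Sylow.smul_eq_iff_mem_normalizer.mp h2)
    exact mem_map_conj.mpr h4

/-- A Sylow `q`-subgroup of a subgroup `K` of index prime to `q` is a Sylow `q`-subgroup
of `G`. -/
theorem exists_sylow_eq_of_not_dvd_index [Finite G] {q : ℕ} [Fact q.Prime] {K : Subgroup G}
    (hidx : ¬ q ∣ K.index) (P : Sylow q ↥K) :
    ∃ S : Sylow q G, (S : Subgroup G) = (P : Subgroup ↥K).map K.subtype := by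
  have h1 : IsSylIn q ((P : Subgroup ↥K).map K.subtype) K :=
    Cfsg.Agent.Lib.Helper8.sylow_map_subtype_isSylIn P
  have h2 : IsSylIn q ((P : Subgroup ↥K).map K.subtype) ⊤ :=
    isSylIn_of_hall h1 le_top (by rwa [Subgroup.relIndex_top_right])
  have h3 : Nat.card ((P : Subgroup ↥K).map K.subtype) = q ^ (Nat.card G).factorization q := by
    rw [h2.2, Subgroup.card_top]
  exact ⟨Sylow.ofCard _ h3, rfl⟩

/-- For `q ∈ σ(M)` every `q`-subgroup of `M` lies in `M_σ`. -/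
theorem le_sigmaCore_of_isPGroup [Finite G] (hG : Cfsg.IsMinSimpleOddOrder G) {M : Subgroup G}
    (hM : IsCoatom M) {q : ℕ} (hq : q ∈ Cfsg.sigma M) {Y : Subgroup G} (hY : IsPGroup q Y)
    (hYM : Y ≤ M) : Y ≤ Cfsg.sigmaCore M := by
  haveI : Fact q.Prime := ⟨hq.1⟩
  obtain ⟨⟨-, -, hidx⟩, -, -⟩ := Cfsg.Agent.S1350.result hG M hM
  have h1 := hidx q hq.1 hq
  rw [Cfsg.Agent.Lib.Helper2.BGCor.sigmaCore_relIndex] at h1
  have hcop : (Nat.card (Y.subgroupOf M)).Coprime (Cfsg.piCore (Cfsg.sigma M) ↥M).index := by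
    have hY' : IsPGroup q ↥(Y.subgroupOf M) := hY.comap_subtype
    obtain ⟨k, hk⟩ := IsPGroup.iff_card.mp hY'
    rw [hk]
    exact Nat.Coprime.pow_left k ((Nat.Prime.coprime_iff_not_dvd hq.1).mpr h1)
  have h2 := Cfsg.Agent.Lib.Helper23.BGY.le_of_coprime_index_normal
    (Cfsg.piCore (Cfsg.sigma M) ↥M) (Y.subgroupOf M) hcop
  intro y hy
  exact ⟨⟨y, hYM hy⟩, h2 (Subgroup.mem_subgroupOf.mpr hy), rfl⟩

/-- a subgroup of exponent `p` inside a cyclic subgroup has order at most `p`. -/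
theorem card_le_of_le_cyclic [Finite G] {p : ℕ} (hp : p.Prime) {A C : Subgroup G}
    (hC : IsCyclic ↥C) (hAC : A ≤ C) (hA : ∀ a ∈ A, a ^ p = 1) : Nat.card A ≤ p := by
  haveI : IsCyclic ↥A :=
    isCyclic_of_injective (Subgroup.inclusion hAC) (Subgroup.inclusion_injective hAC)
  obtain ⟨g, hg⟩ := IsCyclic.exists_generator (α := ↥A)
  have h1 : Nat.card ↥A = orderOf g := by
    rw [← Nat.card_zpowers g]
    have : Subgroup.zpowers g = ⊤ := by
      rw [Subgroup.eq_top_iff']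
      exact hg
    rw [this, Subgroup.card_top]
  have h2 : g ^ p = 1 := Subtype.ext (by simpa using hA g g.2)
  rw [h1]
  exact Nat.le_of_dvd hp.pos (orderOf_dvd_of_pow_eq_one h2)

end Cfsg.Agent.Lib.Helper16.BGPrim
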