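import Mathlib
import Cfsg.Agent.Lib.Helper16.BGPrimA

/-!
# B & G section 13 preliminaries, part B (helper16)

* `lemmaX`: `p ∉ σ(M)`, `S` a `p`-group normalizing `T ≤ M_σ`, and a maximal subgroup `N ⊇ S, T`
  with `p ∈ σ(N)`: then `S` centralizes `T`.
* `lemmaV`: a maximal subgroup `N ⊇ N_G(A)`, `A` elementary abelian of order `p²`, has `p ∈ σ(N)`.
* `lemmaW`: `M`, `H` maximal and not conjugate, `q ∈ σ(M) ∩ σ(H)`, `H` with a normal Sylow
  `q`-subgroup: `M ∩ H` is a `q'`-group.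
-/

set_option autoImplicit false
open scoped commutatorElement

namespace Cfsg.Agent.Lib.Helper16.BGPrim

open Cfsg Cfsg.Agent.Lib.Helper1.BGX
open Cfsg.Agent.Lib.Helper8 (mem_map_conj conj_mem_map_conj map_conj_map_conj map_conj_one
  map_conj_le_iff map_conj_eq_iff card_map_conj mem_normalizer_iff_map_conj IsSylIn sylow_smul_coe)
open Cfsg.Agent.Lib.Helper17.BGU (exists_coatom_ge normalizer_ne_top isCoatom_map_conj
  inUniqueMaximal_map_conj normalizer_eq_of_coatom)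
open Cfsg.Agent.Lib.Helper2.BGCor (sigmaCore_le primes_card_sigmaCore exists_compl_sigmaCore)
open Cfsg.Agent.Lib.Helper23.BGY (le_normalizer_sigmaCore exists_conj_mem_compl isComplIn_conj
  mem_tau2_of_not_rank_one)

variable {G : Type*} [Group G]

/-- **Lemma X**. -/
theorem lemmaX [Finite G] (hG : Cfsg.IsMinSimpleOddOrder G) (h23 : H23 G)
    {M : Subgroup G} (hM : IsCoatom M) {p : ℕ} [Fact p.Prime] (hp : p ∉ Cfsg.sigma M)
    {S T : Subgroup G} (hS : IsPGroup p S) (hTσ : T ≤ Cfsg.sigmaCore M)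
    (hST : S ≤ Subgroup.normalizer (T : Set G))
    {N : Subgroup G} (hN : IsCoatom N) (hSN : S ≤ N) (hTN : T ≤ N) (hpN : p ∈ Cfsg.sigma N) :
    ∀ t ∈ T, ∀ s ∈ S, s * t = t * s := by
  have hpp : p.Prime := Fact.out
  have hcop : (Nat.card S).Coprime (Nat.card T) := by
    obtain ⟨k, hk⟩ := IsPGroup.iff_card.mp hS
    rw [hk]
    apply Nat.Coprime.pow_left
    rw [Nat.Prime.coprime_iff_not_dvd hpp]
    intro hd
    exact hp (primes_card_sigmaCore M p hpp (hd.trans (Subgroup.card_dvd_of_le hTσ)))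
  have hsolv : Group.IsSolvable S ∨ Group.IsSolvable T := Or.inl (by
    haveI := hS.isNilpotent
    infer_instance)
  obtain ⟨T4, hT4⟩ : ∃ T4 : Subgroup G, T4 = ⁅T, S⁆ := ⟨_, rfl⟩
  have hT4T : T4 ≤ T := by
    rw [hT4]; exact Cfsg.Agent.Lib.Helper1.commutator_le_of_le_normalizer hST
  have hT4eq : ⁅T4, S⁆ = T4 := by
    rw [hT4]; exact comm_comm_eq_coprime T S hST hcop hsolv
  have hSσ : S ≤ Cfsg.sigmaCore N := le_sigmaCore_of_isPGroup hG hN hpN hS hSN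
  have hcommN : ⁅N, Cfsg.sigmaCore N⁆ ≤ Cfsg.sigmaCore N := by
    rw [Subgroup.commutator_comm]
    exact Cfsg.Agent.Lib.Helper1.commutator_le_of_le_normalizer (le_normalizer_sigmaCore N)
  have hT4σ : T4 ≤ Cfsg.sigmaCore N := by
    calc T4 = ⁅T4, S⁆ := hT4eq.symm
      _ ≤ ⁅N, Cfsg.sigmaCore N⁆ := Subgroup.commutator_mono (hT4T.trans hTN) hSσ
      _ ≤ Cfsg.sigmaCore N := hcommN
  have hT4' : T4 ≤ ⁅Cfsg.sigmaCore N, Cfsg.sigmaCore N⁆ := by
    calc T4 = ⁅T4, S⁆ := hT4eq.symm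
      _ ≤ ⁅Cfsg.sigmaCore N, Cfsg.sigmaCore N⁆ := Subgroup.commutator_mono hT4σ hSσ
  have hbot : T4 = ⊥ := by
    by_contra hne
    have hcard : Nat.card T4 ≠ 1 := fun h => hne (Subgroup.card_eq_one.mp h)
    obtain ⟨q, hq, hqd⟩ := Nat.exists_prime_and_dvd hcard
    haveI : Fact q.Prime := ⟨hq⟩
    obtain ⟨x, hx⟩ := exists_prime_orderOf_dvd_card' q hqd
    obtain ⟨X, hXdef⟩ : ∃ X : Subgroup G, X = Subgroup.zpowers (x : G) := ⟨_, rfl⟩
    have hXcard : Nat.card X = q := by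
      rw [hXdef, Nat.card_zpowers, Subgroup.orderOf_coe, hx]
    have hXT4 : X ≤ T4 := by
      rw [hXdef]; exact Subgroup.zpowers_le.mpr x.2
    have hqN : q ∈ Cfsg.sigma N := by
      apply primes_card_sigmaCore N q hq
      rw [← hXcard]
      exact Subgroup.card_dvd_of_le (hXT4.trans hT4σ)
    have hqM : q ∈ Cfsg.sigma M := by
      apply primes_card_sigmaCore M q hq
      rw [← hXcard]
      exact Subgroup.card_dvd_of_le (hXT4.trans (hT4T.trans hTσ))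
    obtain ⟨P⟩ : Nonempty (Sylow q ↥(Cfsg.sigmaCore N)) := inferInstance
    obtain ⟨hPu, hPN⟩ := h23 N hN q hqN X (hXT4.trans (hT4σ.trans (sigmaCore_le N))) hXcard P
      (hXT4.trans hT4')
    obtain ⟨-, ⟨-, hidxG⟩, -⟩ := Cfsg.Agent.S1350.result hG N hN
    obtain ⟨SN, hSN'⟩ := exists_sylow_eq_of_not_dvd_index (hidxG q hq hqN) P
    obtain ⟨SM, hSMM, -, -⟩ := exists_sylow_of_mem_sigma hqM
    obtain ⟨g, hg⟩ := MulAction.exists_smul_eq G SN SM
    obtain ⟨L, ⟨hL, hPL⟩, hLu⟩ := inUniqueMaximal_map_conj g hPu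
    have hSMcoe : (SM : Subgroup G) =
        ((P : Subgroup ↥(Cfsg.sigmaCore N)).map (Cfsg.sigmaCore N).subtype).map
          (MulAut.conj g).toMonoidHom := by
      rw [← hg, sylow_smul_coe, hSN']
    have h1 : M = L := hLu M ⟨hM, by rw [← hSMcoe]; exact hSMM⟩
    have h2 : N.map (MulAut.conj g).toMonoidHom = L :=
      hLu _ ⟨isCoatom_map_conj g hN, Subgroup.map_mono hPN⟩
    have h3 : M = N.map (MulAut.conj g).toMonoidHom := h1.trans h2.symm
    exact hp (h3 ▸ sigma_map_conj hpN g)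
  rw [hT4] at hbot
  exact comm_of_commutator_eq_bot hbot

/-- **Lemma V**. -/
theorem lemmaV [Finite G] (hG : Cfsg.IsMinSimpleOddOrder G) (h18 : H18a G)
    {p : ℕ} [Fact p.Prime] {A : Subgroup G} (hAe : Cfsg.IsElementaryAbelian p A)
    (hAc : Nat.card A = p ^ 2) {N : Subgroup G} (hN : IsCoatom N)
    (hNA : Subgroup.normalizer (A : Set G) ≤ N) : p ∈ Cfsg.sigma N := by
  by_contra hσ
  have hpp : p.Prime := Fact.out
  have hAN : A ≤ N := Subgroup.le_normalizer.trans hNA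
  have hr : ¬ Cfsg.PRankLE p 1 ↥N := by
    apply Cfsg.Agent.Lib.Helper17.BGU.not_pRankLE_of_elemAb hAN
      (comm_of_isMulCommutative hAe.1) hAe.2
    rw [hAc, pow_one, sq]
    exact lt_mul_of_one_lt_left hpp.pos hpp.one_lt
  have hτ : p ∈ Cfsg.tau2 N := mem_tau2_of_not_rank_one hG hN hpp hσ hr
  obtain ⟨hHall, -, -⟩ := Cfsg.Agent.S1350.result hG N hN
  obtain ⟨E, hE⟩ := exists_compl_sigmaCore hHall
  have hAp : IsPGroup p A := isPGroup_of_elemAb hAe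
  have hcop : (Nat.card A).Coprime (Nat.card (Cfsg.sigmaCore N)) := by
    rw [hAc]
    apply Nat.Coprime.pow_left
    rw [Nat.Prime.coprime_iff_not_dvd hpp]
    intro hd
    exact hσ (primes_card_sigmaCore N p hpp hd)
  have hsolv : Group.IsSolvable A ∨ Group.IsSolvable (Cfsg.sigmaCore N) := Or.inl (by
    haveI := hAp.isNilpotent
    infer_instance)
  obtain ⟨k, hk, hkA⟩ := exists_conj_mem_compl (le_normalizer_sigmaCore N) hE hAN hcop hsolv
  have hkN : k ∈ N := sigmaCore_le N hk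
  have hE' := isComplIn_conj (le_normalizer_sigmaCore N) hE hkN
  have hAE' : A ≤ E.map (MulAut.conj k).toMonoidHom := fun a ha => mem_map_conj.mpr (hkA a ha)
  exact (h18 N hN _ hE' p hτ A ⟨hAE', hAe, hAc⟩).2 hNA

/-! ### Sylow subgroups inside subgroups, by cardinality -/

theorem isSylIn_of_not_dvd_relIndex [Finite G] {q : ℕ} [Fact q.Prime] {S K : Subgroup G}
    (hS : IsPGroup q S) (hSK : S ≤ K) (hidx : ¬ q ∣ S.relIndex K) : IsSylIn q S K := by
  have h0 : IsSylIn q S S := by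
    refine ⟨le_rfl, ?_⟩
    obtain ⟨k, hk⟩ := IsPGroup.iff_card.mp hS
    rw [hk, Nat.Prime.factorization_pow Fact.out, Finsupp.single_eq_same]
  exact isSylIn_of_hall h0 hSK hidx

/-- two Sylow subgroups of `K` are conjugate in `K` (elementwise form). -/
theorem isSylIn_conj [Finite G] {q : ℕ} [Fact q.Prime] {S3 S4 K : Subgroup G}
    (h3 : IsSylIn q S3 K) (h4 : IsSylIn q S4 K) : ∃ k ∈ K, ∀ x ∈ S4, k⁻¹ * x * k ∈ S3 := by
  obtain ⟨k, hk⟩ := MulAction.exists_smul_eq ↥K h3.toSylow h4.toSylow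
  refine ⟨k, k.2, fun x hx => ?_⟩
  have h1 : (⟨x, h4.1 hx⟩ : ↥K) ∈ ((h4.toSylow : Sylow q ↥K) : Subgroup ↥K) := by
    show (⟨x, h4.1 hx⟩ : ↥K) ∈ S4.subgroupOf K
    exact Subgroup.mem_subgroupOf.mpr hx
  rw [← hk, Cfsg.Agent.Lib.Helper1.mem_sylow_smul_iff] at h1
  have h2 : k⁻¹ * (⟨x, h4.1 hx⟩ : ↥K) * k ∈ S3.subgroupOf K := h1
  rw [Subgroup.mem_subgroupOf] at h2
  simpa using h2

/-- a normal Sylow subgroup is the only one. -/
theorem isSylIn_eq_of_normal [Finite G] {q : ℕ} [Fact q.Prime] {Q S H : Subgroup G}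
    (hQ : IsSylIn q Q H) (hQn : H ≤ Subgroup.normalizer (Q : Set G)) (hS : IsSylIn q S H) :
    S = Q := by
  obtain ⟨k, hkH, hk⟩ := isSylIn_conj hQ hS
  have hSQ : S ≤ Q := by
    intro x hx
    have h1 := hk x hx
    have h2 := (Subgroup.mem_normalizer_iff.mp (hQn hkH) (k⁻¹ * x * k)).mp h1
    have e : k * (k⁻¹ * x * k) * k⁻¹ = x := by group
    rwa [e] at h2
  exact (hS.eq_of_le hQ.isPGroup hSQ hQ.1).symm

theorem isSylIn_ne_bot [Finite G] {q : ℕ} [Fact q.Prime] {Q H : Subgroup G}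
    (hQ : IsSylIn q Q H) (hd : q ∣ Nat.card H) : Q ≠ ⊥ := by
  have hqp : q.Prime := Fact.out
  intro h
  have h1 := hQ.2
  rw [h, Subgroup.card_bot] at h1
  have h2 : (Nat.card H).factorization q = 0 := by
    by_contra h0
    have : 1 < q ^ (Nat.card H).factorization q := Nat.one_lt_pow h0 hqp.one_lt
    omega
  rcases (Nat.factorization_eq_zero_iff _ _).mp h2 with h3 | h3 | h3
  · exact h3 hqp
  · exact h3 hd
  · exact Nat.card_pos.ne' h3

/-- **Lemma W**. -/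
theorem lemmaW [Finite G] (hG : Cfsg.IsMinSimpleOddOrder G) (h24 : H24 G)
    {M H : Subgroup G} (hM : IsCoatom M) (hH : IsCoatom H)
    (hnc : ∀ g : G, H ≠ M.map (MulAut.conj g).toMonoidHom)
    {q : ℕ} [Fact q.Prime] (hqM : q ∈ Cfsg.sigma M) (hqH : q ∈ Cfsg.sigma H)
    {QH : Subgroup G} (hQH : IsSylIn q QH H) (hQHn : H ≤ Subgroup.normalizer (QH : Set G))
    {Y : Subgroup G} (hYq : IsPGroup q Y) (hYM : Y ≤ M) (hYH : Y ≤ H) : Y = ⊥ := by
  by_contra hY1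
  haveI := hG.2.1
  have hqp : q.Prime := Fact.out
  have hYtop : Y ≠ ⊤ := fun h => hM.1 (top_le_iff.mp (h ▸ hYM))
  obtain ⟨K, hK, hNK⟩ := exists_coatom_ge (normalizer_ne_top hY1 hYtop)
  have hYK : Y ≤ K := Subgroup.le_normalizer.trans hNK
  have hQH1 : QH ≠ ⊥ := isSylIn_ne_bot hQH hqH.2.1
  -- Step 1
  have step1 : ∃ S3 : Subgroup G, S3 ≤ M ∧ IsSylIn q S3 K := by
    by_cases hKM : K = M
    · obtain ⟨P⟩ : Nonempty (Sylow q ↥K) := inferInstance
      exact ⟨_, (Subgroup.map_subtype_le _).trans hKM.le,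
        Cfsg.Agent.Lib.Helper8.sylow_map_subtype_isSylIn P⟩
    · obtain ⟨S, hYS⟩ := exists_sylow_in_ge (show Y ≤ M ⊓ K from le_inf hYM hYK) hYq
      obtain ⟨-, -, hidx⟩ := h24 M hM q hqM Y hYq hY1 hYM K hK hKM hNK S hYS
      exact ⟨_, (Subgroup.map_subtype_le _).trans inf_le_left,
        isSylIn_of_not_dvd_relIndex (S.isPGroup'.map _)
          ((Subgroup.map_subtype_le _).trans inf_le_right) hidx⟩
  -- Step 2
  have step2 : ∃ S4 : Subgroup G, S4 ≤ H ∧ IsSylIn q S4 K ∧ S4 ≠ ⊥ ∧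
      Subgroup.normalizer (S4 : Set G) ≤ H := by
    by_cases hKH : K = H
    · refine ⟨QH, hQH.1, hKH ▸ hQH, hQH1, ?_⟩
      exact (normalizer_eq_of_coatom hH hQH.1 hQH1 hQHn).le
    · obtain ⟨S, hYS⟩ := exists_sylow_in_ge (show Y ≤ H ⊓ K from le_inf hYH hYK) hYq
      obtain ⟨-, hN, hidx⟩ := h24 H hH q hqH Y hYq hY1 hYH K hK hKH hNK S hYS
      refine ⟨_, (Subgroup.map_subtype_le _).trans inf_le_left,
        isSylIn_of_not_dvd_relIndex (S.isPGroup'.map _)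
          ((Subgroup.map_subtype_le _).trans inf_le_right) hidx, ?_, hN⟩
      exact fun h => hY1 (le_bot_iff.mp (h ▸ hYS))
  obtain ⟨S3, hS3M, hS3⟩ := step1
  obtain ⟨S4, hS4H, hS4, hS41, hNS4⟩ := step2
  obtain ⟨k, -, hk⟩ := isSylIn_conj hS3 hS4
  obtain ⟨M1, hM1def⟩ : ∃ M1 : Subgroup G, M1 = M.map (MulAut.conj k).toMonoidHom := ⟨_, rfl⟩
  have hM1 : IsCoatom M1 := hM1def ▸ isCoatom_map_conj k hM
  have hS4M1 : S4 ≤ M1 := fun x hx => hM1def ▸ mem_map_conj.mpr (hS3M (hk x hx))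
  have hqM1 : q ∈ Cfsg.sigma M1 := hM1def ▸ sigma_map_conj hqM k
  have hne : H ≠ M1 := hM1def ▸ hnc k
  obtain ⟨S5, hS45⟩ := exists_sylow_in_ge (show S4 ≤ M1 ⊓ H from le_inf hS4M1 hS4H) hS4.isPGroup
  obtain ⟨-, hN5, hidx5⟩ := h24 M1 hM1 q hqM1 S4 hS4.isPGroup hS41 hS4M1 H hH hne hNS4 S5 hS45
  have hS5H : (S5 : Subgroup ↥(M1 ⊓ H)).map (M1 ⊓ H).subtype ≤ H :=
    (Subgroup.map_subtype_le _).trans inf_le_right
  have hS5syl : IsSylIn q ((S5 : Subgroup ↥(M1 ⊓ H)).map (M1 ⊓ H).subtype) H :=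
    isSylIn_of_not_dvd_relIndex (S5.isPGroup'.map _) hS5H hidx5
  have hS5eq := isSylIn_eq_of_normal hQH hQHn hS5syl
  have hHM1 : H ≤ M1 := by
    rw [← hS5eq] at hQHn
    exact hQHn.trans hN5
  exact hM1.1 (hH.2 M1 (lt_of_le_of_ne hHM1 hne))

end Cfsg.Agent.Lib.Helper16.BGPrim
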