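import Mathlib
import Cfsg.Agent.Lib.Helper16.BGPrimB

/-!
# B & G Lemma 13.3(a) (= S1427) from the statements of S1417, S1418, S1423, S1424 (helper16)
-/

set_option autoImplicit false
open scoped commutatorElement

namespace Cfsg.Agent.Lib.Helper16.BGPrim

open Cfsg Cfsg.Agent.Lib.Helper1.BGX
open Cfsg.Agent.Lib.Helper8 (mem_map_conj conj_mem_map_conj map_conj_map_conj map_conj_one
  map_conj_le_iff map_conj_eq_iff card_map_conj mem_normalizer_iff_map_conj IsSylIn sylow_smul_coe)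
open Cfsg.Agent.Lib.Helper17.BGU (exists_coatom_ge normalizer_ne_top isCoatom_map_conj
  inUniqueMaximal_map_conj normalizer_eq_of_coatom)
open Cfsg.Agent.Lib.Helper2.BGCor (sigmaCore_le primes_card_sigmaCore exists_compl_sigmaCore
  conj_mem_sigmaCore elemAb_map_conj)
open Cfsg.Agent.Lib.Helper23.BGY (le_normalizer_sigmaCore exists_conj_mem_compl isComplIn_conj
  mem_tau2_of_not_rank_one exists_elemAb_sq not_mem_sigma_of_dvd_compl)

variable {G : Type*} [Group G]

/-- In a maximal subgroup `H` with `H_σ` nilpotent, `H` has a normal Sylow `q`-subgroup for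
`q ∈ σ(H)`. -/
theorem exists_normal_isSylIn [Finite G] (hG : Cfsg.IsMinSimpleOddOrder G) {H : Subgroup G}
    (hH : IsCoatom H) (hnil : Group.IsNilpotent (Cfsg.sigmaCore H)) {q : ℕ} [Fact q.Prime]
    (hq : q ∈ Cfsg.sigma H) :
    ∃ QH : Subgroup G, IsSylIn q QH H ∧ H ≤ Subgroup.normalizer (QH : Set G) := by
  obtain ⟨⟨hle, -, hidx⟩, -, -⟩ := Cfsg.Agent.S1350.result hG H hH
  obtain ⟨P⟩ : Nonempty (Sylow q ↥(Cfsg.sigmaCore H)) := inferInstance
  haveI : (P : Subgroup ↥(Cfsg.sigmaCore H)).Normal :=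
    Sylow.normal_of_normalizerCondition normalizerCondition_of_isNilpotent P
  haveI : (P : Subgroup ↥(Cfsg.sigmaCore H)).Characteristic := Sylow.characteristic_of_normal P
    inferInstance
  refine ⟨(P : Subgroup ↥(Cfsg.sigmaCore H)).map (Cfsg.sigmaCore H).subtype, ?_, ?_⟩
  · exact isSylIn_of_hall (Cfsg.Agent.Lib.Helper8.sylow_map_subtype_isSylIn P) hle
      (hidx q hq.1 hq)
  · exact (le_normalizer_sigmaCore H).trans
      (Cfsg.Agent.Lib.Helper1.normalizer_le_normalizer_map_subtype_of_characteristic _ _)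

/-- The core of S1427: `C_{M_σ}(P₀) ≤ C(S)` for the subgroup `P₀` of order `p` of a cyclic Sylow
`p`-subgroup `S` of `M`, `p ∉ σ(M)`. -/
theorem main_aux [Finite G] (hG : Cfsg.IsMinSimpleOddOrder G)
    (h17 : H17n G) (h18 : H18a G) (h23 : H23 G) (h24 : H24 G)
    {M : Subgroup G} (hM : IsCoatom M) {p : ℕ} [Fact p.Prime] (hp : p ∉ Cfsg.sigma M)
    {S' : Subgroup G} (hS'M : S' ≤ M) (hS'p : IsPGroup p S')
    (hS'c : ∀ a ∈ S', ∀ b ∈ S', a * b = b * a)
    (hrk : Cfsg.PRankLE p 1 ↥M)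
    {P0 : Subgroup G} (hP0 : P0 ≤ S') (hP0c : Nat.card P0 = p) :
    ∀ t ∈ Cfsg.sigmaCore M ⊓ Subgroup.centralizer (P0 : Set G), ∀ s ∈ S', s * t = t * s := by
  have hpp : p.Prime := Fact.out
  haveI := hG.2.1
  obtain ⟨T, hTdef⟩ : ∃ T : Subgroup G,
    T = Cfsg.sigmaCore M ⊓ Subgroup.centralizer (P0 : Set G) := ⟨_, rfl⟩
  rw [← hTdef]
  have hTσ : T ≤ Cfsg.sigmaCore M := hTdef ▸ inf_le_left
  have hTC : T ≤ Subgroup.centralizer (P0 : Set G) := hTdef ▸ inf_le_right
  have hP01 : P0 ≠ ⊥ := by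
    intro h
    rw [h, Subgroup.card_bot] at hP0c
    exact (ne_of_lt hpp.one_lt) hP0c
  have hP0top : P0 ≠ ⊤ := fun h => hM.1 (top_le_iff.mp (h ▸ hP0.trans hS'M))
  obtain ⟨H, hH, hNH⟩ := exists_coatom_ge (normalizer_ne_top hP01 hP0top)
  have hCH : Subgroup.centralizer (P0 : Set G) ≤ H :=
    (Subgroup.centralizer_le_normalizer _).trans hNH
  have hS'C : S' ≤ Subgroup.centralizer (P0 : Set G) := fun s hs =>
    Subgroup.mem_centralizer_iff.mpr (fun u hu => hS'c u (hP0 hu) s hs)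
  have hS'H : S' ≤ H := hS'C.trans hCH
  have hTH : T ≤ H := hTC.trans hCH
  -- `S'` normalizes `T`
  have key : ∀ s ∈ S', ∀ t ∈ T, s * t * s⁻¹ ∈ T := by
    intro s hs t ht
    rw [hTdef]
    refine Subgroup.mem_inf.mpr ⟨conj_mem_sigmaCore (hS'M hs) (hTσ ht), ?_⟩
    rw [Subgroup.mem_centralizer_iff]
    intro u hu
    have h1 : u * s = s * u := hS'c u (hP0 hu) s hs
    have h2 : u * t = t * u := Subgroup.mem_centralizer_iff.mp (hTC ht) u hu
    have h3 : u * s⁻¹ = s⁻¹ * u := (Commute.inv_right (show Commute u s from h1)).eq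
    calc u * (s * t * s⁻¹) = (u * s) * t * s⁻¹ := by group
      _ = s * (u * t) * s⁻¹ := by rw [h1]; group
      _ = s * t * (u * s⁻¹) := by rw [h2]; group
      _ = s * t * s⁻¹ * u := by rw [h3]; group
  have hS'T : S' ≤ Subgroup.normalizer (T : Set G) := by
    intro s hs
    rw [Subgroup.mem_normalizer_iff]
    intro t
    constructor
    · exact key s hs t
    · intro h
      have := key s⁻¹ (S'.inv_mem hs) _ h
      simpa [mul_assoc] using this
  by_cases hpH : p ∈ Cfsg.sigma H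
  · exact lemmaX hG h23 hM hp hS'p hTσ hS'T hH hS'H hTH hpH
  · obtain ⟨⟨hr2, hr1⟩, -, -⟩ := Cfsg.Agent.S1409.result hG H hH p hpH P0 hP0c hNH
    have hτ : p ∈ Cfsg.tau2 H := ⟨hpp, hpH, hr2, hr1⟩
    have hnc : ∀ g : G, H ≠ M.map (MulAut.conj g).toMonoidHom := by
      intro g hg
      apply hr1
      rw [hg]
      exact Cfsg.Agent.Lib.Helper9.pRankLE_of_injective
        (M.equivMapOfInjective _ (MulAut.conj g).injective).symm.toMonoidHom
        (M.equivMapOfInjective _ (MulAut.conj g).injective).symm.injective p 1 hrk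
    obtain ⟨A0, hA0H, hA0e, hA0c⟩ := exists_elemAb_sq (p := p) hr1
    have hnil : Group.IsNilpotent (Cfsg.sigmaCore H) := h17 H hH p hτ A0 ⟨hA0H, hA0e, hA0c⟩
    -- `p ∤ |H_σ|`
    have hpHσ : ¬ p ∣ Nat.card (Cfsg.sigmaCore H) := fun hd =>
      hpH (primes_card_sigmaCore H p hpp hd)
    -- `|T|` is coprime to `|H_σ|`
    have hcopT : (Nat.card T).Coprime (Nat.card (Cfsg.sigmaCore H)) := by
      apply Nat.coprime_of_dvd
      intro q hq hqT hqH
      haveI : Fact q.Prime := ⟨hq⟩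
      have hqσM : q ∈ Cfsg.sigma M :=
        primes_card_sigmaCore M q hq (hqT.trans (Subgroup.card_dvd_of_le hTσ))
      have hqσH : q ∈ Cfsg.sigma H := primes_card_sigmaCore H q hq hqH
      obtain ⟨QH, hQH, hQHn⟩ := exists_normal_isSylIn hG hH hnil hqσH
      obtain ⟨y, hy⟩ := exists_prime_orderOf_dvd_card' q hqT
      obtain ⟨Y, hYdef⟩ : ∃ Y : Subgroup G, Y = Subgroup.zpowers (y : G) := ⟨_, rfl⟩
      have hYcard : Nat.card Y = q := by
        rw [hYdef, Nat.card_zpowers, Subgroup.orderOf_coe, hy]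
      have hYT : Y ≤ T := by
        rw [hYdef]; exact Subgroup.zpowers_le.mpr y.2
      have hYq : IsPGroup q Y := IsPGroup.of_card (n := 1) (by rw [hYcard, pow_one])
      have hYbot := lemmaW hG h24 hM hH hnc hqσM hqσH hQH hQHn hYq
        (hYT.trans (hTσ.trans (sigmaCore_le M))) (hYT.trans hTH)
      rw [hYbot, Subgroup.card_bot] at hYcard
      exact (ne_of_lt hq.one_lt) hYcard
    have hcopS : (Nat.card S').Coprime (Nat.card (Cfsg.sigmaCore H)) := by
      obtain ⟨k, hk⟩ := IsPGroup.iff_card.mp hS'p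
      rw [hk]
      exact Nat.Coprime.pow_left k ((Nat.Prime.coprime_iff_not_dvd hpp).mpr hpHσ)
    have hcopTS : (Nat.card T).Coprime (Nat.card S') := by
      obtain ⟨k, hk⟩ := IsPGroup.iff_card.mp hS'p
      rw [hk]
      apply Nat.Coprime.pow_right
      apply Nat.Coprime.symm
      rw [Nat.Prime.coprime_iff_not_dvd hpp]
      intro hd
      exact hp (primes_card_sigmaCore M p hpp (hd.trans (Subgroup.card_dvd_of_le hTσ)))
    have hdisj : Disjoint T S' := Subgroup.disjoint_of_coprime_natCard hcopTS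
    have hcardTS : Nat.card T * Nat.card S' = Nat.card ↥(T ⊔ S') :=
      (Cfsg.Agent.Lib.Helper1.isComplIn_sup hS'T hdisj).card_mul_card
    have hcopH : (Nat.card ↥(T ⊔ S')).Coprime (Nat.card (Cfsg.sigmaCore H)) := by
      rw [← hcardTS]
      exact Nat.Coprime.mul_left hcopT hcopS
    -- complements
    obtain ⟨hHall, -, -⟩ := Cfsg.Agent.S1350.result hG H hH
    obtain ⟨E2, hE2⟩ := exists_compl_sigmaCore hHall
    have hTSH : T ⊔ S' ≤ H := sup_le hTH hS'H
    have hsolvσ : Group.IsSolvable (Cfsg.sigmaCore H) := by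
      haveI := hnil
      infer_instance
    obtain ⟨k, hk, hkTS⟩ := exists_conj_mem_compl (le_normalizer_sigmaCore H) hE2 hTSH hcopH
      (Or.inr hsolvσ)
    have hkH : k ∈ H := sigmaCore_le H hk
    obtain ⟨E3, hE3def⟩ : ∃ E3 : Subgroup G, E3 = E2.map (MulAut.conj k).toMonoidHom := ⟨_, rfl⟩
    have hE3 : Cfsg.IsComplIn E3 (Cfsg.sigmaCore H) H :=
      hE3def ▸ isComplIn_conj (le_normalizer_sigmaCore H) hE2 hkH
    have hTSE : T ⊔ S' ≤ E3 := fun a ha => hE3def ▸ mem_map_conj.mpr (hkTS a ha)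
    -- conjugate `A0` into `E3`
    have hA0p : IsPGroup p A0 := isPGroup_of_elemAb hA0e
    have hcopA : (Nat.card A0).Coprime (Nat.card (Cfsg.sigmaCore H)) := by
      rw [hA0c]
      exact Nat.Coprime.pow_left 2 ((Nat.Prime.coprime_iff_not_dvd hpp).mpr hpHσ)
    obtain ⟨k2, -, hk2A⟩ := exists_conj_mem_compl (le_normalizer_sigmaCore H) hE3 hA0H hcopA
      (Or.inr hsolvσ)
    obtain ⟨A, hAdef⟩ : ∃ A : Subgroup G, A = A0.map (MulAut.conj k2⁻¹).toMonoidHom := ⟨_, rfl⟩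
    have hAE3 : A ≤ E3 := by
      rw [hAdef]
      rintro _ ⟨a, ha, rfl⟩
      have := hk2A a ha
      simpa [MulAut.conj_apply] using this
    have hAe : Cfsg.IsElementaryAbelian p A := hAdef ▸ elemAb_map_conj hA0e _
    have hAc : Nat.card A = p ^ 2 := by rw [hAdef, card_map_conj, hA0c]
    obtain ⟨hE3N, -⟩ := h18 H hH E3 hE3 p hτ A ⟨hAE3, hAe, hAc⟩
    have hA1 : A ≠ ⊥ := by
      intro h
      rw [h, Subgroup.card_bot] at hAc
      have : 1 < p ^ 2 := Nat.one_lt_pow (by norm_num) hpp.one_lt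
      omega
    have hAtop : A ≠ ⊤ := fun h => hH.1 (top_le_iff.mp (h ▸ hAE3.trans hE3.1))
    obtain ⟨N, hN, hNAN⟩ := exists_coatom_ge (normalizer_ne_top hA1 hAtop)
    have hpN : p ∈ Cfsg.sigma N := lemmaV hG h18 hAe hAc hN hNAN
    have hE3N' : E3 ≤ N := hE3N.trans hNAN
    exact lemmaX hG h23 hM hp hS'p hTσ hS'T hN ((le_sup_right.trans hTSE).trans hE3N')
      ((le_sup_left.trans hTSE).trans hE3N') hpN

/-- **S1427** from the statements of S1417, S1418, S1423, S1424. -/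
theorem s1427_core [Finite G] (hG : Cfsg.IsMinSimpleOddOrder G)
    (h17 : H17n G) (h18 : H18a G) (h23 : H23 G) (h24 : H24 G)
    (M : Subgroup G) (hM : IsCoatom M) (E : Subgroup G)
    (hE : Cfsg.IsComplIn E (Cfsg.sigmaCore M) M) (p : ℕ) [Fact p.Prime] (S : Sylow p E)
    (hS1 : (S : Subgroup E) ≠ ⊥) (hSc : IsCyclic (S : Subgroup E)) :
    ∀ x ∈ (S : Subgroup E).map E.subtype, x ≠ 1 →
      Cfsg.sigmaCore M ⊓ Subgroup.centralizer ({x} : Set G) =
        Cfsg.sigmaCore M ⊓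
          Subgroup.centralizer (((S : Subgroup E).map E.subtype : Subgroup G) : Set G) := by
  intro x hx hx1
  have hpp : p.Prime := Fact.out
  obtain ⟨S', hS'def⟩ : ∃ S' : Subgroup G, S' = (S : Subgroup E).map E.subtype := ⟨_, rfl⟩
  rw [← hS'def] at hx ⊢
  have hEM : E ≤ M := hE.1
  have hS'E : S' ≤ E := hS'def ▸ Subgroup.map_subtype_le _
  have hS'M : S' ≤ M := hS'E.trans hEM
  have hS'p : IsPGroup p S' := hS'def ▸ S.isPGroup'.map _
  have hS'c : ∀ a ∈ S', ∀ b ∈ S', a * b = b * a := by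
    rw [hS'def]
    rintro _ ⟨a, ha, rfl⟩ _ ⟨b, hb, rfl⟩
    obtain ⟨g, hg⟩ := hSc.exists_generator
    obtain ⟨i, hi⟩ := Subgroup.mem_zpowers_iff.mp (hg ⟨a, ha⟩)
    obtain ⟨j, hj⟩ := Subgroup.mem_zpowers_iff.mp (hg ⟨b, hb⟩)
    have h1 : (⟨a, ha⟩ : ↥(S : Subgroup E)) * ⟨b, hb⟩ = ⟨b, hb⟩ * ⟨a, ha⟩ := by
      rw [← hi, ← hj, ← zpow_add, ← zpow_add, add_comm]
    have h2 := congrArg (fun z : ↥(S : Subgroup E) => ((z : ↥E) : G)) h1
    simpa using h2
  have hS'cyc : IsCyclic ↥S' := by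
    rw [hS'def]
    haveI := hSc
    exact isCyclic_of_surjective
      ((S : Subgroup E).equivMapOfInjective E.subtype E.subtype_injective).toMonoidHom
      ((S : Subgroup E).equivMapOfInjective E.subtype E.subtype_injective).surjective
  have hpE : p ∣ Nat.card E := by
    obtain ⟨k, hk⟩ := IsPGroup.iff_card.mp S.isPGroup'
    have hk0 : k ≠ 0 := by
      rintro rfl
      rw [pow_zero] at hk
      exact hS1 (Subgroup.card_eq_one.mp hk)
    exact (dvd_pow_self p hk0).trans (hk ▸ Subgroup.card_subgroup_dvd_card _)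
  have hp : p ∉ Cfsg.sigma M := not_mem_sigma_of_dvd_compl hG hM hE hpp hpE
  have hpMσ : ¬ p ∣ Nat.card (Cfsg.sigmaCore M) := fun hd =>
    hp (primes_card_sigmaCore M p hpp hd)
  have hSylE : IsSylIn p S' E := hS'def ▸ Cfsg.Agent.Lib.Helper8.sylow_map_subtype_isSylIn S
  have hidx : ¬ p ∣ E.relIndex M := by
    obtain ⟨-, hSM, hES, hprod⟩ := hE
    have hc : Cfsg.Agent.Lib.Helper1.IsComplIn E (Cfsg.sigmaCore M) M :=
      ⟨hEM, hSM, disjoint_iff.mpr hES, fun m hm => by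
        obtain ⟨a, ha, b, hb, hab⟩ := hprod m hm
        exact ⟨a, ha, b, hb, hab.symm⟩⟩
    have h1 := hc.card_mul_card
    have h2 : Nat.card E * E.relIndex M = Nat.card M := by
      have := (E.subgroupOf M).card_mul_index
      rwa [Cfsg.Agent.Lib.Helper1.card_subgroupOf_of_le hEM] at this
    have h3 : E.relIndex M = Nat.card (Cfsg.sigmaCore M) := by
      have hpos : 0 < Nat.card E := Nat.card_pos
      have : Nat.card E * E.relIndex M = Nat.card E * Nat.card (Cfsg.sigmaCore M) := by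
        rw [h2, h1]
      exact Nat.eq_of_mul_eq_mul_left hpos this
    rw [h3]
    exact hpMσ
  have hSylM : IsSylIn p S' M := isSylIn_of_hall hSylE hEM hidx
  have hrk : Cfsg.PRankLE p 1 ↥M := by
    apply pRankLE_of_isSylIn hSylM
    intro A _ hAe
    rw [pow_one]
    have h1 := card_le_of_le_cyclic hpp hS'cyc (Subgroup.map_subtype_le A) (by
      rintro _ ⟨a, ha, rfl⟩
      have := congrArg Subtype.val (hAe a ha)
      simpa using this)
    rwa [Subgroup.card_map_of_injective S'.subtype_injective] at h1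
  -- the element of order `p`
  have hxord : ∃ k, orderOf x = p ^ k := by
    obtain ⟨k, hk⟩ := hS'p ⟨x, hx⟩
    have h1 : x ^ p ^ k = 1 := by simpa using congrArg Subtype.val hk
    obtain ⟨m, -, hm⟩ := (Nat.dvd_prime_pow hpp).mp (orderOf_dvd_of_pow_eq_one h1)
    exact ⟨m, hm⟩
  obtain ⟨k, hk⟩ := hxord
  have hk0 : k ≠ 0 := by
    rintro rfl
    rw [pow_zero, orderOf_eq_one_iff] at hk
    exact hx1 hk
  have hpdvd : p ∣ orderOf x := hk ▸ dvd_pow_self p hk0
  have hx0 : orderOf x ≠ 0 := (orderOf_pos x).ne'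
  obtain ⟨z, hzdef⟩ : ∃ z : G, z = x ^ (orderOf x / p) := ⟨_, rfl⟩
  have hz : orderOf z = p := hzdef ▸ orderOf_pow_orderOf_div hx0 hpdvd
  have hP0c : Nat.card (Subgroup.zpowers z) = p := by rw [Nat.card_zpowers, hz]
  have hzS' : z ∈ S' := hzdef ▸ S'.pow_mem hx _
  have hP0S' : Subgroup.zpowers z ≤ S' := Subgroup.zpowers_le.mpr hzS'
  have key := main_aux hG h17 h18 h23 h24 hM hp hS'M hS'p hS'c hrk hP0S' hP0c
  apply le_antisymm
  · rintro y ⟨hyσ, hyC⟩
    refine Subgroup.mem_inf.mpr ⟨hyσ, ?_⟩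
    rw [Subgroup.mem_centralizer_iff]
    intro s hs
    have hyx : x * y = y * x :=
      Subgroup.mem_centralizer_iff.mp hyC x (Set.mem_singleton x)
    have hyP0 : y ∈ Subgroup.centralizer ((Subgroup.zpowers z : Subgroup G) : Set G) := by
      rw [Subgroup.mem_centralizer_iff]
      intro u hu
      obtain ⟨i, rfl⟩ := Subgroup.mem_zpowers_iff.mp hu
      rw [hzdef]
      exact ((Commute.pow_left (show Commute x y from hyx) _).zpow_left i).eq
    exact key y ⟨hyσ, hyP0⟩ s hs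
  · rintro y ⟨hyσ, hyC⟩
    exact Subgroup.mem_inf.mpr
      ⟨hyσ, Subgroup.centralizer_le (Set.singleton_subset_iff.mpr hx) hyC⟩

end Cfsg.Agent.Lib.Helper16.BGPrim
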