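import Mathlib
import Cfsg.Agent.Lib.Helper16.BGPrimC
import Cfsg.Agent.S1403
import Cfsg.Agent.S1405
import Cfsg.Agent.S1415
import Cfsg.Agent.Lib.Helper12.Cores
import Cfsg.Agent.Lib.Helper1.Hall
import Cfsg.Agent.Lib.Helper20.CoprimeHall
import Cfsg.Agent.Lib.Helper2.BGCorF
import Cfsg.Agent.Lib.Helper9.FittingHall
import Cfsg.Agent.Lib.Helper9.Cyclic
import Cfsg.Agent.Lib.Helper1.BGX2
import Cfsg.Agent.Lib.Helper21.CaminaE

/-!
# B & G Theorem 13.1(a) and 13.2 (helper16)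

Formalization of `notes/bg14/NOTES_h20.md` sections 1 and 2 (paper proofs by helper20 and helper16).
The conclusions of the frozen statements S1417, S1418, S1423, S1424 are taken as hypotheses
(`H17n`, `H18a`, `H23`, `H24` of `BGPrimA`).

* `thm13_1a`: `M`, `H` non-conjugate maximal subgroups, `p ∉ σ(M)`, `P ≤ M ∩ H` a `p`-group,
  `p ∉ τ₁(H)`; then `P` centralizes `M_σ ∩ H`.
* `thm13_2_zero`, `thm13_2_a`, `thm13_2_c`.
-/

set_option autoImplicit false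
open scoped commutatorElement

namespace Cfsg.Agent.Lib.Helper16.BGPrim

open Cfsg Cfsg.Agent.Lib.Helper1.BGX
open Cfsg.Agent.Lib.Helper8 (mem_map_conj conj_mem_map_conj map_conj_map_conj map_conj_one
  map_conj_le_iff map_conj_eq_iff card_map_conj mem_normalizer_iff_map_conj IsSylIn sylow_smul_coe)
open Cfsg.Agent.Lib.Helper17.BGU (exists_coatom_ge normalizer_ne_top isCoatom_map_conj
  inUniqueMaximal_map_conj normalizer_eq_of_coatom)
open Cfsg.Agent.Lib.Helper2.BGCor (sigmaCore_le primes_card_sigmaCore exists_compl_sigmaCore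
  conj_mem_sigmaCore elemAb_map_conj exists_conj_le_compl)
open Cfsg.Agent.Lib.Helper23.BGY (le_normalizer_sigmaCore exists_conj_mem_compl isComplIn_conj
  mem_tau2_of_not_rank_one exists_elemAb_sq not_mem_sigma_of_dvd_compl)

variable {G : Type*} [Group G]

/-! ### small general lemmas -/

theorem le_normalizer_of_conj_mem {S T : Subgroup G}
    (h : ∀ s ∈ S, ∀ t ∈ T, s * t * s⁻¹ ∈ T) : S ≤ Subgroup.normalizer (T : Set G) := by
  intro s hs
  rw [Subgroup.mem_normalizer_iff]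
  intro t
  constructor
  · exact h s hs t
  · intro ht
    have := h s⁻¹ (S.inv_mem hs) _ ht
    simpa [mul_assoc] using this

/-- a subgroup of `M ∩ H` normalizes `M_σ ∩ H`. -/
theorem le_normalizer_sigmaCore_inf {M H P : Subgroup G} (hPM : P ≤ M) (hPH : P ≤ H) :
    P ≤ Subgroup.normalizer ((Cfsg.sigmaCore M ⊓ H : Subgroup G) : Set G) := by
  apply le_normalizer_of_conj_mem
  intro s hs t ht
  exact Subgroup.mem_inf.mpr ⟨conj_mem_sigmaCore (hPM hs) ht.1,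
    H.mul_mem (H.mul_mem (hPH hs) ht.2) (H.inv_mem (hPH hs))⟩

/-- the Uniqueness Theorem in the form `UT G`. -/
theorem ut [Finite G] (hG : Cfsg.IsMinSimpleOddOrder G) : UT G :=
  fun K h1 h2 h3 => Cfsg.Agent.S1403.result hG K h1 h2 h3

theorem commutator_self_le' (H : Subgroup G) : ⁅H, H⁆ ≤ H :=
  Subgroup.commutator_le.mpr (fun a ha b hb =>
    H.mul_mem (H.mul_mem (H.mul_mem ha hb) (H.inv_mem ha)) (H.inv_mem hb))

theorem conj_mem_commutator_self {H : Subgroup G} {g x : G} (hg : g ∈ H) (hx : x ∈ ⁅H, H⁆) :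
    g * x * g⁻¹ ∈ ⁅H, H⁆ := by
  have h1 : ⁅g, x⁆ ∈ ⁅H, H⁆ :=
    Subgroup.commutator_mem_commutator hg (commutator_self_le' H hx)
  have e : g * x * g⁻¹ = ⁅g, x⁆ * x := by rw [commutatorElement_def]; group
  rw [e]; exact Subgroup.mul_mem _ h1 hx

/-- If `P` normalizes `T` then `P` normalizes `[T, P]`. -/
theorem le_normalizer_commutator {T P : Subgroup G}
    (hPT : P ≤ Subgroup.normalizer (T : Set G)) :
    P ≤ Subgroup.normalizer ((⁅T, P⁆ : Subgroup G) : Set G) := by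
  intro s hs
  rw [mem_normalizer_iff_map_conj, Subgroup.map_commutator,
    mem_normalizer_iff_map_conj.mp (hPT hs),
    mem_normalizer_iff_map_conj.mp (Subgroup.le_normalizer hs)]

/-! ### `σ(M) ∩ α(H) = ∅` for non-conjugate maximal subgroups -/

theorem not_mem_alpha_of_mem_sigma [Finite G] (hG : Cfsg.IsMinSimpleOddOrder G)
    {M H : Subgroup G} (hM : IsCoatom M) (hH : IsCoatom H)
    (hnc : ∀ g : G, H ≠ M.map (MulAut.conj g).toMonoidHom) {q : ℕ} (hqM : q ∈ Cfsg.sigma M) :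
    q ∉ Cfsg.alpha H := by
  intro hqα
  have hU := ut hG
  have hqH : q ∈ Cfsg.sigma H := alpha_subset_sigma hG hU hH hqα
  haveI : Fact q.Prime := ⟨hqM.1⟩
  obtain ⟨SH, hSHH, -, -⟩ := exists_sylow_of_mem_sigma hqH
  obtain ⟨SM, hSMM, -, -⟩ := exists_sylow_of_mem_sigma hqM
  have hr : ¬ Cfsg.PRankLE q 2 G := fun h => hqα.2
    (Cfsg.Agent.Lib.Helper9.pRankLE_of_injective H.subtype H.subtype_injective q 2 h)
  have hu := sylow_inUniqueMaximal hG hU SH hr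
  obtain ⟨g, hg⟩ := MulAction.exists_smul_eq G SH SM
  obtain ⟨L, ⟨hL, hSL⟩, hLu⟩ := inUniqueMaximal_map_conj g hu
  have hSMcoe : (SM : Subgroup G) = (SH : Subgroup G).map (MulAut.conj g).toMonoidHom := by
    rw [← hg, sylow_smul_coe]
  have h1 : M = L := hLu M ⟨hM, by rw [hSMcoe] at hSMM; exact hSMM⟩
  have h2 : H.map (MulAut.conj g).toMonoidHom = L :=
    hLu _ ⟨isCoatom_map_conj g hH, Subgroup.map_mono hSHH⟩
  have h3 : H.map (MulAut.conj g).toMonoidHom = M := h2.trans h1.symm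
  exact hnc g⁻¹ (map_conj_eq_iff.mp h3)

/-! ### Hall subgroups of solvable subgroups -/

/-- A `π`-subgroup of the solvable subgroup `E` lies in a Hall `π`-subgroup of `E`. -/
theorem exists_hall_ge' [Finite G] {E : Subgroup G} [Group.IsSolvable ↥E] (π : Set ℕ)
    {Y : Subgroup G} (hYE : Y ≤ E) (hY : ∀ p : ℕ, p.Prime → p ∣ Nat.card Y → p ∈ π) :
    ∃ K : Subgroup G, Cfsg.IsPiHallOf π K E ∧ Y ≤ K := by
  obtain ⟨m, n, hmn, hm, hn⟩ :=
    Cfsg.Agent.Lib.Helper20.exists_pi_decomp π (Nat.card E) Nat.card_pos.ne'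
  have hcop : m.Coprime n := Cfsg.Agent.Lib.Helper20.coprime_of_isPiNum hm hn
  have hY' : (Nat.card (Y.subgroupOf E)).Coprime n := by
    rw [Cfsg.Agent.Lib.Helper1.card_subgroupOf_of_le hYE]
    exact Cfsg.Agent.Lib.Helper20.coprime_of_isPiNum hY hn
  obtain ⟨K, hKc, hYK⟩ :=
    Cfsg.Agent.Lib.Helper1.hall_exists_ge m n hmn hcop (Y.subgroupOf E) hY'
  refine ⟨K.map E.subtype, ?_, ?_⟩
  · rw [Cfsg.Agent.Lib.Helper20.isPiHallOf_iff hmn hm hn]
    refine ⟨Subgroup.map_subtype_le _, ?_⟩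
    rw [Subgroup.card_map_of_injective E.subtype_injective, hKc]
  · intro y hy
    exact ⟨⟨y, hYE hy⟩, hYK (Subgroup.mem_subgroupOf.mpr hy), rfl⟩

/-! ### the case `p ∈ τ₃(H)` -/

/-- For `p ∈ τ₃(H)` every `p`-subgroup of `H` lies in `H'`. -/
theorem le_commutator_of_mem_tau3 [Finite G] (hG : Cfsg.IsMinSimpleOddOrder G)
    {H : Subgroup G} (hH : IsCoatom H) {p : ℕ} [Fact p.Prime] (hτ : p ∈ Cfsg.tau3 H)
    {P : Subgroup G} (hPp : IsPGroup p P) (hPH : P ≤ H) : P ≤ ⁅H, H⁆ := by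
  have hpp : p.Prime := Fact.out
  obtain ⟨hHall, -, -⟩ := Cfsg.Agent.S1350.result hG H hH
  obtain ⟨E, hE⟩ := exists_compl_sigmaCore hHall
  have hprime : ∀ r : ℕ, r.Prime → r ∣ Nat.card P → r = p := by
    intro r hr hd
    obtain ⟨k, hk⟩ := IsPGroup.iff_card.mp hPp
    rw [hk] at hd
    exact (Nat.prime_dvd_prime_iff_eq hr hpp).mp (hr.dvd_of_dvd_pow hd)
  obtain ⟨g, hgH, hPE⟩ := exists_conj_le_compl hG hH hHall hE hPH
    (fun r hr hd => by rw [hprime r hr hd]; exact hτ.2.1)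
  haveI : Group.IsSolvable ↥H := hG.2.2.2 H hH.1
  haveI : Group.IsSolvable ↥E :=
    solvable_of_solvable_injective (Subgroup.inclusion_injective hE.1)
  obtain ⟨E3, hE3, hPE3⟩ := exists_hall_ge' (Cfsg.tau3 H) hPE
    (fun r hr hd => by
      rw [card_map_conj] at hd
      rw [hprime r hr hd]; exact hτ)
  obtain ⟨-, -, h3⟩ := Cfsg.Agent.S1415.result hG H hH E hE
  obtain ⟨-, hE3E', -⟩ := h3 E3 hE3
  intro x hx
  have h1 : g * x * g⁻¹ ∈ ⁅H, H⁆ :=
    Subgroup.commutator_mono hE.1 hE.1 (hE3E' (hPE3 (conj_mem_map_conj hx)))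
  have h2 := conj_mem_commutator_self (H.inv_mem hgH) h1
  have e : g⁻¹ * (g * x * g⁻¹) * g⁻¹⁻¹ = x := by group
  rw [e] at h2
  exact h2

/-- A subgroup of `H'` of order prime to `α(H)` is nilpotent (from S1405). -/
theorem isNilpotent_of_le_commutator [Finite G] (hG : Cfsg.IsMinSimpleOddOrder G)
    {H : Subgroup G} (hH : IsCoatom H) {W : Subgroup G} (hWH : W ≤ ⁅H, H⁆)
    (hcop : ∀ q : ℕ, q.Prime → q ∣ Nat.card W → q ∉ Cfsg.alpha H) :
    Group.IsNilpotent ↥W := by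
  obtain ⟨-, -, -, -, hnil⟩ := Cfsg.Agent.S1405.result hG H hH
  have hWH' : W ≤ H := hWH.trans (commutator_self_le' H)
  obtain ⟨A, hAdef⟩ : ∃ A : Subgroup ↥H, A = Cfsg.piCore (Cfsg.alpha H) ↥H := ⟨_, rfl⟩
  haveI hAn : A.Normal := hAdef ▸ inferInstance
  have hnil' : Group.IsNilpotent ↥((commutator ↥H).map (QuotientGroup.mk' A)) := by
    subst hAdef; exact hnil
  let g0 : ↥W →* ↥H ⧸ A := (QuotientGroup.mk' A).comp (Subgroup.inclusion hWH')
  have hg0 : ∀ x, g0 x ∈ (commutator ↥H).map (QuotientGroup.mk' A) := by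
    intro x
    have hx : (x : G) ∈ ⁅H, H⁆ := hWH x.2
    rw [← Subgroup.map_subtype_commutator] at hx
    obtain ⟨y, hy, hyx⟩ := hx
    refine ⟨y, hy, ?_⟩
    show QuotientGroup.mk' A y = QuotientGroup.mk' A (Subgroup.inclusion hWH' x)
    congr 1
    exact Subtype.ext hyx
  let g : ↥W →* ↥((commutator ↥H).map (QuotientGroup.mk' A)) := g0.codRestrict _ hg0
  have hginj : Function.Injective g := by
    rw [injective_iff_map_eq_one]
    intro a ha
    have h3 : g0 a = 1 := congrArg Subtype.val ha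
    have h4 : Subgroup.inclusion hWH' a ∈ A := (QuotientGroup.eq_one_iff _).mp h3
    by_contra hne
    have hord : orderOf a ≠ 1 := fun h => hne (orderOf_eq_one_iff.mp h)
    obtain ⟨q, hq, hqd⟩ := Nat.exists_prime_and_dvd hord
    have h5 : q ∣ Nat.card W := hqd.trans (orderOf_dvd_natCard a)
    have h6 : q ∣ Nat.card A := by
      have e1 : orderOf (Subgroup.inclusion hWH' a) = orderOf a :=
        orderOf_injective _ (Subgroup.inclusion_injective hWH') a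
      have e2 : orderOf (⟨Subgroup.inclusion hWH' a, h4⟩ : A) = orderOf a := by
        rw [← e1]; exact Subgroup.orderOf_mk _ _
      rw [← e2] at hqd
      exact hqd.trans (orderOf_dvd_natCard _)
    rw [hAdef] at h6
    exact hcop q hq h5 (Cfsg.Agent.Lib.Helper12.piCore_mem (Cfsg.alpha H) q hq h6)
  haveI := hnil'
  apply Subgroup.isNilpotent_of_ker_le_center g
  rw [(MonoidHom.ker_eq_bot_iff g).mpr hginj]
  exact bot_le

/-- coprimality of a `p`-group and a subgroup of `M_σ`, `p ∉ σ(M)`. -/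
theorem coprime_of_not_mem_sigma [Finite G] {M : Subgroup G} {p : ℕ} [Fact p.Prime]
    (hp : p ∉ Cfsg.sigma M) {P T : Subgroup G} (hPp : IsPGroup p P)
    (hTσ : T ≤ Cfsg.sigmaCore M) : (Nat.card P).Coprime (Nat.card T) := by
  have hpp : p.Prime := Fact.out
  obtain ⟨k, hk⟩ := IsPGroup.iff_card.mp hPp
  rw [hk]
  apply Nat.Coprime.pow_left
  rw [Nat.Prime.coprime_iff_not_dvd hpp]
  intro hd
  exact hp (primes_card_sigmaCore M p hpp (hd.trans (Subgroup.card_dvd_of_le hTσ)))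

/-- **13.1(a)**, case `p ∈ τ₃(H)`. -/
theorem comm_of_mem_tau3 [Finite G] (hG : Cfsg.IsMinSimpleOddOrder G)
    {M H : Subgroup G} (hM : IsCoatom M) (hH : IsCoatom H)
    (hnc : ∀ g : G, H ≠ M.map (MulAut.conj g).toMonoidHom)
    {p : ℕ} [Fact p.Prime] (hp : p ∉ Cfsg.sigma M) (hτ : p ∈ Cfsg.tau3 H)
    {P T : Subgroup G} (hPp : IsPGroup p P) (hTσ : T ≤ Cfsg.sigmaCore M)
    (hPT : P ≤ Subgroup.normalizer (T : Set G)) (hPH : P ≤ H) (hTH : T ≤ H) :
    ∀ t ∈ T, ∀ s ∈ P, s * t = t * s := by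
  have hpp : p.Prime := Fact.out
  have hcop : (Nat.card P).Coprime (Nat.card T) := coprime_of_not_mem_sigma hp hPp hTσ
  have hsolv : Group.IsSolvable P ∨ Group.IsSolvable T := Or.inl (by
    haveI := hPp.isNilpotent
    infer_instance)
  obtain ⟨T4, hT4⟩ : ∃ T4 : Subgroup G, T4 = ⁅T, P⁆ := ⟨_, rfl⟩
  have hT4T : T4 ≤ T := by
    rw [hT4]; exact Cfsg.Agent.Lib.Helper1.commutator_le_of_le_normalizer hPT
  have hT4eq : ⁅T4, P⁆ = T4 := by
    rw [hT4]; exact comm_comm_eq_coprime T P hPT hcop hsolv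
  have hPT4 : P ≤ Subgroup.normalizer (T4 : Set G) := hT4 ▸ le_normalizer_commutator hPT
  have hPH' : P ≤ ⁅H, H⁆ := le_commutator_of_mem_tau3 hG hH hτ hPp hPH
  have hT4H' : T4 ≤ ⁅H, H⁆ := hT4 ▸ Subgroup.commutator_mono hTH hPH
  obtain ⟨W, hWdef⟩ : ∃ W : Subgroup G, W = T4 ⊔ P := ⟨_, rfl⟩
  have hWH' : W ≤ ⁅H, H⁆ := hWdef ▸ sup_le hT4H' hPH'
  have hdisj : Disjoint T P := Subgroup.disjoint_of_coprime_natCard hcop.symm
  have hcardTP : Nat.card T * Nat.card P = Nat.card ↥(T ⊔ P) :=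
    (Cfsg.Agent.Lib.Helper1.isComplIn_sup hPT hdisj).card_mul_card
  have hWTP : W ≤ T ⊔ P := hWdef ▸ sup_le (hT4T.trans le_sup_left) le_sup_right
  have hWnil : Group.IsNilpotent ↥W := by
    apply isNilpotent_of_le_commutator hG hH hWH'
    intro q hq hqd
    have h1 : q ∣ Nat.card T * Nat.card P := by
      rw [hcardTP]; exact hqd.trans (Subgroup.card_dvd_of_le hWTP)
    rcases (Nat.Prime.dvd_mul hq).mp h1 with h | h
    · exact not_mem_alpha_of_mem_sigma hG hM hH hnc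
        (primes_card_sigmaCore M q hq (h.trans (Subgroup.card_dvd_of_le hTσ)))
    · obtain ⟨k, hk⟩ := IsPGroup.iff_card.mp hPp
      rw [hk] at h
      have hqp : q = p := (Nat.prime_dvd_prime_iff_eq hq hpp).mp (hq.dvd_of_dvd_pow h)
      rw [hqp]
      intro hα
      exact hα.2 (pRankLE_mono hpp.pos (by norm_num) hτ.2.2.2)
  have hPC : P ≤ Subgroup.centralizer (T4 : Set G) := by
    intro u hu
    apply Cfsg.Agent.Lib.Helper9.mem_centralizer_of_nilpotent_of_coprime W T4 hWnil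
      (hWdef ▸ le_sup_left) u (hWdef ▸ (le_sup_right : P ≤ T4 ⊔ P) hu) (hPT4 hu)
    have h1 : orderOf u ∣ Nat.card P := by
      have := orderOf_dvd_natCard (⟨u, hu⟩ : P)
      rwa [Subgroup.orderOf_mk] at this
    exact Nat.Coprime.coprime_dvd_left h1
      (Nat.Coprime.coprime_dvd_right (Subgroup.card_dvd_of_le hT4T) hcop)
  have hbot : T4 = ⊥ := by
    rw [← hT4eq, Subgroup.commutator_comm]
    exact Subgroup.commutator_eq_bot_iff_le_centralizer.mpr hPC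
  rw [hT4] at hbot
  exact comm_of_commutator_eq_bot hbot

/-! ### the case `p ∈ τ₂(H)` -/

/-- **13.1(a)**, case `p ∈ τ₂(H)`. -/
theorem comm_of_mem_tau2 [Finite G] (hG : Cfsg.IsMinSimpleOddOrder G)
    (h17 : H17n G) (h18 : H18a G) (h23 : H23 G) (h24 : H24 G)
    {M H : Subgroup G} (hM : IsCoatom M) (hH : IsCoatom H)
    (hnc : ∀ g : G, H ≠ M.map (MulAut.conj g).toMonoidHom)
    {p : ℕ} [Fact p.Prime] (hp : p ∉ Cfsg.sigma M) (hτ : p ∈ Cfsg.tau2 H)
    {P T : Subgroup G} (hPp : IsPGroup p P) (hTσ : T ≤ Cfsg.sigmaCore M)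
    (hPT : P ≤ Subgroup.normalizer (T : Set G)) (hPH : P ≤ H) (hTH : T ≤ H) :
    ∀ t ∈ T, ∀ s ∈ P, s * t = t * s := by
  have hpp : p.Prime := Fact.out
  haveI := hG.2.1
  have hpH : p ∉ Cfsg.sigma H := hτ.2.1
  have hr1 : ¬ Cfsg.PRankLE p 1 ↥H := hτ.2.2.2
  obtain ⟨A0, hA0H, hA0e, hA0c⟩ := exists_elemAb_sq (p := p) hr1
  have hnil : Group.IsNilpotent (Cfsg.sigmaCore H) := h17 H hH p hτ A0 ⟨hA0H, hA0e, hA0c⟩
  have hpHσ : ¬ p ∣ Nat.card (Cfsg.sigmaCore H) := fun hd =>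
    hpH (primes_card_sigmaCore H p hpp hd)
  -- `|T|` is coprime to `|H_σ|`
  have hcopT : (Nat.card T).Coprime (Nat.card (Cfsg.sigmaCore H)) := by
    apply Nat.coprime_of_dvd
    intro q hq hqT hqH
    haveI : Fact q.Prime := ⟨hq⟩
    have hqσM : q ∈ Cfsg.sigma M :=
      primes_card_sigmaCore M q hq (hqT.trans (Subgroup.card_dvd_of_le hTσ))
    have hqσH : q ∈ Cfsg.sigma H := primes_card_sigmaCore H q hq hqH
    obtain ⟨QH, hQH, hQHn⟩ := exists_normal_isSylIn hG hH hnil hqσH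
    obtain ⟨y, hy⟩ := exists_prime_orderOf_dvd_card' q hqT
    obtain ⟨Y, hYdef⟩ : ∃ Y : Subgroup G, Y = Subgroup.zpowers (y : G) := ⟨_, rfl⟩
    have hYcard : Nat.card Y = q := by
      rw [hYdef, Nat.card_zpowers, Subgroup.orderOf_coe, hy]
    have hYT : Y ≤ T := by
      rw [hYdef]; exact Subgroup.zpowers_le.mpr y.2
    have hYq : IsPGroup q Y := IsPGroup.of_card (n := 1) (by rw [hYcard, pow_one])
    have hYbot := lemmaW hG h24 hM hH hnc hqσM hqσH hQH hQHn hYq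
      (hYT.trans (hTσ.trans (sigmaCore_le M))) (hYT.trans hTH)
    rw [hYbot, Subgroup.card_bot] at hYcard
    exact (ne_of_lt hq.one_lt) hYcard
  have hcopS : (Nat.card P).Coprime (Nat.card (Cfsg.sigmaCore H)) := by
    obtain ⟨k, hk⟩ := IsPGroup.iff_card.mp hPp
    rw [hk]
    exact Nat.Coprime.pow_left k ((Nat.Prime.coprime_iff_not_dvd hpp).mpr hpHσ)
  have hcopTS : (Nat.card T).Coprime (Nat.card P) :=
    (coprime_of_not_mem_sigma hp hPp hTσ).symm
  have hdisj : Disjoint T P := Subgroup.disjoint_of_coprime_natCard hcopTS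
  have hcardTS : Nat.card T * Nat.card P = Nat.card ↥(T ⊔ P) :=
    (Cfsg.Agent.Lib.Helper1.isComplIn_sup hPT hdisj).card_mul_card
  have hcopH : (Nat.card ↥(T ⊔ P)).Coprime (Nat.card (Cfsg.sigmaCore H)) := by
    rw [← hcardTS]
    exact Nat.Coprime.mul_left hcopT hcopS
  -- complements
  obtain ⟨hHall, -, -⟩ := Cfsg.Agent.S1350.result hG H hH
  obtain ⟨E2, hE2⟩ := exists_compl_sigmaCore hHall
  have hTSH : T ⊔ P ≤ H := sup_le hTH hPH
  have hsolvσ : Group.IsSolvable (Cfsg.sigmaCore H) := by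
    haveI := hnil
    infer_instance
  obtain ⟨k, hk, hkTS⟩ := exists_conj_mem_compl (le_normalizer_sigmaCore H) hE2 hTSH hcopH
    (Or.inr hsolvσ)
  have hkH : k ∈ H := sigmaCore_le H hk
  obtain ⟨E3, hE3def⟩ : ∃ E3 : Subgroup G, E3 = E2.map (MulAut.conj k).toMonoidHom := ⟨_, rfl⟩
  have hE3 : Cfsg.IsComplIn E3 (Cfsg.sigmaCore H) H :=
    hE3def ▸ isComplIn_conj (le_normalizer_sigmaCore H) hE2 hkH
  have hTSE : T ⊔ P ≤ E3 := fun a ha => hE3def ▸ mem_map_conj.mpr (hkTS a ha)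
  -- conjugate `A0` into `E3`
  have hcopA : (Nat.card A0).Coprime (Nat.card (Cfsg.sigmaCore H)) := by
    rw [hA0c]
    exact Nat.Coprime.pow_left 2 ((Nat.Prime.coprime_iff_not_dvd hpp).mpr hpHσ)
  obtain ⟨k2, -, hk2A⟩ := exists_conj_mem_compl (le_normalizer_sigmaCore H) hE3 hA0H hcopA
    (Or.inr hsolvσ)
  obtain ⟨A, hAdef⟩ : ∃ A : Subgroup G, A = A0.map (MulAut.conj k2⁻¹).toMonoidHom := ⟨_, rfl⟩
  have hAE3 : A ≤ E3 := by
    rw [hAdef]
    rintro _ ⟨a, ha, rfl⟩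
    have := hk2A a ha
    simpa [MulAut.conj_apply] using this
  have hAe : Cfsg.IsElementaryAbelian p A := hAdef ▸ elemAb_map_conj hA0e _
  have hAc : Nat.card A = p ^ 2 := by rw [hAdef, card_map_conj, hA0c]
  obtain ⟨hE3N, -⟩ := h18 H hH E3 hE3 p hτ A ⟨hAE3, hAe, hAc⟩
  have hA1 : A ≠ ⊥ := by
    intro h
    rw [h, Subgroup.card_bot] at hAc
    have : 1 < p ^ 2 := Nat.one_lt_pow (by norm_num) hpp.one_lt
    omega
  have hAtop : A ≠ ⊤ := fun h => hH.1 (top_le_iff.mp (h ▸ hAE3.trans hE3.1))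
  obtain ⟨N, hN, hNAN⟩ := exists_coatom_ge (normalizer_ne_top hA1 hAtop)
  have hpN : p ∈ Cfsg.sigma N := lemmaV hG h18 hAe hAc hN hNAN
  have hE3N' : E3 ≤ N := hE3N.trans hNAN
  exact lemmaX hG h23 hM hp hPp hTσ hPT hN ((le_sup_right.trans hTSE).trans hE3N')
    ((le_sup_left.trans hTSE).trans hE3N') hpN

/-! ### Theorem 13.1(a) -/

/-- **B & G 13.1(a)** (in the form of `notes/bg14/NOTES_h20.md`): `M`, `H` non-conjugate maximal
subgroups, `p ∉ σ(M)`, `P ≤ M ∩ H` a `p`-subgroup, `p ∉ τ₁(H)`; then `[M_σ ∩ H, P] = 1`. -/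
theorem thm13_1a [Finite G] (hG : Cfsg.IsMinSimpleOddOrder G)
    (h17 : H17n G) (h18 : H18a G) (h23 : H23 G) (h24 : H24 G)
    {M H : Subgroup G} (hM : IsCoatom M) (hH : IsCoatom H)
    (hnc : ∀ g : G, H ≠ M.map (MulAut.conj g).toMonoidHom)
    {p : ℕ} [Fact p.Prime] (hp : p ∉ Cfsg.sigma M)
    {P : Subgroup G} (hPp : IsPGroup p P) (hPM : P ≤ M) (hPH : P ≤ H)
    (hpτ1 : p ∉ Cfsg.tau1 H) :
    ∀ t ∈ Cfsg.sigmaCore M ⊓ H, ∀ s ∈ P, s * t = t * s := by
  have hpp : p.Prime := Fact.out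
  have hPT := le_normalizer_sigmaCore_inf hPM hPH
  by_cases hpH : p ∈ Cfsg.sigma H
  · exact lemmaX hG h23 hM hp hPp inf_le_left hPT hH hPH inf_le_right hpH
  by_cases hr1 : Cfsg.PRankLE p 1 ↥H
  swap
  · exact comm_of_mem_tau2 hG h17 h18 h23 h24 hM hH hnc hp
      (mem_tau2_of_not_rank_one hG hH hpp hpH hr1) hPp inf_le_left hPT hPH inf_le_right
  by_cases hd : p ∣ Nat.card ↥⁅H, H⁆
  · exact comm_of_mem_tau3 hG hM hH hnc hp ⟨hpp, hpH, hd, hr1⟩ hPp inf_le_left hPT hPH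
      inf_le_right
  have hpH' : ¬ p ∣ Nat.card H := fun h => hpτ1 ⟨hpp, hpH, h, hd, hr1⟩
  have hP1 : P = ⊥ := by
    obtain ⟨k, hk⟩ := IsPGroup.iff_card.mp hPp
    have hk0 : k = 0 := by
      by_contra hk0
      exact hpH' ((dvd_pow_self p hk0).trans (hk ▸ Subgroup.card_dvd_of_le hPH))
    rw [hk0, pow_zero] at hk
    exact Subgroup.card_eq_one.mp hk
  intro t _ s hs
  rw [hP1, Subgroup.mem_bot] at hs
  rw [hs, one_mul, mul_one]

/-- **13.1(a)** for subgroups of composite order (= 13.2(b)): `X ≤ M ∩ H` such that no prime divisor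
of `|X|` lies in `σ(M) ∪ τ₁(H)` centralizes `M_σ ∩ H`. -/
theorem thm13_1a_pi [Finite G] (hG : Cfsg.IsMinSimpleOddOrder G)
    (h17 : H17n G) (h18 : H18a G) (h23 : H23 G) (h24 : H24 G)
    {M H : Subgroup G} (hM : IsCoatom M) (hH : IsCoatom H)
    (hnc : ∀ g : G, H ≠ M.map (MulAut.conj g).toMonoidHom)
    {X : Subgroup G} (hXM : X ≤ M) (hXH : X ≤ H)
    (hX : ∀ r : ℕ, r.Prime → r ∣ Nat.card X → r ∉ Cfsg.sigma M ∧ r ∉ Cfsg.tau1 H) :
    ∀ t ∈ Cfsg.sigmaCore M ⊓ H, ∀ x ∈ X, x * t = t * x := by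
  have hle : X ≤ Subgroup.centralizer ((Cfsg.sigmaCore M ⊓ H : Subgroup G) : Set G) := by
    apply Cfsg.Agent.Lib.Helper21.Camina.le_of_sylows
    intro r hr
    obtain ⟨R⟩ : Nonempty (Sylow r ↥X) := inferInstance
    refine ⟨R, ?_⟩
    have hRX : (R : Subgroup ↥X).map X.subtype ≤ X := Subgroup.map_subtype_le _
    have hRp : IsPGroup r ((R : Subgroup ↥X).map X.subtype) := R.isPGroup'.map _
    by_cases hd : r ∣ Nat.card X
    · obtain ⟨h1, h2⟩ := hX r hr.out hd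
      intro s hs
      rw [Subgroup.mem_centralizer_iff]
      intro t ht
      exact (thm13_1a hG h17 h18 h23 h24 hM hH hnc h1 hRp (hRX.trans hXM) (hRX.trans hXH) h2
        t ht s hs).symm
    · have h1 : Nat.card (R : Subgroup ↥X) = 1 := by
        rw [R.card_eq_multiplicity, Nat.factorization_eq_zero_of_not_dvd hd, pow_zero]
      rw [Subgroup.card_eq_one.mp h1, Subgroup.map_bot]
      exact bot_le
  intro t ht x hx
  exact (Subgroup.mem_centralizer_iff.mp (hle hx) t ht).symm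

/-! ### Theorem 13.2 -/

/-- **B & G 13.2(0)**: `p ∉ σ(M)`, `M` of `p`-rank at most one (i.e. `p ∈ τ₁(M) ∪ τ₃(M)` when
`p ∣ |M|`), `P ≠ 1` a `p`-subgroup and `H` a maximal subgroup containing `N_G(P)`.  Then `H` is not
conjugate to `M`, `p ∈ σ(H) ∪ τ₂(H)` and in particular `p ∉ τ₁(H)`. -/
theorem thm13_2_zero [Finite G] (hG : Cfsg.IsMinSimpleOddOrder G)
    {M H : Subgroup G} (hH : IsCoatom H) {p : ℕ} [Fact p.Prime] (hp : p ∉ Cfsg.sigma M)
    (hrk : Cfsg.PRankLE p 1 ↥M) {P : Subgroup G} (hPp : IsPGroup p P) (hP1 : P ≠ ⊥)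
    (hNH : Subgroup.normalizer (P : Set G) ≤ H) :
    (∀ g : G, H ≠ M.map (MulAut.conj g).toMonoidHom) ∧
      (p ∈ Cfsg.sigma H ∨ p ∈ Cfsg.tau2 H) ∧ p ∉ Cfsg.tau1 H := by
  have hpp : p.Prime := Fact.out
  haveI := hG.2.1
  have hPH : P ≤ H := Subgroup.le_normalizer.trans hNH
  have hpdvd : p ∣ Nat.card H := by
    obtain ⟨k, hk⟩ := IsPGroup.iff_card.mp hPp
    have hk0 : k ≠ 0 := by
      rintro rfl
      rw [pow_zero] at hk
      exact hP1 (Subgroup.card_eq_one.mp hk)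
    exact (dvd_pow_self p hk0).trans (hk ▸ Subgroup.card_dvd_of_le hPH)
  have key : p ∉ Cfsg.sigma H → ¬ Cfsg.PRankLE p 1 ↥H := by
    intro hpH hr1
    apply hpH
    obtain ⟨Q, hQ⟩ := (hPp.comap_subtype (K := H)).exists_le_sylow
    obtain ⟨Q', hQ'def⟩ : ∃ Q' : Subgroup G, Q' = (Q : Subgroup ↥H).map H.subtype := ⟨_, rfl⟩
    have hQ'H : Q' ≤ H := hQ'def ▸ Subgroup.map_subtype_le _
    have hQ'p : IsPGroup p Q' := hQ'def ▸ Q.isPGroup'.map _
    have hPQ' : P ≤ Q' := by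
      intro x hx
      rw [hQ'def]
      exact ⟨⟨x, hPH hx⟩, hQ (Subgroup.mem_subgroupOf.mpr hx), rfl⟩
    have hQ'cyc : IsCyclic ↥Q' := by
      apply Cfsg.Agent.Lib.Helper23.BGY.isCyclic_of_rank_one_nilpotent hG.1 hQ'H
        hQ'p.isNilpotent
      intro r hr hd
      obtain ⟨k, hk⟩ := IsPGroup.iff_card.mp hQ'p
      rw [hk] at hd
      rw [(Nat.prime_dvd_prime_iff_eq hr hpp).mp (hr.dvd_of_dvd_pow hd)]
      exact hr1
    refine ⟨hpp, hpdvd, Q, ?_⟩
    rw [← hQ'def]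
    intro n hn
    apply hNH
    rw [mem_normalizer_iff_map_conj]
    have h1 : P.map (MulAut.conj n).toMonoidHom ≤ Q' := by
      calc P.map (MulAut.conj n).toMonoidHom ≤ Q'.map (MulAut.conj n).toMonoidHom :=
            Subgroup.map_mono hPQ'
        _ = Q' := mem_normalizer_iff_map_conj.mp hn
    exact Cfsg.Agent.Lib.Helper9.eq_of_card_eq_of_le_isCyclic Q' _ _ h1 hPQ' (card_map_conj P n)
  have hor : p ∈ Cfsg.sigma H ∨ p ∈ Cfsg.tau2 H := by
    by_cases hpH : p ∈ Cfsg.sigma H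
    · exact Or.inl hpH
    · exact Or.inr (mem_tau2_of_not_rank_one hG hH hpp hpH (key hpH))
  refine ⟨?_, hor, ?_⟩
  · intro g hg
    rcases hor with h | h
    · apply hp
      have h1 := sigma_map_conj h g⁻¹
      rw [hg, map_conj_map_conj, inv_mul_cancel, map_conj_one] at h1
      exact h1
    · apply h.2.2.2
      rw [hg]
      exact Cfsg.Agent.Lib.Helper9.pRankLE_of_injective
        (M.equivMapOfInjective _ (MulAut.conj g).injective).symm.toMonoidHom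
        (M.equivMapOfInjective _ (MulAut.conj g).injective).symm.injective p 1 hrk
  · rintro ⟨-, h1, -, -, h2⟩
    rcases hor with h | h
    · exact h1 h
    · exact h.2.2.2 h2

/-- **B & G 13.2(a)**: in the situation of 13.2, every `p`-subgroup of `M ∩ H` centralizes
`M_σ ∩ H`. -/
theorem thm13_2_a [Finite G] (hG : Cfsg.IsMinSimpleOddOrder G)
    (h17 : H17n G) (h18 : H18a G) (h23 : H23 G) (h24 : H24 G)
    {M H : Subgroup G} (hM : IsCoatom M) (hH : IsCoatom H) {p : ℕ} [Fact p.Prime]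
    (hp : p ∉ Cfsg.sigma M) (hrk : Cfsg.PRankLE p 1 ↥M) {P : Subgroup G} (hPp : IsPGroup p P)
    (hP1 : P ≠ ⊥) (hNH : Subgroup.normalizer (P : Set G) ≤ H)
    {S : Subgroup G} (hSp : IsPGroup p S) (hSM : S ≤ M) (hSH : S ≤ H) :
    ∀ t ∈ Cfsg.sigmaCore M ⊓ H, ∀ s ∈ S, s * t = t * s := by
  obtain ⟨hnc, -, hτ1⟩ := thm13_2_zero hG hH hp hrk hPp hP1 hNH
  exact thm13_1a hG h17 h18 h23 h24 hM hH hnc hp hSp hSM hSH hτ1

/-- **B & G 13.2(c)**: in the situation of 13.2 (with `P ≤ M`), `M_σ ∩ H = C_{M_σ}(P)`. -/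
theorem thm13_2_c [Finite G] (hG : Cfsg.IsMinSimpleOddOrder G)
    (h17 : H17n G) (h18 : H18a G) (h23 : H23 G) (h24 : H24 G)
    {M H : Subgroup G} (hM : IsCoatom M) (hH : IsCoatom H) {p : ℕ} [Fact p.Prime]
    (hp : p ∉ Cfsg.sigma M) (hrk : Cfsg.PRankLE p 1 ↥M) {P : Subgroup G} (hPp : IsPGroup p P)
    (hP1 : P ≠ ⊥) (hPM : P ≤ M) (hNH : Subgroup.normalizer (P : Set G) ≤ H) :
    Cfsg.sigmaCore M ⊓ H = Cfsg.sigmaCore M ⊓ Subgroup.centralizer (P : Set G) := by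
  have hPH : P ≤ H := Subgroup.le_normalizer.trans hNH
  apply le_antisymm
  · intro t ht
    refine Subgroup.mem_inf.mpr ⟨ht.1, ?_⟩
    rw [Subgroup.mem_centralizer_iff]
    intro s hs
    exact thm13_2_a hG h17 h18 h23 h24 hM hH hp hrk hPp hP1 hNH hPp hPM hPH t ht s hs
  · exact inf_le_inf_left _ ((Subgroup.centralizer_le_normalizer _).trans hNH)

end Cfsg.Agent.Lib.Helper16.BGPrim
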