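import Mathlib
import Cfsg.Agent.Lib.Helper16.BGPrimD

/-!
# B & G Lemma 13.3(b): a Hall `τ₃(M)`-subgroup of `E` acts in a prime manner on `M_σ` (helper16)

Formalization of `notes/bg14/NOTES_h20.md` section 3.
The conclusions of the frozen statements S1417, S1418, S1423, S1424 are taken as hypotheses
(`H17n`, `H18a`, `H23`, `H24` of `BGPrimA`).
-/

set_option autoImplicit false
open scoped commutatorElement

namespace Cfsg.Agent.Lib.Helper16.BGPrim

open Cfsg Cfsg.Agent.Lib.Helper1.BGX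
open Cfsg.Agent.Lib.Helper8 (mem_map_conj conj_mem_map_conj map_conj_map_conj map_conj_one
  map_conj_le_iff map_conj_eq_iff card_map_conj mem_normalizer_iff_map_conj IsSylIn sylow_smul_coe)
open Cfsg.Agent.Lib.Helper17.BGU (exists_coatom_ge normalizer_ne_top isCoatom_map_conj
  inUniqueMaximal_map_conj normalizer_eq_of_coatom)
open Cfsg.Agent.Lib.Helper2.BGCor (sigmaCore_le primes_card_sigmaCore exists_compl_sigmaCore
  conj_mem_sigmaCore elemAb_map_conj exists_conj_le_compl)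

variable {G : Type*} [Group G]

/-- an element `x ≠ 1` of a finite group has a power of prime order `p ∣ orderOf x`. -/
theorem exists_pow_orderOf_prime [Finite G] {x : G} (hx : x ≠ 1) :
    ∃ (p : ℕ) (k : ℕ), p.Prime ∧ p ∣ orderOf x ∧ orderOf (x ^ k) = p := by
  have hord : orderOf x ≠ 1 := fun h => hx (orderOf_eq_one_iff.mp h)
  obtain ⟨p, hp, hpd⟩ := Nat.exists_prime_and_dvd hord
  exact ⟨p, orderOf x / p, hp, hpd, orderOf_pow_orderOf_div (orderOf_pos x).ne' hpd⟩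

/-- **B & G 13.3(b)**: a Hall `τ₃(M)`-subgroup `E₃` of a complement `E` of `M_σ` acts in a prime
manner on `M_σ`: `C_{M_σ}(x) = C_{M_σ}(E₃)` for all `x ∈ E₃`, `x ≠ 1`. -/
theorem thm13_3_b [Finite G] (hG : Cfsg.IsMinSimpleOddOrder G)
    (h17 : H17n G) (h18 : H18a G) (h23 : H23 G) (h24 : H24 G)
    {M : Subgroup G} (hM : IsCoatom M) {E : Subgroup G}
    (hE : Cfsg.IsComplIn E (Cfsg.sigmaCore M) M) {E3 : Subgroup G}
    (hE3 : Cfsg.IsPiHallOf (Cfsg.tau3 M) E3 E) :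
    ∀ x ∈ E3, x ≠ 1 → Cfsg.sigmaCore M ⊓ Subgroup.centralizer ({x} : Set G) =
      Cfsg.sigmaCore M ⊓ Subgroup.centralizer (E3 : Set G) := by
  intro x hx hx1
  haveI := hG.2.1
  obtain ⟨hcyc, hE3E', hEN⟩ := (Cfsg.Agent.S1415.result hG M hM E hE).2.2 E3 hE3
  have hEM : E ≤ M := hE.1
  have hE3E : E3 ≤ E := hE3.1
  obtain ⟨p, k, hpp, hpd, hz⟩ := exists_pow_orderOf_prime hx1
  haveI : Fact p.Prime := ⟨hpp⟩
  obtain ⟨P, hPdef⟩ : ∃ P : Subgroup G, P = Subgroup.zpowers (x ^ k) := ⟨_, rfl⟩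
  have hPc : Nat.card P = p := by rw [hPdef, Nat.card_zpowers, hz]
  have hPE3 : P ≤ E3 := by
    rw [hPdef]; exact Subgroup.zpowers_le.mpr (E3.pow_mem hx k)
  have hPp : IsPGroup p P := IsPGroup.of_card (n := 1) (by rw [hPc, pow_one])
  have hP1 : P ≠ ⊥ := by
    intro h
    rw [h, Subgroup.card_bot] at hPc
    exact (ne_of_lt hpp.one_lt) hPc
  have hPtop : P ≠ ⊤ := fun h => hM.1 (top_le_iff.mp (h ▸ hPE3.trans (hE3E.trans hEM)))
  have hpτ : p ∈ Cfsg.tau3 M := by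
    apply hE3.2.1 p hpp
    rw [← hPc]; exact Subgroup.card_dvd_of_le hPE3
  -- `E` normalizes `P`
  have hENP : E ≤ Subgroup.normalizer (P : Set G) := by
    intro e he
    rw [mem_normalizer_iff_map_conj]
    have h1 : P.map (MulAut.conj e).toMonoidHom ≤ E3 := by
      calc P.map (MulAut.conj e).toMonoidHom ≤ E3.map (MulAut.conj e).toMonoidHom :=
            Subgroup.map_mono hPE3
        _ = E3 := mem_normalizer_iff_map_conj.mp (hEN he)
    haveI := hcyc
    exact Cfsg.Agent.Lib.Helper9.eq_of_card_eq_of_le_isCyclic E3 _ _ h1 hPE3 (card_map_conj P e)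
  obtain ⟨H, hH, hNH⟩ := exists_coatom_ge (normalizer_ne_top hP1 hPtop)
  have hEH : E ≤ H := hENP.trans hNH
  obtain ⟨hnc, -, -⟩ := thm13_2_zero hG hH hpτ.2.1 hpτ.2.2.2 hPp hP1 hNH
  have hE3H' : E3 ≤ ⁅H, H⁆ := hE3E'.trans (Subgroup.commutator_mono hEH hEH)
  have key := thm13_1a_pi hG h17 h18 h23 h24 hM hH hnc (hE3E.trans hEM) (hE3E.trans hEH)
    (fun r hr hd => ⟨(hE3.2.1 r hr hd).2.1,
      fun hτ1 => hτ1.2.2.2.1 (hd.trans (Subgroup.card_dvd_of_le hE3H'))⟩)
  apply le_antisymm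
  · rintro y ⟨hyσ, hyC⟩
    refine Subgroup.mem_inf.mpr ⟨hyσ, ?_⟩
    have hyx : x * y = y * x :=
      Subgroup.mem_centralizer_iff.mp hyC x (Set.mem_singleton x)
    have hyP : y ∈ Subgroup.centralizer (P : Set G) := by
      rw [Subgroup.mem_centralizer_iff]
      intro u hu
      rw [hPdef] at hu
      obtain ⟨i, rfl⟩ := Subgroup.mem_zpowers_iff.mp hu
      exact ((Commute.pow_left (show Commute x y from hyx) _).zpow_left i).eq
    have hyH : y ∈ H := hNH (Subgroup.centralizer_le_normalizer _ hyP)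
    rw [Subgroup.mem_centralizer_iff]
    intro e he
    exact key y ⟨hyσ, hyH⟩ e he
  · rintro y ⟨hyσ, hyC⟩
    exact Subgroup.mem_inf.mpr
      ⟨hyσ, Subgroup.centralizer_le (Set.singleton_subset_iff.mpr hx) hyC⟩

end Cfsg.Agent.Lib.Helper16.BGPrim
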