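import Mathlib
import Cfsg.Prelude.Def_OddOrderLocal
import Cfsg.Prelude.Def_Amalgam
import Cfsg.Agent.Lib.Helper8.BGEx0
import Cfsg.Agent.Lib.Helper2.BGCorB
import Cfsg.Agent.Lib.Helper9.PLengthFusion
import Cfsg.Agent.Lib.Helper10.PGroupBasic
import Cfsg.Agent.S1403
import Cfsg.Agent.S1409
import Cfsg.Agent.S1410

/-!
# B & G sec. 11, Block D' : Lemma N and Corollary N' (helper16; paper proofs by helper19)

* `no_normal_sq` (Lemma N): a maximal subgroup `M` has no normal elementary abelian subgroup of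
  order `q ^ 2` for `q ∉ σ(M)`.
* `pCoreOf_cyclic` (Cor N'): `q ∉ σ(M)`, `O_q(M) ≠ 1` ⇒ `O_q(M)` is cyclic, centralizes `M_σ`, and `M`
  is exceptional for `(q, B, Ω₁(O_q(M)))` for some `B`.

`h115` is B & G 11.5 (Sylow subgroups of exceptional maximal subgroups are abelian), as a hypothesis.
-/

set_option autoImplicit false

namespace Cfsg.Agent.Lib.Helper16.BGLemN

open Cfsg Subgroup Cfsg.Agent.Lib.Helper8.BGEx Cfsg.Agent.Lib.Helper1.BGX
open Cfsg.Agent.Lib.Helper17 (PrimeAct.pCoreOf_le PrimeAct.pCoreOf_isPGroup PrimeAct.pCoreOf_le_sylow)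
open Cfsg.Agent.Lib.Helper17.BGU (normalizer_eq_of_coatom le_normalizer_pCoreOf)
open Cfsg.Agent.Lib.Helper2.BGCor (card_le_of_pRankLE_sub sigmaCore_le primes_card_sigmaCore
  conj_mem_sigmaCore)

variable {G : Type*} [Group G]

/-- `Ω₁(Z(S))`: the elements of `S ∩ C_G(S)` of order dividing `q`. -/
def omegaZ (q : ℕ) (S : Subgroup G) : Subgroup G where
  carrier := {x | x ∈ S ∧ x ∈ centralizer (S : Set G) ∧ x ^ q = 1}
  one_mem' := ⟨S.one_mem, Subgroup.one_mem _, one_pow q⟩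
  mul_mem' := by
    rintro a b ⟨haS, haC, haq⟩ ⟨hbS, hbC, hbq⟩
    refine ⟨S.mul_mem haS hbS, Subgroup.mul_mem _ haC hbC, ?_⟩
    have hab : a * b = b * a := mem_centralizer_iff.mp hbC a haS
    rw [(show Commute a b from hab).mul_pow, haq, hbq, one_mul]
  inv_mem' := by
    rintro a ⟨haS, haC, haq⟩
    exact ⟨S.inv_mem haS, Subgroup.inv_mem _ haC, by rw [inv_pow, haq, inv_one]⟩

theorem mem_omegaZ {q : ℕ} {S : Subgroup G} {x : G} :
    x ∈ omegaZ q S ↔ x ∈ S ∧ x ∈ centralizer (S : Set G) ∧ x ^ q = 1 := Iff.rfl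

theorem omegaZ_le (q : ℕ) (S : Subgroup G) : omegaZ q S ≤ S := fun _ hx => hx.1

theorem omegaZ_comm {q : ℕ} {S : Subgroup G} : ∀ a ∈ omegaZ q S, ∀ b ∈ omegaZ q S, a * b = b * a :=
  fun a ha _ hb => mem_centralizer_iff.mp hb.2.1 a ha.1

theorem omegaZ_elemAb (q : ℕ) (S : Subgroup G) : Cfsg.IsElementaryAbelian q (omegaZ q S) :=
  ⟨isMulCommutative_of_comm omegaZ_comm, fun _ ha => ha.2.2⟩

theorem normalizer_le_normalizer_omegaZ [Finite G] (q : ℕ) (S : Subgroup G) :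
    normalizer (S : Set G) ≤ normalizer ((omegaZ q S : Subgroup G) : Set G) := by
  intro g hg
  apply Cfsg.Agent.Lib.Helper1.mem_normalizer_of_forall_conj_mem
  rintro x ⟨hxS, hxC, hxq⟩
  refine ⟨(mem_normalizer_iff.mp hg x).mp hxS, ?_, ?_⟩
  · rw [mem_centralizer_iff]
    intro y hy
    have h1 : g⁻¹ * y * g ∈ S := by
      have := (mem_normalizer_iff.mp (Subgroup.inv_mem _ hg) y).mp hy
      simpa using this
    have h2 : g⁻¹ * y * g * x = x * (g⁻¹ * y * g) := mem_centralizer_iff.mp hxC _ h1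
    calc y * (g * x * g⁻¹) = g * (g⁻¹ * y * g * x) * g⁻¹ := by group
      _ = g * (x * (g⁻¹ * y * g)) * g⁻¹ := by rw [h2]
      _ = g * x * g⁻¹ * y := by group
  · rw [conj_pow, hxq, mul_one, mul_inv_cancel]

/-- a nontrivial subgroup of a finite `p`-subgroup `P`, normalized by `P`, contains a nontrivial
element centralized by `P` -/
theorem exists_central_of_normalized' [Finite G] (p : ℕ) [Fact p.Prime]
    (P W : Subgroup G) (hP : IsPGroup p ↥P) (hWP : W ≤ P) (hW : W ≠ ⊥)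
    (hN : P ≤ normalizer (W : Set G)) : ∃ v ∈ W, v ≠ 1 ∧ ∀ g ∈ P, g * v = v * g := by
  have hn : (W.subgroupOf P).Normal := (Subgroup.normal_subgroupOf_iff_le_normalizer hWP).mpr hN
  have hne : W.subgroupOf P ≠ ⊥ := by
    intro h
    rw [Subgroup.subgroupOf_eq_bot, disjoint_iff, inf_of_le_left hWP] at h
    exact hW h
  obtain ⟨x, hxN, hxZ, hx1⟩ :=
    Cfsg.Agent.Lib.Helper10.exists_mem_center_of_normal_ne_bot p hP (W.subgroupOf P) hne
  refine ⟨(x : G), Subgroup.mem_subgroupOf.mp hxN, ?_, ?_⟩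
  · intro h
    apply hx1
    apply Subtype.ext
    exact h
  · intro g hg
    have := (Subgroup.mem_center_iff.mp hxZ) ⟨g, hg⟩
    exact congrArg Subtype.val this

theorem omegaZ_ne_bot [Finite G] {q : ℕ} [Fact q.Prime] {S : Subgroup G} (hS : IsPGroup q S)
    (hS1 : S ≠ ⊥) : omegaZ q S ≠ ⊥ := by
  have hqp : q.Prime := Fact.out
  obtain ⟨v, hvS, hv1, hvc⟩ := exists_central_of_normalized' q S S hS le_rfl hS1 le_normalizer
  -- a power of `v` of order `q`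
  have hvo : ∃ k, orderOf v = q ^ k := by
    obtain ⟨k, hk⟩ := hS ⟨v, hvS⟩
    have h1 : v ^ q ^ k = 1 := by simpa using congrArg Subtype.val hk
    obtain ⟨m, -, hm⟩ := (Nat.dvd_prime_pow hqp).mp (orderOf_dvd_of_pow_eq_one h1)
    exact ⟨m, hm⟩
  obtain ⟨k, hk⟩ := hvo
  have hk0 : k ≠ 0 := by
    rintro rfl
    rw [pow_zero, orderOf_eq_one_iff] at hk
    exact hv1 hk
  have hqdvd : q ∣ orderOf v := hk ▸ dvd_pow_self q hk0
  have hv0 : orderOf v ≠ 0 := (orderOf_pos v).ne'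
  have hz : orderOf (v ^ (orderOf v / q)) = q := orderOf_pow_orderOf_div hv0 hqdvd
  intro hbot
  have hmem : v ^ (orderOf v / q) ∈ omegaZ q S := by
    refine ⟨S.pow_mem hvS _, ?_, ?_⟩
    · apply Subgroup.pow_mem
      rw [mem_centralizer_iff]
      intro g hg
      exact hvc g hg
    · have h9 := pow_orderOf_eq_one (v ^ (orderOf v / q))
      rwa [hz] at h9
  rw [hbot, mem_bot] at hmem
  rw [hmem, orderOf_one] at hz
  exact hqp.one_lt.ne hz

/-- an element of `O_{q'}(M)` centralizes a normal `q`-subgroup `W` of `M`. -/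
theorem pPrimeCore_centralizes [Finite G] {q : ℕ} [Fact q.Prime] {M W : Subgroup G} (hWM : W ≤ M)
    (hWq : IsPGroup q W) (hMW : M ≤ normalizer (W : Set G)) (k : ↥M)
    (hk : k ∈ Cfsg.pPrimeCore q ↥M) : ∀ w ∈ W, (k : G) * w * (k : G)⁻¹ = w := by
  intro w hw
  haveI hn : (W.subgroupOf M).Normal :=
    (Subgroup.normal_subgroupOf_iff_le_normalizer hWM).mpr hMW
  haveI hKn : (Cfsg.pPrimeCore q ↥M).Normal := Cfsg.Agent.Lib.Helper12.pPrimeCore_normal' q
  have hW'q : IsPGroup q ↥(W.subgroupOf M) := hWq.comap_subtype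
  have hinf := Cfsg.Agent.Lib.Helper12.inf_eq_bot_of_coprime_of_isPGroup
    (Cfsg.Agent.Lib.Helper12.pPrimeCore_coprime (X := ↥M) q) hW'q
  have hw' : (⟨w, hWM hw⟩ : ↥M) ∈ W.subgroupOf M := Subgroup.mem_subgroupOf.mpr hw
  have h1 : k * ⟨w, hWM hw⟩ * k⁻¹ * (⟨w, hWM hw⟩ : ↥M)⁻¹ ∈ Cfsg.pPrimeCore q ↥M := by
    have h2 : (⟨w, hWM hw⟩ : ↥M) * k⁻¹ * (⟨w, hWM hw⟩ : ↥M)⁻¹ ∈ Cfsg.pPrimeCore q ↥M :=
      hKn.conj_mem _ (Subgroup.inv_mem _ hk) _
    have e : k * ⟨w, hWM hw⟩ * k⁻¹ * (⟨w, hWM hw⟩ : ↥M)⁻¹ =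
        k * ((⟨w, hWM hw⟩ : ↥M) * k⁻¹ * (⟨w, hWM hw⟩ : ↥M)⁻¹) := by group
    rw [e]
    exact Subgroup.mul_mem _ hk h2
  have h3 : k * ⟨w, hWM hw⟩ * k⁻¹ * (⟨w, hWM hw⟩ : ↥M)⁻¹ ∈ W.subgroupOf M :=
    Subgroup.mul_mem _ (hn.conj_mem _ hw' k) (Subgroup.inv_mem _ hw')
  have h4 : k * ⟨w, hWM hw⟩ * k⁻¹ * (⟨w, hWM hw⟩ : ↥M)⁻¹ ∈
      Cfsg.pPrimeCore q ↥M ⊓ W.subgroupOf M := ⟨h1, h3⟩
  rw [hinf, mem_bot] at h4
  have h5 : k * ⟨w, hWM hw⟩ * k⁻¹ = ⟨w, hWM hw⟩ := mul_inv_eq_one.mp h4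
  exact congrArg Subtype.val h5

/-- **Lemma N** (helper19): a maximal subgroup has no normal elementary abelian `q`-subgroup of
order `q ^ 2` for `q ∉ σ(M)`. -/
theorem no_normal_sq [Finite G] (hG : Cfsg.IsMinSimpleOddOrder G)
    (h115 : ∀ (M : Subgroup G) (q : ℕ) [Fact q.Prime] (B B₀ : Subgroup G), Exc M q B B₀ →
      ∀ S : Sylow q M, IsMulCommutative (S : Subgroup M))
    {M : Subgroup G} (hM : IsCoatom M) {q : ℕ} [Fact q.Prime] (hq : q ∉ Cfsg.sigma M)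
    (W : Subgroup G) (hW : Cfsg.IsElementaryAbelian q W) (hW2 : Nat.card W = q ^ 2) (hWM : W ≤ M) :
    ¬ M ≤ normalizer (W : Set G) := by
  intro hMW
  have hqp : q.Prime := Fact.out
  haveI := hG.2.1
  have hU : UT G := fun K hK h2 h3 => Cfsg.Agent.S1403.result hG K hK h2 h3
  have hr2 : Cfsg.PRankLE q 2 ↥M := by
    by_contra h
    exact hq (alpha_subset_sigma hG hU hM ⟨hqp, h⟩)
  have hWq : IsPGroup q W := isPGroup_of_elemAb hW
  have hW1 : W ≠ ⊥ := by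
    intro h
    rw [h, Subgroup.card_bot] at hW2
    have : 1 < q ^ 2 := Nat.one_lt_pow (by norm_num) hqp.one_lt
    omega
  have hNW : normalizer (W : Set G) = M := normalizer_eq_of_coatom hM hWM hW1 hMW
  obtain ⟨P, hWP⟩ := exists_sylow_in_ge hWM hWq
  obtain ⟨Q, hQdef⟩ : ∃ Q : Subgroup G, Q = (P : Subgroup M).map M.subtype := ⟨_, rfl⟩
  have hQM : Q ≤ M := hQdef ▸ Subgroup.map_subtype_le _
  have hQq : IsPGroup q Q := hQdef ▸ P.isPGroup'.map _
  have hWQ : W ≤ Q := hQdef ▸ hWP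
  by_cases hcase : W ≤ centralizer (Q : Set G)
  · -- Case A: `W = Ω₁(Z(Q))` is characteristic in `Q`, so `q ∈ σ(M)`
    apply hq
    refine ⟨hqp, ?_, P, ?_⟩
    · exact (dvd_pow_self q two_ne_zero).trans (hW2 ▸ Subgroup.card_dvd_of_le hWM)
    · rw [← hQdef, ← hNW]
      have hWΩ : W ≤ omegaZ q Q := fun w hw => ⟨hWQ hw, hcase hw, hW.2 w hw⟩
      have hΩcard : Nat.card (omegaZ q Q) ≤ q ^ 2 :=
        card_le_of_pRankLE_sub ((omegaZ_le q Q).trans hQM) omegaZ_comm (fun a ha => ha.2.2) hr2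
      have hΩW : omegaZ q Q = W :=
        (Subgroup.eq_of_le_of_card_ge hWΩ (by rw [hW2]; exact hΩcard)).symm
      rw [← hΩW]
      exact normalizer_le_normalizer_omegaZ q Q
  · -- Case B: `Z₀ = C_W(Q)` is a normal subgroup of order `q` of `M`
    obtain ⟨Z0, hZ0def⟩ : ∃ Z0 : Subgroup G, Z0 = W ⊓ centralizer (Q : Set G) := ⟨_, rfl⟩
    have hZ0W : Z0 ≤ W := hZ0def ▸ inf_le_left
    have hZ0C : Z0 ≤ centralizer (Q : Set G) := hZ0def ▸ inf_le_right
    have hZ0ne : Z0 ≠ ⊥ := by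
      obtain ⟨v, hvW, hv1, hvc⟩ :=
        exists_central_of_normalized' q Q W hQq hWQ hW1 (hQM.trans hMW)
      intro h
      have hv : v ∈ Z0 := by
        rw [hZ0def]
        exact ⟨hvW, mem_centralizer_iff.mpr (fun g hg => hvc g hg)⟩
      rw [h, mem_bot] at hv
      exact hv1 hv
    have hZ0W' : Z0 ≠ W := fun h => hcase (h ▸ hZ0C)
    have hZ0card : Nat.card Z0 = q := by
      have hdvd : Nat.card Z0 ∣ q ^ 2 := hW2 ▸ Subgroup.card_dvd_of_le hZ0W
      obtain ⟨m, hm2, hm⟩ := (Nat.dvd_prime_pow hqp).mp hdvd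
      interval_cases m
      · exfalso
        rw [pow_zero] at hm
        exact hZ0ne (Subgroup.card_eq_one.mp hm)
      · rw [hm, pow_one]
      · exfalso
        apply hZ0W'
        exact Subgroup.eq_of_le_of_card_ge hZ0W (by rw [hW2, hm])
    have hMtop : M ≠ ⊤ := hM.1
    have hpl : Cfsg.PLengthLE q 1 ↥M := Cfsg.Agent.S1410.result hG q M hMtop
    have hMZ0 : M ≤ normalizer (Z0 : Set G) := by
      intro m hm
      apply Cfsg.Agent.Lib.Helper1.mem_normalizer_of_forall_conj_mem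
      intro z hz
      obtain ⟨g, hg, k, hk, hgk⟩ :=
        Cfsg.Agent.Lib.Helper9.exists_normalizer_mul_of_pLengthLE_one hpl P ⟨m, hm⟩
      have hmgk : m = (g : G) * (k : G) := by
        have := congrArg Subtype.val hgk
        simpa using this
      have hkz : (k : G) * z * (k : G)⁻¹ = z :=
        pPrimeCore_centralizes hWM hWq hMW k hk z (hZ0W hz)
      have e : m * z * m⁻¹ = (g : G) * ((k : G) * z * (k : G)⁻¹) * (g : G)⁻¹ := by
        rw [hmgk]; group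
      rw [e, hkz, hZ0def]
      refine Subgroup.mem_inf.mpr ⟨(mem_normalizer_iff.mp (hMW g.2) z).mp (hZ0W hz), ?_⟩
      rw [mem_centralizer_iff]
      intro y hy
      -- `g⁻¹ y g ∈ Q`
      have hginv : g⁻¹ ∈ normalizer ((P : Subgroup ↥M) : Set ↥M) := Subgroup.inv_mem _ hg
      have h1 : (g : G)⁻¹ * y * (g : G) ∈ Q := by
        rw [hQdef] at hy ⊢
        obtain ⟨y', hy', rfl⟩ := hy
        refine ⟨g⁻¹ * y' * g, ?_, by simp⟩
        have h8 := (mem_normalizer_iff.mp hginv y').mp hy'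
        rw [inv_inv] at h8
        exact h8
      have h2 : (g : G)⁻¹ * y * (g : G) * z = z * ((g : G)⁻¹ * y * (g : G)) :=
        mem_centralizer_iff.mp (hZ0C hz) _ h1
      calc y * ((g : G) * z * (g : G)⁻¹)
          = (g : G) * ((g : G)⁻¹ * y * (g : G) * z) * (g : G)⁻¹ := by group
        _ = (g : G) * (z * ((g : G)⁻¹ * y * (g : G))) * (g : G)⁻¹ := by rw [h2]
        _ = (g : G) * z * (g : G)⁻¹ * y := by group
    have hNZ0 : normalizer (Z0 : Set G) = M :=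
      normalizer_eq_of_coatom hM (hZ0W.trans hWM) hZ0ne hMZ0
    have hExc : Exc M q W Z0 := ⟨hM, hqp, hq, hWM, hW, hW2, hZ0W, hZ0card, hNZ0.le⟩
    have hPc := h115 M q W Z0 hExc P
    apply hcase
    intro w hw
    rw [mem_centralizer_iff]
    intro y hy
    have hwQ := hWQ hw
    rw [hQdef] at hy hwQ
    obtain ⟨y', hy', rfl⟩ := hy
    obtain ⟨w', hw', rfl⟩ := hwQ
    have h1 := hPc.is_comm.comm (⟨y', hy'⟩ : (P : Subgroup ↥M)) ⟨w', hw'⟩
    have h2 := congrArg (fun z : (P : Subgroup ↥M) => ((z : ↥M) : G)) h1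
    simpa using h2

/-- **Cor N'** : `q ∉ σ(M)`, `O_q(M) ≠ 1` ⇒ `O_q(M)` cyclic, `O_q(M)` centralizes `M_σ`, and `M` is
exceptional for `(q, B, Ω₁(O_q(M)))` for some `B`. -/
theorem pCoreOf_cyclic [Finite G] (hG : Cfsg.IsMinSimpleOddOrder G)
    (h115 : ∀ (M : Subgroup G) (q : ℕ) [Fact q.Prime] (B B₀ : Subgroup G), Exc M q B B₀ →
      ∀ S : Sylow q M, IsMulCommutative (S : Subgroup M))
    {M : Subgroup G} (hM : IsCoatom M) {q : ℕ} [Fact q.Prime] (hq : q ∉ Cfsg.sigma M)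
    (hne : Cfsg.pCoreOf q M ≠ ⊥) :
    IsCyclic ↥(Cfsg.pCoreOf q M) ∧ Cfsg.pCoreOf q M ≤ centralizer (Cfsg.sigmaCore M : Set G) ∧
    ∃ W B : Subgroup G, W ≤ Cfsg.pCoreOf q M ∧ Nat.card W = q ∧ M ≤ normalizer (W : Set G) ∧
      Exc M q B W := by
  have hqp : q.Prime := Fact.out
  haveI := hG.2.1
  have hU : UT G := fun K hK h2 h3 => Cfsg.Agent.S1403.result hG K hK h2 h3
  have hr2 : Cfsg.PRankLE q 2 ↥M := by
    by_contra h
    exact hq (alpha_subset_sigma hG hU hM ⟨hqp, h⟩)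
  obtain ⟨Q0, hQ0def⟩ : ∃ Q0 : Subgroup G, Q0 = Cfsg.pCoreOf q M := ⟨_, rfl⟩
  rw [← hQ0def] at hne ⊢
  have hQ0M : Q0 ≤ M := hQ0def ▸ PrimeAct.pCoreOf_le q M
  have hQ0q : IsPGroup q Q0 := hQ0def ▸ PrimeAct.pCoreOf_isPGroup q M
  have hMQ0 : M ≤ normalizer (Q0 : Set G) := hQ0def ▸ le_normalizer_pCoreOf q M
  -- `W = Ω₁(Z(Q0))`
  obtain ⟨W, hWdef⟩ : ∃ W : Subgroup G, W = omegaZ q Q0 := ⟨_, rfl⟩
  have hWQ0 : W ≤ Q0 := hWdef ▸ omegaZ_le q Q0
  have hWM : W ≤ M := hWQ0.trans hQ0M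
  have hWe : Cfsg.IsElementaryAbelian q W := hWdef ▸ omegaZ_elemAb q Q0
  have hW1 : W ≠ ⊥ := hWdef ▸ omegaZ_ne_bot hQ0q hne
  have hMW : M ≤ normalizer (W : Set G) :=
    hWdef ▸ hMQ0.trans (normalizer_le_normalizer_omegaZ q Q0)
  have hWcard_le : Nat.card W ≤ q ^ 2 :=
    card_le_of_pRankLE_sub hWM (comm_of_isMulCommutative hWe.1) hWe.2 hr2
  have hWcard : Nat.card W = q := by
    obtain ⟨m, hm⟩ := IsPGroup.iff_card.mp (isPGroup_of_elemAb hWe)
    have hm2 : m ≤ 2 := by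
      by_contra hlt
      have h3 : 3 ≤ m := by omega
      have : q ^ 3 ≤ q ^ m := Nat.pow_le_pow_right hqp.pos h3
      have h4 : q ^ 2 < q ^ 3 := Nat.pow_lt_pow_right hqp.one_lt (by norm_num)
      omega
    interval_cases m
    · exfalso
      rw [pow_zero] at hm
      exact hW1 (Subgroup.card_eq_one.mp hm)
    · rw [hm, pow_one]
    · exfalso
      exact no_normal_sq hG h115 hM hq W hWe hm hWM hMW
  have hNW : normalizer (W : Set G) = M := normalizer_eq_of_coatom hM hWM hW1 hMW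
  obtain ⟨-, -, B, hBe, hB2, hWB⟩ := Cfsg.Agent.S1409.result hG M hM q hq W hWcard hNW.le
  have hBM : B ≤ M := by
    intro b hb
    apply hNW.le
    apply centralizer_le_normalizer
    rw [mem_centralizer_iff]
    intro w hw
    exact comm_of_isMulCommutative hBe.1 w (hWB hw) b hb
  have hExc : Exc M q B W := ⟨hM, hqp, hq, hBM, hBe, hB2, hWB, hWcard, hNW.le⟩
  refine ⟨?_, ?_, W, B, hWQ0, hWcard, hMW, hExc⟩
  · -- cyclic
    obtain ⟨P⟩ : Nonempty (Sylow q M) := inferInstance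
    have hPc := h115 M q B W hExc P
    have hQ0P : Q0 ≤ (P : Subgroup M).map M.subtype := hQ0def ▸ PrimeAct.pCoreOf_le_sylow M P
    have hcomm : ∀ a ∈ Q0, ∀ b ∈ Q0, a * b = b * a := by
      intro a ha b hb
      obtain ⟨a', ha', rfl⟩ := hQ0P ha
      obtain ⟨b', hb', rfl⟩ := hQ0P hb
      have h1 := hPc.is_comm.comm (⟨a', ha'⟩ : (P : Subgroup ↥M)) ⟨b', hb'⟩
      have h2 := congrArg (fun z : (P : Subgroup ↥M) => ((z : ↥M) : G)) h1
      simpa using h2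
    have hq2 : q ≠ 2 := by
      have hd : q ∣ Nat.card M := by
        rw [← hWcard]; exact Subgroup.card_dvd_of_le hWM
      exact ne_two_of_dvd_sub hG.1 hd
    have hr1 : Cfsg.PRankLE q 1 ↥Q0 := by
      intro A' _ hA'e
      rw [pow_one, ← hWcard, ← Subgroup.card_map_of_injective Q0.subtype_injective]
      apply Nat.card_le_card_of_injective (Subgroup.inclusion (show A'.map Q0.subtype ≤ W from ?_))
        (Subgroup.inclusion_injective _)
      rintro _ ⟨a, ha, rfl⟩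
      rw [hWdef]
      refine ⟨a.2, ?_, ?_⟩
      · rw [mem_centralizer_iff]
        intro y hy
        exact hcomm y hy a a.2
      · have := congrArg Subtype.val (hA'e a ha)
        simpa using this
    have hcyc : IsCyclic ↥(⊤ : Subgroup ↥Q0) :=
      Cfsg.Agent.Lib.Helper17.isCyclic_of_pRankLE_one hq2 hr1 ⊤ (by
        intro x
        obtain ⟨k, hk⟩ := hQ0q (x : ↥Q0)
        exact ⟨k, Subtype.ext hk⟩)
    exact isCyclic_of_surjective _ Subgroup.topEquiv.surjective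
  · -- `Q0` centralizes `M_σ`
    have hcop : (Nat.card (Cfsg.sigmaCore M)).Coprime q := by
      apply Nat.Coprime.symm
      rw [Nat.Prime.coprime_iff_not_dvd hqp]
      intro hd
      exact hq (primes_card_sigmaCore M q hqp hd)
    have hinf := Cfsg.Agent.Lib.Helper12.inf_eq_bot_of_coprime_of_isPGroup hcop hQ0q
    intro a ha
    rw [mem_centralizer_iff]
    intro y hy
    have h1 : a * y * a⁻¹ * y⁻¹ ∈ Cfsg.sigmaCore M :=
      Subgroup.mul_mem _ (conj_mem_sigmaCore (hQ0M ha) hy) (Subgroup.inv_mem _ hy)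
    have h2 : a * y * a⁻¹ * y⁻¹ ∈ Q0 := by
      have h3 : y * a⁻¹ * y⁻¹ ∈ Q0 :=
        (mem_normalizer_iff.mp (hMQ0 (sigmaCore_le M hy)) a⁻¹).mp (Q0.inv_mem ha)
      have e : a * y * a⁻¹ * y⁻¹ = a * (y * a⁻¹ * y⁻¹) := by group
      rw [e]
      exact Q0.mul_mem ha h3
    have h4 : a * y * a⁻¹ * y⁻¹ ∈ Cfsg.sigmaCore M ⊓ Q0 := ⟨h1, h2⟩
    rw [hinf, mem_bot] at h4
    have h5 : a * y * a⁻¹ = y := mul_inv_eq_one.mp h4
    calc y * a = (a * y * a⁻¹) * a := by rw [h5]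
      _ = a * y := by group

end Cfsg.Agent.Lib.Helper16.BGLemN
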