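import Cfsg.Agent.Lib.Helper16.WeaklyClosed

set_option autoImplicit false
open Cfsg
open scoped Pointwise

namespace Cfsg.Agent.Lib.Helper16

variable {G : Type*} [Group G] {p : ℕ}

theorem centralizer_map_conj (Q : Subgroup G) (g : G) :
    Subgroup.centralizer ((Q.map (MulAut.conj g).toMonoidHom : Subgroup G) : Set G) =
      (Subgroup.centralizer (Q : Set G)).map (MulAut.conj g).toMonoidHom := by
  ext x
  rw [mem_map_conj_iff, Subgroup.mem_centralizer_iff, Subgroup.mem_centralizer_iff]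
  constructor
  · intro h q hq
    have h1 := h (g * q * g⁻¹) ⟨q, hq, by simp⟩
    calc q * (g⁻¹ * x * g) = g⁻¹ * (g * q * g⁻¹ * x) * g := by group
      _ = g⁻¹ * (x * (g * q * g⁻¹)) * g := by rw [h1]
      _ = g⁻¹ * x * g * q := by group
  · rintro h _ ⟨q, hq, rfl⟩
    have h1 := h q hq
    simp only [MulEquiv.coe_toMonoidHom, MulAut.conj_apply]
    calc g * q * g⁻¹ * x = g * (q * (g⁻¹ * x * g)) * g⁻¹ := by group
      _ = g * (g⁻¹ * x * g * q) * g⁻¹ := by rw [h1]
      _ = x * (g * q * g⁻¹) := by group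

/-- The ambient centre `S ⊓ C(S)` of a nontrivial `p`-subgroup is nontrivial. -/
theorem center_ne_bot [Finite G] [Fact p.Prime] {S : Subgroup G} (hS : IsPGroup p S) (hS1 : S ≠ ⊥) :
    S ⊓ Subgroup.centralizer (S : Set G) ≠ ⊥ := by
  have htop : (⊤ : Subgroup S) ≠ ⊥ := by
    intro h
    apply hS1
    rw [eq_bot_iff]
    intro x hx
    have : (⟨x, hx⟩ : S) ∈ (⊥ : Subgroup S) := by rw [← h]; exact Subgroup.mem_top _
    rw [Subgroup.mem_bot] at this
    simpa using congrArg Subtype.val this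
  obtain ⟨x, -, hx1, hxc⟩ := exists_central_of_normal hS (⊤ : Subgroup S) htop
  intro hbot
  have hmem : (x : G) ∈ S ⊓ Subgroup.centralizer (S : Set G) := by
    refine ⟨x.2, ?_⟩
    show (x : G) ∈ Subgroup.centralizer (S : Set G)
    rw [Subgroup.mem_centralizer_iff]
    intro s hs
    have := Subgroup.mem_center_iff.mp hxc ⟨s, hs⟩
    exact congrArg Subtype.val this
  rw [hbot, Subgroup.mem_bot] at hmem
  exact hx1 (Subtype.ext hmem)

theorem normalizer_le_normalizer_center [Finite G] (S : Subgroup G) :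
    Subgroup.normalizer (S : Set G) ≤
      Subgroup.normalizer ((S ⊓ Subgroup.centralizer (S : Set G) : Subgroup G) : Set G) := by
  intro n hn
  apply mem_normalizer_of_map_conj_le
  rintro _ ⟨z, ⟨hzS, hzC⟩, rfl⟩
  simp only [MulEquiv.coe_toMonoidHom, MulAut.conj_apply]
  have hn' := Subgroup.mem_normalizer_iff.mp hn
  have hzS : z ∈ S := hzS
  have hzC : z ∈ Subgroup.centralizer (S : Set G) := hzC
  refine ⟨(hn' z).mp hzS, ?_⟩
  show n * z * n⁻¹ ∈ Subgroup.centralizer (S : Set G)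
  rw [Subgroup.mem_centralizer_iff]
  intro s hs
  have hs' : n⁻¹ * s * n ∈ S := by
    have := (hn' (n⁻¹ * s * n)).mpr (by simpa [mul_assoc] using hs)
    exact this
  have h1 := (Subgroup.mem_centralizer_iff.mp hzC) _ hs'
  calc s * (n * z * n⁻¹) = n * (n⁻¹ * s * n * z) * n⁻¹ := by group
    _ = n * (z * (n⁻¹ * s * n)) * n⁻¹ := by rw [h1]
    _ = n * z * n⁻¹ * s := by group


/-- The `Q!`-property for conjugates. -/
theorem large_conj {Q : Subgroup G} (hL : IsLarge Q) (g : G) (U : Subgroup G)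
    (hU : U ≤ Subgroup.centralizer ((Q.map (MulAut.conj g).toMonoidHom : Subgroup G) : Set G))
    (hU1 : U ≠ ⊥) :
    Subgroup.normalizer (U : Set G) ≤
      Subgroup.normalizer ((Q.map (MulAut.conj g).toMonoidHom : Subgroup G) : Set G) := by
  have h1 : U.map (MulAut.conj g⁻¹).toMonoidHom ≤ Subgroup.centralizer (Q : Set G) := by
    have := Subgroup.map_mono (f := (MulAut.conj g⁻¹).toMonoidHom) hU
    rwa [← centralizer_map_conj, map_conj_inv_map_conj] at this
  have h2 := hL.2 _ h1 (map_conj_ne_bot hU1 _)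
  have h3 := Subgroup.map_mono (f := (MulAut.conj g).toMonoidHom) h2
  rwa [← normalizer_map_conj, ← normalizer_map_conj, map_conj_map_conj_inv] at h3

/-- A large `p`-subgroup is weakly closed in every Sylow subgroup containing it. -/
theorem large_wc [Finite G] [Fact p.Prime] {Q : Subgroup G} (hQ1 : Q ≠ ⊥)
    (hL : IsLarge Q) (S : Sylow p G) (hQS : Q ≤ S) (g : G)
    (hg : Q.map (MulAut.conj g).toMonoidHom ≤ S) : g ∈ Subgroup.normalizer (Q : Set G) := by
  have hS1 : (S : Subgroup G) ≠ ⊥ := by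
    intro h; apply hQ1; rw [eq_bot_iff, ← h]; exact hQS
  set Z : Subgroup G := (S : Subgroup G) ⊓ Subgroup.centralizer ((S : Subgroup G) : Set G) with hZ
  have hZ1 : Z ≠ ⊥ := center_ne_bot S.isPGroup' hS1
  have hZQ : Z ≤ Subgroup.centralizer (Q : Set G) :=
    inf_le_right.trans (Subgroup.centralizer_le hQS)
  have hZQg : Z ≤ Subgroup.centralizer ((Q.map (MulAut.conj g).toMonoidHom : Subgroup G) : Set G) :=
    inf_le_right.trans (Subgroup.centralizer_le hg)
  have hNS := normalizer_le_normalizer_center (S : Subgroup G)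
  have h1 : Subgroup.normalizer ((S : Subgroup G) : Set G) ≤ Subgroup.normalizer (Q : Set G) :=
    hNS.trans (hL.2 Z hZQ hZ1)
  have h2 : (S : Subgroup G) ≤
      Subgroup.normalizer ((Q.map (MulAut.conj g).toMonoidHom : Subgroup G) : Set G) :=
    Subgroup.le_normalizer.trans (hNS.trans (large_conj hL g Z hZQg hZ1))
  exact mem_normalizer_of_sylow_fusion S Q g h1 h2

theorem le_centralizer_centralizer (Q : Subgroup G) :
    Q ≤ Subgroup.centralizer ((Subgroup.centralizer (Q : Set G) : Subgroup G) : Set G) := by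
  intro q hq
  rw [Subgroup.mem_centralizer_iff]
  intro c hc
  exact ((Subgroup.mem_centralizer_iff.mp hc) q hq).symm

theorem large_centralizer_inf [Finite G] [Fact p.Prime] {Q : Subgroup G} (hQp : IsPGroup p Q)
    (hQ1 : Q ≠ ⊥) (hL : IsLarge Q) (g : G) (hg : g ∉ Subgroup.normalizer (Q : Set G)) :
    Subgroup.centralizer (Q : Set G) ⊓
      Subgroup.centralizer ((Q.map (MulAut.conj g).toMonoidHom : Subgroup G) : Set G) = ⊥ := by
  by_contra hU1
  set U : Subgroup G := Subgroup.centralizer (Q : Set G) ⊓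
      Subgroup.centralizer ((Q.map (MulAut.conj g).toMonoidHom : Subgroup G) : Set G) with hU
  have hX1 : Subgroup.normalizer (U : Set G) ≤ Subgroup.normalizer (Q : Set G) :=
    hL.2 U inf_le_left hU1
  have hX2 := large_conj hL g U inf_le_right hU1
  have hQX : Q ≤ Subgroup.normalizer (U : Set G) := by
    refine (le_centralizer_centralizer Q).trans ?_
    exact (Subgroup.centralizer_le inf_le_left).trans (Subgroup.centralizer_le_normalizer _)
  have hD : IsPGroup p ↥(Q ⊔ Q.map (MulAut.conj g).toMonoidHom) :=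
    IsPGroup.to_sup_of_normal_right' hQp (isPGroup_map_conj hQp g) (hQX.trans hX2)
  obtain ⟨S, hS⟩ := hD.exists_le_sylow
  exact hg (large_wc hQ1 hL S (le_sup_left.trans hS) g (le_sup_right.trans hS))


theorem large_bullet [Finite G] [Fact p.Prime] (Q : Subgroup G) (hQp : IsPGroup p ↥Q) (hQ1 : Q ≠ ⊥) (hL : Cfsg.IsLarge Q) (Qb : Subgroup G) (hQb : Qb = Cfsg.largeBullet p Q) : (∀ g : G, g ∉ Subgroup.normalizer ((Q : Subgroup G) : Set G) → Subgroup.centralizer ((Q : Subgroup G) : Set G) ⊓ Subgroup.centralizer ((((Q : Subgroup G).map (MulAut.conj (g : G)).toMonoidHom) : Subgroup G) : Set G) = ⊥ ∧ Subgroup.centralizer ((Qb : Subgroup G) : Set G) ⊓ Subgroup.centralizer ((((Qb : Subgroup G).map (MulAut.conj (g : G)).toMonoidHom) : Subgroup G) : Set G) = ⊥ ∧ (Q ⊓ Subgroup.centralizer ((Q : Subgroup G) : Set G)) ⊓ (((Q : Subgroup G).map (MulAut.conj (g : G)).toMonoidHom) ⊓ Subgroup.centralizer ((((Q : Subgroup G).map (MulAut.conj (g : G)).toMonoidHom) : Subgroup G) :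 Set G)) = ⊥ ∧ (Qb ⊓ Subgroup.centralizer ((Qb : Subgroup G) : Set G)) ⊓ (((Qb : Subgroup G).map (MulAut.conj (g : G)).toMonoidHom) ⊓ Subgroup.centralizer ((((Qb : Subgroup G).map (MulAut.conj (g : G)).toMonoidHom) : Subgroup G) : Set G)) = ⊥) ∧ Subgroup.normalizer ((Q : Subgroup G) : Set G) = Subgroup.normalizer ((Qb : Subgroup G) : Set G) ∧ Cfsg.IsLarge Qb := by
  set N : Subgroup G := Subgroup.normalizer (Q : Set G) with hN
  have hQbdef : Qb = (pCore p ↥N).map N.subtype := hQb
  have hQQb : Q ≤ Qb := by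
    have hnorm : (Q.subgroupOf N).Normal := Subgroup.normal_in_normalizer
    have h1 : Q.subgroupOf N ≤ pCore p ↥N := le_pCore hnorm hQp.comap_subtype
    intro x hx
    rw [hQbdef]
    exact ⟨⟨x, Subgroup.le_normalizer hx⟩, h1 (by rw [Subgroup.mem_subgroupOf]; exact hx), rfl⟩
  have hQbp : IsPGroup p Qb := by
    rw [hQbdef]; exact (pCore_isPGroup (G := ↥N) (p := p)).map _
  have hQb1 : Qb ≠ ⊥ := by
    intro h; apply hQ1; rw [eq_bot_iff, ← h]; exact hQQb
  have hCle : Subgroup.centralizer (Qb : Set G) ≤ Subgroup.centralizer (Q : Set G) :=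
    Subgroup.centralizer_le hQQb
  have hN1 : N ≤ Subgroup.normalizer (Qb : Set G) := by
    intro n hn
    apply mem_normalizer_of_map_conj_le
    rw [hQbdef]
    rintro _ ⟨_, ⟨x, hx, rfl⟩, rfl⟩
    have hpn : (pCore p ↥N).Normal := inferInstance
    refine ⟨⟨n, hn⟩ * x * ⟨n, hn⟩⁻¹, hpn.conj_mem x hx ⟨n, hn⟩, ?_⟩
    simp
  have hN2 : Subgroup.normalizer (Qb : Set G) ≤ N := by
    have hZ1 : Qb ⊓ Subgroup.centralizer (Qb : Set G) ≠ ⊥ := center_ne_bot hQbp hQb1
    have h1 := hL.2 _ (inf_le_right.trans hCle) hZ1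
    exact (normalizer_le_normalizer_center Qb).trans h1
  have hNeq : N = Subgroup.normalizer (Qb : Set G) := le_antisymm hN1 hN2
  have hLb : IsLarge Qb := by
    refine ⟨(hCle.trans hL.1).trans hQQb, ?_⟩
    intro U hU hU1
    rw [← hNeq]
    exact hL.2 U (hU.trans hCle) hU1
  refine ⟨?_, hNeq, hLb⟩
  intro g hg
  have hA1 := large_centralizer_inf hQp hQ1 hL g hg
  have hCleg : Subgroup.centralizer ((Qb.map (MulAut.conj g).toMonoidHom : Subgroup G) : Set G) ≤
      Subgroup.centralizer ((Q.map (MulAut.conj g).toMonoidHom : Subgroup G) : Set G) :=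
    Subgroup.centralizer_le (Subgroup.map_mono hQQb)
  have hA2 : Subgroup.centralizer (Qb : Set G) ⊓
      Subgroup.centralizer ((Qb.map (MulAut.conj g).toMonoidHom : Subgroup G) : Set G) = ⊥ := by
    rw [eq_bot_iff, ← hA1]
    exact inf_le_inf hCle hCleg
  refine ⟨hA1, hA2, ?_, ?_⟩
  · rw [eq_bot_iff, ← hA1]
    exact inf_le_inf inf_le_right inf_le_right
  · rw [eq_bot_iff, ← hA2]
    exact inf_le_inf inf_le_right inf_le_right

end Cfsg.Agent.Lib.Helper16
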