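import Mathlib
import Cfsg.Prelude.Def_BlockRank
import Cfsg.Agent.Lib.Helper27.DODefs
import Cfsg.Agent.Lib.Helper27.BlkAlgDefs2

set_option autoImplicit false

namespace Cfsg.Agent.Lib.Helper16.DOINERT

open Cfsg Cfsg.Agent.Lib.Helper8.DOM Cfsg.Agent.Lib.Helper27.DO Cfsg.Agent.Lib.Helper27.BlkAlg
open scoped ComplexConjugate

universe u

section grp

variable {G : Type u} [Group G] [Finite G] {p : ℕ} [Fact p.Prime]

/-- INERT : the stabilizer exists. -/
theorem exists_inertia (P : Subgroup G) (θ : Cz P → ℂ) : ∃ T : Subgroup G, IsInertia P θ T := by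
  refine ⟨{ carrier := {g | g ∈ Nz P ∧ ∀ c c' : Cz P, (c' : G) = g * c * g⁻¹ → θ c' = θ c}
            one_mem' := by
              refine ⟨(Nz P).one_mem, fun c c' h => ?_⟩
              have : c' = c := by
                apply Subtype.ext
                rw [h]
                group
              rw [this]
            mul_mem' := by
              rintro a b ⟨ha, hac⟩ ⟨hb, hbc⟩
              refine ⟨(Nz P).mul_mem ha hb, fun c c' h => ?_⟩
              have h1 := hbc c ⟨b * c * b⁻¹, conj_mem_Cz P hb c.2⟩ rfl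
              have h2 := hac ⟨b * c * b⁻¹, conj_mem_Cz P hb c.2⟩ c' (by rw [h]; group)
              rw [h2, h1]
            inv_mem' := by
              rintro a ⟨ha, hac⟩
              refine ⟨(Nz P).inv_mem ha, fun c c' h => ?_⟩
              have h1 := hac c' c (by rw [h]; group)
              exact h1.symm }, fun g => Iff.rfl⟩

theorem le_of_isInertia (P : Subgroup G) (θ : IrrCharacter (Cz P)) (T : Subgroup G)
    (hT : IsInertia P (θ : Cz P → ℂ) T) : Cz P ≤ T ∧ T ≤ Nz P := by
  constructor
  · intro g hg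
    rw [hT g]
    refine ⟨Subgroup.centralizer_le_normalizer (P : Set G) hg, fun c c' h => ?_⟩
    have hcls := Cfsg.Agent.CharLib.IsCharacter.isClassFunction
      (Cfsg.Agent.CharLib.IsIrrCharacter.isCharacter θ.2)
    have : c' = (⟨g, hg⟩ : Cz P) * c * (⟨g, hg⟩ : Cz P)⁻¹ := Subtype.ext h
    rw [this]
    exact hcls c ⟨g, hg⟩
  · intro g hg
    exact ((hT g).mp hg).1

end grp

end Cfsg.Agent.Lib.Helper16.DOINERT
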