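import Mathlib
import Cfsg.Prelude.Def_BlockRank
import Cfsg.Agent.Lib.Helper27.DODefs
import Cfsg.Agent.Lib.Helper27.BlkAlgDefs2

set_option autoImplicit false

namespace Cfsg.Agent.Lib.Helper16.DOSETUP

open Cfsg Cfsg.Agent.Lib.Helper8.DOM Cfsg.Agent.Lib.Helper27.DO Cfsg.Agent.Lib.Helper27.BlkAlg
open scoped ComplexConjugate

universe u

section grp

variable {G : Type u} [Group G] [Finite G] {p : ℕ} [Fact p.Prime]

omit [Finite G] in
/-- `k ↦ x0 ^ k.val` is injective on `ZMod p` when `x0` has order `p`. -/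
theorem pow_val_injective {x0 : G} (hx0 : orderOf x0 = p) {a b : ZMod p}
    (h : x0 ^ a.val = x0 ^ b.val) : a = b := by
  rw [pow_eq_pow_iff_modEq, hx0] at h
  have h1 : ((a.val : ℕ) : ZMod p) = ((b.val : ℕ) : ZMod p) :=
    (ZMod.natCast_eq_natCast_iff _ _ _).mpr h
  rwa [ZMod.natCast_zmod_val, ZMod.natCast_zmod_val] at h1

omit [Finite G] in
theorem pow_val_mul {x0 : G} (hx0 : orderOf x0 = p) (a b : ZMod p) :
    x0 ^ (a * b).val = (x0 ^ a.val) ^ b.val := by
  rw [← pow_mul, pow_eq_pow_iff_modEq, hx0, ZMod.val_mul]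
  exact Nat.mod_modEq _ _

omit [Finite G] in
/-- every element of `zpowers x0` is `x0 ^ k.val`, `k : ZMod p` -/
theorem exists_pow_val {x0 : G} (hx0 : orderOf x0 = p) {y : G} (hy : y ∈ Subgroup.zpowers x0) :
    ∃ k : ZMod p, y = x0 ^ k.val := by
  obtain ⟨m, rfl⟩ := Subgroup.mem_zpowers_iff.mp hy
  refine ⟨(m : ZMod p), ?_⟩
  rw [← zpow_natCast, ← zpow_mod_orderOf, hx0]
  congr 1
  rw [ZMod.val_intCast]

/-- SETUP : the image `E` of `T` in `Aut P = (ℤ/p)ˣ`. -/
theorem exists_E (P : Subgroup G) (hP : Nat.card P = p) (x0 : G) (hx0 : P = Subgroup.zpowers x0)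
    (T : Subgroup G) (hCT : Cz P ≤ T) (hTN : T ≤ Nz P) :
    ∃ E : Subgroup (ZMod p)ˣ,
      (∀ u : (ZMod p)ˣ, u ∈ E ↔ ∃ n ∈ T, n * x0 * n⁻¹ = x0 ^ (u : ZMod p).val) ∧
      Nat.card E = (Cz P).relIndex T := by
  have hp : p.Prime := Fact.out
  have hord : orderOf x0 = p := by
    rw [← Nat.card_zpowers, ← hx0, hP]
  have hx0P : x0 ∈ P := by rw [hx0]; exact Subgroup.mem_zpowers x0
  -- existence of the exponent
  have hex : ∀ n : T, ∃ k : ZMod p, (n : G) * x0 * (n : G)⁻¹ = x0 ^ k.val := by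
    intro n
    have hn := hTN n.2
    have hmem : (n : G) * x0 * (n : G)⁻¹ ∈ P := (Subgroup.mem_normalizer_iff.mp hn x0).mp hx0P
    rw [hx0] at hmem
    exact exists_pow_val hord hmem
  choose f hf using hex
  have hf1 : f 1 = 1 := by
    apply pow_val_injective hord
    rw [← hf 1, ZMod.val_one]
    simp
  have hfmul : ∀ a b : T, f (a * b) = f a * f b := by
    intro a b
    apply pow_val_injective hord
    rw [← hf (a * b), pow_val_mul hord, ← hf a]
    have : ((a * b : T) : G) * x0 * ((a * b : T) : G)⁻¹ =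
        (a : G) * ((b : G) * x0 * (b : G)⁻¹) * (a : G)⁻¹ := by
      rw [Subgroup.coe_mul]; group
    rw [this, hf b, conj_pow]
  let f' : T →* ZMod p := { toFun := f, map_one' := hf1, map_mul' := hfmul }
  let ψ : T →* (ZMod p)ˣ := f'.toHomUnits
  have hψ : ∀ n : T, ((ψ n : (ZMod p)ˣ) : ZMod p) = f n := fun n => rfl
  refine ⟨ψ.range, ?_, ?_⟩
  · intro u
    constructor
    · rintro ⟨n, rfl⟩
      exact ⟨n, n.2, by rw [hψ]; exact hf n⟩
    · rintro ⟨n, hn, h⟩
      refine ⟨⟨n, hn⟩, ?_⟩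
      apply Units.ext
      rw [hψ]
      apply pow_val_injective hord
      rw [← hf ⟨n, hn⟩]
      exact h
  · rw [← Subgroup.index_ker]
    have hker : ψ.ker = (Cz P).subgroupOf T := by
      ext n
      rw [MonoidHom.mem_ker, Subgroup.mem_subgroupOf]
      constructor
      · intro h1
        have h2 : f n = 1 := by rw [← hψ, h1]; rfl
        have h3 := hf n
        rw [h2, ZMod.val_one, pow_one] at h3
        -- `n` commutes with `x0`, hence with `P`
        rw [Subgroup.mem_centralizer_iff]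
        intro y hy
        rw [SetLike.mem_coe, hx0] at hy
        obtain ⟨m, rfl⟩ := Subgroup.mem_zpowers_iff.mp hy
        have hc : Commute x0 (n : G) := by
          show x0 * (n : G) = (n : G) * x0
          calc x0 * (n : G) = ((n : G) * x0 * (n : G)⁻¹) * (n : G) := by rw [h3]
            _ = (n : G) * x0 := by group
        exact (hc.zpow_left m)
      · intro h1
        apply Units.ext
        rw [hψ]
        apply pow_val_injective hord
        rw [← hf n]
        have h2 := (Subgroup.mem_centralizer_iff.mp h1) x0 hx0P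
        show (n : G) * x0 * (n : G)⁻¹ = x0 ^ ((1 : (ZMod p)ˣ) : ZMod p).val
        rw [Units.val_one, ZMod.val_one, pow_one, ← h2]
        group
    rw [hker]
    rfl

end grp

end Cfsg.Agent.Lib.Helper16.DOSETUP
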