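import Mathlib
import Cfsg.Prelude.Def_BlockRank
import Cfsg.Agent.Lib.Helper27.DODefs
import Cfsg.Agent.Lib.Helper27.BlkAlgDefs2
import Cfsg.Agent.Lib.Lead.CharMore

set_option autoImplicit false

namespace Cfsg.Agent.Lib.Helper16.DOCONJ

open Cfsg Cfsg.Agent.Lib.Helper8.DOM Cfsg.Agent.Lib.Helper27.DO Cfsg.Agent.Lib.Helper27.BlkAlg
open scoped ComplexConjugate

universe u

section prelim

variable {G : Type u} [Group G]

/-- conjugation by `n ∈ N_G(P)` as an automorphism of `C_G(P)` -/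
def conjEquiv (P : Subgroup G) (n : Nz P) : Cz P ≃* Cz P where
  toFun c := ⟨(n : G) * c * (n : G)⁻¹, conj_mem_Cz P n.2 c.2⟩
  invFun c := ⟨(n : G)⁻¹ * c * (n : G), by
    have := conj_mem_Cz P ((Nz P).inv_mem n.2) c.2
    simpa using this⟩
  left_inv c := by
    apply Subtype.ext
    show (n : G)⁻¹ * ((n : G) * c * (n : G)⁻¹) * (n : G) = c
    group
  right_inv c := by
    apply Subtype.ext
    show (n : G) * ((n : G)⁻¹ * c * (n : G)) * (n : G)⁻¹ = c
    group
  map_mul' a b := by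
    apply Subtype.ext
    show (n : G) * ((a : G) * (b : G)) * (n : G)⁻¹ =
      ((n : G) * a * (n : G)⁻¹) * ((n : G) * b * (n : G)⁻¹)
    group

theorem conjC_eq_comp (P : Subgroup G) (n : Nz P) (φ : Cz P → ℂ) :
    conjC P n φ = φ ∘ conjEquiv P n := rfl

theorem conjEquiv_coe (P : Subgroup G) (n : Nz P) (c : Cz P) :
    ((conjEquiv P n c : Cz P) : G) = (n : G) * c * (n : G)⁻¹ := rfl

theorem conjEquiv_symm_coe (P : Subgroup G) (n : Nz P) (c : Cz P) :
    (((conjEquiv P n).symm c : Cz P) : G) = (n : G)⁻¹ * c * (n : G) := rfl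

theorem conjC_one (P : Subgroup G) (n : Nz P) (φ : Cz P → ℂ) : conjC P n φ 1 = φ 1 := by
  rw [conjC_eq_comp, Function.comp_apply, map_one]

/-- conjugating back -/
theorem conjC_inv_conjC (P : Subgroup G) (n : Nz P) (φ : Cz P → ℂ) :
    conjC P n⁻¹ (conjC P n φ) = φ := by
  funext c
  show φ _ = φ c
  congr 1
  apply Subtype.ext
  show (n : G) * (((n⁻¹ : Nz P) : G) * c * ((n⁻¹ : Nz P) : G)⁻¹) * (n : G)⁻¹ = c
  rw [Subgroup.coe_inv]
  group

theorem conjC_conjC_inv (P : Subgroup G) (n : Nz P) (φ : Cz P → ℂ) :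
    conjC P n (conjC P n⁻¹ φ) = φ := by
  have := conjC_inv_conjC P n⁻¹ φ
  rwa [inv_inv] at this

theorem zetaP_pow_self (p : ℕ) (hp : p ≠ 0) : zetaP p ^ p = 1 := by
  unfold zetaP
  rw [← Complex.exp_nat_mul]
  have : (p : ℂ) * (2 * Real.pi * Complex.I / p) = 2 * Real.pi * Complex.I := by
    field_simp
  rw [this, Complex.exp_two_pi_mul_I]

theorem zetaP_pow_mod (p : ℕ) (hp : p ≠ 0) (k : ℕ) : zetaP p ^ (k % p) = zetaP p ^ k := by
  conv_rhs => rw [← Nat.div_add_mod k p, pow_add, pow_mul, zetaP_pow_self p hp, one_pow, one_mul]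

/-- the central character of `conjC` -/
theorem centralChar_conjC (P : Subgroup G) (n : Nz P) (φ : Cz P → ℂ) (c : Cz P) :
    centralChar (conjC P n φ) c = centralChar φ (conjEquiv P n c) := by
  unfold centralChar
  rw [conjC_one]
  have hidx : (Subgroup.centralizer ({conjEquiv P n c} : Set (Cz P))).index =
      (Subgroup.centralizer ({c} : Set (Cz P))).index := by
    have hmap : (Subgroup.centralizer ({c} : Set (Cz P))).map
        ((conjEquiv P n : Cz P ≃* Cz P) : Cz P →* Cz P) =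
        Subgroup.centralizer ({conjEquiv P n c} : Set (Cz P)) := by
      ext y
      rw [Subgroup.mem_map, Subgroup.mem_centralizer_singleton_iff]
      constructor
      · rintro ⟨x, hx, rfl⟩
        rw [Subgroup.mem_centralizer_singleton_iff] at hx
        show conjEquiv P n x * conjEquiv P n c = conjEquiv P n c * conjEquiv P n x
        rw [← map_mul, ← map_mul, hx]
      · intro hy
        refine ⟨(conjEquiv P n).symm y, ?_, by simp⟩
        rw [Subgroup.mem_centralizer_singleton_iff]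
        apply (conjEquiv P n).injective
        rw [map_mul, map_mul, MulEquiv.apply_symm_apply]
        exact hy
    rw [← hmap, Subgroup.index_map_equiv]
  rw [hidx]
  rfl

end prelim

section loc

variable {G : Type u} [Group G] [Finite G] {p : ℕ} [Fact p.Prime] {M : Ideal AlgInt}

/-- CONJ : conjugation by `n ∈ N` on the characters of `C`. -/
theorem isIrrCharacter_conjC (P : Subgroup G) (n : Nz P) (φ : IrrCharacter (Cz P)) :
    IsIrrCharacter (Cz P) (conjC P n (φ : Cz P → ℂ)) := by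
  rw [conjC_eq_comp]
  exact Cfsg.Agent.CharLib.IsIrrCharacter.comp_mulEquiv φ.2 (conjEquiv P n)

theorem hasIdx_conjC (P : Subgroup G) (x0 : G) (hx0 : P = Subgroup.zpowers x0) (n : Nz P)
    (u : (ZMod p)ˣ) (hu : (n : G) * x0 * (n : G)⁻¹ = x0 ^ (u : ZMod p).val) (φ : Cz P → ℂ)
    (i : ZMod p) (h : HasIdx p P x0 φ i) : HasIdx p P x0 (conjC P n φ) ((u : ZMod p) * i) := by
  have hp : p.Prime := Fact.out
  have hx0C : x0 ∈ Cz P := by
    rw [Subgroup.mem_centralizer_iff]
    intro y hy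
    rw [SetLike.mem_coe, hx0] at hy
    obtain ⟨m, rfl⟩ := Subgroup.mem_zpowers_iff.mp hy
    exact ((Commute.refl x0).zpow_left m)
  -- iterate `h`
  have hiter : ∀ k : ℕ, ∀ d d' : Cz P, (d' : G) = x0 ^ k * (d : G) →
      φ d' = zetaP p ^ (i.val * k) * φ d := by
    intro k
    induction k with
    | zero =>
      intro d d' hd
      have : d' = d := by
        apply Subtype.ext
        rw [hd, pow_zero, one_mul]
      rw [this, mul_zero, pow_zero, one_mul]
    | succ k ih =>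
      intro d d' hd
      have hmem : x0 ^ k * (d : G) ∈ Cz P :=
        (Cz P).mul_mem ((Cz P).pow_mem hx0C k) d.2
      have h1 := ih d ⟨x0 ^ k * (d : G), hmem⟩ rfl
      have h2 := h ⟨x0 ^ k * (d : G), hmem⟩ d' (by
        rw [hd, pow_succ']
        group)
      rw [h2, h1, mul_add, mul_one, pow_add]
      ring
  intro c c' hc
  show φ _ = zetaP p ^ ((u : ZMod p) * i).val * φ _
  have hkey := hiter (u : ZMod p).val (conjEquiv P n c) (conjEquiv P n c') (by
    rw [conjEquiv_coe, conjEquiv_coe, hc, ← hu]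
    group)
  have hpow : zetaP p ^ ((u : ZMod p) * i).val = zetaP p ^ (i.val * (u : ZMod p).val) := by
    rw [ZMod.val_mul, zetaP_pow_mod p hp.ne_zero, mul_comm]
  rw [hpow]
  exact hkey

theorem pTriv_conjC (P : Subgroup G) (n : Nz P) (φ : Cz P → ℂ) (h : PTriv P φ) :
    PTriv P (conjC P n φ) := by
  intro x hx
  rw [conjC_one]
  show φ _ = φ 1
  apply h
  show (n : G) * (x : G) * (n : G)⁻¹ ∈ P
  exact (Subgroup.mem_normalizer_iff.mp n.2 (x : G)).mp hx

theorem mem_blockOf_conjC (P : Subgroup G) (n : Nz P) (φ φ' : IrrCharacter (Cz P))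
    (h : φ' ∈ blockOf M (φ : Cz P → ℂ)) :
    (⟨conjC P n (φ' : Cz P → ℂ), isIrrCharacter_conjC P n φ'⟩ : IrrCharacter (Cz P)) ∈
      blockOf M (conjC P n (φ : Cz P → ℂ)) := by
  intro g
  show MemLocalIdeal M (centralChar (conjC P n (φ : Cz P → ℂ)) g -
    centralChar (conjC P n (φ' : Cz P → ℂ)) g)
  rw [centralChar_conjC, centralChar_conjC]
  exact h (conjEquiv P n g)

/-- the induced central character does not see conjugation by `n` -/
theorem inducedCentralChar_conjC (P : Subgroup G) (n : Nz P) (ξ : Cz P → ℂ) (g : G) :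
    inducedCentralChar (Cz P) (conjC P n ξ) g = inducedCentralChar (Cz P) ξ g := by
  unfold inducedCentralChar
  rw [conjC_one]
  apply finsum_mem_eq_of_bijOn (conjEquiv P n)
  · refine ⟨?_, (conjEquiv P n).injective.injOn, ?_⟩
    · intro h hh
      show IsConj g ((conjEquiv P n h : Cz P) : G)
      rw [conjEquiv_coe]
      exact hh.trans (isConj_iff.mpr ⟨(n : G), rfl⟩)
    · intro h hh
      refine ⟨(conjEquiv P n).symm h, ?_, by simp⟩
      show IsConj g (((conjEquiv P n).symm h : Cz P) : G)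
      rw [conjEquiv_symm_coe]
      exact (hh : IsConj g (h : G)).trans (isConj_iff.mpr ⟨(n : G)⁻¹, by group⟩)
  · intro h _
    rfl

theorem isInducedBlock_conjC (P : Subgroup G) (n : Nz P) (φ : IrrCharacter (Cz P))
    (B : Set (IrrCharacter G)) (h : IsInducedBlock M (Cz P) (blockOf M (φ : Cz P → ℂ)) B) :
    IsInducedBlock M (Cz P) (blockOf M (conjC P n (φ : Cz P → ℂ))) B := by
  obtain ⟨_, hB, hind⟩ := h
  refine ⟨⟨⟨conjC P n (φ : Cz P → ℂ), isIrrCharacter_conjC P n φ⟩, rfl⟩, hB, ?_⟩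
  intro ξ hξ χ hχ g
  -- `ξ' := ξ^(n⁻¹)` lies in the block of `φ`
  have h1 := mem_blockOf_conjC (M := M) P n⁻¹
    ⟨conjC P n (φ : Cz P → ℂ), isIrrCharacter_conjC P n φ⟩ ξ hξ
  have h2 : (⟨conjC P n⁻¹ (ξ : Cz P → ℂ), isIrrCharacter_conjC P n⁻¹ ξ⟩ : IrrCharacter (Cz P)) ∈
      blockOf M (φ : Cz P → ℂ) := by
    have e : conjC P n⁻¹ (conjC P n (φ : Cz P → ℂ)) = (φ : Cz P → ℂ) := conjC_inv_conjC P n _
    have h1' : (⟨conjC P n⁻¹ (ξ : Cz P → ℂ), isIrrCharacter_conjC P n⁻¹ ξ⟩ :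
        IrrCharacter (Cz P)) ∈ blockOf M (conjC P n⁻¹ (conjC P n (φ : Cz P → ℂ))) := h1
    rwa [e] at h1'
  have h3 := hind _ h2 χ hχ g
  have e2 : inducedCentralChar (Cz P) (conjC P n⁻¹ (ξ : Cz P → ℂ)) g =
      inducedCentralChar (Cz P) (ξ : Cz P → ℂ) g := inducedCentralChar_conjC P n⁻¹ _ g
  have h3' : MemLocalIdeal M (inducedCentralChar (Cz P) (conjC P n⁻¹ (ξ : Cz P → ℂ)) g -
      centralChar (χ : G → ℂ) g) := h3
  rwa [e2] at h3'

theorem mult_conjC (P : Subgroup G) (n : Nz P) (χ : IrrCharacter G) (φ : Cz P → ℂ) :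
    mult (Cz P) (χ : G → ℂ) (conjC P n φ) = mult (Cz P) (χ : G → ℂ) φ := by
  unfold mult
  congr 1
  apply finsum_eq_of_bijective (conjEquiv P n) (conjEquiv P n).bijective
  intro h
  have hcls := Cfsg.Agent.CharLib.IsCharacter.isClassFunction
    (Cfsg.Agent.CharLib.IsIrrCharacter.isCharacter χ.2)
  show (χ : G → ℂ) (h : G) * conj (φ (conjEquiv P n h)) =
    (χ : G → ℂ) ((conjEquiv P n h : Cz P) : G) * conj (φ (conjEquiv P n h))
  rw [conjEquiv_coe, hcls (h : G) (n : G)]

end loc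

end Cfsg.Agent.Lib.Helper16.DOCONJ
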