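/-
helper16: S4503 PART E leaf ZCHAR (`notes/S4503_E_leaves.lean`): an element at which a faithful irreducible character
has norm `χ(1)` is central.
-/
import Mathlib
import Cfsg.Prelude.Def_BlockRank
import Cfsg.Agent.Lib.Helper27.DODefs
import Cfsg.Agent.Lib.Helper27.BlkAlgDefs2
import Cfsg.Agent.Lib.Helper14.BREData
import Cfsg.Agent.Lib.Helper16.DOSETUP
import Cfsg.Agent.Lib.Lead.CharBurnside
import Cfsg.Agent.Lib.Helper24.IrrFacts

set_option autoImplicit false

namespace Cfsg.Agent.Lib.Helper16.BREZCHAR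

open Cfsg Cfsg.Agent.Lib.Helper8.DOM Cfsg.Agent.Lib.Helper27.DO Cfsg.Agent.Lib.Helper27.BlkAlg
open scoped ComplexConjugate

universe u

section gen

variable {G : Type u} [Group G] [Finite G] {p : ℕ} [Fact p.Prime] {M : Ideal AlgInt}

/-- ZCHAR : an element at which a faithful irreducible character has norm `χ(1)` is central. -/
theorem mem_center_of_norm_eq (χ : IrrCharacter G)
    (hfaith : ∀ g : G, (χ : G → ℂ) g = (χ : G → ℂ) 1 → g = 1) (g : G)
    (h : ‖(χ : G → ℂ) g‖ = (charDegree (χ : G → ℂ) : ℝ)) : g ∈ Subgroup.center G := by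
  have h1 := Cfsg.Agent.Lib.Helper24.irr_apply_one χ
  obtain ⟨n, ρ, hirr, hρ⟩ := χ.2
  have hfr : Module.finrank ℂ (Fin n → ℂ) = n := by simp
  have hχ1 : (χ : G → ℂ) 1 = n := by rw [← hρ]; simp
  have hdn : charDegree (χ : G → ℂ) = n := by
    rw [h1] at hχ1
    exact_mod_cast hχ1
  have hnorm : ‖ρ.character g‖ = (Module.finrank ℂ (Fin n → ℂ) : ℝ) := by
    rw [hρ, h, hdn, hfr]
  obtain ⟨ω, hω⟩ := Cfsg.Agent.CharLib.exists_scalar_of_norm_char_eq ρ g hnorm
  rw [Subgroup.mem_center_iff]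
  intro k
  have e1 : ρ (k * g) = ρ (g * k) := by
    rw [map_mul, map_mul, hω]
    ext v
    simp
  have e2 : ρ (k * g * (g * k)⁻¹) = 1 := by
    rw [map_mul, e1, ← map_mul, mul_inv_cancel, map_one]
  have e3 : (χ : G → ℂ) (k * g * (g * k)⁻¹) = (χ : G → ℂ) 1 := by
    rw [← hρ]
    unfold Representation.character
    rw [e2, ← map_one ρ]
  have e4 := hfaith _ e3
  exact mul_inv_eq_one.mp e4

end gen

end Cfsg.Agent.Lib.Helper16.BREZCHAR
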