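import Mathlib
import Cfsg.Prelude.Def_Characters
import Cfsg.Agent.Lib.Helper24.BSWDefs

set_option autoImplicit false
open Cfsg Cfsg.Agent.Lib.Helper24.BSW

namespace Cfsg.Agent.Lib.Helper16.BSWB3

variable {G : Type*} [Group G]

theorem s_mul_self {t s : G} {K : Subgroup G} (h : Hyp t s K) : s * s = 1 := by
  have := pow_orderOf_eq_one s
  rw [h.hs, pow_two] at this
  exact this

theorem s_inv_eq {t s : G} {K : Subgroup G} (h : Hyp t s K) : s⁻¹ = s :=
  inv_eq_of_mul_eq_one_left (s_mul_self h)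

theorem s_conj_mem {t s : G} {K : Subgroup G} (h : Hyp t s K) {x : G} (hx : x ∈ K) :
    s * x * s = x⁻¹ := by
  have := h.hinv x hx
  rwa [s_inv_eq h] at this

/-- the subgroup `K ∪ K s`. -/
def KS {t s : G} {K : Subgroup G} (h : Hyp t s K) : Subgroup G where
  carrier := {g | g ∈ K ∨ ∃ k ∈ K, g = k * s}
  one_mem' := Or.inl K.one_mem
  mul_mem' := by
    rintro a b (ha | ⟨k, hk, rfl⟩) (hb | ⟨k', hk', rfl⟩)
    · exact Or.inl (K.mul_mem ha hb)
    · exact Or.inr ⟨a * k', K.mul_mem ha hk', by group⟩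
    · refine Or.inr ⟨k * b⁻¹, K.mul_mem hk (K.inv_mem hb), ?_⟩
      have h1 := s_conj_mem h hb
      calc k * s * b = k * (s * b * s) * s := by
            rw [show k * (s * b * s) * s = k * s * b * (s * s) by group, s_mul_self h, mul_one]
        _ = k * b⁻¹ * s := by rw [h1]
    · refine Or.inl ?_
      have h1 := s_conj_mem h hk'
      have : k * s * (k' * s) = k * k'⁻¹ := by
        rw [← h1]; group
      rw [this]
      exact K.mul_mem hk (K.inv_mem hk')
  inv_mem' := by
    rintro a (ha | ⟨k, hk, rfl⟩)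
    · exact Or.inl (K.inv_mem ha)
    · refine Or.inr ⟨k, hk, ?_⟩
      have h1 := s_conj_mem h (K.inv_mem hk)
      rw [inv_inv] at h1
      calc (k * s)⁻¹ = s⁻¹ * k⁻¹ := by group
        _ = s * k⁻¹ * s * s := by
            rw [s_inv_eq h, mul_assoc (s * k⁻¹), s_mul_self h, mul_one]
        _ = k * s := by rw [h1]

theorem mem_sup_cases {t s : G} {K : Subgroup G} (h : Hyp t s K) :
    ∀ g ∈ K ⊔ Subgroup.zpowers s, g ∈ K ∨ ∃ k ∈ K, g = k * s := by
  intro g hg
  have hle : K ⊔ Subgroup.zpowers s ≤ KS h := by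
    refine sup_le (fun x hx => Or.inl hx) ?_
    rw [Subgroup.zpowers_le]
    exact Or.inr ⟨1, K.one_mem, by simp⟩
  exact hle hg

variable [Finite G]

/-- **B3** an element of `C(t)` lies in `K` or is an involution inverting `K`. -/
theorem mem_cent_cases {t s : G} {K : Subgroup G} (h : Hyp t s K) :
    ∀ g ∈ Subgroup.centralizer ({t} : Set G),
      g ∈ K ∨ (g ∉ K ∧ orderOf g = 2 ∧ ∀ x ∈ K, g * x * g⁻¹ = x⁻¹) := by
  intro g hg
  rw [← h.hH] at hg
  rcases mem_sup_cases h g hg with hgK | ⟨k, hk, rfl⟩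
  · exact Or.inl hgK
  · right
    have hnot : k * s ∉ K := by
      intro hks
      apply h.hsK
      have : s = k⁻¹ * (k * s) := by group
      rw [this]
      exact K.mul_mem (K.inv_mem hk) hks
    refine ⟨hnot, ?_, ?_⟩
    · have hne : k * s ≠ 1 := fun h1 => hnot (h1 ▸ K.one_mem)
      have hsq : (k * s) ^ 2 = 1 := by
        have h1 := s_conj_mem h hk
        rw [pow_two]
        calc k * s * (k * s) = k * (s * k * s) := by group
          _ = 1 := by rw [h1, mul_inv_cancel]
      exact orderOf_eq_prime hsq hne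
    · intro x hx
      have h1 := h.hinv x hx
      have hcomm : k * x⁻¹ = x⁻¹ * k := by
        have := h.hKab.is_comm.comm (⟨k, hk⟩ : K) ⟨x⁻¹, K.inv_mem hx⟩
        exact congrArg Subtype.val this
      calc k * s * x * (k * s)⁻¹ = k * (s * x * s⁻¹) * k⁻¹ := by group
        _ = k * x⁻¹ * k⁻¹ := by rw [h1]
        _ = x⁻¹ := by rw [hcomm]; group

end Cfsg.Agent.Lib.Helper16.BSWB3
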