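import Mathlib
import Cfsg.Prelude.Def_Characters
import Cfsg.Agent.Lib.Helper24.BSWDefs
import Cfsg.Agent.Lib.Helper16.BSWB3

set_option autoImplicit false
open Cfsg Cfsg.Agent.Lib.Helper24.BSW

namespace Cfsg.Agent.Lib.Helper16.BSWB1

variable {G : Type*} [Group G] [Finite G]

/-- **B1** `|C(t)| = 2|K|`, `|K|` is even.  (`K` has index 2 in `K ⊔ <s>`: `s` normalizes `K`,
`s ∉ K`, `s^2 = 1`.) -/
theorem card_centralizer {t s : G} {K : Subgroup G} (h : Hyp t s K) :
    Nat.card (Subgroup.centralizer ({t} : Set G)) = 2 * Nat.card K ∧ Even (Nat.card K) := by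
  constructor
  · have hrel : K.relIndex (Subgroup.centralizer ({t} : Set G)) = 2 := by
      rw [Subgroup.relIndex_eq_two_iff]
      refine ⟨s, h.hsH, ?_⟩
      intro b hb
      rw [← h.hH] at hb
      rcases BSWB3.mem_sup_cases h b hb with hbK | ⟨k, hk, rfl⟩
      · refine Or.inr ⟨hbK, ?_⟩
        intro hbs
        apply h.hsK
        have : s = b⁻¹ * (b * s) := by group
        rw [this]
        exact K.mul_mem (K.inv_mem hbK) hbs
      · refine Or.inl ⟨?_, ?_⟩
        · rw [mul_assoc, BSWB3.s_mul_self h, mul_one]; exact hk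
        · intro hks
          apply h.hsK
          have : s = k⁻¹ * (k * s) := by group
          rw [this]
          exact K.mul_mem (K.inv_mem hk) hks
    have hKH : K ≤ Subgroup.centralizer ({t} : Set G) := h.hKH
    have := Subgroup.relIndex_mul_relIndex (⊥ : Subgroup G) K
      (Subgroup.centralizer ({t} : Set G)) bot_le hKH
    rw [Subgroup.relIndex_bot_left, Subgroup.relIndex_bot_left, hrel] at this
    omega
  · have := Subgroup.orderOf_dvd_natCard K h.htK
    rw [h.ht] at this
    exact even_iff_two_dvd.mpr this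

end Cfsg.Agent.Lib.Helper16.BSWB1
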