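/-
S4840 (solvable Gagola characters; planner helper1), leaf (T6) (helper16):
`R ≅ Q₈` normal in `X` with `|X : C_X(R)| ≠ 24`: every element of `[X,X]` lies in `R · C_X(R)`.
-/
import Mathlib
import Cfsg.Agent.Lib.Helper19.GagT4
import Cfsg.Agent.Lib.Helper23.Q8Aut

set_option autoImplicit false

universe u

namespace Cfsg.Agent.Lib.Helper16.Gag

open scoped commutatorElement

/-- a finite group of order at most `3` is commutative -/
theorem mul_comm_of_card_le_three {Z : Type u} [Group Z] [Finite Z] (h : Nat.card Z ≤ 3)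
    (a b : Z) : a * b = b * a := by
  have hpos : 0 < Nat.card Z := Nat.card_pos
  have hcyc : IsCyclic Z := by
    rcases (by omega : Nat.card Z = 1 ∨ Nat.card Z = 2 ∨ Nat.card Z = 3) with h1 | h2 | h3
    · have : Subsingleton Z := (Nat.card_eq_one_iff_unique.mp h1).1
      exact isCyclic_of_subsingleton
    · haveI : Fact (Nat.Prime 2) := ⟨Nat.prime_two⟩
      exact isCyclic_of_prime_card h2
    · haveI : Fact (Nat.Prime 3) := ⟨Nat.prime_three⟩
      exact isCyclic_of_prime_card h3
  letI := hcyc.commGroup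
  exact mul_comm a b

/-- the quaternion group of order `8` is not commutative -/
theorem quaternion_two_not_comm :
    (QuaternionGroup.a 1 : QuaternionGroup 2) * QuaternionGroup.xa 0 ≠
      QuaternionGroup.xa 0 * QuaternionGroup.a 1 := by
  decide

/-- (T6) `R ≅ Q₈` normal in `X` with `|X : C_X(R)| ≠ 24`: every element of `[X,X]` acts on `R` as an inner
automorphism of `R`. -/
theorem exists_inner_of_index_ne {X : Type u} [Group X] [Finite X] (R : Subgroup X) [R.Normal]
    (e : R ≃* QuaternionGroup 2) (hidx : (Subgroup.centralizer (R : Set X)).index ≠ 24)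
    (d : X) (hd : d ∈ commutator X) :
    ∃ g ∈ R, d * g⁻¹ ∈ Subgroup.centralizer (R : Set X) := by
  set C : Subgroup X := Subgroup.centralizer (R : Set X) with hC
  have hCn : C.Normal := Subgroup.normal_centralizer
  -- `|X : C|` divides `24`
  have h24 : C.index ∣ 24 := by
    have h1 := Cfsg.Agent.Lib.Helper19.Gag.relIndex_centralizer_dvd_card_mulAut R ⊤
    rw [Subgroup.relIndex_top_right] at h1
    have h2 : Nat.card (MulAut R) = 24 := by
      rw [Nat.card_congr (MulAut.congr e).toEquiv]
      exact Cfsg.Agent.Lib.Helper23.Q8Aut.card_mulAut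
    rwa [h2] at h1
  -- `|R : R ∩ C|` divides `8` and is not `1` or `2`
  have hR8 : Nat.card R = 8 := by
    rw [Nat.card_congr e.toEquiv, Nat.card_eq_fintype_card, QuaternionGroup.card]
  have hr8 : C.relIndex R ∣ 8 := by
    rw [← hR8]
    exact Subgroup.relIndex_dvd_card C R
  have hr : C.relIndex R ≠ 1 ∧ C.relIndex R ≠ 2 := by
    -- otherwise `R / Z(R)` is cyclic and `R` is commutative
    by_contra hcon
    have hle : C.relIndex R ≤ 3 := by
      by_contra h3
      apply hcon
      constructor <;> omega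
    -- the quotient `R / (C ⊓ R)`
    have hZn : (C.subgroupOf R).Normal := inferInstance
    have hcard : Nat.card (R ⧸ C.subgroupOf R) ≤ 3 := by
      have : Nat.card (R ⧸ C.subgroupOf R) = C.relIndex R := rfl
      rw [this]
      exact hle
    have hcomm : ∀ x y : R ⧸ C.subgroupOf R, x * y = y * x :=
      mul_comm_of_card_le_three hcard
    have hcyc : ∀ x y : R, x * y = y * x := by
      intro x y
      have hZ : (QuotientGroup.mk' (C.subgroupOf R)).ker ≤ Subgroup.center R := by
        rw [QuotientGroup.ker_mk']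
        intro z hz
        rw [Subgroup.mem_center_iff]
        intro w
        have hz' : (z : X) ∈ C := hz
        rw [hC, Subgroup.mem_centralizer_iff] at hz'
        apply Subtype.ext
        exact hz' (w : X) w.2
      haveI : IsCyclic (R ⧸ C.subgroupOf R) := by
        have hpos : 0 < Nat.card (R ⧸ C.subgroupOf R) := Nat.card_pos
        rcases (by omega : Nat.card (R ⧸ C.subgroupOf R) = 1 ∨
            Nat.card (R ⧸ C.subgroupOf R) = 2 ∨ Nat.card (R ⧸ C.subgroupOf R) = 3)
          with h1 | h2 | h3
        · have : Subsingleton (R ⧸ C.subgroupOf R) := (Nat.card_eq_one_iff_unique.mp h1).1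
          exact isCyclic_of_subsingleton
        · haveI : Fact (Nat.Prime 2) := ⟨Nat.prime_two⟩
          exact isCyclic_of_prime_card h2
        · haveI : Fact (Nat.Prime 3) := ⟨Nat.prime_three⟩
          exact isCyclic_of_prime_card h3
      exact commutative_of_cyclic_center_quotient (QuotientGroup.mk' (C.subgroupOf R)) hZ x y
    apply quaternion_two_not_comm
    have := hcyc (e.symm (QuaternionGroup.a 1)) (e.symm (QuaternionGroup.xa 0))
    have h2 := congrArg e this
    simpa using h2
  -- `Y = R ⊔ C`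
  have hYn : (R ⊔ C).Normal := inferInstance
  have hidxY : C.relIndex R * (R ⊔ C).index = C.index := by
    rw [← Subgroup.relIndex_sup_right (H := R) (K := C)]
    exact Subgroup.relIndex_mul_index le_sup_right
  have hY3 : Nat.card (X ⧸ (R ⊔ C)) ≤ 3 := by
    have hi : Nat.card (X ⧸ (R ⊔ C)) = (R ⊔ C).index := rfl
    rw [hi]
    have hr48 : C.relIndex R = 4 ∨ C.relIndex R = 8 := by
      have hdiv : C.relIndex R ∈ Nat.divisors 8 := Nat.mem_divisors.mpr ⟨hr8, by norm_num⟩
      have hd8 : Nat.divisors 8 = {1, 2, 4, 8} := by decide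
      rw [hd8] at hdiv
      simp only [Finset.mem_insert, Finset.mem_singleton] at hdiv
      rcases hdiv with h | h | h | h
      · exact absurd h hr.1
      · exact absurd h hr.2
      · exact Or.inl h
      · exact Or.inr h
    have hy : (R ⊔ C).index ∣ 24 := Dvd.dvd.trans (Dvd.intro_left _ hidxY) h24
    have hypos : 0 < (R ⊔ C).index := Nat.pos_of_ne_zero Subgroup.index_ne_zero_of_finite
    have hyle : (R ⊔ C).index ≤ 24 := Nat.le_of_dvd (by norm_num) hy
    rcases hr48 with h4 | h8
    · rw [h4] at hidxY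
      -- `4 y ∣ 24`, `4 y ≠ 24`
      have h1 : 4 * (R ⊔ C).index ∣ 24 := by rw [hidxY]; exact h24
      have h2 : 4 * (R ⊔ C).index ≠ 24 := by rw [hidxY]; exact hidx
      by_contra hgt
      have h6 : (R ⊔ C).index ∣ 6 := by
        have : 4 * (R ⊔ C).index ∣ 4 * 6 := h1
        exact Nat.dvd_of_mul_dvd_mul_left (by norm_num) this
      have hle6 : (R ⊔ C).index ≤ 6 := Nat.le_of_dvd (by norm_num) h6
      interval_cases h : (R ⊔ C).index <;> simp_all
    · rw [h8] at hidxY
      have h1 : 8 * (R ⊔ C).index ∣ 24 := by rw [hidxY]; exact h24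
      have h3 : (R ⊔ C).index ∣ 3 := by
        have : 8 * (R ⊔ C).index ∣ 8 * 3 := h1
        exact Nat.dvd_of_mul_dvd_mul_left (by norm_num) this
      exact Nat.le_of_dvd (by norm_num) h3
  -- `[X,X] ≤ R ⊔ C`
  have hcomm : commutator X ≤ R ⊔ C := by
    rw [commutator_def, Subgroup.commutator_le]
    intro g₁ _ g₂ _
    rw [← QuotientGroup.eq_one_iff]
    show (QuotientGroup.mk' (R ⊔ C)) ⁅g₁, g₂⁆ = 1
    rw [map_commutatorElement]
    exact commutatorElement_eq_one_iff_mul_comm.mpr (mul_comm_of_card_le_three hY3 _ _)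
  have hdY : d ∈ R ⊔ C := hcomm hd
  have hset : (d : X) ∈ ((R ⊔ C : Subgroup X) : Set X) := hdY
  rw [Subgroup.mul_normal R C] at hset
  obtain ⟨g, hg, c, hc, rfl⟩ := Set.mem_mul.mp hset
  refine ⟨g, hg, ?_⟩
  have : g * c * g⁻¹ ∈ C := hCn.conj_mem c hc g
  exact this

end Cfsg.Agent.Lib.Helper16.Gag
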