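/-
S4840 (solvable Gagola characters; planner helper1), leaf (L) (helper16):
if `p ∤ |[X,X]|` then `X` has a normal `p`-complement and commutative Sylow `p`-subgroups.
-/
import Mathlib
import Cfsg.Prelude.Def_Transfer
import Cfsg.Agent.Lib.Helper12.PComplement
import Cfsg.Agent.Lib.Helper12.PNilpotent

set_option autoImplicit false

universe u

namespace Cfsg.Agent.Lib.Helper16.Gag

open scoped commutatorElement

/-- a finite commutative group has a normal `p`-complement -/
theorem hasNormalPComplement_of_comm {A : Type u} [CommGroup A] [Finite A] (p : ℕ) [Fact p.Prime] :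
    Cfsg.HasNormalPComplement p A := by
  have hp : p.Prime := Fact.out
  have hA0 : Nat.card A ≠ 0 := Nat.card_pos.ne'
  obtain ⟨k, m, hpm, hkm⟩ := Nat.exists_eq_pow_mul_and_not_dvd hA0 p hp.ne_one
  -- `K = {x | x ^ m = 1}`
  let f : A →* A := powMonoidHom m
  have hKn : f.ker.Normal := inferInstance
  -- `|K|` is prime to `p`
  have hK : (Nat.card f.ker).Coprime p := by
    rw [Nat.coprime_comm, Nat.Prime.coprime_iff_not_dvd hp]
    intro hdvd
    obtain ⟨x, hx⟩ := exists_prime_orderOf_dvd_card' p hdvd
    have hx1 : (x : A) ^ m = 1 := x.2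
    have hx2 : orderOf (x : A) = p := by rw [Subgroup.orderOf_coe, hx]
    apply hpm
    rw [← hx2]
    exact orderOf_dvd_of_pow_eq_one hx1
  -- the index of `K` is a power of `p`
  have hrange : IsPGroup p f.range := by
    rintro ⟨y, x, rfl⟩
    refine ⟨k, ?_⟩
    apply Subtype.ext
    show (f x) ^ p ^ k = 1
    show (x ^ m) ^ p ^ k = 1
    rw [← pow_mul, mul_comm, ← hkm]
    exact pow_card_eq_one'
  obtain ⟨a, ha⟩ := IsPGroup.iff_card.mp hrange
  have hidx : f.ker.index = p ^ a := by
    rw [Subgroup.index_ker, ha]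
  exact Cfsg.Agent.Lib.Helper12.hasNormalPComplement_of_normal f.ker hKn hK a hidx

/-- (L) If `p ∤ |[X,X]|` then `X` has a normal `p`-complement and commutative Sylow `p`-subgroups. -/
theorem npc_of_commutator_coprime {X : Type u} [Group X] [Finite X] (p : ℕ) [Fact p.Prime]
    (h : (Nat.card (commutator X)).Coprime p) :
    Cfsg.HasNormalPComplement p X ∧ ∀ Q : Sylow p X, IsMulCommutative (Q : Subgroup X) := by
  refine ⟨?_, ?_⟩
  · apply Cfsg.Agent.Lib.Helper12.hasNormalPComplement_of_quotient (commutator X) h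
    exact hasNormalPComplement_of_comm (A := Abelianization X) p
  · intro Q
    have hbot : (Q : Subgroup X) ⊓ commutator X = ⊥ := by
      apply Disjoint.eq_bot
      apply Subgroup.disjoint_of_coprime_natCard
      obtain ⟨k, hk⟩ := IsPGroup.iff_card.mp Q.2
      rw [hk]
      exact (Nat.Coprime.pow_right k h).symm
    refine ⟨⟨fun a b => ?_⟩⟩
    apply Subtype.ext
    show (a : X) * (b : X) = (b : X) * (a : X)
    have hc : ⁅(a : X), (b : X)⁆ ∈ (Q : Subgroup X) ⊓ commutator X := by
      refine ⟨?_, ?_⟩
      · rw [commutatorElement_def]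
        exact Subgroup.mul_mem _ (Subgroup.mul_mem _ (Subgroup.mul_mem _ a.2 b.2)
          (Subgroup.inv_mem _ a.2)) (Subgroup.inv_mem _ b.2)
      · rw [commutator_def]
        exact Subgroup.commutator_mem_commutator (Subgroup.mem_top _) (Subgroup.mem_top _)
    rw [hbot, Subgroup.mem_bot] at hc
    exact commutatorElement_eq_one_iff_mul_comm.mp hc

end Cfsg.Agent.Lib.Helper16.Gag
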