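import Cfsg.Prelude.Def_LocalEven
import Cfsg.Agent.Lib.Helper3.Dihedral

set_option autoImplicit false
set_option linter.style.haveILetI false
open Cfsg
open scoped Pointwise commutatorElement

namespace Cfsg.Agent.Lib.Helper16

theorem involves_dihedral_of_inverting {G : Type*} [Group G] {p : ℕ} [Fact p.Prime] (hp : p ≠ 2)
    (x y : G) (hx : ∃ k : ℕ, orderOf x = 2 ^ k) (hy : orderOf y = p)
    (hxy : x * y * x⁻¹ = y⁻¹) : Cfsg.Involves (DihedralGroup p) G := by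
  have hpp : p.Prime := Fact.out
  set z := x * x with hz
  set K := Subgroup.closure ({x, y} : Set G) with hK
  set R := Subgroup.zpowers z with hR
  have hxK : x ∈ K := Subgroup.subset_closure (by simp)
  have hyK : y ∈ K := Subgroup.subset_closure (by simp)
  have hzK : z ∈ K := K.mul_mem hxK hxK
  have hRK : R ≤ K := Subgroup.zpowers_le.mpr hzK
  have hzy : z * y = y * z := by
    have h1 : x * y = y⁻¹ * x := by
      have : x * y = (x * y * x⁻¹) * x := by group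
      rw [this, hxy]
    have h2 : x * y⁻¹ = y * x := by
      have h3 : x * y⁻¹ * x⁻¹ = y := by
        have : x * y⁻¹ * x⁻¹ = (x * y * x⁻¹)⁻¹ := by group
        rw [this, hxy, inv_inv]
      have : x * y⁻¹ = (x * y⁻¹ * x⁻¹) * x := by group
      rw [this, h3]
    calc z * y = x * (x * y) := by rw [hz, mul_assoc]
      _ = x * (y⁻¹ * x) := by rw [h1]
      _ = (x * y⁻¹) * x := by rw [mul_assoc]
      _ = y * x * x := by rw [h2]
      _ = y * z := by rw [hz, mul_assoc]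
  have hKz : ∀ g ∈ K, Commute z g := by
    intro g hg
    have hle : K ≤ Subgroup.centralizer ({z} : Set G) := by
      rw [hK, Subgroup.closure_le]
      rintro g (rfl | rfl)
      · rw [SetLike.mem_coe, Subgroup.mem_centralizer_iff]
        rintro _ rfl
        rw [hz, mul_assoc]
      · rw [SetLike.mem_coe, Subgroup.mem_centralizer_iff]
        rintro _ rfl
        exact hzy
    exact (Subgroup.mem_centralizer_iff.mp (hle hg)) z rfl
  have hn : (R.subgroupOf K).Normal := by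
    constructor
    intro n hn g
    rw [Subgroup.mem_subgroupOf] at hn ⊢
    obtain ⟨k, hk⟩ := Subgroup.mem_zpowers_iff.mp hn
    have hc : Commute (n : G) (g : G) := by
      rw [← hk]; exact (hKz g g.2).zpow_left k
    have : ((g * n * g⁻¹ : ↥K) : G) = (n : G) := by
      show (g : G) * (n : G) * (g : G)⁻¹ = (n : G)
      rw [← hc.eq]; group
    rw [this]; exact hn
  set Q := ↥K ⧸ R.subgroupOf K
  set π : ↥K →* Q := QuotientGroup.mk' (R.subgroupOf K) with hπ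
  set xb : Q := π ⟨x, hxK⟩ with hxb
  set yb : Q := π ⟨y, hyK⟩ with hyb
  have hπz : π ⟨z, hzK⟩ = 1 := by
    rw [hπ, QuotientGroup.mk'_apply, QuotientGroup.eq_one_iff, Subgroup.mem_subgroupOf]
    exact Subgroup.mem_zpowers z
  have hyp : yb ^ p = 1 := by
    rw [hyb, ← map_pow]
    have : (⟨y, hyK⟩ : ↥K) ^ p = 1 := by
      apply Subtype.ext
      show y ^ p = 1
      rw [← hy]; exact pow_orderOf_eq_one y
    rw [this, map_one]
  have hxx : xb * xb = 1 := by
    rw [hxb, ← map_mul]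
    exact hπz
  have hxyx : xb * yb * xb = yb⁻¹ := by
    rw [hxb, hyb, ← map_mul, ← map_mul, ← map_inv]
    have : (⟨x, hxK⟩ * ⟨y, hyK⟩ * ⟨x, hxK⟩ : ↥K) = (⟨y, hyK⟩ : ↥K)⁻¹ * ⟨z, hzK⟩ := by
      apply Subtype.ext
      show x * y * x = y⁻¹ * z
      rw [← hxy, hz]; group
    rw [this, map_mul, hπz, mul_one]
  have hyb1 : yb ≠ 1 := by
    intro h1
    rw [hyb, hπ, QuotientGroup.mk'_apply, QuotientGroup.eq_one_iff, Subgroup.mem_subgroupOf] at h1
    have h2 : orderOf y ∣ orderOf z := orderOf_dvd_of_mem_zpowers h1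
    obtain ⟨k, hk⟩ := hx
    have h3 : orderOf z ∣ 2 ^ k := by
      rw [← hk, hz, ← pow_two]; exact orderOf_pow_dvd 2
    rw [hy] at h2
    have h4 : p ∣ 2 := hpp.dvd_of_dvd_pow (h2.trans h3)
    exact hp ((Nat.prime_dvd_prime_iff_eq hpp Nat.prime_two).mp h4)
  have hord : orderOf yb = p := orderOf_eq_prime hyp hyb1
  have hnot : xb ∉ Subgroup.zpowers yb := by
    intro hmem
    obtain ⟨k, hk⟩ := Subgroup.mem_zpowers_iff.mp hmem
    have hc : Commute xb yb := by rw [← hk]; exact (Commute.refl yb).zpow_left k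
    have h1 : yb = yb⁻¹ := by
      calc yb = yb * (xb * xb) := by rw [hxx, mul_one]
        _ = xb * yb * xb := by rw [← mul_assoc, hc.eq]
        _ = yb⁻¹ := hxyx
    have h2 : yb ^ 2 = 1 := by
      rw [pow_two]; nth_rewrite 2 [h1]; exact mul_inv_cancel yb
    have h3 : p ∣ 2 := by rw [← hord]; exact orderOf_dvd_of_pow_eq_one h2
    exact hp ((Nat.prime_dvd_prime_iff_eq hpp Nat.prime_two).mp h3)
  have hinj := Cfsg.Agent.Lib.Helper3.dihLift_injective yb xb hyp hxx hxyx hord hnot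
  have hrange := Cfsg.Agent.Lib.Helper3.dihLift_range yb xb hyp hxx hxyx
  have hgen : Subgroup.closure ({yb, xb} : Set Q) = ⊤ := by
    have h1 : Subgroup.closure ({⟨y, hyK⟩, ⟨x, hxK⟩} : Set ↥K) = ⊤ := by
      rw [eq_top_iff, ← Subgroup.closure_closure_coe_preimage (k := ({x, y} : Set G))]
      apply Subgroup.closure_mono
      rintro ⟨a, ha⟩ (h | h)
      · right
        exact Subtype.ext h
      · left
        exact Subtype.ext h
    have h2 : (Subgroup.closure ({⟨y, hyK⟩, ⟨x, hxK⟩} : Set ↥K)).map π =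
        Subgroup.closure ({yb, xb} : Set Q) := by
      rw [MonoidHom.map_closure, Set.image_pair]
    rw [← h2, h1, Subgroup.map_top_of_surjective π (QuotientGroup.mk'_surjective _)]
  have hsurj : Function.Surjective (Cfsg.Agent.Lib.Helper3.dihLift yb xb hyp hxx hxyx) := by
    rw [← MonoidHom.range_eq_top, hrange, hgen]
  exact ⟨K, R, hn, ⟨(MulEquiv.ofBijective _ ⟨hinj, hsurj⟩).symm⟩⟩

theorem exists_order_p_inverted {G : Type*} [Group G] {p : ℕ} [Fact p.Prime]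
    (x y : G) (hy : ∃ k : ℕ, orderOf y = p ^ k) (hy1 : y ≠ 1)
    (hxy : x * y * x⁻¹ = y⁻¹) : ∃ y' : G, orderOf y' = p ∧ x * y' * x⁻¹ = y'⁻¹ := by
  have hpp : p.Prime := Fact.out
  obtain ⟨k, hk⟩ := hy
  have hk0 : k ≠ 0 := by
    intro h0
    rw [h0, pow_zero, orderOf_eq_one_iff] at hk
    exact hy1 hk
  obtain ⟨m, rfl⟩ := Nat.exists_eq_succ_of_ne_zero hk0
  refine ⟨y ^ (p ^ m), ?_, ?_⟩
  · have h1 : (y ^ (p ^ m)) ^ p = 1 := by
      rw [← pow_mul, ← pow_succ, ← hk]; exact pow_orderOf_eq_one y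
    have h2 : y ^ (p ^ m) ≠ 1 := by
      intro h
      have h3 : orderOf y ∣ p ^ m := orderOf_dvd_of_pow_eq_one h
      rw [hk] at h3
      have h4 : p ^ (m + 1) ≤ p ^ m := Nat.le_of_dvd (pow_pos hpp.pos m) h3
      have h5 : p ^ m < p ^ (m + 1) := Nat.pow_lt_pow_right hpp.one_lt (Nat.lt_succ_self m)
      omega
    exact orderOf_eq_prime h1 h2
  · rw [← conj_pow, hxy, inv_pow]

/-- A → B -/
theorem exists_inverted_of_not_centralizing {G : Type*} [Group G] {p : ℕ} [Fact p.Prime]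
    (x : G) (P : Subgroup G) (hx : ∃ k : ℕ, orderOf x = 2 ^ k) (hP : IsPGroup p ↥P)
    (hxN : x ∈ Subgroup.normalizer (P : Set G)) (hxC : x ∉ Subgroup.centralizer (P : Set G)) :
    ∃ x' y : G, (∃ k : ℕ, orderOf x' = 2 ^ k) ∧ (∃ k : ℕ, orderOf y = p ^ k) ∧ y ≠ 1 ∧
      x' * y * x'⁻¹ = y⁻¹ := by
  obtain ⟨k, hk⟩ := hx
  have hex : ∃ j : ℕ, x ^ (2 ^ j) ∈ Subgroup.centralizer (P : Set G) :=
    ⟨k, by rw [← hk, pow_orderOf_eq_one]; exact Subgroup.one_mem _⟩
  classical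
  have hj0 : Nat.find hex ≠ 0 := by
    intro h0
    have := Nat.find_spec hex
    rw [h0, pow_zero, pow_one] at this
    exact hxC this
  obtain ⟨m, hm⟩ := Nat.exists_eq_succ_of_ne_zero hj0
  set t := x ^ (2 ^ m) with ht
  have htC : t ∉ Subgroup.centralizer (P : Set G) := Nat.find_min hex (by omega)
  have ht2 : t * t ∈ Subgroup.centralizer (P : Set G) := by
    have := Nat.find_spec hex
    rw [hm, Nat.succ_eq_add_one, pow_succ, pow_mul, pow_two] at this
    exact this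
  have htN : t ∈ Subgroup.normalizer (P : Set G) := Subgroup.pow_mem _ hxN _
  have hto : ∃ k' : ℕ, orderOf t = 2 ^ k' := by
    have h1 : orderOf t ∣ 2 ^ k := by rw [← hk, ht]; exact orderOf_pow_dvd _
    obtain ⟨k', -, hk'⟩ := (Nat.dvd_prime_pow Nat.prime_two).mp h1
    exact ⟨k', hk'⟩
  rw [Subgroup.mem_centralizer_iff] at htC
  push Not at htC
  obtain ⟨u, hu, hut⟩ := htC
  have hu' : t * u * t⁻¹ ∈ P := (Subgroup.mem_normalizer_iff.mp htN u).mp hu
  set y := u⁻¹ * (t * u * t⁻¹) with hy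
  have hyP : y ∈ P := P.mul_mem (P.inv_mem hu) hu'
  refine ⟨t, y, hto, ?_, ?_, ?_⟩
  · obtain ⟨k', hk'⟩ := (IsPGroup.iff_orderOf.mp hP) ⟨y, hyP⟩
    exact ⟨k', by rw [← hk', Subgroup.orderOf_mk]⟩
  · intro h1
    apply hut
    have h2 : t * u * t⁻¹ = u := by
      have : t * u * t⁻¹ = u * y := by rw [hy]; group
      rw [this, h1, mul_one]
    calc u * t = (t * u * t⁻¹) * t := by rw [h2]
      _ = t * u := by group
  · have h3 : u * (t * t) = (t * t) * u := (Subgroup.mem_centralizer_iff.mp ht2) u hu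
    have h4 : t * t * u * (t * t)⁻¹ = u := by
      rw [← h3]; group
    calc t * y * t⁻¹ = (t * u * t⁻¹)⁻¹ * (t * t * u * (t * t)⁻¹) := by rw [hy]; group
      _ = (t * u * t⁻¹)⁻¹ * u := by rw [h4]
      _ = y⁻¹ := by rw [hy]; group

/-- the rotation subgroup of a dihedral group. -/
def dihRot (n : ℕ) : Subgroup (DihedralGroup n) where
  carrier := {g | ∃ i : ZMod n, g = DihedralGroup.r i}
  one_mem' := ⟨0, rfl⟩
  mul_mem' := by
    rintro _ _ ⟨i, rfl⟩ ⟨j, rfl⟩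
    exact ⟨i + j, DihedralGroup.r_mul_r i j⟩
  inv_mem' := by
    rintro _ ⟨i, rfl⟩
    exact ⟨-i, DihedralGroup.inv_r i⟩

instance dihRot_normal (n : ℕ) : (dihRot n).Normal := by
  constructor
  rintro _ ⟨i, rfl⟩ (j | j)
  · refine ⟨i, ?_⟩
    rw [DihedralGroup.r_mul_r, DihedralGroup.inv_r, DihedralGroup.r_mul_r]
    congr 1; ring
  · refine ⟨-i, ?_⟩
    rw [DihedralGroup.sr_mul_r, DihedralGroup.inv_sr, DihedralGroup.sr_mul_sr]
    congr 1; ring

theorem not_mem_dihRot_iff {n : ℕ} (g : DihedralGroup n) :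
    g ∉ dihRot n ↔ ∃ j : ZMod n, g = DihedralGroup.sr j := by
  constructor
  · intro h
    rcases g with i | j
    · exact absurd ⟨i, rfl⟩ h
    · exact ⟨j, rfl⟩
  · rintro ⟨j, rfl⟩ ⟨i, hi⟩
    cases hi

/-- Inv → A -/
theorem exists_not_centralizing_of_involves {G : Type*} [Group G] [Finite G] {p : ℕ}
    [Fact p.Prime] (hp : p ≠ 2) (h : Cfsg.Involves (DihedralGroup p) G) :
    ∃ (x : G) (P : Subgroup G), (∃ k : ℕ, orderOf x = 2 ^ k) ∧ IsPGroup p ↥P ∧
      x ∈ Subgroup.normalizer (P : Set G) ∧ x ∉ Subgroup.centralizer (P : Set G) := by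
  have hpp : p.Prime := Fact.out
  obtain ⟨K, R, hn, ⟨e⟩⟩ := h
  set π : ↥K →* DihedralGroup p := e.toMonoidHom.comp (QuotientGroup.mk' (R.subgroupOf K)) with hπ
  have hπs : Function.Surjective π := by
    intro d
    obtain ⟨k, hk⟩ := QuotientGroup.mk'_surjective (R.subgroupOf K) (e.symm d)
    exact ⟨k, by rw [hπ, MonoidHom.comp_apply, hk]; simp⟩
  set N : Subgroup ↥K := (dihRot p).comap π with hN
  haveI hNn : N.Normal := Subgroup.Normal.comap inferInstance π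
  -- a p-element of N mapping to a nontrivial rotation
  obtain ⟨y₀, hy₀⟩ := hπs (DihedralGroup.r 1)
  have hy₀pos : 0 < orderOf y₀ := orderOf_pos y₀
  obtain ⟨a, b, hb, hab⟩ := Nat.exists_eq_pow_mul_and_not_dvd hy₀pos.ne' p hpp.ne_one
  set y := y₀ ^ b with hy
  have hπy : π y = DihedralGroup.r (b : ZMod p) := by
    rw [hy, map_pow, hy₀, DihedralGroup.r_one_pow]
  have hb0 : (b : ZMod p) ≠ 0 := by
    rw [Ne, ZMod.natCast_eq_zero_iff]; exact hb
  have hyN : y ∈ N := by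
    rw [hN, Subgroup.mem_comap, hπy]; exact ⟨_, rfl⟩
  have hyo : (y ^ (p ^ a)) = 1 := by
    rw [hy, ← pow_mul, mul_comm, ← hab]; exact pow_orderOf_eq_one y₀
  -- Sylow of N containing y
  have hzp : IsPGroup p ↥(Subgroup.zpowers (⟨y, hyN⟩ : ↥N)) := by
    rw [IsPGroup.iff_card, Nat.card_zpowers]
    have h1 : orderOf (⟨y, hyN⟩ : ↥N) ∣ p ^ a := by
      apply orderOf_dvd_of_pow_eq_one
      apply Subtype.ext
      exact hyo
    obtain ⟨k, -, hk⟩ := (Nat.dvd_prime_pow hpp).mp h1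
    exact ⟨k, hk⟩
  obtain ⟨P, hP⟩ := hzp.exists_le_sylow
  have hyP : (⟨y, hyN⟩ : ↥N) ∈ (P : Subgroup ↥N) := hP (Subgroup.mem_zpowers _)
  set P' : Subgroup ↥K := (P : Subgroup ↥N).map N.subtype with hP'
  have hyP' : y ∈ P' := ⟨⟨y, hyN⟩, hyP, rfl⟩
  have hfr : Subgroup.normalizer (P' : Set ↥K) ⊔ N = ⊤ := Sylow.normalizer_sup_eq_top P
  obtain ⟨g₀, hg₀⟩ := hπs (DihedralGroup.sr 0)
  have hg₀' : g₀ ∈ Subgroup.normalizer (P' : Set ↥K) ⊔ N := by rw [hfr]; exact Subgroup.mem_top _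
  rw [Subgroup.mem_sup_of_normal_right] at hg₀'
  obtain ⟨h₀, hh₀, n, hnN, hhn⟩ := hg₀'
  -- π h₀ is a reflection
  have hπh : π h₀ ∉ dihRot p := by
    intro hmem
    have h1 : π g₀ ∈ dihRot p := by
      rw [← hhn, map_mul]
      exact (dihRot p).mul_mem hmem hnN
    rw [hg₀] at h1
    exact (not_mem_dihRot_iff _).mpr ⟨0, rfl⟩ h1
  obtain ⟨j, hj⟩ := (not_mem_dihRot_iff _).mp hπh
  -- the 2-part of h₀
  have hh₀pos : 0 < orderOf h₀ := orderOf_pos h₀
  obtain ⟨c, d, hd, hcd⟩ := Nat.exists_eq_pow_mul_and_not_dvd hh₀pos.ne' 2 (by norm_num)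
  set x := h₀ ^ d with hx
  have hdodd : Odd d := Nat.odd_iff.mpr (Nat.two_dvd_ne_zero.mp hd)
  have hπx : π x = DihedralGroup.sr j := by
    rw [hx, map_pow, hj]
    obtain ⟨q, hq⟩ := hdodd
    rw [hq, pow_succ, pow_mul, pow_two, DihedralGroup.sr_mul_self, one_pow, one_mul]
  have hxo : ∃ k : ℕ, orderOf x = 2 ^ k := by
    have h1 : orderOf x ∣ 2 ^ c := by
      apply orderOf_dvd_of_pow_eq_one
      rw [hx, ← pow_mul, mul_comm, ← hcd]; exact pow_orderOf_eq_one h₀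
    obtain ⟨k, -, hk⟩ := (Nat.dvd_prime_pow Nat.prime_two).mp h1
    exact ⟨k, hk⟩
  have hxN : x ∈ Subgroup.normalizer (P' : Set ↥K) := Subgroup.pow_mem _ hh₀ _
  -- x does not commute with y
  have hxy : y * x ≠ x * y := by
    intro hc
    have h1 := congrArg π hc
    rw [map_mul, map_mul, hπx, hπy, DihedralGroup.r_mul_sr, DihedralGroup.sr_mul_r] at h1
    have h2 : j - (b : ZMod p) = j + (b : ZMod p) := by
      injection h1
    have h3 : (2 : ZMod p) * (b : ZMod p) = 0 := by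
      linear_combination (-1 : ZMod p) * h2
    have h4 : (2 : ZMod p) ≠ 0 := by
      intro h
      have : ((2 : ℕ) : ZMod p) = 0 := by exact_mod_cast h
      rw [ZMod.natCast_eq_zero_iff] at this
      exact hp ((Nat.prime_dvd_prime_iff_eq hpp Nat.prime_two).mp this)
    haveI : IsDomain (ZMod p) := inferInstance
    rcases mul_eq_zero.mp h3 with h | h
    · exact h4 h
    · exact hb0 h
  refine ⟨(x : G), P'.map K.subtype, ?_, ?_, ?_, ?_⟩
  · obtain ⟨k, hk⟩ := hxo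
    exact ⟨k, by rw [← hk, Subgroup.orderOf_coe]⟩
  · exact (P.isPGroup'.map _).map _
  · exact Subgroup.le_normalizer_map K.subtype ⟨x, hxN, rfl⟩
  · intro hC
    apply hxy
    apply Subtype.ext
    exact (Subgroup.mem_centralizer_iff.mp hC) (y : G) ⟨y, hyP', rfl⟩

/-- S2758 -/
theorem dihedral_involved_iff {G : Type*} [Group G] [Finite G] {p : ℕ} [Fact p.Prime]
    (hp : p ≠ 2) :
    (Cfsg.Involves (DihedralGroup p) G ↔ ∃ (x : G) (P : Subgroup G),
      (∃ k : ℕ, orderOf x = 2 ^ k) ∧ IsPGroup p ↥P ∧ x ∈ Subgroup.normalizer (P : Set G) ∧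
        x ∉ Subgroup.centralizer (P : Set G)) ∧
    (Cfsg.Involves (DihedralGroup p) G ↔ ∃ x y : G, (∃ k : ℕ, orderOf x = 2 ^ k) ∧
      (∃ k : ℕ, orderOf y = p ^ k) ∧ y ≠ 1 ∧ x * y * x⁻¹ = y⁻¹) := by
  have hIA := exists_not_centralizing_of_involves (G := G) hp
  have hAB : (∃ (x : G) (P : Subgroup G),
      (∃ k : ℕ, orderOf x = 2 ^ k) ∧ IsPGroup p ↥P ∧ x ∈ Subgroup.normalizer (P : Set G) ∧
        x ∉ Subgroup.centralizer (P : Set G)) → ∃ x y : G, (∃ k : ℕ, orderOf x = 2 ^ k) ∧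
      (∃ k : ℕ, orderOf y = p ^ k) ∧ y ≠ 1 ∧ x * y * x⁻¹ = y⁻¹ :=
    fun ⟨x, P, hx, hP, hN, hC⟩ => exists_inverted_of_not_centralizing x P hx hP hN hC
  have hBI : (∃ x y : G, (∃ k : ℕ, orderOf x = 2 ^ k) ∧
      (∃ k : ℕ, orderOf y = p ^ k) ∧ y ≠ 1 ∧ x * y * x⁻¹ = y⁻¹) →
      Cfsg.Involves (DihedralGroup p) G := by
    rintro ⟨x, y, hx, hy, hy1, hxy⟩
    obtain ⟨y', hy', hxy'⟩ := exists_order_p_inverted x y hy hy1 hxy
    exact involves_dihedral_of_inverting hp x y' hx hy' hxy'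
  exact ⟨⟨hIA, fun h => hBI (hAB h)⟩, ⟨fun h => hAB (hIA h), hBI⟩⟩

end Cfsg.Agent.Lib.Helper16
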