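import Mathlib
import Cfsg.Prelude.Def_LocalEven
import Cfsg.Agent.Lib.Helper27.Involves
import Cfsg.Agent.Lib.Helper8.ThTwoB
import Cfsg.Agent.Lib.Helper8.SupNormalizer
import Cfsg.Agent.Lib.Helper10.PGroupBasic
import Cfsg.Agent.Lib.Helper3.Dihedral
import Cfsg.Agent.Lib.Helper16.DihedralInvolved

/-!
# `S₄` is involved in `G` iff `S₃` is involved in `N_G(T)/C_G(T)` for some 2-subgroup `T`
(helper16 library, for S2759)
-/

set_option autoImplicit false

namespace Cfsg.Agent.Lib.Helper16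

open Subgroup

universe u v w


/-- involvement transports along isomorphisms of the involved group -/
theorem involves_of_mulEquiv {H : Type u} [Group H] {H' : Type v} [Group H'] {G : Type w} [Group G]
    (e : H ≃* H') (h : Cfsg.Involves H G) : Cfsg.Involves H' G := by
  obtain ⟨K, R, hn, ⟨f⟩⟩ := h
  exact ⟨K, R, hn, ⟨f.trans e⟩⟩

/-- involvement pulls back along surjections (copy of helper27's `involves_of_surjective`) -/
theorem involves_of_surj {H : Type u} [Group H] {A : Type v} [Group A] {B : Type w} [Group B]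
    (f : A →* B) (hf : Function.Surjective f) (h : Cfsg.Involves H B) : Cfsg.Involves H A := by
  obtain ⟨K, R, hn, ⟨e⟩⟩ := h
  refine Cfsg.Agent.Lib.Helper27.involves_of_surjective_on_subgroup (K.comap f)
    ((e.toMonoidHom.comp (QuotientGroup.mk' (R.subgroupOf K))).comp (f.subgroupComap K)) ?_
  intro x
  obtain ⟨y, hy⟩ := QuotientGroup.mk'_surjective (R.subgroupOf K) (e.symm x)
  obtain ⟨z, hz⟩ := MonoidHom.subgroupComap_surjective_of_surjective f K hf y
  refine ⟨z, ?_⟩
  simp only [MonoidHom.coe_comp, Function.comp_apply, hz, hy]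
  simp

/-- if `ψ` factors through the image of `φ` and is onto `Z`, involvement in `Z` gives involvement
in the codomain of `φ` -/
theorem involves_of_range_lift {N₁ : Type u} [Group N₁] {A : Type v} [Group A] {Z : Type w}
    [Group Z] {H : Type*} [Group H] (φ : N₁ →* A) (ψ : N₁ →* Z) (hψ : Function.Surjective ψ)
    (hker : φ.ker ≤ ψ.ker) (h : Cfsg.Involves H Z) : Cfsg.Involves H A := by
  have hker' : φ.rangeRestrict.ker ≤ ψ.ker := by rwa [MonoidHom.ker_rangeRestrict]
  set ψ' : φ.range →* Z :=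
    (MonoidHom.liftOfSurjective φ.rangeRestrict φ.rangeRestrict_surjective) ⟨ψ, hker'⟩ with hψ'
  have hs : Function.Surjective ψ' := by
    intro z
    obtain ⟨n, hn⟩ := hψ z
    refine ⟨φ.rangeRestrict n, ?_⟩
    rw [hψ', MonoidHom.liftOfRightInverse_comp_apply]
    exact hn
  have h1 : Cfsg.Involves H φ.range := involves_of_surj ψ' hs h
  exact Cfsg.Agent.Lib.Helper27.involves_of_injective φ.range.subtype Subtype.val_injective h1

/-- Frattini lifting (copy of helper27's `exists_lift_normal_pSubgroup`) -/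
theorem exists_lift_normal_pSubgroup' {p : ℕ} [Fact p.Prime] {Y : Type u} {Z : Type v} [Group Y]
    [Group Z] [Finite Y]
    (f : Y →* Z) (hf : Function.Surjective f) (P : Subgroup Z) [P.Normal] (hP : IsPGroup p P) :
    ∃ Q : Subgroup Y, IsPGroup p Q ∧ Q.map f = P ∧ (normalizer (Q : Set Y)).map f = ⊤ := by
  set M : Subgroup Y := P.comap f with hM
  have : M.Normal := Subgroup.Normal.comap inferInstance f
  let Q₀ : Sylow p M := Sylow.nonempty.some
  set Q : Subgroup Y := (Q₀ : Subgroup M).map M.subtype with hQ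
  have hQp : IsPGroup p Q := Q₀.2.map M.subtype
  let f' : M →* P := f.subgroupComap P
  have hf' : Function.Surjective f' := MonoidHom.subgroupComap_surjective_of_surjective f P hf
  have hS : ((Q₀ : Subgroup M).map f') = ⊤ := by
    have h1 := (Q₀.mapSurjective hf').is_maximal' (Q := ⊤)
      (IsPGroup.of_surjective hP (Subgroup.topEquiv (G := P)).symm.toMonoidHom
        (Subgroup.topEquiv (G := P)).symm.surjective) le_top
    rw [h1]
    rfl
  have hmap : Q.map f = P := by
    rw [hQ, Subgroup.map_map]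
    have : f.comp M.subtype = P.subtype.comp f' := by
      ext x
      rfl
    rw [this, ← Subgroup.map_map, hS, ← MonoidHom.range_eq_map, Subgroup.range_subtype]
  refine ⟨Q, hQp, hmap, ?_⟩
  have hfr := Sylow.normalizer_sup_eq_top Q₀
  have h2 : (normalizer ((Q₀ : Subgroup M).map M.subtype : Set Y) ⊔ M).map f = ⊤ := by
    rw [hfr, ← MonoidHom.range_eq_map, MonoidHom.range_eq_top]
    exact hf
  rw [Subgroup.map_sup] at h2
  have h3 : M.map f ≤ (normalizer (Q : Set Y)).map f := by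
    rw [hM, Subgroup.map_comap_eq_self_of_surjective hf, ← hmap]
    exact Subgroup.map_mono Subgroup.le_normalizer
  rw [← h2]
  exact (sup_of_le_left h3).symm

/-! ### explicit facts about `S₄` -/

open Equiv in
/-- `(0 1)(2 3)` -/
def s4a : Perm (Fin 4) := swap 0 1 * swap 2 3
open Equiv in
/-- `(0 2)(1 3)` -/
def s4b : Perm (Fin 4) := swap 0 2 * swap 1 3
open Equiv in
/-- `(0 3)(1 2)` -/
def s4c : Perm (Fin 4) := swap 0 3 * swap 1 2
open Equiv in
/-- `(0 1)` -/
def s4x : Perm (Fin 4) := swap 0 1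
open Equiv in
/-- a 3-cycle -/
def s4y : Perm (Fin 4) := swap 0 1 * swap 1 2

set_option maxRecDepth 100000 in
theorem s4_mul_aux : ∀ g h : Equiv.Perm (Fin 4), (g = 1 ∨ g = s4a ∨ g = s4b ∨ g = s4c) →
    (h = 1 ∨ h = s4a ∨ h = s4b ∨ h = s4c) →
    (g * h = 1 ∨ g * h = s4a ∨ g * h = s4b ∨ g * h = s4c) := by decide

set_option maxRecDepth 100000 in
theorem s4_inv_aux : ∀ g : Equiv.Perm (Fin 4), (g = 1 ∨ g = s4a ∨ g = s4b ∨ g = s4c) →
    (g⁻¹ = 1 ∨ g⁻¹ = s4a ∨ g⁻¹ = s4b ∨ g⁻¹ = s4c) := by decide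

set_option maxRecDepth 100000 in
theorem s4_conj_aux : ∀ g v : Equiv.Perm (Fin 4), (v = 1 ∨ v = s4a ∨ v = s4b ∨ v = s4c) →
    (g * v * g⁻¹ = 1 ∨ g * v * g⁻¹ = s4a ∨ g * v * g⁻¹ = s4b ∨ g * v * g⁻¹ = s4c) := by decide

set_option maxRecDepth 100000 in
theorem s4_sq_aux : ∀ g : Equiv.Perm (Fin 4), (g = 1 ∨ g = s4a ∨ g = s4b ∨ g = s4c) →
    g ^ 2 = 1 := by decide

set_option maxRecDepth 100000 in
theorem s4_cent_aux : ∀ g : Equiv.Perm (Fin 4), g * s4a = s4a * g → g * s4b = s4b * g →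
    (g = 1 ∨ g = s4a ∨ g = s4b ∨ g = s4c) := by decide

set_option maxRecDepth 100000 in
theorem s4_xy_aux : s4x ^ 2 = 1 ∧ s4y ^ 3 = 1 ∧ s4x * s4y * s4x⁻¹ = s4y⁻¹ ∧
    ¬ (s4y = 1 ∨ s4y = s4a ∨ s4y = s4b ∨ s4y = s4c) := by decide

/-- the Klein four-group in `S₄` -/
def s4V : Subgroup (Equiv.Perm (Fin 4)) where
  carrier := {g | g = 1 ∨ g = s4a ∨ g = s4b ∨ g = s4c}
  one_mem' := Or.inl rfl
  mul_mem' := fun {g h} hg hh => s4_mul_aux g h hg hh
  inv_mem' := fun {g} hg => s4_inv_aux g hg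

theorem mem_s4V {g : Equiv.Perm (Fin 4)} : g ∈ s4V ↔ (g = 1 ∨ g = s4a ∨ g = s4b ∨ g = s4c) :=
  Iff.rfl

instance s4V_normal : s4V.Normal := ⟨fun v hv g => s4_conj_aux g v hv⟩

theorem s4V_isPGroup : IsPGroup 2 s4V := by
  intro g
  refine ⟨1, ?_⟩
  apply Subtype.ext
  rw [pow_one, Subgroup.coe_pow]
  exact s4_sq_aux g.1 g.2

theorem s4V_cent (g : Equiv.Perm (Fin 4)) (h : ∀ v ∈ s4V, g * v = v * g) : g ∈ s4V :=
  s4_cent_aux g (h s4a (Or.inr (Or.inl rfl))) (h s4b (Or.inr (Or.inr (Or.inl rfl))))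

/-- `S₃ ≅ D₆` is involved in `S₄ / V₄` -/
theorem involves_dihedral_s4_quot :
    Cfsg.Involves (DihedralGroup 3) (Equiv.Perm (Fin 4) ⧸ s4V) := by
  have : Fact (Nat.Prime 3) := ⟨Nat.prime_three⟩
  obtain ⟨hx2, hy3, hxy, hyV⟩ := s4_xy_aux
  set π := QuotientGroup.mk' s4V with hπ
  refine involves_dihedral_of_inverting (p := 3) (by norm_num) (π s4x) (π s4y) ?_ ?_ ?_
  · have h1 : orderOf (π s4x) ∣ 2 ^ 1 := by
      apply orderOf_dvd_of_pow_eq_one
      rw [pow_one, ← map_pow, hx2, map_one]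
    obtain ⟨k, -, hk⟩ := (Nat.dvd_prime_pow Nat.prime_two).mp h1
    exact ⟨k, hk⟩
  · apply orderOf_eq_prime
    · rw [← map_pow, hy3, map_one]
    · intro h
      rw [hπ, QuotientGroup.mk'_apply, QuotientGroup.eq_one_iff] at h
      exact hyV h
  · rw [← map_inv, ← map_mul, ← map_mul, hxy, map_inv]

/-- `S₄` involved in `G` gives a 2-subgroup `T` with `S₃` involved in `N_G(T)/C_G(T)` -/
theorem exists_two_subgroup_of_involves_perm4 {G : Type u} [Group G] [Finite G]
    (h : Cfsg.Involves (Equiv.Perm (Fin 4)) G) :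
    ∃ T : Subgroup G, IsPGroup 2 ↥T ∧ Cfsg.Involves (Equiv.Perm (Fin 3))
      (↥(Subgroup.normalizer (T : Set G)) ⧸
        (Subgroup.centralizer (T : Set G)).subgroupOf (Subgroup.normalizer (T : Set G))) := by
  have : Fact (Nat.Prime 2) := ⟨Nat.prime_two⟩
  obtain ⟨K, R, hn, ⟨e⟩⟩ := h
  set π : ↥K →* Equiv.Perm (Fin 4) :=
    e.toMonoidHom.comp (QuotientGroup.mk' (R.subgroupOf K)) with hπ
  have hπs : Function.Surjective π := by
    intro d
    obtain ⟨k, hk⟩ := QuotientGroup.mk'_surjective (R.subgroupOf K) (e.symm d)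
    exact ⟨k, by rw [hπ, MonoidHom.comp_apply, hk]; simp⟩
  obtain ⟨Q, hQp, hQmap, hNmap⟩ := exists_lift_normal_pSubgroup' (p := 2) π hπs s4V s4V_isPGroup
  set T : Subgroup G := Q.map K.subtype with hT
  refine ⟨T, hQp.map K.subtype, ?_⟩
  set N₁ : Subgroup ↥K := normalizer (Q : Set ↥K) with hN₁
  have hι : ∀ n : ↥N₁, ((n : ↥K) : G) ∈ Subgroup.normalizer (T : Set G) := by
    intro n
    exact Subgroup.le_normalizer_map K.subtype ⟨(n : ↥K), n.2, rfl⟩
  set ι : ↥N₁ →* ↥(Subgroup.normalizer (T : Set G)) :=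
    (K.subtype.comp N₁.subtype).codRestrict (Subgroup.normalizer (T : Set G)) hι with hιdef
  set φ : ↥N₁ →* (↥(Subgroup.normalizer (T : Set G)) ⧸
        (Subgroup.centralizer (T : Set G)).subgroupOf (Subgroup.normalizer (T : Set G))) :=
    (QuotientGroup.mk' _).comp ι with hφ
  set ψ : ↥N₁ →* (Equiv.Perm (Fin 4) ⧸ s4V) :=
    (QuotientGroup.mk' s4V).comp (π.comp N₁.subtype) with hψ
  have hψs : Function.Surjective ψ := by
    intro z
    obtain ⟨σ, rfl⟩ := QuotientGroup.mk'_surjective s4V z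
    have hσ : σ ∈ (normalizer (Q : Set ↥K)).map π := by rw [hNmap]; exact Subgroup.mem_top _
    obtain ⟨n, hn, rfl⟩ := hσ
    exact ⟨⟨n, hn⟩, rfl⟩
  have hker : φ.ker ≤ ψ.ker := by
    intro n hn
    rw [MonoidHom.mem_ker, hφ, MonoidHom.comp_apply, QuotientGroup.mk'_apply,
      QuotientGroup.eq_one_iff, Subgroup.mem_subgroupOf] at hn
    have hn' : ((n : ↥K) : G) ∈ Subgroup.centralizer (T : Set G) := hn
    rw [MonoidHom.mem_ker, hψ, MonoidHom.comp_apply, QuotientGroup.mk'_apply,
      QuotientGroup.eq_one_iff]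
    apply s4V_cent
    intro v hv
    rw [← hQmap] at hv
    obtain ⟨q, hq, rfl⟩ := hv
    have h1 : ((q : ↥K) : G) * ((n : ↥K) : G) = ((n : ↥K) : G) * ((q : ↥K) : G) :=
      (Subgroup.mem_centralizer_iff.mp hn') (q : G) ⟨q, hq, rfl⟩
    have h2 : (n : ↥K) * q = q * (n : ↥K) := by
      apply Subtype.ext
      exact h1.symm
    show π (n : ↥K) * π q = π q * π (n : ↥K)
    rw [← map_mul, ← map_mul, h2]
  have h3 : Cfsg.Involves (DihedralGroup 3) (↥(Subgroup.normalizer (T : Set G)) ⧸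
        (Subgroup.centralizer (T : Set G)).subgroupOf (Subgroup.normalizer (T : Set G))) :=
    involves_of_range_lift φ ψ hψs hker involves_dihedral_s4_quot
  exact involves_of_mulEquiv Cfsg.Agent.Lib.Helper3.d3Equiv h3



theorem zmod3_double_ne_zero : ∀ b : ZMod 3, b ≠ 0 → b + b ≠ 0 := by decide

/-- a surjection onto `D₆` lifts an inverted 3-element exactly -/
theorem exists_inverting_of_surjective {K : Type u} [Group K] [Finite K]
    (π : K →* DihedralGroup 3) (hπs : Function.Surjective π) :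
    ∃ x y : K, (∃ k : ℕ, orderOf x = 2 ^ k) ∧ (∃ k : ℕ, orderOf y = 3 ^ k) ∧
      x * y * x⁻¹ = y⁻¹ ∧ π y ≠ 1 := by
  have : Fact (Nat.Prime 3) := ⟨Nat.prime_three⟩
  have : Fact (Nat.Prime 2) := ⟨Nat.prime_two⟩
  have hpp : Nat.Prime 3 := Nat.prime_three
  set N : Subgroup K := (dihRot 3).comap π with hN
  have hNn : N.Normal := Subgroup.Normal.comap inferInstance π
  -- a 3-element of N mapping to a nontrivial rotation
  obtain ⟨y₀, hy₀⟩ := hπs (DihedralGroup.r 1)
  have hy₀pos : 0 < orderOf y₀ := orderOf_pos y₀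
  obtain ⟨a, b, hb, hab⟩ := Nat.exists_eq_pow_mul_and_not_dvd hy₀pos.ne' 3 (by norm_num)
  set y := y₀ ^ b with hy
  have hπy : π y = DihedralGroup.r (b : ZMod 3) := by
    rw [hy, map_pow, hy₀, DihedralGroup.r_one_pow]
  have hb0 : (b : ZMod 3) ≠ 0 := by
    rw [Ne, ZMod.natCast_eq_zero_iff]; exact hb
  have hyN : y ∈ N := by
    rw [hN, Subgroup.mem_comap, hπy]; exact ⟨_, rfl⟩
  have hyo : (y ^ (3 ^ a)) = 1 := by
    rw [hy, ← pow_mul, mul_comm, ← hab]; exact pow_orderOf_eq_one y₀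
  have hzp : IsPGroup 3 ↥(Subgroup.zpowers (⟨y, hyN⟩ : ↥N)) := by
    rw [IsPGroup.iff_card, Nat.card_zpowers]
    have h1 : orderOf (⟨y, hyN⟩ : ↥N) ∣ 3 ^ a := by
      apply orderOf_dvd_of_pow_eq_one
      apply Subtype.ext
      exact hyo
    obtain ⟨k, -, hk⟩ := (Nat.dvd_prime_pow hpp).mp h1
    exact ⟨k, hk⟩
  obtain ⟨P, hP⟩ := hzp.exists_le_sylow
  have hyP : (⟨y, hyN⟩ : ↥N) ∈ (P : Subgroup ↥N) := hP (Subgroup.mem_zpowers _)
  set P' : Subgroup K := (P : Subgroup ↥N).map N.subtype with hP'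
  have hP'p : IsPGroup 3 ↥P' := P.isPGroup'.map _
  have hyP' : y ∈ P' := ⟨⟨y, hyN⟩, hyP, rfl⟩
  have hfr : Subgroup.normalizer (P' : Set K) ⊔ N = ⊤ := Sylow.normalizer_sup_eq_top P
  obtain ⟨g₀, hg₀⟩ := hπs (DihedralGroup.sr 0)
  have hg₀' : g₀ ∈ Subgroup.normalizer (P' : Set K) ⊔ N := by rw [hfr]; exact Subgroup.mem_top _
  rw [Subgroup.mem_sup_of_normal_right] at hg₀'
  obtain ⟨h₀, hh₀, n, hnN, hhn⟩ := hg₀'
  have hπh : π h₀ ∉ dihRot 3 := by
    intro hmem
    have h1 : π g₀ ∈ dihRot 3 := by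
      rw [← hhn, map_mul]
      exact (dihRot 3).mul_mem hmem hnN
    rw [hg₀] at h1
    exact (not_mem_dihRot_iff _).mpr ⟨0, rfl⟩ h1
  obtain ⟨j, hj⟩ := (not_mem_dihRot_iff _).mp hπh
  have hh₀pos : 0 < orderOf h₀ := orderOf_pos h₀
  obtain ⟨c, d, hd, hcd⟩ := Nat.exists_eq_pow_mul_and_not_dvd hh₀pos.ne' 2 (by norm_num)
  set x := h₀ ^ d with hx
  have hdodd : Odd d := Nat.odd_iff.mpr (Nat.two_dvd_ne_zero.mp hd)
  have hπx : π x = DihedralGroup.sr j := by
    rw [hx, map_pow, hj]
    obtain ⟨q, hq⟩ := hdodd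
    rw [hq, pow_succ, pow_mul, pow_two, DihedralGroup.sr_mul_self, one_pow, one_mul]
  have hxo : ∃ k : ℕ, orderOf x = 2 ^ k := by
    have h1 : orderOf x ∣ 2 ^ c := by
      apply orderOf_dvd_of_pow_eq_one
      rw [hx, ← pow_mul, mul_comm, ← hcd]; exact pow_orderOf_eq_one h₀
    obtain ⟨k, -, hk⟩ := (Nat.dvd_prime_pow Nat.prime_two).mp h1
    exact ⟨k, hk⟩
  have hxN : x ∈ Subgroup.normalizer (P' : Set K) := Subgroup.pow_mem _ hh₀ _
  -- `s = x²`
  set s := x * x with hs
  have hπs1 : π s = 1 := by rw [hs, map_mul, hπx, DihedralGroup.sr_mul_self]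
  have hsN : s ∈ Subgroup.normalizer (P' : Set K) := Subgroup.mul_mem _ hxN hxN
  have hSN : Subgroup.zpowers s ≤ Subgroup.normalizer (P' : Set K) := by
    rw [Subgroup.zpowers_le]; exact hsN
  have hSπ : ∀ g ∈ Subgroup.zpowers s, π g = 1 := by
    intro g hg
    obtain ⟨k, rfl⟩ := Subgroup.mem_zpowers_iff.mp hg
    rw [map_zpow, hπs1, one_zpow]
  have hSp : IsPGroup 2 ↥(Subgroup.zpowers s) := by
    rw [IsPGroup.iff_card, Nat.card_zpowers]
    obtain ⟨k, hk⟩ := hxo
    have h1 : orderOf s ∣ 2 ^ k := by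
      rw [← hk, hs, ← pow_two]; exact orderOf_pow_dvd _
    obtain ⟨k', -, hk'⟩ := (Nat.dvd_prime_pow Nat.prime_two).mp h1
    exact ⟨k', hk'⟩
  -- the set of lifts of `r b` in `P'`
  let Ω := {u : K // u ∈ P' ∧ π u = DihedralGroup.r (b : ZMod 3)}
  let act : MulAction ↥(Subgroup.zpowers s) Ω :=
    { smul := fun g u => ⟨(g : K) * u.1 * (g : K)⁻¹,
        (Subgroup.mem_normalizer_iff.mp (hSN g.2) u.1).mp u.2.1, by
          rw [map_mul, map_mul, map_inv, hSπ g.1 g.2, u.2.2]; simp⟩
      one_smul := fun u => by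
        apply Subtype.ext
        show ((1 : ↥(Subgroup.zpowers s)) : K) * u.1 * ((1 : ↥(Subgroup.zpowers s)) : K)⁻¹ = u.1
        simp
      mul_smul := fun g h u => by
        apply Subtype.ext
        show ((g * h : ↥(Subgroup.zpowers s)) : K) * u.1 * ((g * h : ↥(Subgroup.zpowers s)) : K)⁻¹ =
          (g : K) * ((h : K) * u.1 * (h : K)⁻¹) * (g : K)⁻¹
        rw [Subgroup.coe_mul]; group }
  have hcard : Nat.card Ω = Nat.card ↥(P' ⊓ π.ker) := by
    apply Nat.card_congr
    refine ⟨fun u => ⟨y⁻¹ * u.1, Subgroup.mem_inf.mpr ⟨P'.mul_mem (P'.inv_mem hyP') u.2.1,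
        MonoidHom.mem_ker.mpr (by rw [map_mul, map_inv, hπy, u.2.2]; simp)⟩⟩,
      fun v => ⟨y * v.1, P'.mul_mem hyP' (Subgroup.mem_inf.mp v.2).1, by
        rw [map_mul, hπy, MonoidHom.mem_ker.mp (Subgroup.mem_inf.mp v.2).2, mul_one]⟩, ?_, ?_⟩
    · intro u; apply Subtype.ext; simp
    · intro v; apply Subtype.ext; simp
  have hodd : ¬ 2 ∣ Nat.card Ω := by
    rw [hcard]
    have h3 : IsPGroup 3 ↥(P' ⊓ π.ker) := hP'p.to_le inf_le_left
    obtain ⟨k, hk⟩ := IsPGroup.iff_card.mp h3
    rw [hk]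
    intro h2
    have := Nat.Prime.dvd_of_dvd_pow Nat.prime_two h2
    omega
  obtain ⟨u, hu⟩ := hSp.nonempty_fixed_point_of_prime_not_dvd_card Ω hodd
  have hus : s * u.1 * s⁻¹ = u.1 := by
    have := hu ⟨s, Subgroup.mem_zpowers s⟩
    exact congrArg Subtype.val this
  have huP : u.1 ∈ P' := u.2.1
  have hπu : π u.1 = DihedralGroup.r (b : ZMod 3) := u.2.2
  set w := u.1 * (x * u.1⁻¹ * x⁻¹) with hw
  have hwP : w ∈ P' :=
    P'.mul_mem huP ((Subgroup.mem_normalizer_iff.mp hxN _).mp (P'.inv_mem huP))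
  refine ⟨x, w, hxo, ?_, ?_, ?_⟩
  · obtain ⟨k, hk⟩ := (IsPGroup.iff_orderOf.mp hP'p) ⟨w, hwP⟩
    exact ⟨k, by rw [← hk, Subgroup.orderOf_mk]⟩
  · have h1 : s * u.1⁻¹ * s⁻¹ = u.1⁻¹ := by
      have : s * u.1⁻¹ * s⁻¹ = (s * u.1 * s⁻¹)⁻¹ := by group
      rw [this, hus]
    calc x * w * x⁻¹ = (x * u.1 * x⁻¹) * (s * u.1⁻¹ * s⁻¹) := by rw [hw, hs]; group
      _ = (x * u.1 * x⁻¹) * u.1⁻¹ := by rw [h1]
      _ = w⁻¹ := by rw [hw]; group
  · have h1 : π w = DihedralGroup.r ((b : ZMod 3) + (b : ZMod 3)) := by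
      rw [hw, map_mul, map_mul, map_mul, map_inv, map_inv, hπu, hπx, DihedralGroup.inv_r,
        DihedralGroup.inv_sr, DihedralGroup.sr_mul_r, DihedralGroup.sr_mul_sr,
        DihedralGroup.r_mul_r]
      congr 1; ring
    rw [h1]
    intro h2
    have h3 : (b : ZMod 3) + (b : ZMod 3) = 0 := by
      have : DihedralGroup.r ((b : ZMod 3) + (b : ZMod 3)) = DihedralGroup.r 0 := h2
      injection this
    exact zmod3_double_ne_zero _ hb0 h3



/-- a nontrivial subgroup of a finite `p`-subgroup `P`, normalized by `P`, contains a nontrivial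
element centralized by `P` -/
theorem exists_central_of_normalized {K : Type u} [Group K] [Finite K] (p : ℕ) [Fact p.Prime]
    (P W : Subgroup K) (hP : IsPGroup p ↥P) (hWP : W ≤ P) (hW : W ≠ ⊥)
    (hN : P ≤ normalizer (W : Set K)) : ∃ v ∈ W, v ≠ 1 ∧ ∀ g ∈ P, g * v = v * g := by
  have hn : (W.subgroupOf P).Normal := (Subgroup.normal_subgroupOf_iff_le_normalizer hWP).mpr hN
  have hne : W.subgroupOf P ≠ ⊥ := by
    intro h
    rw [Subgroup.subgroupOf_eq_bot, disjoint_iff, inf_of_le_left hWP] at h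
    exact hW h
  obtain ⟨x, hxN, hxZ, hx1⟩ :=
    Cfsg.Agent.Lib.Helper10.exists_mem_center_of_normal_ne_bot p hP (W.subgroupOf P) hne
  refine ⟨(x : K), Subgroup.mem_subgroupOf.mp hxN, ?_, ?_⟩
  · intro h
    apply hx1
    apply Subtype.ext
    exact h
  · intro g hg
    have := (Subgroup.mem_center_iff.mp hxZ) ⟨g, hg⟩
    exact congrArg Subtype.val this

/-- membership in the normalizer from conjugation in both directions -/
theorem mem_normalizer_of_conj_mem {K : Type u} [Group K] {H : Subgroup K} {g : K}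
    (h1 : ∀ n ∈ H, g * n * g⁻¹ ∈ H) (h2 : ∀ n ∈ H, g⁻¹ * n * g ∈ H) :
    g ∈ normalizer (H : Set K) := by
  rw [Subgroup.mem_normalizer_iff]
  intro n
  refine ⟨h1 n, fun hn => ?_⟩
  have := h2 _ hn
  have e : g⁻¹ * (g * n * g⁻¹) * g = n := by group
  rwa [e] at this

/-- the final configuration: a minimal normal subgroup `W ≤ T` on which `y` acts nontrivially
is a four-group and produces an `S₄`-section -/
theorem involves_perm4_of_minimal {K : Type u} [Group K] [Finite K] (T W : Subgroup K)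
    [hTn : T.Normal] [hWn : W.Normal] (hT : IsPGroup 2 ↥T) (hWT : W ≤ T) (hWne : W ≠ ⊥)
    (hWmin : ∀ W' : Subgroup K, W'.Normal → W' ≤ W → W' ≠ ⊥ → W' = W)
    (x y : K) (hx : ∃ k : ℕ, orderOf x = 2 ^ k) (hy : orderOf y = 3)
    (hxy : x * y * x⁻¹ = y⁻¹) (hgen : T ⊔ closure ({x, y} : Set K) = ⊤)
    (hyW : ∃ w ∈ W, y * w * y⁻¹ ≠ w) : Cfsg.Involves (Equiv.Perm (Fin 4)) K := by
  have h2 : Fact (Nat.Prime 2) := ⟨Nat.prime_two⟩
  have h3 : Fact (Nat.Prime 3) := ⟨Nat.prime_three⟩
  have hy3 : y ^ 3 = 1 := by rw [← hy]; exact pow_orderOf_eq_one y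
  have hWp : IsPGroup 2 ↥W := hT.to_le hWT
  have hWtop : ∀ P : Subgroup K, P ≤ normalizer (W : Set K) := by
    intro P
    rw [Subgroup.normalizer_eq_top_iff.mpr hWn]
    exact le_top
  -- `W ≤ C(T)`
  have hWC : W ≤ centralizer (T : Set K) := by
    obtain ⟨v, hvW, hv1, hvc⟩ := exists_central_of_normalized 2 T W hT hWT hWne (hWtop T)
    have hZn : (W ⊓ centralizer (T : Set K)).Normal := inferInstance
    have hZne : W ⊓ centralizer (T : Set K) ≠ ⊥ := by
      intro h
      have hv : v ∈ W ⊓ centralizer (T : Set K) :=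
        ⟨hvW, Subgroup.mem_centralizer_iff.mpr (fun t ht => hvc t ht)⟩
      rw [h] at hv
      exact hv1 (Subgroup.mem_bot.mp hv)
    have := hWmin _ hZn inf_le_left hZne
    rw [← this]
    exact inf_le_right
  have hWab : ∀ a ∈ W, ∀ b ∈ W, a * b = b * a := fun a ha b hb =>
    (Subgroup.mem_centralizer_iff.mp (hWC hb)) a (hWT ha)
  -- exponent 2
  have hW2 : ∀ a ∈ W, a * a = 1 := by
    let W₂ : Subgroup K :=
      { carrier := {a | a ∈ W ∧ a * a = 1}
        one_mem' := ⟨W.one_mem, by simp⟩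
        mul_mem' := by
          rintro a b ⟨ha, ha2⟩ ⟨hb, hb2⟩
          refine ⟨W.mul_mem ha hb, ?_⟩
          calc a * b * (a * b) = a * (b * a) * b := by group
            _ = a * (a * b) * b := by rw [hWab b hb a ha]
            _ = (a * a) * (b * b) := by group
            _ = 1 := by rw [ha2, hb2, one_mul]
        inv_mem' := by
          rintro a ⟨ha, ha2⟩
          refine ⟨W.inv_mem ha, ?_⟩
          have : a⁻¹ = a := inv_eq_of_mul_eq_one_left ha2
          rw [this, ha2] }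
    have hW₂n : W₂.Normal := ⟨fun a ha g => ⟨hWn.conj_mem a ha.1 g, by
      calc g * a * g⁻¹ * (g * a * g⁻¹) = g * (a * a) * g⁻¹ := by group
        _ = 1 := by rw [ha.2]; group⟩⟩
    have hW₂ne : W₂ ≠ ⊥ := by
      have hdvd : 2 ∣ Nat.card ↥W := by
        rcases hWp.card_eq_or_dvd with h | h
        · exact absurd (Subgroup.card_eq_one.mp h) hWne
        · exact h
      obtain ⟨a, ha⟩ := exists_prime_orderOf_dvd_card' 2 hdvd
      intro h
      have ha2 : a * a = 1 := by
        have := pow_orderOf_eq_one a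
        rwa [ha, pow_two] at this
      have hmem : (a : K) ∈ W₂ := ⟨a.2, congrArg Subtype.val ha2⟩
      rw [h, Subgroup.mem_bot] at hmem
      have ha1 : a = 1 := Subtype.ext hmem
      rw [ha1, orderOf_one] at ha
      omega
    have := hWmin W₂ hW₂n (fun a ha => ha.1) hW₂ne
    intro a ha
    rw [← this] at ha
    exact ha.2
  -- a nontrivial `v ∈ W` fixed by `x`
  have hxp : IsPGroup 2 ↥(zpowers x) := by
    rw [IsPGroup.iff_card, Nat.card_zpowers]
    exact hx
  obtain ⟨v, hvW, hv1, hvx⟩ := exists_central_of_normalized 2 (W ⊔ zpowers x) W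
    (IsPGroup.to_sup_of_normal_left hWp hxp) le_sup_left hWne (hWtop _)
  have hxv : x * v = v * x := hvx x (Subgroup.mem_sup_right (Subgroup.mem_zpowers x))
  obtain ⟨v₁, hv₁⟩ : ∃ v₁, v₁ = y * v * y⁻¹ := ⟨_, rfl⟩
  obtain ⟨v₂, hv₂⟩ : ∃ v₂, v₂ = y * v₁ * y⁻¹ := ⟨_, rfl⟩
  have hv₁W : v₁ ∈ W := by rw [hv₁]; exact hWn.conj_mem v hvW y
  have hv₂W : v₂ ∈ W := by rw [hv₂]; exact hWn.conj_mem v₁ hv₁W y
  have hyyy : y * y * y = 1 := by
    have := hy3
    rwa [pow_succ, pow_two] at this
  have hyv₂ : y * v₂ * y⁻¹ = v := by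
    have : y * v₂ * y⁻¹ = (y * y * y) * v * (y * y * y)⁻¹ := by rw [hv₂, hv₁]; group
    rw [this, hyyy]; simp
  have hxv' : x * v * x⁻¹ = v := by rw [hxv]; group
  have hxv₁ : x * v₁ * x⁻¹ = v₂ := by
    have e1 : x * v₁ * x⁻¹ = (x * y * x⁻¹) * (x * v * x⁻¹) * (x * y * x⁻¹)⁻¹ := by
      rw [hv₁]; group
    rw [e1, hxy, hxv', inv_inv]
    have e2 : y⁻¹ * v * y = (y * y * y) * (y⁻¹ * v * y) * (y * y * y)⁻¹ := by
      rw [hyyy]; simp
    rw [e2, hv₂, hv₁]; group
  have hxv₂ : x * v₂ * x⁻¹ = v₁ := by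
    have e1 : x * v₂ * x⁻¹ = (x * y * x⁻¹) * (x * v₁ * x⁻¹) * (x * y * x⁻¹)⁻¹ := by
      rw [hv₂]; group
    rw [e1, hxy, hxv₁, hv₂]; group
  have hvv : v * v = 1 := hW2 v hvW
  have hv₁v₁ : v₁ * v₁ = 1 := hW2 v₁ hv₁W
  have hv₂v₂ : v₂ * v₂ = 1 := hW2 v₂ hv₂W
  -- `u = v v₁ v₂` is central, hence trivial
  have hu1 : v * v₁ * v₂ = 1 := by
    by_contra hne
    obtain ⟨u, hu⟩ : ∃ u, u = v * v₁ * v₂ := ⟨_, rfl⟩
    rw [← hu] at hne
    have huW : u ∈ W := by rw [hu]; exact W.mul_mem (W.mul_mem hvW hv₁W) hv₂W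
    have hyu : y * u * y⁻¹ = u := by
      calc y * u * y⁻¹ = (y * v * y⁻¹) * (y * v₁ * y⁻¹) * (y * v₂ * y⁻¹) := by rw [hu]; group
        _ = v₁ * v₂ * v := by rw [hyv₂, ← hv₁, ← hv₂]
        _ = v * (v₁ * v₂) := hWab (v₁ * v₂) (W.mul_mem hv₁W hv₂W) v hvW
        _ = u := by rw [hu, mul_assoc]
    have hxu : x * u * x⁻¹ = u := by
      calc x * u * x⁻¹ = (x * v * x⁻¹) * (x * v₁ * x⁻¹) * (x * v₂ * x⁻¹) := by rw [hu]; group
        _ = v * v₂ * v₁ := by rw [hxv', hxv₁, hxv₂]
        _ = u := by rw [hu, mul_assoc, hWab v₂ hv₂W v₁ hv₁W, ← mul_assoc]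
    have hcen : ∀ g : K, g * u = u * g := by
      have htop : centralizer ({u} : Set K) = ⊤ := by
        rw [eq_top_iff, ← hgen, sup_le_iff, Subgroup.closure_le]
        refine ⟨fun t ht => ?_, ?_⟩
        · rw [Subgroup.mem_centralizer_singleton_iff]
          exact (Subgroup.mem_centralizer_iff.mp (hWC huW)) t ht
        · rintro g (rfl | rfl)
          · show g ∈ centralizer ({u} : Set K)
            rw [Subgroup.mem_centralizer_singleton_iff]
            calc g * u = (g * u * g⁻¹) * g := by group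
              _ = u * g := by rw [hxu]
          · show g ∈ centralizer ({u} : Set K)
            rw [Subgroup.mem_centralizer_singleton_iff]
            calc g * u = (g * u * g⁻¹) * g := by group
              _ = u * g := by rw [hyu]
      intro g
      have : g ∈ centralizer ({u} : Set K) := by rw [htop]; exact Subgroup.mem_top g
      exact Subgroup.mem_centralizer_singleton_iff.mp this
    have hzc : ∀ a ∈ zpowers u, ∀ g : K, g * a * g⁻¹ = a := by
      intro a ha g
      obtain ⟨k, rfl⟩ := Subgroup.mem_zpowers_iff.mp ha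
      have hc : Commute g (u ^ k) := Commute.zpow_right (hcen g) k
      rw [hc.eq]; group
    have hzn : (zpowers u).Normal := ⟨fun a ha g => by rw [hzc a ha g]; exact ha⟩
    have hzW : zpowers u = W :=
      hWmin (zpowers u) hzn (Subgroup.zpowers_le.mpr huW) (by rwa [Ne, Subgroup.zpowers_eq_bot])
    obtain ⟨w, hwW, hwy⟩ := hyW
    rw [← hzW] at hwW
    exact hwy (hzc w hwW y)
  have hv₂inv : v₂⁻¹ = v₂ := inv_eq_of_mul_eq_one_left hv₂v₂
  have r01 : v * v₁ = v₂ := by
    have := mul_eq_one_iff_eq_inv.mp hu1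
    rw [this, hv₂inv]
  have r10 : v₁ * v = v₂ := by rw [hWab v₁ hv₁W v hvW, r01]
  have r02 : v * v₂ = v₁ := by rw [← r01, ← mul_assoc, hvv, one_mul]
  have r20 : v₂ * v = v₁ := by rw [hWab v₂ hv₂W v hvW, r02]
  have r12 : v₁ * v₂ = v := by
    rw [← r01, ← mul_assoc, hWab v₁ hv₁W v hvW, mul_assoc, hv₁v₁, mul_one]
  have r21 : v₂ * v₁ = v := by rw [hWab v₂ hv₂W v₁ hv₁W, r12]
  have hv₁1 : v₁ ≠ 1 := by
    intro h
    apply hv1
    have : v = y⁻¹ * v₁ * y := by rw [hv₁]; group
    rw [this, h]; group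
  have hv₂1 : v₂ ≠ 1 := by
    intro h
    apply hv₁1
    have : v₁ = y⁻¹ * v₂ * y := by rw [hv₂]; group
    rw [this, h]; group
  have hv₁v : v₁ ≠ v := by
    intro h; apply hv₂1; rw [← r01, h, hvv]
  have hv₂v₁ : v₂ ≠ v₁ := by
    intro h; apply hv1; rw [← r12, h, hv₁v₁]
  have hv₂v : v₂ ≠ v := by
    intro h; apply hv₁1; rw [← r02, h, hvv]
  -- the four-group
  let V₁ : Subgroup K :=
    { carrier := {g | g = 1 ∨ g = v ∨ g = v₁ ∨ g = v₂}
      one_mem' := Or.inl rfl
      mul_mem' := by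
        rintro a b (rfl | rfl | rfl | rfl) (rfl | rfl | rfl | rfl) <;>
          simp [hvv, hv₁v₁, hv₂v₂, r01, r10, r02, r20, r12, r21]
      inv_mem' := by
        rintro a (rfl | rfl | rfl | rfl)
        · simp
        · rw [inv_eq_of_mul_eq_one_left hvv]; simp
        · rw [inv_eq_of_mul_eq_one_left hv₁v₁]; simp
        · rw [inv_eq_of_mul_eq_one_left hv₂v₂]; simp }
  have hmemV : ∀ g : K, g ∈ V₁ ↔ (g = 1 ∨ g = v ∨ g = v₁ ∨ g = v₂) := fun g => Iff.rfl
  have hV₁W : V₁ ≤ W := by
    rintro g (rfl | rfl | rfl | rfl)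
    · exact W.one_mem
    · exact hvW
    · exact hv₁W
    · exact hv₂W
  have hvV : v ∈ V₁ := Or.inr (Or.inl rfl)
  have hV4 : Nat.card ↥V₁ = 4 := by
    have hset : (V₁ : Set K) = {1, v, v₁, v₂} := by
      ext g; exact hmemV g
    rw [← SetLike.coe_sort_coe, Nat.card_coe_set_eq, hset]
    rw [Set.ncard_insert_of_notMem, Set.ncard_insert_of_notMem, Set.ncard_pair hv₂v₁.symm]
    · simp only [Set.mem_insert_iff, Set.mem_singleton_iff, not_or]
      exact ⟨hv₁v.symm, hv₂v.symm⟩
    · simp only [Set.mem_insert_iff, Set.mem_singleton_iff, not_or]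
      exact ⟨hv1.symm, hv₁1.symm, hv₂1.symm⟩
  -- conjugation tables
  have hyv : y * v * y⁻¹ = v₁ := hv₁.symm
  have hyv₁ : y * v₁ * y⁻¹ = v₂ := hv₂.symm
  have hyiv₁ : y⁻¹ * v₁ * y = v := by rw [hv₁]; group
  have hyiv₂ : y⁻¹ * v₂ * y = v₁ := by rw [hv₂]; group
  have hyiv : y⁻¹ * v * y = v₂ := by rw [← hyv₂]; group
  have hxiv : x⁻¹ * v * x = v := by rw [mul_assoc, ← hxv]; group
  have hxiv₁ : x⁻¹ * v₁ * x = v₂ := by rw [← hxv₂]; group
  have hxiv₂ : x⁻¹ * v₂ * x = v₁ := by rw [← hxv₁]; group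
  have hV₁n : V₁.Normal := by
    have hN : normalizer (V₁ : Set K) = ⊤ := by
      rw [eq_top_iff, ← hgen, sup_le_iff, Subgroup.closure_le]
      refine ⟨fun t ht => ?_, ?_⟩
      · have key : ∀ m ∈ V₁, t * m = m * t := fun m hm =>
          (Subgroup.mem_centralizer_iff.mp (hWC (hV₁W hm))) t ht
        apply mem_normalizer_of_conj_mem
        · intro m hm
          have : t * m * t⁻¹ = m := by rw [key m hm]; group
          rw [this]; exact hm
        · intro m hm
          have : t⁻¹ * m * t = m := by rw [mul_assoc, ← key m hm]; group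
          rw [this]; exact hm
      · rintro g (rfl | rfl)
        · apply mem_normalizer_of_conj_mem
          · rintro m (rfl | rfl | rfl | rfl)
            · simp
            · rw [hxv']; exact Or.inr (Or.inl rfl)
            · rw [hxv₁]; exact Or.inr (Or.inr (Or.inr rfl))
            · rw [hxv₂]; exact Or.inr (Or.inr (Or.inl rfl))
          · rintro m (rfl | rfl | rfl | rfl)
            · simp
            · rw [hxiv]; exact Or.inr (Or.inl rfl)
            · rw [hxiv₁]; exact Or.inr (Or.inr (Or.inr rfl))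
            · rw [hxiv₂]; exact Or.inr (Or.inr (Or.inl rfl))
        · apply mem_normalizer_of_conj_mem
          · rintro m (rfl | rfl | rfl | rfl)
            · simp
            · rw [hyv]; exact Or.inr (Or.inr (Or.inl rfl))
            · rw [hyv₁]; exact Or.inr (Or.inr (Or.inr rfl))
            · rw [hyv₂]; exact Or.inr (Or.inl rfl)
          · rintro m (rfl | rfl | rfl | rfl)
            · simp
            · rw [hyiv]; exact Or.inr (Or.inr (Or.inr rfl))
            · rw [hyiv₁]; exact Or.inr (Or.inl rfl)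
            · rw [hyiv₂]; exact Or.inr (Or.inr (Or.inl rfl))
    exact Subgroup.normalizer_eq_top_iff.mp hN
  -- `B = C(V₁)`
  have hBn : (centralizer (V₁ : Set K)).Normal := inferInstance
  have hTB : T ≤ centralizer (V₁ : Set K) := fun t ht =>
    Subgroup.mem_centralizer_iff.mpr (fun m hm =>
      ((Subgroup.mem_centralizer_iff.mp (hWC (hV₁W hm))) t ht).symm)
  have hsB : x * x ∈ centralizer (V₁ : Set K) := by
    rw [Subgroup.mem_centralizer_iff]
    have e0 : x * v = v * x := hxv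
    have e1 : x * v₁ = v₂ * x := by rw [← hxv₁]; group
    have e2 : x * v₂ = v₁ * x := by rw [← hxv₂]; group
    rintro m (h | h | h | h) <;> rw [h]
    · simp
    · calc v * (x * x) = (v * x) * x := by group
        _ = (x * v) * x := by rw [e0]
        _ = x * (v * x) := by group
        _ = x * (x * v) := by rw [e0]
        _ = x * x * v := by group
    · calc v₁ * (x * x) = (v₁ * x) * x := by group
        _ = (x * v₂) * x := by rw [e2]
        _ = x * (v₂ * x) := by group
        _ = x * (x * v₁) := by rw [e1]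
        _ = x * x * v₁ := by group
    · calc v₂ * (x * x) = (v₂ * x) * x := by group
        _ = (x * v₁) * x := by rw [e1]
        _ = x * (v₁ * x) := by group
        _ = x * (x * v₂) := by rw [e2]
        _ = x * x * v₂ := by group
  have hyB : y ∉ centralizer (V₁ : Set K) := by
    intro h
    have := (Subgroup.mem_centralizer_iff.mp h) v hvV
    apply hv₁v
    rw [hv₁, ← this]; group
  have hxNy : zpowers x ≤ normalizer (zpowers y : Set K) := by
    rw [Subgroup.zpowers_le]
    have hxiy : x⁻¹ * y * x = y⁻¹ := by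
      have : y = x⁻¹ * y⁻¹ * x := by rw [← hxy]; group
      calc x⁻¹ * y * x = (x⁻¹ * y⁻¹ * x)⁻¹ := by group
        _ = y⁻¹ := by rw [← this]
    apply mem_normalizer_of_conj_mem
    · intro n hn
      obtain ⟨k, rfl⟩ := Subgroup.mem_zpowers_iff.mp hn
      rw [← conj_zpow, hxy]
      exact Subgroup.zpow_mem _ (Subgroup.inv_mem _ (Subgroup.mem_zpowers y)) k
    · intro n hn
      obtain ⟨k, rfl⟩ := Subgroup.mem_zpowers_iff.mp hn
      have : x⁻¹ * y ^ k * x = (x⁻¹ * y * x⁻¹⁻¹) ^ k := by rw [conj_zpow, inv_inv]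
      rw [this, inv_inv, hxiy]
      exact Subgroup.zpow_mem _ (Subgroup.inv_mem _ (Subgroup.mem_zpowers y)) k
  have hB2 : IsPGroup 2 ↥(centralizer (V₁ : Set K)) := by
    have hB₀ : IsPGroup 2 ↥(T ⊔ zpowers x) := IsPGroup.to_sup_of_normal_left hT hxp
    refine hB₀.to_le ?_
    intro g hg
    have hgtop : g ∈ T ⊔ closure ({x, y} : Set K) := by rw [hgen]; exact Subgroup.mem_top g
    obtain ⟨t, ht, e, he, rfl⟩ := Subgroup.mem_sup_of_normal_left.mp hgtop
    have hE : closure ({x, y} : Set K) = zpowers y ⊔ zpowers x := by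
      rw [Subgroup.zpowers_eq_closure, Subgroup.zpowers_eq_closure, ← Subgroup.closure_union]
      congr 1
      ext a
      simp
    rw [hE] at he
    obtain ⟨z, hz, c, hc, rfl⟩ :=
      Cfsg.Agent.Lib.Helper8.mem_sup_of_le_normalizer (X := zpowers y) (Y := zpowers x) hxNy he
    have hzc : z * c ∈ centralizer (V₁ : Set K) := by
      have := (centralizer (V₁ : Set K)).mul_mem
        ((centralizer (V₁ : Set K)).inv_mem (hTB ht)) hg
      have e : t⁻¹ * (t * (z * c)) = z * c := by group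
      rwa [e] at this
    have hcv : c * v = v * c := by
      obtain ⟨k, rfl⟩ := Subgroup.mem_zpowers_iff.mp hc
      exact (Commute.zpow_left (show Commute x v from hxv) k).eq
    have hzv : z * v = v * z := by
      have h1 : v * (z * c) = (z * c) * v := (Subgroup.mem_centralizer_iff.mp hzc) v hvV
      have : v * z * c = z * v * c := by
        rw [mul_assoc, h1, mul_assoc, hcv, ← mul_assoc]
      exact (mul_right_cancel this).symm
    have hz1 : z = 1 := by
      by_contra hne
      have hcard : Nat.card ↥(zpowers y) = 3 := by rw [Nat.card_zpowers, hy]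
      have hmem : (⟨y, Subgroup.mem_zpowers y⟩ : ↥(zpowers y)) ∈
          zpowers (⟨z, hz⟩ : ↥(zpowers y)) :=
        mem_zpowers_of_prime_card hcard (by intro h; exact hne (congrArg Subtype.val h))
      obtain ⟨k, hk⟩ := Subgroup.mem_zpowers_iff.mp hmem
      have hk' : z ^ k = y := by
        have := congrArg Subtype.val hk
        simpa using this
      have hyv' : y * v = v * y := by
        rw [← hk']
        exact (Commute.zpow_left (show Commute z v from hzv) k).eq
      apply hv₁v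
      rw [hv₁, hyv']; group
    rw [hz1, one_mul]
    exact Subgroup.mul_mem _ (Subgroup.mem_sup_left ht) (Subgroup.mem_sup_right hc)
  have hBidx : (centralizer (V₁ : Set K)).index = 6 := by
    rw [Subgroup.index_eq_card]
    set q := QuotientGroup.mk' (centralizer (V₁ : Set K)) with hq
    have hy3' : (q y) ^ 3 = 1 := by rw [← map_pow, hy3, map_one]
    have hyne : q y ≠ 1 := fun h => hyB ((QuotientGroup.eq_one_iff y).mp h)
    have hxx : q x * q x = 1 := by
      rw [← map_mul]; exact (QuotientGroup.eq_one_iff _).mpr hsB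
    have hxinv : (q x)⁻¹ = q x := inv_eq_of_mul_eq_one_left hxx
    have hsx : q x * q y * q x = (q y)⁻¹ := by
      have := congrArg q hxy
      rw [map_mul, map_mul, map_inv, map_inv, hxinv] at this
      exact this
    have hord : orderOf (q y) = 3 := orderOf_eq_prime hy3' hyne
    have hxz : q x ∉ zpowers (q y) := by
      intro hmem
      have hc : q x * q y = q y * q x := by
        obtain ⟨k, hk⟩ := Subgroup.mem_zpowers_iff.mp hmem
        rw [← hk]
        exact (Commute.zpow_left (Commute.refl (q y)) k).eq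
      have h1 : (q y)⁻¹ = q y := by rw [← hsx, hc, mul_assoc, hxx, mul_one]
      have h2 : q y * q y = 1 := by
        nth_rewrite 1 [← h1]; group
      apply hyne
      calc q y = (q y) ^ 3 * (q y * q y)⁻¹ := by group
        _ = 1 := by rw [hy3', h2]; simp
    have hinj := Cfsg.Agent.Lib.Helper3.dihLift_injective (n := 3) (q y) (q x) hy3' hxx hsx hord hxz
    have hrange : (Cfsg.Agent.Lib.Helper3.dihLift (n := 3) (q y) (q x) hy3' hxx hsx).range = ⊤ := by
      rw [Cfsg.Agent.Lib.Helper3.dihLift_range]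
      have htop : (⊤ : Subgroup (K ⧸ centralizer (V₁ : Set K))) =
          (T ⊔ closure ({x, y} : Set K)).map q := by
        rw [hgen, ← MonoidHom.range_eq_map]
        exact (MonoidHom.range_eq_top.mpr (QuotientGroup.mk'_surjective _)).symm
      rw [htop, Subgroup.map_sup, MonoidHom.map_closure]
      have hTq : T.map q = ⊥ := by
        rw [eq_bot_iff]
        rintro _ ⟨t, ht, rfl⟩
        exact Subgroup.mem_bot.mpr ((QuotientGroup.eq_one_iff t).mpr (hTB ht))
      rw [hTq, bot_sup_eq, Set.image_pair, Set.pair_comm]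
    have hsurj : Function.Surjective
        (Cfsg.Agent.Lib.Helper3.dihLift (n := 3) (q y) (q x) hy3' hxx hsx) :=
      MonoidHom.range_eq_top.mp hrange
    rw [← Nat.card_congr (Equiv.ofBijective _ ⟨hinj, hsurj⟩), DihedralGroup.nat_card]
  exact Cfsg.Agent.Lib.Helper8.ThTwo.involves_perm4_of_config (centralizer (V₁ : Set K)) V₁
    hB2 hBidx hV4 le_rfl

/-- `g` normalizes `⟨a⟩` if it conjugates `a` into `⟨a⟩` in both directions -/
theorem mem_normalizer_zpowers {K : Type u} [Group K] {g a : K}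
    (h1 : g * a * g⁻¹ ∈ zpowers a) (h2 : g⁻¹ * a * g ∈ zpowers a) :
    g ∈ normalizer (zpowers a : Set K) := by
  apply mem_normalizer_of_conj_mem
  · intro n hn
    obtain ⟨k, rfl⟩ := Subgroup.mem_zpowers_iff.mp hn
    rw [← conj_zpow]
    exact Subgroup.zpow_mem _ h1 k
  · intro n hn
    obtain ⟨k, rfl⟩ := Subgroup.mem_zpowers_iff.mp hn
    have : g⁻¹ * a ^ k * g = (g⁻¹ * a * g⁻¹⁻¹) ^ k := by rw [conj_zpow, inv_inv]
    rw [this, inv_inv]
    exact Subgroup.zpow_mem _ h2 k

/-- an element of a 2-group with 3-power order is trivial -/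
theorem eq_one_of_two_three {K : Type u} [Group K] {T : Subgroup K} (hT : IsPGroup 2 ↥T) {c : K}
    (hc : c ∈ T) {m : ℕ} (hc3 : c ^ 3 ^ m = 1) : c = 1 := by
  obtain ⟨k, hk⟩ := hT ⟨c, hc⟩
  have hk' : c ^ 2 ^ k = 1 := by
    have := congrArg Subtype.val hk
    simpa using this
  have h1 : orderOf c ∣ 2 ^ k := orderOf_dvd_of_pow_eq_one hk'
  have h2 : orderOf c ∣ 3 ^ m := orderOf_dvd_of_pow_eq_one hc3
  have hcop : Nat.Coprime (2 ^ k) (3 ^ m) := Nat.Coprime.pow _ _ (by norm_num)
  have : orderOf c = 1 := Nat.eq_one_of_dvd_coprimes hcop h1 h2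
  exact orderOf_eq_one_iff.mp this

theorem involves_perm4_core_aux (n : ℕ) : ∀ (K : Type u) [Group K] [Finite K], Nat.card K ≤ n →
    ∀ (T : Subgroup K), IsPGroup 2 ↥T → ∀ x y : K, x ∈ normalizer (T : Set K) →
    y ∈ normalizer (T : Set K) → (∃ k : ℕ, orderOf x = 2 ^ k) → (∃ k : ℕ, orderOf y = 3 ^ k) →
    y ^ 3 ∈ centralizer (T : Set K) → x * y * x⁻¹ = y⁻¹ → y ∉ centralizer (T : Set K) →
    Cfsg.Involves (Equiv.Perm (Fin 4)) K := by
  induction n with
  | zero =>
    intro K _ _ hcard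
    have := Nat.card_pos (α := K)
    omega
  | succ n ih =>
    intro K _ _ hcard T hT x y hxN hyN hx hy hy3C hxy hyC
    have h3 : Fact (Nat.Prime 3) := ⟨Nat.prime_three⟩
    have hxiy : x⁻¹ * y * x = y⁻¹ := by
      have : y = x⁻¹ * y⁻¹ * x := by rw [← hxy]; group
      calc x⁻¹ * y * x = (x⁻¹ * y⁻¹ * x)⁻¹ := by group
        _ = y⁻¹ := by rw [← this]
    by_cases hK₀ : T ⊔ closure ({x, y} : Set K) = ⊤
    · -- `T` is normal
      have hTn : T.Normal := by
        rw [← Subgroup.normalizer_eq_top_iff, eq_top_iff, ← hK₀, sup_le_iff, Subgroup.closure_le]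
        refine ⟨Subgroup.le_normalizer, ?_⟩
        rintro g (rfl | rfl)
        · exact hxN
        · exact hyN
      have hTne : T ≠ ⊥ := by
        intro h
        apply hyC
        rw [Subgroup.mem_centralizer_iff]
        intro t ht
        have ht1 : t = 1 := by
          have : t ∈ T := ht
          rw [h] at this
          exact Subgroup.mem_bot.mp this
        rw [ht1]; simp
      -- the general quotient step
      have hquot : ∀ (Z : Subgroup K) [Z.Normal], Z ≠ ⊥ →
          (∀ k : ℕ, (QuotientGroup.mk' Z y) ^ 3 ∈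
            centralizer ((T.map (QuotientGroup.mk' Z) : Subgroup (K ⧸ Z)) : Set (K ⧸ Z))) →
          (∃ t ∈ T, y * t * y⁻¹ * t⁻¹ ∉ Z) → Cfsg.Involves (Equiv.Perm (Fin 4)) K := by
        intro Z hZn hZne hq3 hex
        have hcardq : Nat.card (K ⧸ Z) ≤ n := by
          have h1 := Subgroup.card_eq_card_quotient_mul_card_subgroup Z
          have h2 : 1 < Nat.card ↥Z := Z.one_lt_card_iff_ne_bot.mpr hZne
          have h3 : 0 < Nat.card (K ⧸ Z) := Nat.card_pos
          nlinarith
        set q := QuotientGroup.mk' Z with hq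
        apply Cfsg.Agent.Lib.Helper8.ThTwo.involves_of_quotient Z
        refine ih (K ⧸ Z) hcardq (T.map q) (hT.map q) (q x) (q y)
          (Subgroup.le_normalizer_map q ⟨x, hxN, rfl⟩) (Subgroup.le_normalizer_map q ⟨y, hyN, rfl⟩)
          ?_ ?_ (hq3 0) ?_ ?_
        · obtain ⟨k, hk⟩ := hx
          have h1 : orderOf (q x) ∣ 2 ^ k := by rw [← hk]; exact orderOf_map_dvd q x
          obtain ⟨k', -, hk'⟩ := (Nat.dvd_prime_pow Nat.prime_two).mp h1
          exact ⟨k', hk'⟩
        · obtain ⟨k, hk⟩ := hy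
          have h1 : orderOf (q y) ∣ 3 ^ k := by rw [← hk]; exact orderOf_map_dvd q y
          obtain ⟨k', -, hk'⟩ := (Nat.dvd_prime_pow Nat.prime_three).mp h1
          exact ⟨k', hk'⟩
        · rw [← map_inv, ← map_mul, ← map_mul, hxy, map_inv]
        · intro hcen
          obtain ⟨t, ht, htZ⟩ := hex
          apply htZ
          have h1 : q t * q y = q y * q t :=
            (Subgroup.mem_centralizer_iff.mp hcen) (q t) ⟨t, ht, rfl⟩
          have h2 : q (y * t * y⁻¹ * t⁻¹) = 1 := by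
            rw [map_mul, map_mul, map_mul, map_inv, map_inv, ← h1]; group
          exact (QuotientGroup.eq_one_iff _).mp h2
      by_cases hy1 : y ^ 3 = 1
      · -- `y` has order 3
        have hyne : y ≠ 1 := by
          intro h
          apply hyC
          rw [h]
          exact Subgroup.one_mem _
        have hyord : orderOf y = 3 := orderOf_eq_prime hy1 hyne
        obtain ⟨W, ⟨hWn, hWT, hWne⟩, hWmin⟩ :=
          exists_minimal_of_wellFoundedLT (fun W : Subgroup K => W.Normal ∧ W ≤ T ∧ W ≠ ⊥)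
            ⟨T, hTn, le_rfl, hTne⟩
        have hWmin' : ∀ W' : Subgroup K, W'.Normal → W' ≤ W → W' ≠ ⊥ → W' = W :=
          fun W' hn hle hne => le_antisymm hle (hWmin ⟨hn, hle.trans hWT, hne⟩ hle)
        by_cases hcase : ∀ t ∈ T, y * t * y⁻¹ * t⁻¹ ∈ W
        · -- final configuration
          have hyW : ∃ w ∈ W, y * w * y⁻¹ ≠ w := by
            by_contra hno
            have hno' : ∀ w ∈ W, y * w * y⁻¹ = w := by
              intro w hw
              by_contra h
              exact hno ⟨w, hw, h⟩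
            apply hyC
            rw [Subgroup.mem_centralizer_iff]
            intro t ht
            obtain ⟨c, hc⟩ : ∃ c, c = y * t * y⁻¹ * t⁻¹ := ⟨_, rfl⟩
            have hcW : c ∈ W := by rw [hc]; exact hcase t ht
            have hyt : y * t * y⁻¹ = c * t := by rw [hc]; group
            have hyc : y * c * y⁻¹ = c := hno' c hcW
            have hyyy : y * y * y = 1 := by
              have := hy1
              rwa [pow_succ, pow_two] at this
            have h3t : (y * y * y) * t * (y * y * y)⁻¹ = c * c * c * t := by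
              calc (y * y * y) * t * (y * y * y)⁻¹
                  = y * (y * (y * t * y⁻¹) * y⁻¹) * y⁻¹ := by group
                _ = y * (y * (c * t) * y⁻¹) * y⁻¹ := by rw [hyt]
                _ = y * ((y * c * y⁻¹) * (y * t * y⁻¹)) * y⁻¹ := by group
                _ = y * (c * (c * t)) * y⁻¹ := by rw [hyc, hyt]
                _ = (y * c * y⁻¹) * (y * c * y⁻¹) * (y * t * y⁻¹) := by group
                _ = c * c * (c * t) := by rw [hyc, hyt]
                _ = c * c * c * t := by group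
            rw [hyyy] at h3t
            have hc3 : c ^ 3 ^ 1 = 1 := by
              rw [pow_one, pow_succ, pow_two]
              have : c * c * c * t = t := by rw [← h3t]; simp
              exact mul_eq_right.mp this
            have hc1 : c = 1 := eq_one_of_two_three hT (hWT hcW) hc3
            rw [hc1, one_mul] at hyt
            calc t * y = (y * t * y⁻¹) * y := by rw [hyt]
              _ = y * t := by group
          exact involves_perm4_of_minimal T W hT hWT hWne hWmin' x y hx hyord hxy hK₀ hyW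
        · -- pass to `K ⧸ W`
          have hex : ∃ t ∈ T, y * t * y⁻¹ * t⁻¹ ∉ W := by
            by_contra hno
            apply hcase
            intro t ht
            by_contra h
            exact hno ⟨t, ht, h⟩
          refine hquot W hWne ?_ hex
          intro _
          rw [← map_pow, hy1, map_one]
          exact Subgroup.one_mem _
      · -- pass to `K ⧸ ⟨y³⟩`
        have hZn : (zpowers (y ^ 3)).Normal := by
          rw [← Subgroup.normalizer_eq_top_iff, eq_top_iff, ← hK₀, sup_le_iff, Subgroup.closure_le]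
          refine ⟨fun t ht => ?_, ?_⟩
          · have hc : t * y ^ 3 = y ^ 3 * t := (Subgroup.mem_centralizer_iff.mp hy3C) t ht
            apply mem_normalizer_zpowers
            · have : t * y ^ 3 * t⁻¹ = y ^ 3 := by rw [hc]; group
              rw [this]; exact Subgroup.mem_zpowers _
            · have : t⁻¹ * y ^ 3 * t = y ^ 3 := by rw [mul_assoc, ← hc]; group
              rw [this]; exact Subgroup.mem_zpowers _
          · rintro g (rfl | rfl)
            · apply mem_normalizer_zpowers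
              · have : g * y ^ 3 * g⁻¹ = (y ^ 3)⁻¹ := by
                  rw [← conj_pow, hxy, inv_pow]
                rw [this]; exact Subgroup.inv_mem _ (Subgroup.mem_zpowers _)
              · have : g⁻¹ * y ^ 3 * g = (y ^ 3)⁻¹ := by
                  have e : g⁻¹ * y ^ 3 * g = (g⁻¹ * y * g⁻¹⁻¹) ^ 3 := by rw [conj_pow, inv_inv]
                  rw [e, inv_inv, hxiy, inv_pow]
                rw [this]; exact Subgroup.inv_mem _ (Subgroup.mem_zpowers _)
            · apply mem_normalizer_zpowers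
              · have : g * g ^ 3 * g⁻¹ = g ^ 3 := by group
                rw [this]; exact Subgroup.mem_zpowers _
              · have : g⁻¹ * g ^ 3 * g = g ^ 3 := by group
                rw [this]; exact Subgroup.mem_zpowers _
        have hZne : zpowers (y ^ 3) ≠ ⊥ := by rwa [Ne, Subgroup.zpowers_eq_bot]
        have hex : ∃ t ∈ T, y * t * y⁻¹ * t⁻¹ ∉ zpowers (y ^ 3) := by
          by_contra hno
          apply hyC
          rw [Subgroup.mem_centralizer_iff]
          intro t ht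
          have hcZ : y * t * y⁻¹ * t⁻¹ ∈ zpowers (y ^ 3) := by
            by_contra h
            exact hno ⟨t, ht, h⟩
          have hcT : y * t * y⁻¹ * t⁻¹ ∈ T :=
            T.mul_mem ((Subgroup.mem_normalizer_iff.mp hyN t).mp ht) (T.inv_mem ht)
          obtain ⟨k, hk⟩ := hy
          have hc3 : (y * t * y⁻¹ * t⁻¹) ^ 3 ^ k = 1 := by
            obtain ⟨j, hj⟩ := Subgroup.mem_zpowers_iff.mp hcZ
            rw [← hj, ← zpow_natCast, ← zpow_mul, mul_comm, zpow_mul, zpow_natCast, ← pow_mul,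
              mul_comm, pow_mul, ← hk, pow_orderOf_eq_one, one_pow, one_zpow]
          have hc1 := eq_one_of_two_three hT hcT hc3
          calc t * y = (y * t * y⁻¹ * t⁻¹)⁻¹ * (y * t) := by group
            _ = y * t := by rw [hc1]; simp
        refine hquot (zpowers (y ^ 3)) hZne ?_ hex
        intro _
        rw [← map_pow]
        have : QuotientGroup.mk' (zpowers (y ^ 3)) (y ^ 3) = 1 :=
          (QuotientGroup.eq_one_iff _).mpr (Subgroup.mem_zpowers _)
        rw [this]
        exact Subgroup.one_mem _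
    · -- pass to the subgroup `T ⊔ ⟨x, y⟩`
      obtain ⟨K₀, hK₀def⟩ : ∃ K₀, K₀ = T ⊔ closure ({x, y} : Set K) := ⟨_, rfl⟩
      rw [← hK₀def] at hK₀
      have hTK₀ : T ≤ K₀ := by rw [hK₀def]; exact le_sup_left
      have hxK₀ : x ∈ K₀ := by
        rw [hK₀def]; exact Subgroup.mem_sup_right (Subgroup.subset_closure (by simp))
      have hyK₀ : y ∈ K₀ := by
        rw [hK₀def]; exact Subgroup.mem_sup_right (Subgroup.subset_closure (by simp))
      have hcard₀ : Nat.card ↥K₀ ≤ n := by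
        have h1 : Nat.card ↥K₀ ≤ Nat.card K := Subgroup.card_le_card_group K₀
        have h2 : Nat.card ↥K₀ ≠ Nat.card K := fun h => hK₀ (K₀.card_eq_iff_eq_top.mp h)
        omega
      have hinv : Cfsg.Involves (Equiv.Perm (Fin 4)) ↥K₀ := by
        refine ih ↥K₀ hcard₀ (T.subgroupOf K₀) hT.comap_subtype ⟨x, hxK₀⟩ ⟨y, hyK₀⟩ ?_ ?_ ?_ ?_ ?_ ?_ ?_
        · rw [Subgroup.mem_normalizer_iff]
          intro m
          rw [Subgroup.mem_subgroupOf, Subgroup.mem_subgroupOf]
          exact Subgroup.mem_normalizer_iff.mp hxN (m : K)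
        · rw [Subgroup.mem_normalizer_iff]
          intro m
          rw [Subgroup.mem_subgroupOf, Subgroup.mem_subgroupOf]
          exact Subgroup.mem_normalizer_iff.mp hyN (m : K)
        · obtain ⟨k, hk⟩ := hx
          exact ⟨k, by rw [Subgroup.orderOf_mk, hk]⟩
        · obtain ⟨k, hk⟩ := hy
          exact ⟨k, by rw [Subgroup.orderOf_mk, hk]⟩
        · rw [Subgroup.mem_centralizer_iff]
          intro m hm
          apply Subtype.ext
          exact (Subgroup.mem_centralizer_iff.mp hy3C) (m : K) (Subgroup.mem_subgroupOf.mp hm)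
        · apply Subtype.ext
          exact hxy
        · intro hcen
          apply hyC
          rw [Subgroup.mem_centralizer_iff]
          intro t ht
          have := (Subgroup.mem_centralizer_iff.mp hcen) ⟨t, hTK₀ ht⟩
            (Subgroup.mem_subgroupOf.mpr ht)
          exact congrArg Subtype.val this
      exact Cfsg.Agent.Lib.Helper27.involves_of_injective K₀.subtype Subtype.val_injective hinv

/-- a 2-element inverting a 3-element that acts nontrivially on the 2-subgroup `T` they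
normalize: `S₄` is involved -/
theorem involves_perm4_of_inverting {G : Type u} [Group G] [Finite G] (T : Subgroup G)
    (hT : IsPGroup 2 ↥T) (x y : G) (hxN : x ∈ normalizer (T : Set G))
    (hyN : y ∈ normalizer (T : Set G)) (hx : ∃ k : ℕ, orderOf x = 2 ^ k)
    (hy : ∃ k : ℕ, orderOf y = 3 ^ k) (hxy : x * y * x⁻¹ = y⁻¹)
    (hyC : y ∉ centralizer (T : Set G)) : Cfsg.Involves (Equiv.Perm (Fin 4)) G := by
  classical
  obtain ⟨k, hk⟩ := hy
  have hex : ∃ j : ℕ, y ^ 3 ^ j ∈ centralizer (T : Set G) :=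
    ⟨k, by rw [← hk, pow_orderOf_eq_one]; exact Subgroup.one_mem _⟩
  have hm0 : Nat.find hex ≠ 0 := by
    intro h0
    have := Nat.find_spec hex
    rw [h0, pow_zero, pow_one] at this
    exact hyC this
  obtain ⟨m, hm⟩ := Nat.exists_eq_succ_of_ne_zero hm0
  obtain ⟨y', hy'⟩ : ∃ y', y' = y ^ 3 ^ m := ⟨_, rfl⟩
  have hy'C : y' ∉ centralizer (T : Set G) := by
    rw [hy']
    exact Nat.find_min hex (by omega)
  have hy'3 : y' ^ 3 ∈ centralizer (T : Set G) := by
    have := Nat.find_spec hex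
    rw [hm, Nat.succ_eq_add_one, pow_succ, pow_mul] at this
    rw [hy']
    exact this
  have hy'N : y' ∈ normalizer (T : Set G) := by rw [hy']; exact Subgroup.pow_mem _ hyN _
  have hy'o : ∃ k' : ℕ, orderOf y' = 3 ^ k' := by
    have h1 : orderOf y' ∣ 3 ^ k := by rw [← hk, hy']; exact orderOf_pow_dvd _
    obtain ⟨k', -, hk'⟩ := (Nat.dvd_prime_pow Nat.prime_three).mp h1
    exact ⟨k', hk'⟩
  have hxy' : x * y' * x⁻¹ = y'⁻¹ := by
    rw [hy', ← conj_pow, hxy, inv_pow]
  exact involves_perm4_core_aux (Nat.card G) G le_rfl T hT x y' hxN hy'N hx hy'o hy'3 hxy' hy'C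

/-- `S₃` involved in `N_G(T)/C_G(T)` for a 2-subgroup `T` gives `S₄` involved in `G` -/
theorem involves_perm4_of_two_subgroup {G : Type u} [Group G] [Finite G] (T : Subgroup G)
    (hT : IsPGroup 2 ↥T)
    (h : Cfsg.Involves (Equiv.Perm (Fin 3)) (↥(Subgroup.normalizer (T : Set G)) ⧸
        (Subgroup.centralizer (T : Set G)).subgroupOf (Subgroup.normalizer (T : Set G)))) :
    Cfsg.Involves (Equiv.Perm (Fin 4)) G := by
  have h' := involves_of_mulEquiv Cfsg.Agent.Lib.Helper3.d3Equiv.symm h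
  obtain ⟨Kb, Rb, hn, ⟨e⟩⟩ := h'
  set q := QuotientGroup.mk' ((Subgroup.centralizer (T : Set G)).subgroupOf
    (Subgroup.normalizer (T : Set G))) with hq
  set π₀ : ↥Kb →* DihedralGroup 3 :=
    e.toMonoidHom.comp (QuotientGroup.mk' (Rb.subgroupOf Kb)) with hπ₀
  have hπ₀s : Function.Surjective π₀ := by
    intro d
    obtain ⟨k, hk⟩ := QuotientGroup.mk'_surjective (Rb.subgroupOf Kb) (e.symm d)
    exact ⟨k, by rw [hπ₀, MonoidHom.comp_apply, hk]; simp⟩
  set K : Subgroup ↥(Subgroup.normalizer (T : Set G)) := Kb.comap q with hK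
  set π : ↥K →* DihedralGroup 3 := π₀.comp (q.subgroupComap Kb) with hπ
  have hπs : Function.Surjective π := by
    intro d
    obtain ⟨k, hk⟩ := hπ₀s d
    obtain ⟨z, hz⟩ := MonoidHom.subgroupComap_surjective_of_surjective q Kb
      (QuotientGroup.mk'_surjective _) k
    exact ⟨z, by rw [hπ, MonoidHom.comp_apply, hz, hk]⟩
  obtain ⟨x, y, hxo, hyo, hxy, hπy⟩ := exists_inverting_of_surjective π hπs
  refine involves_perm4_of_inverting T hT (((x : ↥(Subgroup.normalizer (T : Set G))) : G))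
    (((y : ↥(Subgroup.normalizer (T : Set G))) : G)) (x : ↥(Subgroup.normalizer (T : Set G))).2
    (y : ↥(Subgroup.normalizer (T : Set G))).2 ?_ ?_ ?_ ?_
  · obtain ⟨k, hk⟩ := hxo
    exact ⟨k, by rw [Subgroup.orderOf_coe, Subgroup.orderOf_coe, hk]⟩
  · obtain ⟨k, hk⟩ := hyo
    exact ⟨k, by rw [Subgroup.orderOf_coe, Subgroup.orderOf_coe, hk]⟩
  · have := congrArg (fun z : ↥K => (((z : ↥(Subgroup.normalizer (T : Set G))) : G))) hxy
    simpa using this
  · intro hC
    apply hπy
    have h1 : (y : ↥(Subgroup.normalizer (T : Set G))) ∈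
        (Subgroup.centralizer (T : Set G)).subgroupOf (Subgroup.normalizer (T : Set G)) :=
      Subgroup.mem_subgroupOf.mpr hC
    have h2 : q (y : ↥(Subgroup.normalizer (T : Set G))) = 1 :=
      (QuotientGroup.eq_one_iff _).mpr h1
    have h3 : (q.subgroupComap Kb) y = 1 := by
      apply Subtype.ext
      exact h2
    rw [hπ, MonoidHom.comp_apply, h3, map_one]


end Cfsg.Agent.Lib.Helper16
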