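import Mathlib.GroupTheory.Sylow
import Mathlib.GroupTheory.IsPerfect
import Cfsg.Prelude.Def_Transfer
import Cfsg.Prelude.Def_PLocal
import Cfsg.Prelude.Def_CaseTheorems
import Cfsg.Agent.S0120
import Cfsg.Agent.Lib.Helper29.Frobenius

set_option autoImplicit false
open Cfsg

namespace Cfsg.Agent.Lib.Helper16

/-- Internal form of S0120 (after helper9): for odd `p`, a `p'`-element normalizing the `p`-subgroup
`D` and centralizing its elements of order dividing `p` centralizes `D`. -/
theorem centralizes_of_centralizes_omega {G : Type*} [Group G] [Finite G] {p : ℕ} [Fact p.Prime]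
    (hp : p ≠ 2) {D : Subgroup G} (hD : IsPGroup p ↥D) {x : G}
    (hx : x ∈ Subgroup.normalizer (D : Set G))
    (hcop : (orderOf x).Coprime p) (h : ∀ d ∈ D, d ^ p = 1 → x * d = d * x) :
    x ∈ Subgroup.centralizer (D : Set G) := by
  haveI : (D.subgroupOf (Subgroup.normalizer (D : Set G))).Normal := Subgroup.normal_in_normalizer
  have hD' : IsPGroup p ↥(D.subgroupOf (Subgroup.normalizer (D : Set G))) := hD.comap_subtype
  have hdvd : orderOf (MulAut.conjNormal (H := D.subgroupOf (Subgroup.normalizer (D : Set G)))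
      (⟨x, hx⟩ : ↥(Subgroup.normalizer (D : Set G)))) ∣ orderOf x := by
    have h1 := orderOf_map_dvd
      (MulAut.conjNormal (H := D.subgroupOf (Subgroup.normalizer (D : Set G))))
      (⟨x, hx⟩ : ↥(Subgroup.normalizer (D : Set G)))
    rwa [Subgroup.orderOf_mk] at h1
  have ha := Cfsg.Agent.S0120.result hp hD'
    (MulAut.conjNormal (H := D.subgroupOf (Subgroup.normalizer (D : Set G)))
      (⟨x, hx⟩ : ↥(Subgroup.normalizer (D : Set G))))
    (Nat.Coprime.coprime_dvd_left hdvd hcop)
    (by
      intro y hy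
      apply Subtype.ext
      apply Subtype.ext
      rw [MulAut.conjNormal_apply]
      have hyD : ((y : ↥(Subgroup.normalizer (D : Set G))) : G) ∈ D := y.2
      have hyp : ((y : ↥(Subgroup.normalizer (D : Set G))) : G) ^ p = 1 := by
        have := congrArg (fun z : ↥(D.subgroupOf (Subgroup.normalizer (D : Set G))) =>
          ((z : ↥(Subgroup.normalizer (D : Set G))) : G)) hy
        simpa using this
      have h2 := h _ hyD hyp
      show x * ((y : ↥(Subgroup.normalizer (D : Set G))) : G) * x⁻¹ = _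
      rw [h2, mul_inv_cancel_right])
  rw [Subgroup.mem_centralizer_iff]
  intro d hd
  have h3 := congrArg (fun f : MulAut ↥(D.subgroupOf (Subgroup.normalizer (D : Set G))) =>
    (((f ⟨⟨d, Subgroup.le_normalizer hd⟩, hd⟩ :
      ↥(D.subgroupOf (Subgroup.normalizer (D : Set G)))) :
        ↥(Subgroup.normalizer (D : Set G))) : G)) ha
  simp only [MulAut.conjNormal_apply, MulAut.one_apply] at h3
  have h4 : x * d * x⁻¹ = d := h3
  have h5 : x * d * x⁻¹ * x = d * x := by rw [h4]
  simpa [mul_assoc] using h5.symm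

theorem normal_pcomplement_of_omega_central {G : Type*} [Group G] [Finite G] {p : ℕ} [Fact p.Prime]
    (hp : p ≠ 2) (hdiv : p ∣ Nat.card G) (P : Sylow p G)
    (hZ : Cfsg.omegaOne p (P : Subgroup G) ≤ Subgroup.center G) :
    Cfsg.HasNormalPComplement p G ∧ ¬ Cfsg.IsQuasisimple G := by
  have hF : Cfsg.Agent.Lib.Helper29.FrobCond p G := by
    apply Cfsg.Agent.Lib.Helper29.frobCond_of_sylow P
    intro Q hQP g hg hcop
    apply centralizes_of_centralizes_omega hp (P.2.to_le hQP) hg hcop
    intro d hd hdp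
    have h1 : d ∈ Cfsg.omegaOne p (P : Subgroup G) := Subgroup.subset_closure ⟨hQP hd, hdp⟩
    have h2 := hZ h1
    rw [Subgroup.mem_center_iff] at h2
    exact h2 g
  obtain ⟨N, hN, hc⟩ := hF.exists_normal_complement P
  refine ⟨⟨P, N, hN, hc⟩, ?_⟩
  rintro ⟨hperf, -⟩
  haveI := hN
  have hidx : N.index = Nat.card (P : Subgroup G) := hc.symm.index_eq_card
  have hQp : IsPGroup p (G ⧸ N) := by
    obtain ⟨k, hk⟩ := IsPGroup.iff_card.mp P.2
    apply IsPGroup.of_card (n := k)
    rw [← Subgroup.index_eq_card, hidx, hk]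
  haveI : Group.IsNilpotent (G ⧸ N) := hQp.isNilpotent
  haveI : Nontrivial (G ⧸ N) := by
    rw [← Finite.one_lt_card_iff_nontrivial, ← Subgroup.index_eq_card, hidx]
    have hdvd : p ∣ Nat.card (P : Subgroup G) := P.dvd_card_of_dvd_card hdiv
    have hp' : p.Prime := Fact.out
    exact lt_of_lt_of_le hp'.one_lt (Nat.le_of_dvd Nat.card_pos hdvd)
  haveI : Group.IsPerfect (G ⧸ N) := inferInstance
  exact Group.IsPerfect.not_isNilpotent (G := G ⧸ N) inferInstance

end Cfsg.Agent.Lib.Helper16
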