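import Cfsg.Agent.Lib.Helper16.Irreducible

set_option autoImplicit false
open Cfsg
open scoped Pointwise commutatorElement

namespace Cfsg.Agent.Lib.Helper16

variable {G : Type*} [Group G] {p : ℕ}

/-- ambient form of `O_p(L / C_L(V)) = 1`. -/
def PR (p : ℕ) (V : Subgroup G) : Prop :=
  ∀ D : Subgroup G, D.Normal →
    (∀ d ∈ D, ∃ k : ℕ, d ^ (p ^ k) ∈ Subgroup.centralizer (V : Set G)) →
      D ≤ Subgroup.centralizer (V : Set G)

theorem pCore_quotient_eq_bot_iff [Fact p.Prime] (C : Subgroup G) [hC : C.Normal] :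
    pCore p (G ⧸ C) = ⊥ ↔
      ∀ D : Subgroup G, D.Normal → (∀ d ∈ D, ∃ k : ℕ, d ^ (p ^ k) ∈ C) → D ≤ C := by
  have hsurj := QuotientGroup.mk'_surjective C
  constructor
  · intro h D hD hDp
    have h1 : D.map (QuotientGroup.mk' C) ≤ pCore p (G ⧸ C) := by
      apply le_pCore (hD.map _ hsurj)
      rintro ⟨_, ⟨d, hd, rfl⟩⟩
      obtain ⟨k, hk⟩ := hDp d hd
      refine ⟨k, ?_⟩
      apply Subtype.ext
      simp only [Subgroup.coe_pow, Subgroup.coe_one]
      rw [← map_pow, QuotientGroup.mk'_apply, QuotientGroup.eq_one_iff]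
      exact hk
    rw [h] at h1
    intro d hd
    have h2 : (QuotientGroup.mk' C) d ∈ (⊥ : Subgroup (G ⧸ C)) := h1 ⟨d, hd, rfl⟩
    rw [Subgroup.mem_bot, QuotientGroup.mk'_apply, QuotientGroup.eq_one_iff] at h2
    exact h2
  · intro h
    have hn : (pCore p (G ⧸ C)).Normal := inferInstance
    have h1 := h ((pCore p (G ⧸ C)).comap (QuotientGroup.mk' C)) (hn.comap _) (by
      intro d hd
      rw [Subgroup.mem_comap] at hd
      obtain ⟨k, hk⟩ := (pCore_isPGroup (G := G ⧸ C) (p := p)) ⟨_, hd⟩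
      refine ⟨k, ?_⟩
      have hk' := congrArg Subtype.val hk
      simp only [Subgroup.coe_pow, Subgroup.coe_one] at hk'
      rw [← map_pow, QuotientGroup.mk'_apply, QuotientGroup.eq_one_iff] at hk'
      exact hk')
    rw [eq_bot_iff]
    intro q hq
    obtain ⟨g, rfl⟩ := hsurj q
    have hg : g ∈ C := h1 (by rw [Subgroup.mem_comap]; exact hq)
    rw [Subgroup.mem_bot, QuotientGroup.mk'_apply, QuotientGroup.eq_one_iff]
    exact hg

theorem isPReducedNormal_iff [Fact p.Prime] (V : Subgroup G) :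
    IsPReducedNormal p V ↔ V.Normal ∧ IsElementaryAbelian p V ∧ PR p V := by
  constructor
  · rintro ⟨hVn, hVe, hCn, hC⟩
    exact ⟨hVn, hVe, (pCore_quotient_eq_bot_iff _).mp hC⟩
  · rintro ⟨hVn, hVe, hPR⟩
    have hCn : (Subgroup.centralizer (V : Set G)).Normal := Subgroup.normal_centralizer
    exact ⟨hVn, hVe, hCn, (pCore_quotient_eq_bot_iff _).mpr hPR⟩

/-- a `p`-reduced normal subgroup is centralized by `O_p`. -/
theorem pReduced_pCore_le_centralizer [Fact p.Prime] {V : Subgroup G} (hV : IsPReducedNormal p V) :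
    pCore p G ≤ Subgroup.centralizer (V : Set G) := by
  obtain ⟨-, -, hPR⟩ := (isPReducedNormal_iff V).mp hV
  apply hPR _ inferInstance
  intro d hd
  obtain ⟨k, hk⟩ := exists_pow_eq_one_of_isPGroup (pCore_isPGroup (G := G) (p := p)) hd
  exact ⟨k, by rw [hk]; exact Subgroup.one_mem _⟩

theorem pReduced_le_center_pCore [Fact p.Prime]
    (hchar : Subgroup.centralizer (pCore p G : Set G) ≤ pCore p G) {V : Subgroup G}
    (hV : IsPReducedNormal p V) :
    V ≤ pCore p G ⊓ Subgroup.centralizer (pCore p G : Set G) := by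
  have h1 := pReduced_pCore_le_centralizer hV
  have h2 : V ≤ Subgroup.centralizer (pCore p G : Set G) := by
    intro v hv
    rw [Subgroup.mem_centralizer_iff]
    intro x hx
    exact ((Subgroup.mem_centralizer_iff.mp (h1 hx)) v hv).symm
  exact le_inf (h2.trans hchar) h2

theorem pReduced_sup [Fact p.Prime]
    (hchar : Subgroup.centralizer (pCore p G : Set G) ≤ pCore p G) {V W : Subgroup G}
    (hV : IsPReducedNormal p V) (hW : IsPReducedNormal p W) : IsPReducedNormal p (V ⊔ W) := by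
  have hVZ := pReduced_le_center_pCore hchar hV
  have hWZ := pReduced_le_center_pCore hchar hW
  obtain ⟨hVn, hVe, hVPR⟩ := (isPReducedNormal_iff V).mp hV
  obtain ⟨hWn, hWe, hWPR⟩ := (isPReducedNormal_iff W).mp hW
  rw [isPReducedNormal_iff]
  have hle : V ⊔ W ≤ pCore p G ⊓ Subgroup.centralizer (pCore p G : Set G) := sup_le hVZ hWZ
  have hcomm : ∀ a ∈ V ⊔ W, ∀ b ∈ V ⊔ W, a * b = b * a := by
    intro a ha b hb
    have h1 := (hle ha).2
    have h2 := (hle hb).1
    exact ((Subgroup.mem_centralizer_iff.mp h1) b h2).symm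
  refine ⟨inferInstance, ⟨⟨⟨fun a b => Subtype.ext (hcomm a a.2 b b.2)⟩⟩, ?_⟩, ?_⟩
  · intro a ha
    rw [Subgroup.sup_eq_closure] at ha
    induction ha using Subgroup.closure_induction with
    | mem x hx =>
      rcases hx with hx | hx
      · exact hVe.2 x hx
      · exact hWe.2 x hx
    | one => exact one_pow p
    | mul x y hx hy hx' hy' =>
      rw [← Subgroup.sup_eq_closure] at hx hy
      have hc : Commute x y := hcomm x hx y hy
      rw [hc.mul_pow, hx', hy', one_mul]
    | inv x _ hx' => rw [inv_pow, hx', inv_one]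
  · intro D hD hDp
    have h1 : D ≤ Subgroup.centralizer (V : Set G) := by
      apply hVPR D hD
      intro d hd
      obtain ⟨k, hk⟩ := hDp d hd
      exact ⟨k, Subgroup.centralizer_le (le_sup_left : V ≤ V ⊔ W) hk⟩
    have h2 : D ≤ Subgroup.centralizer (W : Set G) := by
      apply hWPR D hD
      intro d hd
      obtain ⟨k, hk⟩ := hDp d hd
      exact ⟨k, Subgroup.centralizer_le (le_sup_right : W ≤ V ⊔ W) hk⟩
    intro d hd
    exact sup_le_centralizer_singleton (h1 hd) (h2 hd)

theorem pReduced_bot [Fact p.Prime] : IsPReducedNormal p (⊥ : Subgroup G) := by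
  rw [isPReducedNormal_iff]
  refine ⟨inferInstance, ⟨⟨⟨fun a b => Subsingleton.elim _ _⟩⟩, ?_⟩, ?_⟩
  · intro a ha
    rw [Subgroup.mem_bot] at ha
    rw [ha, one_pow]
  · intro D _ _ d _
    rw [Subgroup.mem_centralizer_iff]
    intro x hx
    have hx' : x ∈ (⊥ : Subgroup G) := hx
    rw [Subgroup.mem_bot] at hx'
    rw [hx']; simp

theorem exists_largest_pReduced [Finite G] [Fact p.Prime]
    (hchar : Subgroup.centralizer (pCore p G : Set G) ≤ pCore p G) :
    ∃ Y : Subgroup G, (IsPReducedNormal p Y ∧ ∀ V : Subgroup G, IsPReducedNormal p V → V ≤ Y) := by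
  obtain ⟨Y, -, hY⟩ := Finite.exists_le_maximal (p := fun V : Subgroup G => IsPReducedNormal p V)
    (a := ⊥) pReduced_bot
  refine ⟨Y, hY.prop, ?_⟩
  intro V hV
  have h1 := pReduced_sup hchar hY.prop hV
  have h2 := hY.le_of_ge h1 le_sup_left
  exact le_sup_right.trans h2

end Cfsg.Agent.Lib.Helper16
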