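import Mathlib
import Cfsg.Agent.Lib.Helper18.PSLnUnitri

set_option autoImplicit false

/-! The special unitary group of the hermitian form with antidiagonal Gram matrix, over a field `K`
with an involution `σ`: the adjoint, the group `UJ`, and its "Heisenberg" elements
`1 + e_r ⊗ v - v^♯ ⊗ e_{r'} + b e_r ⊗ e_{r'}` (all root elements are of this form). -/

namespace Cfsg.Agent.Lib.Helper16.FusSU

open Matrix

variable {K : Type*} [Field K] {n : ℕ}

/-- the `σ`-twist of a vector along the reversal of the indices -/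
def sh (σ : K →+* K) (v : Fin n → K) : Fin n → K := fun i => σ (v i.rev)

/-- the adjoint with respect to the hermitian form with antidiagonal Gram matrix -/
def adj (σ : K →+* K) (M : Matrix (Fin n) (Fin n) K) : Matrix (Fin n) (Fin n) K :=
  Matrix.of fun i j => σ (M j.rev i.rev)

section basics

variable (σ : K →+* K)

theorem sh_apply (v : Fin n → K) (i : Fin n) : sh σ v i = σ (v i.rev) := rfl

theorem adj_apply (M : Matrix (Fin n) (Fin n) K) (i j : Fin n) :
    adj σ M i j = σ (M j.rev i.rev) := rfl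

theorem sh_add (v w : Fin n → K) : sh σ (v + w) = sh σ v + sh σ w := by
  funext i; simp [sh]

theorem sh_neg (v : Fin n → K) : sh σ (-v) = -sh σ v := by
  funext i; simp [sh]

theorem sh_sub (v w : Fin n → K) : sh σ (v - w) = sh σ v - sh σ w := by
  funext i; simp [sh]

theorem sh_zero : sh σ (0 : Fin n → K) = 0 := by
  funext i; simp [sh]

theorem sh_smul (c : K) (v : Fin n → K) : sh σ (c • v) = σ c • sh σ v := by
  funext i; simp [sh]

theorem sh_single (r : Fin n) (a : K) : sh σ (Pi.single r a) = Pi.single r.rev (σ a) := by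
  funext i
  rw [sh_apply, Pi.single_apply, Pi.single_apply]
  by_cases h : i = r.rev
  · subst h
    rw [Fin.rev_rev, if_pos rfl, if_pos rfl]
  · rw [if_neg h, if_neg, map_zero]
    intro h'
    apply h
    rw [← h', Fin.rev_rev]

theorem sh_dot_sh (a b : Fin n → K) : sh σ a ⬝ᵥ sh σ b = σ (a ⬝ᵥ b) := by
  unfold dotProduct
  rw [map_sum, ← Equiv.sum_comp Fin.revPerm]
  apply Finset.sum_congr rfl
  intro i _
  rw [map_mul, sh_apply, sh_apply, Fin.revPerm_apply, Fin.rev_rev]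

theorem adj_one : adj σ (1 : Matrix (Fin n) (Fin n) K) = 1 := by
  ext i j
  rw [adj_apply, Matrix.one_apply, Matrix.one_apply]
  by_cases h : i = j
  · subst h
    rw [if_pos rfl, if_pos rfl, map_one]
  · rw [if_neg h, if_neg, map_zero]
    intro h'
    exact h (Fin.rev_injective h'.symm)

theorem adj_zero : adj σ (0 : Matrix (Fin n) (Fin n) K) = 0 := by
  ext i j
  simp [adj]

theorem adj_add (A B : Matrix (Fin n) (Fin n) K) : adj σ (A + B) = adj σ A + adj σ B := by
  ext i j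
  simp [adj]

theorem adj_sub (A B : Matrix (Fin n) (Fin n) K) : adj σ (A - B) = adj σ A - adj σ B := by
  ext i j
  simp [adj]

theorem adj_neg (A : Matrix (Fin n) (Fin n) K) : adj σ (-A) = -adj σ A := by
  ext i j
  simp [adj]

theorem adj_smul (c : K) (A : Matrix (Fin n) (Fin n) K) : adj σ (c • A) = σ c • adj σ A := by
  ext i j
  simp [adj]

theorem adj_mul (A B : Matrix (Fin n) (Fin n) K) : adj σ (A * B) = adj σ B * adj σ A := by
  ext i j
  rw [adj_apply, Matrix.mul_apply, Matrix.mul_apply, map_sum, ← Equiv.sum_comp Fin.revPerm]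
  apply Finset.sum_congr rfl
  intro k _
  rw [map_mul, adj_apply, adj_apply, mul_comm]
  rfl

theorem adj_vecMulVec (a b : Fin n → K) :
    adj σ (vecMulVec a b) = vecMulVec (sh σ b) (sh σ a) := by
  ext i j
  rw [adj_apply, vecMulVec_apply, vecMulVec_apply, map_mul, mul_comm]
  rfl

theorem adj_diagonal (f : Fin n → K) : adj σ (diagonal f) = diagonal (sh σ f) := by
  ext i j
  rw [adj_apply, Matrix.diagonal_apply, Matrix.diagonal_apply]
  by_cases h : i = j
  · subst h
    rw [if_pos rfl, if_pos rfl]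
    rfl
  · rw [if_neg h, if_neg, map_zero]
    intro h'
    exact h (Fin.rev_injective h'.symm)

theorem adj_mulVec_sh (M : Matrix (Fin n) (Fin n) K) (v : Fin n → K) :
    adj σ M *ᵥ sh σ v = sh σ (v ᵥ* M) := by
  funext i
  rw [sh_apply]
  show ∑ k, adj σ M i k * sh σ v k = σ (∑ k, v k * M k i.rev)
  rw [map_sum, ← Equiv.sum_comp Fin.revPerm]
  apply Finset.sum_congr rfl
  intro k _
  rw [map_mul, adj_apply, sh_apply, mul_comm, Fin.revPerm_apply, Fin.rev_rev]

theorem sh_vecMul_adj (M : Matrix (Fin n) (Fin n) K) (v : Fin n → K) :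
    sh σ v ᵥ* adj σ M = sh σ (M *ᵥ v) := by
  funext i
  rw [sh_apply]
  show ∑ k, sh σ v k * adj σ M k i = σ (∑ k, M i.rev k * v k)
  rw [map_sum, ← Equiv.sum_comp Fin.revPerm]
  apply Finset.sum_congr rfl
  intro k _
  rw [map_mul, adj_apply, sh_apply, mul_comm, Fin.revPerm_apply, Fin.rev_rev]

variable {σ} (hσ : ∀ x, σ (σ x) = x)
include hσ

theorem sh_sh (v : Fin n → K) : sh σ (sh σ v) = v := by
  funext i
  rw [sh_apply, sh_apply, hσ, Fin.rev_rev]

theorem adj_adj (M : Matrix (Fin n) (Fin n) K) : adj σ (adj σ M) = M := by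
  ext i j
  rw [adj_apply, adj_apply, hσ, Fin.rev_rev, Fin.rev_rev]

theorem dot_sh_comm (a b : Fin n → K) : σ (a ⬝ᵥ sh σ b) = b ⬝ᵥ sh σ a := by
  rw [← sh_dot_sh, sh_sh hσ, dotProduct_comm]

end basics

/-! ### the group -/

/-- the special unitary group of the hermitian form with antidiagonal Gram matrix -/
def UJ (σ : K →+* K) (n : ℕ) : Subgroup (SpecialLinearGroup (Fin n) K) where
  carrier := {g | (g : Matrix (Fin n) (Fin n) K) * adj σ (g : Matrix (Fin n) (Fin n) K) = 1}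
  one_mem' := by
    show (1 : Matrix (Fin n) (Fin n) K) * adj σ (1 : Matrix (Fin n) (Fin n) K) = 1
    rw [adj_one, Matrix.one_mul]
  mul_mem' := by
    intro a b ha hb
    show (a : Matrix (Fin n) (Fin n) K) * (b : Matrix (Fin n) (Fin n) K) *
      adj σ ((a : Matrix (Fin n) (Fin n) K) * (b : Matrix (Fin n) (Fin n) K)) = 1
    have ha' : (a : Matrix (Fin n) (Fin n) K) * adj σ (a : Matrix (Fin n) (Fin n) K) = 1 := ha
    have hb' : (b : Matrix (Fin n) (Fin n) K) * adj σ (b : Matrix (Fin n) (Fin n) K) = 1 := hb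
    rw [adj_mul, Matrix.mul_assoc, ← Matrix.mul_assoc (b : Matrix (Fin n) (Fin n) K), hb',
      Matrix.one_mul, ha']
  inv_mem' := by
    intro a ha
    have ha' : (a : Matrix (Fin n) (Fin n) K) * adj σ (a : Matrix (Fin n) (Fin n) K) = 1 := ha
    have h1 : ((a⁻¹ : SpecialLinearGroup (Fin n) K) : Matrix (Fin n) (Fin n) K) =
        adj σ (a : Matrix (Fin n) (Fin n) K) := by
      rw [Matrix.SpecialLinearGroup.coe_inv]
      calc adjugate (a : Matrix (Fin n) (Fin n) K)
          = adjugate (a : Matrix (Fin n) (Fin n) K) *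
            ((a : Matrix (Fin n) (Fin n) K) * adj σ (a : Matrix (Fin n) (Fin n) K)) := by
            rw [ha', Matrix.mul_one]
        _ = adj σ (a : Matrix (Fin n) (Fin n) K) := by
            rw [← Matrix.mul_assoc, Matrix.adjugate_mul, a.2, one_smul, Matrix.one_mul]
    show ((a⁻¹ : SpecialLinearGroup (Fin n) K) : Matrix (Fin n) (Fin n) K) *
      adj σ ((a⁻¹ : SpecialLinearGroup (Fin n) K) : Matrix (Fin n) (Fin n) K) = 1
    rw [h1]
    have h2 := congrArg (adj σ) ha'
    rw [adj_mul, adj_one] at h2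
    exact _root_.mul_eq_one_comm.mp h2

theorem mem_UJ {σ : K →+* K} {g : SpecialLinearGroup (Fin n) K} :
    g ∈ UJ σ n ↔ (g : Matrix (Fin n) (Fin n) K) * adj σ (g : Matrix (Fin n) (Fin n) K) = 1 :=
  Iff.rfl

theorem UJ_inv_coe {σ : K →+* K} {g : SpecialLinearGroup (Fin n) K} (hg : g ∈ UJ σ n) :
    ((g⁻¹ : SpecialLinearGroup (Fin n) K) : Matrix (Fin n) (Fin n) K) =
      adj σ (g : Matrix (Fin n) (Fin n) K) := by
  have ha' := mem_UJ.1 hg
  rw [Matrix.SpecialLinearGroup.coe_inv]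
  calc adjugate (g : Matrix (Fin n) (Fin n) K)
      = adjugate (g : Matrix (Fin n) (Fin n) K) *
        ((g : Matrix (Fin n) (Fin n) K) * adj σ (g : Matrix (Fin n) (Fin n) K)) := by
        rw [ha', Matrix.mul_one]
    _ = adj σ (g : Matrix (Fin n) (Fin n) K) := by
        rw [← Matrix.mul_assoc, Matrix.adjugate_mul, g.2, one_smul, Matrix.one_mul]

theorem UJ_adj_mul {σ : K →+* K} {g : SpecialLinearGroup (Fin n) K} (hg : g ∈ UJ σ n) :
    adj σ (g : Matrix (Fin n) (Fin n) K) * (g : Matrix (Fin n) (Fin n) K) = 1 :=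
  _root_.mul_eq_one_comm.mp (mem_UJ.1 hg)

/-! ### Heisenberg elements -/

/-- the nilpotent part `e_r ⊗ v - v^♯ ⊗ e_{r'} + b e_r ⊗ e_{r'}` -/
def hN (σ : K →+* K) (r : Fin n) (v : Fin n → K) (b : K) : Matrix (Fin n) (Fin n) K :=
  vecMulVec (Pi.single r 1) v - vecMulVec (sh σ v) (Pi.single r.rev 1) +
    b • vecMulVec (Pi.single r 1) (Pi.single r.rev 1)

theorem hN_apply (σ : K →+* K) (r : Fin n) (v : Fin n → K) (b : K) (x y : Fin n) :
    hN σ r v b x y = (if x = r then v y else 0) - (if y = r.rev then σ (v x.rev) else 0) +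
      (if x = r ∧ y = r.rev then b else 0) := by
  unfold hN
  rw [Matrix.add_apply, Matrix.sub_apply, Matrix.smul_apply, vecMulVec_apply, vecMulVec_apply,
    vecMulVec_apply, Pi.single_apply, Pi.single_apply, sh_apply, smul_eq_mul]
  by_cases h1 : x = r <;> by_cases h2 : y = r.rev <;> simp [h1, h2]

theorem hN_add (σ : K →+* K) (r : Fin n) (v w : Fin n → K) (b c : K) :
    hN σ r v b + hN σ r w c = hN σ r (v + w) (b + c) := by
  unfold hN
  rw [sh_add, vecMulVec_add, add_vecMulVec, add_smul]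
  abel

theorem hN_zero (σ : K →+* K) (r : Fin n) : hN σ r 0 0 = 0 := by
  unfold hN
  rw [sh_zero, vecMulVec_zero, zero_vecMulVec, zero_smul, sub_zero, add_zero]

theorem adj_hN {σ : K →+* K} (hσ : ∀ x, σ (σ x) = x) (r : Fin n) (v : Fin n → K) (b : K) :
    adj σ (hN σ r v b) = hN σ r (-v) (σ b) := by
  unfold hN
  rw [adj_add, adj_sub, adj_smul, adj_vecMulVec, adj_vecMulVec, adj_vecMulVec, sh_sh hσ,
    sh_single, sh_single, Fin.rev_rev, map_one, sh_neg, vecMulVec_neg, neg_vecMulVec]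
  abel

theorem hN_mul_hN (σ : K →+* K) {r : Fin n} (hr : r ≠ r.rev) {v w : Fin n → K} (hv : v r = 0)
    (hw : w r = 0) (b c : K) :
    hN σ r v b * hN σ r w c =
      (-(v ⬝ᵥ sh σ w)) • vecMulVec (Pi.single r 1) (Pi.single r.rev 1) := by
  have h1 : v ⬝ᵥ (Pi.single r 1 : Fin n → K) = 0 := by rw [dotProduct_single_one, hv]
  have h2 : (Pi.single r.rev 1 : Fin n → K) ⬝ᵥ (Pi.single r 1 : Fin n → K) = 0 := by
    rw [dotProduct_single_one, Pi.single_apply, if_neg hr]
  have h3 : (Pi.single r.rev 1 : Fin n → K) ⬝ᵥ sh σ w = 0 := by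
    rw [single_one_dotProduct, sh_apply, Fin.rev_rev, hw, map_zero]
  unfold hN
  simp only [Matrix.add_mul, Matrix.mul_add, Matrix.sub_mul, Matrix.mul_sub, Matrix.smul_mul,
    Matrix.mul_smul, vecMulVec_mul_vecMulVec, h1, h2, h3, zero_smul, vecMulVec_zero, smul_zero,
    sub_zero, add_zero, zero_sub]
  rw [vecMulVec_smul, neg_smul]

theorem hN_zero_left (σ : K →+* K) (r : Fin n) (c : K) :
    hN σ r 0 c = c • vecMulVec (Pi.single r 1) (Pi.single r.rev 1) := by
  unfold hN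
  rw [sh_zero, vecMulVec_zero, zero_vecMulVec, sub_zero, zero_add]

theorem hN_add_smul (σ : K →+* K) (r : Fin n) (v : Fin n → K) (b c : K) :
    hN σ r v b + c • vecMulVec (Pi.single r 1) (Pi.single r.rev 1) = hN σ r v (b + c) := by
  rw [← hN_zero_left σ, hN_add, add_zero]

theorem det_one_add_vecMulVec (a c : Fin n → K) : (1 + vecMulVec a c).det = 1 + c ⬝ᵥ a := by
  have h1 : (1 + vecMulVec a c : Matrix (Fin n) (Fin n) K)
      = 1 + Matrix.replicateCol Unit a * Matrix.replicateRow Unit c := by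
    congr 1
    ext i j; simp [Matrix.vecMulVec_apply, Matrix.mul_apply]
  rw [h1, Matrix.det_one_add_replicateCol_mul_replicateRow]

theorem det_one_add_hN (σ : K →+* K) {r : Fin n} (hr : r ≠ r.rev) {v : Fin n → K} (hv : v r = 0)
    (b : K) : (1 + hN σ r v b).det = 1 := by
  have h3 : (Pi.single r.rev 1 : Fin n → K) ⬝ᵥ sh σ v = 0 := by
    rw [single_one_dotProduct, sh_apply, Fin.rev_rev, hv, map_zero]
  have hXY : vecMulVec (Pi.single r 1) (v + (b + v ⬝ᵥ sh σ v) • (Pi.single r.rev 1 : Fin n → K)) *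
      vecMulVec (-(sh σ v)) (Pi.single r.rev 1) =
      (-(v ⬝ᵥ sh σ v)) • vecMulVec (Pi.single r 1) (Pi.single r.rev 1 : Fin n → K) := by
    rw [vecMulVec_mul_vecMulVec, add_dotProduct, smul_dotProduct, dotProduct_neg, dotProduct_neg,
      h3, neg_zero, smul_zero, add_zero, vecMulVec_smul]
  have hfac : 1 + hN σ r v b =
      (1 + vecMulVec (Pi.single r 1) (v + (b + v ⬝ᵥ sh σ v) • (Pi.single r.rev 1 : Fin n → K))) *
        (1 + vecMulVec (-(sh σ v)) (Pi.single r.rev 1)) := by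
    rw [Matrix.add_mul, Matrix.one_mul, Matrix.mul_add, Matrix.mul_one, hXY, vecMulVec_add,
      vecMulVec_smul, neg_vecMulVec]
    unfold hN
    module
  rw [hfac, Matrix.det_mul, det_one_add_vecMulVec, det_one_add_vecMulVec, add_dotProduct,
    smul_dotProduct, dotProduct_single_one, dotProduct_single_one, hv, Pi.single_apply,
    if_neg hr, smul_zero, add_zero, add_zero, one_mul, dotProduct_neg, h3, neg_zero, add_zero]

/-- the Heisenberg elements -/
def Hq (σ : K →+* K) (r : Fin n) (hr : r ≠ r.rev) (v : Fin n → K) (hv : v r = 0) (b : K) :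
    SpecialLinearGroup (Fin n) K :=
  ⟨1 + hN σ r v b, det_one_add_hN σ hr hv b⟩

theorem Hq_coe (σ : K →+* K) (r : Fin n) (hr : r ≠ r.rev) (v : Fin n → K) (hv : v r = 0) (b : K) :
    ((Hq σ r hr v hv b : SpecialLinearGroup (Fin n) K) : Matrix (Fin n) (Fin n) K) =
      1 + hN σ r v b := rfl

theorem Hq_congr (σ : K →+* K) (r : Fin n) (hr : r ≠ r.rev) {v w : Fin n → K} (hv : v r = 0)
    (hw : w r = 0) {b c : K} (h1 : v = w) (h2 : b = c) : Hq σ r hr v hv b = Hq σ r hr w hw c := by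
  subst h1 h2
  rfl

theorem Hq_mul (σ : K →+* K) (r : Fin n) (hr : r ≠ r.rev) (v w : Fin n → K) (hv : v r = 0)
    (hw : w r = 0) (b c : K) :
    Hq σ r hr v hv b * Hq σ r hr w hw c =
      Hq σ r hr (v + w) (by rw [Pi.add_apply, hv, hw, add_zero]) (b + c - v ⬝ᵥ sh σ w) := by
  apply Subtype.ext
  rw [Matrix.SpecialLinearGroup.coe_mul, Hq_coe, Hq_coe, Hq_coe, Matrix.add_mul, Matrix.one_mul,
    Matrix.mul_add, Matrix.mul_one, hN_mul_hN σ hr hv hw, sub_eq_add_neg (b + c), ← hN_add_smul,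
    ← hN_add]
  abel

theorem Hq_zero (σ : K →+* K) (r : Fin n) (hr : r ≠ r.rev) :
    Hq σ r hr 0 (Pi.zero_apply r) 0 = 1 := by
  apply Subtype.ext
  rw [Hq_coe, hN_zero, add_zero]
  rfl

theorem Hq_inv (σ : K →+* K) (r : Fin n) (hr : r ≠ r.rev) (v : Fin n → K) (hv : v r = 0) (b : K) :
    (Hq σ r hr v hv b)⁻¹ =
      Hq σ r hr (-v) (by rw [Pi.neg_apply, hv, neg_zero]) (-b - v ⬝ᵥ sh σ v) := by
  rw [inv_eq_iff_mul_eq_one, Hq_mul, ← Hq_zero σ r hr]
  apply Hq_congr
  · rw [add_neg_cancel]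
  · rw [sh_neg, dotProduct_neg]
    ring

theorem Hq_mem {σ : K →+* K} (hσ : ∀ x, σ (σ x) = x) (r : Fin n) (hr : r ≠ r.rev) (v : Fin n → K)
    (hv : v r = 0) (b : K) (hb : b + σ b + v ⬝ᵥ sh σ v = 0) : Hq σ r hr v hv b ∈ UJ σ n := by
  rw [mem_UJ, Hq_coe, adj_add, adj_one, adj_hN hσ, Matrix.add_mul, Matrix.one_mul, Matrix.mul_add,
    Matrix.mul_one, hN_mul_hN σ hr hv (by rw [Pi.neg_apply, hv, neg_zero]), sh_neg, dotProduct_neg,
    neg_neg, hN_add_smul, add_assoc, hN_add, neg_add_cancel,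
    show σ b + (b + v ⬝ᵥ sh σ v) = 0 by rw [← hb]; ring, hN_zero, add_zero]

/-- conjugation of a Heisenberg element by an element of the group mapping `e_r` to a multiple of
`e_s` -/
theorem conj_Hq {σ : K →+* K} (hσ : ∀ x, σ (σ x) = x) {g : SpecialLinearGroup (Fin n) K}
    (hg : g ∈ UJ σ n) {r s : Fin n} (hr : r ≠ r.rev) (hs : s ≠ s.rev) (c : K)
    (hfix : (g : Matrix (Fin n) (Fin n) K) *ᵥ Pi.single r 1 = c • Pi.single s 1)
    (v : Fin n → K) (hv : v r = 0) (b : K)
    (hw : (c • (v ᵥ* adj σ (g : Matrix (Fin n) (Fin n) K))) s = 0) :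
    g * Hq σ r hr v hv b * g⁻¹ =
      Hq σ s hs (c • (v ᵥ* adj σ (g : Matrix (Fin n) (Fin n) K))) hw (c * σ c * b) := by
  apply Subtype.ext
  rw [Matrix.SpecialLinearGroup.coe_mul, Matrix.SpecialLinearGroup.coe_mul, UJ_inv_coe hg, Hq_coe,
    Hq_coe, Matrix.mul_add, Matrix.mul_one, Matrix.add_mul, mem_UJ.1 hg]
  congr 1
  have h1 : (Pi.single r.rev 1 : Fin n → K) ᵥ* adj σ (g : Matrix (Fin n) (Fin n) K) =
      σ c • Pi.single s.rev 1 := by
    have : (Pi.single r.rev 1 : Fin n → K) = sh σ (Pi.single r 1) := by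
      rw [sh_single, map_one]
    rw [this, sh_vecMul_adj, hfix, sh_smul, sh_single, map_one]
  have h2 : (g : Matrix (Fin n) (Fin n) K) *ᵥ sh σ v =
      sh σ (v ᵥ* adj σ (g : Matrix (Fin n) (Fin n) K)) := by
    have := adj_mulVec_sh σ (adj σ (g : Matrix (Fin n) (Fin n) K)) v
    rw [adj_adj hσ] at this
    exact this
  unfold hN
  rw [Matrix.mul_add, Matrix.mul_sub, Matrix.add_mul, Matrix.sub_mul, Matrix.mul_smul,
    Matrix.smul_mul, mul_vecMulVec, mul_vecMulVec, mul_vecMulVec, vecMulVec_mul, vecMulVec_mul,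
    vecMulVec_mul, hfix, h1, h2, sh_smul, smul_vecMulVec, smul_vecMulVec, vecMulVec_smul,
    vecMulVec_smul, vecMulVec_smul, smul_vecMulVec]
  module

/-! ### diagonal elements -/

/-- diagonal elements -/
def dg (f : Fin n → K) (hf : ∏ i, f i = 1) : SpecialLinearGroup (Fin n) K :=
  ⟨diagonal f, by rw [Matrix.det_diagonal, hf]⟩

theorem dg_coe (f : Fin n → K) (hf : ∏ i, f i = 1) :
    ((dg f hf : SpecialLinearGroup (Fin n) K) : Matrix (Fin n) (Fin n) K) = diagonal f := rfl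

theorem dg_mem {σ : K →+* K} (f : Fin n → K) (hf : ∏ i, f i = 1)
    (h : ∀ i, f i * σ (f i.rev) = 1) : dg f hf ∈ UJ σ n := by
  rw [mem_UJ, dg_coe, adj_diagonal, Matrix.diagonal_mul_diagonal]
  rw [← Matrix.diagonal_one]
  congr 1
  funext i
  exact h i

theorem dg_mul (f f' : Fin n → K) (hf : ∏ i, f i = 1) (hf' : ∏ i, f' i = 1) :
    dg f hf * dg f' hf' = dg (f * f') (by simp [Finset.prod_mul_distrib, hf, hf']) := by
  apply Subtype.ext
  rw [Matrix.SpecialLinearGroup.coe_mul, dg_coe, dg_coe, dg_coe, Matrix.diagonal_mul_diagonal]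
  rfl

end Cfsg.Agent.Lib.Helper16.FusSU
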