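import Mathlib
import Cfsg.Agent.Lib.Helper16.FusSUA

set_option autoImplicit false

/-! The Borel subgroup of `UJ`: elements normalizing the unitriangular subgroup are upper
triangular, and upper triangular elements are products of diagonal and unitriangular ones. -/

namespace Cfsg.Agent.Lib.Helper16.FusSU

open Matrix

open Cfsg.Agent.Lib.Helper18.PSLnAut (IsUni unitri mem_unitri)

variable {K : Type*} [Field K] {n : ℕ}

/-- the facts on the involution used below -/
structure InvOK (σ : K →+* K) : Prop where
  invol : ∀ x, σ (σ x) = x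
  tr : ∀ r, σ r = r → ∃ z, z + σ z = r
  sk : ∃ c, c ≠ 0 ∧ c + σ c = 0
  nm : ∀ r, r ≠ 0 → σ r = r → ∃ z, z * σ z = r
  nt : ∃ θ, σ θ ≠ θ

/-- a triangularity criterion -/
theorem upper_of_conj' (s : Matrix (Fin n) (Fin n) K)
    (h : ∀ j j1 : Fin n, j.val + 1 = j1.val → ∃ t u : Matrix (Fin n) (Fin n) K,
      s * u = t * s ∧ IsUni t ∧ IsUni u ∧ t j j1 ≠ 0) :
    ∀ a b : Fin n, b < a → s a b = 0 := by
  have key : ∀ N : ℕ, ∀ b : Fin n, b.val = N → ∀ k : ℕ, ∀ a : Fin n, a.val + k = n → b < a →
      s a b = 0 := by
    intro N
    induction N using Nat.strong_induction_on with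
    | _ N ihN =>
      intro b hb k
      induction k using Nat.strong_induction_on with
      | _ k ihk =>
        intro a hak hba
        have hba' : b.val < a.val := hba
        let j : Fin n := ⟨a.val - 1, by omega⟩
        have hj : j.val + 1 = a.val := by
          show a.val - 1 + 1 = a.val
          omega
        obtain ⟨t, u, e, ht, hu, hne⟩ := h j a hj
        have hja : j ≠ a := by
          intro h'
          rw [h'] at hj
          omega
        have hbj : b.val ≤ j.val := by omega
        have e' := congrFun (congrFun e j) b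
        have hL : (s * u) j b = s j b := by
          rw [Matrix.mul_apply, Finset.sum_eq_single b]
          · rw [hu.2, mul_one]
          · intro c _ hc
            rcases lt_or_gt_of_ne hc with h1 | h1
            · have h1' : c.val < b.val := h1
              have h2 : s j c = 0 :=
                ihN c.val (by omega) c rfl (n - j.val) j (by omega) (by
                  rw [Fin.lt_def]; omega)
              rw [h2, zero_mul]
            · rw [hu.1 c b h1, mul_zero]
          · intro h'
            exact absurd (Finset.mem_univ b) h'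
        have hR : (t * s) j b = s j b + t j a * s a b := by
          rw [Matrix.mul_apply,
            Finset.sum_eq_add_of_mem j a (Finset.mem_univ _) (Finset.mem_univ _) hja]
          · rw [ht.2, one_mul]
          · intro c _ hc
            by_cases hcj : c < j
            · rw [ht.1 j c hcj, zero_mul]
            · have hcj' : ¬ c.val < j.val := hcj
              have h1 : c.val ≠ j.val := fun h' => hc.1 (Fin.ext h')
              have h2 : c.val ≠ a.val := fun h' => hc.2 (Fin.ext h')
              have h3 : s c b = 0 := ihk (n - c.val) (by omega) c (by omega) (by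
                rw [Fin.lt_def]; omega)
              rw [h3, mul_zero]
        rw [hL, hR] at e'
        have h4 := left_eq_add.mp e'
        exact (mul_eq_zero.mp h4).resolve_left hne
  intro a b hba
  exact key b.val b rfl (n - a.val) a (by omega) hba

/-- Heisenberg elements in the unitriangular subgroup -/
theorem isUni_Hq (σ : K →+* K) {r : Fin n} (hrr : r < r.rev) {v : Fin n → K}
    (hsupp : ∀ y, y ≤ r → v y = 0) (b : K) : IsUni (1 + hN σ r v b) := by
  constructor
  · intro x y hyx
    rw [Matrix.add_apply, Matrix.one_apply_ne (ne_of_gt hyx), zero_add, hN_apply]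
    have h1 : (if x = r then v y else 0) = 0 := by
      split_ifs with h
      · exact hsupp y (by rw [← h]; exact le_of_lt hyx)
      · rfl
    have h2 : (if y = r.rev then σ (v x.rev) else 0) = 0 := by
      split_ifs with h
      · rw [hsupp x.rev, map_zero]
        rw [h] at hyx
        have := Fin.rev_lt_rev.mpr hyx
        rw [Fin.rev_rev] at this
        exact le_of_lt this
      · rfl
    have h3 : (if x = r ∧ y = r.rev then b else 0) = 0 := by
      rw [if_neg]
      rintro ⟨hx, hy⟩
      rw [hx, hy] at hyx
      exact absurd hrr (not_lt.mpr (le_of_lt hyx))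
    rw [h1, h2, h3, sub_zero, add_zero]
  · intro x
    rw [Matrix.add_apply, Matrix.one_apply_eq, hN_apply]
    have hvr : v r = 0 := hsupp r le_rfl
    have h1 : (if x = r then v x else 0) = 0 := by
      split_ifs with h
      · rw [h, hvr]
      · rfl
    have h2 : (if x = r.rev then σ (v x.rev) else 0) = 0 := by
      split_ifs with h
      · rw [h, Fin.rev_rev, hvr, map_zero]
      · rfl
    have h3 : (if x = r ∧ x = r.rev then b else 0) = 0 := by
      rw [if_neg]
      rintro ⟨hx, hy⟩
      rw [hx] at hy
      exact absurd hy (ne_of_lt hrr)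
    rw [h1, h2, h3, sub_zero, add_zero, add_zero]

theorem isUni_adj {σ : K →+* K} {M : Matrix (Fin n) (Fin n) K} (hM : IsUni M) :
    IsUni (adj σ M) := by
  constructor
  · intro i j hji
    rw [adj_apply, hM.1 _ _ (Fin.rev_lt_rev.mpr hji), map_zero]
  · intro i
    rw [adj_apply, hM.2, map_one]

section finite

variable [Finite K]

/-- unitriangular elements of the group with a prescribed nonzero entry next to the diagonal -/
theorem exists_upper_entry {σ : K →+* K} (hσ : InvOK σ) (j j1 : Fin n) (hj : j.val + 1 = j1.val) :
    ∃ t : SpecialLinearGroup (Fin n) K, t ∈ UJ σ n ∧ t ∈ unitri n K ∧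
      (t : Matrix (Fin n) (Fin n) K) j j1 ≠ 0 := by
  -- rows in the first half
  have E1 : ∀ r y : Fin n, r < y → y ≤ r.rev → ∃ t : SpecialLinearGroup (Fin n) K,
      t ∈ UJ σ n ∧ t ∈ unitri n K ∧ (t : Matrix (Fin n) (Fin n) K) r y ≠ 0 := by
    intro r y hry hyr
    have hrr : r < r.rev := lt_of_lt_of_le hry hyr
    have hr : r ≠ r.rev := ne_of_lt hrr
    by_cases hy : y = r.rev
    · obtain ⟨c, hc0, hc⟩ := hσ.sk
      refine ⟨Hq σ r hr 0 (Pi.zero_apply r) c, Hq_mem hσ.invol r hr 0 _ c ?_, ?_, ?_⟩
      · rw [hc, zero_dotProduct, add_zero]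
      · exact isUni_Hq σ hrr (fun _ _ => rfl) c
      · rw [Hq_coe, Matrix.add_apply, Matrix.one_apply_ne (ne_of_lt hry), zero_add, hN_apply,
          if_pos rfl, if_pos hy, if_pos ⟨rfl, hy⟩, Pi.zero_apply, Pi.zero_apply, map_zero, sub_zero,
          zero_add]
        exact hc0
    · have hv : (Pi.single y 1 : Fin n → K) r = 0 := by
        rw [Pi.single_apply, if_neg (ne_of_lt hry)]
      have hsupp : ∀ z, z ≤ r → (Pi.single y 1 : Fin n → K) z = 0 := by
        intro z hz
        rw [Pi.single_apply, if_neg (ne_of_lt (lt_of_le_of_lt hz hry))]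
      have hfix : σ (Pi.single y 1 ⬝ᵥ sh σ (Pi.single y (1 : K)) : K) =
          (Pi.single y 1 ⬝ᵥ sh σ (Pi.single y (1 : K)) : K) := by
        rw [dot_sh_comm hσ.invol]
      have hfix' : σ (-(Pi.single y 1 ⬝ᵥ sh σ (Pi.single y (1 : K)) : K)) =
          -(Pi.single y 1 ⬝ᵥ sh σ (Pi.single y (1 : K)) : K) := by
        rw [map_neg, hfix]
      obtain ⟨b, hb⟩ := hσ.tr _ hfix'
      refine ⟨Hq σ r hr (Pi.single y 1) hv b, Hq_mem hσ.invol r hr _ hv b ?_, ?_, ?_⟩
      · rw [hb, neg_add_cancel]
      · exact isUni_Hq σ hrr hsupp b
      · rw [Hq_coe, Matrix.add_apply, Matrix.one_apply_ne (ne_of_lt hry), zero_add, hN_apply,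
          if_pos rfl, if_neg hy, if_neg (fun h => hy h.2), sub_zero, add_zero, Pi.single_apply,
          if_pos rfl]
        exact one_ne_zero
  by_cases hjj : j < j.rev
  · have h1 : j < j1 := by rw [Fin.lt_def]; omega
    have h2 : j1 ≤ j.rev := by
      rw [Fin.le_def]
      have : j.val < j.rev.val := hjj
      omega
    exact E1 j j1 h1 h2
  · -- rows in the second half, by passing to the inverse
    have hjj' : j.rev.val ≤ j.val := not_lt.mp hjj
    have hv1 := Fin.val_rev j
    have hv2 := Fin.val_rev j1
    have h1 : j1.rev < j.rev := by rw [Fin.lt_def]; omega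
    have h2 : j.rev ≤ j1.rev.rev := by
      rw [Fin.rev_rev, Fin.le_def]
      omega
    obtain ⟨t, ht1, ht2, ht3⟩ := E1 j1.rev j.rev h1 h2
    refine ⟨t⁻¹, (UJ σ n).inv_mem ht1, (unitri n K).inv_mem ht2, ?_⟩
    rw [UJ_inv_coe ht1, adj_apply]
    intro h
    exact ht3 ((map_eq_zero σ).mp h)

/-- an element of the group normalizing the unitriangular subgroup is upper triangular -/
theorem upper_of_normalizes_UJ {σ : K →+* K} (hσ : InvOK σ) (g : SpecialLinearGroup (Fin n) K)
    (h : ∀ u ∈ UJ σ n, u ∈ unitri n K → g⁻¹ * u * g ∈ unitri n K) :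
    ∀ a b : Fin n, b < a → (g : Matrix (Fin n) (Fin n) K) a b = 0 := by
  apply upper_of_conj'
  intro j j1 hj
  obtain ⟨t, ht1, ht2, ht3⟩ := exists_upper_entry hσ j j1 hj
  refine ⟨t, ((g⁻¹ * t * g : SpecialLinearGroup (Fin n) K) : Matrix (Fin n) (Fin n) K), ?_,
    ht2, h t ht1 ht2, ht3⟩
  rw [← Matrix.SpecialLinearGroup.coe_mul, ← Matrix.SpecialLinearGroup.coe_mul, mul_assoc,
    mul_inv_cancel_left]

end finite

/-- the diagonal entries of an upper triangular element of the group -/
theorem diag_of_upper {σ : K →+* K} {g : SpecialLinearGroup (Fin n) K} (hg : g ∈ UJ σ n)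
    (hup : ∀ a b : Fin n, b < a → (g : Matrix (Fin n) (Fin n) K) a b = 0) (x : Fin n) :
    (g : Matrix (Fin n) (Fin n) K) x x * σ ((g : Matrix (Fin n) (Fin n) K) x.rev x.rev) = 1 := by
  have h1 := congrFun (congrFun (mem_UJ.1 hg) x) x
  rw [Matrix.one_apply_eq, Matrix.mul_apply, Finset.sum_eq_single x] at h1
  · rw [adj_apply] at h1
    exact h1
  · intro y _ hy
    rw [adj_apply]
    rcases lt_or_gt_of_ne hy with h2 | h2
    · rw [hup x y h2, zero_mul]
    · rw [hup x.rev y.rev (Fin.rev_lt_rev.mpr h2), map_zero, mul_zero]
  · intro h'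
    exact absurd (Finset.mem_univ x) h'

/-- the coroot-like diagonal vectors -/
def corf (σ : K →+* K) (j j1 : Fin n) (s : K) : Fin n → K := fun x =>
  (if x = j then s else 1) * (if x = j1 then s⁻¹ else 1) * (if x = j1.rev then σ s else 1) *
    (if x = j.rev then (σ s)⁻¹ else 1)

theorem prod_corf (σ : K →+* K) (j j1 : Fin n) {s : K} (hs : s ≠ 0) :
    ∏ x, corf σ j j1 s x = 1 := by
  have hs' : σ s ≠ 0 := fun h => hs ((map_eq_zero σ).mp h)
  unfold corf
  rw [Finset.prod_mul_distrib, Finset.prod_mul_distrib, Finset.prod_mul_distrib,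
    Finset.prod_ite_eq', Finset.prod_ite_eq', Finset.prod_ite_eq', Finset.prod_ite_eq',
    if_pos (Finset.mem_univ _), if_pos (Finset.mem_univ _), if_pos (Finset.mem_univ _),
    if_pos (Finset.mem_univ _), mul_inv_cancel₀ hs, one_mul, mul_inv_cancel₀ hs']

theorem corf_unitary {σ : K →+* K} (hσ : ∀ x, σ (σ x) = x) (j j1 : Fin n) {s : K} (hs : s ≠ 0)
    (x : Fin n) : corf σ j j1 s x * σ (corf σ j j1 s x.rev) = 1 := by
  have hs' : σ s ≠ 0 := fun h => hs ((map_eq_zero σ).mp h)
  have e1 : x.rev = j ↔ x = j.rev := by
    constructor
    · intro h; rw [← h, Fin.rev_rev]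
    · intro h; rw [h, Fin.rev_rev]
  have e2 : x.rev = j1 ↔ x = j1.rev := by
    constructor
    · intro h; rw [← h, Fin.rev_rev]
    · intro h; rw [h, Fin.rev_rev]
  unfold corf
  simp only [e1, e2, Fin.rev_inj, map_mul, apply_ite σ, map_one, map_inv₀, hσ]
  split_ifs <;> field_simp

/-- the coroot-like diagonal elements -/
def cor (σ : K →+* K) (j j1 : Fin n) (s : K) (hs : s ≠ 0) : SpecialLinearGroup (Fin n) K :=
  dg (corf σ j j1 s) (prod_corf σ j j1 hs)

theorem cor_mem {σ : K →+* K} (hσ : ∀ x, σ (σ x) = x) (j j1 : Fin n) (s : K) (hs : s ≠ 0) :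
    cor σ j j1 s hs ∈ UJ σ n :=
  dg_mem _ _ (corf_unitary hσ j j1 hs)

/-- the coroot vectors of the long simple root -/
def corLf (j : Fin n) (s : K) : Fin n → K := fun x =>
  (if x = j then s else 1) * (if x = j.rev then s⁻¹ else 1)

theorem prod_corLf (j : Fin n) {s : K} (hs : s ≠ 0) : ∏ x, corLf j s x = 1 := by
  unfold corLf
  rw [Finset.prod_mul_distrib, Finset.prod_ite_eq', Finset.prod_ite_eq',
    if_pos (Finset.mem_univ _), if_pos (Finset.mem_univ _), mul_inv_cancel₀ hs]

/-- the coroot elements of the long simple root -/
def corL (j : Fin n) (s : K) (hs : s ≠ 0) : SpecialLinearGroup (Fin n) K :=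
  dg (corLf j s) (prod_corLf j hs)

theorem corL_mem {σ : K →+* K} (j : Fin n) (s : K) (hs : s ≠ 0) (hfix : σ s = s) :
    corL j s hs ∈ UJ σ n := by
  apply dg_mem
  intro x
  have e1 : x.rev = j ↔ x = j.rev := by
    constructor
    · intro h; rw [← h, Fin.rev_rev]
    · intro h; rw [h, Fin.rev_rev]
  unfold corLf
  simp only [e1, Fin.rev_inj, map_mul, apply_ite σ, map_one, map_inv₀, hfix]
  split_ifs <;> field_simp

theorem cor_inv_mul (σ : K →+* K) (j j1 : Fin n) (s : K) (hs : s ≠ 0) :
    cor σ j j1 s⁻¹ (inv_ne_zero hs) * cor σ j j1 s hs = 1 := by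
  have hs' : σ s ≠ 0 := fun h => hs ((map_eq_zero σ).mp h)
  apply Subtype.ext
  unfold cor
  rw [dg_mul, dg_coe]
  have : corf σ j j1 s⁻¹ * corf σ j j1 s = 1 := by
    funext x
    rw [Pi.mul_apply, Pi.one_apply]
    unfold corf
    simp only [map_inv₀, inv_inv]
    split_ifs <;> field_simp
  rw [this]
  exact Matrix.diagonal_one

theorem corL_inv_mul (j : Fin n) (s : K) (hs : s ≠ 0) :
    corL j s⁻¹ (inv_ne_zero hs) * corL j s hs = 1 := by
  apply Subtype.ext
  unfold corL
  rw [dg_mul, dg_coe]
  have : corLf j s⁻¹ * corLf j s = 1 := by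
    funext x
    rw [Pi.mul_apply, Pi.one_apply]
    unfold corLf
    simp only [inv_inv]
    split_ifs <;> field_simp
  rw [this]
  exact Matrix.diagonal_one

/-- decomposition of the diagonal elements of the group -/
theorem diag_mem_UJ {σ : K →+* K} (hσ : ∀ x, σ (σ x) = x)
    (H : Subgroup (SpecialLinearGroup (Fin n) K))
    (hD1 : ∀ j j1 : Fin n, j.val + 1 = j1.val → 2 * j.val + 3 ≤ n → ∀ (s : K) (hs : s ≠ 0),
      cor σ j j1 s hs ∈ H)
    (hD2 : ∀ j : Fin n, 2 * j.val + 2 = n → ∀ (s : K) (hs : s ≠ 0), σ s = s → corL j s hs ∈ H)
    (g : SpecialLinearGroup (Fin n) K) (hg : g ∈ UJ σ n) (f : Fin n → K)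
    (hf : (g : Matrix (Fin n) (Fin n) K) = diagonal f) : g ∈ H := by
  have key : ∀ d j : ℕ, j + d = n → ∀ g : SpecialLinearGroup (Fin n) K, g ∈ UJ σ n →
      ∀ f : Fin n → K, (g : Matrix (Fin n) (Fin n) K) = diagonal f →
      (∀ x : Fin n, x.val < j → f x = 1) → g ∈ H := by
    intro d
    induction d with
    | zero =>
      intro j hj g _ f hf h1
      have : g = 1 := by
        apply Subtype.ext
        rw [hf, Matrix.SpecialLinearGroup.coe_one, ← Matrix.diagonal_one]
        congr 1
        funext x
        exact h1 x (by have := x.2; omega)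
      rw [this]
      exact H.one_mem
    | succ d ih =>
      intro j hj g hg f hf h1
      have hjn : j < n := by omega
      let jj : Fin n := ⟨j, hjn⟩
      have hup : ∀ a b : Fin n, b < a → (g : Matrix (Fin n) (Fin n) K) a b = 0 := by
        intro a b hba
        rw [hf, Matrix.diagonal_apply_ne _ (ne_of_gt hba)]
      have hu : ∀ x, f x * σ (f x.rev) = 1 := by
        intro x
        have := diag_of_upper hg hup x
        rw [hf, Matrix.diagonal_apply_eq, Matrix.diagonal_apply_eq] at this
        exact this
      have hprod : ∏ x, f x = 1 := by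
        have := g.2
        rw [hf, Matrix.det_diagonal] at this
        exact this
      have hne : ∀ x, f x ≠ 0 := by
        intro x h0
        have := hu x
        rw [h0, zero_mul] at this
        exact zero_ne_one this
      -- entries whose mirror is among the first `j` are one
      have h2 : ∀ x : Fin n, x.rev.val < j → f x = 1 := by
        intro x hx
        have := hu x
        rw [h1 x.rev hx, map_one, mul_one] at this
        exact this
      have hrev : ∀ x : Fin n, x.rev.val = n - (x.val + 1) := fun x => Fin.val_rev x
      by_cases hc : n ≤ 2 * j + 1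
      · -- the remaining entry is one
        have hjj : f jj = 1 := by
          by_cases hc' : n = 2 * j + 1
          · rw [Finset.prod_eq_single jj] at hprod
            · exact hprod
            · intro x _ hx
              have hx' : x.val ≠ j := fun h => hx (Fin.ext h)
              rcases lt_or_gt_of_ne hx' with h3 | h3
              · exact h1 x h3
              · apply h2
                rw [hrev]
                omega
            · intro h'
              exact absurd (Finset.mem_univ jj) h'
          · apply h2
            rw [hrev]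
            show n - (j + 1) < j
            omega
        apply ih (j + 1) (by omega) g hg f hf
        intro x hx
        by_cases hx' : x.val = j
        · have : x = jj := Fin.ext hx'
          rw [this]
          exact hjj
        · exact h1 x (by omega)
      · by_cases hb : 2 * j + 2 = n
        · -- the long simple root
          have hj1n : j + 1 < n := by omega
          let j1 : Fin n := ⟨j + 1, hj1n⟩
          have hjr : jj.rev = j1 := by
            apply Fin.ext
            rw [hrev]
            show n - (j + 1) = j + 1
            omega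
          have hjj1 : jj ≠ j1 := by
            intro h
            have := congrArg Fin.val h
            simp [jj, j1] at this
          have hp2 : f jj * f j1 = 1 := by
            rw [Finset.prod_eq_mul_of_mem jj j1 (Finset.mem_univ _) (Finset.mem_univ _) hjj1] at hprod
            · exact hprod
            · intro x _ hx
              have hx1 : x.val ≠ j := fun h => hx.1 (Fin.ext h)
              have hx2 : x.val ≠ j + 1 := fun h => hx.2 (Fin.ext h)
              by_cases h3 : x.val < j
              · exact h1 x h3
              · apply h2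
                rw [hrev]
                omega
          have hfix1 : σ (f j1) = f j1 := by
            have h3 := hu jj
            rw [hjr] at h3
            have h4 : f jj * σ (f j1) = f jj * f j1 := by rw [h3, hp2]
            exact mul_left_cancel₀ (hne jj) h4
          have hfix : σ (f jj) = f jj := by
            have h3 : f jj = (f j1)⁻¹ := eq_inv_of_mul_eq_one_left hp2
            rw [h3, map_inv₀, hfix1]
          have hmem : g * corL jj (f jj)⁻¹ (inv_ne_zero (hne jj)) ∈ H := by
            apply ih (j + 1) (by omega) _
              ((UJ σ n).mul_mem hg (corL_mem jj _ _ (by rw [map_inv₀, hfix])))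
              (f * corLf jj (f jj)⁻¹)
            · rw [Matrix.SpecialLinearGroup.coe_mul, hf]
              unfold corL
              rw [dg_coe, Matrix.diagonal_mul_diagonal]
              rfl
            · intro x hx
              rw [Pi.mul_apply]
              unfold corLf
              by_cases hx' : x.val = j
              · have hxj : x = jj := Fin.ext hx'
                rw [hxj, if_pos rfl, if_neg (by rw [hjr]; exact hjj1), mul_one,
                  mul_inv_cancel₀ (hne jj)]
              · have hxj : x ≠ jj := fun h => hx' (by rw [h])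
                have hxr : x ≠ jj.rev := by
                  rw [hjr]
                  intro h
                  have := congrArg Fin.val h
                  simp [j1] at this
                  omega
                rw [if_neg hxj, if_neg hxr, mul_one, mul_one]
                exact h1 x (by omega)
          have := H.mul_mem hmem (hD2 jj hb (f jj) (hne jj) hfix)
          rwa [mul_assoc, corL_inv_mul, mul_one] at this
        · -- the other simple roots
          have hj1n : j + 1 < n := by omega
          let j1 : Fin n := ⟨j + 1, hj1n⟩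
          have hj3 : 2 * j + 3 ≤ n := by omega
          have hmem : g * cor σ jj j1 (f jj)⁻¹ (inv_ne_zero (hne jj)) ∈ H := by
            apply ih (j + 1) (by omega) _
              ((UJ σ n).mul_mem hg (cor_mem hσ jj j1 _ _))
              (f * corf σ jj j1 (f jj)⁻¹)
            · rw [Matrix.SpecialLinearGroup.coe_mul, hf]
              unfold cor
              rw [dg_coe, Matrix.diagonal_mul_diagonal]
              rfl
            · intro x hx
              rw [Pi.mul_apply]
              unfold corf
              have hxj1 : x ≠ j1 := by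
                intro h
                have := congrArg Fin.val h
                simp [j1] at this
                omega
              have hxr1 : x ≠ j1.rev := by
                intro h
                have := congrArg Fin.val h
                rw [hrev] at this
                simp [j1] at this
                omega
              have hxr : x ≠ jj.rev := by
                intro h
                have := congrArg Fin.val h
                rw [hrev] at this
                simp [jj] at this
                omega
              rw [if_neg hxj1, if_neg hxr1, if_neg hxr, mul_one, mul_one, mul_one]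
              by_cases hx' : x.val = j
              · have hxj : x = jj := Fin.ext hx'
                rw [hxj, if_pos rfl, mul_inv_cancel₀ (hne jj)]
              · have hxj : x ≠ jj := fun h => hx' (by rw [h])
                rw [if_neg hxj, mul_one]
                exact h1 x (by omega)
          have := H.mul_mem hmem (hD1 jj j1 rfl hj3 (f jj) (hne jj))
          rwa [mul_assoc, cor_inv_mul, mul_one] at this
  exact key n 0 (by omega) g hg f hf (fun x hx => absurd hx (by omega))

/-- decomposition of the upper triangular elements of the group -/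
theorem upper_mem_UJ [Finite K] {σ : K →+* K} (hσ : ∀ x, σ (σ x) = x)
    (H : Subgroup (SpecialLinearGroup (Fin n) K))
    (hU : ∀ u, u ∈ UJ σ n → u ∈ unitri n K → u ∈ H)
    (hD1 : ∀ j j1 : Fin n, j.val + 1 = j1.val → 2 * j.val + 3 ≤ n → ∀ (s : K) (hs : s ≠ 0),
      cor σ j j1 s hs ∈ H)
    (hD2 : ∀ j : Fin n, 2 * j.val + 2 = n → ∀ (s : K) (hs : s ≠ 0), σ s = s → corL j s hs ∈ H)
    (g : SpecialLinearGroup (Fin n) K) (hg : g ∈ UJ σ n)
    (hup : ∀ a b : Fin n, b < a → (g : Matrix (Fin n) (Fin n) K) a b = 0) : g ∈ H := by
  have hprod : ∏ x, (g : Matrix (Fin n) (Fin n) K) x x = 1 := by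
    have h : (g : Matrix (Fin n) (Fin n) K).IsUpperTriangular := by
      intro i j hji
      exact hup i j hji
    rw [← Matrix.det_of_isUpperTriangular h]
    exact g.2
  have hdmem : dg (fun x => (g : Matrix (Fin n) (Fin n) K) x x) hprod ∈ UJ σ n :=
    dg_mem _ _ (fun x => diag_of_upper hg hup x)
  have hd : dg (fun x => (g : Matrix (Fin n) (Fin n) K) x x) hprod ∈ H :=
    diag_mem_UJ hσ H hD1 hD2 _ hdmem _ rfl
  have hne : ∀ x, (g : Matrix (Fin n) (Fin n) K) x x ≠ 0 := by
    intro x h0
    have := diag_of_upper hg hup x
    rw [h0, zero_mul] at this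
    exact zero_ne_one this
  obtain ⟨u, hu⟩ : ∃ u, u = (dg (fun x => (g : Matrix (Fin n) (Fin n) K) x x) hprod)⁻¹ * g :=
    ⟨_, rfl⟩
  have e : dg (fun x => (g : Matrix (Fin n) (Fin n) K) x x) hprod * u = g := by
    rw [hu, mul_inv_cancel_left]
  have hent : ∀ x y, (g : Matrix (Fin n) (Fin n) K) x x * (u : Matrix (Fin n) (Fin n) K) x y =
      (g : Matrix (Fin n) (Fin n) K) x y := by
    intro x y
    have := congrArg (fun M : SpecialLinearGroup (Fin n) K => (M : Matrix (Fin n) (Fin n) K) x y) e
    beta_reduce at this
    rw [Matrix.SpecialLinearGroup.coe_mul, dg_coe, Matrix.diagonal_mul] at this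
    exact this
  have hu1 : u ∈ UJ σ n := by
    rw [hu]
    exact (UJ σ n).mul_mem ((UJ σ n).inv_mem hdmem) hg
  have hu2 : u ∈ unitri n K := by
    constructor
    · intro x y hyx
      have := hent x y
      rw [hup x y hyx] at this
      exact (mul_eq_zero.mp this).resolve_left (hne x)
    · intro x
      have := hent x x
      exact mul_left_cancel₀ (hne x) (by rw [this, mul_one])
  rw [← e]
  exact H.mul_mem hd (hU u hu1 hu2)

end Cfsg.Agent.Lib.Helper16.FusSU
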