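import Mathlib
import Cfsg.Agent.Lib.Helper16.FusSUB

set_option autoImplicit false

/-! The unipotent radicals of the minimal parabolic subgroups of `UJ` containing the standard Borel
subgroup, by means of level functions. -/

namespace Cfsg.Agent.Lib.Helper16.FusSU

open Matrix

open Cfsg.Agent.Lib.Helper18.PSLnAut (IsUni unitri mem_unitri)

variable {K : Type*} [Field K] {n : ℕ}

/-- conjugating a block unitriangular matrix by a block triangular one -/
theorem block_conj (lv : Fin n → ℕ) {g g' v : Matrix (Fin n) (Fin n) K}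
    (hg : ∀ x y, lv y < lv x → g x y = 0) (hg' : ∀ x y, lv y < lv x → g' x y = 0)
    (hgg : g * g' = 1)
    (hv : ∀ x y, lv y ≤ lv x → v x y = (1 : Matrix (Fin n) (Fin n) K) x y) :
    ∀ x y, lv y ≤ lv x → (g * v * g') x y = (1 : Matrix (Fin n) (Fin n) K) x y := by
  intro x y hxy
  have e : g * v * g' = g * (v - 1) * g' + 1 := by
    rw [Matrix.mul_sub, Matrix.sub_mul, Matrix.mul_one, hgg]
    abel
  rw [e, Matrix.add_apply, add_eq_right, Matrix.mul_apply]
  apply Finset.sum_eq_zero
  intro b _
  rw [Matrix.mul_apply, Finset.sum_mul]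
  apply Finset.sum_eq_zero
  intro a _
  by_cases h1 : lv a < lv x
  · rw [hg x a h1, zero_mul, zero_mul]
  · by_cases h2 : lv b ≤ lv a
    · rw [Matrix.sub_apply, hv a b h2, sub_self, mul_zero, zero_mul]
    · by_cases h3 : lv y < lv b
      · rw [hg' b y h3, mul_zero]
      · omega

/-- products of block unitriangular matrices -/
theorem block_mul (lv : Fin n → ℕ) {v w : Matrix (Fin n) (Fin n) K}
    (hv : ∀ x y, lv y ≤ lv x → v x y = (1 : Matrix (Fin n) (Fin n) K) x y)
    (hw : ∀ x y, lv y ≤ lv x → w x y = (1 : Matrix (Fin n) (Fin n) K) x y) :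
    ∀ x y, lv y ≤ lv x → (v * w) x y = (1 : Matrix (Fin n) (Fin n) K) x y := by
  intro x y hxy
  have e : v * w = (v - 1) * (w - 1) + (v - 1) + (w - 1) + 1 := by
    rw [Matrix.sub_mul, Matrix.mul_sub, Matrix.mul_sub, Matrix.mul_one, Matrix.one_mul,
      Matrix.one_mul]
    abel
  rw [e, Matrix.add_apply, Matrix.add_apply, Matrix.add_apply, Matrix.sub_apply, Matrix.sub_apply,
    hv x y hxy, hw x y hxy, sub_self, add_zero, add_zero, add_eq_right, Matrix.mul_apply]
  apply Finset.sum_eq_zero
  intro a _
  by_cases h1 : lv a ≤ lv x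
  · rw [Matrix.sub_apply, hv x a h1, sub_self, zero_mul]
  · by_cases h2 : lv y ≤ lv a
    · rw [Matrix.sub_apply (w), hw a y h2, sub_self, mul_zero]
    · omega

/-- the level function of the simple root `(j, j+1)` -/
def lvN (n j : ℕ) (i : Fin n) : ℕ :=
  i.val + (if i.val ≤ j then 1 else 0) + (if i.val + j + 2 ≤ n ∧ 2 * j + 2 < n then 1 else 0)

theorem lvN_mono (n j : ℕ) {x y : Fin n} (h : x ≤ y) : lvN n j x ≤ lvN n j y := by
  have h' : x.val ≤ y.val := h
  unfold lvN
  split_ifs <;> omega

theorem lvN_rev_iff (n j : ℕ) (hj : 2 * j + 2 ≤ n) (x y : Fin n) :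
    lvN n j y.rev ≤ lvN n j x.rev ↔ lvN n j x ≤ lvN n j y := by
  have h1 := Fin.val_rev x
  have h2 := Fin.val_rev y
  have h3 := x.2
  have h4 := y.2
  unfold lvN
  rw [h1, h2]
  split_ifs <;> omega

/-- the unipotent radical of the minimal parabolic subgroup of the simple root `(j, j+1)` -/
def QJ (σ : K →+* K) (n j : ℕ) (hj : 2 * j + 2 ≤ n) : Subgroup (SpecialLinearGroup (Fin n) K) where
  carrier := {g | g ∈ UJ σ n ∧ ∀ x y, lvN n j y ≤ lvN n j x →
    (g : Matrix (Fin n) (Fin n) K) x y = (1 : Matrix (Fin n) (Fin n) K) x y}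
  one_mem' := ⟨(UJ σ n).one_mem, fun _ _ _ => rfl⟩
  mul_mem' := by
    rintro a b ⟨ha1, ha2⟩ ⟨hb1, hb2⟩
    refine ⟨(UJ σ n).mul_mem ha1 hb1, ?_⟩
    rw [Matrix.SpecialLinearGroup.coe_mul]
    exact block_mul _ ha2 hb2
  inv_mem' := by
    rintro a ⟨ha1, ha2⟩
    refine ⟨(UJ σ n).inv_mem ha1, ?_⟩
    rw [UJ_inv_coe ha1]
    intro x y hxy
    rw [adj_apply, ha2 _ _ ((lvN_rev_iff n j hj y x).mpr hxy), Matrix.one_apply, Matrix.one_apply]
    by_cases h : x = y
    · subst h
      rw [if_pos rfl, if_pos rfl, map_one]
    · rw [if_neg h, if_neg (fun h' => h (Fin.rev_injective h'.symm)), map_zero]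

theorem mem_QJ {σ : K →+* K} {j : ℕ} {hj : 2 * j + 2 ≤ n} {g : SpecialLinearGroup (Fin n) K} :
    g ∈ QJ σ n j hj ↔ g ∈ UJ σ n ∧ ∀ x y, lvN n j y ≤ lvN n j x →
      (g : Matrix (Fin n) (Fin n) K) x y = (1 : Matrix (Fin n) (Fin n) K) x y := Iff.rfl

theorem QJ_le_UJ (σ : K →+* K) (j : ℕ) (hj : 2 * j + 2 ≤ n) : QJ σ n j hj ≤ UJ σ n :=
  fun _ h => h.1

theorem QJ_le_unitri [Finite K] (σ : K →+* K) (j : ℕ) (hj : 2 * j + 2 ≤ n) :
    QJ σ n j hj ≤ unitri n K := by
  intro g hg
  constructor
  · intro x y hyx
    rw [hg.2 x y (lvN_mono n j (le_of_lt hyx)), Matrix.one_apply_ne (ne_of_gt hyx)]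
  · intro x
    rw [hg.2 x x le_rfl, Matrix.one_apply_eq]

/-- elements of the group which are block triangular, together with their inverses, normalize the
unipotent radical -/
theorem conj_mem_QJ {σ : K →+* K} {j : ℕ} {hj : 2 * j + 2 ≤ n} {g v : SpecialLinearGroup (Fin n) K}
    (hg : g ∈ UJ σ n)
    (hg1 : ∀ x y, lvN n j y < lvN n j x → (g : Matrix (Fin n) (Fin n) K) x y = 0)
    (hg2 : ∀ x y, lvN n j y < lvN n j x → ((g⁻¹ : SpecialLinearGroup (Fin n) K) :
      Matrix (Fin n) (Fin n) K) x y = 0)
    (hv : v ∈ QJ σ n j hj) : g * v * g⁻¹ ∈ QJ σ n j hj := by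
  refine ⟨(UJ σ n).mul_mem ((UJ σ n).mul_mem hg hv.1) ((UJ σ n).inv_mem hg), ?_⟩
  rw [Matrix.SpecialLinearGroup.coe_mul, Matrix.SpecialLinearGroup.coe_mul]
  apply block_conj _ hg1 hg2 _ hv.2
  rw [← Matrix.SpecialLinearGroup.coe_mul, mul_inv_cancel, Matrix.SpecialLinearGroup.coe_one]

/-- unitriangular elements of the group normalize the unipotent radicals -/
theorem unitri_conj_mem_QJ [Finite K] {σ : K →+* K} {j : ℕ} {hj : 2 * j + 2 ≤ n}
    {g v : SpecialLinearGroup (Fin n) K} (hg : g ∈ UJ σ n) (hgu : g ∈ unitri n K)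
    (hv : v ∈ QJ σ n j hj) : g * v * g⁻¹ ∈ QJ σ n j hj := by
  have hup : ∀ u : SpecialLinearGroup (Fin n) K, u ∈ unitri n K → ∀ x y,
      lvN n j y < lvN n j x → (u : Matrix (Fin n) (Fin n) K) x y = 0 := by
    intro u hu x y hxy
    apply hu.1
    by_contra h
    exact absurd (lvN_mono n j (not_lt.mp h)) (not_le.mpr hxy)
  exact conj_mem_QJ hg (hup g hgu) (hup g⁻¹ ((unitri n K).inv_mem hgu)) hv

/-- Heisenberg elements which are block triangular -/
theorem blockUpper_Hq (σ : K →+* K) (lv : Fin n → ℕ) {r : Fin n} (hr : r ≠ r.rev) {v : Fin n → K}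
    (hv : v r = 0) (b : K) (h1 : ∀ y, v y ≠ 0 → lv r ≤ lv y)
    (h2 : ∀ y, v y ≠ 0 → lv y.rev ≤ lv r.rev) (h3 : b ≠ 0 → lv r ≤ lv r.rev) :
    ∀ x y, lv y < lv x →
      ((Hq σ r hr v hv b : SpecialLinearGroup (Fin n) K) : Matrix (Fin n) (Fin n) K) x y = 0 := by
  intro x y hxy
  have hne : x ≠ y := by
    intro h
    rw [h] at hxy
    exact lt_irrefl _ hxy
  rw [Hq_coe, Matrix.add_apply, Matrix.one_apply_ne hne, zero_add, hN_apply]
  have e1 : (if x = r then v y else 0) = 0 := by
    split_ifs with h
    · by_contra h'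
      have := h1 y h'
      rw [h] at hxy
      omega
    · rfl
  have e2 : (if y = r.rev then σ (v x.rev) else 0) = 0 := by
    split_ifs with h
    · by_cases h' : v x.rev = 0
      · rw [h', map_zero]
      · have := h2 x.rev h'
        rw [Fin.rev_rev] at this
        rw [h] at hxy
        omega
    · rfl
  have e3 : (if x = r ∧ y = r.rev then b else 0) = 0 := by
    split_ifs with h
    · by_contra h'
      have := h3 h'
      rw [h.1, h.2] at hxy
      omega
    · rfl
  rw [e1, e2, e3, sub_zero, add_zero]

/-- Heisenberg elements which are block unitriangular -/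
theorem blockUni_Hq (σ : K →+* K) (lv : Fin n → ℕ) {r : Fin n} (hr : r ≠ r.rev) {v : Fin n → K}
    (hv : v r = 0) (b : K) (h1 : ∀ y, v y ≠ 0 → lv r < lv y)
    (h2 : ∀ y, v y ≠ 0 → lv y.rev < lv r.rev) (h3 : b ≠ 0 → lv r < lv r.rev) :
    ∀ x y, lv y ≤ lv x →
      ((Hq σ r hr v hv b : SpecialLinearGroup (Fin n) K) : Matrix (Fin n) (Fin n) K) x y =
        (1 : Matrix (Fin n) (Fin n) K) x y := by
  intro x y hxy
  rw [Hq_coe, Matrix.add_apply, add_eq_left, hN_apply]
  have e1 : (if x = r then v y else 0) = 0 := by
    split_ifs with h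
    · by_contra h'
      have := h1 y h'
      rw [h] at hxy
      omega
    · rfl
  have e2 : (if y = r.rev then σ (v x.rev) else 0) = 0 := by
    split_ifs with h
    · by_cases h' : v x.rev = 0
      · rw [h', map_zero]
      · have := h2 x.rev h'
        rw [Fin.rev_rev] at this
        rw [h] at hxy
        omega
    · rfl
  have e3 : (if x = r ∧ y = r.rev then b else 0) = 0 := by
    split_ifs with h
    · by_contra h'
      have := h3 h'
      rw [h.1, h.2] at hxy
      omega
    · rfl
  rw [e1, e2, e3, sub_zero, add_zero]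

theorem hN_single (σ : K →+* K) (r y : Fin n) (a b : K) :
    hN σ r (Pi.single y a) b =
      Matrix.single r y a - Matrix.single y.rev r.rev (σ a) + Matrix.single r r.rev b := by
  ext x z
  rw [hN_apply, Matrix.add_apply, Matrix.sub_apply, Matrix.single_apply, Matrix.single_apply,
    Matrix.single_apply, Pi.single_apply, Pi.single_apply]
  have e1 : x.rev = y ↔ y.rev = x := by
    constructor
    · intro h; rw [← h, Fin.rev_rev]
    · intro h; rw [← h, Fin.rev_rev]
  have t1 : (if x = r then (if z = y then a else 0) else 0) = (if r = x ∧ y = z then a else 0) := by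
    by_cases h1 : x = r
    · by_cases h2 : z = y
      · rw [if_pos h1, if_pos h2, if_pos ⟨h1.symm, h2.symm⟩]
      · rw [if_pos h1, if_neg h2, if_neg (fun h => h2 h.2.symm)]
    · rw [if_neg h1, if_neg (fun h => h1 h.1.symm)]
  have t2 : (if z = r.rev then σ (if x.rev = y then a else 0) else 0) =
      (if y.rev = x ∧ r.rev = z then σ a else 0) := by
    by_cases h1 : z = r.rev
    · by_cases h2 : x.rev = y
      · rw [if_pos h1, if_pos h2, if_pos ⟨e1.mp h2, h1.symm⟩]
      · rw [if_pos h1, if_neg h2, if_neg (fun h => h2 (e1.mpr h.1)), map_zero]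
    · rw [if_neg h1, if_neg (fun h => h1 h.2.symm)]
  have t3 : (if x = r ∧ z = r.rev then b else 0) = (if r = x ∧ r.rev = z then b else 0) := by
    by_cases h : x = r ∧ z = r.rev
    · rw [if_pos h, if_pos ⟨h.1.symm, h.2.symm⟩]
    · rw [if_neg h, if_neg (fun h' => h ⟨h'.1.symm, h'.2.symm⟩)]
  rw [t1, t2, t3]

/-- a unitriangular element of the group centralizing the unipotent radical of a minimal
parabolic subgroup belongs to it -/
theorem mem_QJ_of_comm [Finite K] {σ : K →+* K} (hσ : InvOK σ) (hn : 4 ≤ n) (j : ℕ)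
    (hj : 2 * j + 2 ≤ n) {u : SpecialLinearGroup (Fin n) K} (hu : u ∈ UJ σ n)
    (hu' : u ∈ unitri n K) (hc : ∀ w ∈ QJ σ n j hj, u * w = w * u) : u ∈ QJ σ n j hj := by
  refine ⟨hu, fun x y hxy => ?_⟩
  rcases lt_trichotomy x y with h | h | h
  · rw [Matrix.one_apply_ne (ne_of_lt h)]
    have h' : x.val < y.val := h
    have hcl : (x.val = j ∧ y.val = j + 1) ∨ (x.val + j + 2 = n ∧ y.val = x.val + 1 ∧ 2 * j + 2 < n) ∨
        (2 * j + 3 = n ∧ x.val = j ∧ y.val = j + 2) := by
      unfold lvN at hxy
      split_ifs at hxy <;> omega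
    have hrev : ∀ z : Fin n, z.rev.val = n - (z.val + 1) := fun z => Fin.val_rev z
    -- commutation in matrix form
    have hcomm : ∀ (w : SpecialLinearGroup (Fin n) K) (N : Matrix (Fin n) (Fin n) K),
        w ∈ QJ σ n j hj → (w : Matrix (Fin n) (Fin n) K) = 1 + N →
        (u : Matrix (Fin n) (Fin n) K) * N = N * (u : Matrix (Fin n) (Fin n) K) := by
      intro w N hw hN
      have h1 := congrArg (fun M : SpecialLinearGroup (Fin n) K =>
        (M : Matrix (Fin n) (Fin n) K)) (hc w hw)
      beta_reduce at h1
      rw [Matrix.SpecialLinearGroup.coe_mul, Matrix.SpecialLinearGroup.coe_mul, hN, Matrix.mul_add,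
        Matrix.add_mul, Matrix.mul_one, Matrix.one_mul] at h1
      exact add_left_cancel h1
    by_cases hS : 2 * j + 3 < n
    · -- the short simple roots
      let j1 : Fin n := ⟨j + 1, by omega⟩
      have hj1r : j1.rev.val = n - (j + 2) := hrev j1
      have hr : j1 ≠ j1.rev := by
        intro h0
        have := congrArg Fin.val h0
        rw [hj1r] at this
        simp [j1] at this
        omega
      obtain ⟨c, hc0, hcs⟩ := hσ.sk
      have hw : Hq σ j1 hr 0 (Pi.zero_apply j1) c ∈ QJ σ n j hj := by
        refine ⟨Hq_mem hσ.invol j1 hr 0 _ c (by rw [hcs, zero_dotProduct, add_zero]), ?_⟩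
        apply blockUni_Hq
        · intro y hy
          exact absurd rfl hy
        · intro y hy
          exact absurd rfl hy
        · intro _
          have e1 : lvN n j j1 = (j + 1) + (if j + 1 ≤ j then 1 else 0) +
              (if j + 1 + j + 2 ≤ n ∧ 2 * j + 2 < n then 1 else 0) := rfl
          have e2 : lvN n j j1.rev = (n - (j + 2)) + (if n - (j + 2) ≤ j then 1 else 0) +
              (if n - (j + 2) + j + 2 ≤ n ∧ 2 * j + 2 < n then 1 else 0) := by
            unfold lvN
            rw [hj1r]
          rw [e1, e2]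
          clear e1 e2 hxy
          split_ifs <;> omega
      have hN : ((Hq σ j1 hr 0 (Pi.zero_apply j1) c : SpecialLinearGroup (Fin n) K) :
          Matrix (Fin n) (Fin n) K) = 1 + Matrix.single j1 j1.rev c := by
        rw [Hq_coe, ← Pi.single_zero j1, hN_single, map_zero, Matrix.single_zero,
          Matrix.single_zero, sub_zero, zero_add]
      have e := hcomm _ _ hw hN
      rcases hcl with ⟨h1, h2⟩ | ⟨h1, h2, -⟩ | ⟨h1, -, -⟩
      · have hy : y = j1 := Fin.ext h2
        have hxne : x ≠ j1 := by
          intro h0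
          rw [h0] at h1
          simp [j1] at h1
        have e' := congrFun (congrFun e x) j1.rev
        rw [Matrix.mul_single_apply_same, Matrix.single_mul_apply_of_ne _ _ _ _ _ hxne] at e'
        rw [hy]
        exact (mul_eq_zero.mp e').resolve_right hc0
      · have hx : x = j1.rev := by
          apply Fin.ext
          rw [hj1r]
          omega
        have hyne : y ≠ j1.rev := by
          intro h0
          rw [← hx] at h0
          rw [h0] at h2
          omega
        have e' := congrFun (congrFun e j1) y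
        rw [Matrix.single_mul_apply_same, Matrix.mul_single_apply_of_ne _ _ _ _ _ hyne] at e'
        rw [hx]
        exact (mul_eq_zero.mp e'.symm).resolve_left hc0
      · omega
    · -- the last simple root
      have hj0 : 1 ≤ j := by omega
      let i : Fin n := ⟨j - 1, by omega⟩
      let jj : Fin n := ⟨j, by omega⟩
      have hir : i.rev.val = n - j := by
        rw [hrev]
        show n - (j - 1 + 1) = n - j
        omega
      have hjr : jj.rev.val = n - (j + 1) := hrev jj
      have hr : i ≠ i.rev := by
        intro h0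
        have := congrArg Fin.val h0
        rw [hir] at this
        simp [i] at this
        omega
      have hij : i ≠ jj := by
        intro h0
        have := congrArg Fin.val h0
        simp [i, jj] at this
        omega
      have hv : (Pi.single jj 1 : Fin n → K) i = 0 := by
        rw [Pi.single_apply, if_neg hij]
      have hjjr : jj ≠ jj.rev := by
        intro h0
        have := congrArg Fin.val h0
        rw [hjr] at this
        simp [jj] at this
        omega
      have hdot : (Pi.single jj 1 : Fin n → K) ⬝ᵥ sh σ (Pi.single jj 1) = 0 := by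
        rw [sh_single, single_dotProduct, Pi.single_apply, if_neg hjjr, mul_zero]
      have hw : Hq σ i hr (Pi.single jj 1) hv 0 ∈ QJ σ n j hj := by
        refine ⟨Hq_mem hσ.invol i hr _ hv 0 (by rw [map_zero, hdot]; ring), ?_⟩
        apply blockUni_Hq
        · intro y hy
          have hyj : y = jj := by
            by_contra h0
            rw [Pi.single_apply, if_neg h0] at hy
            exact hy rfl
          rw [hyj]
          have e1 : lvN n j i = (j - 1) + (if j - 1 ≤ j then 1 else 0) +
              (if j - 1 + j + 2 ≤ n ∧ 2 * j + 2 < n then 1 else 0) := rfl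
          have e2 : lvN n j jj = j + (if j ≤ j then 1 else 0) +
              (if j + j + 2 ≤ n ∧ 2 * j + 2 < n then 1 else 0) := rfl
          rw [e1, e2]
          clear e1 e2 hxy
          split_ifs <;> omega
        · intro y hy
          have hyj : y = jj := by
            by_contra h0
            rw [Pi.single_apply, if_neg h0] at hy
            exact hy rfl
          rw [hyj]
          have e1 : lvN n j i.rev = (n - j) + (if n - j ≤ j then 1 else 0) +
              (if n - j + j + 2 ≤ n ∧ 2 * j + 2 < n then 1 else 0) := by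
            unfold lvN
            rw [hir]
          have e2 : lvN n j jj.rev = (n - (j + 1)) + (if n - (j + 1) ≤ j then 1 else 0) +
              (if n - (j + 1) + j + 2 ≤ n ∧ 2 * j + 2 < n then 1 else 0) := by
            unfold lvN
            rw [hjr]
          rw [e1, e2]
          clear e1 e2 hxy
          split_ifs <;> omega
        · intro h0
          exact absurd rfl h0
      have hN : ((Hq σ i hr (Pi.single jj 1) hv 0 : SpecialLinearGroup (Fin n) K) :
          Matrix (Fin n) (Fin n) K) =
          1 + (Matrix.single i jj 1 - Matrix.single jj.rev i.rev 1) := by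
        rw [Hq_coe, hN_single, map_one, Matrix.single_zero, add_zero]
      have e := hcomm _ _ hw hN
      -- first family of entries
      have F1 : ∀ y : Fin n, j < y.val → y.val ≤ n - (j + 1) →
          (u : Matrix (Fin n) (Fin n) K) jj y = 0 := by
        intro y hy1 hy2
        have hyj : y ≠ jj := by
          intro h0
          rw [h0] at hy1
          simp [jj] at hy1
        have hyi : y ≠ i.rev := by
          intro h0
          rw [h0, hir] at hy2
          omega
        have hijr : i ≠ jj.rev := by
          intro h0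
          have := congrArg Fin.val h0
          rw [hjr] at this
          simp [i] at this
          omega
        have e' := congrFun (congrFun e i) y
        rw [Matrix.mul_sub, Matrix.sub_mul, Matrix.sub_apply, Matrix.sub_apply,
          Matrix.mul_single_apply_of_ne _ _ _ _ _ hyj, Matrix.mul_single_apply_of_ne _ _ _ _ _ hyi,
          Matrix.single_mul_apply_same, Matrix.single_mul_apply_of_ne _ _ _ _ _ hijr, sub_zero,
          sub_zero, one_mul] at e'
        exact e'.symm
      -- second family of entries
      have F2 : ∀ x : Fin n, j ≤ x.val → x.val < n - (j + 1) →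
          (u : Matrix (Fin n) (Fin n) K) x jj.rev = 0 := by
        intro x hx1 hx2
        have hxi : x ≠ i := by
          intro h0
          rw [h0] at hx1
          simp [i] at hx1
          omega
        have hxj : x ≠ jj.rev := by
          intro h0
          rw [h0, hjr] at hx2
          omega
        have hirj : i.rev ≠ jj := by
          intro h0
          have := congrArg Fin.val h0
          rw [hir] at this
          simp [jj] at this
          omega
        have e' := congrFun (congrFun e x) i.rev
        rw [Matrix.mul_sub, Matrix.sub_mul, Matrix.sub_apply, Matrix.sub_apply,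
          Matrix.mul_single_apply_of_ne _ _ _ _ _ hirj, Matrix.mul_single_apply_same,
          Matrix.single_mul_apply_of_ne _ _ _ _ _ hxi, Matrix.single_mul_apply_of_ne _ _ _ _ _ hxj,
          sub_zero, zero_sub, mul_one, neg_eq_zero] at e'
        exact e'
      rcases hcl with ⟨h1, h2⟩ | ⟨h1, h2, h3⟩ | ⟨h1, h2, h3⟩
      · have hx : x = jj := Fin.ext h1
        rw [hx]
        exact F1 y (by omega) (by omega)
      · have hy : y = jj.rev := by
          apply Fin.ext
          rw [hjr]
          omega
        rw [hy]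
        exact F2 x (by omega) (by omega)
      · have hx : x = jj := Fin.ext h2
        rw [hx]
        exact F1 y (by omega) (by omega)
  · subst h
    rw [hu'.2, Matrix.one_apply_eq]
  · rw [hu'.1 x y h, Matrix.one_apply_ne (ne_of_gt h)]

end Cfsg.Agent.Lib.Helper16.FusSU
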