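import Mathlib
import Cfsg.Agent.Lib.Helper16.FusSUC

set_option autoImplicit false

/-! Embedding of small matrices into big ones along an injection of the index sets, and the coroot
elements of the simple roots of `UJ` as products of root elements. -/

namespace Cfsg.Agent.Lib.Helper16.FusSU

open Matrix

open Cfsg.Agent.Lib.Helper18.PSLnAut (IsUni unitri mem_unitri)

variable {K : Type*} [Field K] {n r : ℕ}

/-- the matrix of an injection of index sets -/
def Pm (K : Type*) [Field K] (ι : Fin r → Fin n) : Matrix (Fin n) (Fin r) K :=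
  Matrix.of fun x α => if x = ι α then 1 else 0

/-- the embedding of small matrices -/
def emb (ι : Fin r → Fin n) (M : Matrix (Fin r) (Fin r) K) : Matrix (Fin n) (Fin n) K :=
  1 + Pm K ι * (M - 1) * (Pm K ι)ᵀ

theorem Pm_apply (ι : Fin r → Fin n) (x : Fin n) (α : Fin r) :
    Pm K ι x α = if x = ι α then 1 else 0 := rfl

theorem Pm_transpose_mul {ι : Fin r → Fin n} (hι : Function.Injective ι) :
    (Pm K ι)ᵀ * Pm K ι = 1 := by
  ext α β
  rw [Matrix.mul_apply, Matrix.one_apply, Finset.sum_eq_single (ι α)]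
  · rw [Matrix.transpose_apply, Pm_apply, Pm_apply, if_pos rfl, one_mul]
    by_cases h : α = β
    · rw [if_pos h, if_pos (by rw [h])]
    · rw [if_neg h, if_neg (fun h' => h (hι h'))]
  · intro x _ hx
    rw [Matrix.transpose_apply, Pm_apply, if_neg hx, zero_mul]
  · intro h
    exact absurd (Finset.mem_univ _) h

theorem emb_one (ι : Fin r → Fin n) : emb ι (1 : Matrix (Fin r) (Fin r) K) = 1 := by
  unfold emb
  rw [sub_self, Matrix.mul_zero, Matrix.zero_mul, add_zero]

theorem emb_mul {ι : Fin r → Fin n} (hι : Function.Injective ι) (M M' : Matrix (Fin r) (Fin r) K) :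
    emb ι (M * M') = emb ι M * emb ι M' := by
  unfold emb
  rw [Matrix.add_mul, Matrix.one_mul, Matrix.mul_add, Matrix.mul_one]
  have h1 : Pm K ι * (M - 1) * (Pm K ι)ᵀ * (Pm K ι * (M' - 1) * (Pm K ι)ᵀ) =
      Pm K ι * ((M - 1) * (M' - 1)) * (Pm K ι)ᵀ := by
    rw [Matrix.mul_assoc (Pm K ι * (M - 1)), ← Matrix.mul_assoc ((Pm K ι)ᵀ), ← Matrix.mul_assoc ((Pm K ι)ᵀ),
      Pm_transpose_mul hι, Matrix.one_mul, ← Matrix.mul_assoc, Matrix.mul_assoc (Pm K ι)]
  rw [h1]
  have h2 : M * M' - 1 = (M - 1) + (M' - 1) + (M - 1) * (M' - 1) := by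
    rw [Matrix.sub_mul, Matrix.mul_sub, Matrix.mul_sub, Matrix.mul_one, Matrix.one_mul,
      Matrix.one_mul]
    abel
  rw [h2, Matrix.mul_add, Matrix.mul_add, Matrix.add_mul, Matrix.add_mul]
  abel

theorem Pm_single (ι : Fin r → Fin n) (α β : Fin r) (c : K) :
    Pm K ι * Matrix.single α β c * (Pm K ι)ᵀ = Matrix.single (ι α) (ι β) c := by
  ext x y
  rw [Matrix.mul_apply, Finset.sum_eq_single β]
  · rw [Matrix.mul_single_apply_same, Matrix.transpose_apply, Pm_apply, Pm_apply,
      Matrix.single_apply]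
    by_cases h1 : x = ι α <;> by_cases h2 : y = ι β
    · rw [if_pos h1, if_pos h2, if_pos ⟨h1.symm, h2.symm⟩, one_mul, mul_one]
    · rw [if_neg h2, mul_zero, if_neg (fun h => h2 h.2.symm)]
    · rw [if_neg h1, zero_mul, zero_mul, if_neg (fun h => h1 h.1.symm)]
    · rw [if_neg h1, zero_mul, zero_mul, if_neg (fun h => h1 h.1.symm)]
  · intro b _ hb
    rw [Matrix.mul_single_apply_of_ne _ _ _ _ _ hb, zero_mul]
  · intro h
    exact absurd (Finset.mem_univ _) h

theorem emb_one_add (ι : Fin r → Fin n) (N : Matrix (Fin r) (Fin r) K) :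
    emb ι (1 + N) = 1 + Pm K ι * N * (Pm K ι)ᵀ := by
  unfold emb
  rw [add_sub_cancel_left]

theorem emb_apply_mem {ι : Fin r → Fin n} (hι : Function.Injective ι)
    (M : Matrix (Fin r) (Fin r) K) (α β : Fin r) : emb ι M (ι α) (ι β) = M α β := by
  unfold emb
  rw [Matrix.add_apply, Matrix.mul_apply, Finset.sum_eq_single β]
  · rw [Matrix.transpose_apply, Pm_apply, if_pos rfl, mul_one, Matrix.mul_apply,
      Finset.sum_eq_single α]
    · rw [Pm_apply, if_pos rfl, one_mul, Matrix.sub_apply, Matrix.one_apply, Matrix.one_apply]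
      by_cases h : α = β
      · rw [if_pos h, if_pos (by rw [h])]
        ring
      · rw [if_neg h, if_neg (fun h' => h (hι h'))]
        ring
    · intro a _ ha
      rw [Pm_apply, if_neg (fun h => ha (hι h).symm), zero_mul]
    · intro h
      exact absurd (Finset.mem_univ _) h
  · intro b _ hb
    rw [Matrix.transpose_apply, Pm_apply, if_neg (fun h => hb (hι h).symm), mul_zero]
  · intro h
    exact absurd (Finset.mem_univ _) h

theorem emb_apply_of_not_left (ι : Fin r → Fin n) (M : Matrix (Fin r) (Fin r) K) {x : Fin n}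
    (hx : ∀ α, x ≠ ι α) (y : Fin n) : emb ι M x y = (1 : Matrix (Fin n) (Fin n) K) x y := by
  unfold emb
  rw [Matrix.add_apply, add_eq_left, Matrix.mul_apply]
  apply Finset.sum_eq_zero
  intro b _
  rw [Matrix.mul_apply, Finset.sum_mul]
  apply Finset.sum_eq_zero
  intro a _
  rw [Pm_apply, if_neg (hx a), zero_mul, zero_mul]

theorem emb_apply_of_not_right (ι : Fin r → Fin n) (M : Matrix (Fin r) (Fin r) K) (x : Fin n)
    {y : Fin n} (hy : ∀ α, y ≠ ι α) : emb ι M x y = (1 : Matrix (Fin n) (Fin n) K) x y := by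
  unfold emb
  rw [Matrix.add_apply, add_eq_left, Matrix.mul_apply]
  apply Finset.sum_eq_zero
  intro b _
  rw [Matrix.transpose_apply, Pm_apply, if_neg (hy b), mul_zero]

theorem diagonal_eq_emb {ι : Fin r → Fin n} (hι : Function.Injective ι) (f : Fin n → K)
    (d : Fin r → K) (h1 : ∀ α, f (ι α) = d α) (h2 : ∀ x, (∀ α, x ≠ ι α) → f x = 1) :
    diagonal f = emb ι (diagonal d) := by
  ext x y
  by_cases hx : ∃ α, x = ι α
  · obtain ⟨α, rfl⟩ := hx
    by_cases hy : ∃ β, y = ι β
    · obtain ⟨β, rfl⟩ := hy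
      rw [emb_apply_mem hι, Matrix.diagonal_apply, Matrix.diagonal_apply]
      by_cases h : α = β
      · rw [if_pos h, if_pos (by rw [h]), h1]
      · rw [if_neg h, if_neg (fun h' => h (hι h'))]
    · have hy' : ∀ β, y ≠ ι β := fun β h => hy ⟨β, h⟩
      rw [emb_apply_of_not_right _ _ _ hy', Matrix.diagonal_apply_ne _ (fun h => hy' α h.symm),
        Matrix.one_apply_ne (fun h => hy' α h.symm)]
  · have hx' : ∀ α, x ≠ ι α := fun α h => hx ⟨α, h⟩
    rw [emb_apply_of_not_left _ _ hx', Matrix.diagonal_apply, Matrix.one_apply]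
    by_cases h : x = y
    · rw [if_pos h, if_pos h, h2 x hx']
    · rw [if_neg h, if_neg h]

/-! ### small matrix identities -/

/-- root elements of a short simple root in rank one -/
def X4 (a ab : K) : Matrix (Fin 4) (Fin 4) K := 1 + (Matrix.single 0 1 a - Matrix.single 2 3 ab)

/-- negative root elements of a short simple root in rank one -/
def Y4 (c cb : K) : Matrix (Fin 4) (Fin 4) K := 1 + (Matrix.single 1 0 c - Matrix.single 3 2 cb)

theorem id4 (s t : K) (hs : s ≠ 0) (ht : t ≠ 0) :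
    X4 s t * Y4 (-s⁻¹) (-t⁻¹) * X4 s t =
      diagonal ![s, s⁻¹, t, t⁻¹] * (X4 1 1 * Y4 (-1) (-1) * X4 1 1) := by
  ext i j
  fin_cases i <;> fin_cases j <;>
    simp [X4, Y4, Matrix.mul_apply, Fin.sum_univ_four, Matrix.single_apply, Matrix.one_apply] <;>
    (try field_simp) <;> (try ring_nf) <;> (try simp)

/-- root elements of the long simple root in rank one -/
def X2 (b : K) : Matrix (Fin 2) (Fin 2) K := 1 + Matrix.single 0 1 b

/-- negative root elements of the long simple root in rank one -/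
def Y2 (c : K) : Matrix (Fin 2) (Fin 2) K := 1 + Matrix.single 1 0 c

theorem id2 (e s : K) (he : e ≠ 0) (hs : s ≠ 0) :
    X2 (e * s) * Y2 (-(e * s)⁻¹) * X2 (e * s) =
      diagonal ![s, s⁻¹] * (X2 e * Y2 (-e⁻¹) * X2 e) := by
  ext i j
  fin_cases i <;> fin_cases j <;>
    simp [X2, Y2, Matrix.mul_apply, Fin.sum_univ_two, Matrix.single_apply, Matrix.one_apply] <;>
    (try field_simp) <;> (try ring_nf) <;> (try simp)

/-- root elements of the last simple root in odd dimension -/
def X3 (a ab b : K) : Matrix (Fin 3) (Fin 3) K :=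
  1 + (Matrix.single 0 1 a - Matrix.single 1 2 ab + Matrix.single 0 2 b)

/-- negative root elements of the last simple root in odd dimension -/
def Y3 (c cb d : K) : Matrix (Fin 3) (Fin 3) K :=
  1 + (Matrix.single 2 1 c - Matrix.single 1 0 cb + Matrix.single 2 0 d)

/-- the monomial elements of the last simple root in odd dimension -/
def W3 (b bb : K) : Matrix (Fin 3) (Fin 3) K :=
  Matrix.single 0 2 b + Matrix.single 1 1 (-bb / b) + Matrix.single 2 0 (1 / bb)

theorem id3a (a ab b bb : K) (hb : b ≠ 0) (hbb : bb ≠ 0) (h : b + bb + a * ab = 0) :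
    Y3 (-a / bb) (-ab / b) (1 / bb) * X3 a ab b * Y3 (-a / b) (-ab / bb) (1 / bb) = W3 b bb := by
  ext i j
  fin_cases i <;> fin_cases j <;>
    simp [X3, Y3, W3, Matrix.mul_apply, Fin.sum_univ_three, Matrix.single_apply, Matrix.one_apply] <;>
    (try field_simp) <;>
    first | ring1 | linear_combination h | linear_combination ab * h | linear_combination (-a) * h

theorem id3b (s sb b bb : K) (hs : s ≠ 0) (hsb : sb ≠ 0) (hb : b ≠ 0) (hbb : bb ≠ 0) :
    diagonal ![s, sb / s, 1 / sb] * W3 b bb = W3 (s * b) (sb * bb) := by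
  ext i j
  fin_cases i <;> fin_cases j <;>
    simp [W3, Matrix.mul_apply, Matrix.single_apply] <;>
    (try field_simp)

/-! ### root elements of the simple roots -/

/-- block triangular Heisenberg elements of the group -/
def RT (σ : K →+* K) (n j : ℕ) : Set (SpecialLinearGroup (Fin n) K) :=
  {y | y ∈ UJ σ n ∧
    (∀ x z, lvN n j z < lvN n j x → (y : Matrix (Fin n) (Fin n) K) x z = 0) ∧
    (∀ x z, lvN n j z < lvN n j x →
      ((y⁻¹ : SpecialLinearGroup (Fin n) K) : Matrix (Fin n) (Fin n) K) x z = 0) ∧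
    ∃ (r : Fin n) (hr : r ≠ r.rev) (v : Fin n → K) (hv : v r = 0) (b : K), y = Hq σ r hr v hv b}

theorem Hq_mem_RT {σ : K →+* K} (hσ : ∀ x, σ (σ x) = x) {j : ℕ} (hj : 2 * j + 2 ≤ n) (r : Fin n)
    (hr : r ≠ r.rev) (v : Fin n → K) (hv : v r = 0) (b : K)
    (hb : b + σ b + v ⬝ᵥ sh σ v = 0)
    (h1 : ∀ y, v y ≠ 0 → lvN n j r ≤ lvN n j y) (h3 : b ≠ 0 → lvN n j r ≤ lvN n j r.rev) :
    Hq σ r hr v hv b ∈ RT σ n j := by
  have h2 : ∀ y, v y ≠ 0 → lvN n j y.rev ≤ lvN n j r.rev := fun y hy =>
    (lvN_rev_iff n j hj r y).mpr (h1 y hy)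
  refine ⟨Hq_mem hσ r hr v hv b hb, blockUpper_Hq σ _ hr hv b h1 h2 h3, ?_, r, hr, v, hv, b, rfl⟩
  rw [Hq_inv]
  apply blockUpper_Hq
  · intro y hy
    apply h1
    intro h0
    rw [Pi.neg_apply, h0, neg_zero] at hy
    exact hy rfl
  · intro y hy
    apply h2
    intro h0
    rw [Pi.neg_apply, h0, neg_zero] at hy
    exact hy rfl
  · intro hb'
    apply h3
    intro h0
    apply hb'
    have : -b - v ⬝ᵥ sh σ v = σ b := by linear_combination (-1 : K) * hb
    rw [this, h0, map_zero]



theorem lvN_mk (n j i : ℕ) (hi : i < n) : lvN n j ⟨i, hi⟩ =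
    i + (if i ≤ j then 1 else 0) + (if i + j + 2 ≤ n ∧ 2 * j + 2 < n then 1 else 0) := rfl

theorem lvN_eq (n j : ℕ) (x : Fin n) : lvN n j x =
    x.val + (if x.val ≤ j then 1 else 0) + (if x.val + j + 2 ≤ n ∧ 2 * j + 2 < n then 1 else 0) := rfl

/-- the coroot elements of the short simple roots are products of root elements -/
theorem cor_short_mem {σ : K →+* K} (hσ : InvOK σ) (j : ℕ) (hj : 2 * j + 3 < n) (jj j1 : Fin n)
    (hjj : jj.val = j) (hj1 : j1.val = j + 1) (s : K) (hs : s ≠ 0) :
    cor σ jj j1 s hs ∈ Subgroup.closure (RT σ n j) := by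
  have hs' : σ s ≠ 0 := fun h => hs ((map_eq_zero σ).mp h)
  have hjjr : jj.rev.val = n - (j + 1) := by rw [Fin.val_rev, hjj]
  have hj1r : j1.rev.val = n - (j + 2) := by rw [Fin.val_rev, hj1]
  have d1 : jj ≠ j1 := fun h => by have := congrArg Fin.val h; omega
  have d2 : jj ≠ j1.rev := fun h => by have := congrArg Fin.val h; omega
  have d3 : jj ≠ jj.rev := fun h => by have := congrArg Fin.val h; omega
  have d4 : j1 ≠ j1.rev := fun h => by have := congrArg Fin.val h; omega
  have d5 : j1 ≠ jj.rev := fun h => by have := congrArg Fin.val h; omega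
  have d6 : j1.rev ≠ jj.rev := fun h => by have := congrArg Fin.val h; omega
  have hι : Function.Injective ![jj, j1, j1.rev, jj.rev] := by
    intro a b h
    fin_cases a <;> fin_cases b <;> first | rfl | (exfalso; simp at h; first | exact d1 h | exact d2 h | exact d3 h | exact d4 h | exact d5 h | exact d6 h | exact d1 h.symm | exact d2 h.symm | exact d3 h.symm | exact d4 h.symm | exact d5 h.symm | exact d6 h.symm)
  have hv1 : ∀ a : K, (Pi.single j1 a : Fin n → K) jj = 0 := fun a => by
    rw [Pi.single_apply, if_neg d1]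
  have hv2 : ∀ c : K, (Pi.single jj c : Fin n → K) j1 = 0 := fun c => by
    rw [Pi.single_apply, if_neg d1.symm]
  have hlv1 : lvN n j jj ≤ lvN n j j1 := by
    rw [lvN_eq, lvN_eq, hjj, hj1]
    split_ifs <;> omega
  have hlv2 : lvN n j j1 ≤ lvN n j jj := by
    rw [lvN_eq, lvN_eq, hjj, hj1]
    split_ifs <;> omega
  have hx : ∀ a : K, Hq σ jj d3 (Pi.single j1 a) (hv1 a) 0 ∈ RT σ n j := by
    intro a
    apply Hq_mem_RT hσ.invol (by omega)
    · rw [sh_single, single_dotProduct, Pi.single_apply, if_neg d4, mul_zero, map_zero]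
      ring
    · intro y hy
      have : y = j1 := by
        by_contra h0
        rw [Pi.single_apply, if_neg h0] at hy
        exact hy rfl
      rw [this]
      exact hlv1
    · intro h0
      exact absurd rfl h0
  have hy : ∀ c : K, Hq σ j1 d4 (Pi.single jj c) (hv2 c) 0 ∈ RT σ n j := by
    intro c
    apply Hq_mem_RT hσ.invol (by omega)
    · rw [sh_single, single_dotProduct, Pi.single_apply, if_neg d3, mul_zero, map_zero]
      ring
    · intro y hy
      have : y = jj := by
        by_contra h0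
        rw [Pi.single_apply, if_neg h0] at hy
        exact hy rfl
      rw [this]
      exact hlv2
    · intro h0
      exact absurd rfl h0
  have hxm : ∀ a : K, ((Hq σ jj d3 (Pi.single j1 a) (hv1 a) 0 : SpecialLinearGroup (Fin n) K) :
      Matrix (Fin n) (Fin n) K) = emb ![jj, j1, j1.rev, jj.rev] (X4 a (σ a)) := by
    intro a
    rw [Hq_coe, hN_single, X4, emb_one_add, Matrix.mul_sub, Matrix.sub_mul, Pm_single, Pm_single,
      Matrix.single_zero, add_zero]
    rfl
  have hym : ∀ c : K, ((Hq σ j1 d4 (Pi.single jj c) (hv2 c) 0 : SpecialLinearGroup (Fin n) K) :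
      Matrix (Fin n) (Fin n) K) = emb ![jj, j1, j1.rev, jj.rev] (Y4 c (σ c)) := by
    intro c
    rw [Hq_coe, hN_single, Y4, emb_one_add, Matrix.mul_sub, Matrix.sub_mul, Pm_single, Pm_single,
      Matrix.single_zero, add_zero]
    rfl
  have hdm : diagonal (corf σ jj j1 s) =
      emb ![jj, j1, j1.rev, jj.rev] (diagonal ![s, s⁻¹, σ s, (σ s)⁻¹]) := by
    apply diagonal_eq_emb hι
    · intro α
      fin_cases α
      · show corf σ jj j1 s jj = s
        unfold corf
        rw [if_pos rfl, if_neg d1, if_neg d2, if_neg d3, mul_one, mul_one, mul_one]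
      · show corf σ jj j1 s j1 = s⁻¹
        unfold corf
        rw [if_neg d1.symm, if_pos rfl, if_neg d4, if_neg d5, one_mul, mul_one, mul_one]
      · show corf σ jj j1 s j1.rev = σ s
        unfold corf
        rw [if_neg d2.symm, if_neg d4.symm, if_pos rfl, if_neg d6, one_mul, one_mul, mul_one]
      · show corf σ jj j1 s jj.rev = (σ s)⁻¹
        unfold corf
        rw [if_neg d3.symm, if_neg d5.symm, if_neg d6.symm, if_pos rfl, one_mul, one_mul, one_mul]
    · intro x hx
      have h0 : x ≠ jj := hx 0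
      have h1 : x ≠ j1 := hx 1
      have h2 : x ≠ j1.rev := hx 2
      have h3 : x ≠ jj.rev := hx 3
      unfold corf
      rw [if_neg h0, if_neg h1, if_neg h2, if_neg h3, one_mul, one_mul, one_mul]
  have key : cor σ jj j1 s hs *
      (Hq σ jj d3 (Pi.single j1 1) (hv1 1) 0 * Hq σ j1 d4 (Pi.single jj (-1)) (hv2 (-1)) 0 *
        Hq σ jj d3 (Pi.single j1 1) (hv1 1) 0) =
      Hq σ jj d3 (Pi.single j1 s) (hv1 s) 0 * Hq σ j1 d4 (Pi.single jj (-s⁻¹)) (hv2 (-s⁻¹)) 0 *
        Hq σ jj d3 (Pi.single j1 s) (hv1 s) 0 := by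
    apply Subtype.ext
    simp only [Matrix.SpecialLinearGroup.coe_mul]
    rw [hxm, hxm, hym, hym, ← emb_mul hι, ← emb_mul hι, ← emb_mul hι, ← emb_mul hι]
    unfold cor
    rw [dg_coe, hdm, ← emb_mul hι, map_neg, map_neg, map_inv₀, map_one, id4 s (σ s) hs hs']
  have h1 := Subgroup.subset_closure (hx 1)
  have h2 := Subgroup.subset_closure (hy (-1))
  have h3 := Subgroup.subset_closure (hx s)
  have h4 := Subgroup.subset_closure (hy (-s⁻¹))
  have h5 := (Subgroup.closure (RT σ n j)).mul_mem ((Subgroup.closure (RT σ n j)).mul_mem h1 h2) h1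
  have h6 := (Subgroup.closure (RT σ n j)).mul_mem ((Subgroup.closure (RT σ n j)).mul_mem h3 h4) h3
  have h7 := (Subgroup.closure (RT σ n j)).mul_mem h6 ((Subgroup.closure (RT σ n j)).inv_mem h5)
  rw [← key, mul_inv_cancel_right] at h7
  exact h7




/-- the coroot elements of the long simple root are products of root elements -/
theorem cor_long_mem {σ : K →+* K} (hσ : InvOK σ) (j : ℕ) (hj : 2 * j + 2 = n) (jj : Fin n)
    (hjj : jj.val = j) (s : K) (hs : s ≠ 0) (hfix : σ s = s) :
    corL jj s hs ∈ Subgroup.closure (RT σ n j) := by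
  have hjjr : jj.rev.val = j + 1 := by rw [Fin.val_rev, hjj]; omega
  have d : jj ≠ jj.rev := fun h => by have := congrArg Fin.val h; omega
  have d' : jj.rev ≠ jj.rev.rev := by rw [Fin.rev_rev]; exact d.symm
  have hι : Function.Injective ![jj, jj.rev] := by
    intro a b h
    fin_cases a <;> fin_cases b <;> first | rfl | (exfalso; simp at h; first | exact d h | exact d h.symm)
  obtain ⟨e, he0, hes⟩ := hσ.sk
  have hlv : lvN n j jj = lvN n j jj.rev := by
    rw [lvN_eq, lvN_eq, hjjr, hjj]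
    split_ifs <;> omega
  have hx : ∀ b : K, b + σ b = 0 → Hq σ jj d 0 (Pi.zero_apply jj) b ∈ RT σ n j := by
    intro b hb
    apply Hq_mem_RT hσ.invol (by omega)
    · rw [hb, zero_dotProduct, add_zero]
    · intro y hy
      exact absurd rfl hy
    · intro _
      exact le_of_eq hlv
  have hy : ∀ c : K, c + σ c = 0 → Hq σ jj.rev d' 0 (Pi.zero_apply jj.rev) c ∈ RT σ n j := by
    intro c hc
    apply Hq_mem_RT hσ.invol (by omega)
    · rw [hc, zero_dotProduct, add_zero]
    · intro y hy
      exact absurd rfl hy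
    · intro _
      rw [Fin.rev_rev]
      exact le_of_eq hlv.symm
  have hxm : ∀ b : K, ((Hq σ jj d 0 (Pi.zero_apply jj) b : SpecialLinearGroup (Fin n) K) :
      Matrix (Fin n) (Fin n) K) = emb ![jj, jj.rev] (X2 b) := by
    intro b
    rw [Hq_coe, ← Pi.single_zero jj, hN_single, X2, emb_one_add, Pm_single, map_zero,
      Matrix.single_zero, Matrix.single_zero, sub_zero, zero_add]
    rfl
  have hym : ∀ c : K, ((Hq σ jj.rev d' 0 (Pi.zero_apply jj.rev) c : SpecialLinearGroup (Fin n) K) :
      Matrix (Fin n) (Fin n) K) = emb ![jj, jj.rev] (Y2 c) := by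
    intro c
    rw [Hq_coe, ← Pi.single_zero jj, hN_single, Y2, emb_one_add, Pm_single, map_zero,
      Matrix.single_zero, Matrix.single_zero, sub_zero, zero_add, Fin.rev_rev]
    rfl
  have hdm : diagonal (corLf jj s) = emb ![jj, jj.rev] (diagonal ![s, s⁻¹]) := by
    apply diagonal_eq_emb hι
    · intro α
      fin_cases α
      · show corLf jj s jj = s
        unfold corLf
        rw [if_pos rfl, if_neg d, mul_one]
      · show corLf jj s jj.rev = s⁻¹
        unfold corLf
        rw [if_neg d.symm, if_pos rfl, one_mul]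
    · intro x hx
      have h0 : x ≠ jj := hx 0
      have h1 : x ≠ jj.rev := hx 1
      unfold corLf
      rw [if_neg h0, if_neg h1, one_mul]
  have hes0 : e * s ≠ 0 := mul_ne_zero he0 hs
  have sk1 : e * s + σ (e * s) = 0 := by
    rw [map_mul, hfix]
    linear_combination s * hes
  have hse : σ e = -e := by linear_combination hes
  have sk2 : -(e * s)⁻¹ + σ (-(e * s)⁻¹) = 0 := by
    rw [map_neg, map_inv₀, map_mul, hfix, hse]
    field_simp
    ring
  have sk3 : -e⁻¹ + σ (-e⁻¹) = 0 := by
    rw [map_neg, map_inv₀, hse]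
    field_simp
    ring
  have key : corL jj s hs *
      (Hq σ jj d 0 (Pi.zero_apply jj) e * Hq σ jj.rev d' 0 (Pi.zero_apply jj.rev) (-e⁻¹) *
        Hq σ jj d 0 (Pi.zero_apply jj) e) =
      Hq σ jj d 0 (Pi.zero_apply jj) (e * s) *
        Hq σ jj.rev d' 0 (Pi.zero_apply jj.rev) (-(e * s)⁻¹) *
        Hq σ jj d 0 (Pi.zero_apply jj) (e * s) := by
    apply Subtype.ext
    simp only [Matrix.SpecialLinearGroup.coe_mul]
    rw [hxm, hxm, hym, hym, ← emb_mul hι, ← emb_mul hι, ← emb_mul hι, ← emb_mul hι]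
    unfold corL
    rw [dg_coe, hdm, ← emb_mul hι, id2 e s he0 hs]
  have h1 := Subgroup.subset_closure (hx e hes)
  have h2 := Subgroup.subset_closure (hy (-e⁻¹) sk3)
  have h3 := Subgroup.subset_closure (hx (e * s) sk1)
  have h4 := Subgroup.subset_closure (hy (-(e * s)⁻¹) sk2)
  have h5 := (Subgroup.closure (RT σ n j)).mul_mem ((Subgroup.closure (RT σ n j)).mul_mem h1 h2) h1
  have h6 := (Subgroup.closure (RT σ n j)).mul_mem ((Subgroup.closure (RT σ n j)).mul_mem h3 h4) h3
  have h7 := (Subgroup.closure (RT σ n j)).mul_mem h6 ((Subgroup.closure (RT σ n j)).inv_mem h5)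
  rw [← key, mul_inv_cancel_right] at h7
  exact h7




theorem exists_norm {σ : K →+* K} (hσ : InvOK σ) (b : K) : ∃ a, b + σ b + a * σ a = 0 := by
  by_cases h : b + σ b = 0
  · exact ⟨0, by rw [h, zero_mul, add_zero]⟩
  · have hfix : σ (-(b + σ b)) = -(b + σ b) := by
      rw [map_neg, map_add, hσ.invol]
      ring
    obtain ⟨a, ha⟩ := hσ.nm _ (neg_ne_zero.mpr h) hfix
    exact ⟨a, by rw [ha]; ring⟩

/-- the coroot elements of the last simple root in odd dimension are products of root elements -/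
theorem cor_odd_mem {σ : K →+* K} (hσ : InvOK σ) (j : ℕ) (hj : 2 * j + 3 = n) (jj j1 : Fin n)
    (hjj : jj.val = j) (hj1 : j1.val = j + 1) (s : K) (hs : s ≠ 0) :
    cor σ jj j1 s hs ∈ Subgroup.closure (RT σ n j) := by
  have hs' : σ s ≠ 0 := fun h => hs ((map_eq_zero σ).mp h)
  have hjjr : jj.rev.val = j + 2 := by rw [Fin.val_rev, hjj]; omega
  have hj1r : j1.rev = j1 := by
    apply Fin.ext
    rw [Fin.val_rev, hj1]
    omega
  have d1 : jj ≠ j1 := fun h => by have := congrArg Fin.val h; omega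
  have d2 : jj ≠ jj.rev := fun h => by have := congrArg Fin.val h; omega
  have d3 : j1 ≠ jj.rev := fun h => by have := congrArg Fin.val h; omega
  have d2' : jj.rev ≠ jj.rev.rev := by rw [Fin.rev_rev]; exact d2.symm
  have hι : Function.Injective ![jj, j1, jj.rev] := by
    intro a b h
    fin_cases a <;> fin_cases b <;> first | rfl | (exfalso; simp at h; first | exact d1 h | exact d2 h | exact d3 h | exact d1 h.symm | exact d2 h.symm | exact d3 h.symm)
  have hv1 : ∀ a : K, (Pi.single j1 a : Fin n → K) jj = 0 := fun a => by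
    rw [Pi.single_apply, if_neg d1]
  have hv2 : ∀ c : K, (Pi.single j1 c : Fin n → K) jj.rev = 0 := fun c => by
    rw [Pi.single_apply, if_neg d3.symm]
  have hdot : ∀ a : K, (Pi.single j1 a : Fin n → K) ⬝ᵥ sh σ (Pi.single j1 a) = a * σ a := by
    intro a
    rw [sh_single, hj1r, single_dotProduct, Pi.single_apply, if_pos rfl]
  have hlv1 : lvN n j jj = lvN n j j1 := by
    rw [lvN_eq, lvN_eq, hjj, hj1]
    split_ifs <;> omega
  have hlv2 : lvN n j jj.rev = lvN n j j1 := by
    rw [lvN_eq, lvN_eq, hjjr, hj1]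
    split_ifs <;> omega
  have hx : ∀ a b : K, b + σ b + a * σ a = 0 →
      Hq σ jj d2 (Pi.single j1 a) (hv1 a) b ∈ RT σ n j := by
    intro a b hb
    apply Hq_mem_RT hσ.invol (by omega)
    · rw [hdot, hb]
    · intro y hy
      have : y = j1 := by
        by_contra h0
        rw [Pi.single_apply, if_neg h0] at hy
        exact hy rfl
      rw [this]
      exact le_of_eq hlv1
    · intro _
      rw [hlv2, hlv1]
  have hy : ∀ c d : K, d + σ d + c * σ c = 0 →
      Hq σ jj.rev d2' (Pi.single j1 c) (hv2 c) d ∈ RT σ n j := by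
    intro c d hd
    apply Hq_mem_RT hσ.invol (by omega)
    · rw [hdot, hd]
    · intro y hy
      have : y = j1 := by
        by_contra h0
        rw [Pi.single_apply, if_neg h0] at hy
        exact hy rfl
      rw [this]
      exact le_of_eq hlv2
    · intro _
      rw [Fin.rev_rev, hlv2, hlv1]
  have hxm : ∀ a b : K, ((Hq σ jj d2 (Pi.single j1 a) (hv1 a) b : SpecialLinearGroup (Fin n) K) :
      Matrix (Fin n) (Fin n) K) = emb ![jj, j1, jj.rev] (X3 a (σ a) b) := by
    intro a b
    rw [Hq_coe, hN_single, hj1r, X3, emb_one_add, Matrix.mul_add, Matrix.add_mul, Matrix.mul_sub,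
      Matrix.sub_mul, Pm_single, Pm_single, Pm_single]
    rfl
  have hym : ∀ c d : K, ((Hq σ jj.rev d2' (Pi.single j1 c) (hv2 c) d :
      SpecialLinearGroup (Fin n) K) : Matrix (Fin n) (Fin n) K) =
      emb ![jj, j1, jj.rev] (Y3 c (σ c) d) := by
    intro c d
    rw [Hq_coe, hN_single, hj1r, Fin.rev_rev, Y3, emb_one_add, Matrix.mul_add, Matrix.add_mul,
      Matrix.mul_sub, Matrix.sub_mul, Pm_single, Pm_single, Pm_single]
    rfl
  -- the monomial elements
  have nmat : ∀ a b : K, b ≠ 0 → b + σ b + a * σ a = 0 →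
      ∃ g : SpecialLinearGroup (Fin n) K, g ∈ Subgroup.closure (RT σ n j) ∧
        (g : Matrix (Fin n) (Fin n) K) = emb ![jj, j1, jj.rev] (W3 b (σ b)) := by
    intro a b hb0 hb
    have hb0' : σ b ≠ 0 := fun h => hb0 ((map_eq_zero σ).mp h)
    have e1 : σ (-a / σ b) = -σ a / b := by
      rw [map_div₀, map_neg, hσ.invol]
    have e2 : σ (-a / b) = -σ a / σ b := by
      rw [map_div₀, map_neg]
    have e3 : σ (1 / σ b) = 1 / b := by
      rw [map_div₀, map_one, hσ.invol]
    have v1 : 1 / σ b + σ (1 / σ b) + -a / σ b * σ (-a / σ b) = 0 := by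
      rw [e1, e3]
      field_simp
      linear_combination hb
    have v2 : 1 / σ b + σ (1 / σ b) + -a / b * σ (-a / b) = 0 := by
      rw [e2, e3]
      field_simp
      linear_combination hb
    refine ⟨Hq σ jj.rev d2' (Pi.single j1 (-a / σ b)) (hv2 _) (1 / σ b) *
      Hq σ jj d2 (Pi.single j1 a) (hv1 a) b *
      Hq σ jj.rev d2' (Pi.single j1 (-a / b)) (hv2 _) (1 / σ b), ?_, ?_⟩
    · exact (Subgroup.closure (RT σ n j)).mul_mem ((Subgroup.closure (RT σ n j)).mul_mem
        (Subgroup.subset_closure (hy _ _ v1)) (Subgroup.subset_closure (hx a b hb)))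
        (Subgroup.subset_closure (hy _ _ v2))
    · simp only [Matrix.SpecialLinearGroup.coe_mul]
      rw [hxm, hym, hym, ← emb_mul hι, ← emb_mul hι, e1, e2, id3a a (σ a) b (σ b) hb0 hb0' hb]
  have hdm : diagonal (corf σ jj j1 s) =
      emb ![jj, j1, jj.rev] (diagonal ![s, σ s / s, 1 / σ s]) := by
    apply diagonal_eq_emb hι
    · intro α
      fin_cases α
      · show corf σ jj j1 s jj = s
        unfold corf
        rw [hj1r, if_pos rfl, if_neg d1, if_neg d1, if_neg d2, mul_one, mul_one, mul_one]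
      · show corf σ jj j1 s j1 = σ s / s
        unfold corf
        rw [hj1r, if_neg d1.symm, if_pos rfl, if_pos rfl, if_neg d3, one_mul, mul_one]
        field_simp
      · show corf σ jj j1 s jj.rev = 1 / σ s
        unfold corf
        rw [hj1r, if_neg d2.symm, if_neg d3.symm, if_neg d3.symm, if_pos rfl, one_mul, one_mul,
          one_mul, one_div]
    · intro x hx
      have h0 : x ≠ jj := hx 0
      have h1 : x ≠ j1 := hx 1
      have h3 : x ≠ jj.rev := hx 2
      unfold corf
      rw [hj1r, if_neg h0, if_neg h1, if_neg h1, if_neg h3, one_mul, one_mul, one_mul]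
  obtain ⟨a1, ha1⟩ := exists_norm hσ (1 : K)
  obtain ⟨a2, ha2⟩ := exists_norm hσ s
  obtain ⟨g1, hg1, hg1m⟩ := nmat a1 1 one_ne_zero ha1
  obtain ⟨g2, hg2, hg2m⟩ := nmat a2 s hs ha2
  have key : cor σ jj j1 s hs * g1 = g2 := by
    apply Subtype.ext
    rw [Matrix.SpecialLinearGroup.coe_mul, hg1m, hg2m]
    unfold cor
    rw [dg_coe, hdm, ← emb_mul hι, id3b s (σ s) 1 (σ 1) hs hs' one_ne_zero
      (by rw [map_one]; exact one_ne_zero), mul_one, map_one, mul_one]
  have h7 := (Subgroup.closure (RT σ n j)).mul_mem hg2 ((Subgroup.closure (RT σ n j)).inv_mem hg1)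
  rw [← key, mul_inv_cancel_right] at h7
  exact h7

end Cfsg.Agent.Lib.Helper16.FusSU
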