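import Mathlib
import Cfsg.Prelude.Def_FusionSystem
import Cfsg.Agent.Lib.Helper3.Fus.Simple

set_option autoImplicit false

/-! A criterion for the fusion system of a finite group on a Sylow subgroup to be simple, for the
case where the normalizer of the Sylow subgroup induces only inner automorphisms on it (for
instance when the automorphism group of the Sylow subgroup is a `p`-group). -/

namespace Cfsg.Agent.Lib.Helper16.FusCrit

open Cfsg Cfsg.FusionSystem Cfsg.Agent.Lib.Helper26 Cfsg.Agent.Lib.Helper3.Fus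

variable {G : Type*} [Group G]

/-- the criterion for one Sylow subgroup, with `Aut_G(S) = Inn(S)` -/
theorem isSimple_of_inner [Finite G] {p : ℕ} [Fact p.Prime] (S : Sylow p G)
    (h1 : (S : Subgroup G) ≠ ⊥)
    (h2 : ∀ g ∈ Subgroup.normalizer ((S : Subgroup G) : Set G), ∃ s ∈ (S : Subgroup G),
      ∀ x ∈ (S : Subgroup G), g * x * g⁻¹ = s * x * s⁻¹)
    (h3 : ∀ T : Subgroup G, T ≤ S → T ≠ ⊥ → FClosed (S : Subgroup G) T → T = S) :
    (groupFusionSystem (S : Subgroup G)).IsSimple p := by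
  refine ⟨groupFS_saturated S, h1, ?_⟩
  intro T E hE
  obtain ⟨⟨-, -, hsub, hsc, -, hfrat⟩, -⟩ := hE
  by_cases hT : T = ⊥
  · exact Or.inl hT
  right
  have hTS : T = S := h3 T hsc.1 hT (fclosed_of_stronglyClosed hsc)
  subst hTS
  refine ⟨rfl, fun P => Set.Subset.antisymm (hsub P) ?_⟩
  intro φ hφ
  have hP : P ≤ (S : Subgroup G) := hφ.1
  obtain ⟨α, hα, φ₀, hφ₀, hcomp⟩ := hfrat P hP φ hφ
  rw [mem_autGroup_iff _ le_rfl, mem_groupFS_hom] at hα
  obtain ⟨-, -, g, hg⟩ := hα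
  have hgN : g ∈ Subgroup.normalizer ((S : Subgroup G) : Set G) := by
    apply Subgroup.mem_normalizer_fintype
    intro n hn
    have := hg ⟨n, hn⟩
    have h' : g * n * g⁻¹ = ((α ⟨n, hn⟩ : (S : Subgroup G)) : G) := this.symm
    rw [h']
    exact (α ⟨n, hn⟩).2
  obtain ⟨s, hsS, hs⟩ := h2 g hgN
  have hφ₀S : ∀ x : P, φ₀ x ∈ (S : Subgroup G) := (E.le_of_mem hφ₀).2
  have hc := E.comp_mem hφ₀ (E.conj_mem (P := (S : Subgroup G)) le_rfl hsS) hφ₀S
  have : φ = (conjHom (S : Subgroup G) s).comp (φ₀.codRestrict (S : Subgroup G) hφ₀S) := by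
    ext x
    rw [hcomp x (hφ₀S x)]
    have h4 := hg ⟨φ₀ x, hφ₀S x⟩
    have h5 : ((α ⟨φ₀ x, hφ₀S x⟩ : (S : Subgroup G)) : G) = g * φ₀ x * g⁻¹ := h4
    rw [h5, hs _ (hφ₀S x)]
    rfl
  rw [this]
  exact hc

/-- a `p`-element normalizing a Sylow `p`-subgroup lies in it -/
theorem mem_sylow_of_mem_normalizer [Finite G] {p : ℕ} [Fact p.Prime] (S : Sylow p G) (g : G)
    (hg : g ∈ Subgroup.normalizer ((S : Subgroup G) : Set G)) (e : ℕ) (he : orderOf g = p ^ e) :
    g ∈ (S : Subgroup G) := by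
  have hz : IsPGroup p (Subgroup.zpowers g) := by
    apply IsPGroup.of_card (n := e)
    rw [Nat.card_zpowers, he]
  have hle : Subgroup.zpowers g ≤ Subgroup.normalizer ((S : Subgroup G) : Set G) := by
    rw [Subgroup.zpowers_le]; exact hg
  have hsup : IsPGroup p (Subgroup.zpowers g ⊔ (S : Subgroup G) : Subgroup G) :=
    IsPGroup.to_sup_of_normal_right' hz S.2 hle
  have := S.is_maximal' hsup le_sup_right
  have h2 : Subgroup.zpowers g ≤ (S : Subgroup G) := by
    calc Subgroup.zpowers g ≤ Subgroup.zpowers g ⊔ (S : Subgroup G) := le_sup_left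
      _ = S := this
  exact h2 (Subgroup.mem_zpowers g)

/-- if `Aut(S)` is a `p`-group then `N_G(S)` induces only inner automorphisms on the Sylow
subgroup `S` -/
theorem inner_of_isPGroup_mulAut [Finite G] {p : ℕ} [Fact p.Prime] (S : Sylow p G)
    (hA : IsPGroup p (MulAut ↥(S : Subgroup G))) :
    ∀ g ∈ Subgroup.normalizer ((S : Subgroup G) : Set G), ∃ s ∈ (S : Subgroup G),
      ∀ x ∈ (S : Subgroup G), g * x * g⁻¹ = s * x * s⁻¹ := by
  intro g hg
  have hp : p.Prime := Fact.out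
  obtain ⟨e, k, hk, ho⟩ := Nat.exists_eq_pow_mul_and_not_dvd (orderOf_pos g).ne' p hp.ne_one
  have hcop : Nat.Coprime k p := (Nat.Coprime.symm ((Nat.Prime.coprime_iff_not_dvd hp).mpr hk))
  -- the p-part
  have hg1 : g ^ k ∈ (S : Subgroup G) := by
    apply mem_sylow_of_mem_normalizer S (g ^ k) (Subgroup.pow_mem _ hg k) e
    rw [orderOf_pow' g (by rintro rfl; simp at hk), ho, Nat.gcd_eq_right (Dvd.intro_left _ rfl)]
    exact Nat.mul_div_cancel _ (Nat.pos_of_ne_zero (by rintro rfl; simp at hk))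
  -- the p'-part centralizes
  have hg2 : ∀ x ∈ (S : Subgroup G), g ^ (p ^ e) * x * (g ^ (p ^ e))⁻¹ = x := by
    intro x hx
    let c : ↥(Subgroup.normalizer ((S : Subgroup G) : Set G)) := ⟨g ^ (p ^ e), Subgroup.pow_mem _ hg _⟩
    have hck : c ^ k = 1 := by
      apply Subtype.ext
      show (g ^ (p ^ e)) ^ k = 1
      rw [← pow_mul, ← ho]; exact pow_orderOf_eq_one g
    have h1 : ((S : Subgroup G).normalizerMonoidHom c) ^ k = 1 := by
      rw [← map_pow, hck, map_one]
    obtain ⟨j, hj⟩ := hA ((S : Subgroup G).normalizerMonoidHom c)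
    have h2 : (S : Subgroup G).normalizerMonoidHom c = 1 := by
      have d1 := orderOf_dvd_of_pow_eq_one h1
      have d2 := orderOf_dvd_of_pow_eq_one hj
      have : orderOf ((S : Subgroup G).normalizerMonoidHom c) = 1 :=
        Nat.eq_one_of_dvd_coprimes (Nat.Coprime.pow_right j hcop) d1 d2
      exact orderOf_eq_one_iff.mp this
    have h3 := congrArg (fun φ : MulAut ↥(S : Subgroup G) => ((φ ⟨x, hx⟩ : ↥(S : Subgroup G)) : G)) h2
    exact h3
  -- Bezout
  have hcop2 : IsCoprime (k : ℤ) ((p ^ e : ℕ) : ℤ) :=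
    Nat.isCoprime_iff_coprime.mpr (Nat.Coprime.pow_right e hcop)
  obtain ⟨a, b, hab⟩ := hcop2
  refine ⟨(g ^ k) ^ a, Subgroup.zpow_mem _ hg1 a, ?_⟩
  intro x hx
  have hgz : ∀ n : ℤ, (g ^ (p ^ e)) ^ n * x * ((g ^ (p ^ e)) ^ n)⁻¹ = x := by
    have hcomm : Commute (g ^ (p ^ e)) x := by
      have := hg2 x hx
      show g ^ (p ^ e) * x = x * g ^ (p ^ e)
      calc g ^ (p ^ e) * x = (g ^ (p ^ e) * x * (g ^ (p ^ e))⁻¹) * g ^ (p ^ e) := by group
        _ = x * g ^ (p ^ e) := by rw [this]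
    intro n
    have := (hcomm.zpow_left n).eq
    rw [this]; group
  have hgdec : g = (g ^ k) ^ a * (g ^ (p ^ e)) ^ b := by
    rw [← zpow_natCast g k, ← zpow_natCast g (p ^ e), ← zpow_mul, ← zpow_mul, ← zpow_add]
    have : (k : ℤ) * a + ((p ^ e : ℕ) : ℤ) * b = 1 := by rw [← hab]; ring
    rw [this, zpow_one]
  calc g * x * g⁻¹ = (g ^ k) ^ a * ((g ^ (p ^ e)) ^ b * x * ((g ^ (p ^ e)) ^ b)⁻¹) * ((g ^ k) ^ a)⁻¹ := by
        conv_lhs => rw [hgdec]
        group
    _ = (g ^ k) ^ a * x * ((g ^ k) ^ a)⁻¹ := by rw [hgz b]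

/-- transport of the criterion along conjugation: it is enough to check one subgroup of the
right order, whose automorphism group is a `p`-group -/
theorem isSimple_of_subgroup_aut [Finite G] {p : ℕ} [Fact p.Prime] (S₀ : Subgroup G)
    (hcard : Nat.card S₀ = p ^ (Nat.card G).factorization p)
    (h1 : S₀ ≠ ⊥)
    (h2 : IsPGroup p (MulAut ↥S₀))
    (h3 : ∀ T : Subgroup G, T ≤ S₀ → T ≠ ⊥ → FClosed S₀ T → T = S₀)
    (S : Sylow p G) : (groupFusionSystem (S : Subgroup G)).IsSimple p := by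
  let P₀ : Sylow p G := Sylow.ofCard S₀ hcard
  obtain ⟨g, hg⟩ := MulAction.exists_smul_eq G P₀ S
  have hS : (S : Subgroup G) = S₀.map (MulAut.conj g).toMonoidHom := by
    rw [← hg]
    show (g • P₀ : Sylow p G).toSubgroup = _
    rw [Sylow.coe_subgroup_smul]
    rfl
  have hmem : ∀ x : G, x ∈ (S : Subgroup G) ↔ g⁻¹ * x * g ∈ S₀ := by
    intro x
    rw [hS]
    constructor
    · rintro ⟨y, hy, rfl⟩
      have : g⁻¹ * ((MulAut.conj g).toMonoidHom y) * g = y := by
        show g⁻¹ * (g * y * g⁻¹) * g = y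
        group
      rw [this]; exact hy
    · intro h
      refine ⟨g⁻¹ * x * g, h, ?_⟩
      show g * (g⁻¹ * x * g) * g⁻¹ = x
      group
  have e : ↥S₀ ≃* ↥(S : Subgroup G) :=
    ((MulAut.conj g).subgroupMap S₀).trans (MulEquiv.subgroupCongr hS.symm)
  have hA : IsPGroup p (MulAut ↥(S : Subgroup G)) := h2.of_equiv (MulAut.congr e)
  apply isSimple_of_inner S
  · intro hbot
    apply h1
    rw [Subgroup.eq_bot_iff_forall] at hbot ⊢
    intro x hx
    have : g * x * g⁻¹ ∈ (S : Subgroup G) := by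
      rw [hmem]
      have : g⁻¹ * (g * x * g⁻¹) * g = x := by group
      rw [this]; exact hx
    have := hbot _ this
    have h' : x = g⁻¹ * (g * x * g⁻¹) * g := by group
    rw [h', this]; group
  · exact inner_of_isPGroup_mulAut S hA
  · intro T hT hTne hcl
    let T₀ : Subgroup G := T.comap (MulAut.conj g).toMonoidHom
    have hT₀mem : ∀ x, x ∈ T₀ ↔ g * x * g⁻¹ ∈ T := fun x => Iff.rfl
    have hT₀ : T₀ ≤ S₀ := by
      intro x hx
      have := (hmem _).mp (hT ((hT₀mem x).mp hx))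
      have e : g⁻¹ * (g * x * g⁻¹) * g = x := by group
      rwa [e] at this
    have hT₀ne : T₀ ≠ ⊥ := by
      intro hbot
      apply hTne
      rw [Subgroup.eq_bot_iff_forall] at hbot ⊢
      intro x hx
      have : g⁻¹ * x * g ∈ T₀ := by
        rw [hT₀mem]
        have e : g * (g⁻¹ * x * g) * g⁻¹ = x := by group
        rw [e]; exact hx
      have := hbot _ this
      have h' : x = g * (g⁻¹ * x * g) * g⁻¹ := by group
      rw [h', this]; group
    have hcl₀ : FClosed S₀ T₀ := by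
      intro x hx k hk
      rw [hT₀mem] at hx ⊢
      have := hcl _ hx (g * k * g⁻¹) (by
        rw [hmem]
        have e : g⁻¹ * (g * k * g⁻¹ * (g * x * g⁻¹) * (g * k * g⁻¹)⁻¹) * g = k * x * k⁻¹ := by group
        rw [e]; exact hk)
      have e : g * k * g⁻¹ * (g * x * g⁻¹) * (g * k * g⁻¹)⁻¹ = g * (k * x * k⁻¹) * g⁻¹ := by group
      rwa [e] at this
    have hEq := h3 T₀ hT₀ hT₀ne hcl₀
    apply le_antisymm hT
    intro x hx
    have := (hmem x).mp hx
    rw [← hEq, hT₀mem] at this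
    have e : g * (g⁻¹ * x * g) * g⁻¹ = x := by group
    rwa [e] at this

/-- a nontrivial fusion-closed subgroup of a 2-subgroup contains all its involutions, when all
involutions of the group are conjugate -/
theorem invol_mem_of_fclosed [Finite G] (S₀ T : Subgroup G) (hS₀p : IsPGroup 2 S₀) (hTS : T ≤ S₀)
    (hT : T ≠ ⊥) (hcl : FClosed S₀ T)
    (hconj : ∀ s t : G, orderOf s = 2 → orderOf t = 2 → ∃ g : G, g * s * g⁻¹ = t) :
    ∀ x ∈ S₀, orderOf x = 2 → x ∈ T := by
  have hTp : IsPGroup 2 T := hS₀p.to_le hTS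
  obtain ⟨k, hk⟩ := IsPGroup.iff_card.mp hTp
  have hk0 : k ≠ 0 := by
    rintro rfl
    apply hT
    rw [pow_zero] at hk
    exact Subgroup.eq_bot_of_card_eq T hk
  have : Fact (Nat.Prime 2) := ⟨Nat.prime_two⟩
  obtain ⟨t, ht⟩ := exists_prime_orderOf_dvd_card' (G := T) 2 (by rw [hk]; exact dvd_pow_self 2 hk0)
  have ht2 : orderOf ((t : T) : G) = 2 := by
    rw [Subgroup.orderOf_coe]; exact ht
  intro x hxS hx2
  obtain ⟨g, hg⟩ := hconj ((t : T) : G) x ht2 hx2
  have := hcl ((t : T) : G) t.2 g (by rw [hg]; exact hxS)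
  rw [hg] at this
  exact this

end Cfsg.Agent.Lib.Helper16.FusCrit
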