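import Mathlib
import Cfsg.Prelude.Def_FusionSystem
import Cfsg.Agent.Lib.Helper3.Fus.Simple
import Cfsg.Agent.Lib.Helper27.FSPrimeToP
import Cfsg.Agent.Lib.Helper27.FSCentric
import Cfsg.Agent.Lib.Helper26.CenIdxB
import Cfsg.Agent.Lib.Helper16.FusCrit

set_option autoImplicit false

/-! A criterion for the fusion system of a finite group `G` on a Sylow `p`-subgroup `S` to be
simple, for the case where `N_G(S)` induces non-inner automorphisms on `S`: it is enough that `S`
has no proper nontrivial fusion-closed subgroup and that `N_G(S)` is generated by elements `x`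
each of which lies in the subgroup generated by the `p`-elements of `N_G(Q)` for some normal
subgroup `Q` of `S` with `C_S(Q) ≤ Q`.

The point is that a normal subsystem `E` over `S` contains all `p`-elements of all `Aut_F(P)`
(helper27 `pgenAut_le_of_strongInv`), that an automorphism in `Aut_E(Q)` normalized by `S` extends
to `Aut_E(S)` (helper26 `exists_extension`), and that an automorphism of `S` trivial on a
self-centralizing normal subgroup has `p`-power order. -/

namespace Cfsg.Agent.Lib.Helper16.FusGen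

open Cfsg Cfsg.FusionSystem Cfsg.Agent.Lib.Helper26 Cfsg.Agent.Lib.Helper27
  Cfsg.Agent.Lib.Helper3.Fus

variable {G : Type*} [Group G]

/-- an automorphism of `S` that is trivial on a normal self-centralizing subgroup `Q` has order
dividing `|Q|` -/
theorem aut_pow_card_eq_one {S Q : Subgroup G} [Finite Q] (hQS : Q ≤ S)
    (hN : S ≤ Subgroup.normalizer (Q : Set G)) (hC : centralizerIn S Q ≤ Q) (β : MulAut S)
    (hβ : ∀ x : S, (x : G) ∈ Q → β x = x) : β ^ Nat.card Q = 1 := by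
  have hz : ∀ x : S, ((x⁻¹ * β x : S) : G) ∈ Q := by
    intro x
    apply hC
    rw [mem_centralizerIn_iff]
    refine ⟨(x⁻¹ * β x).2, fun u hu => ?_⟩
    have hxu : (x : G) * u * (x : G)⁻¹ ∈ Q := (Subgroup.mem_normalizer_iff.mp (hN x.2) u).mp hu
    have h1 : β (x * ⟨u, hQS hu⟩ * x⁻¹) = x * ⟨u, hQS hu⟩ * x⁻¹ := hβ _ hxu
    rw [map_mul, map_mul, map_inv, hβ ⟨u, hQS hu⟩ hu] at h1
    have h2 : (β x : G) * u * (β x : G)⁻¹ = (x : G) * u * (x : G)⁻¹ := congrArg Subtype.val h1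
    show u * ((x : G)⁻¹ * (β x : G)) = (x : G)⁻¹ * (β x : G) * u
    calc u * ((x : G)⁻¹ * (β x : G)) = (x : G)⁻¹ * ((x : G) * u * (x : G)⁻¹) * (β x : G) := by group
      _ = (x : G)⁻¹ * ((β x : G) * u * (β x : G)⁻¹) * (β x : G) := by rw [h2]
      _ = _ := by group
  ext x
  have h1 : β x = x * (x⁻¹ * β x) := by group
  have h2 : β (x⁻¹ * β x) = x⁻¹ * β x := hβ _ (hz x)
  have h3 := aut_pow_apply_of_fixed β h1 h2 (Nat.card Q)
  rw [h3]
  have h4 : (x⁻¹ * β x) ^ Nat.card Q = 1 := by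
    have h5 : (⟨_, hz x⟩ : Q) ^ Nat.card Q = 1 := pow_card_eq_one'
    have h6 : ((⟨_, hz x⟩ : Q) : G) ^ Nat.card Q = 1 := by
      rw [← Subgroup.coe_pow, h5]; rfl
    apply Subtype.ext
    rw [Subgroup.coe_pow, Subgroup.coe_one]
    exact h6
  rw [h4, mul_one]
  rfl

/-- the elements of `N_G(S)` that are known to induce automorphisms of any normal subsystem over
`S` -/
def GenSet (p : ℕ) (S : Subgroup G) : Set G :=
  {x | x ∈ Subgroup.normalizer (S : Set G) ∧ ∃ Q : Subgroup G, Q ≤ S ∧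
    S ≤ Subgroup.normalizer (Q : Set G) ∧ centralizerIn S Q ≤ Q ∧
    x ∈ Subgroup.closure {y | y ∈ Subgroup.normalizer (Q : Set G) ∧ ∃ k : ℕ, orderOf y = p ^ k}}

section

variable [Finite G] {p : ℕ} [Fact p.Prime]

omit [Finite G] in
theorem nmh_mem_groupFS (S Q : Subgroup G) (hQS : Q ≤ S) (y : G)
    (hy : y ∈ Subgroup.normalizer (Q : Set G)) :
    Q.normalizerMonoidHom ⟨y, hy⟩ ∈ (groupFusionSystem S).autGroup Q := by
  rw [mem_autGroup_iff _ hQS, mem_groupFS_hom]
  exact ⟨hQS, fun x => hQS (Q.normalizerMonoidHom ⟨y, hy⟩ x).2, y, fun x => rfl⟩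

omit [Finite G] in
/-- an element of an `Aut_F(P)` of `p`-power order lies in `pgenAut` -/
theorem mem_pgenAut_of_pow {S : Subgroup G} (F : FusionSystem S) (P : Subgroup G) (α : MulAut P)
    (hα : α ∈ F.autGroup P) (m : ℕ) (hm : α ^ (p ^ m) = 1) : α ∈ pgenAut F p P := by
  have hp : p.Prime := Fact.out
  have hd : orderOf (⟨α, hα⟩ : F.autGroup P) ∣ p ^ m := by
    apply orderOf_dvd_of_pow_eq_one
    apply Subtype.ext
    simpa using hm
  obtain ⟨j, -, hj⟩ := (Nat.dvd_prime_pow hp).mp hd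
  exact ⟨⟨α, hα⟩, Subgroup.subset_closure ⟨j, hj⟩, rfl⟩

/-- the key step: extension from `Q` to `S` inside a normal subsystem -/
theorem nmh_mem_of_closure (S : Sylow p G) (E : FusionSystem (S : Subgroup G))
    (hEsat : E.IsSaturated p)
    (hEF : ∀ P : Subgroup G, E.Hom P ⊆ (groupFusionSystem (S : Subgroup G)).Hom P)
    (hpg : ∀ P : Subgroup G, P ≤ S →
      pgenAut (groupFusionSystem (S : Subgroup G)) p P ≤ E.autGroup P)
    (Q : Subgroup G) (hQS : Q ≤ S) (hN : (S : Subgroup G) ≤ Subgroup.normalizer (Q : Set G))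
    (hC : centralizerIn (S : Subgroup G) Q ≤ Q)
    (x : G) (hxS : x ∈ Subgroup.normalizer ((S : Subgroup G) : Set G))
    (hx : x ∈ Subgroup.closure
      {y | y ∈ Subgroup.normalizer (Q : Set G) ∧ ∃ k : ℕ, orderOf y = p ^ k}) :
    (S : Subgroup G).normalizerMonoidHom ⟨x, hxS⟩ ∈ E.autGroup (S : Subgroup G) := by
  have hp : p.Prime := Fact.out
  have hS : IsPGroup p (S : Subgroup G) := S.isPGroup'
  have hfinQ : Finite Q := Finite.of_injective _ (Subgroup.inclusion_injective hQS)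
  -- step 1: the action on `Q` lies in `Aut_E(Q)`
  have step1 : ∀ z ∈ Subgroup.closure
      {y | y ∈ Subgroup.normalizer (Q : Set G) ∧ ∃ k : ℕ, orderOf y = p ^ k},
      ∃ hxQ : z ∈ Subgroup.normalizer (Q : Set G),
      Q.normalizerMonoidHom ⟨z, hxQ⟩ ∈ E.autGroup Q := by
    intro z hz
    induction hz using Subgroup.closure_induction with
    | mem y hy =>
      obtain ⟨hyQ, k, hk⟩ := hy
      refine ⟨hyQ, hpg Q hQS ?_⟩
      apply mem_pgenAut_of_pow _ Q _ (nmh_mem_groupFS (S : Subgroup G) Q hQS y hyQ) k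
      rw [← map_pow]
      have : (⟨y, hyQ⟩ : Subgroup.normalizer (Q : Set G)) ^ (p ^ k) = 1 := by
        apply Subtype.ext
        show y ^ (p ^ k) = 1
        rw [← hk]; exact pow_orderOf_eq_one y
      rw [this, map_one]
    | one =>
      refine ⟨Subgroup.one_mem _, ?_⟩
      have : (⟨1, Subgroup.one_mem _⟩ : Subgroup.normalizer (Q : Set G)) = 1 := rfl
      rw [this, map_one]; exact Subgroup.one_mem _
    | mul a b _ _ ha hb =>
      obtain ⟨haQ, ha'⟩ := ha
      obtain ⟨hbQ, hb'⟩ := hb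
      refine ⟨Subgroup.mul_mem _ haQ hbQ, ?_⟩
      have : (⟨a * b, Subgroup.mul_mem _ haQ hbQ⟩ : Subgroup.normalizer (Q : Set G)) =
          ⟨a, haQ⟩ * ⟨b, hbQ⟩ := rfl
      rw [this, map_mul]; exact Subgroup.mul_mem _ ha' hb'
    | inv a _ ha =>
      obtain ⟨haQ, ha'⟩ := ha
      refine ⟨Subgroup.inv_mem _ haQ, ?_⟩
      have : (⟨a⁻¹, Subgroup.inv_mem _ haQ⟩ : Subgroup.normalizer (Q : Set G)) =
          (⟨a, haQ⟩ : Subgroup.normalizer (Q : Set G))⁻¹ := rfl
      rw [this, map_inv]; exact Subgroup.inv_mem _ ha'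
  obtain ⟨hxQ, hν⟩ := step1 x hx
  set ν : MulAut Q := Q.normalizerMonoidHom ⟨x, hxQ⟩ with hνdef
  -- step 2: extend to `S` inside `E`
  have hnI : normalizerIn (S : Subgroup G) Q = S := by
    unfold normalizerIn
    exact inf_eq_left.mpr hN
  have hFN : E.IsFullyNormalized Q := by
    refine ⟨hQS, fun Q' _ => ?_⟩
    rw [hnI]
    exact Subgroup.card_le_of_le (by unfold normalizerIn; exact inf_le_left)
  have hxinv : ∀ s ∈ (S : Subgroup G), x * s * x⁻¹ ∈ (S : Subgroup G) := fun s hs =>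
    (Subgroup.mem_normalizer_iff.mp hxS s).mp hs
  have hnorm : ∀ α ∈ autInducedBy (S : Subgroup G) Q, ν * α * ν⁻¹ ∈ autInducedBy (S : Subgroup G) Q := by
    intro α hα
    rw [mem_autInducedBy_iff] at hα ⊢
    obtain ⟨s, hs, hαs⟩ := hα
    refine ⟨x * s * x⁻¹, hxinv s hs, fun u => ?_⟩
    have h1 : ((ν⁻¹ u : Q) : G) = x⁻¹ * u * x := by
      have : ν⁻¹ = Q.normalizerMonoidHom (⟨x, hxQ⟩ : Subgroup.normalizer (Q : Set G))⁻¹ := by
        rw [map_inv]
      rw [this]
      show x⁻¹ * (u : G) * x⁻¹⁻¹ = _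
      rw [inv_inv]
    show x * ((α (ν⁻¹ u) : Q) : G) * x⁻¹ = _
    rw [hαs, h1]
    group
  obtain ⟨νh, hνh, hext⟩ := exists_extension hS E hEsat hFN hN hν hnorm
  -- step 3: the difference has `p`-power order
  set F := groupFusionSystem (S : Subgroup G) with hFdef
  have hEF' : ∀ α : MulAut (S : Subgroup G), α ∈ E.autGroup S → α ∈ F.autGroup S := by
    intro α hα
    rw [mem_autGroup_iff _ le_rfl] at hα ⊢
    exact hEF _ hα
  set αS : MulAut (S : Subgroup G) := (S : Subgroup G).normalizerMonoidHom ⟨x, hxS⟩ with hαS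
  have hαSF : αS ∈ F.autGroup S := nmh_mem_groupFS (S : Subgroup G) S le_rfl x hxS
  have hβF : αS⁻¹ * νh ∈ F.autGroup S := Subgroup.mul_mem _ (Subgroup.inv_mem _ hαSF) (hEF' _ hνh)
  have hβfix : ∀ u : (S : Subgroup G), (u : G) ∈ Q → (αS⁻¹ * νh) u = u := by
    intro u hu
    have h1 := hext ⟨u, hu⟩
    have h2 : Subgroup.inclusion hFN.1 (⟨(u : G), hu⟩ : Q) = u := rfl
    rw [h2] at h1
    have h3 : Subgroup.inclusion hFN.1 (ν ⟨(u : G), hu⟩) = αS u := by
      apply Subtype.ext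
      rfl
    rw [MulAut.mul_apply, h1, h3, MulAut.inv_apply_self]
  obtain ⟨m, hm⟩ := IsPGroup.iff_card.mp (hS.to_le hQS)
  have hpow : (αS⁻¹ * νh) ^ (p ^ m) = 1 := by
    rw [← hm]
    exact aut_pow_card_eq_one hQS hN hC _ hβfix
  have hβE : αS⁻¹ * νh ∈ E.autGroup S :=
    hpg S le_rfl (mem_pgenAut_of_pow F S _ hβF m hpow)
  have : αS = νh * (αS⁻¹ * νh)⁻¹ := by group
  rw [this]
  exact Subgroup.mul_mem _ hνh (Subgroup.inv_mem _ hβE)

/-- **Simplicity criterion**: no proper nontrivial fusion-closed subgroups, and `N_G(S)` generated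
by `GenSet`. -/
theorem isSimple_of_gen (S : Sylow p G)
    (h1 : (S : Subgroup G) ≠ ⊥)
    (h2 : ∀ g ∈ Subgroup.normalizer ((S : Subgroup G) : Set G),
      g ∈ Subgroup.closure (GenSet p (S : Subgroup G)))
    (h3 : ∀ T : Subgroup G, T ≤ S → T ≠ ⊥ → FClosed (S : Subgroup G) T → T = S) :
    (groupFusionSystem (S : Subgroup G)).IsSimple p := by
  have hS : IsPGroup p (S : Subgroup G) := S.isPGroup'
  refine ⟨groupFS_saturated S, h1, ?_⟩
  intro T E hE
  obtain ⟨⟨hEsat, hFsat, hsub, hsc, hinv, hfrat⟩, -⟩ := hE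
  by_cases hT : T = ⊥
  · exact Or.inl hT
  right
  have hTS : T = S := h3 T hsc.1 hT (fclosed_of_stronglyClosed hsc)
  subst hTS
  have hSI : StrongInv E (groupFusionSystem (S : Subgroup G)) := strongInv_of_invariant hinv hfrat
  have hpg : ∀ P : Subgroup G, P ≤ S →
      pgenAut (groupFusionSystem (S : Subgroup G)) p P ≤ E.autGroup P := fun P hP =>
    pgenAut_le_of_strongInv hS _ hFsat E hSI hP
  -- every element of `N_G(S)` induces an automorphism of `E`
  have hNE : ∀ g ∈ Subgroup.normalizer ((S : Subgroup G) : Set G),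
      ∃ hg : g ∈ Subgroup.normalizer ((S : Subgroup G) : Set G),
        (S : Subgroup G).normalizerMonoidHom ⟨g, hg⟩ ∈ E.autGroup (S : Subgroup G) := by
    intro g hg
    have hcl := h2 g hg
    induction hcl using Subgroup.closure_induction with
    | mem y hy =>
      obtain ⟨hyS, Q, hQS, hN, hC, hyc⟩ := hy
      exact ⟨hyS, nmh_mem_of_closure S E hEsat hsub hpg Q hQS hN hC y hyS hyc⟩
    | one =>
      refine ⟨Subgroup.one_mem _, ?_⟩
      have : (⟨1, Subgroup.one_mem _⟩ : Subgroup.normalizer ((S : Subgroup G) : Set G)) = 1 := rfl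
      rw [this, map_one]; exact Subgroup.one_mem _
    | mul a b ha0 hb0 ha hb =>
      have haN : a ∈ Subgroup.normalizer ((S : Subgroup G) : Set G) := by
        rw [← Subgroup.closure_eq (Subgroup.normalizer ((S : Subgroup G) : Set G))]
        exact Subgroup.closure_mono (fun z hz => hz.1) ha0
      have hbN : b ∈ Subgroup.normalizer ((S : Subgroup G) : Set G) := by
        rw [← Subgroup.closure_eq (Subgroup.normalizer ((S : Subgroup G) : Set G))]
        exact Subgroup.closure_mono (fun z hz => hz.1) hb0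
      obtain ⟨haS, ha'⟩ := ha haN
      obtain ⟨hbS, hb'⟩ := hb hbN
      refine ⟨Subgroup.mul_mem _ haS hbS, ?_⟩
      have : (⟨a * b, Subgroup.mul_mem _ haS hbS⟩ :
          Subgroup.normalizer ((S : Subgroup G) : Set G)) = ⟨a, haS⟩ * ⟨b, hbS⟩ := rfl
      rw [this, map_mul]; exact Subgroup.mul_mem _ ha' hb'
    | inv a ha0 ha =>
      have haN : a ∈ Subgroup.normalizer ((S : Subgroup G) : Set G) := by
        rw [← Subgroup.closure_eq (Subgroup.normalizer ((S : Subgroup G) : Set G))]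
        exact Subgroup.closure_mono (fun z hz => hz.1) ha0
      obtain ⟨haS, ha'⟩ := ha haN
      refine ⟨Subgroup.inv_mem _ haS, ?_⟩
      have : (⟨a⁻¹, Subgroup.inv_mem _ haS⟩ : Subgroup.normalizer ((S : Subgroup G) : Set G)) =
          (⟨a, haS⟩ : Subgroup.normalizer ((S : Subgroup G) : Set G))⁻¹ := rfl
      rw [this, map_inv]; exact Subgroup.inv_mem _ ha'
  refine ⟨rfl, fun P => Set.Subset.antisymm (hsub P) ?_⟩
  intro φ hφ
  have hP : P ≤ (S : Subgroup G) := hφ.1
  obtain ⟨α, hα, φ₀, hφ₀, hcomp⟩ := hfrat P hP φ hφ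
  have hα' := hα
  rw [mem_autGroup_iff _ le_rfl, mem_groupFS_hom] at hα'
  obtain ⟨-, -, g, hg⟩ := hα'
  have hgN : g ∈ Subgroup.normalizer ((S : Subgroup G) : Set G) := by
    apply Subgroup.mem_normalizer_fintype
    intro n hn
    have := hg ⟨n, hn⟩
    have h' : g * n * g⁻¹ = ((α ⟨n, hn⟩ : (S : Subgroup G)) : G) := this.symm
    rw [h']
    exact (α ⟨n, hn⟩).2
  obtain ⟨hgN', hgE⟩ := hNE g hgN
  have hαeq : α = (S : Subgroup G).normalizerMonoidHom ⟨g, hgN'⟩ := by
    ext y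
    exact hg y
  rw [← hαeq, mem_autGroup_iff _ le_rfl] at hgE
  have hφ₀S : ∀ x : P, φ₀ x ∈ (S : Subgroup G) := (E.le_of_mem hφ₀).2
  have hc := E.comp_mem hφ₀ hgE hφ₀S
  have : φ = ((S : Subgroup G).subtype.comp α.toMonoidHom).comp
      (φ₀.codRestrict (S : Subgroup G) hφ₀S) := by
    ext x
    rw [hcomp x (hφ₀S x)]
    rfl
  rw [this]
  exact hc

omit [Finite G] [Fact p.Prime] in
/-- `GenSet` is compatible with automorphisms of the ambient group -/
theorem genSet_map (S : Subgroup G) (φ : G ≃* G) {y : G} (hy : y ∈ GenSet p S) :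
    φ y ∈ GenSet p (S.map φ.toMonoidHom) := by
  obtain ⟨hyS, Q, hQS, hN, hC, hyc⟩ := hy
  have hnorm : ∀ (H : Subgroup G) (z : G), z ∈ Subgroup.normalizer (H : Set G) →
      φ z ∈ Subgroup.normalizer ((H.map φ.toMonoidHom : Subgroup G) : Set G) := by
    intro H z hz
    rw [Subgroup.mem_normalizer_iff] at hz ⊢
    intro w
    constructor
    · rintro ⟨v, hv, rfl⟩
      refine ⟨z * v * z⁻¹, (hz v).mp hv, ?_⟩
      show φ (z * v * z⁻¹) = φ z * φ v * (φ z)⁻¹
      rw [map_mul, map_mul, map_inv]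
    · rintro ⟨v, hv, hvw⟩
      have hvw' : φ v = φ z * w * (φ z)⁻¹ := hvw
      refine ⟨z⁻¹ * v * z, ?_, ?_⟩
      · apply (hz (z⁻¹ * v * z)).mpr
        have : z * (z⁻¹ * v * z) * z⁻¹ = v := by group
        rw [this]; exact hv
      · show φ (z⁻¹ * v * z) = w
        rw [map_mul, map_mul, map_inv, hvw']
        group
  refine ⟨hnorm S y hyS, Q.map φ.toMonoidHom, Subgroup.map_mono hQS, ?_, ?_, ?_⟩
  · rintro _ ⟨s, hs, rfl⟩
    exact hnorm Q s (hN hs)
  · intro w hw
    rw [mem_centralizerIn_iff] at hw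
    obtain ⟨⟨s, hs, rfl⟩, hcomm⟩ := hw
    refine ⟨s, hC ?_, rfl⟩
    rw [mem_centralizerIn_iff]
    refine ⟨hs, fun u hu => ?_⟩
    have h1 := hcomm (φ u) ⟨u, hu, rfl⟩
    apply φ.injective
    rw [map_mul, map_mul]
    exact h1
  · have h1 : φ.toMonoidHom y ∈ (Subgroup.closure
        {y | y ∈ Subgroup.normalizer (Q : Set G) ∧ ∃ k : ℕ, orderOf y = p ^ k}).map
        φ.toMonoidHom := ⟨y, hyc, rfl⟩
    rw [MonoidHom.map_closure] at h1
    refine Subgroup.closure_mono ?_ h1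
    rintro _ ⟨z, ⟨hzQ, k, hk⟩, rfl⟩
    refine ⟨hnorm Q z hzQ, k, ?_⟩
    rw [← hk]
    exact MulEquiv.orderOf_eq φ z

/-- transport of the criterion along conjugation: it is enough to check one subgroup of the
right order -/
theorem isSimple_of_subgroup_gen (S₀ : Subgroup G)
    (hcard : Nat.card S₀ = p ^ (Nat.card G).factorization p)
    (h1 : S₀ ≠ ⊥)
    (h2 : ∀ g ∈ Subgroup.normalizer (S₀ : Set G), g ∈ Subgroup.closure (GenSet p S₀))
    (h3 : ∀ T : Subgroup G, T ≤ S₀ → T ≠ ⊥ → FClosed S₀ T → T = S₀)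
    (S : Sylow p G) : (groupFusionSystem (S : Subgroup G)).IsSimple p := by
  let P₀ : Sylow p G := Sylow.ofCard S₀ hcard
  obtain ⟨g, hg⟩ := MulAction.exists_smul_eq G P₀ S
  have hS : (S : Subgroup G) = S₀.map (MulAut.conj g).toMonoidHom := by
    rw [← hg]
    show (g • P₀ : Sylow p G).toSubgroup = _
    rw [Sylow.coe_subgroup_smul]
    rfl
  have hmem : ∀ x : G, x ∈ (S : Subgroup G) ↔ g⁻¹ * x * g ∈ S₀ := by
    intro x
    rw [hS]
    constructor
    · rintro ⟨y, hy, rfl⟩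
      have : g⁻¹ * ((MulAut.conj g).toMonoidHom y) * g = y := by
        show g⁻¹ * (g * y * g⁻¹) * g = y
        group
      rw [this]; exact hy
    · intro h
      refine ⟨g⁻¹ * x * g, h, ?_⟩
      show g * (g⁻¹ * x * g) * g⁻¹ = x
      group
  apply isSimple_of_gen S
  · intro hbot
    apply h1
    rw [Subgroup.eq_bot_iff_forall] at hbot ⊢
    intro x hx
    have : g * x * g⁻¹ ∈ (S : Subgroup G) := by
      rw [hmem]
      have : g⁻¹ * (g * x * g⁻¹) * g = x := by group
      rw [this]; exact hx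
    have := hbot _ this
    have h' : x = g⁻¹ * (g * x * g⁻¹) * g := by group
    rw [h', this]; group
  · intro x hx
    have hy : g⁻¹ * x * g ∈ Subgroup.normalizer (S₀ : Set G) := by
      rw [Subgroup.mem_normalizer_iff] at hx ⊢
      intro n
      have e1 : g⁻¹ * (g * n * g⁻¹) * g = n := by group
      have e2 : g⁻¹ * (x * (g * n * g⁻¹) * x⁻¹) * g = g⁻¹ * x * g * n * (g⁻¹ * x * g)⁻¹ := by group
      have h4 := hx (g * n * g⁻¹)
      rw [hmem, hmem, e1, e2] at h4
      exact h4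
    have h4 := h2 _ hy
    have h5 : (MulAut.conj g).toMonoidHom (g⁻¹ * x * g) ∈
        (Subgroup.closure (GenSet p S₀)).map (MulAut.conj g).toMonoidHom := ⟨_, h4, rfl⟩
    have e3 : (MulAut.conj g).toMonoidHom (g⁻¹ * x * g) = x := by
      show g * (g⁻¹ * x * g) * g⁻¹ = x
      group
    rw [e3, MonoidHom.map_closure] at h5
    refine Subgroup.closure_mono ?_ h5
    rintro _ ⟨z, hz, rfl⟩
    rw [hS]
    exact genSet_map S₀ (MulAut.conj g) hz
  · intro T hT hTne hcl
    let T₀ : Subgroup G := T.comap (MulAut.conj g).toMonoidHom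
    have hT₀mem : ∀ x, x ∈ T₀ ↔ g * x * g⁻¹ ∈ T := fun x => Iff.rfl
    have hT₀ : T₀ ≤ S₀ := by
      intro x hx
      have := (hmem _).mp (hT ((hT₀mem x).mp hx))
      have e : g⁻¹ * (g * x * g⁻¹) * g = x := by group
      rwa [e] at this
    have hT₀ne : T₀ ≠ ⊥ := by
      intro hbot
      apply hTne
      rw [Subgroup.eq_bot_iff_forall] at hbot ⊢
      intro x hx
      have : g⁻¹ * x * g ∈ T₀ := by
        rw [hT₀mem]
        have e : g * (g⁻¹ * x * g) * g⁻¹ = x := by group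
        rw [e]; exact hx
      have := hbot _ this
      have h' : x = g * (g⁻¹ * x * g) * g⁻¹ := by group
      rw [h', this]; group
    have hcl₀ : FClosed S₀ T₀ := by
      intro x hx k hk
      rw [hT₀mem] at hx ⊢
      have := hcl _ hx (g * k * g⁻¹) (by
        rw [hmem]
        have e : g⁻¹ * (g * k * g⁻¹ * (g * x * g⁻¹) * (g * k * g⁻¹)⁻¹) * g = k * x * k⁻¹ := by group
        rw [e]; exact hk)
      have e : g * k * g⁻¹ * (g * x * g⁻¹) * (g * k * g⁻¹)⁻¹ = g * (k * x * k⁻¹) * g⁻¹ := by group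
      rwa [e] at this
    have hEq := h3 T₀ hT₀ hT₀ne hcl₀
    apply le_antisymm hT
    intro x hx
    have := (hmem x).mp hx
    rw [← hEq, hT₀mem] at this
    have e : g * (g⁻¹ * x * g) * g⁻¹ = x := by group
    rwa [e] at this

end

end Cfsg.Agent.Lib.Helper16.FusGen
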