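import Mathlib
import Cfsg.Agent.Lib.Helper18.PSLnUnitri
import Cfsg.Agent.Lib.Helper2.SLGen

set_option autoImplicit false

/-! Matrix computations in `SL_n(F)` around the upper unitriangular subgroup `unitri n F`
(helper18): the subgroups `Qs i j` (entry `(i, i+1)` zero), elements normalizing them, the
normalizer of the unitriangular subgroup is upper triangular, decomposition of upper triangular
matrices, generation of the unitriangular subgroup by elementary matrices. -/

namespace Cfsg.Agent.Lib.Helper16.FusPSLn

open Matrix Cfsg.Agent.Lib.Helper18.PSLnAut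

variable {n : ℕ} {F : Type*} [Field F]

/-- the entry just above the diagonal is additive on unitriangular matrices -/
theorem isUni_mul_apply_succ {A B : Matrix (Fin n) (Fin n) F} (hA : IsUni A) (hB : IsUni B)
    {i j : Fin n} (hij : i.val + 1 = j.val) : (A * B) i j = A i j + B i j := by
  have hne : i ≠ j := by
    intro h
    rw [h] at hij
    omega
  rw [Matrix.mul_apply, Finset.sum_eq_add i j hne]
  · rw [hA.2, hB.2, one_mul, mul_one, add_comm]
  · intro k _ hk
    by_cases h1 : k < i
    · rw [hA.1 i k h1, zero_mul]
    · have h2 : j < k := by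
        rw [Fin.lt_def]
        have h3 : i.val ≤ k.val := by
          rw [Fin.lt_def] at h1
          omega
        have h4 : k.val ≠ i.val := fun h => hk.1 (Fin.ext h)
        have h5 : k.val ≠ j.val := fun h => hk.2 (Fin.ext h)
        omega
      rw [hB.1 k j h2, mul_zero]
  · intro h
    exact absurd (Finset.mem_univ i) h
  · intro h
    exact absurd (Finset.mem_univ j) h

section Qs

variable [Finite F]

/-- the unitriangular matrices with zero `(i, i+1)` entry -/
def Qs (i j : Fin n) (hij : i.val + 1 = j.val) : Subgroup (SpecialLinearGroup (Fin n) F) where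
  carrier := {s | s ∈ unitri n F ∧ (s : Matrix (Fin n) (Fin n) F) i j = 0}
  mul_mem' := by
    rintro a b ⟨ha, ha0⟩ ⟨hb, hb0⟩
    refine ⟨mul_mem ha hb, ?_⟩
    rw [Matrix.SpecialLinearGroup.coe_mul, isUni_mul_apply_succ ha hb hij, ha0, hb0, add_zero]
  one_mem' := by
    refine ⟨one_mem _, ?_⟩
    have hne : i ≠ j := by
      intro h
      rw [h] at hij
      omega
    rw [Matrix.SpecialLinearGroup.coe_one, Matrix.one_apply_ne hne]
  inv_mem' := by
    rintro a ⟨ha, ha0⟩
    have hai : a⁻¹ ∈ unitri n F := inv_mem ha
    refine ⟨hai, ?_⟩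
    have hne : i ≠ j := by
      intro h
      rw [h] at hij
      omega
    have h1 := isUni_mul_apply_succ ha hai hij
    rw [← Matrix.SpecialLinearGroup.coe_mul, mul_inv_cancel, Matrix.SpecialLinearGroup.coe_one,
      Matrix.one_apply_ne hne, ha0, zero_add] at h1
    exact h1.symm

theorem mem_Qs {i j : Fin n} {hij : i.val + 1 = j.val} {s : SpecialLinearGroup (Fin n) F} :
    s ∈ Qs i j hij ↔ s ∈ unitri n F ∧ (s : Matrix (Fin n) (Fin n) F) i j = 0 := Iff.rfl

theorem Qs_le (i j : Fin n) (hij : i.val + 1 = j.val) : Qs (F := F) i j hij ≤ unitri n F :=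
  fun _ h => h.1

/-- `Qs` is normalized by the unitriangular subgroup -/
theorem conj_mem_Qs {i j : Fin n} (hij : i.val + 1 = j.val) {u v : SpecialLinearGroup (Fin n) F}
    (hu : u ∈ unitri n F) (hv : v ∈ Qs i j hij) : u * v * u⁻¹ ∈ Qs i j hij := by
  have hui : u⁻¹ ∈ unitri n F := inv_mem hu
  refine ⟨mul_mem (mul_mem hu hv.1) hui, ?_⟩
  have hne : i ≠ j := by
    intro h
    rw [h] at hij
    omega
  have h1 := isUni_mul_apply_succ hu hui hij
  rw [← Matrix.SpecialLinearGroup.coe_mul, mul_inv_cancel, Matrix.SpecialLinearGroup.coe_one,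
    Matrix.one_apply_ne hne] at h1
  have huv : IsUni ((u * v : SpecialLinearGroup (Fin n) F) : Matrix (Fin n) (Fin n) F) :=
    mul_mem hu hv.1
  rw [Matrix.SpecialLinearGroup.coe_mul, isUni_mul_apply_succ huv hui hij, Matrix.SpecialLinearGroup.coe_mul,
    isUni_mul_apply_succ hu hv.1 hij, hv.2, add_zero]
  exact h1.symm

/-- the lower elementary matrices `1 + c E_{i+1,i}` normalize `Qs` -/
theorem lower_conj_mem_Qs {i j : Fin n} (hij : i.val + 1 = j.val) (hji : j ≠ i) (c : F)
    {v : SpecialLinearGroup (Fin n) F} (hv : v ∈ Qs i j hij) :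
    SpecialLinearGroup.transvection hji c * v * (SpecialLinearGroup.transvection hji c)⁻¹ ∈
      Qs i j hij := by
  obtain ⟨hv1, hv0⟩ := hv
  have hvU : IsUni (v : Matrix (Fin n) (Fin n) F) := hv1
  have hlt : i < j := by
    rw [Fin.lt_def]
    omega
  -- the entries of the conjugate
  have hent : ∀ a b : Fin n, ((SpecialLinearGroup.transvection hji c * v *
      (SpecialLinearGroup.transvection hji c)⁻¹ : SpecialLinearGroup (Fin n) F) :
        Matrix (Fin n) (Fin n) F) a b =
      (v : Matrix (Fin n) (Fin n) F) a b + (if a = j then c * (v : Matrix (Fin n) (Fin n) F) i b else 0)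
        - (if b = i then c * (v : Matrix (Fin n) (Fin n) F) a j else 0) := by
    intro a b
    rw [SpecialLinearGroup.transvection_inv, Matrix.SpecialLinearGroup.coe_mul, Matrix.SpecialLinearGroup.coe_mul,
      SpecialLinearGroup.transvection_coe, SpecialLinearGroup.transvection_coe]
    rw [Matrix.add_mul, Matrix.one_mul, Matrix.mul_add, Matrix.mul_one, Matrix.add_mul]
    simp only [Matrix.add_apply]
    have t1 : (single j i c * (v : Matrix (Fin n) (Fin n) F)) a b =
        if a = j then c * (v : Matrix (Fin n) (Fin n) F) i b else 0 := by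
      by_cases h : a = j
      · rw [if_pos h, h, Matrix.single_mul_apply_same]
      · rw [if_neg h, Matrix.single_mul_apply_of_ne _ _ _ _ _ h]
    have t2 : ((v : Matrix (Fin n) (Fin n) F) * single j i (-c)) a b =
        - (if b = i then c * (v : Matrix (Fin n) (Fin n) F) a j else 0) := by
      by_cases h : b = i
      · rw [if_pos h, h, Matrix.mul_single_apply_same]
        ring
      · rw [if_neg h, Matrix.mul_single_apply_of_ne _ _ _ _ _ h, neg_zero]
    have t3 : (single j i c * (v : Matrix (Fin n) (Fin n) F) * single j i (-c)) a b = 0 := by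
      rw [Matrix.single_mul_mul_single, hv0, mul_zero, zero_mul, Matrix.single_zero]
      rfl
    rw [t1, t2, t3]
    ring
  refine ⟨⟨?_, ?_⟩, ?_⟩
  · intro a b hba
    rw [hent, hvU.1 a b hba, zero_add]
    by_cases h1 : a = j
    · by_cases h2 : b = i
      · rw [if_pos h1, if_pos h2, h1, h2, hvU.2, hvU.2, sub_self]
      · rw [if_pos h1, if_neg h2]
        have : b < i := by
          rw [Fin.lt_def] at hba ⊢
          have h3 : b.val ≠ i.val := fun h => h2 (Fin.ext h)
          rw [h1] at hba
          omega
        rw [hvU.1 i b this, mul_zero, sub_zero]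
    · by_cases h2 : b = i
      · rw [if_neg h1, if_pos h2]
        have : j < a := by
          rw [Fin.lt_def] at hba ⊢
          have h3 : a.val ≠ j.val := fun h => h1 (Fin.ext h)
          rw [h2] at hba
          omega
        rw [hvU.1 a j this, mul_zero, sub_zero]
      · rw [if_neg h1, if_neg h2, sub_zero]
  · intro a
    rw [hent, hvU.2]
    by_cases h1 : a = j
    · rw [if_pos h1, if_neg (by rw [h1]; exact hji), h1, hv0, mul_zero, add_zero, sub_zero]
    · by_cases h2 : a = i
      · rw [if_neg h1, if_pos h2, h2, hv0, mul_zero, add_zero, sub_zero]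
      · rw [if_neg h1, if_neg h2, add_zero, sub_zero]
  · rw [hent, hv0, if_neg hji.symm, if_neg hji, add_zero, sub_zero]

end Qs

section diag

/-- entries of a conjugate by a diagonal matrix -/
theorem diag_conj_apply (d : SpecialLinearGroup (Fin n) F) (f : Fin n → F)
    (hd : (d : Matrix (Fin n) (Fin n) F) = diagonal f) (hf : ∀ k, f k ≠ 0)
    (u : SpecialLinearGroup (Fin n) F) (a b : Fin n) :
    ((d * u * d⁻¹ : SpecialLinearGroup (Fin n) F) : Matrix (Fin n) (Fin n) F) a b =
      f a * (u : Matrix (Fin n) (Fin n) F) a b * (f b)⁻¹ := by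
  obtain ⟨x, hx⟩ : ∃ x, x = d * u * d⁻¹ := ⟨_, rfl⟩
  rw [← hx]
  have e : x * d = d * u := by rw [hx]; group
  have e' := congrArg (fun M : SpecialLinearGroup (Fin n) F =>
    (M : Matrix (Fin n) (Fin n) F) a b) e
  beta_reduce at e'
  rw [Matrix.SpecialLinearGroup.coe_mul, Matrix.SpecialLinearGroup.coe_mul, hd,
    Matrix.mul_diagonal, Matrix.diagonal_mul] at e'
  rw [← e', mul_assoc, mul_inv_cancel₀ (hf b), mul_one]

theorem diag_conj_mem_unitri [Finite F] (d : SpecialLinearGroup (Fin n) F) (f : Fin n → F)
    (hd : (d : Matrix (Fin n) (Fin n) F) = diagonal f) (hf : ∀ k, f k ≠ 0)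
    {u : SpecialLinearGroup (Fin n) F} (hu : u ∈ unitri n F) : d * u * d⁻¹ ∈ unitri n F := by
  constructor
  · intro a b hba
    rw [diag_conj_apply d f hd hf, hu.1 a b hba, mul_zero, zero_mul]
  · intro a
    rw [diag_conj_apply d f hd hf, hu.2, mul_one, mul_inv_cancel₀ (hf a)]

theorem diag_conj_transvection (d : SpecialLinearGroup (Fin n) F) (f : Fin n → F)
    (hd : (d : Matrix (Fin n) (Fin n) F) = diagonal f) (hf : ∀ k, f k ≠ 0)
    {i j : Fin n} (hij : i ≠ j) (c : F) :
    d * SpecialLinearGroup.transvection hij c * d⁻¹ =
      SpecialLinearGroup.transvection hij (f i * c * (f j)⁻¹) := by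
  apply Subtype.ext
  ext a b
  rw [diag_conj_apply d f hd hf, SpecialLinearGroup.transvection_coe,
    SpecialLinearGroup.transvection_coe, Matrix.add_apply, Matrix.add_apply,
    Matrix.single_apply, Matrix.single_apply]
  by_cases hab : a = b
  · subst hab
    have h1 : ¬ (i = a ∧ j = a) := by
      rintro ⟨rfl, h2⟩
      exact hij h2.symm
    rw [Matrix.one_apply_eq, if_neg h1, if_neg h1, add_zero, mul_one, mul_inv_cancel₀ (hf a)]
  · rw [Matrix.one_apply_ne hab, zero_add, zero_add]
    by_cases h : i = a ∧ j = b
    · rw [if_pos h, if_pos h, h.1, h.2]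
    · rw [if_neg h, if_neg h, mul_zero, zero_mul]

end diag

section normalizer

variable [Finite F]

/-- a matrix normalizing the unitriangular subgroup is upper triangular -/
theorem upper_of_normalizes (s : SpecialLinearGroup (Fin n) F)
    (h : ∀ u ∈ unitri n F, s⁻¹ * u * s ∈ unitri n F) :
    ∀ a b : Fin n, b < a → (s : Matrix (Fin n) (Fin n) F) a b = 0 := by
  have key : ∀ m : ℕ, ∀ b : Fin n, b.val = m → ∀ a : Fin n, b < a →
      (s : Matrix (Fin n) (Fin n) F) a b = 0 := by
    intro m
    induction m using Nat.strong_induction_on with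
    | _ m ih =>
      intro b hb a hba
      have hba' : b.val < a.val := hba
      let i : Fin n := ⟨a.val - 1, by omega⟩
      have hia : i.val + 1 = a.val := by
        show a.val - 1 + 1 = a.val
        omega
      have hlt : i < a := by
        rw [Fin.lt_def]
        omega
      have hbi : b.val ≤ i.val := by omega
      have hu' := transvection_mem_unitri (F := F) hlt 1
      have hu := h _ hu'
      obtain ⟨u, hudef⟩ : ∃ u, u = s⁻¹ * SpecialLinearGroup.transvection (ne_of_lt hlt) (1 : F) * s :=
        ⟨_, rfl⟩
      rw [← hudef] at hu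
      have e : s * u = SpecialLinearGroup.transvection (ne_of_lt hlt) (1 : F) * s := by
        rw [hudef]; group
      have e' := congrArg (fun M : SpecialLinearGroup (Fin n) F =>
        (M : Matrix (Fin n) (Fin n) F) i b) e
      beta_reduce at e'
      rw [Matrix.SpecialLinearGroup.coe_mul, Matrix.SpecialLinearGroup.coe_mul,
        SpecialLinearGroup.transvection_coe, Matrix.add_mul, Matrix.one_mul, Matrix.add_apply,
        Matrix.single_mul_apply_same, one_mul] at e'
      have hL : ((s : Matrix (Fin n) (Fin n) F) * (u : Matrix (Fin n) (Fin n) F)) i b =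
          (s : Matrix (Fin n) (Fin n) F) i b := by
        rw [Matrix.mul_apply, Finset.sum_eq_single b]
        · rw [hu.2, mul_one]
        · intro c _ hc
          rcases lt_or_gt_of_ne hc with h1 | h1
          · have h2 : (s : Matrix (Fin n) (Fin n) F) i c = 0 :=
              ih c.val (by rw [← hb]; exact h1) c rfl i (by
                rw [Fin.lt_def] at h1 ⊢
                omega)
            rw [h2, zero_mul]
          · rw [hu.1 c b h1, mul_zero]
        · intro h
          exact absurd (Finset.mem_univ b) h
      rw [hL] at e'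
      linear_combination (-1 : F) * e'
  intro a b hba
  exact key b.val b rfl a hba

/-- decomposition of upper triangular matrices of determinant one -/
theorem upper_mem (H : Subgroup (SpecialLinearGroup (Fin n) F)) (hU : unitri n F ≤ H)
    (hD : ∀ (i j : Fin n) (_ : i.val + 1 = j.val) (hne : i ≠ j) (t : F) (ht : t ≠ 0),
      SpecialLinearGroup.diag2n hne t ht ∈ H)
    (s : SpecialLinearGroup (Fin n) F)
    (hs : ∀ a b : Fin n, b < a → (s : Matrix (Fin n) (Fin n) F) a b = 0) : s ∈ H := by
  have hdet : ∀ s : SpecialLinearGroup (Fin n) F,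
      (∀ a b : Fin n, b < a → (s : Matrix (Fin n) (Fin n) F) a b = 0) →
      ∏ k, (s : Matrix (Fin n) (Fin n) F) k k = 1 := by
    intro s hs
    have h : (s : Matrix (Fin n) (Fin n) F).IsUpperTriangular := by
      intro i j hji
      exact hs i j hji
    rw [← Matrix.det_of_isUpperTriangular h]
    exact s.2
  have key : ∀ k : ℕ, ∀ s : SpecialLinearGroup (Fin n) F,
      (∀ a b : Fin n, b < a → (s : Matrix (Fin n) (Fin n) F) a b = 0) →
      (∀ j : Fin n, k < j.val → (s : Matrix (Fin n) (Fin n) F) j j = 1) → s ∈ H := by
    intro k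
    induction k with
    | zero =>
      intro s hs hdiag
      apply hU
      refine ⟨hs, fun j => ?_⟩
      by_cases hj : 0 < j.val
      · exact hdiag j hj
      · have h1 := hdet s hs
        rw [Finset.prod_eq_single j] at h1
        · exact h1
        · intro k _ hk
          apply hdiag
          have : k.val ≠ j.val := fun h => hk (Fin.ext h)
          omega
        · intro h
          exact absurd (Finset.mem_univ j) h
    | succ k ih =>
      intro s hs hdiag
      by_cases hk : k + 1 < n
      · let i₀ : Fin n := ⟨k, by omega⟩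
        let j₀ : Fin n := ⟨k + 1, hk⟩
        have hne : i₀ ≠ j₀ := by
          intro h
          have := congrArg Fin.val h
          simp [i₀, j₀] at this
        have ht : (s : Matrix (Fin n) (Fin n) F) j₀ j₀ ≠ 0 := by
          have h1 := hdet s hs
          have h2 : ∏ k, (s : Matrix (Fin n) (Fin n) F) k k ≠ 0 := by
            rw [h1]; exact one_ne_zero
          exact Finset.prod_ne_zero_iff.mp h2 j₀ (Finset.mem_univ _)
        have hent : ∀ a b : Fin n, ((s * SpecialLinearGroup.diag2n hne _ ht :
            SpecialLinearGroup (Fin n) F) : Matrix (Fin n) (Fin n) F) a b =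
            (s : Matrix (Fin n) (Fin n) F) a b *
              (if b = i₀ then (s : Matrix (Fin n) (Fin n) F) j₀ j₀ else
                if b = j₀ then ((s : Matrix (Fin n) (Fin n) F) j₀ j₀)⁻¹ else 1) := by
          intro a b
          rw [Matrix.SpecialLinearGroup.coe_mul, SpecialLinearGroup.diag2n_coe, Matrix.mul_diagonal]
        have h3 := ih (s * SpecialLinearGroup.diag2n hne _ ht) (by
          intro a b hba
          rw [hent, hs a b hba, zero_mul]) (by
          intro j hj
          rw [hent]
          by_cases hjj : j = j₀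
          · rw [if_neg (by rw [hjj]; exact hne.symm), if_pos hjj, hjj, mul_inv_cancel₀ ht]
          · have h4 : j ≠ i₀ := by
              intro h
              rw [h] at hj
              simp [i₀] at hj
            have h5 : k + 1 < j.val := by
              have : j.val ≠ k + 1 := fun h => hjj (Fin.ext h)
              omega
            rw [if_neg h4, if_neg hjj, mul_one, hdiag j h5])
        have h6 := H.mul_mem h3 (H.inv_mem (hD i₀ j₀ rfl hne _ ht))
        rwa [mul_inv_cancel_right] at h6
      · exact ih s hs (fun j hj => absurd j.2 (by omega))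
  exact key n s hs (fun j hj => absurd j.2 (by omega))

end normalizer

section charp

variable [Fintype F] (p : ℕ) [Fact p.Prime] [CharP F p]

include p in
/-- a conjugate of a unitriangular matrix which is a scalar multiple of a unitriangular matrix is
that matrix -/
theorem scalar_eq_one_of_conj (hn : 1 ≤ n) (s u u' : SpecialLinearGroup (Fin n) F)
    (hu : u ∈ unitri n F) (hu' : u' ∈ unitri n F) (r : F)
    (h : ((s * u * s⁻¹ : SpecialLinearGroup (Fin n) F) : Matrix (Fin n) (Fin n) F) =
      r • (u' : Matrix (Fin n) (Fin n) F)) : r = 1 := by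
  have hp : p.Prime := Fact.out
  obtain ⟨k, hk⟩ := IsPGroup.iff_card.mp (isPGroup_unitri (n := n) (F := F) p)
  have hpow : ∀ v : SpecialLinearGroup (Fin n) F, v ∈ unitri n F → v ^ (p ^ k) = 1 := by
    intro v hv
    have h1 : (⟨v, hv⟩ : unitri n F) ^ Nat.card (unitri n F) = 1 := pow_card_eq_one'
    rw [hk] at h1
    have h2 := congrArg (fun w : unitri n F => (w : SpecialLinearGroup (Fin n) F)) h1
    simpa using h2
  have h2 : (s * u * s⁻¹) ^ (p ^ k) = 1 := by
    rw [conj_pow, hpow u hu]; group
  have h3 := congrArg (fun M : SpecialLinearGroup (Fin n) F =>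
    (M : Matrix (Fin n) (Fin n) F)) h2
  beta_reduce at h3
  rw [Matrix.SpecialLinearGroup.coe_pow, h, smul_pow, ← Matrix.SpecialLinearGroup.coe_pow,
    hpow u' hu', Matrix.SpecialLinearGroup.coe_one] at h3
  have h4 : r ^ (p ^ k) = 1 := by
    have h5 := congrFun (congrFun h3 ⟨0, hn⟩) ⟨0, hn⟩
    simpa using h5
  have h5 : (r - 1) ^ (p ^ k) = 0 := by
    rw [sub_pow_char_pow, h4, one_pow, sub_self]
  exact sub_eq_zero.mp ((pow_eq_zero_iff (pow_ne_zero _ hp.ne_zero)).mp h5)

end charp

section generation

variable [Finite F]

/-- the unitriangular subgroup is generated by the elementary matrices above the diagonal -/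
theorem unitri_le_closure : unitri n F ≤ Subgroup.closure
    {x | ∃ (i j : Fin n) (h : i < j) (c : F),
      x = SpecialLinearGroup.transvection (ne_of_lt h) c} := by
  classical
  let supp : SpecialLinearGroup (Fin n) F → Finset (Fin n × Fin n) := fun u =>
    Finset.univ.filter (fun q => q.1 < q.2 ∧ (u : Matrix (Fin n) (Fin n) F) q.1 q.2 ≠ 0)
  have hsupp_mem : ∀ (u : SpecialLinearGroup (Fin n) F) (x y : Fin n),
      (x, y) ∈ supp u ↔ x < y ∧ (u : Matrix (Fin n) (Fin n) F) x y ≠ 0 := by
    intro u x y
    simp [supp]
  have key : ∀ m : ℕ, ∀ u : SpecialLinearGroup (Fin n) F, u ∈ unitri n F →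
      (supp u).card = m → u ∈ Subgroup.closure
        {x | ∃ (i j : Fin n) (h : i < j) (c : F),
          x = SpecialLinearGroup.transvection (ne_of_lt h) c} := by
    intro m
    induction m with
    | zero =>
      intro u hu hc
      rw [Finset.card_eq_zero] at hc
      have : u = 1 := by
        apply Subtype.ext
        ext a b
        rw [Matrix.SpecialLinearGroup.coe_one]
        rcases lt_trichotomy a b with h | h | h
        · rw [Matrix.one_apply_ne (ne_of_lt h)]
          by_contra hne
          have h1 : (a, b) ∈ supp u := (hsupp_mem u a b).mpr ⟨h, hne⟩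
          rw [hc] at h1
          exact absurd h1 (Finset.notMem_empty _)
        · subst h
          rw [hu.2, Matrix.one_apply_eq]
        · rw [hu.1 a b h, Matrix.one_apply_ne (ne_of_gt h)]
      rw [this]
      exact Subgroup.one_mem _
    | succ m ih =>
      intro u hu hc
      have hne : (supp u).Nonempty := by
        rw [← Finset.card_pos, hc]
        omega
      obtain ⟨⟨a, b⟩, hab, hmin⟩ := Finset.exists_min_image (supp u) (fun q => q.2) hne
      have hab' := (hsupp_mem u a b).mp hab
      obtain ⟨hlt, hnz⟩ := hab'
      have hu'' : u * SpecialLinearGroup.transvection (ne_of_lt hlt)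
          (-(u : Matrix (Fin n) (Fin n) F) a b) ∈ unitri n F :=
        mul_mem hu (transvection_mem_unitri hlt _)
      have hent : ∀ x y : Fin n, ((u * SpecialLinearGroup.transvection (ne_of_lt hlt)
          (-(u : Matrix (Fin n) (Fin n) F) a b) : SpecialLinearGroup (Fin n) F) :
            Matrix (Fin n) (Fin n) F) x y =
          if x = a ∧ y = b then 0 else (u : Matrix (Fin n) (Fin n) F) x y := by
        intro x y
        rw [Matrix.SpecialLinearGroup.coe_mul, SpecialLinearGroup.transvection_coe, Matrix.mul_add,
          Matrix.mul_one, Matrix.add_apply]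
        by_cases hy : y = b
        · subst hy
          rw [Matrix.mul_single_apply_same]
          by_cases hx : x = a
          · subst hx
            rw [if_pos ⟨rfl, rfl⟩, hu.2]
            ring
          · rw [if_neg (fun h => hx h.1)]
            have hxa : (u : Matrix (Fin n) (Fin n) F) x a = 0 := by
              rcases lt_or_gt_of_ne hx with h1 | h1
              · by_contra hne2
                have h2 : (x, a) ∈ supp u := (hsupp_mem u x a).mpr ⟨h1, hne2⟩
                have h3 := hmin _ h2
                exact absurd (lt_of_lt_of_le hlt h3) (lt_irrefl _)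
              · exact hu.1 x a h1
            rw [hxa, zero_mul, add_zero]
        · rw [Matrix.mul_single_apply_of_ne _ _ _ _ _ hy, add_zero, if_neg (fun h => hy h.2)]
      have hsupp : supp (u * SpecialLinearGroup.transvection (ne_of_lt hlt)
          (-(u : Matrix (Fin n) (Fin n) F) a b)) = (supp u).erase (a, b) := by
        ext ⟨x, y⟩
        rw [Finset.mem_erase, hsupp_mem, hsupp_mem, hent]
        by_cases hxy : x = a ∧ y = b
        · rw [if_pos hxy]
          constructor
          · intro h
            exact absurd rfl h.2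
          · intro h
            exact absurd (Prod.ext hxy.1 hxy.2) h.1
        · rw [if_neg hxy]
          constructor
          · intro h
            refine ⟨fun h2 => hxy ?_, h⟩
            exact ⟨congrArg Prod.fst h2, congrArg Prod.snd h2⟩
          · intro h
            exact h.2
      have hc' : (supp (u * SpecialLinearGroup.transvection (ne_of_lt hlt)
          (-(u : Matrix (Fin n) (Fin n) F) a b))).card = m := by
        rw [hsupp, Finset.card_erase_of_mem hab, hc]
        rfl
      have h7 := ih _ hu'' hc'
      have e : u = u * SpecialLinearGroup.transvection (ne_of_lt hlt)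
          (-(u : Matrix (Fin n) (Fin n) F) a b) *
          SpecialLinearGroup.transvection (ne_of_lt hlt) ((u : Matrix (Fin n) (Fin n) F) a b) := by
        rw [mul_assoc, ← SpecialLinearGroup.transvection_add, neg_add_cancel,
          SpecialLinearGroup.transvection_coeff_zero, mul_one]
      rw [e]
      exact Subgroup.mul_mem _ h7 (Subgroup.subset_closure ⟨a, b, hlt, _, rfl⟩)
  intro u hu
  exact key _ u hu rfl

end generation

end Cfsg.Agent.Lib.Helper16.FusPSLn
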