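import Cfsg.Agent.Lib.Helper16.PCore
import Cfsg.Prelude.Def_EvenType

set_option autoImplicit false
open Cfsg
open scoped Pointwise

namespace Cfsg.Agent.Lib.Helper16

variable {G : Type*} [Group G] {p : ℕ}

/-- A nontrivial finite `p`-group contains an element of order `p`. -/
theorem exists_orderOf_eq_prime_of_ne_bot [Finite G] [Fact p.Prime] {Q : Subgroup G}
    (hQ : IsPGroup p Q) (hQ1 : Q ≠ ⊥) : ∃ x ∈ Q, orderOf x = p := by
  have hcard : p ∣ Nat.card Q := by
    rcases hQ.card_eq_or_dvd with h | h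
    · exact absurd (Subgroup.card_eq_one.mp h) hQ1
    · exact h
  obtain ⟨x, hx⟩ := exists_prime_orderOf_dvd_card' p hcard
  exact ⟨x, x.2, by rw [← hx, Subgroup.orderOf_coe]⟩

theorem not_pRankLE_zero_iff [Finite G] [Fact p.Prime] {Q : Subgroup G} (hQ : IsPGroup p Q) :
    ¬ PRankLE p 0 Q ↔ Q ≠ ⊥ := by
  constructor
  · intro h hQ1
    apply h
    intro A _ _
    subst hQ1
    simp only [pow_zero]
    have : Subsingleton (↥(⊥ : Subgroup G)) := inferInstance
    have : Subsingleton ↥A := inferInstance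
    exact (Nat.card_eq_one_iff_unique.mpr ⟨inferInstance, ⟨1⟩⟩).le
  · intro hQ1 h
    obtain ⟨x, hx, hxo⟩ := exists_orderOf_eq_prime_of_ne_bot hQ hQ1
    have h1 := h (Subgroup.zpowers (⟨x, hx⟩ : Q)) inferInstance (by
      intro a ha
      obtain ⟨k, rfl⟩ := Subgroup.mem_zpowers_iff.mp ha
      have : (⟨x, hx⟩ : Q) ^ p = 1 := by
        apply Subtype.ext
        simp only [Subgroup.coe_pow, Subgroup.coe_one]
        rw [← hxo]; exact pow_orderOf_eq_one x
      rw [← zpow_natCast, ← zpow_mul, mul_comm, zpow_mul, zpow_natCast, this, one_zpow])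
    rw [Nat.card_zpowers, pow_zero] at h1
    have : orderOf (⟨x, hx⟩ : Q) = p := by rw [← Subgroup.orderOf_coe]; exact hxo
    rw [this] at h1
    exact absurd h1 (by have := (Fact.out : p.Prime).one_lt; omega)

/-- `Γ_{P,1}(G) ≤ Y` iff `N_G(Q) ≤ Y` for all nontrivial `Q ≤ P` (`P` a `p`-group). -/
theorem kGeneratedCore_one_le_iff [Finite G] [Fact p.Prime] {P : Subgroup G} (hP : IsPGroup p P)
    (Y : Subgroup G) :
    kGeneratedCore p 1 P ≤ Y ↔ ∀ Q : Subgroup G, Q ≤ P → Q ≠ ⊥ → Subgroup.normalizer (Q : Set G) ≤ Y := by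
  unfold kGeneratedCore
  rw [iSup_le_iff]
  constructor
  · intro h Q hQP hQ1
    exact h ⟨Q, hQP, (not_pRankLE_zero_iff (hP.to_le hQP)).mpr hQ1⟩
  · rintro h ⟨Q, hQP, hQ⟩
    exact h Q hQP ((not_pRankLE_zero_iff (hP.to_le hQP)).mp hQ)

/-- normalizers grow in finite `p`-groups (relative version). -/
theorem exists_mem_normalizer_not_mem [Finite G] [Fact p.Prime] {P Q : Subgroup G}
    (hP : IsPGroup p P) (hQP : Q ≤ P) (hne : Q ≠ P) :
    ∃ x ∈ P, x ∈ Subgroup.normalizer (Q : Set G) ∧ x ∉ Q := by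
  have : Group.IsNilpotent P := hP.isNilpotent
  have hnc : NormalizerCondition P := Group.normalizerCondition_of_isNilpotent
  have hlt : Q.subgroupOf P < ⊤ := by
    rw [lt_top_iff_ne_top]
    intro h
    rw [Subgroup.subgroupOf_eq_top] at h
    exact hne (le_antisymm hQP h)
  have h1 := hnc _ hlt
  obtain ⟨x, hxN, hxQ⟩ := SetLike.exists_of_lt h1
  refine ⟨x, x.2, ?_, ?_⟩
  · rw [Subgroup.mem_normalizer_iff] at hxN ⊢
    intro h
    by_cases hh : h ∈ P
    · have := hxN ⟨h, hh⟩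
      simpa [Subgroup.mem_subgroupOf] using this
    · constructor
      · intro hq; exact absurd (hQP hq) hh
      · intro hq
        exfalso; apply hh
        have h2 : (x : G) * h * (x : G)⁻¹ ∈ P := hQP hq
        have : h = (x : G)⁻¹ * ((x : G) * h * (x : G)⁻¹) * (x : G) := by group
        rw [this]
        exact P.mul_mem (P.mul_mem (P.inv_mem x.2) h2) x.2
  · intro hq
    apply hxQ
    rw [Subgroup.mem_subgroupOf]; exact hq

theorem mem_map_conj_iff (Q : Subgroup G) (g x : G) :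
    x ∈ Q.map (MulAut.conj g).toMonoidHom ↔ g⁻¹ * x * g ∈ Q := by
  constructor
  · rintro ⟨q, hq, rfl⟩
    simpa [mul_assoc] using hq
  · intro h
    exact ⟨g⁻¹ * x * g, h, by simp [mul_assoc]⟩

theorem map_conj_map_conj (Q : Subgroup G) (g h : G) :
    (Q.map (MulAut.conj g).toMonoidHom).map (MulAut.conj h).toMonoidHom =
      Q.map (MulAut.conj (h * g)).toMonoidHom := by
  ext x
  simp only [mem_map_conj_iff]
  have : g⁻¹ * (h⁻¹ * x * h) * g = (h * g)⁻¹ * x * (h * g) := by group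
  rw [this]

theorem map_conj_one (Q : Subgroup G) : Q.map (MulAut.conj (1 : G)).toMonoidHom = Q := by
  ext x; simp

theorem map_conj_eq_self_of_mem {Y : Subgroup G} {y : G} (hy : y ∈ Y) :
    Y.map (MulAut.conj y).toMonoidHom = Y := by
  ext x
  rw [mem_map_conj_iff]
  constructor
  · intro h
    have : x = y * (y⁻¹ * x * y) * y⁻¹ := by group
    rw [this]; exact Y.mul_mem (Y.mul_mem hy h) (Y.inv_mem hy)
  · intro h
    exact Y.mul_mem (Y.mul_mem (Y.inv_mem hy) h) hy

theorem normalizer_map_conj (Q : Subgroup G) (g : G) :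
    Subgroup.normalizer ((Q.map (MulAut.conj g).toMonoidHom : Subgroup G) : Set G) =
      (Subgroup.normalizer (Q : Set G)).map (MulAut.conj g).toMonoidHom :=
  (Subgroup.map_equiv_normalizer_eq Q (MulAut.conj g)).symm

theorem isPGroup_map_conj {Q : Subgroup G} (hQ : IsPGroup p Q) (g : G) :
    IsPGroup p (Q.map (MulAut.conj g).toMonoidHom) := hQ.map _

theorem map_conj_ne_bot {Q : Subgroup G} (hQ : Q ≠ ⊥) (g : G) :
    Q.map (MulAut.conj g).toMonoidHom ≠ ⊥ := by
  intro h
  apply hQ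
  rw [Subgroup.map_eq_bot_iff_of_injective _ (MulAut.conj g).injective] at h
  exact h

/-- Sylow's theorem inside a subgroup `Y` containing a Sylow `p`-subgroup `P` of `G`. -/
theorem exists_conj_le_sylow [Finite G] [Fact p.Prime] {Y : Subgroup G} (P : Sylow p G)
    (hPY : (P : Subgroup G) ≤ Y) {Q : Subgroup G} (hQY : Q ≤ Y) (hQ : IsPGroup p Q) :
    ∃ y ∈ Y, Q.map (MulAut.conj y).toMonoidHom ≤ P := by
  have hQ' : IsPGroup p (Q.subgroupOf Y) := hQ.comap_subtype
  obtain ⟨R, hR⟩ := hQ'.exists_le_sylow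
  obtain ⟨y, hy⟩ := MulAction.exists_smul_eq Y R (P.subtype hPY)
  refine ⟨y, y.2, ?_⟩
  rintro x ⟨q, hq, rfl⟩
  have h1 : (⟨q, hQY hq⟩ : Y) ∈ (R : Subgroup Y) := hR (by rw [Subgroup.mem_subgroupOf]; exact hq)
  have h2 : y * ⟨q, hQY hq⟩ * y⁻¹ ∈ ((y • R : Sylow p Y) : Subgroup Y) := by
    rw [Sylow.coe_subgroup_smul]
    rw [Subgroup.mem_pointwise_smul_iff_inv_smul_mem]
    simpa [MulAut.smul_def, mul_assoc] using h1
  rw [hy, Sylow.coe_subtype, Subgroup.mem_subgroupOf] at h2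
  simpa using h2

theorem spe_sylow_le [Finite G] [Fact p.Prime] {Y : Subgroup G} {P : Sylow p G}
    (hdiv : p ∣ Nat.card G) (hΓ : kGeneratedCore p 1 (P : Subgroup G) ≤ Y) :
    (P : Subgroup G) ≤ Y := by
  have h1 := (kGeneratedCore_one_le_iff P.isPGroup' Y).mp hΓ P le_rfl (P.ne_bot_of_dvd_card hdiv)
  exact Subgroup.le_normalizer.trans h1


/-- Fact 2: a strongly `p`-embedded subgroup contains the normalizer of each of its nontrivial
`p`-subgroups. -/
theorem spe_normalizer_le [Finite G] [Fact p.Prime] {Y : Subgroup G} (h : IsStronglyPEmbedded p Y)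
    {Q : Subgroup G} (hQY : Q ≤ Y) (hQ : IsPGroup p Q) (hQ1 : Q ≠ ⊥) :
    Subgroup.normalizer (Q : Set G) ≤ Y := by
  obtain ⟨hdiv, hne, P, hΓ⟩ := h
  have hPY := spe_sylow_le hdiv hΓ
  obtain ⟨y, hy, hle⟩ := exists_conj_le_sylow P hPY hQY hQ
  have h1 := (kGeneratedCore_one_le_iff P.isPGroup' Y).mp hΓ _ hle (map_conj_ne_bot hQ1 y)
  rw [normalizer_map_conj] at h1
  intro x hx
  have h2 : y * x * y⁻¹ ∈ Y := h1 ⟨x, hx, by simp⟩
  have : x = y⁻¹ * (y * x * y⁻¹) * y := by group
  rw [this]; exact Y.mul_mem (Y.mul_mem (Y.inv_mem hy) h2) hy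

theorem spe_exists_sylow_le [Finite G] [Fact p.Prime] {Y : Subgroup G}
    (h : IsStronglyPEmbedded p Y) : ∃ P : Sylow p G, (P : Subgroup G) ≤ Y := by
  obtain ⟨hdiv, hne, P, hΓ⟩ := h
  exact ⟨P, spe_sylow_le hdiv hΓ⟩

/-- A `p`-subgroup `Q` of `D` which is maximal among `p`-subgroups of `D`, in the form of the image
of a Sylow subgroup of `D`. -/
theorem sylow_map_maximal [Fact p.Prime] {D : Subgroup G} (R : Sylow p D) {Q' : Subgroup G}
    (hQ' : IsPGroup p Q') (hle : (R : Subgroup D).map D.subtype ≤ Q') (hQ'D : Q' ≤ D) :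
    Q' = (R : Subgroup D).map D.subtype := by
  have h1 : IsPGroup p (Q'.subgroupOf D) := hQ'.comap_subtype
  have h2 : (R : Subgroup D) ≤ Q'.subgroupOf D := by
    intro x hx
    rw [Subgroup.mem_subgroupOf]
    exact hle ⟨x, hx, rfl⟩
  have h3 := R.is_maximal' h1 h2
  apply le_antisymm _ hle
  intro x hx
  have hx' : (⟨x, hQ'D hx⟩ : D) ∈ Q'.subgroupOf D := by
    rw [Subgroup.mem_subgroupOf]; exact hx
  rw [h3] at hx'
  exact ⟨⟨x, hQ'D hx⟩, hx', rfl⟩

/-- Converse of Fact 2. -/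
theorem spe_of_normalizers [Finite G] [Fact p.Prime] {Y : Subgroup G} (hne : Y ≠ ⊤)
    (hpY : p ∣ Nat.card Y)
    (h : ∀ Q : Subgroup G, Q ≤ Y → IsPGroup p Q → Q ≠ ⊥ → Subgroup.normalizer (Q : Set G) ≤ Y) :
    IsStronglyPEmbedded p Y := by
  have hdiv : p ∣ Nat.card G := hpY.trans (Subgroup.card_subgroup_dvd_card Y)
  refine ⟨hdiv, hne, ?_⟩
  obtain ⟨P0⟩ : Nonempty (Sylow p Y) := inferInstance
  set Q0 : Subgroup G := (P0 : Subgroup Y).map Y.subtype with hQ0
  have hQ0p : IsPGroup p Q0 := P0.isPGroup'.map _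
  have hQ0Y : Q0 ≤ Y := Subgroup.map_subtype_le _
  have hQ01 : Q0 ≠ ⊥ := by
    intro hb
    rw [hQ0, Subgroup.map_eq_bot_iff_of_injective _ Y.subtype_injective] at hb
    exact P0.ne_bot_of_dvd_card hpY hb
  obtain ⟨P, hP⟩ := hQ0p.exists_le_sylow
  have hEq : Q0 = P := by
    by_contra hne'
    obtain ⟨x, hxP, hxN, hxQ⟩ := exists_mem_normalizer_not_mem P.isPGroup' hP hne'
    have hxY : x ∈ Y := h Q0 hQ0Y hQ0p hQ01 hxN
    have hR : Q0 ⊔ Subgroup.zpowers x ≤ P := sup_le hP (by rw [Subgroup.zpowers_le]; exact hxP)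
    have hRY : Q0 ⊔ Subgroup.zpowers x ≤ Y := sup_le hQ0Y (by rw [Subgroup.zpowers_le]; exact hxY)
    have := sylow_map_maximal P0 (P.isPGroup'.to_le hR) le_sup_left hRY
    apply hxQ
    rw [hQ0, ← this]
    exact (le_sup_right : Subgroup.zpowers x ≤ _) (Subgroup.mem_zpowers x)
  refine ⟨P, ?_⟩
  rw [kGeneratedCore_one_le_iff P.isPGroup']
  intro Q hQP hQ1
  exact h Q (hQP.trans (hEq ▸ hQ0Y)) (P.isPGroup'.to_le hQP) hQ1

theorem card_map_conj [Finite G] (Q : Subgroup G) (g : G) :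
    Nat.card (Q.map (MulAut.conj g).toMonoidHom) = Nat.card Q :=
  Subgroup.card_map_of_injective (MulAut.conj g).injective

theorem mem_normalizer_of_map_conj_le [Finite G] {Q : Subgroup G} {g : G}
    (h : Q.map (MulAut.conj g).toMonoidHom ≤ Q) : g ∈ Subgroup.normalizer (Q : Set G) := by
  rw [Subgroup.mem_normalizer_iff_map_conj_eq]
  exact Subgroup.eq_of_le_of_card_ge h (card_map_conj Q g).ge

/-- Fact 3: a strongly `p`-embedded subgroup meets its other conjugates in `p'`-groups. -/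
theorem spe_inter_conj [Finite G] [Fact p.Prime] {Y : Subgroup G} (h : IsStronglyPEmbedded p Y)
    {g : G} (hg : g ∉ Y) : ¬ p ∣ Nat.card ↥(Y ⊓ Y.map (MulAut.conj g).toMonoidHom) := by
  intro hdvd
  set D : Subgroup G := Y ⊓ Y.map (MulAut.conj g).toMonoidHom with hD
  obtain ⟨R⟩ : Nonempty (Sylow p D) := inferInstance
  set Q : Subgroup G := (R : Subgroup D).map D.subtype with hQdef
  have hQp : IsPGroup p Q := R.isPGroup'.map _
  have hQD : Q ≤ D := Subgroup.map_subtype_le _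
  have hQ1 : Q ≠ ⊥ := by
    intro hb
    rw [hQdef, Subgroup.map_eq_bot_iff_of_injective _ D.subtype_injective] at hb
    exact R.ne_bot_of_dvd_card hdvd hb
  have hQY : Q ≤ Y := hQD.trans inf_le_left
  have hQYg : Q ≤ Y.map (MulAut.conj g).toMonoidHom := hQD.trans inf_le_right
  -- Q^{g⁻¹} ≤ Y
  have hQgY : Q.map (MulAut.conj g⁻¹).toMonoidHom ≤ Y := by
    rintro x ⟨q, hq, rfl⟩
    have := hQYg hq
    rw [mem_map_conj_iff] at this
    simpa using this
  have hN1 : Subgroup.normalizer (Q : Set G) ≤ Y := spe_normalizer_le h hQY hQp hQ1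
  have hN2 : Subgroup.normalizer (Q : Set G) ≤ Y.map (MulAut.conj g).toMonoidHom := by
    have h1 := spe_normalizer_le h hQgY (isPGroup_map_conj hQp _) (map_conj_ne_bot hQ1 _)
    rw [normalizer_map_conj] at h1
    intro x hx
    rw [mem_map_conj_iff]
    exact h1 ⟨x, hx, by simp⟩
  have hND : Subgroup.normalizer (Q : Set G) ≤ D := le_inf hN1 hN2
  -- a Sylow subgroup of G inside Y containing Q
  obtain ⟨P, hPY⟩ := spe_exists_sylow_le h
  obtain ⟨y, hy, hle⟩ := exists_conj_le_sylow P hPY hQY hQp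
  -- P1 = P^{y⁻¹}
  set P1 : Sylow p G := y⁻¹ • P with hP1
  have hP1Y : (P1 : Subgroup G) ≤ Y := by
    intro x hx
    rw [hP1, Sylow.coe_subgroup_smul, Subgroup.mem_pointwise_smul_iff_inv_smul_mem] at hx
    have hx' : y * x * y⁻¹ ∈ (P : Subgroup G) := by simpa [MulAut.smul_def] using hx
    have := hPY hx'
    have e : x = y⁻¹ * (y * x * y⁻¹) * y := by group
    rw [e]; exact Y.mul_mem (Y.mul_mem (Y.inv_mem hy) this) hy
  have hQP1 : Q ≤ (P1 : Subgroup G) := by
    intro x hx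
    rw [hP1, Sylow.coe_subgroup_smul, Subgroup.mem_pointwise_smul_iff_inv_smul_mem]
    have : y * x * y⁻¹ ∈ (P : Subgroup G) := hle ⟨x, hx, by simp⟩
    simpa [MulAut.smul_def] using this
  have hQeq : Q = (P1 : Subgroup G) := by
    by_contra hne'
    obtain ⟨x, hxP, hxN, hxQ⟩ := exists_mem_normalizer_not_mem P1.isPGroup' hQP1 hne'
    have hxD : x ∈ D := hND hxN
    have hR : Q ⊔ Subgroup.zpowers x ≤ P1 := sup_le hQP1 (by rw [Subgroup.zpowers_le]; exact hxP)
    have hRD : Q ⊔ Subgroup.zpowers x ≤ D := sup_le hQD (by rw [Subgroup.zpowers_le]; exact hxD)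
    have := sylow_map_maximal R (P1.isPGroup'.to_le hR) le_sup_left hRD
    apply hxQ
    rw [hQdef, ← this]
    exact (le_sup_right : Subgroup.zpowers x ≤ _) (Subgroup.mem_zpowers x)
  -- now Q^{g⁻¹} ≤ Y is conjugate in Y into P1 = Q
  obtain ⟨z, hz, hle2⟩ := exists_conj_le_sylow P1 hP1Y hQgY (isPGroup_map_conj hQp _)
  rw [map_conj_map_conj, ← hQeq] at hle2
  have hzg : z * g⁻¹ ∈ Y := hN1 (mem_normalizer_of_map_conj_le hle2)
  apply hg
  have e : g = (z * g⁻¹)⁻¹ * z := by group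
  rw [e]; exact Y.mul_mem (Y.inv_mem hzg) hz

/-- `p ∣ |Q|` for a nontrivial finite `p`-group. -/
theorem dvd_card_of_isPGroup_ne_bot [Fact p.Prime] {Q : Subgroup G} (hQ : IsPGroup p Q)
    (hQ1 : Q ≠ ⊥) : p ∣ Nat.card Q := by
  rcases hQ.card_eq_or_dvd with h1 | h1
  · exact absurd (Subgroup.card_eq_one.mp h1) hQ1
  · exact h1

/-- If `H` is strongly `p`-embedded and `R` is a Sylow `p`-subgroup of `H ∩ C` (nontrivial), then
(the image of) `R` is a maximal `p`-subgroup of `C`. -/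
theorem spe_sylow_inter_maximal [Finite G] [Fact p.Prime] {H : Subgroup G}
    (h : IsStronglyPEmbedded p H) (C : Subgroup G) (hdvd : p ∣ Nat.card ↥(H ⊓ C))
    (R : Sylow p ↥(H ⊓ C)) {R'' : Subgroup G} (hR'' : IsPGroup p R'')
    (hle : (R : Subgroup ↥(H ⊓ C)).map (H ⊓ C).subtype ≤ R'') (hR''C : R'' ≤ C) :
    R'' = (R : Subgroup ↥(H ⊓ C)).map (H ⊓ C).subtype := by
  set R' : Subgroup G := (R : Subgroup ↥(H ⊓ C)).map (H ⊓ C).subtype with hR'
  have hR'p : IsPGroup p R' := R.isPGroup'.map _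
  have hR'D : R' ≤ H ⊓ C := Subgroup.map_subtype_le _
  have hR'1 : R' ≠ ⊥ := by
    intro hb
    rw [hR', Subgroup.map_eq_bot_iff_of_injective _ (H ⊓ C).subtype_injective] at hb
    exact R.ne_bot_of_dvd_card hdvd hb
  by_contra hne
  obtain ⟨x, hxR, hxN, hxQ⟩ := exists_mem_normalizer_not_mem hR'' hle (Ne.symm hne)
  have hxH : x ∈ H := spe_normalizer_le h (hR'D.trans inf_le_left) hR'p hR'1 hxN
  have hxC : x ∈ C := hR''C hxR
  have hS : R' ⊔ Subgroup.zpowers x ≤ R'' := sup_le hle (by rw [Subgroup.zpowers_le]; exact hxR)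
  have hSD : R' ⊔ Subgroup.zpowers x ≤ H ⊓ C :=
    sup_le hR'D (by rw [Subgroup.zpowers_le]; exact ⟨hxH, hxC⟩)
  have := sylow_map_maximal R (hR''.to_le hS) le_sup_left hSD
  apply hxQ
  rw [hR', ← this]
  exact (le_sup_right : Subgroup.zpowers x ≤ _) (Subgroup.mem_zpowers x)

/-- Sylow conjugacy in a subgroup `C`, in terms of subgroups of the ambient group. -/
theorem exists_conj_le_of_maximal [Finite G] [Fact p.Prime] {C R1 R2 : Subgroup G}
    (hR1C : R1 ≤ C) (hR1 : IsPGroup p R1) (hR2C : R2 ≤ C) (hR2 : IsPGroup p R2)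
    (hmax : ∀ R'' : Subgroup G, IsPGroup p R'' → R2 ≤ R'' → R'' ≤ C → R'' = R2) :
    ∃ c ∈ C, R1.map (MulAut.conj c).toMonoidHom ≤ R2 := by
  have hR1' : IsPGroup p (R1.subgroupOf C) := hR1.comap_subtype
  have hR2' : IsPGroup p (R2.subgroupOf C) := hR2.comap_subtype
  obtain ⟨S1, hS1⟩ := hR1'.exists_le_sylow
  obtain ⟨S2, hS2⟩ := hR2'.exists_le_sylow
  have h2 : (S2 : Subgroup C).map C.subtype = R2 := by
    apply hmax _ (S2.isPGroup'.map _) _ (Subgroup.map_subtype_le _)
    intro x hx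
    exact ⟨⟨x, hR2C hx⟩, hS2 (by rw [Subgroup.mem_subgroupOf]; exact hx), rfl⟩
  obtain ⟨c, hc⟩ := MulAction.exists_smul_eq C S1 S2
  refine ⟨c, c.2, ?_⟩
  rintro x ⟨r, hr, rfl⟩
  have h1 : (⟨r, hR1C hr⟩ : C) ∈ (S1 : Subgroup C) := hS1 (by rw [Subgroup.mem_subgroupOf]; exact hr)
  have h3 : c * ⟨r, hR1C hr⟩ * c⁻¹ ∈ ((c • S1 : Sylow p C) : Subgroup C) := by
    rw [Sylow.coe_subgroup_smul, Subgroup.mem_pointwise_smul_iff_inv_smul_mem]
    simpa [MulAut.smul_def, mul_assoc] using h1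
  rw [hc] at h3
  rw [← h2]
  exact ⟨_, h3, by simp⟩

theorem centralizer_singleton_le_normalizer_zpowers (x : G) :
    Subgroup.centralizer ({x} : Set G) ≤ Subgroup.normalizer ((Subgroup.zpowers x : Subgroup G) : Set G) := by
  intro c hc
  rw [Subgroup.mem_centralizer_iff] at hc
  have hcomm : Commute x c := hc x (Set.mem_singleton x)
  have key : ∀ k : ℤ, c * x ^ k * c⁻¹ = x ^ k := by
    intro k
    have h1 : Commute (x ^ k) c := hcomm.zpow_left k
    calc c * x ^ k * c⁻¹ = (c * x ^ k) * c⁻¹ := rfl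
      _ = (x ^ k * c) * c⁻¹ := by rw [h1.eq]
      _ = x ^ k := by group
  rw [Subgroup.mem_normalizer_iff]
  intro h
  constructor
  · rintro ⟨k, rfl⟩
    rw [key k]; exact ⟨k, rfl⟩
  · rintro ⟨k, hk⟩
    have hk' : x ^ k = c * h * c⁻¹ := hk
    have : h = c⁻¹ * (c * h * c⁻¹) * c := by group
    rw [this, ← hk', ← key k]
    refine ⟨k, ?_⟩
    show x ^ k = c⁻¹ * (c * x ^ k * c⁻¹) * c
    group

theorem spe_centralizer_le [Finite G] [Fact p.Prime] {H : Subgroup G}
    (h : IsStronglyPEmbedded p H) {x : G} (hx : x ∈ H) (hxo : orderOf x = p) :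
    Subgroup.centralizer ({x} : Set G) ≤ H := by
  have hp : p.Prime := Fact.out
  have hzp : IsPGroup p (Subgroup.zpowers x) :=
    IsPGroup.of_card (n := 1) (by rw [Nat.card_zpowers, hxo, pow_one])
  have hzH : Subgroup.zpowers x ≤ H := by rw [Subgroup.zpowers_le]; exact hx
  have hz1 : Subgroup.zpowers x ≠ ⊥ := by
    intro hb
    rw [Subgroup.zpowers_eq_bot] at hb
    rw [hb, orderOf_one] at hxo
    exact hp.one_lt.ne hxo
  exact (centralizer_singleton_le_normalizer_zpowers x).trans (spe_normalizer_le h hzH hzp hz1)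

theorem spe_dvd_card [Finite G] [Fact p.Prime] {H : Subgroup G}
    (h : IsStronglyPEmbedded p H) : p ∣ Nat.card H := by
  obtain ⟨P, hPH⟩ := spe_exists_sylow_le h
  obtain ⟨hdiv, -, -⟩ := h
  have h1 : (P : Subgroup G) ≠ ⊥ := P.ne_bot_of_dvd_card hdiv
  exact (dvd_card_of_isPGroup_ne_bot P.isPGroup' h1).trans (Subgroup.card_dvd_of_le hPH)

/-- A nontrivial normal subgroup of a finite `p`-group meets the centre nontrivially. -/
theorem exists_central_of_normal [Fact p.Prime] {R : Type*} [Group R] [Finite R]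
    (hR : IsPGroup p R) (Q : Subgroup R) [Q.Normal] (hQ : Q ≠ ⊥) :
    ∃ x ∈ Q, x ≠ 1 ∧ x ∈ Subgroup.center R := by
  have hQp : IsPGroup p Q := hR.to_subgroup Q
  have hdvd : p ∣ Nat.card Q := dvd_card_of_isPGroup_ne_bot hQp hQ
  have hfix : (1 : Q) ∈ MulAction.fixedPoints (ConjAct R) Q := by
    intro g
    exact smul_one g
  obtain ⟨b, hb, hb1⟩ :=
    (hR.of_equiv ConjAct.toConjAct).exists_fixed_point_of_prime_dvd_card_of_fixed_point
      Q hdvd hfix
  refine ⟨b, b.2, ?_, ?_⟩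
  · intro h
    apply hb1
    exact Subtype.ext h.symm
  · rw [Subgroup.mem_center_iff]
    intro g
    have := hb (ConjAct.toConjAct g)
    have h2 : g * (b : R) * g⁻¹ = b := by
      have h3 := congrArg Subtype.val this
      rw [ConjAct.Subgroup.val_conj_smul, ConjAct.toConjAct_smul_eq_mulAut_conj] at h3
      simpa using h3
    calc g * ↑b = (g * ↑b * g⁻¹) * g := by group
      _ = ↑b * g := by rw [h2]


/-- Ambient form: if the `p`-group `R'` normalizes its nontrivial subgroup `Q`, then `Q` contains an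
element of order `p` centralized by `R'`. -/
theorem exists_orderOf_eq_prime_central [Finite G] [Fact p.Prime] {Q R' : Subgroup G}
    (hR' : IsPGroup p R') (hQR : Q ≤ R') (hnorm : R' ≤ Subgroup.normalizer (Q : Set G))
    (hQ1 : Q ≠ ⊥) : ∃ x ∈ Q, orderOf x = p ∧ ∀ r ∈ R', r * x = x * r := by
  have hnormal : (Q.subgroupOf R').Normal := by
    constructor
    intro n hn g
    rw [Subgroup.mem_subgroupOf] at hn ⊢
    have hg := hnorm g.2
    rw [Subgroup.mem_normalizer_iff] at hg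
    have := (hg n).mp hn
    simpa using this
  have hne : Q.subgroupOf R' ≠ ⊥ := by
    intro h
    rw [Subgroup.subgroupOf_eq_bot] at h
    apply hQ1
    rw [eq_bot_iff]
    intro x hx
    have : x ∈ Q ⊓ R' := ⟨hx, hQR hx⟩
    rw [h.eq_bot] at this
    exact this
  obtain ⟨z, hzQ, hz1, hzc⟩ := exists_central_of_normal hR' (Q.subgroupOf R') hne
  have hZne : Q.subgroupOf R' ⊓ Subgroup.center R' ≠ ⊥ := by
    intro h
    have : z ∈ Q.subgroupOf R' ⊓ Subgroup.center R' := ⟨hzQ, hzc⟩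
    rw [h, Subgroup.mem_bot] at this
    exact hz1 this
  have hZp : IsPGroup p ↥(Q.subgroupOf R' ⊓ Subgroup.center R') := hR'.to_subgroup _
  obtain ⟨x, hx, hxo⟩ := exists_orderOf_eq_prime_of_ne_bot hZp hZne
  refine ⟨x, ?_, ?_, ?_⟩
  · have h1 : x ∈ Q.subgroupOf R' := hx.1
    rw [Subgroup.mem_subgroupOf] at h1
    exact h1
  · rw [Subgroup.orderOf_coe]; exact hxo
  · intro r hr
    have h1 : x ∈ Subgroup.center R' := hx.2
    rw [Subgroup.mem_center_iff] at h1
    have h2 := h1 ⟨r, hr⟩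
    exact congrArg Subtype.val h2

theorem normalizer_bot_eq_top : Subgroup.normalizer (((⊥ : Subgroup G) : Subgroup G) : Set G) = ⊤ := by
  rw [eq_top_iff]
  intro g _
  rw [Subgroup.mem_normalizer_iff]
  intro h
  simp only [Subgroup.mem_bot]
  constructor
  · intro h1; rw [h1]; simp
  · intro h1
    have : h = g⁻¹ * (g * h * g⁻¹) * g := by group
    rw [this, h1]; simp

theorem centralizer_singleton_conj_le {H : Subgroup G} {h x : G} (hh : h ∈ H)
    (hC : Subgroup.centralizer ({h * x * h⁻¹} : Set G) ≤ H) :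
    Subgroup.centralizer ({x} : Set G) ≤ H := by
  intro c hc
  rw [Subgroup.mem_centralizer_iff] at hc
  have e := hc x (Set.mem_singleton x)
  have h1 : h * c * h⁻¹ ∈ Subgroup.centralizer ({h * x * h⁻¹} : Set G) := by
    rw [Subgroup.mem_centralizer_iff]
    intro y hy
    rw [Set.mem_singleton_iff] at hy
    subst hy
    calc h * x * h⁻¹ * (h * c * h⁻¹) = h * (x * c) * h⁻¹ := by group
      _ = h * (c * x) * h⁻¹ := by rw [e]
      _ = h * c * h⁻¹ * (h * x * h⁻¹) := by group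
  have h2 := hC h1
  have : c = h⁻¹ * (h * c * h⁻¹) * h := by group
  rw [this]
  exact H.mul_mem (H.mul_mem (H.inv_mem hh) h2) hh

/-- Criterion for strong `p`-embedding in terms of centralizers of elements of order `p` and the
normalizer of a Sylow `p`-subgroup. -/
theorem spe_of_centralizers [Finite G] [Fact p.Prime] {H : Subgroup G} (hH : H ≠ ⊤)
    (S : Sylow p H)
    (hC : ∀ x : G, x ∈ (S : Subgroup H).map H.subtype → orderOf x = p →
      Subgroup.centralizer ({x} : Set G) ≤ H)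
    (hN : Subgroup.normalizer (((S : Subgroup H).map H.subtype : Subgroup G) : Set G) ≤ H) :
    IsStronglyPEmbedded p H := by
  set S' : Subgroup G := (S : Subgroup H).map H.subtype with hS'
  have hS'p : IsPGroup p S' := S.isPGroup'.map _
  have hS'H : S' ≤ H := Subgroup.map_subtype_le _
  -- Step A
  have hS'1 : S' ≠ ⊥ := by
    intro h
    rw [h, normalizer_bot_eq_top] at hN
    exact hH (eq_top_iff.mpr hN)
  -- Step B
  have hpH : p ∣ Nat.card H :=
    (dvd_card_of_isPGroup_ne_bot hS'p hS'1).trans (Subgroup.card_dvd_of_le hS'H)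
  -- S' is a maximal p-subgroup of H
  have hSmax : ∀ R'' : Subgroup G, IsPGroup p R'' → S' ≤ R'' → R'' ≤ H → R'' = S' :=
    fun R'' h1 h2 h3 => sylow_map_maximal S h1 h2 h3
  -- every p-subgroup of H is conjugate in H into S'
  have hconj : ∀ Q : Subgroup G, Q ≤ H → IsPGroup p Q →
      ∃ h ∈ H, Q.map (MulAut.conj h).toMonoidHom ≤ S' :=
    fun Q hQH hQ => exists_conj_le_of_maximal hQH hQ hS'H hS'p hSmax
  -- Step C
  have hC' : ∀ x : G, x ∈ H → orderOf x = p → Subgroup.centralizer ({x} : Set G) ≤ H := by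
    intro x hx hxo
    have hzp : IsPGroup p (Subgroup.zpowers x) :=
      IsPGroup.of_card (n := 1) (by rw [Nat.card_zpowers, hxo, pow_one])
    have hzH : Subgroup.zpowers x ≤ H := by rw [Subgroup.zpowers_le]; exact hx
    obtain ⟨h, hh, hle⟩ := hconj _ hzH hzp
    have hxS : h * x * h⁻¹ ∈ S' := hle ⟨x, Subgroup.mem_zpowers x, by simp⟩
    have hxo' : orderOf (h * x * h⁻¹) = p := by
      have := (MulAut.conj h).orderOf_eq x
      simp only [MulAut.conj_apply] at this
      rw [this, hxo]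
    exact centralizer_singleton_conj_le hh (hC _ hxS hxo')
  -- Step D
  have hD : ∀ n : ℕ, ∀ Q : Subgroup G, Q ≤ H → IsPGroup p Q → Q ≠ ⊥ →
      Nat.card H - Nat.card Q = n → Subgroup.normalizer (Q : Set G) ≤ H := by
    intro n
    induction n using Nat.strong_induction_on with
    | _ n ih =>
    intro Q hQH hQ hQ1 hn
    set NH : Subgroup G := H ⊓ Subgroup.normalizer (Q : Set G) with hNH
    have hQNH : Q ≤ NH := le_inf hQH Subgroup.le_normalizer
    obtain ⟨R, hR⟩ := (hQ.comap_subtype : IsPGroup p (Q.subgroupOf NH)).exists_le_sylow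
    set R' : Subgroup G := (R : Subgroup NH).map NH.subtype with hR'
    have hR'p : IsPGroup p R' := R.isPGroup'.map _
    have hR'NH : R' ≤ NH := Subgroup.map_subtype_le _
    have hQR' : Q ≤ R' := by
      intro x hx
      exact ⟨⟨x, hQNH hx⟩, hR (by rw [Subgroup.mem_comap]; exact hx), rfl⟩
    have hRmax : ∀ R'' : Subgroup G, IsPGroup p R'' → R' ≤ R'' → R'' ≤ NH → R'' = R' :=
      fun R'' h1 h2 h3 => sylow_map_maximal R h1 h2 h3
    by_cases hcase : R' = Q
    · -- Q is Sylow in N_H(Q); so Q is a conjugate of S'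
      obtain ⟨h, hh, hle⟩ := hconj Q hQH hQ
      set S1 : Subgroup G := S'.map (MulAut.conj h⁻¹).toMonoidHom with hS1
      have hS1p : IsPGroup p S1 := isPGroup_map_conj hS'p _
      have hQS1 : Q ≤ S1 := by
        intro x hx
        rw [hS1, mem_map_conj_iff]
        have : h * x * h⁻¹ ∈ S' := hle ⟨x, hx, by simp⟩
        simpa using this
      have hS1H : S1 ≤ H := by
        intro x hx
        rw [hS1, mem_map_conj_iff] at hx
        have h1 := hS'H hx
        have e : x = h⁻¹ * (h⁻¹⁻¹ * x * h⁻¹) * h := by group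
        rw [e]; exact H.mul_mem (H.mul_mem (H.inv_mem hh) h1) hh
      have hQeq : Q = S1 := by
        by_contra hne'
        obtain ⟨x, hxS, hxN, hxQ⟩ := exists_mem_normalizer_not_mem hS1p hQS1 hne'
        have hxNH : x ∈ NH := ⟨hS1H hxS, hxN⟩
        have h1 : Q ⊔ Subgroup.zpowers x ≤ S1 :=
          sup_le hQS1 (by rw [Subgroup.zpowers_le]; exact hxS)
        have h2 : Q ⊔ Subgroup.zpowers x ≤ NH :=
          sup_le hQNH (by rw [Subgroup.zpowers_le]; exact hxNH)
        have h3 : R' ≤ Q ⊔ Subgroup.zpowers x := by rw [hcase]; exact le_sup_left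
        have := hRmax _ (hS1p.to_le h1) h3 h2
        apply hxQ
        rw [← hcase, ← this]
        exact (le_sup_right : Subgroup.zpowers x ≤ _) (Subgroup.mem_zpowers x)
      rw [hQeq, hS1, normalizer_map_conj]
      intro g hg
      rw [mem_map_conj_iff] at hg
      have h1 := hN hg
      have e : g = h⁻¹ * (h⁻¹⁻¹ * g * h⁻¹) * h := by group
      rw [e]; exact H.mul_mem (H.mul_mem (H.inv_mem hh) h1) hh
    · -- Q < R'
      have hR'1 : R' ≠ ⊥ := by
        intro hb
        apply hQ1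
        rw [eq_bot_iff, ← hb]
        exact hQR'
      have hR'H : R' ≤ H := hR'NH.trans inf_le_left
      have hR'N : R' ≤ Subgroup.normalizer (Q : Set G) := hR'NH.trans inf_le_right
      have hcardlt : Nat.card Q < Nat.card R' := by
        by_contra hge
        rw [not_lt] at hge
        exact hcase (Subgroup.eq_of_le_of_card_ge hQR' hge).symm
      have hcardle : Nat.card R' ≤ Nat.card H := Subgroup.card_le_of_le hR'H
      have hNR' : Subgroup.normalizer (R' : Set G) ≤ H :=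
        ih (Nat.card H - Nat.card R') (by omega) R' hR'H hR'p hR'1 rfl
      obtain ⟨x, hxQ, hxo, hxc⟩ := exists_orderOf_eq_prime_central hR'p hQR' hR'N hQ1
      intro g hg
      -- x' = g x g⁻¹ ∈ Q
      have hx'Q : g * x * g⁻¹ ∈ Q := by
        rw [Subgroup.mem_normalizer_iff] at hg
        exact (hg x).mp hxQ
      have hxo' : orderOf (g * x * g⁻¹) = p := by
        have := (MulAut.conj g).orderOf_eq x
        simp only [MulAut.conj_apply] at this
        rw [this, hxo]
      have hCx' := hC' _ (hQH hx'Q) hxo'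
      have hRgH : R'.map (MulAut.conj g).toMonoidHom ≤ H := by
        rintro y ⟨r, hr, rfl⟩
        apply hCx'
        rw [Subgroup.mem_centralizer_iff]
        intro z hz
        rw [Set.mem_singleton_iff] at hz
        subst hz
        have e := hxc r hr
        simp only [MulEquiv.coe_toMonoidHom, MulAut.conj_apply]
        calc g * x * g⁻¹ * (g * r * g⁻¹) = g * (x * r) * g⁻¹ := by group
          _ = g * (r * x) * g⁻¹ := by rw [e]
          _ = g * r * g⁻¹ * (g * x * g⁻¹) := by group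
      have hRgN : R'.map (MulAut.conj g).toMonoidHom ≤ Subgroup.normalizer (Q : Set G) := by
        have h1 : R'.map (MulAut.conj g).toMonoidHom ≤
            (Subgroup.normalizer (Q : Set G)).map (MulAut.conj g).toMonoidHom :=
          Subgroup.map_mono hR'N
        rwa [map_conj_eq_self_of_mem hg] at h1
      have hRgNH : R'.map (MulAut.conj g).toMonoidHom ≤ NH := le_inf hRgH hRgN
      obtain ⟨c, hc, hle⟩ := exists_conj_le_of_maximal hRgNH (isPGroup_map_conj hR'p g) hR'NH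
        hR'p hRmax
      rw [map_conj_map_conj] at hle
      have hcg : c * g ∈ H := hNR' (mem_normalizer_of_map_conj_le hle)
      have hcH : c ∈ H := hc.1
      have e : g = c⁻¹ * (c * g) := by group
      rw [e]; exact H.mul_mem (H.inv_mem hcH) hcg
  exact spe_of_normalizers hH hpH (fun Q hQH hQ hQ1 => hD _ Q hQH hQ hQ1 rfl)

end Cfsg.Agent.Lib.Helper16
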