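import Mathlib
import Cfsg.Agent.Lib.Helper16.FusSUD
import Cfsg.Agent.Lib.Helper16.FusPSLnA
import Cfsg.Agent.Lib.Helper16.FusGen
import Cfsg.Agent.Lib.Helper16.StronglyEmbedded

set_option autoImplicit false

/-! The projective layer for the unitary group `UJ σ n`: the quotient by the scalar subgroup, the
image `Ub` of the unitriangular subgroup, the images `Qb` of the unipotent radicals of the minimal
parabolic subgroups, and the generation of `N(Ub)` by `GenSet`. -/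

namespace Cfsg.Agent.Lib.Helper16.FusSU

open Matrix

open Cfsg.Agent.Lib.Helper18.PSLnAut (IsUni unitri mem_unitri isPGroup_unitri)

open Cfsg Cfsg.FusionSystem Cfsg.Agent.Lib.Helper16.FusGen Cfsg.Agent.Lib.Helper3.Fus
  Cfsg.Agent.Lib.Helper26

variable {K : Type*} [Field K] {n : ℕ}

/-- the scalar elements of the group -/
def ZJ (σ : K →+* K) (n : ℕ) : Subgroup (UJ σ n) where
  carrier := {g | ∃ c : K,
    ((g : SpecialLinearGroup (Fin n) K) : Matrix (Fin n) (Fin n) K) = c • 1}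
  one_mem' := ⟨1, by rw [one_smul]; rfl⟩
  mul_mem' := by
    rintro a b ⟨c, hc⟩ ⟨d, hd⟩
    refine ⟨c * d, ?_⟩
    rw [Subgroup.coe_mul, Matrix.SpecialLinearGroup.coe_mul, hc, hd, Matrix.smul_mul,
      Matrix.one_mul, smul_smul]
  inv_mem' := by
    rintro a ⟨c, hc⟩
    refine ⟨σ c, ?_⟩
    rw [Subgroup.coe_inv, UJ_inv_coe a.2, hc, adj_smul, adj_one]

theorem mem_ZJ {σ : K →+* K} {a : UJ σ n} : a ∈ ZJ σ n ↔ ∃ c : K,
    ((a : SpecialLinearGroup (Fin n) K) : Matrix (Fin n) (Fin n) K) = c • 1 := Iff.rfl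

theorem ZJ_comm {σ : K →+* K} {a : UJ σ n} (ha : a ∈ ZJ σ n) (g : UJ σ n) : g * a = a * g := by
  obtain ⟨c, hc⟩ := ha
  apply Subtype.ext
  apply Subtype.ext
  rw [Subgroup.coe_mul, Subgroup.coe_mul, Matrix.SpecialLinearGroup.coe_mul,
    Matrix.SpecialLinearGroup.coe_mul, hc, Matrix.mul_smul, Matrix.smul_mul, Matrix.mul_one,
    Matrix.one_mul]

instance ZJ_normal (σ : K →+* K) (n : ℕ) : (ZJ σ n).Normal := by
  constructor
  intro a ha g
  rw [ZJ_comm ha g, mul_inv_cancel_right]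
  exact ha

/-- the projective group -/
abbrev PGJ (σ : K →+* K) (n : ℕ) : Type _ := (UJ σ n) ⧸ ZJ σ n

/-- the quotient map -/
def piJ (σ : K →+* K) (n : ℕ) : UJ σ n →* PGJ σ n := QuotientGroup.mk' (ZJ σ n)

theorem piJ_surjective (σ : K →+* K) (n : ℕ) : Function.Surjective (piJ σ n) :=
  QuotientGroup.mk'_surjective _

theorem piJ_eq_one_iff {σ : K →+* K} {a : UJ σ n} : piJ σ n a = 1 ↔ ∃ c : K,
    ((a : SpecialLinearGroup (Fin n) K) : Matrix (Fin n) (Fin n) K) = c • 1 := by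
  unfold piJ
  rw [QuotientGroup.mk'_apply, QuotientGroup.eq_one_iff]
  exact mem_ZJ

theorem piJ_eq_iff {σ : K →+* K} {a b : UJ σ n} : piJ σ n a = piJ σ n b ↔ ∃ c : K,
    ((b : SpecialLinearGroup (Fin n) K) : Matrix (Fin n) (Fin n) K) =
      c • ((a : SpecialLinearGroup (Fin n) K) : Matrix (Fin n) (Fin n) K) := by
  unfold piJ
  rw [QuotientGroup.mk'_apply, QuotientGroup.mk'_apply, QuotientGroup.eq, mem_ZJ]
  constructor
  · rintro ⟨c, hc⟩
    refine ⟨c, ?_⟩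
    have h1 : b = a * (a⁻¹ * b) := by rw [mul_inv_cancel_left]
    have h2 := congrArg (fun x : UJ σ n =>
      ((x : SpecialLinearGroup (Fin n) K) : Matrix (Fin n) (Fin n) K)) h1
    beta_reduce at h2
    rw [Subgroup.coe_mul, Matrix.SpecialLinearGroup.coe_mul, hc, Matrix.mul_smul,
      Matrix.mul_one] at h2
    exact h2
  · rintro ⟨c, hc⟩
    refine ⟨c, ?_⟩
    rw [Subgroup.coe_mul, Matrix.SpecialLinearGroup.coe_mul, hc, Matrix.mul_smul,
      ← Matrix.SpecialLinearGroup.coe_mul, ← Subgroup.coe_mul, inv_mul_cancel]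
    rfl

/-- the image in the projective group of a subgroup of `SL_n` -/
def imJ (σ : K →+* K) (H : Subgroup (SpecialLinearGroup (Fin n) K)) : Subgroup (PGJ σ n) :=
  (H.subgroupOf (UJ σ n)).map (piJ σ n)

theorem mem_imJ {σ : K →+* K} {H : Subgroup (SpecialLinearGroup (Fin n) K)} {x : PGJ σ n} :
    x ∈ imJ σ H ↔ ∃ (g : SpecialLinearGroup (Fin n) K) (hg : g ∈ UJ σ n), g ∈ H ∧
      piJ σ n ⟨g, hg⟩ = x := by
  constructor
  · rintro ⟨a, ha, rfl⟩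
    exact ⟨a.1, a.2, ha, rfl⟩
  · rintro ⟨g, hg, hgH, rfl⟩
    exact ⟨⟨g, hg⟩, hgH, rfl⟩

theorem imJ_mono (σ : K →+* K) {H H' : Subgroup (SpecialLinearGroup (Fin n) K)} (h : H ≤ H') :
    imJ (n := n) σ H ≤ imJ σ H' := by
  intro x hx
  rw [mem_imJ] at hx ⊢
  obtain ⟨g, hg, hgH, rfl⟩ := hx
  exact ⟨g, hg, h hgH, rfl⟩

theorem piJ_conj {σ : K →+* K} {g u : SpecialLinearGroup (Fin n) K} (hg : g ∈ UJ σ n)
    (hu : u ∈ UJ σ n) :
    piJ σ n ⟨g, hg⟩ * piJ σ n ⟨u, hu⟩ * (piJ σ n ⟨g, hg⟩)⁻¹ =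
      piJ σ n ⟨g * u * g⁻¹, (UJ σ n).mul_mem ((UJ σ n).mul_mem hg hu) ((UJ σ n).inv_mem hg)⟩ := by
  rw [← map_inv, ← map_mul, ← map_mul]
  rfl

section finite

variable [Fintype K]

/-- the image of the unitriangular subgroup -/
def UbJ (σ : K →+* K) (n : ℕ) : Subgroup (PGJ σ n) := imJ σ (unitri n K)

/-- the images of the unipotent radicals -/
def QbJ (σ : K →+* K) (n j : ℕ) (hj : 2 * j + 2 ≤ n) : Subgroup (PGJ σ n) := imJ σ (QJ σ n j hj)

theorem QbJ_le (σ : K →+* K) (j : ℕ) (hj : 2 * j + 2 ≤ n) : QbJ σ n j hj ≤ UbJ σ n :=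
  imJ_mono σ (QJ_le_unitri σ j hj)

theorem UbJ_le_normalizer_QbJ (σ : K →+* K) (j : ℕ) (hj : 2 * j + 2 ≤ n) :
    UbJ σ n ≤ Subgroup.normalizer ((QbJ σ n j hj : Subgroup _) : Set _) := by
  intro x hx
  obtain ⟨u, hu, huU, rfl⟩ := mem_imJ.mp hx
  apply Subgroup.mem_normalizer_fintype
  intro y hy
  obtain ⟨v, hv, hvQ, rfl⟩ := mem_imJ.mp hy
  rw [piJ_conj hu hv]
  exact mem_imJ.mpr ⟨_, _, unitri_conj_mem_QJ hu huU hvQ, rfl⟩

section charp

variable (p : ℕ) [Fact p.Prime] [CharP K p]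

include p in
theorem isPGroup_UbJ (σ : K →+* K) : IsPGroup p (UbJ σ n) := by
  have h1 : IsPGroup p ((unitri n K).subgroupOf (UJ σ n)) :=
    (isPGroup_unitri (n := n) (F := K) p).comap_subtype
  exact h1.map _

include p in
/-- an element of the group whose image normalizes `UbJ` normalizes the unitriangular subgroup -/
theorem normalizes_of_piJ_mem_normalizer {σ : K →+* K} (hn : 1 ≤ n)
    {g : SpecialLinearGroup (Fin n) K} (hg : g ∈ UJ σ n)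
    (hs : piJ σ n ⟨g, hg⟩ ∈ Subgroup.normalizer ((UbJ σ n : Subgroup _) : Set _)) :
    ∀ u ∈ UJ σ n, u ∈ unitri n K → g⁻¹ * u * g ∈ unitri n K := by
  intro u hu huU
  have hs' : (piJ σ n ⟨g, hg⟩)⁻¹ ∈ Subgroup.normalizer ((UbJ σ n : Subgroup _) : Set _) :=
    Subgroup.inv_mem _ hs
  have h1 : (piJ σ n ⟨g, hg⟩)⁻¹ * piJ σ n ⟨u, hu⟩ * ((piJ σ n ⟨g, hg⟩)⁻¹)⁻¹ ∈ UbJ σ n :=
    (Subgroup.mem_normalizer_iff.mp hs' _).mp (mem_imJ.mpr ⟨u, hu, huU, rfl⟩)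
  rw [← map_inv, ← map_inv, ← map_mul, ← map_mul] at h1
  obtain ⟨u', hu', hu'U, hpi⟩ := mem_imJ.mp h1
  rw [piJ_eq_iff] at hpi
  obtain ⟨r, hr⟩ := hpi
  have h2 : ((g⁻¹ * u * g⁻¹⁻¹ : SpecialLinearGroup (Fin n) K) : Matrix (Fin n) (Fin n) K) =
      r • (u' : Matrix (Fin n) (Fin n) K) := hr
  have hr1 := FusPSLn.scalar_eq_one_of_conj p hn g⁻¹ u u' huU hu'U r h2
  rw [hr1, one_smul] at h2
  have : g⁻¹ * u * g = u' := by
    apply Subtype.ext
    rw [← h2, inv_inv]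
  rw [this]
  exact hu'U

/-- commuting images of unitriangular matrices come from commuting matrices -/
theorem commute_of_piJ_commute {σ : K →+* K} (hn : 1 ≤ n) {u y : SpecialLinearGroup (Fin n) K}
    (hu : u ∈ UJ σ n) (hy : y ∈ UJ σ n) (huU : u ∈ unitri n K) (hyU : y ∈ unitri n K)
    (h : piJ σ n ⟨u, hu⟩ * piJ σ n ⟨y, hy⟩ = piJ σ n ⟨y, hy⟩ * piJ σ n ⟨u, hu⟩) :
    u * y = y * u := by
  rw [← map_mul, ← map_mul, piJ_eq_iff] at h
  obtain ⟨r, hr⟩ := h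
  have hr' : ((y * u : SpecialLinearGroup (Fin n) K) : Matrix (Fin n) (Fin n) K) =
      r • ((u * y : SpecialLinearGroup (Fin n) K) : Matrix (Fin n) (Fin n) K) := hr
  have h1 : IsUni ((u * y : SpecialLinearGroup (Fin n) K) : Matrix (Fin n) (Fin n) K) :=
    mul_mem huU hyU
  have h2 : IsUni ((y * u : SpecialLinearGroup (Fin n) K) : Matrix (Fin n) (Fin n) K) :=
    mul_mem hyU huU
  have h3 := congrFun (congrFun hr' ⟨0, hn⟩) ⟨0, hn⟩
  rw [Matrix.smul_apply, h1.2, h2.2, smul_eq_mul, mul_one] at h3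
  rw [← h3, one_smul] at hr'
  exact (Subtype.ext hr').symm

theorem centralizerIn_QbJ_le {σ : K →+* K} (hσ : InvOK σ) (hn : 4 ≤ n) (j : ℕ)
    (hj : 2 * j + 2 ≤ n) : centralizerIn (UbJ σ n) (QbJ σ n j hj) ≤ QbJ σ n j hj := by
  intro x hx
  rw [mem_centralizerIn_iff] at hx
  obtain ⟨hxU, hcomm⟩ := hx
  obtain ⟨u, hu, huU, rfl⟩ := mem_imJ.mp hxU
  refine mem_imJ.mpr ⟨u, hu, ?_, rfl⟩
  apply mem_QJ_of_comm hσ hn j hj hu huU
  intro w hw
  have hwJ := QJ_le_UJ σ j hj hw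
  have hwU := QJ_le_unitri σ j hj hw
  have h1 := hcomm (piJ σ n ⟨w, hwJ⟩) (mem_imJ.mpr ⟨w, hwJ, hw, rfl⟩)
  exact (commute_of_piJ_commute (by omega) hwJ hu hwU huU h1).symm

include p in
/-- the image of a unitriangular element lies in `GenSet` -/
theorem piJ_unitri_mem_genSet {σ : K →+* K} {u : SpecialLinearGroup (Fin n) K} (hu : u ∈ UJ σ n)
    (huU : u ∈ unitri n K) : piJ σ n ⟨u, hu⟩ ∈ GenSet p (UbJ σ n) := by
  have hmem : piJ σ n ⟨u, hu⟩ ∈ UbJ σ n := mem_imJ.mpr ⟨u, hu, huU, rfl⟩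
  have hP : IsPGroup p (UbJ σ n) := isPGroup_UbJ p σ
  refine ⟨Subgroup.le_normalizer hmem, UbJ σ n, le_rfl, Subgroup.le_normalizer, inf_le_left, ?_⟩
  apply Subgroup.subset_closure
  refine ⟨Subgroup.le_normalizer hmem, ?_⟩
  obtain ⟨k, hk⟩ := (IsPGroup.iff_orderOf.mp hP) ⟨_, hmem⟩
  exact ⟨k, by rw [← hk, Subgroup.orderOf_mk]⟩

end charp

end finite

end Cfsg.Agent.Lib.Helper16.FusSU
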