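import Mathlib
import Cfsg.Agent.Lib.Helper16.FusSUA

set_option autoImplicit false

/-! The change of basis from the standard hermitian form to the hermitian form with antidiagonal
Gram matrix. -/

namespace Cfsg.Agent.Lib.Helper16.FusSU

open Matrix

variable {K : Type*} [Field K] {n : ℕ}

/-- conjugate transpose -/
def st (σ : K →+* K) (M : Matrix (Fin n) (Fin n) K) : Matrix (Fin n) (Fin n) K := (M.map σ)ᵀ

theorem st_apply (σ : K →+* K) (M : Matrix (Fin n) (Fin n) K) (i j : Fin n) :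
    st σ M i j = σ (M j i) := rfl

theorem st_mul (σ : K →+* K) (A B : Matrix (Fin n) (Fin n) K) :
    st σ (A * B) = st σ B * st σ A := by
  unfold st
  rw [Matrix.map_mul, Matrix.transpose_mul]

theorem st_st {σ : K →+* K} (hσ : ∀ x, σ (σ x) = x) (M : Matrix (Fin n) (Fin n) K) :
    st σ (st σ M) = M := by
  ext i j
  rw [st_apply, st_apply, hσ]

/-- the antidiagonal matrix -/
def Jm (K : Type*) [Field K] (n : ℕ) : Matrix (Fin n) (Fin n) K :=
  Matrix.of fun i j => if j = i.rev then 1 else 0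

theorem Jm_apply (i j : Fin n) : Jm K n i j = if j = i.rev then 1 else 0 := rfl

theorem Jm_mul_apply (A : Matrix (Fin n) (Fin n) K) (i j : Fin n) :
    (Jm K n * A) i j = A i.rev j := by
  rw [Matrix.mul_apply, Finset.sum_eq_single i.rev]
  · rw [Jm_apply, if_pos rfl, one_mul]
  · intro k _ hk
    rw [Jm_apply, if_neg hk, zero_mul]
  · intro h
    exact absurd (Finset.mem_univ _) h

theorem mul_Jm_apply (A : Matrix (Fin n) (Fin n) K) (i j : Fin n) :
    (A * Jm K n) i j = A i j.rev := by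
  rw [Matrix.mul_apply, Finset.sum_eq_single j.rev]
  · rw [Jm_apply, Fin.rev_rev, if_pos rfl, mul_one]
  · intro k _ hk
    rw [Jm_apply, if_neg (fun h => hk (by rw [h, Fin.rev_rev])), mul_zero]
  · intro h
    exact absurd (Finset.mem_univ _) h

theorem Jm_mul_Jm : Jm K n * Jm K n = 1 := by
  ext i j
  rw [Jm_mul_apply, Jm_apply, Fin.rev_rev, Matrix.one_apply]
  by_cases h : i = j
  · rw [if_pos h, if_pos h.symm]
  · rw [if_neg h, if_neg (fun h' => h h'.symm)]

theorem st_Jm (σ : K →+* K) : st σ (Jm K n) = Jm K n := by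
  ext i j
  rw [st_apply, Jm_apply, Jm_apply]
  by_cases h : j = i.rev
  · rw [if_pos h, if_pos (by rw [h, Fin.rev_rev]), map_one]
  · rw [if_neg h, if_neg (fun h' => h (by rw [h', Fin.rev_rev])), map_zero]

theorem adj_eq (σ : K →+* K) (M : Matrix (Fin n) (Fin n) K) :
    adj σ M = Jm K n * st σ M * Jm K n := by
  ext i j
  rw [mul_Jm_apply, Jm_mul_apply, st_apply, adj_apply]

/-- transport of unitary matrices for the standard form to the antidiagonal form -/
theorem conj_mem_UJ {σ : K →+* K} (hσ : ∀ x, σ (σ x) = x) {P Q g : Matrix (Fin n) (Fin n) K}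
    (hPQ : P * Q = 1) (hQ : Q = st σ P * Jm K n) (hg : g * st σ g = 1) :
    (P * g * Q) * adj σ (P * g * Q) = 1 := by
  have hQP : Q * P = 1 := _root_.mul_eq_one_comm.mp hPQ
  have h1 : adj σ (P * g * Q) = P * st σ g * Q := by
    rw [adj_eq, st_mul, st_mul]
    nth_rewrite 1 [hQ]
    rw [st_mul, st_Jm, st_st hσ, hQ]
    simp only [Matrix.mul_assoc]
    rw [← Matrix.mul_assoc (Jm K n) (Jm K n), Jm_mul_Jm, Matrix.one_mul]
  rw [h1]
  calc P * g * Q * (P * st σ g * Q) = P * (g * (Q * P) * st σ g) * Q := by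
        simp only [Matrix.mul_assoc]
    _ = 1 := by rw [hQP, Matrix.mul_one, hg, Matrix.mul_one, hPQ]

/-- transport of unitary matrices for the antidiagonal form to the standard form -/
theorem conj_mem_st {σ : K →+* K} (hσ : ∀ x, σ (σ x) = x) {P Q h : Matrix (Fin n) (Fin n) K}
    (hPQ : P * Q = 1) (hP : P * st σ P = Jm K n) (hQ : Q = st σ P * Jm K n)
    (hh : h * adj σ h = 1) : (Q * h * P) * st σ (Q * h * P) = 1 := by
  have hQP : Q * P = 1 := _root_.mul_eq_one_comm.mp hPQ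
  have h1 : h * Jm K n * st σ h = Jm K n := by
    rw [adj_eq] at hh
    have h2 : h * (Jm K n * st σ h * Jm K n) * Jm K n = Jm K n := by rw [hh, Matrix.one_mul]
    simp only [Matrix.mul_assoc] at h2
    rw [Jm_mul_Jm, Matrix.mul_one] at h2
    rw [Matrix.mul_assoc]
    exact h2
  have h3 : st σ Q = Jm K n * P := by
    rw [hQ, st_mul, st_Jm, st_st hσ]
  rw [st_mul, st_mul, h3]
  calc Q * h * P * (st σ P * (st σ h * (Jm K n * P)))
      = Q * (h * (P * st σ P) * st σ h) * Jm K n * P := by simp only [Matrix.mul_assoc]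
    _ = Q * Jm K n * Jm K n * P := by rw [hP, h1]
    _ = 1 := by rw [Matrix.mul_assoc Q, Jm_mul_Jm, Matrix.mul_one, hQP]

/-! ### the matrix of the change of basis -/

/-- first coefficients -/
def Pd1 (ζ τ : K) (i : Fin n) : K :=
  if i < i.rev then 1 else if i = i.rev then 1 else -(ζ * τ)

/-- second coefficients -/
def Pd2 (σ : K →+* K) (ζ τ : K) (i : Fin n) : K :=
  if i < i.rev then ζ else if i = i.rev then 0 else σ τ

/-- the matrix of the change of basis -/
def Pmat (σ : K →+* K) (ζ τ : K) : Matrix (Fin n) (Fin n) K :=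
  Matrix.of fun i k => (if k = i then Pd1 ζ τ i else 0) + (if k = i.rev then Pd2 σ ζ τ i else 0)

theorem Pmat_apply (σ : K →+* K) (ζ τ : K) (i k : Fin n) :
    Pmat σ ζ τ i k = (if k = i then Pd1 ζ τ i else 0) + (if k = i.rev then Pd2 σ ζ τ i else 0) :=
  rfl

theorem Pmat_mul_apply (σ : K →+* K) (ζ τ : K) (A : Matrix (Fin n) (Fin n) K) (i j : Fin n) :
    (Pmat σ ζ τ * A : Matrix (Fin n) (Fin n) K) i j =
      Pd1 ζ τ i * A i j + Pd2 σ ζ τ i * A i.rev j := by
  rw [Matrix.mul_apply]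
  simp only [Pmat_apply, add_mul, Finset.sum_add_distrib, ite_mul, zero_mul, Finset.sum_ite_eq',
    Finset.mem_univ, if_true]

theorem Pmat_mul_st {σ : K →+* K} (hσ : ∀ x, σ (σ x) = x) {ζ τ : K} (hζ : ζ * σ ζ = -1)
    (hτ : τ + σ τ = 1) :
    (Pmat σ ζ τ * st σ (Pmat σ ζ τ) : Matrix (Fin n) (Fin n) K) = Jm K n := by
  ext i j
  rw [Pmat_mul_apply, st_apply, st_apply, Pmat_apply, Pmat_apply, Jm_apply]
  have lo1 : ∀ x : Fin n, x < x.rev → Pd1 ζ τ x = 1 := fun x h => if_pos h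
  have lo2 : ∀ x : Fin n, x < x.rev → Pd2 σ ζ τ x = ζ := fun x h => if_pos h
  have mid1 : ∀ x : Fin n, x = x.rev → Pd1 ζ τ x = 1 := by
    intro x h
    unfold Pd1
    rw [if_neg (fun h' => absurd h (ne_of_lt h')), if_pos h]
  have mid2 : ∀ x : Fin n, x = x.rev → Pd2 σ ζ τ x = 0 := by
    intro x h
    unfold Pd2
    rw [if_neg (fun h' => absurd h (ne_of_lt h')), if_pos h]
  have hi1 : ∀ x : Fin n, x.rev < x → Pd1 ζ τ x = -(ζ * τ) := by
    intro x h
    unfold Pd1
    rw [if_neg (not_lt.mpr (le_of_lt h)), if_neg (ne_of_gt h)]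
  have hi2 : ∀ x : Fin n, x.rev < x → Pd2 σ ζ τ x = σ τ := by
    intro x h
    unfold Pd2
    rw [if_neg (not_lt.mpr (le_of_lt h)), if_neg (ne_of_gt h)]
  by_cases hj : j = i
  · rw [hj, if_pos rfl, if_pos rfl]
    rcases lt_trichotomy i i.rev with h | h | h
    · rw [if_neg (ne_of_lt h), if_neg (ne_of_gt h), if_neg (ne_of_lt h), lo1 i h, lo2 i h, add_zero,
        zero_add, map_one]
      linear_combination hζ
    · rw [if_pos h, if_pos h.symm, if_pos h, mid1 i h, mid2 i h, add_zero, map_one]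
      ring
    · rw [if_neg (ne_of_gt h), if_neg (ne_of_lt h), if_neg (ne_of_gt h), hi1 i h, hi2 i h, add_zero,
        zero_add, map_neg, map_mul, hσ]
      linear_combination (τ * σ τ) * hζ
  · by_cases hj' : j = i.rev
    · have hne : i ≠ i.rev := fun h => hj (hj'.trans h.symm)
      rw [hj', Fin.rev_rev, if_neg hne, if_pos rfl, if_pos rfl, if_neg hne.symm, if_pos rfl,
        zero_add, add_zero]
      rcases lt_or_gt_of_ne hne with h | h
      · have h' : i.rev.rev < i.rev := by rw [Fin.rev_rev]; exact h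
        rw [lo1 i h, lo2 i h, hi1 i.rev h', hi2 i.rev h', hσ, map_neg, map_mul]
        linear_combination hτ - σ τ * hζ
      · have h' : i.rev < i.rev.rev := by rw [Fin.rev_rev]; exact h
        rw [hi1 i h, hi2 i h, lo1 i.rev h', lo2 i.rev h', map_one]
        linear_combination hτ - τ * hζ
    · have e1 : i ≠ j := fun h => hj h.symm
      have e2 : i ≠ j.rev := fun h => hj' (by rw [h, Fin.rev_rev])
      have e3 : i.rev ≠ j := fun h => hj' h.symm
      have e4 : i.rev ≠ j.rev := fun h => hj (Fin.rev_injective h).symm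
      rw [if_neg e1, if_neg e2, if_neg e3, if_neg e4, if_neg hj', add_zero, map_zero, mul_zero,
        mul_zero, add_zero]

/-- the inverse of the matrix of the change of basis -/
def Qmat (σ : K →+* K) (ζ τ : K) : Matrix (Fin n) (Fin n) K := st σ (Pmat σ ζ τ) * Jm K n

theorem Pmat_mul_Qmat {σ : K →+* K} (hσ : ∀ x, σ (σ x) = x) {ζ τ : K} (hζ : ζ * σ ζ = -1)
    (hτ : τ + σ τ = 1) : (Pmat σ ζ τ * Qmat σ ζ τ : Matrix (Fin n) (Fin n) K) = 1 := by
  unfold Qmat
  rw [← Matrix.mul_assoc, Pmat_mul_st hσ hζ hτ, Jm_mul_Jm]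

theorem Qmat_mul_Pmat {σ : K →+* K} (hσ : ∀ x, σ (σ x) = x) {ζ τ : K} (hζ : ζ * σ ζ = -1)
    (hτ : τ + σ τ = 1) : (Qmat σ ζ τ * Pmat σ ζ τ : Matrix (Fin n) (Fin n) K) = 1 :=
  _root_.mul_eq_one_comm.mp (Pmat_mul_Qmat hσ hζ hτ)

end Cfsg.Agent.Lib.Helper16.FusSU
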