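import Mathlib
import Cfsg.Agent.Lib.Helper16.FusSUE

set_option autoImplicit false

/-! Generation of `N(UbJ)` by `GenSet`, and `UbJ` is a Sylow subgroup. -/

namespace Cfsg.Agent.Lib.Helper16.FusSU

open Matrix

open Cfsg.Agent.Lib.Helper18.PSLnAut (IsUni unitri mem_unitri isPGroup_unitri)

open Cfsg Cfsg.FusionSystem Cfsg.Agent.Lib.Helper16.FusGen Cfsg.Agent.Lib.Helper3.Fus
  Cfsg.Agent.Lib.Helper26

variable {K : Type*} [Field K] {n : ℕ}

/-- powers of Heisenberg elements -/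
theorem Hq_pow (σ : K →+* K) (r : Fin n) (hr : r ≠ r.rev) (v : Fin n → K) (hv : v r = 0) (b : K)
    (k : ℕ) : ∃ (c : K) (hv' : (k • v) r = 0),
      (Hq σ r hr v hv b) ^ k = Hq σ r hr (k • v) hv' c := by
  induction k with
  | zero =>
    refine ⟨0, by rw [zero_smul]; rfl, ?_⟩
    rw [pow_zero, ← Hq_zero σ r hr]
    exact Hq_congr σ r hr _ _ (zero_smul ℕ v).symm rfl
  | succ k ih =>
    obtain ⟨c, hv', hc⟩ := ih
    refine ⟨c + b - (k • v) ⬝ᵥ sh σ v, by rw [succ_nsmul, Pi.add_apply, hv', hv, add_zero], ?_⟩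
    rw [pow_succ, hc, Hq_mul]
    exact Hq_congr σ r hr _ _ (succ_nsmul v k).symm rfl

theorem Hq_zero_pow (σ : K →+* K) (r : Fin n) (hr : r ≠ r.rev) (b : K) (k : ℕ) :
    (Hq σ r hr 0 (Pi.zero_apply r) b) ^ k = Hq σ r hr 0 (Pi.zero_apply r) (k • b) := by
  induction k with
  | zero =>
    rw [pow_zero, zero_smul, Hq_zero]
  | succ k ih =>
    rw [pow_succ, ih, Hq_mul]
    apply Hq_congr σ r hr _ _ (add_zero _)
    rw [sh_zero, dotProduct_zero, sub_zero, succ_nsmul]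

section charp

variable (p : ℕ) [Fact p.Prime] [CharP K p]

include p in
theorem Hq_pow_p_sq (σ : K →+* K) (r : Fin n) (hr : r ≠ r.rev) (v : Fin n → K) (hv : v r = 0)
    (b : K) : (Hq σ r hr v hv b) ^ (p ^ 2) = 1 := by
  obtain ⟨c, hv', hc⟩ := Hq_pow σ r hr v hv b p
  have h0 : p • v = 0 := by
    funext i
    rw [Pi.smul_apply, nsmul_eq_mul, CharP.cast_eq_zero, zero_mul]
    rfl
  have h1 : Hq σ r hr (p • v) hv' c = Hq σ r hr 0 (Pi.zero_apply r) c :=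
    Hq_congr σ r hr _ _ h0 rfl
  rw [pow_two, pow_mul, hc, h1, Hq_zero_pow, nsmul_eq_mul, CharP.cast_eq_zero, zero_mul, Hq_zero]

end charp

section finite

variable [Fintype K]

section charp

variable (p : ℕ) [Fact p.Prime] [CharP K p]

include p in
/-- the image of a block triangular Heisenberg element is a `p`-element normalizing `QbJ` -/
theorem piJ_RT_mem {σ : K →+* K} (j : ℕ) (hj : 2 * j + 2 ≤ n)
    {y : SpecialLinearGroup (Fin n) K} (hy : y ∈ RT σ n j) :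
    ∃ hyJ : y ∈ UJ σ n, piJ σ n ⟨y, hyJ⟩ ∈
      {z | z ∈ Subgroup.normalizer ((QbJ σ n j hj : Subgroup _) : Set _) ∧
        ∃ k : ℕ, orderOf z = p ^ k} := by
  have hp : p.Prime := Fact.out
  obtain ⟨hyJ, h1, h2, r, hr, v, hv, b, hyeq⟩ := hy
  refine ⟨hyJ, ?_, ?_⟩
  · apply Subgroup.mem_normalizer_fintype
    intro x hx
    obtain ⟨w, hw, hwQ, rfl⟩ := mem_imJ.mp hx
    rw [piJ_conj hyJ hw]
    exact mem_imJ.mpr ⟨_, _, conj_mem_QJ hyJ h1 h2 hwQ, rfl⟩
  · have h3 : (piJ σ n ⟨y, hyJ⟩) ^ (p ^ 2) = 1 := by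
      rw [← map_pow]
      have : (⟨y, hyJ⟩ : UJ σ n) ^ (p ^ 2) = 1 := by
        apply Subtype.ext
        rw [Subgroup.coe_pow, Subgroup.coe_one]
        show y ^ (p ^ 2) = 1
        rw [hyeq]
        exact Hq_pow_p_sq p σ r hr v hv b
      rw [this, map_one]
    obtain ⟨k, -, hk⟩ := (Nat.dvd_prime_pow hp).mp (orderOf_dvd_of_pow_eq_one h3)
    exact ⟨k, hk⟩

include p in
/-- products of block triangular Heisenberg elements -/
theorem piJ_closure_RT_mem {σ : K →+* K} (j : ℕ) (hj : 2 * j + 2 ≤ n)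
    {g : SpecialLinearGroup (Fin n) K} (hg : g ∈ Subgroup.closure (RT σ n j)) :
    ∃ hgJ : g ∈ UJ σ n, piJ σ n ⟨g, hgJ⟩ ∈ Subgroup.closure
      {z | z ∈ Subgroup.normalizer ((QbJ σ n j hj : Subgroup _) : Set _) ∧
        ∃ k : ℕ, orderOf z = p ^ k} := by
  induction hg using Subgroup.closure_induction with
  | mem y hy =>
    obtain ⟨hyJ, h⟩ := piJ_RT_mem p j hj hy
    exact ⟨hyJ, Subgroup.subset_closure h⟩
  | one =>
    refine ⟨(UJ σ n).one_mem, ?_⟩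
    have : (⟨1, (UJ σ n).one_mem⟩ : UJ σ n) = 1 := rfl
    rw [this, map_one]
    exact Subgroup.one_mem _
  | mul a b _ _ ha hb =>
    obtain ⟨haJ, ha'⟩ := ha
    obtain ⟨hbJ, hb'⟩ := hb
    refine ⟨(UJ σ n).mul_mem haJ hbJ, ?_⟩
    have : (⟨a * b, (UJ σ n).mul_mem haJ hbJ⟩ : UJ σ n) = ⟨a, haJ⟩ * ⟨b, hbJ⟩ := rfl
    rw [this, map_mul]
    exact Subgroup.mul_mem _ ha' hb'
  | inv a _ ha =>
    obtain ⟨haJ, ha'⟩ := ha
    refine ⟨(UJ σ n).inv_mem haJ, ?_⟩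
    have : (⟨a⁻¹, (UJ σ n).inv_mem haJ⟩ : UJ σ n) = (⟨a, haJ⟩ : UJ σ n)⁻¹ := rfl
    rw [this, map_inv]
    exact Subgroup.inv_mem _ ha'

/-- the images of the diagonal elements normalize `UbJ` -/
theorem piJ_diag_mem_normalizer {σ : K →+* K} {d : SpecialLinearGroup (Fin n) K}
    (hd : d ∈ UJ σ n) (f : Fin n → K) (hdf : (d : Matrix (Fin n) (Fin n) K) = diagonal f)
    (hf : ∀ k, f k ≠ 0) :
    piJ σ n ⟨d, hd⟩ ∈ Subgroup.normalizer ((UbJ σ n : Subgroup _) : Set _) := by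
  apply Subgroup.mem_normalizer_fintype
  intro x hx
  obtain ⟨u, hu, huU, rfl⟩ := mem_imJ.mp hx
  rw [piJ_conj hd hu]
  exact mem_imJ.mpr ⟨_, _, FusPSLn.diag_conj_mem_unitri d f hdf hf huU, rfl⟩

theorem corf_ne_zero (σ : K →+* K) (j j1 : Fin n) {s : K} (hs : s ≠ 0) (x : Fin n) :
    corf σ j j1 s x ≠ 0 := by
  have hs' : σ s ≠ 0 := fun h => hs ((map_eq_zero σ).mp h)
  unfold corf
  split_ifs <;> simp [hs, hs']

theorem corLf_ne_zero (j : Fin n) {s : K} (hs : s ≠ 0) (x : Fin n) : corLf j s x ≠ 0 := by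
  unfold corLf
  split_ifs <;> simp [hs]

include p in
/-- the images of the coroot elements of the short simple roots lie in `GenSet` -/
theorem piJ_cor_mem_genSet {σ : K →+* K} (hσ : InvOK σ) (hn : 4 ≤ n) (j j1 : Fin n)
    (hj1 : j.val + 1 = j1.val) (hj : 2 * j.val + 3 ≤ n) (s : K) (hs : s ≠ 0) :
    piJ σ n ⟨cor σ j j1 s hs, cor_mem hσ.invol j j1 s hs⟩ ∈ GenSet p (UbJ σ n) := by
  have hjq : 2 * j.val + 2 ≤ n := by omega
  refine ⟨piJ_diag_mem_normalizer _ (corf σ j j1 s) rfl (corf_ne_zero σ j j1 hs),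
    QbJ σ n j.val hjq, QbJ_le σ j.val hjq, UbJ_le_normalizer_QbJ σ j.val hjq,
    centralizerIn_QbJ_le hσ hn j.val hjq, ?_⟩
  have hcl : cor σ j j1 s hs ∈ Subgroup.closure (RT σ n j.val) := by
    rcases Nat.lt_or_ge (2 * j.val + 3) n with h | h
    · exact cor_short_mem hσ j.val h j j1 rfl hj1.symm s hs
    · exact cor_odd_mem hσ j.val (by omega) j j1 rfl hj1.symm s hs
  obtain ⟨_, h⟩ := piJ_closure_RT_mem p j.val hjq hcl
  exact h

include p in
/-- the images of the coroot elements of the long simple root lie in `GenSet` -/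
theorem piJ_corL_mem_genSet {σ : K →+* K} (hσ : InvOK σ) (hn : 4 ≤ n) (j : Fin n)
    (hj : 2 * j.val + 2 = n) (s : K) (hs : s ≠ 0) (hfix : σ s = s) :
    piJ σ n ⟨corL j s hs, corL_mem j s hs hfix⟩ ∈ GenSet p (UbJ σ n) := by
  have hjq : 2 * j.val + 2 ≤ n := by omega
  refine ⟨piJ_diag_mem_normalizer _ (corLf j s) rfl (corLf_ne_zero j hs),
    QbJ σ n j.val hjq, QbJ_le σ j.val hjq, UbJ_le_normalizer_QbJ σ j.val hjq,
    centralizerIn_QbJ_le hσ hn j.val hjq, ?_⟩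
  obtain ⟨_, h⟩ := piJ_closure_RT_mem p j.val hjq (cor_long_mem hσ j.val hj j rfl s hs hfix)
  exact h

include p in
/-- every element of the normalizer of `UbJ` lies in the closure of `GenSet` -/
theorem normalizer_le_closure_genSetJ {σ : K →+* K} (hσ : InvOK σ) (hn : 4 ≤ n) :
    ∀ x ∈ Subgroup.normalizer ((UbJ σ n : Subgroup _) : Set _),
      x ∈ Subgroup.closure (GenSet p (UbJ σ n)) := by
  intro x hx
  obtain ⟨⟨g, hg⟩, rfl⟩ := piJ_surjective σ n x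
  have h1 := normalizes_of_piJ_mem_normalizer p (by omega) hg hx
  have h2 := upper_of_normalizes_UJ hσ g h1
  let H : Subgroup (SpecialLinearGroup (Fin n) K) :=
    ((Subgroup.closure (GenSet p (UbJ σ n))).comap (piJ σ n)).map (UJ σ n).subtype
  have hH : ∀ (a : SpecialLinearGroup (Fin n) K) (ha : a ∈ UJ σ n),
      piJ σ n ⟨a, ha⟩ ∈ Subgroup.closure (GenSet p (UbJ σ n)) → a ∈ H := by
    intro a ha h
    exact ⟨⟨a, ha⟩, h, rfl⟩
  have h3 : g ∈ H := by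
    apply upper_mem_UJ hσ.invol H ?_ ?_ ?_ g hg h2
    · intro u hu huU
      exact hH u hu (Subgroup.subset_closure (piJ_unitri_mem_genSet p hu huU))
    · intro j j1 hj1 hj s hs
      exact hH _ _ (Subgroup.subset_closure (piJ_cor_mem_genSet p hσ hn j j1 hj1 hj s hs))
    · intro j hj s hs hfix
      exact hH _ _ (Subgroup.subset_closure (piJ_corL_mem_genSet p hσ hn j hj s hs hfix))
  obtain ⟨a, ha, hag⟩ := h3
  have : a = ⟨g, hg⟩ := Subtype.ext hag
  rw [← this]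
  exact ha

end charp

end finite

end Cfsg.Agent.Lib.Helper16.FusSU
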