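import Mathlib
import Cfsg.Agent.Lib.Helper16.FusSUF

set_option autoImplicit false

/-! `UbJ` is a nontrivial Sylow `p`-subgroup of the projective unitary group. -/

namespace Cfsg.Agent.Lib.Helper16.FusSU

open Matrix

open Cfsg.Agent.Lib.Helper18.PSLnAut (IsUni unitri mem_unitri isPGroup_unitri)

open Cfsg Cfsg.FusionSystem Cfsg.Agent.Lib.Helper16.FusGen Cfsg.Agent.Lib.Helper3.Fus
  Cfsg.Agent.Lib.Helper26

variable {K : Type*} [Field K] {n : ℕ}

/-- an upper triangular element of the group is the product of a diagonal element and a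
unitriangular element -/
theorem exists_diag_mul_unitri [Finite K] {σ : K →+* K}
    {g : SpecialLinearGroup (Fin n) K} (hg : g ∈ UJ σ n)
    (hup : ∀ a b : Fin n, b < a → (g : Matrix (Fin n) (Fin n) K) a b = 0) :
    ∃ (f : Fin n → K) (hf : ∏ i, f i = 1) (u : SpecialLinearGroup (Fin n) K),
      dg f hf ∈ UJ σ n ∧ (∀ x, f x ≠ 0) ∧ u ∈ UJ σ n ∧ u ∈ unitri n K ∧ g = dg f hf * u := by
  have hprod : ∏ x, (g : Matrix (Fin n) (Fin n) K) x x = 1 := by
    have h : (g : Matrix (Fin n) (Fin n) K).IsUpperTriangular := by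
      intro i j hji
      exact hup i j hji
    rw [← Matrix.det_of_isUpperTriangular h]
    exact g.2
  have hdmem : dg (fun x => (g : Matrix (Fin n) (Fin n) K) x x) hprod ∈ UJ σ n :=
    dg_mem _ _ (fun x => diag_of_upper hg hup x)
  have hne : ∀ x, (g : Matrix (Fin n) (Fin n) K) x x ≠ 0 := by
    intro x h0
    have := diag_of_upper hg hup x
    rw [h0, zero_mul] at this
    exact zero_ne_one this
  obtain ⟨u, hu⟩ : ∃ u, u = (dg (fun x => (g : Matrix (Fin n) (Fin n) K) x x) hprod)⁻¹ * g :=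
    ⟨_, rfl⟩
  have e : dg (fun x => (g : Matrix (Fin n) (Fin n) K) x x) hprod * u = g := by
    rw [hu, mul_inv_cancel_left]
  have hent : ∀ x y, (g : Matrix (Fin n) (Fin n) K) x x * (u : Matrix (Fin n) (Fin n) K) x y =
      (g : Matrix (Fin n) (Fin n) K) x y := by
    intro x y
    have := congrArg (fun M : SpecialLinearGroup (Fin n) K => (M : Matrix (Fin n) (Fin n) K) x y) e
    beta_reduce at this
    rw [Matrix.SpecialLinearGroup.coe_mul, dg_coe, Matrix.diagonal_mul] at this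
    exact this
  have hu1 : u ∈ UJ σ n := by
    rw [hu]
    exact (UJ σ n).mul_mem ((UJ σ n).inv_mem hdmem) hg
  have hu2 : u ∈ unitri n K := by
    constructor
    · intro x y hyx
      have := hent x y
      rw [hup x y hyx] at this
      exact (mul_eq_zero.mp this).resolve_left (hne x)
    · intro x
      have := hent x x
      exact mul_left_cancel₀ (hne x) (by rw [this, mul_one])
  exact ⟨_, hprod, u, hdmem, hne, hu1, hu2, e.symm⟩

section finite

variable [Fintype K] (p : ℕ) [Fact p.Prime] [CharP K p]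

include p in
/-- `UbJ` is a Sylow `p`-subgroup -/
theorem card_UbJ {σ : K →+* K} (hσ : InvOK σ) (hn : 1 ≤ n) :
    Nat.card (UbJ σ n) = p ^ (Nat.card (PGJ σ n)).factorization p := by
  have hp : p.Prime := Fact.out
  have hP := isPGroup_UbJ (n := n) p σ
  obtain ⟨Syl, hle⟩ := hP.exists_le_sylow
  have heq : UbJ σ n = Syl := by
    by_contra hne
    obtain ⟨x, hxS, hxN, hxU⟩ := exists_mem_normalizer_not_mem Syl.isPGroup' hle hne
    obtain ⟨⟨g, hg⟩, rfl⟩ := piJ_surjective σ n x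
    have h1 := normalizes_of_piJ_mem_normalizer p hn hg hxN
    have h2 := upper_of_normalizes_UJ hσ g h1
    obtain ⟨f, hf, u, hd, hfne, hu, huU, hgeq⟩ := exists_diag_mul_unitri hg h2
    have huS : piJ σ n ⟨u, hu⟩ ∈ UbJ σ n := mem_imJ.mpr ⟨u, hu, huU, rfl⟩
    have hprod : piJ σ n ⟨g, hg⟩ = piJ σ n ⟨dg f hf, hd⟩ * piJ σ n ⟨u, hu⟩ := by
      rw [← map_mul]
      congr 1
      exact Subtype.ext hgeq
    have hdS : piJ σ n ⟨dg f hf, hd⟩ ∈ (Syl : Subgroup (PGJ σ n)) := by
      have : piJ σ n ⟨dg f hf, hd⟩ = piJ σ n ⟨g, hg⟩ * (piJ σ n ⟨u, hu⟩)⁻¹ := by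
        rw [hprod, mul_inv_cancel_right]
      rw [this]
      exact Subgroup.mul_mem _ hxS (Subgroup.inv_mem _ (hle huS))
    obtain ⟨k, hk⟩ := Syl.isPGroup' ⟨_, hdS⟩
    have hk' : (piJ σ n ⟨dg f hf, hd⟩) ^ (p ^ k) = 1 := by
      have := congrArg Subtype.val hk
      simpa using this
    rw [← map_pow, piJ_eq_one_iff] at hk'
    obtain ⟨c, hc⟩ := hk'
    have hc' : diagonal (fun i => f i ^ (p ^ k)) = c • (1 : Matrix (Fin n) (Fin n) K) := by
      rw [← hc, Subgroup.coe_pow, Matrix.SpecialLinearGroup.coe_pow]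
      show _ = (diagonal f) ^ (p ^ k)
      rw [Matrix.diagonal_pow]
      rfl
    have hfc : ∀ i, f i ^ (p ^ k) = c := by
      intro i
      have := congrFun (congrFun hc' i) i
      rw [Matrix.diagonal_apply_eq, Matrix.smul_apply, Matrix.one_apply_eq, smul_eq_mul,
        mul_one] at this
      exact this
    have hfeq : ∀ i, f i = f ⟨0, hn⟩ := by
      intro i
      have h3 : (f i - f ⟨0, hn⟩) ^ (p ^ k) = 0 := by
        rw [sub_pow_char_pow, hfc, hfc, sub_self]
      exact sub_eq_zero.mp ((pow_eq_zero_iff (pow_ne_zero _ hp.ne_zero)).mp h3)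
    have hd1 : piJ σ n ⟨dg f hf, hd⟩ = 1 := by
      rw [piJ_eq_one_iff]
      refine ⟨f ⟨0, hn⟩, ?_⟩
      show diagonal f = _
      ext a b
      by_cases hab : a = b
      · subst hab
        rw [Matrix.diagonal_apply_eq, Matrix.smul_apply, Matrix.one_apply_eq, smul_eq_mul, mul_one,
          hfeq a]
      · rw [Matrix.diagonal_apply_ne _ hab, Matrix.smul_apply, Matrix.one_apply_ne hab, smul_zero]
    apply hxU
    rw [hprod, hd1, one_mul]
    exact huS
  rw [heq]
  exact Sylow.card_eq_multiplicity _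

/-- `UbJ` is not trivial -/
theorem UbJ_ne_bot {σ : K →+* K} (hσ : InvOK σ) (hn : 2 ≤ n) : UbJ σ n ≠ ⊥ := by
  obtain ⟨c, hc0, hc⟩ := hσ.sk
  let r : Fin n := ⟨0, by omega⟩
  have hrr : r < r.rev := by
    rw [Fin.lt_def, Fin.val_rev]
    show 0 < n - (0 + 1)
    omega
  have hr : r ≠ r.rev := ne_of_lt hrr
  have hmem : Hq σ r hr 0 (Pi.zero_apply r) c ∈ UJ σ n := by
    apply Hq_mem hσ.invol
    rw [zero_dotProduct, add_zero]
    exact hc
  have hU : Hq σ r hr 0 (Pi.zero_apply r) c ∈ unitri n K :=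
    isUni_Hq σ hrr (fun _ _ => rfl) c
  intro hbot
  have h1 : piJ σ n ⟨_, hmem⟩ ∈ UbJ σ n := mem_imJ.mpr ⟨_, hmem, hU, rfl⟩
  rw [hbot, Subgroup.mem_bot, piJ_eq_one_iff] at h1
  obtain ⟨c', hc'⟩ := h1
  have h2 := congrFun (congrFun hc' r) r.rev
  rw [Matrix.smul_apply, Matrix.one_apply_ne hr, smul_zero] at h2
  have h3 : ((Hq σ r hr 0 (Pi.zero_apply r) c : SpecialLinearGroup (Fin n) K) :
      Matrix (Fin n) (Fin n) K) r r.rev = c := by
    rw [Hq_coe, Matrix.add_apply, Matrix.one_apply_ne hr, zero_add, hN_apply, if_pos rfl,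
      if_pos rfl, if_pos ⟨rfl, rfl⟩, Pi.zero_apply, map_zero, sub_zero, zero_add]
  rw [h3] at h2
  exact hc0 h2

end finite

end Cfsg.Agent.Lib.Helper16.FusSU
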