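import Cfsg.Agent.Lib.Helper16.WeaklyClosed2

set_option autoImplicit false
open Cfsg
open scoped Pointwise commutatorElement

namespace Cfsg.Agent.Lib.Helper16

variable {G : Type*} [Group G] {p : ℕ}

theorem subgroupOf_map_conj_map_subtype {Q K : Subgroup G} (hQK : Q ≤ K) (k : K) :
    ((Q.subgroupOf K).map (MulAut.conj k).toMonoidHom).map K.subtype =
      Q.map (MulAut.conj (k : G)).toMonoidHom := by
  ext x
  constructor
  · rintro ⟨_, ⟨y, hy, rfl⟩, rfl⟩
    exact ⟨(y : G), hy, by simp⟩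
  · rintro ⟨y, hy, rfl⟩
    exact ⟨k * ⟨y, hQK hy⟩ * k⁻¹, ⟨⟨y, hQK hy⟩, hy, by simp⟩, by simp⟩

/-- (1) `Q` is a weakly closed subgroup of any `K ≥ Q`. -/
theorem wc_subgroupOf [Finite G] [Fact p.Prime] {Q : Subgroup G} (hQp : IsPGroup p Q)
    (hwc : IsWeaklyClosedSubgroup p Q) {K : Subgroup G} (hQK : Q ≤ K) :
    IsWeaklyClosedSubgroup p (Q.subgroupOf K) := by
  obtain ⟨T', hT'⟩ := (hQp.comap_subtype : IsPGroup p (Q.subgroupOf K)).exists_le_sylow
  refine ⟨T', hT', ?_⟩
  intro k hk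
  set T1 : Subgroup G := (T' : Subgroup K).map K.subtype with hT1
  have hT1p : IsPGroup p T1 := T'.isPGroup'.map _
  have hQT1 : Q ≤ T1 := by
    intro x hx
    exact ⟨⟨x, hQK hx⟩, hT' (by rw [Subgroup.mem_comap]; exact hx), rfl⟩
  have h1 : Q.map (MulAut.conj (k : G)).toMonoidHom ≤ T1 := by
    rw [← subgroupOf_map_conj_map_subtype hQK k]
    exact Subgroup.map_mono hk
  have h2 := wc_eq_of_le_pgroup hwc hT1p hQT1 (k : G) h1
  apply Subgroup.map_injective K.subtype_injective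
  rw [subgroupOf_map_conj_map_subtype hQK k, h2, Subgroup.map_subgroupOf_eq_of_le hQK]

/-- (3) `N_K(Q)` contains a Sylow `p`-subgroup of `K`. -/
theorem wc_parabolic [Finite G] [Fact p.Prime] {Q : Subgroup G} (hQp : IsPGroup p Q)
    (hwc : IsWeaklyClosedSubgroup p Q) {K : Subgroup G} (hQK : Q ≤ K) :
    IsParabolic p ((Subgroup.normalizer (Q : Set G)).subgroupOf K) := by
  obtain ⟨T', hT'⟩ := (hQp.comap_subtype : IsPGroup p (Q.subgroupOf K)).exists_le_sylow
  refine ⟨T', ?_⟩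
  set T1 : Subgroup G := (T' : Subgroup K).map K.subtype with hT1
  have hT1p : IsPGroup p T1 := T'.isPGroup'.map _
  have hQT1 : Q ≤ T1 := by
    intro x hx
    exact ⟨⟨x, hQK hx⟩, hT' (by rw [Subgroup.mem_comap]; exact hx), rfl⟩
  have h1 := wc_imp_normalizer hwc T1 hT1p hQT1
  intro x hx
  rw [Subgroup.mem_subgroupOf]
  exact h1 (Subgroup.le_normalizer ⟨x, hx, rfl⟩)

theorem map_map_conj {G' : Type*} [Group G'] (f : G →* G') (Q : Subgroup G) (g : G) :
    (Q.map (MulAut.conj g).toMonoidHom).map f = (Q.map f).map (MulAut.conj (f g)).toMonoidHom := by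
  ext x
  constructor
  · rintro ⟨_, ⟨q, hq, rfl⟩, rfl⟩
    exact ⟨f q, ⟨q, hq, rfl⟩, by simp⟩
  · rintro ⟨_, ⟨q, hq, rfl⟩, rfl⟩
    exact ⟨g * q * g⁻¹, ⟨q, hq, by simp⟩, by simp⟩

/-- (5) The image of a weakly closed subgroup in a quotient is weakly closed. -/
theorem wc_quotient [Finite G] [Fact p.Prime] {Q : Subgroup G} (hQp : IsPGroup p Q)
    (hwc : IsWeaklyClosedSubgroup p Q) (N' : Subgroup G) [hN' : N'.Normal] :
    IsWeaklyClosedSubgroup p (Q.map (QuotientGroup.mk' N')) := by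
  have hwc' := hwc
  obtain ⟨T, hQT, hT⟩ := hwc
  have hsurj := QuotientGroup.mk'_surjective N'
  refine ⟨T.mapSurjective hsurj, Subgroup.map_mono hQT, ?_⟩
  intro gbar hg
  obtain ⟨g, rfl⟩ := hsurj gbar
  rw [← map_map_conj] at hg ⊢
  have hTN : (T : Subgroup G) ≤ Subgroup.normalizer (N' : Set G) := by
    rw [Subgroup.normalizer_eq_top]; exact le_top
  have h1 : Q.map (MulAut.conj g).toMonoidHom ≤ N' ⊔ T := by
    have h2 : Q.map (MulAut.conj g).toMonoidHom ≤
        ((T : Subgroup G).map (QuotientGroup.mk' N')).comap (QuotientGroup.mk' N') := by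
      rw [← Subgroup.map_le_iff_le_comap]; exact hg
    rw [Subgroup.comap_map_eq, QuotientGroup.ker_mk', sup_comm] at h2
    exact h2
  obtain ⟨k, hk, hk2⟩ := wc_conj_in_subgroup hQp hwc' (hQT.trans le_sup_right) g h1
  have hk' : k ∈ ((N' ⊔ T : Subgroup G) : Set G) := hk
  rw [Subgroup.coe_mul_of_right_le_normalizer_left N' T hTN] at hk'
  obtain ⟨n, hn, t, ht, rfl⟩ := hk'
  have ht' : Q.map (MulAut.conj t).toMonoidHom = Q := by
    apply hT
    rw [← map_conj_eq_self_of_mem ht]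
    exact Subgroup.map_mono hQT
  rw [← map_conj_map_conj, ht'] at hk2
  rw [hk2, map_map_conj]
  have hn1 : (QuotientGroup.mk' N') n = 1 := by
    rw [QuotientGroup.mk'_apply, QuotientGroup.eq_one_iff]; exact hn
  rw [hn1, map_conj_one]


theorem OpOf_normal_of_normal [Finite G] (N' : Subgroup G) [hN' : N'.Normal] :
    (OpOf p N').Normal := by
  rw [← Subgroup.normalizer_eq_top_iff, eq_top_iff]
  intro h _
  apply mem_normalizer_of_map_conj_le
  unfold OpOf
  rw [MonoidHom.map_closure, Subgroup.closure_le]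
  rintro _ ⟨g, hg, rfl⟩
  apply Subgroup.subset_closure
  simp only [MulEquiv.coe_toMonoidHom, MulAut.conj_apply]
  refine ⟨hN'.conj_mem g hg.1 h, ?_⟩
  have : orderOf (h * g * h⁻¹) = orderOf g := (MulAut.conj h).orderOf_eq g
  rw [this]; exact hg.2

/-- every element of `K` has a `p`-power power in `O^p(K)`. -/
theorem exists_pow_mem_OpOf [Finite G] [Fact p.Prime] (K : Subgroup G) {y : G} (hy : y ∈ K) :
    ∃ b : ℕ, y ^ (p ^ b) ∈ OpOf p K := by
  have hp : p.Prime := Fact.out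
  have hpos : 0 < orderOf y := orderOf_pos y
  obtain ⟨b, m, hm, hym⟩ := Nat.exists_eq_pow_mul_and_not_dvd hpos.ne' p hp.ne_one
  refine ⟨b, Subgroup.subset_closure ⟨K.pow_mem hy _, ?_⟩⟩
  have h1 : orderOf (y ^ (p ^ b)) = m := by
    rw [orderOf_pow, hym, Nat.gcd_eq_right (Dvd.intro _ rfl)]
    exact Nat.mul_div_cancel_left m (pow_pos hp.pos b)
  rw [h1]
  exact ((Nat.Prime.coprime_iff_not_dvd hp).mpr hm).symm

/-- (4) `N = N_N(Q) O^p(N)` for `N` normal and `Q` weakly closed. -/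
theorem wc_normal_residual [Finite G] [Fact p.Prime] {Q : Subgroup G} (hQp : IsPGroup p Q)
    (hwc : IsWeaklyClosedSubgroup p Q) (N' : Subgroup G) [hN' : N'.Normal] :
    (N' ⊓ Subgroup.normalizer (Q : Set G)) ⊔ OpOf p N' = N' := by
  apply le_antisymm
  · exact sup_le inf_le_left (OpOf_le N')
  · intro n hn
    set R : Subgroup G := OpOf p N' with hR
    have hRn : R.Normal := OpOf_normal_of_normal N'
    have hsurj := QuotientGroup.mk'_surjective R
    have hNbar : IsPGroup p ↥(N'.map (QuotientGroup.mk' R)) := by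
      rintro ⟨_, ⟨y, hy, rfl⟩⟩
      obtain ⟨b, hb⟩ := exists_pow_mem_OpOf (p := p) N' hy
      refine ⟨b, ?_⟩
      apply Subtype.ext
      simp only [Subgroup.coe_pow, Subgroup.coe_one]
      rw [← map_pow, QuotientGroup.mk'_apply, QuotientGroup.eq_one_iff]
      exact hb
    have hNbarn : (N'.map (QuotientGroup.mk' R)).Normal := hN'.map _ hsurj
    have hD : IsPGroup p ↥(Q.map (QuotientGroup.mk' R) ⊔ N'.map (QuotientGroup.mk' R)) :=
      IsPGroup.to_sup_of_normal_right (hQp.map _) hNbar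
    have h1 := wc_imp_normalizer (wc_quotient hQp hwc R) _ hD le_sup_left
    have h2 : (QuotientGroup.mk' R) n ∈
        Subgroup.normalizer ((Q.map (QuotientGroup.mk' R) : Subgroup (G ⧸ R)) : Set (G ⧸ R)) :=
      h1 (Subgroup.le_normalizer (Subgroup.mem_sup_right ⟨n, hn, rfl⟩))
    rw [Subgroup.mem_normalizer_iff_map_conj_eq] at h2
    have h2' : (Q.map (QuotientGroup.mk' R)).map (MulAut.conj ((QuotientGroup.mk' R) n)).toMonoidHom =
        Q.map (QuotientGroup.mk' R) := h2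
    rw [← map_map_conj] at h2'
    have h3 : Q.map (MulAut.conj n).toMonoidHom ≤ R ⊔ Q := by
      have h4 : Q.map (MulAut.conj n).toMonoidHom ≤
          (Q.map (QuotientGroup.mk' R)).comap (QuotientGroup.mk' R) := by
        rw [← Subgroup.map_le_iff_le_comap, h2']
      rw [Subgroup.comap_map_eq, QuotientGroup.ker_mk', sup_comm] at h4
      exact h4
    obtain ⟨k, hk, hk2⟩ := wc_conj_in_subgroup hQp hwc (le_sup_right : Q ≤ R ⊔ Q) n h3
    have hQR : Q ≤ Subgroup.normalizer (R : Set G) := by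
      rw [Subgroup.normalizer_eq_top]; exact le_top
    have hk' : k ∈ ((R ⊔ Q : Subgroup G) : Set G) := hk
    rw [Subgroup.coe_mul_of_right_le_normalizer_left R Q hQR] at hk'
    obtain ⟨r, hr, q, hq, rfl⟩ := hk'
    have hq' : Q.map (MulAut.conj q).toMonoidHom = Q := map_conj_eq_self_of_mem hq
    rw [← map_conj_map_conj, hq'] at hk2
    have ha : r⁻¹ * n ∈ Subgroup.normalizer (Q : Set G) := by
      rw [Subgroup.mem_normalizer_iff_map_conj_eq]
      show Q.map (MulAut.conj (r⁻¹ * n)).toMonoidHom = Q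
      rw [← map_conj_map_conj, hk2, map_conj_map_conj, inv_mul_cancel, map_conj_one]
    have haN : r⁻¹ * n ∈ N' := N'.mul_mem (N'.inv_mem (OpOf_le N' hr)) hn
    have e : n = r * (r⁻¹ * n) := by group
    rw [e]
    exact Subgroup.mul_mem _ (Subgroup.mem_sup_right hr) (Subgroup.mem_sup_left ⟨haN, ha⟩)

end Cfsg.Agent.Lib.Helper16
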