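import Cfsg.Agent.Lib.Helper16.WeaklyClosed4

set_option autoImplicit false
open Cfsg
open scoped Pointwise commutatorElement

namespace Cfsg.Agent.Lib.Helper16

variable {G : Type*} [Group G] {p : ℕ}

theorem commutator_iSup_le {ι : Sort*} {V N : Subgroup G} {X : ι → Subgroup G}
    (hXN : ∀ i, X i ≤ Subgroup.normalizer (N : Set G))
    (hX : ∀ i, ⁅V, X i⁆ ≤ N) : ⁅V, ⨆ i, X i⁆ ≤ N := by
  rw [Subgroup.commutator_le]
  intro v hv l hl
  rw [Subgroup.iSup_eq_closure] at hl
  have key : l ∈ Subgroup.normalizer (N : Set G) ∧ ∀ v ∈ V, ⁅v, l⁆ ∈ N := by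
    induction hl using Subgroup.closure_induction with
    | mem x hx =>
      rw [Set.mem_iUnion] at hx
      obtain ⟨i, hx⟩ := hx
      exact ⟨hXN i hx, fun v hv => hX i (Subgroup.commutator_mem_commutator hv hx)⟩
    | one => exact ⟨Subgroup.one_mem _, fun v _ => by rw [commutatorElement_one_right]; exact N.one_mem⟩
    | mul x y _ _ hx hy =>
      refine ⟨Subgroup.mul_mem _ hx.1 hy.1, fun v hv => ?_⟩
      rw [commutatorElement_mul_right_eq_mul_conj]
      have h1 := hx.2 v hv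
      have h2 := hy.2 v hv
      have h3 : x * ⁅v, y⁆ * x⁻¹ ∈ N := (Subgroup.mem_normalizer_iff.mp hx.1 _).mp h2
      have e : ⁅v, x⁆ * x * ⁅v, y⁆ * x⁻¹ = ⁅v, x⁆ * (x * ⁅v, y⁆ * x⁻¹) := by group
      rw [e]; exact N.mul_mem h1 h3
    | inv x _ hx =>
      refine ⟨Subgroup.inv_mem _ hx.1, fun v hv => ?_⟩
      rw [commutatorElement_inv_right]
      have h1 : ⁅x, v⁆ ∈ N := by rw [← commutatorElement_inv]; exact N.inv_mem (hx.2 v hv)
      have h2 := (Subgroup.mem_normalizer_iff.mp (Subgroup.inv_mem _ hx.1) _).mp h1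
      simpa using h2
  exact key.2 v hv

/-- a `p`-subgroup `A ≤ K` normalized by `K` lies in `O_p(K)`. -/
theorem le_pCoreOf {A K : Subgroup G} (hAK : A ≤ K) (hKA : K ≤ Subgroup.normalizer (A : Set G))
    (hA : IsPGroup p A) : A ≤ pCoreOf p K := by
  have hn : (A.subgroupOf K).Normal := (Subgroup.normal_subgroupOf_iff_le_normalizer hAK).mpr hKA
  have h1 : A.subgroupOf K ≤ pCore p ↥K := le_pCore hn hA.comap_subtype
  intro x hx
  exact ⟨⟨x, hAK hx⟩, h1 (by rw [Subgroup.mem_subgroupOf]; exact hx), rfl⟩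

theorem pCoreOf_le (K : Subgroup G) : pCoreOf p K ≤ K := Subgroup.map_subtype_le _

theorem pCoreOf_isPGroup [Fact p.Prime] (K : Subgroup G) : IsPGroup p (pCoreOf p K) :=
  (pCore_isPGroup (G := ↥K) (p := p)).map _

theorem le_normalizer_pCoreOf [Finite G] (K : Subgroup G) :
    K ≤ Subgroup.normalizer ((pCoreOf p K : Subgroup G) : Set G) := by
  intro n hn
  apply mem_normalizer_of_map_conj_le
  unfold pCoreOf
  rintro _ ⟨_, ⟨x, hx, rfl⟩, rfl⟩
  have hpn : (pCore p ↥K).Normal := inferInstance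
  refine ⟨⟨n, hn⟩ * x * ⟨n, hn⟩⁻¹, hpn.conj_mem x hx ⟨n, hn⟩, ?_⟩
  simp

/-- `O_p(K)` is invariant under `N(K)`. -/
theorem normalizer_le_normalizer_pCoreOf [Finite G] [Fact p.Prime] (K : Subgroup G) :
    Subgroup.normalizer (K : Set G) ≤ Subgroup.normalizer ((pCoreOf p K : Subgroup G) : Set G) := by
  intro n hn
  apply mem_normalizer_of_map_conj_le
  have hKn : K.map (MulAut.conj n).toMonoidHom = K := Subgroup.mem_normalizer_iff_map_conj_eq.mp hn
  apply le_pCoreOf
  · calc (pCoreOf p K).map (MulAut.conj n).toMonoidHom ≤ K.map (MulAut.conj n).toMonoidHom :=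
          Subgroup.map_mono (pCoreOf_le K)
      _ = K := hKn
  · rw [normalizer_map_conj]
    have := Subgroup.map_mono (f := (MulAut.conj n).toMonoidHom) (le_normalizer_pCoreOf (p := p) K)
    rwa [hKn] at this
  · exact isPGroup_map_conj (pCoreOf_isPGroup K) n

theorem normalizer_le_normalizer_centralizer (Y : Subgroup G) [Finite G] :
    Subgroup.normalizer (Y : Set G) ≤
      Subgroup.normalizer ((Subgroup.centralizer (Y : Set G) : Subgroup G) : Set G) := by
  intro n hn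
  rw [Subgroup.mem_normalizer_iff_map_conj_eq]
  have hYn : Y.map (MulAut.conj n).toMonoidHom = Y := Subgroup.mem_normalizer_iff_map_conj_eq.mp hn
  show (Subgroup.centralizer (Y : Set G)).map (MulAut.conj n).toMonoidHom = _
  rw [← centralizer_map_conj, hYn]


theorem large_isWeaklyClosedSubgroup [Finite G] [Fact p.Prime] {Q : Subgroup G}
    (hQp : IsPGroup p Q) (hQ1 : Q ≠ ⊥) (hL : IsLarge Q) : IsWeaklyClosedSubgroup p Q := by
  obtain ⟨S, hS⟩ := hQp.exists_le_sylow
  refine ⟨S, hS, ?_⟩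
  intro g hg
  exact Subgroup.mem_normalizer_iff_map_conj_eq.mp (large_wc hQ1 hL S hS g hg)

/-- If the large subgroup `Q` normalizes the nontrivial `p`-subgroup `Y` then
`C(Y) ≤ N(Q)`. -/
theorem large_centralizer_le_normalizer [Finite G] [Fact p.Prime] {Q : Subgroup G}
    (hQp : IsPGroup p Q) (hL : IsLarge Q) {Y : Subgroup G} (hYp : IsPGroup p Y) (hY1 : Y ≠ ⊥)
    (hQY : Q ≤ Subgroup.normalizer (Y : Set G)) :
    Subgroup.centralizer (Y : Set G) ≤ Subgroup.normalizer (Q : Set G) := by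
  have hD : IsPGroup p ↥(Q ⊔ Y) := IsPGroup.to_sup_of_normal_right' hQp hYp hQY
  obtain ⟨x, hxY, hxo, hxc⟩ := exists_orderOf_eq_prime_central hD (le_sup_right : Y ≤ Q ⊔ Y)
    (sup_le hQY Subgroup.le_normalizer) hY1
  have hp : p.Prime := Fact.out
  have hU : Subgroup.zpowers x ≤ Subgroup.centralizer (Q : Set G) := by
    rw [Subgroup.zpowers_le, Subgroup.mem_centralizer_iff]
    intro q hq
    exact hxc q (Subgroup.mem_sup_left hq)
  have hU1 : Subgroup.zpowers x ≠ ⊥ := by
    intro hb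
    rw [Subgroup.zpowers_eq_bot] at hb
    rw [hb, orderOf_one] at hxo
    exact hp.one_lt.ne hxo
  have h1 := hL.2 _ hU hU1
  refine le_trans ?_ h1
  refine le_trans ?_ (centralizer_singleton_le_normalizer_zpowers x)
  apply Subgroup.centralizer_le
  intro z hz
  rw [Set.mem_singleton_iff] at hz
  rw [hz]; exact hxY

theorem large_weakClosure [Finite G] [Fact p.Prime] (Q : Subgroup G) (hQp : IsPGroup p ↥Q) (hQ1 : Q ≠ ⊥) (hL : Cfsg.IsLarge Q) (L : Subgroup G) (hQL : Q ≤ L) (Y : Subgroup G) (hYp : IsPGroup p ↥Y) (hY1 : Y ≠ ⊥) (hLY : L ≤ Subgroup.normalizer ((Y : Subgroup G) : Set G)) : Cfsg.weakClosure Q L = Cfsg.weakClosure Q (L ⊔ Subgroup.centralizer ((Y : Subgroup G) : Set G)) ∧ ⁅Cfsg.weakClosure Q L, Subgroup.centralizer ((Y : Subgroup G) : Set G)⁆ ≤ (Cfsg.pCoreOf p (Cfsg.weakClosure Q L)) ∧ Subgroup.centralizer ((Y : Subgroup G) : Set G) ≤ Subgroup.normalizer (((Cfsg.weakClosure Q L) : Subgroup G) : Set G) := by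
  have hwc := large_isWeaklyClosedSubgroup hQp hQ1 hL
  set C : Subgroup G := Subgroup.centralizer (Y : Set G) with hC
  have hCQ : C ≤ Subgroup.normalizer (Q : Set G) :=
    large_centralizer_le_normalizer hQp hL hYp hY1 (hQL.trans hLY)
  have hLC : L ≤ Subgroup.normalizer (C : Set G) :=
    hLY.trans (normalizer_le_normalizer_centralizer Y)
  -- C normalizes every L-conjugate of Q
  have hCQl : ∀ l ∈ L, C ≤ Subgroup.normalizer ((Q.map (MulAut.conj l).toMonoidHom : Subgroup G) : Set G) := by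
    intro l hl
    rw [normalizer_map_conj]
    have hCl : C.map (MulAut.conj l).toMonoidHom = C :=
      Subgroup.mem_normalizer_iff_map_conj_eq.mp (hLC hl)
    have := Subgroup.map_mono (f := (MulAut.conj l).toMonoidHom) hCQ
    rwa [hCl] at this
  have hi := weakClosure_eq_iSup hQp hwc hQL
  set Lc := weakClosure Q L with hLc
  have hLcL : Lc ≤ L := by
    rw [hi]
    exact iSup_le fun k => map_conj_le_of_mem hQL k.2
  have hQlLc : ∀ l : L, Q.map (MulAut.conj (l : G)).toMonoidHom ≤ Lc := by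
    intro l
    rw [hi]
    exact le_iSup (fun k : ↥L => Q.map (MulAut.conj (k : G)).toMonoidHom) l
  -- third claim
  have h3 : C ≤ Subgroup.normalizer (Lc : Set G) := by
    intro c hc
    apply mem_normalizer_of_map_conj_le
    rw [hi, Subgroup.map_iSup]
    apply iSup_le
    intro l
    have e : (Q.map (MulAut.conj (l : G)).toMonoidHom).map (MulAut.conj c).toMonoidHom =
        Q.map (MulAut.conj (l : G)).toMonoidHom :=
      Subgroup.mem_normalizer_iff_map_conj_eq.mp (hCQl l l.2 hc)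
    rw [e]
    exact le_iSup (fun k : ↥L => Q.map (MulAut.conj (k : G)).toMonoidHom) l
  -- first claim
  have h1 : Lc = weakClosure Q (L ⊔ C) := by
    rw [weakClosure_eq_iSup hQp hwc (hQL.trans le_sup_left), hi]
    apply le_antisymm
    · apply iSup_le
      intro l
      exact le_iSup (fun k : ↥(L ⊔ C) => Q.map (MulAut.conj (k : G)).toMonoidHom)
        ⟨(l : G), Subgroup.mem_sup_left l.2⟩
    · apply iSup_le
      rintro ⟨k, hk⟩
      have hk' : k ∈ ((L ⊔ C : Subgroup G) : Set G) := hk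
      rw [Subgroup.coe_mul_of_left_le_normalizer_right L C hLC] at hk'
      obtain ⟨l, hl, c, hc, rfl⟩ := hk'
      have e : Q.map (MulAut.conj c).toMonoidHom = Q :=
        Subgroup.mem_normalizer_iff_map_conj_eq.mp (hCQ hc)
      show Q.map (MulAut.conj (l * c)).toMonoidHom ≤ _
      rw [← map_conj_map_conj, e]
      exact le_iSup (fun k : ↥L => Q.map (MulAut.conj (k : G)).toMonoidHom) ⟨l, hl⟩
  refine ⟨h1, ?_, h3⟩
  -- second claim
  set C₀ : Subgroup G := C ⊓ Lc with hC₀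
  have hLcC₀ : Lc ≤ Subgroup.normalizer (C₀ : Set G) := by
    intro x hx
    have hx1 := hLC (hLcL hx)
    rw [Subgroup.mem_normalizer_iff] at hx1 ⊢
    intro h
    constructor
    · rintro ⟨h1, h2⟩
      exact ⟨(hx1 h).mp h1, Lc.mul_mem (Lc.mul_mem hx h2) (Lc.inv_mem hx)⟩
    · rintro ⟨h1, h2⟩
      refine ⟨(hx1 h).mpr h1, ?_⟩
      have e : h = x⁻¹ * (x * h * x⁻¹) * x := by group
      rw [e]; exact Lc.mul_mem (Lc.mul_mem (Lc.inv_mem hx) h2) hx
  have hOC₀ : pCoreOf p C₀ ≤ pCoreOf p Lc := by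
    apply le_pCoreOf ((pCoreOf_le C₀).trans inf_le_right)
      (hLcC₀.trans (normalizer_le_normalizer_pCoreOf C₀)) (pCoreOf_isPGroup C₀)
  rw [Subgroup.commutator_comm, hi]
  apply commutator_iSup_le
  · intro l
    rw [← hi]
    exact (hQlLc l).trans (le_normalizer_pCoreOf Lc)
  · intro l
    rw [← hi]
    set Ql := Q.map (MulAut.conj (l : G)).toMonoidHom with hQl
    have hA : ⁅C, Ql⁆ ≤ Ql ⊓ C := by
      apply le_inf
      · exact Subgroup.le_normalizer_iff_commutator_le_right.mp (hCQl l l.2)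
      · exact Subgroup.le_normalizer_iff_commutator_le_left.mp (((hQlLc l).trans hLcL).trans hLC)
    have hAp : IsPGroup p ↥(Ql ⊓ C) := (isPGroup_map_conj hQp _).to_le inf_le_left
    have hAC₀ : Ql ⊓ C ≤ C₀ := le_inf inf_le_right (inf_le_left.trans (hQlLc l))
    have hC₀A : C₀ ≤ Subgroup.normalizer ((Ql ⊓ C : Subgroup G) : Set G) := by
      intro x hx
      have hx1 := hCQl l l.2 hx.1
      rw [Subgroup.mem_normalizer_iff] at hx1 ⊢
      intro h
      constructor
      · rintro ⟨h1, h2⟩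
        exact ⟨(hx1 h).mp h1, C.mul_mem (C.mul_mem hx.1 h2) (C.inv_mem hx.1)⟩
      · rintro ⟨h1, h2⟩
        refine ⟨(hx1 h).mpr h1, ?_⟩
        have e : h = x⁻¹ * (x * h * x⁻¹) * x := by group
        rw [e]; exact C.mul_mem (C.mul_mem (C.inv_mem hx.1) h2) hx.1
    exact (hA.trans (le_pCoreOf hAC₀ hC₀A hAp)).trans hOC₀

end Cfsg.Agent.Lib.Helper16
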