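import Cfsg.Agent.Lib.Helper16.PReduced
import Cfsg.Prelude.Def_LocalStructure

set_option autoImplicit false
open Cfsg
open scoped Pointwise commutatorElement

namespace Cfsg.Agent.Lib.Helper16

variable {G : Type*} [Group G] {p : ℕ}

/-- ambient form of "`V` is a `p`-reduced normal subgroup of `K`". -/
def APR (p : ℕ) (K V : Subgroup G) : Prop :=
  K ≤ Subgroup.normalizer (V : Set G) ∧ IsElementaryAbelian p V ∧
    ∀ D : Subgroup G, D ≤ K → K ≤ Subgroup.normalizer (D : Set G) →
      (∀ d ∈ D, ∃ k : ℕ, d ^ (p ^ k) ∈ Subgroup.centralizer (V : Set G)) →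
        D ≤ Subgroup.centralizer (V : Set G)

theorem mem_centralizer_subgroupOf {K V : Subgroup G} (hVK : V ≤ K) (x : K) :
    x ∈ Subgroup.centralizer ((V.subgroupOf K : Subgroup K) : Set K) ↔
      (x : G) ∈ Subgroup.centralizer (V : Set G) := by
  rw [Subgroup.mem_centralizer_iff, Subgroup.mem_centralizer_iff]
  constructor
  · intro h v hv
    have := h ⟨v, hVK hv⟩ (by
      show (⟨v, hVK hv⟩ : K) ∈ V.subgroupOf K
      rw [Subgroup.mem_subgroupOf]; exact hv)
    exact congrArg Subtype.val this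
  · intro h v hv
    have hv' : (v : G) ∈ V := by
      have : v ∈ V.subgroupOf K := hv
      rwa [Subgroup.mem_subgroupOf] at this
    exact Subtype.ext (h v hv')

theorem isElementaryAbelian_subgroupOf {K V : Subgroup G} (hVK : V ≤ K) :
    IsElementaryAbelian p (V.subgroupOf K) ↔ IsElementaryAbelian p V := by
  constructor
  · rintro ⟨hc, he⟩
    refine ⟨⟨⟨fun a b => ?_⟩⟩, ?_⟩
    · have := hc.is_comm.comm (⟨⟨a, hVK a.2⟩, by rw [Subgroup.mem_subgroupOf]; exact a.2⟩ : V.subgroupOf K)
        ⟨⟨b, hVK b.2⟩, by rw [Subgroup.mem_subgroupOf]; exact b.2⟩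
      apply Subtype.ext
      have h2 := congrArg (fun z : V.subgroupOf K => ((z : K) : G)) this
      simpa using h2
    · intro a ha
      have := he ⟨a, hVK ha⟩ (by rw [Subgroup.mem_subgroupOf]; exact ha)
      simpa using congrArg Subtype.val this
  · rintro ⟨hc, he⟩
    refine ⟨⟨⟨fun a b => ?_⟩⟩, ?_⟩
    · have ha : ((a : K) : G) ∈ V := by
        have := a.2; rwa [Subgroup.mem_subgroupOf] at this
      have hb : ((b : K) : G) ∈ V := by
        have := b.2; rwa [Subgroup.mem_subgroupOf] at this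
      have := hc.is_comm.comm ⟨_, ha⟩ ⟨_, hb⟩
      apply Subtype.ext
      apply Subtype.ext
      have h2 := congrArg Subtype.val this
      simpa using h2
    · intro a ha
      rw [Subgroup.mem_subgroupOf] at ha
      apply Subtype.ext
      simpa using he _ ha

theorem isPReducedNormal_subgroupOf_iff [Finite G] [Fact p.Prime] {K V : Subgroup G} (hVK : V ≤ K) :
    IsPReducedNormal p (V.subgroupOf K) ↔ APR p K V := by
  rw [isPReducedNormal_iff, Subgroup.normal_subgroupOf_iff_le_normalizer hVK,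
    isElementaryAbelian_subgroupOf hVK]
  unfold APR
  refine and_congr_right (fun hKV => and_congr_right (fun hVe => ?_))
  constructor
  · intro hPR D hDK hKD hDp
    have hn : (D.subgroupOf K).Normal := (Subgroup.normal_subgroupOf_iff_le_normalizer hDK).mpr hKD
    have := hPR (D.subgroupOf K) hn (by
      intro d hd
      rw [Subgroup.mem_subgroupOf] at hd
      obtain ⟨k, hk⟩ := hDp _ hd
      refine ⟨k, ?_⟩
      rw [mem_centralizer_subgroupOf hVK]
      simpa using hk)
    intro d hd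
    have h2 := this (show (⟨d, hDK hd⟩ : K) ∈ D.subgroupOf K by
      rw [Subgroup.mem_subgroupOf]; exact hd)
    rwa [mem_centralizer_subgroupOf hVK] at h2
  · intro hA D' hD'n hD'p
    have hDK : D'.map K.subtype ≤ K := Subgroup.map_subtype_le _
    have hsub : (D'.map K.subtype).subgroupOf K = D' :=
      Subgroup.comap_map_eq_self_of_injective K.subtype_injective D'
    have hKD : K ≤ Subgroup.normalizer ((D'.map K.subtype : Subgroup G) : Set G) := by
      rw [← Subgroup.normal_subgroupOf_iff_le_normalizer hDK, hsub]; exact hD'n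
    have := hA (D'.map K.subtype) hDK hKD (by
      rintro _ ⟨d, hd, rfl⟩
      obtain ⟨k, hk⟩ := hD'p d hd
      refine ⟨k, ?_⟩
      rw [mem_centralizer_subgroupOf hVK] at hk
      simpa using hk)
    intro d hd
    rw [mem_centralizer_subgroupOf hVK]
    exact this ⟨d, hd, rfl⟩


theorem largestPReducedOf_spec [Finite G] [Fact p.Prime] (K : Subgroup G)
    (hK : Subgroup.centralizer (pCore p ↥K : Set ↥K) ≤ pCore p ↥K) :
    largestPReducedOf p K ≤ K ∧ APR p K (largestPReducedOf p K) ∧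
      (∀ V : Subgroup G, V ≤ K → APR p K V → V ≤ largestPReducedOf p K) ∧
      largestPReducedOf p K ≤ pCoreOf p K ∧
      largestPReducedOf p K ≤ Subgroup.centralizer ((pCoreOf p K : Subgroup G) : Set G) := by
  obtain ⟨Y', hY', hmax⟩ := exists_largest_pReduced (G := ↥K) (p := p) hK
  have hsup : largestPReduced p ↥K = Y' := by
    unfold largestPReduced
    apply le_antisymm
    · exact sSup_le fun V hV => hmax V hV
    · exact le_sSup hY'
  have hY : largestPReducedOf p K = Y'.map K.subtype := by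
    unfold largestPReducedOf; rw [hsup]
  have hYK : largestPReducedOf p K ≤ K := by rw [hY]; exact Subgroup.map_subtype_le _
  have hsub : (largestPReducedOf p K).subgroupOf K = Y' := by
    rw [hY]; exact Subgroup.comap_map_eq_self_of_injective K.subtype_injective Y'
  have hZ := pReduced_le_center_pCore hK hY'
  refine ⟨hYK, ?_, ?_, ?_, ?_⟩
  · rw [← isPReducedNormal_subgroupOf_iff hYK, hsub]; exact hY'
  · intro V hVK hV
    rw [← isPReducedNormal_subgroupOf_iff hVK] at hV
    have h1 := hmax _ hV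
    rw [hY, ← Subgroup.map_subgroupOf_eq_of_le hVK]
    exact Subgroup.map_mono h1
  · rw [hY]
    unfold pCoreOf
    exact Subgroup.map_mono (hZ.trans inf_le_left)
  · rw [hY]
    rintro _ ⟨y, hy, rfl⟩
    rw [Subgroup.mem_centralizer_iff]
    rintro _ ⟨x, hx, rfl⟩
    have h1 := (hZ hy).2
    have := (Subgroup.mem_centralizer_iff.mp h1) x hx
    exact congrArg Subtype.val this

/-- `O_p(K)` lies in every Sylow `p`-subgroup of the ambient group contained in `K`. -/
theorem pCoreOf_le_sylow [Finite G] [Fact p.Prime] {K : Subgroup G} (T : Sylow p G)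
    (hTK : (T : Subgroup G) ≤ K) : pCoreOf p K ≤ T := by
  have h1 := pCore_le_sylow (T.subtype hTK)
  rintro _ ⟨x, hx, rfl⟩
  have h2 := h1 hx
  rw [Sylow.coe_subtype, Subgroup.mem_subgroupOf] at h2
  exact h2


theorem inf_le_normalizer_inf {K A B : Subgroup G} (hA : K ≤ Subgroup.normalizer (A : Set G))
    (hB : K ≤ Subgroup.normalizer (B : Set G)) :
    K ≤ Subgroup.normalizer ((A ⊓ B : Subgroup G) : Set G) := by
  intro x hx
  have h1 := Subgroup.mem_normalizer_iff.mp (hA hx)
  have h2 := Subgroup.mem_normalizer_iff.mp (hB hx)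
  rw [Subgroup.mem_normalizer_iff]
  intro h
  constructor
  · rintro ⟨ha, hb⟩; exact ⟨(h1 h).mp ha, (h2 h).mp hb⟩
  · rintro ⟨ha, hb⟩; exact ⟨(h1 h).mpr ha, (h2 h).mpr hb⟩

theorem sup_le_normalizer_sup [Finite G] {K A B : Subgroup G}
    (hA : K ≤ Subgroup.normalizer (A : Set G))
    (hB : K ≤ Subgroup.normalizer (B : Set G)) :
    K ≤ Subgroup.normalizer ((A ⊔ B : Subgroup G) : Set G) := by
  intro x hx
  apply mem_normalizer_of_map_conj_le
  rw [Subgroup.map_sup]
  have e1 : A.map (MulAut.conj x).toMonoidHom = A :=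
    Subgroup.mem_normalizer_iff_map_conj_eq.mp (hA hx)
  have e2 : B.map (MulAut.conj x).toMonoidHom = B :=
    Subgroup.mem_normalizer_iff_map_conj_eq.mp (hB hx)
  rw [e1, e2]

/-- `(d c)^n ∈ C d^n`-type statement: if `d` normalizes `C`, `c ∈ C` and `d^n ∈ C` then
`(d c)^n ∈ C`. -/
theorem mul_pow_mem_of_normalizes {C : Subgroup G} {d c : G} (hc : c ∈ C)
    (hd : d ∈ Subgroup.normalizer (C : Set G)) {n : ℕ} (hdn : d ^ n ∈ C) : (d * c) ^ n ∈ C := by
  have h1 : d * c * d⁻¹ ∈ C := (Subgroup.mem_normalizer_iff.mp hd c).mp hc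
  have h2 := pow_mul_mem_of_normalizes h1 hd n
  have e : d * c * d⁻¹ * d = d * c := by group
  rw [e] at h2
  have e2 : (d * c) ^ n = (d * c) ^ n * (d ^ n)⁻¹ * d ^ n := by group
  rw [e2]
  exact C.mul_mem h2 hdn

theorem largestPReduced_le_of_sup_eq [Finite G] [Fact p.Prime] (T : Sylow p G) (L M : Subgroup G) (hTL : (T : Subgroup G) ≤ L) (hTM : (T : Subgroup G) ≤ M) (hL : Subgroup.centralizer (Cfsg.pCore p ↥L : Set ↥L) ≤ Cfsg.pCore p ↥L) (hM : Subgroup.centralizer (Cfsg.pCore p ↥M : Set ↥M) ≤ Cfsg.pCore p ↥M) : L ⊔ Subgroup.centralizer (((Cfsg.largestPReducedOf p M) : Subgroup G) : Set G) = M ⊔ Subgroup.centralizer (((Cfsg.largestPReducedOf p M) : Subgroup G) : Set G) → (Cfsg.largestPReducedOf p M) ≤ (Cfsg.largestPReducedOf p L) := by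
  intro heq
  obtain ⟨hYM, ⟨hMY, hYe, hPRM⟩, -, hYO, -⟩ := largestPReducedOf_spec (p := p) M hM
  obtain ⟨-, -, hmaxL, -, -⟩ := largestPReducedOf_spec (p := p) L hL
  set Y : Subgroup G := largestPReducedOf p M with hY
  set C : Subgroup G := Subgroup.centralizer (Y : Set G) with hC
  have hYT : Y ≤ T := hYO.trans (pCoreOf_le_sylow T hTM)
  have hYL : Y ≤ L := hYT.trans hTL
  have hCY : C ≤ Subgroup.normalizer (Y : Set G) := Subgroup.centralizer_le_normalizer _
  have hLY : L ≤ Subgroup.normalizer (Y : Set G) := by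
    calc L ≤ L ⊔ C := le_sup_left
      _ = M ⊔ C := heq
      _ ≤ Subgroup.normalizer (Y : Set G) := sup_le hMY hCY
  have hLC : L ≤ Subgroup.normalizer (C : Set G) :=
    hLY.trans (normalizer_le_normalizer_centralizer Y)
  have hMC : M ≤ Subgroup.normalizer (C : Set G) :=
    hMY.trans (normalizer_le_normalizer_centralizer Y)
  apply hmaxL Y hYL
  refine ⟨hLY, hYe, ?_⟩
  intro D hDL hLD hDp
  set D' : Subgroup G := (D ⊔ C) ⊓ M with hD'
  have hLCDC : L ⊔ C ≤ Subgroup.normalizer ((D ⊔ C : Subgroup G) : Set G) := by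
    apply sup_le
    · exact sup_le_normalizer_sup hLD hLC
    · exact (le_sup_right : C ≤ D ⊔ C).trans Subgroup.le_normalizer
  have hMD' : M ≤ Subgroup.normalizer (D' : Set G) := by
    apply inf_le_normalizer_inf
    · calc M ≤ M ⊔ C := le_sup_left
        _ = L ⊔ C := heq.symm
        _ ≤ _ := hLCDC
    · exact Subgroup.le_normalizer
  have hD'p : ∀ d ∈ D', ∃ k : ℕ, d ^ (p ^ k) ∈ C := by
    rintro d' ⟨hd', -⟩
    have hd'' : d' ∈ ((D ⊔ C : Subgroup G) : Set G) := hd'
    rw [Subgroup.coe_mul_of_left_le_normalizer_right D C (hDL.trans hLC)] at hd''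
    obtain ⟨d, hd, c, hc, rfl⟩ := hd''
    obtain ⟨k, hk⟩ := hDp d hd
    exact ⟨k, mul_pow_mem_of_normalizes hc (hLC (hDL hd)) hk⟩
  have hD'C : D' ≤ C := hPRM D' inf_le_right hMD' hD'p
  intro d hd
  have hd1 : d ∈ ((M ⊔ C : Subgroup G) : Set G) := by
    rw [← heq]; exact Subgroup.mem_sup_left (hDL hd)
  rw [Subgroup.coe_mul_of_left_le_normalizer_right M C hMC] at hd1
  obtain ⟨m, hm, c, hc, hmc⟩ := hd1
  have hmD' : m ∈ D' := by
    refine ⟨?_, hm⟩
    have e : m = d * c⁻¹ := by rw [← hmc]; group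
    rw [e]
    exact Subgroup.mul_mem _ (Subgroup.mem_sup_left hd) (Subgroup.mem_sup_right (C.inv_mem hc))
  rw [← hmc]
  exact C.mul_mem (hD'C hmD') hc

end Cfsg.Agent.Lib.Helper16
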