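import Cfsg.Prelude.Def_Transfer
import Cfsg.Agent.Lib.Helper16.PReduced2
import Cfsg.Agent.Lib.Helper16.Large2
import Cfsg.Agent.Lib.Helper16.PCore
import Cfsg.Agent.Lib.Helper1.NilpotentAction

set_option autoImplicit false
set_option linter.style.haveILetI false
open Cfsg
open scoped Pointwise

namespace Cfsg.Agent.Lib.Helper16

variable {G : Type*} [Group G]

/-- relative trace: for `v ∈ C_V(T)`, `T ≤ R ≤ N(V)`, `V` abelian, there is `c ∈ C_V(R)` and
`w ∈ [V, R]` with `c = w * v ^ |R : T|`. -/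
theorem exists_trace [Finite G] (V R T : Subgroup G) (hVc : ∀ a ∈ V, ∀ b ∈ V, a * b = b * a)
    (hRV : R ≤ Subgroup.normalizer (V : Set G)) (v : G) (hv : v ∈ V)
    (hvT : v ∈ Subgroup.centralizer (T : Set G)) :
    ∃ c ∈ V ⊓ Subgroup.centralizer (R : Set G), ∃ w ∈ ⁅V, R⁆, c = w * v ^ (T.relIndex R) := by
  classical
  letI : CommGroup ↥V :=
    { (inferInstance : Group ↥V) with
      mul_comm := fun a b => Subtype.ext (hVc a a.2 b b.2) }
  set T' : Subgroup ↥R := T.subgroupOf R with hT'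
  letI : Fintype (↥R ⧸ T') := Fintype.ofFinite _
  have hconj : ∀ r ∈ R, ∀ x ∈ V, r * x * r⁻¹ ∈ V := fun r hr x hx =>
    (Subgroup.mem_normalizer_iff.mp (hRV hr) x).mp hx
  let f : (↥R ⧸ T') → ↥V := fun q => ⟨(q.out : G) * v * (q.out : G)⁻¹, hconj _ q.out.2 v hv⟩
  set c : ↥V := ∏ q, f q with hc
  have hfix : ∀ r ∈ R, r * (c : G) * r⁻¹ = (c : G) := by
    intro r hr
    let φ : ↥V →* ↥V :=
      { toFun := fun x => ⟨r * (x : G) * r⁻¹, hconj r hr x x.2⟩
        map_one' := by apply Subtype.ext; simp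
        map_mul' := by intro a b; apply Subtype.ext; simp }
    have h1 : φ c = ∏ q, φ (f q) := map_prod φ f Finset.univ
    have h2 : ∀ q, φ (f q) = f ((⟨r, hr⟩ : ↥R) • q) := by
      intro q
      apply Subtype.ext
      show r * ((q.out : G) * v * (q.out : G)⁻¹) * r⁻¹ =
        ((((⟨r, hr⟩ : ↥R) • q).out : ↥R) : G) * v * ((((⟨r, hr⟩ : ↥R) • q).out : ↥R) : G)⁻¹
      set a : ↥R := ((⟨r, hr⟩ : ↥R) • q).out with ha
      set b : ↥R := (⟨r, hr⟩ : ↥R) * q.out with hb
      have hab : (QuotientGroup.mk a : ↥R ⧸ T') = QuotientGroup.mk b := by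
        rw [ha, QuotientGroup.out_eq', hb]
        conv_lhs => rw [← QuotientGroup.out_eq' q]
        rfl
      have hmem : a⁻¹ * b ∈ T' := QuotientGroup.eq.mp hab
      have hmem' : (a : G)⁻¹ * (b : G) ∈ T := by
        have := Subgroup.mem_subgroupOf.mp hmem
        simpa using this
      have hcomm : ((a : G)⁻¹ * (b : G)) * v = v * ((a : G)⁻¹ * (b : G)) :=
        ((Subgroup.mem_centralizer_iff.mp hvT) _ hmem')
      have hbG : (b : G) = r * (q.out : G) := rfl
      have e1 : r * ((q.out : G) * v * (q.out : G)⁻¹) * r⁻¹ = (b : G) * v * (b : G)⁻¹ := by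
        rw [hbG]; group
      have e2 : (b : G) * v * (b : G)⁻¹ =
          (a : G) * (((a : G)⁻¹ * (b : G)) * v) * ((a : G)⁻¹ * (b : G))⁻¹ * (a : G)⁻¹ := by group
      rw [e1, e2, hcomm]; group
    have h3 : ∏ q, φ (f q) = ∏ q, f q := by
      simp_rw [h2]
      exact Equiv.prod_comp (MulAction.toPerm (⟨r, hr⟩ : ↥R)) f
    have h4 : φ c = c := by rw [h1, h3]
    exact congrArg Subtype.val h4
  refine ⟨(c : G), Subgroup.mem_inf.mpr ⟨c.2, ?_⟩, ?_⟩
  · rw [Subgroup.mem_centralizer_iff]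
    intro r hr
    have := hfix r hr
    calc r * (c : G) = (r * (c : G) * r⁻¹) * r := by group
      _ = (c : G) * r := by rw [this]
  · let v' : ↥V := ⟨v, hv⟩
    let g : (↥R ⧸ T') → ↥V := fun q => f q * v'⁻¹
    have hfg : ∀ q, f q = g q * v' := fun q => by simp [g]
    have hprod : c = (∏ q, g q) * v' ^ (Fintype.card (↥R ⧸ T')) := by
      rw [hc]
      simp_rw [hfg]
      rw [Finset.prod_mul_distrib, Finset.prod_const, Finset.card_univ]
    have hcard : Fintype.card (↥R ⧸ T') = T.relIndex R := by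
      rw [← Nat.card_eq_fintype_card]; rfl
    have hgmem : ∏ q, g q ∈ (⁅V, R⁆).subgroupOf V := by
      apply Subgroup.prod_mem
      intro q _
      rw [Subgroup.mem_subgroupOf]
      show (q.out : G) * v * (q.out : G)⁻¹ * v⁻¹ ∈ ⁅V, R⁆
      rw [Subgroup.commutator_comm]
      exact Subgroup.commutator_mem_commutator q.out.2 hv
    refine ⟨((∏ q, g q : ↥V) : G), Subgroup.mem_subgroupOf.mp hgmem, ?_⟩
    rw [← hcard]
    have := congrArg Subtype.val hprod
    simpa using this

/-- `H` normalizes the image of a normal subgroup of `↥H`. -/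
theorem le_normalizer_map_subtype_of_normal (H : Subgroup G) (N : Subgroup ↥H) [hN : N.Normal] :
    H ≤ Subgroup.normalizer ((N.map H.subtype : Subgroup G) : Set G) := by
  intro h hh
  rw [Subgroup.mem_normalizer_iff]
  intro x
  constructor
  · rintro ⟨y, hy, rfl⟩
    exact ⟨⟨h, hh⟩ * y * ⟨h, hh⟩⁻¹, hN.conj_mem y hy _, by simp⟩
  · rintro ⟨y, hy, hye⟩
    refine ⟨⟨h, hh⟩⁻¹ * y * ⟨h, hh⟩, ?_, ?_⟩
    · have := hN.conj_mem y hy (⟨h, hh⟩⁻¹)
      simpa using this
    · simp only [Subgroup.coe_subtype, Subgroup.coe_mul, Subgroup.coe_inv]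
      have : (y : G) = h * x * h⁻¹ := hye
      rw [this]; group

/-- `V = [V, O^p(H)] C_V(O^p(H))` when `V` is generated by the `H`-conjugates of `C_V(T)`. -/
theorem trace_generation [Finite G] {p : ℕ} [Fact p.Prime] (V H : Subgroup G)
    (hV : Cfsg.IsElementaryAbelian p V) (hHV : H ≤ Subgroup.normalizer (V : Set G))
    (R : Subgroup G) (hR : R = (Cfsg.pResidual p ↥H).map H.subtype) (S : Sylow p ↥R)
    (T : Subgroup G) (hT : T = ((S : Subgroup ↥R).map R.subtype))
    (hgen : ∀ W : Subgroup G, H ≤ Subgroup.normalizer (W : Set G) →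
      (V ⊓ Subgroup.centralizer ((T : Subgroup G) : Set G)) ≤ W → V ≤ W) :
    ⁅V, R⁆ ⊔ (V ⊓ Subgroup.centralizer ((R : Subgroup G) : Set G)) = V := by
  have hp : p.Prime := Fact.out
  have hVc : ∀ a ∈ V, ∀ b ∈ V, a * b = b * a := by
    intro a ha b hb
    have := hV.1.is_comm.comm (⟨a, ha⟩ : ↥V) ⟨b, hb⟩
    exact congrArg Subtype.val this
  have hRH : R ≤ H := by rw [hR]; exact Subgroup.map_subtype_le _
  have hRV : R ≤ Subgroup.normalizer (V : Set G) := hRH.trans hHV
  have hHR : H ≤ Subgroup.normalizer (R : Set G) := by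
    rw [hR]; exact le_normalizer_map_subtype_of_normal H _
  have hVR : ⁅V, R⁆ ≤ V := by
    rw [Subgroup.commutator_comm]
    exact Subgroup.commutator_le.mpr (fun r hr v hv => by
      have h1 : r * v * r⁻¹ ∈ V := (Subgroup.mem_normalizer_iff.mp (hRV hr) v).mp hv
      exact V.mul_mem h1 (V.inv_mem hv))
  apply le_antisymm (sup_le hVR inf_le_left)
  apply hgen
  · apply sup_le_normalizer_sup
    · exact (le_inf hHV hHR).trans
        (Cfsg.Agent.Lib.Helper1.inf_normalizer_le_normalizer_commutator V R)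
    · exact inf_le_normalizer_inf hHV (hHR.trans (normalizer_le_normalizer_centralizer R))
  · rintro v ⟨hv, hvT⟩
    obtain ⟨c, hc, w, hw, hcw⟩ := exists_trace V R T hVc hRV v hv hvT
    set m := T.relIndex R with hm
    have hmp : ¬ p ∣ m := by
      have h1 : T.subgroupOf R = (S : Subgroup ↥R) := by
        rw [hT]
        exact Subgroup.comap_map_eq_self_of_injective (Subgroup.subtype_injective R) _
      rw [hm, Subgroup.relIndex, h1]
      exact S.not_dvd_index
    have hvm : v ^ m ∈ ⁅V, R⁆ ⊔ (V ⊓ Subgroup.centralizer ((R : Subgroup G) : Set G)) := by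
      have : v ^ m = w⁻¹ * c := by rw [hcw]; group
      rw [this]
      exact Subgroup.mul_mem _ (Subgroup.mem_sup_left (Subgroup.inv_mem _ hw))
        (Subgroup.mem_sup_right hc)
    have hcop : m.Coprime (orderOf v) := by
      have hdvd : orderOf v ∣ p := orderOf_dvd_of_pow_eq_one (hV.2 v hv)
      exact Nat.Coprime.coprime_dvd_right hdvd
        ((Nat.Prime.coprime_iff_not_dvd hp).mpr hmp).symm
    obtain ⟨j, hj⟩ := exists_pow_eq_self_of_coprime hcop
    rw [← hj]
    exact Subgroup.pow_mem _ hvm j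

end Cfsg.Agent.Lib.Helper16
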