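import Cfsg.Prelude.Def_Local
import Cfsg.Agent.Lib.Helper9.PLocal2
import Cfsg.Agent.Lib.Helper9.FStar4
import Cfsg.Agent.Lib.Helper16.PCore
import Cfsg.Agent.Lib.Helper16.Large2

set_option autoImplicit false
open Cfsg

namespace Cfsg.Agent.Lib.Helper16

/-- bridge: `F*(L) = O_p(L)` iff `C_L(O_p(L)) ≤ O_p(L)` (finite `L`). -/
theorem fstar_eq_pCore_iff {L : Type*} [Group L] [Finite L] {p : ℕ} [Fact p.Prime] :
    Cfsg.generalizedFittingSubgroup L = Cfsg.pCore p L ↔
      Subgroup.centralizer (Cfsg.pCore p L : Set L) ≤ Cfsg.pCore p L := by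
  constructor
  · intro h
    have := Cfsg.Agent.Lib.Helper9.centralizer_generalizedFittingSubgroup_le (G := L)
    rwa [h] at this
  · intro hc
    have hpc_le_fit : Cfsg.pCore p L ≤ Cfsg.fittingSubgroup L :=
      Cfsg.Agent.Lib.Helper1.le_fittingSubgroup inferInstance
        (Cfsg.Agent.Lib.Helper1.pCore_isPGroup p L).isNilpotent
    have hlay : Cfsg.layer L = ⊥ := by
      have hle : Cfsg.layer L ≤ Cfsg.pCore p L :=
        (Cfsg.Agent.Lib.Helper9.layer_le_centralizer_fittingSubgroup.trans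
          (Subgroup.centralizer_le hpc_le_fit)).trans hc
      have hsol : Group.IsSolvable ↥(Cfsg.pCore p L) := by
        haveI : Group.IsNilpotent ↥(Cfsg.pCore p L) :=
          (Cfsg.Agent.Lib.Helper1.pCore_isPGroup p L).isNilpotent
        infer_instance
      exact Cfsg.Agent.Lib.Helper9.layer_eq_bot_of_le_isSolvable hsol hle
    have hpp : Cfsg.pPrimeCore p L = ⊥ := by
      have h2 := Cfsg.Agent.Lib.Helper9.commutator_pCore_pPrimeCore (G := L) p
      rw [Subgroup.commutator_comm, Subgroup.commutator_eq_bot_iff_le_centralizer] at h2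
      have h3 : Cfsg.pPrimeCore p L ≤ Cfsg.pCore p L := h2.trans hc
      have hdisj : Disjoint (Cfsg.pPrimeCore p L) (Cfsg.pCore p L) := by
        apply Subgroup.disjoint_of_coprime_natCard
        obtain ⟨k, hk⟩ := IsPGroup.iff_card.mp (Cfsg.Agent.Lib.Helper1.pCore_isPGroup p L)
        rw [hk]
        exact Nat.Coprime.pow_right k (Cfsg.Agent.Lib.Helper12.pPrimeCore_coprime (X := L) p)
      exact hdisj.eq_bot_of_le h3
    unfold Cfsg.generalizedFittingSubgroup
    rw [hlay, bot_sup_eq]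
    exact Cfsg.Agent.Lib.Helper9.fittingSubgroup_eq_pCore_of_pPrimeCore_eq_bot p hpp

/-- characteristic `p` passes to a subgroup `K₁` normalized by a characteristic-`p` overgroup `K₂`. -/
theorem charP_of_le_normalizer {X : Type*} [Group X] [Finite X] {p : ℕ} [Fact p.Prime]
    {K₁ K₂ : Subgroup X} (h12 : K₁ ≤ K₂) (hn : K₂ ≤ Subgroup.normalizer (K₁ : Set X))
    (h : Subgroup.centralizer (Cfsg.pCore p ↥K₂ : Set ↥K₂) ≤ Cfsg.pCore p ↥K₂) :
    Subgroup.centralizer (Cfsg.pCore p ↥K₁ : Set ↥K₁) ≤ Cfsg.pCore p ↥K₁ := by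
  haveI : (K₁.subgroupOf K₂).Normal := (Subgroup.normal_subgroupOf_iff_le_normalizer h12).mpr hn
  have h1 := charP_of_normal h (K₁.subgroupOf K₂)
  exact charP_of_equiv (Subgroup.subgroupOfEquivOfLe h12) h1

/-- Lemma T: if `C_G(O_p(G)) ≤ M` and `M` has characteristic `p`, then `G` has characteristic `p`. -/
theorem charP_of_centralizer_le {G : Type*} [Group G] [Finite G] {p : ℕ} [Fact p.Prime]
    (M : Subgroup G) (hM : Subgroup.centralizer (Cfsg.pCore p ↥M : Set ↥M) ≤ Cfsg.pCore p ↥M)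
    (hle : Subgroup.centralizer (Cfsg.pCore p G : Set G) ≤ M) :
    Subgroup.centralizer (Cfsg.pCore p G : Set G) ≤ Cfsg.pCore p G := by
  set D : Subgroup G := Subgroup.centralizer (Cfsg.pCore p G : Set G) with hD
  haveI hOn : (Cfsg.pCore p G).Normal := inferInstance
  haveI hDn : D.Normal := Subgroup.normal_centralizer
  have hDM : D ≤ Subgroup.normalizer (D : Set G) := Subgroup.le_normalizer
  have hcD : Subgroup.centralizer (Cfsg.pCore p ↥D : Set ↥D) ≤ Cfsg.pCore p ↥D :=
    charP_of_le_normalizer hle (by rw [Subgroup.normalizer_eq_top_iff.mpr hDn]; exact le_top) hM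
  -- every element of `D` centralizes `O_p(D)`
  have htop : (⊤ : Subgroup ↥D) ≤ Subgroup.centralizer (Cfsg.pCore p ↥D : Set ↥D) := by
    intro d _
    rw [Subgroup.mem_centralizer_iff]
    intro y hy
    have h1 : (y : G) ∈ Cfsg.pCore p G := pCoreOf_le_pCore_of_normal D ⟨y, hy, rfl⟩
    have h2 := (Subgroup.mem_centralizer_iff.mp d.2) (y : G) h1
    exact Subtype.ext h2
  have hDp : IsPGroup p ↥D := by
    have h3 : (⊤ : Subgroup ↥D) ≤ Cfsg.pCore p ↥D := htop.trans hcD
    have h4 : IsPGroup p ↥(Cfsg.pCore p ↥D) := pCore_isPGroup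
    intro d
    obtain ⟨k, hk⟩ := h4 ⟨d, h3 (Subgroup.mem_top d)⟩
    exact ⟨k, congrArg Subtype.val hk⟩
  exact le_pCore hDn hDp

/-- swapping the two subgroups in `subgroupOf`. -/
def subgroupOfSwap {G : Type*} [Group G] (H K : Subgroup G) : ↥(H.subgroupOf K) ≃* ↥(K.subgroupOf H) where
  toFun y := ⟨⟨((y : ↥K) : G), Subgroup.mem_subgroupOf.mp y.2⟩, Subgroup.mem_subgroupOf.mpr (y : ↥K).2⟩
  invFun y := ⟨⟨((y : ↥H) : G), Subgroup.mem_subgroupOf.mp y.2⟩, Subgroup.mem_subgroupOf.mpr (y : ↥H).2⟩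
  left_inv y := rfl
  right_inv y := rfl
  map_mul' x y := rfl

theorem normalizer_centralizer_charP {X : Type*} [Group X] [Finite X] {p : ℕ} [Fact p.Prime]
    (B C : Subgroup X) (hB : IsPGroup p ↥B) (hCB : C ≤ B) (hCn : (C.subgroupOf B).Normal)
    (hC : Cfsg.generalizedFittingSubgroup ↥(Subgroup.normalizer (C : Set X)) =
      Cfsg.pCore p ↥(Subgroup.normalizer (C : Set X))) :
    Cfsg.generalizedFittingSubgroup ↥(Subgroup.normalizer (B : Set X)) =
      Cfsg.pCore p ↥(Subgroup.normalizer (B : Set X)) ∧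
    Cfsg.generalizedFittingSubgroup ↥(Subgroup.centralizer (B : Set X)) =
      Cfsg.pCore p ↥(Subgroup.centralizer (B : Set X)) := by
  set N : Subgroup X := Subgroup.normalizer (C : Set X) with hN
  set L : Subgroup X := Subgroup.normalizer (B : Set X) with hL
  have hBN : B ≤ N := (Subgroup.normal_subgroupOf_iff_le_normalizer hCB).mp hCn
  -- F2
  have h2 := Cfsg.Agent.Lib.Helper9.generalizedFittingSubgroup_normalizer_eq_pCore hC
    (P := B.subgroupOf N) hB.comap_subtype
  rw [fstar_eq_pCore_iff] at h2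
  have heq : Subgroup.normalizer ((B.subgroupOf N : Subgroup ↥N) : Set ↥N) = L.subgroupOf N :=
    (Subgroup.subgroupOf_normalizer_eq hBN).symm
  have h3 : Subgroup.centralizer (Cfsg.pCore p ↥(L.subgroupOf N) : Set ↥(L.subgroupOf N)) ≤
      Cfsg.pCore p ↥(L.subgroupOf N) := charP_of_equiv (MulEquiv.subgroupCongr heq) h2
  have h4 : Subgroup.centralizer (Cfsg.pCore p ↥(N.subgroupOf L) : Set ↥(N.subgroupOf L)) ≤
      Cfsg.pCore p ↥(N.subgroupOf L) := charP_of_equiv (subgroupOfSwap L N) h3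
  -- (b)
  have hb : Subgroup.centralizer (Cfsg.pCore p ↥L : Set ↥L) ≤ N.subgroupOf L := by
    intro d hd
    rw [Subgroup.mem_subgroupOf]
    have hBL : B.subgroupOf L ≤ Cfsg.pCore p ↥L := by
      apply le_pCore
      · rw [hL]; exact Subgroup.normal_in_normalizer
      · exact hB.comap_subtype
    have hdB : (d : X) ∈ Subgroup.centralizer (B : Set X) := by
      rw [Subgroup.mem_centralizer_iff]
      intro b hb
      have hbL : b ∈ L := Subgroup.le_normalizer hb
      have h5 := (Subgroup.mem_centralizer_iff.mp hd) ⟨b, hbL⟩ (hBL (Subgroup.mem_subgroupOf.mpr hb))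
      exact congrArg Subtype.val h5
    exact Subgroup.centralizer_le_normalizer _ (Subgroup.centralizer_le hCB hdB)
  have hLc : Subgroup.centralizer (Cfsg.pCore p ↥L : Set ↥L) ≤ Cfsg.pCore p ↥L :=
    charP_of_centralizer_le (N.subgroupOf L) h4 hb
  refine ⟨fstar_eq_pCore_iff.mpr hLc, ?_⟩
  rw [fstar_eq_pCore_iff]
  exact charP_of_le_normalizer (Subgroup.centralizer_le_normalizer _)
    (normalizer_le_normalizer_centralizer B) hLc

end Cfsg.Agent.Lib.Helper16
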