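import Cfsg.Agent.Lib.Helper16.SubnormalClosure

set_option autoImplicit false
open Cfsg
open scoped Pointwise commutatorElement

namespace Cfsg.Agent.Lib.Helper16

variable {G : Type*} [Group G] {p : ℕ}

/-- If `D/N` is a normal `p`-subgroup of `G/N` then `D = (D ∩ T) N` for each Sylow `T`. -/
theorem exists_sylow_mul_of_pquotient [Finite G] [Fact p.Prime] (T : Sylow p G)
    {N D : Subgroup G} [hN : N.Normal] (hD : D.Normal) (hND : N ≤ D)
    (hDp : ∀ d ∈ D, ∃ k : ℕ, d ^ (p ^ k) ∈ N) :
    ∀ d ∈ D, ∃ t ∈ (T : Subgroup G) ⊓ D, ∃ c ∈ N, d = t * c := by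
  have hsurj := QuotientGroup.mk'_surjective N
  have hDbar : IsPGroup p ↥(D.map (QuotientGroup.mk' N)) := by
    rintro ⟨_, ⟨d, hd, rfl⟩⟩
    obtain ⟨k, hk⟩ := hDp d hd
    refine ⟨k, ?_⟩
    apply Subtype.ext
    simp only [Subgroup.coe_pow, Subgroup.coe_one]
    rw [← map_pow, QuotientGroup.mk'_apply, QuotientGroup.eq_one_iff]
    exact hk
  have hDn : (D.map (QuotientGroup.mk' N)).Normal := hD.map _ hsurj
  have hle : D.map (QuotientGroup.mk' N) ≤ (T.mapSurjective hsurj : Sylow p (G ⧸ N)) :=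
    hDbar.le_sylow_of_normal _
  intro d hd
  have h1 : (QuotientGroup.mk' N) d ∈ (T : Subgroup G).map (QuotientGroup.mk' N) :=
    hle ⟨d, hd, rfl⟩
  obtain ⟨t, ht, htd⟩ := h1
  have hc : t⁻¹ * d ∈ N := by
    rw [← QuotientGroup.eq_one_iff, ← QuotientGroup.mk'_apply, map_mul, map_inv, htd]
    simp
  refine ⟨t, ⟨ht, ?_⟩, t⁻¹ * d, hc, by group⟩
  have e : t = d * (t⁻¹ * d)⁻¹ := by group
  rw [e]
  exact D.mul_mem hd (D.inv_mem (hND hc))

theorem centralizer_pCore_normal : (pCore p G ⊓ Subgroup.centralizer (pCore p G : Set G)).Normal := by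
  have h1 : (pCore p G).Normal := inferInstance
  have h2 : (Subgroup.centralizer (pCore p G : Set G)).Normal := Subgroup.normal_centralizer
  infer_instance

theorem normalClosure_pReduced [Finite G] [Fact p.Prime] (hchar : Subgroup.centralizer (Cfsg.pCore p G : Set G) ≤ Cfsg.pCore p G) (T : Sylow p G) (R : Subgroup G) (hTR : (T : Subgroup G) ≤ R) (X : Subgroup ↥R) (hX : Cfsg.IsPReducedNormal p X) : Cfsg.IsPReducedNormal p (Subgroup.normalClosure ((X.map R.subtype : Subgroup G) : Set G)) := by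
  set X₀ : Subgroup G := X.map R.subtype with hX₀
  have hX₀R : X₀ ≤ R := Subgroup.map_subtype_le _
  have hsub : X₀.subgroupOf R = X := Subgroup.comap_map_eq_self_of_injective R.subtype_injective X
  have hA : APR p R X₀ := by
    rw [← isPReducedNormal_subgroupOf_iff hX₀R, hsub]; exact hX
  obtain ⟨hRX, hXe, hPRR⟩ := hA
  -- O_p(G) ≤ O_p(R) ≤ C(X₀)
  have hOR : pCoreOf p R ≤ Subgroup.centralizer (X₀ : Set G) := by
    apply hPRR _ (pCoreOf_le R) (le_normalizer_pCoreOf R)
    intro d hd
    obtain ⟨k, hk⟩ := exists_pow_eq_one_of_isPGroup (pCoreOf_isPGroup (p := p) R) hd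
    exact ⟨k, by rw [hk]; exact Subgroup.one_mem _⟩
  have hOG : pCore p G ≤ pCoreOf p R := by
    apply le_pCoreOf ((pCore_le_sylow T).trans hTR)
    · have hn : (pCore p G).Normal := inferInstance
      rw [Subgroup.normalizer_eq_top]; exact le_top
    · exact pCore_isPGroup
  have hOX : pCore p G ≤ Subgroup.centralizer (X₀ : Set G) := hOG.trans hOR
  have hX₀C : X₀ ≤ Subgroup.centralizer (pCore p G : Set G) := by
    intro x hx
    rw [Subgroup.mem_centralizer_iff]
    intro y hy
    exact ((Subgroup.mem_centralizer_iff.mp (hOX hy)) x hx).symm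
  set Z₀ : Subgroup G := pCore p G ⊓ Subgroup.centralizer (pCore p G : Set G) with hZ₀
  have hZ₀n : Z₀.Normal := centralizer_pCore_normal
  have hX₀Z : X₀ ≤ Z₀ := le_inf (hX₀C.trans hchar) hX₀C
  set V : Subgroup G := Subgroup.normalClosure (X₀ : Set G) with hV
  have hVn : V.Normal := Subgroup.normalClosure_normal
  have hX₀V : X₀ ≤ V := Subgroup.le_normalClosure
  have hVZ : V ≤ Z₀ := Subgroup.normalClosure_le_normal hX₀Z
  have hcomm : ∀ a ∈ V, ∀ b ∈ V, a * b = b * a := by
    intro a ha b hb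
    have h1 := (hVZ ha).2
    have h2 := (hVZ hb).1
    exact ((Subgroup.mem_centralizer_iff.mp h1) b h2).symm
  rw [isPReducedNormal_iff]
  refine ⟨hVn, ⟨⟨⟨fun a b => Subtype.ext (hcomm a a.2 b b.2)⟩⟩, ?_⟩, ?_⟩
  · have hpow : ∀ a, a ∈ Subgroup.closure (Group.conjugatesOfSet (X₀ : Set G)) → a ^ p = 1 := by
      intro a ha'
      induction ha' using Subgroup.closure_induction with
      | mem x hx =>
        rw [Group.mem_conjugatesOfSet_iff] at hx
        obtain ⟨y, hy, hconj⟩ := hx
        obtain ⟨c, rfl⟩ := isConj_iff.mp hconj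
        rw [conj_pow, hXe.2 y hy]; group
      | one => exact one_pow p
      | mul x y hx hy hx' hy' =>
        have hc : Commute x y := hcomm x hx y hy
        rw [hc.mul_pow, hx', hy', one_mul]
      | inv x _ hx' => rw [inv_pow, hx', inv_one]
    intro a ha
    exact hpow a ha
  · intro D hD hDp
    -- suffices D ≤ C(X₀)
    suffices hsuff : D ≤ Subgroup.centralizer (X₀ : Set G) by
      have hCn : (Subgroup.centralizer (D : Set G)).Normal := Subgroup.normal_centralizer
      have h1 : X₀ ≤ Subgroup.centralizer (D : Set G) := by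
        intro x hx
        rw [Subgroup.mem_centralizer_iff]
        intro d hd
        exact ((Subgroup.mem_centralizer_iff.mp (hsuff hd)) x hx).symm
      have h2 : V ≤ Subgroup.centralizer (D : Set G) := Subgroup.normalClosure_le_normal h1
      intro d hd
      rw [Subgroup.mem_centralizer_iff]
      intro v hv
      exact ((Subgroup.mem_centralizer_iff.mp (h2 hv)) d hd).symm
    have hCVn : (Subgroup.centralizer (V : Set G)).Normal := Subgroup.normal_centralizer
    have hC₁n : (D ⊓ Subgroup.centralizer (V : Set G)).Normal := inferInstance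
    have hDp' : ∀ d ∈ D, ∃ k : ℕ, d ^ (p ^ k) ∈ D ⊓ Subgroup.centralizer (V : Set G) := by
      intro d hd
      obtain ⟨k, hk⟩ := hDp d hd
      exact ⟨k, D.pow_mem hd _, hk⟩
    have hdec := exists_sylow_mul_of_pquotient T hD inf_le_left hDp'
    have hDR : D ⊓ R ≤ Subgroup.centralizer (X₀ : Set G) := by
      apply hPRR _ inf_le_right
      · apply inf_le_normalizer_inf
        · rw [Subgroup.normalizer_eq_top]; exact le_top
        · exact Subgroup.le_normalizer
      · intro d hd
        obtain ⟨k, hk⟩ := hDp d hd.1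
        exact ⟨k, Subgroup.centralizer_le hX₀V hk⟩
    intro d hd
    obtain ⟨t, ht, c, hc, rfl⟩ := hdec d hd
    exact Subgroup.mul_mem _ (hDR ⟨ht.2, hTR ht.1⟩) (Subgroup.centralizer_le hX₀V hc.2)

end Cfsg.Agent.Lib.Helper16

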