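import Cfsg.Prelude.Def_LocalEven
import Cfsg.Prelude.Def_LocalStructure
import Cfsg.Agent.Lib.Helper16.PReduced3
import Cfsg.Agent.Lib.Helper16.PReduced2
import Cfsg.Agent.Lib.Helper16.Minimal
import Cfsg.Agent.Lib.Helper16.Large2

set_option autoImplicit false
open Cfsg
open scoped Pointwise

namespace Cfsg.Agent.Lib.Helper16

variable {G : Type*} [Group G] {p : ℕ}

/-- Frattini for `C_L(Y)`. -/
theorem yl_frattini [Finite G] [Fact p.Prime] (T : Sylow p G) (Y : Subgroup G) [hYn : Y.Normal] (g : G) :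
    ∃ a ∈ Subgroup.normalizer (((T : Subgroup G) ⊓ Subgroup.centralizer (Y : Set G) : Subgroup G) : Set G),
      ∃ c ∈ Subgroup.centralizer (Y : Set G), g = a * c := by
  haveI hCn : (Subgroup.centralizer (Y : Set G)).Normal := Subgroup.normal_centralizer
  obtain ⟨P, hP⟩ := exists_sylow_of_normal_inf T (Subgroup.centralizer (Y : Set G))
  have hfr := Sylow.normalizer_sup_eq_top P
  rw [hP] at hfr
  have hg : g ∈ Subgroup.normalizer (((T : Subgroup G) ⊓ Subgroup.centralizer (Y : Set G) : Subgroup G) : Set G) ⊔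
      Subgroup.centralizer (Y : Set G) := by
    rw [hfr]; exact Subgroup.mem_top g
  rw [Subgroup.mem_sup_of_normal_right] at hg
  obtain ⟨a, ha, c, hc, rfl⟩ := hg
  exact ⟨a, ha, c, hc, rfl⟩

theorem yl_pCore [Finite G] [Fact p.Prime] (T : Sylow p G) (Y : Subgroup G)
    (hY : IsPReducedNormal p Y) :
    pCoreOf p (Subgroup.normalizer (((T : Subgroup G) ⊓ Subgroup.centralizer (Y : Set G) : Subgroup G) : Set G)) =
      (T : Subgroup G) ⊓ Subgroup.centralizer (Y : Set G) := by
  obtain ⟨hYn, hYe, hPR⟩ := (isPReducedNormal_iff Y).mp hY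
  set C : Subgroup G := Subgroup.centralizer (Y : Set G) with hC
  haveI hCn : C.Normal := Subgroup.normal_centralizer
  set TL : Subgroup G := (T : Subgroup G) ⊓ C with hTL
  set R : Subgroup G := Subgroup.normalizer (TL : Set G) with hR
  have hTLp : IsPGroup p TL := T.2.to_le inf_le_left
  have hTR : (T : Subgroup G) ≤ R := by
    apply inf_le_normalizer_inf Subgroup.le_normalizer
    rw [Subgroup.normalizer_eq_top_iff.mpr hCn]; exact le_top
  apply le_antisymm
  · apply le_inf (pCoreOf_le_sylow T hTR)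
    set Q : Subgroup G := pCoreOf p R with hQ
    set D : Subgroup G := Q ⊔ C with hD
    have hDn : D.Normal := by
      rw [← Subgroup.normalizer_eq_top_iff, eq_top_iff]
      intro g _
      obtain ⟨a, ha, c, hc, rfl⟩ := yl_frattini T Y g
      apply Subgroup.mul_mem
      · have h1 : Subgroup.zpowers a ≤ Subgroup.normalizer (Q : Set G) := by
          rw [Subgroup.zpowers_le]; exact le_normalizer_pCoreOf R ha
        have h2 : Subgroup.zpowers a ≤ Subgroup.normalizer (C : Set G) := by
          rw [Subgroup.normalizer_eq_top_iff.mpr hCn]; exact le_top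
        exact sup_le_normalizer_sup h1 h2 (Subgroup.mem_zpowers a)
      · exact Subgroup.le_normalizer (le_sup_right (a := Q) hc)
    have hDC : D ≤ C := by
      apply hPR D hDn
      intro d hd
      rw [hD, Subgroup.mem_sup_of_normal_right] at hd
      obtain ⟨q, hq, c, hc, rfl⟩ := hd
      obtain ⟨k, hk⟩ := exists_pow_eq_one_of_isPGroup (pCoreOf_isPGroup (p := p) R) hq
      refine ⟨k, mul_pow_mem_of_normalizes hc ?_ (by rw [hk]; exact C.one_mem)⟩
      rw [Subgroup.normalizer_eq_top_iff.mpr hCn]; exact Subgroup.mem_top q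
    exact le_sup_left.trans hDC
  · exact le_pCoreOf Subgroup.le_normalizer le_rfl hTLp

/-- the elements of order dividing `p` in `Z(O_p(G))`. -/
def omegaZP (p : ℕ) (G : Type*) [Group G] : Subgroup G where
  carrier := {x | x ∈ pCore p G ⊓ Subgroup.centralizer (pCore p G : Set G) ∧ x ^ p = 1}
  one_mem' := ⟨Subgroup.one_mem _, one_pow p⟩
  mul_mem' := by
    rintro a b ⟨ha, ha'⟩ ⟨hb, hb'⟩
    refine ⟨Subgroup.mul_mem _ ha hb, ?_⟩
    have hc : Commute a b := ((Subgroup.mem_centralizer_iff.mp ha.2) b hb.1).symm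
    rw [hc.mul_pow, ha', hb', one_mul]
  inv_mem' := by
    rintro a ⟨ha, ha'⟩
    exact ⟨Subgroup.inv_mem _ ha, by rw [inv_pow, ha', inv_one]⟩

instance omegaZP_normal : (omegaZP p G).Normal := by
  constructor
  rintro x ⟨hx, hx'⟩ g
  have hn : (pCore p G ⊓ Subgroup.centralizer (pCore p G : Set G)).Normal := centralizer_pCore_normal
  refine ⟨hn.conj_mem x hx g, ?_⟩
  rw [conj_pow, hx']; group

theorem yl_omega [Finite G] [Fact p.Prime]
    (hchar : Subgroup.centralizer (pCore p G : Set G) ≤ pCore p G) (T : Sylow p G) (Y : Subgroup G)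
    (hY : IsPReducedNormal p Y ∧ ∀ V : Subgroup G, IsPReducedNormal p V → V ≤ Y) :
    Y = omegaOne p (((T : Subgroup G) ⊓ Subgroup.centralizer (Y : Set G)) ⊓
      Subgroup.centralizer ((((T : Subgroup G) ⊓ Subgroup.centralizer (Y : Set G) : Subgroup G)) : Set G)) := by
  obtain ⟨hYn, hYe, hPR⟩ := (isPReducedNormal_iff Y).mp hY.1
  set C : Subgroup G := Subgroup.centralizer (Y : Set G) with hC
  haveI hCn : C.Normal := Subgroup.normal_centralizer
  set TL : Subgroup G := (T : Subgroup G) ⊓ C with hTL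
  set P : Subgroup G := pCore p G with hP
  have hYZ := pReduced_le_center_pCore hchar hY.1
  have hPT : P ≤ (T : Subgroup G) := pCore_le_sylow T
  have hPC : P ≤ C := pReduced_pCore_le_centralizer hY.1
  have hPTL : P ≤ TL := le_inf hPT hPC
  have hYcomm : ∀ a ∈ Y, ∀ b ∈ Y, a * b = b * a := by
    intro a ha b hb
    exact congrArg Subtype.val (hYe.1.is_comm.comm ⟨a, ha⟩ ⟨b, hb⟩)
  have hYTL : Y ≤ TL := le_inf ((hYZ.trans inf_le_left).trans hPT)
    (fun y hy => Subgroup.mem_centralizer_iff.mpr (fun x hx => hYcomm x hx y hy))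
  set Z₀ : Subgroup G := omegaOne p (TL ⊓ Subgroup.centralizer (TL : Set G)) with hZ₀
  have hYZ₀ : Y ≤ Z₀ := by
    intro y hy
    apply Subgroup.subset_closure
    refine ⟨Subgroup.mem_inf.mpr ⟨hYTL hy, ?_⟩, hYe.2 y hy⟩
    rw [Subgroup.mem_centralizer_iff]
    intro t ht
    exact ((Subgroup.mem_centralizer_iff.mp ht.2) y hy).symm
  apply le_antisymm hYZ₀
  have hZ₀E : Z₀ ≤ omegaZP p G := by
    rw [hZ₀, omegaOne, Subgroup.closure_le]
    rintro x ⟨hx, hx'⟩
    have h1 : x ∈ Subgroup.centralizer (P : Set G) := Subgroup.centralizer_le hPTL hx.2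
    exact ⟨⟨hchar h1, h1⟩, hx'⟩
  have hZ₀cTL : Z₀ ≤ Subgroup.centralizer (TL : Set G) := by
    rw [hZ₀, omegaOne, Subgroup.closure_le]
    rintro x ⟨hx, -⟩
    exact hx.2
  set V : Subgroup G := Subgroup.normalClosure (Z₀ : Set G) with hV
  have hVE : V ≤ omegaZP p G := Subgroup.normalClosure_le_normal hZ₀E
  have hZ₀V : Z₀ ≤ V := Subgroup.le_normalClosure
  haveI hVn : V.Normal := Subgroup.normalClosure_normal
  have hVred : IsPReducedNormal p V := by
    rw [isPReducedNormal_iff]
    refine ⟨hVn, ⟨⟨⟨fun a b => Subtype.ext ?_⟩⟩, fun a ha => (hVE ha).2⟩, ?_⟩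
    · exact ((Subgroup.mem_centralizer_iff.mp (hVE a.2).1.2) b (hVE b.2).1.1).symm
    · intro D hD hDp
      haveI := hD
      have hCVC : Subgroup.centralizer (V : Set G) ≤ C := Subgroup.centralizer_le (hYZ₀.trans hZ₀V)
      have hDC : D ≤ C := hPR D hD (fun d hd => let ⟨k, hk⟩ := hDp d hd; ⟨k, hCVC hk⟩)
      haveI hCVn : (Subgroup.centralizer (V : Set G)).Normal := Subgroup.normal_centralizer
      have hdec := exists_sylow_mul_of_pquotient T (N := Subgroup.centralizer (V : Set G) ⊓ D) hD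
        inf_le_right (fun d hd => let ⟨k, hk⟩ := hDp d hd; ⟨k, ⟨hk, D.pow_mem hd _⟩⟩)
      have hDZ₀ : D ≤ Subgroup.centralizer (Z₀ : Set G) := by
        intro d hd
        obtain ⟨t, ht, c, hc, rfl⟩ := hdec d hd
        apply Subgroup.mul_mem
        · have htTL : t ∈ TL := ⟨ht.1, hDC ht.2⟩
          rw [Subgroup.mem_centralizer_iff]
          intro z hz
          exact ((Subgroup.mem_centralizer_iff.mp (hZ₀cTL hz)) t htTL).symm
        · exact Subgroup.centralizer_le hZ₀V hc.1
      have h1 : Z₀ ≤ Subgroup.centralizer (D : Set G) := Subgroup.le_centralizer_iff.mp hDZ₀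
      haveI hcDn : (Subgroup.centralizer (D : Set G)).Normal := Subgroup.normal_centralizer
      have h2 : V ≤ Subgroup.centralizer (D : Set G) := Subgroup.normalClosure_le_normal h1
      exact Subgroup.le_centralizer_iff.mp h2
  exact hZ₀V.trans (hY.2 V hVred)

end Cfsg.Agent.Lib.Helper16
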