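import Cfsg.Prelude.Def_LocalEven
import Cfsg.Prelude.Def_LocalStructure
import Cfsg.Agent.Lib.Helper16.YL
import Cfsg.Agent.Lib.Helper16.CharP
import Cfsg.Agent.Lib.Helper17.Basic

set_option autoImplicit false
open Cfsg
open scoped Pointwise

namespace Cfsg.Agent.Lib.Helper16

variable {G : Type*} [Group G] {p : ℕ}

/-- Frattini argument in ambient form: if `T ≤ M`, `M ≤ N(C)` then `M = N_M(T ∩ C) (M ∩ C)`. -/
theorem frattini_ambient [Finite G] [Fact p.Prime] (T : Sylow p G) (M C : Subgroup G)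
    (hTM : (T : Subgroup G) ≤ M) (hMC : M ≤ Subgroup.normalizer (C : Set G)) :
    ∀ m ∈ M, ∃ a ∈ M ⊓ Subgroup.normalizer (((T : Subgroup G) ⊓ C : Subgroup G) : Set G),
      ∃ c ∈ M ⊓ C, m = a * c := by
  intro m hm
  set C' : Subgroup ↥M := C.subgroupOf M with hC'
  haveI hC'n : C'.Normal := by
    rw [hC', ← Subgroup.inf_subgroupOf_left]
    apply (Subgroup.normal_subgroupOf_iff_le_normalizer inf_le_left).mpr
    exact inf_le_normalizer_inf Subgroup.le_normalizer hMC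
  set T' : Sylow p ↥M := T.subtype hTM with hT'
  obtain ⟨P, hP⟩ := exists_sylow_of_normal_inf T' C'
  have hfr := Sylow.normalizer_sup_eq_top P
  rw [hP] at hfr
  have hg : (⟨m, hm⟩ : ↥M) ∈ Subgroup.normalizer (((T' : Subgroup ↥M) ⊓ C' : Subgroup ↥M) : Set ↥M) ⊔ C' := by
    rw [hfr]; exact Subgroup.mem_top _
  rw [Subgroup.mem_sup_of_normal_right] at hg
  obtain ⟨a, ha, c, hc, hac⟩ := hg
  refine ⟨a, Subgroup.mem_inf.mpr ⟨a.2, ?_⟩, c, Subgroup.mem_inf.mpr ⟨c.2, Subgroup.mem_subgroupOf.mp hc⟩, ?_⟩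
  · apply Cfsg.Agent.Lib.Helper17.mem_normalizer_of_forall_conj_mem
    intro x hx
    have hx' : (⟨x, hTM hx.1⟩ : ↥M) ∈ (T' : Subgroup ↥M) ⊓ C' := by
      refine Subgroup.mem_inf.mpr ⟨?_, Subgroup.mem_subgroupOf.mpr hx.2⟩
      rw [hT', Sylow.coe_subtype, Subgroup.mem_subgroupOf]
      exact hx.1
    have h1 := (Subgroup.mem_normalizer_iff.mp ha _).mp hx'
    obtain ⟨h2, h3⟩ := Subgroup.mem_inf.mp h1
    rw [hT', Sylow.coe_subtype, Subgroup.mem_subgroupOf] at h2
    rw [hC', Subgroup.mem_subgroupOf] at h3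
    exact Subgroup.mem_inf.mpr ⟨by simpa using h2, by simpa using h3⟩
  · have := congrArg Subtype.val hac
    simpa using this.symm

/-- `N_M(P)` has characteristic `p` if `M` has and `P ≤ M` is a `p`-subgroup. -/
theorem charP_inf_normalizer [Finite G] [Fact p.Prime] (M P : Subgroup G) (hPM : P ≤ M)
    (hP : IsPGroup p P)
    (hM : Subgroup.centralizer (Cfsg.pCore p ↥M : Set ↥M) ≤ Cfsg.pCore p ↥M) :
    Subgroup.centralizer (Cfsg.pCore p ↥(M ⊓ Subgroup.normalizer (P : Set G)) :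
      Set ↥(M ⊓ Subgroup.normalizer (P : Set G))) ≤
      Cfsg.pCore p ↥(M ⊓ Subgroup.normalizer (P : Set G)) := by
  have h1 := Cfsg.Agent.Lib.Helper9.generalizedFittingSubgroup_normalizer_eq_pCore
    (fstar_eq_pCore_iff.mpr hM) (P := P.subgroupOf M) hP.comap_subtype
  have h2 := fstar_eq_pCore_iff.mp h1
  have e1 : Subgroup.normalizer ((P.subgroupOf M : Subgroup ↥M) : Set ↥M) =
      (M ⊓ Subgroup.normalizer (P : Set G)).subgroupOf M := by
    rw [Subgroup.inf_subgroupOf_left, Subgroup.subgroupOf_normalizer_eq hPM]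
  rw [e1] at h2
  exact charP_of_equiv (Subgroup.subgroupOfEquivOfLe (inf_le_left : M ⊓ Subgroup.normalizer (P : Set G) ≤ M)) h2

/-- `Ω₁Z(C_T(Y_L)) ≤ Y_L` in ambient form. -/
theorem omega_le_largestPReducedOf [Finite G] [Fact p.Prime] (T : Sylow p G) (L : Subgroup G)
    (hTL : (T : Subgroup G) ≤ L)
    (hL : Subgroup.centralizer (Cfsg.pCore p ↥L : Set ↥L) ≤ Cfsg.pCore p ↥L) (x : G)
    (hx : x ∈ ((T : Subgroup G) ⊓ Subgroup.centralizer ((largestPReducedOf p L : Subgroup G) : Set G)) ⊓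
      Subgroup.centralizer ((((T : Subgroup G) ⊓
        Subgroup.centralizer ((largestPReducedOf p L : Subgroup G) : Set G) : Subgroup G)) : Set G))
    (hxp : x ^ p = 1) : x ∈ largestPReducedOf p L := by
  obtain ⟨Y', hY', hmax⟩ := exists_largest_pReduced (G := ↥L) (p := p) hL
  have hsup : largestPReduced p ↥L = Y' := by
    unfold largestPReduced
    apply le_antisymm
    · exact sSup_le fun V hV => hmax V hV
    · exact le_sSup hY'
  have hY : largestPReducedOf p L = Y'.map L.subtype := by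
    unfold largestPReducedOf; rw [hsup]
  rw [hY] at hx ⊢
  set T' : Sylow p ↥L := T.subtype hTL with hT'
  have hom := yl_omega hL T' Y' ⟨hY', hmax⟩
  have hxL : x ∈ L := hTL hx.1.1
  refine ⟨⟨x, hxL⟩, ?_, rfl⟩
  rw [hom]
  apply Subgroup.subset_closure
  refine ⟨?_, Subtype.ext (by simpa using hxp)⟩
  have hxC' : (⟨x, hxL⟩ : ↥L) ∈ Subgroup.centralizer (Y' : Set ↥L) := by
    rw [Subgroup.mem_centralizer_iff]
    intro y' hy'
    apply Subtype.ext
    exact (Subgroup.mem_centralizer_iff.mp hx.1.2) (y' : G) ⟨y', hy', rfl⟩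
  have hxT' : (⟨x, hxL⟩ : ↥L) ∈ (T' : Subgroup ↥L) := by
    rw [hT', Sylow.coe_subtype, Subgroup.mem_subgroupOf]; exact hx.1.1
  refine Subgroup.mem_inf.mpr ⟨Subgroup.mem_inf.mpr ⟨hxT', hxC'⟩, ?_⟩
  rw [Subgroup.mem_centralizer_iff]
  intro t' ht'
  apply Subtype.ext
  have ht : (t' : G) ∈ (T : Subgroup G) ⊓
      Subgroup.centralizer (((Y'.map L.subtype : Subgroup G)) : Set G) := by
    refine Subgroup.mem_inf.mpr ⟨?_, ?_⟩
    · have h1 : t' ∈ (T' : Subgroup ↥L) := ht'.1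
      rw [hT', Sylow.coe_subtype, Subgroup.mem_subgroupOf] at h1
      exact h1
    · rw [Subgroup.mem_centralizer_iff]
      rintro _ ⟨y', hy', rfl⟩
      exact congrArg Subtype.val ((Subgroup.mem_centralizer_iff.mp ht'.2) y' hy')
  exact (Subgroup.mem_centralizer_iff.mp hx.2) (t' : G) ht

theorem largestPReducedOf_inf_normalizer [Finite G] [Fact p.Prime] (T : Sylow p G) (L M : Subgroup G)
    (hTL : (T : Subgroup G) ≤ L) (hTM : (T : Subgroup G) ≤ M)
    (hL : Subgroup.centralizer (Cfsg.pCore p ↥L : Set ↥L) ≤ Cfsg.pCore p ↥L)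
    (hM : Subgroup.centralizer (Cfsg.pCore p ↥M : Set ↥M) ≤ Cfsg.pCore p ↥M)
    (hfac : M ⊔ Subgroup.centralizer ((largestPReducedOf p L : Subgroup G) : Set G) =
      L ⊔ Subgroup.centralizer ((largestPReducedOf p L : Subgroup G) : Set G)) :
    largestPReducedOf p (M ⊓ Subgroup.normalizer ((((T : Subgroup G) ⊓
        Subgroup.centralizer ((largestPReducedOf p L : Subgroup G) : Set G) : Subgroup G)) : Set G)) =
      largestPReducedOf p L ∧
    L ⊔ Subgroup.centralizer ((largestPReducedOf p L : Subgroup G) : Set G) =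
      (M ⊓ Subgroup.normalizer ((((T : Subgroup G) ⊓
        Subgroup.centralizer ((largestPReducedOf p L : Subgroup G) : Set G) : Subgroup G)) : Set G)) ⊔
        Subgroup.centralizer ((largestPReducedOf p L : Subgroup G) : Set G) := by
  obtain ⟨hYL, ⟨hLY, hYe, hPRL⟩, hmaxL, hYO, hYcO⟩ := largestPReducedOf_spec (p := p) L hL
  have hom := omega_le_largestPReducedOf T L hTL hL
  set Y : Subgroup G := largestPReducedOf p L with hY
  set C : Subgroup G := Subgroup.centralizer (Y : Set G) with hC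
  set T₀ : Subgroup G := (T : Subgroup G) ⊓ C with hT₀
  set Ls : Subgroup G := M ⊓ Subgroup.normalizer (T₀ : Set G) with hLs
  have hYT : Y ≤ T := hYO.trans (pCoreOf_le_sylow T hTL)
  have hCY : C ≤ Subgroup.normalizer (Y : Set G) := Subgroup.centralizer_le_normalizer _
  have hMY : M ≤ Subgroup.normalizer (Y : Set G) := by
    calc M ≤ M ⊔ C := le_sup_left
      _ = L ⊔ C := hfac
      _ ≤ Subgroup.normalizer (Y : Set G) := sup_le hLY hCY
  have hMC : M ≤ Subgroup.normalizer (C : Set G) :=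
    hMY.trans (normalizer_le_normalizer_centralizer Y)
  have hfr := frattini_ambient T M C hTM hMC
  have hLsM : Ls ≤ M := inf_le_left
  have h2 : L ⊔ C = Ls ⊔ C := by
    rw [← hfac]
    apply le_antisymm
    · apply sup_le _ le_sup_right
      intro m hm
      obtain ⟨a, ha, c, hc, rfl⟩ := hfr m hm
      exact Subgroup.mul_mem _ (Subgroup.mem_sup_left ha) (Subgroup.mem_sup_right hc.2)
    · exact sup_le_sup_right hLsM C
  refine ⟨?_, h2⟩
  have hT₀p : IsPGroup p T₀ := T.2.to_le inf_le_left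
  have hT₀M : T₀ ≤ M := inf_le_left.trans hTM
  have hTLs : (T : Subgroup G) ≤ Ls :=
    le_inf hTM (inf_le_normalizer_inf Subgroup.le_normalizer (hTM.trans hMC))
  have hLsc := charP_inf_normalizer M T₀ hT₀M hT₀p hM
  obtain ⟨hYsLs, ⟨hLsYs, hYse, hPRLs⟩, hmaxLs, hYsO, hYscO⟩ := largestPReducedOf_spec (p := p) Ls hLsc
  have hle := largestPReduced_le_of_sup_eq T Ls L hTLs hTL hLsc hL h2.symm
  set Ys : Subgroup G := largestPReducedOf p Ls with hYs
  apply le_antisymm
  · have hT₀O : T₀ ≤ pCoreOf p Ls :=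
      le_pCoreOf (le_inf hT₀M Subgroup.le_normalizer) inf_le_right hT₀p
    have hYsT : Ys ≤ T := hYsO.trans (pCoreOf_le_sylow T hTLs)
    have hYscT₀ : Ys ≤ Subgroup.centralizer (T₀ : Set G) :=
      hYscO.trans (Subgroup.centralizer_le hT₀O)
    have hYcomm : ∀ a ∈ Y, ∀ b ∈ Y, a * b = b * a := by
      intro a ha b hb
      exact congrArg Subtype.val (hYe.1.is_comm.comm ⟨a, ha⟩ ⟨b, hb⟩)
    have hYT₀ : Y ≤ T₀ := le_inf hYT
      (fun y hy => Subgroup.mem_centralizer_iff.mpr (fun x hx => hYcomm x hx y hy))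
    have hYsT₀ : Ys ≤ T₀ := le_inf hYsT (hYscT₀.trans (Subgroup.centralizer_le hYT₀))
    intro y hy
    exact hom y (Subgroup.mem_inf.mpr ⟨hYsT₀ hy, hYscT₀ hy⟩) (hYse.2 y hy)
  · exact hle

end Cfsg.Agent.Lib.Helper16
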