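import Cfsg.Prelude.Def_Amalgam
import Cfsg.Prelude.Def_LocalStructure
import Cfsg.Agent.Lib.Helper16.YL2
import Cfsg.Agent.Lib.Helper16.Trace
import Cfsg.Agent.Lib.Helper1.Basic
import Cfsg.Agent.Lib.Helper9.FStar2

set_option autoImplicit false
set_option linter.style.haveILetI false
open Cfsg
open scoped Pointwise commutatorElement

namespace Cfsg.Agent.Lib.Helper16

variable {G : Type*} [Group G] {p : ℕ}

/-- `T ∩ C` is a Sylow subgroup of `C` when `T` normalizes `C`. -/
theorem exists_sylow_of_le_normalizer_inf [Finite G] [Fact p.Prime] (T : Sylow p G)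
    (C : Subgroup G) (hTC : (T : Subgroup G) ≤ Subgroup.normalizer (C : Set G)) :
    ∃ P : Sylow p C, (P : Subgroup C).map C.subtype = (T : Subgroup G) ⊓ C := by
  set Q : Subgroup G := (T : Subgroup G) ⊓ C with hQ
  have hQp : IsPGroup p Q := T.isPGroup'.to_le inf_le_left
  obtain ⟨P, hP⟩ := (hQp.comap_subtype : IsPGroup p (Q.subgroupOf C)).exists_le_sylow
  refine ⟨P, ?_⟩
  set P' : Subgroup G := (P : Subgroup C).map C.subtype with hP'
  have hP'p : IsPGroup p P' := P.isPGroup'.map _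
  have hP'C : P' ≤ C := Subgroup.map_subtype_le _
  have hQP' : Q ≤ P' := by
    intro x hx
    exact ⟨⟨x, hx.2⟩, hP (by rw [Subgroup.mem_comap]; exact hx), rfl⟩
  obtain ⟨y, hyN, hy⟩ := exists_conj_le_sylow T hTC (hP'C.trans Subgroup.le_normalizer) hP'p
  have hle : P'.map (MulAut.conj y).toMonoidHom ≤ Q := by
    refine le_inf hy ?_
    rintro _ ⟨x, hx, rfl⟩
    exact (Subgroup.mem_normalizer_iff.mp hyN x).mp (hP'C hx)
  have hcard : Nat.card P' ≤ Nat.card Q := by
    rw [← card_map_conj P' y]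
    exact Subgroup.card_le_of_le hle
  exact (Subgroup.eq_of_le_of_card_ge hQP' hcard).symm

/-- `Ω₁Z(S) ≤ Y_L` for every Sylow `p`-subgroup `S` of a group `L` of characteristic `p`. -/
theorem omegaOne_center_sylow_le [Finite G] [Fact p.Prime]
    (hchar : Subgroup.centralizer (pCore p G : Set G) ≤ pCore p G) (S : Sylow p G) (Y : Subgroup G)
    (hY : IsPReducedNormal p Y ∧ ∀ V : Subgroup G, IsPReducedNormal p V → V ≤ Y) :
    omegaOne p ((S : Subgroup G) ⊓ Subgroup.centralizer ((S : Subgroup G) : Set G)) ≤ Y := by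
  have hYS : Y ≤ (S : Subgroup G) :=
    ((pReduced_le_center_pCore hchar hY.1).trans inf_le_left).trans (pCore_le_sylow S)
  conv_rhs => rw [yl_omega hchar S Y hY]
  unfold omegaOne
  apply Subgroup.closure_mono
  rintro x ⟨hx, hxp⟩
  refine ⟨Subgroup.mem_inf.mpr ⟨Subgroup.mem_inf.mpr ⟨hx.1, ?_⟩, ?_⟩, hxp⟩
  · exact Subgroup.centralizer_le hYS hx.2
  · exact Subgroup.centralizer_le inf_le_left hx.2

/-- `Z_L ≤ Y_L` for `L` of characteristic `p`. -/
theorem sylowCenterClosure_le_largestPReducedOf [Finite G] [Fact p.Prime] (L : Subgroup G)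
    (hL : Subgroup.centralizer (Cfsg.pCore p ↥L : Set ↥L) ≤ Cfsg.pCore p ↥L) :
    sylowCenterClosure p L ≤ largestPReducedOf p L := by
  obtain ⟨Y', hY', hmax⟩ := exists_largest_pReduced (G := ↥L) (p := p) hL
  have hsup : largestPReduced p ↥L = Y' := by
    unfold largestPReduced
    apply le_antisymm
    · exact sSup_le fun V hV => hmax V hV
    · exact le_sSup hY'
  have hY : largestPReducedOf p L = Y'.map L.subtype := by
    unfold largestPReducedOf; rw [hsup]
  unfold sylowCenterClosure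
  apply iSup_le
  intro S
  have h1 := omegaOne_center_sylow_le hL S Y' ⟨hY', hmax⟩
  rw [hY]
  unfold omegaOne
  rw [Subgroup.closure_le]
  rintro x ⟨⟨hxS, hxC⟩, hxp⟩
  obtain ⟨s, hs, rfl⟩ := hxS
  refine ⟨s, h1 (Subgroup.subset_closure ⟨Subgroup.mem_inf.mpr ⟨hs, ?_⟩,
    Subtype.ext (by simpa using hxp)⟩), rfl⟩
  rw [Subgroup.mem_centralizer_iff]
  intro t ht
  apply Subtype.ext
  exact (Subgroup.mem_centralizer_iff.mp hxC) (t : G) ⟨t, ht, rfl⟩

/-- the chain `O_p(L) ≤ C_T(Y_L)`, `Ω₁Z(T) ≤ Z_L ≤ Y_L ≤ Ω₁Z(O_p(L))` (= S2821). -/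
theorem yl_chain [Finite G] [Fact p.Prime] (T : Sylow p G) (L : Subgroup G)
    (hTL : (T : Subgroup G) ≤ L)
    (hL : Subgroup.centralizer (Cfsg.pCore p ↥L : Set ↥L) ≤ Cfsg.pCore p ↥L) (T₀ : Subgroup G)
    (hT₀ : T₀ = (T : Subgroup G) ⊓
      Subgroup.centralizer (((Cfsg.largestPReducedOf p L) : Subgroup G) : Set G)) :
    (∃ P : Sylow p ↥(Subgroup.centralizer (((Cfsg.largestPReducedOf p L) : Subgroup G) : Set G)),
      (P : Subgroup ↥(Subgroup.centralizer (((Cfsg.largestPReducedOf p L) : Subgroup G) : Set G)))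
        = T₀.subgroupOf
          (Subgroup.centralizer (((Cfsg.largestPReducedOf p L) : Subgroup G) : Set G))) ∧
    (Cfsg.pCoreOf p L) ≤ T₀ ∧
    T₀ ≤ L ⊓ Subgroup.centralizer (((Cfsg.largestPReducedOf p L) : Subgroup G) : Set G) ∧
    (Cfsg.omegaOne p ((T : Subgroup G) ⊓
      Subgroup.centralizer (((T : Subgroup G) : Subgroup G) : Set G))) ≤
        Cfsg.sylowCenterClosure p L ∧
    Cfsg.sylowCenterClosure p L ≤ (Cfsg.largestPReducedOf p L) ∧
    (Cfsg.largestPReducedOf p L) ≤ (Cfsg.omegaOne p ((Cfsg.pCoreOf p L) ⊓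
      Subgroup.centralizer (((Cfsg.pCoreOf p L) : Subgroup G) : Set G))) := by
  obtain ⟨hYL, hAPR, -, hYO, hYC⟩ := largestPReducedOf_spec (p := p) L hL
  set Y := largestPReducedOf p L with hYdef
  set C := Subgroup.centralizer ((Y : Subgroup G) : Set G) with hC
  have hLY : L ≤ Subgroup.normalizer (Y : Set G) := hAPR.1
  have hTC : (T : Subgroup G) ≤ Subgroup.normalizer (C : Set G) :=
    (hTL.trans hLY).trans (normalizer_le_normalizer_centralizer Y)
  refine ⟨?_, ?_, ?_, ?_, sylowCenterClosure_le_largestPReducedOf L hL, ?_⟩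
  · obtain ⟨P, hP⟩ := exists_sylow_of_le_normalizer_inf T C hTC
    refine ⟨P, ?_⟩
    rw [hT₀, ← hP]
    exact (Subgroup.comap_map_eq_self_of_injective C.subtype_injective _).symm
  · rw [hT₀]
    refine le_inf (pCoreOf_le_sylow T hTL) ?_
    exact Subgroup.le_centralizer_iff.mp hYC
  · rw [hT₀]
    exact inf_le_inf_right _ hTL
  · unfold sylowCenterClosure
    refine le_trans ?_ (le_iSup _ (T.subtype hTL))
    rw [Sylow.coe_subtype, Subgroup.subgroupOf_map_subtype, inf_of_le_left hTL]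
  · intro y hy
    apply Subgroup.subset_closure
    exact ⟨Subgroup.mem_inf.mpr ⟨hYO hy, hYC hy⟩, hAPR.2.1.2 y hy⟩

/-- internal `Z_G`: generated by the `Ω₁Z(S)`, `S` Sylow. -/
def zSyl (p : ℕ) (G : Type*) [Group G] : Subgroup G :=
  ⨆ S : Sylow p G, omegaOne p ((S : Subgroup G) ⊓ Subgroup.centralizer ((S : Subgroup G) : Set G))

instance zSyl_normal : (zSyl p G).Normal := by
  constructor
  intro n hn g
  have hle : zSyl p G ≤ (zSyl p G).comap (MulAut.conj g).toMonoidHom := by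
    unfold zSyl
    apply iSup_le
    intro S
    unfold omegaOne
    rw [Subgroup.closure_le]
    rintro x ⟨hx, hxp⟩
    show g * x * g⁻¹ ∈ ⨆ S : Sylow p G, Subgroup.closure
      {x : G | x ∈ (S : Subgroup G) ⊓ Subgroup.centralizer ((S : Subgroup G) : Set G) ∧ x ^ p = 1}
    refine Subgroup.mem_iSup_of_mem (g • S) (Subgroup.subset_closure ⟨?_, ?_⟩)
    · refine Subgroup.mem_inf.mpr ⟨?_, ?_⟩
      · rw [Cfsg.Agent.Lib.Helper1.mem_sylow_smul_iff]
        have e : g⁻¹ * (g * x * g⁻¹) * g = x := by group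
        rw [e]; exact hx.1
      · rw [Subgroup.mem_centralizer_iff]
        intro t ht
        have ht' : g⁻¹ * t * g ∈ (S : Subgroup G) :=
          (Cfsg.Agent.Lib.Helper1.mem_sylow_smul_iff S g t).mp ht
        have h1 := (Subgroup.mem_centralizer_iff.mp hx.2) _ ht'
        calc t * (g * x * g⁻¹) = g * ((g⁻¹ * t * g) * x) * g⁻¹ := by group
          _ = g * (x * (g⁻¹ * t * g)) * g⁻¹ := by rw [h1]
          _ = g * x * g⁻¹ * t := by group
    · rw [conj_pow, hxp]; group
  exact hle hn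

theorem zSyl_le_of_charP [Finite G] [Fact p.Prime]
    (hchar : Subgroup.centralizer (pCore p G : Set G) ≤ pCore p G) (Y : Subgroup G)
    (hY : IsPReducedNormal p Y ∧ ∀ V : Subgroup G, IsPReducedNormal p V → V ≤ Y) :
    zSyl p G ≤ Y :=
  iSup_le fun S => omegaOne_center_sylow_le hchar S Y hY

/-- `Ω₁Z(G) ≤ Z_G`. -/
theorem omegaOne_center_le_zSyl [Finite G] [Fact p.Prime] :
    omegaOne p (Subgroup.center G) ≤ zSyl p G := by
  obtain ⟨S⟩ : Nonempty (Sylow p G) := inferInstance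
  unfold omegaOne
  rw [Subgroup.closure_le]
  rintro x ⟨hx, hxp⟩
  refine Subgroup.mem_iSup_of_mem S (Subgroup.subset_closure ⟨Subgroup.mem_inf.mpr ⟨?_, ?_⟩, hxp⟩)
  · have hzn : (Subgroup.zpowers x).Normal := by
      constructor
      intro y hy g
      have : g * y * g⁻¹ = y := by
        have hyc : y ∈ Subgroup.center G := (Subgroup.zpowers_le.mpr hx) hy
        rw [Subgroup.mem_center_iff] at hyc
        rw [hyc g]; group
      rw [this]; exact hy
    have hzp : IsPGroup p ↥(Subgroup.zpowers x) := by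
      rw [IsPGroup.iff_card]
      have hdvd : orderOf x ∣ p ^ 1 := by rw [pow_one]; exact orderOf_dvd_of_pow_eq_one hxp
      obtain ⟨k, -, hk⟩ := (Nat.dvd_prime_pow Fact.out).mp hdvd
      exact ⟨k, by rw [Nat.card_zpowers, hk]⟩
    have h1 : Subgroup.zpowers x ≤ pCore p G := le_pCore hzn hzp
    exact (pCore_le_sylow S) (h1 (Subgroup.mem_zpowers x))
  · rw [Subgroup.mem_centralizer_iff]
    intro t _
    exact (Subgroup.mem_center_iff.mp hx t)

/-- `Z_G = Ω₁Z(G) [Z_G, O^p(G)]` and `[Z_G, G] = [Z_G, O^p(G)]` for `G` of characteristic `p`. -/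
theorem zSyl_decomp [Finite G] [Fact p.Prime]
    (hchar : Subgroup.centralizer (pCore p G : Set G) ≤ pCore p G) :
    zSyl p G = omegaOne p (Subgroup.center G) ⊔ ⁅zSyl p G, pResidual p G⁆ ∧
      ⁅zSyl p G, (⊤ : Subgroup G)⁆ = ⁅zSyl p G, pResidual p G⁆ := by
  have hp : p.Prime := Fact.out
  obtain ⟨Y', hY', hmax⟩ := exists_largest_pReduced (G := G) (p := p) hchar
  have hZY : zSyl p G ≤ Y' := zSyl_le_of_charP hchar Y' ⟨hY', hmax⟩
  set Z := zSyl p G with hZ
  set R := pResidual p G with hR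
  haveI hRn : R.Normal := pResidual_normal
  set W : Subgroup G := ⁅Z, R⁆ with hW
  haveI hWn : W.Normal := Subgroup.commutator_normal Z R
  have hZc : ∀ a ∈ Z, ∀ b ∈ Z, a * b = b * a := by
    intro a ha b hb
    exact congrArg Subtype.val (hY'.2.1.1.is_comm.comm ⟨a, hZY ha⟩ ⟨b, hZY hb⟩)
  have hZp : ∀ a ∈ Z, a ^ p = 1 := fun a ha => hY'.2.1.2 a (hZY ha)
  have hgenZ : ∀ (S : Sylow p G) (z : G),
      z ∈ (S : Subgroup G) ⊓ Subgroup.centralizer ((S : Subgroup G) : Set G) → z ^ p = 1 →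
        z ∈ Z := fun S z hz hzp =>
    Subgroup.mem_iSup_of_mem S (Subgroup.subset_closure ⟨hz, hzp⟩)
  -- Step A
  set π := QuotientGroup.mk' W with hπ
  have hπs : Function.Surjective π := QuotientGroup.mk'_surjective W
  have hcent : Z ≤ (Subgroup.center (G ⧸ W)).comap π := by
    rw [hZ]
    unfold zSyl
    apply iSup_le
    intro S
    unfold omegaOne
    rw [Subgroup.closure_le]
    rintro z ⟨hz, hzp⟩
    have hzZ : z ∈ Z := hgenZ S z hz hzp
    show π z ∈ Subgroup.center (G ⧸ W)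
    have hsup : (S : Subgroup G) ⊔ R = ⊤ :=
      eq_top_of_sylow_le_of_pResidual_le S le_sup_left le_sup_right
    have h1 : ((S : Subgroup G) ⊔ R).map π ≤ Subgroup.centralizer ({π z} : Set (G ⧸ W)) := by
      rw [Subgroup.map_sup]
      apply sup_le
      · rintro _ ⟨s, hs, rfl⟩
        rw [Subgroup.mem_centralizer_singleton_iff]
        have := (Subgroup.mem_centralizer_iff.mp hz.2) s hs
        rw [← map_mul, ← map_mul, this]
      · rintro _ ⟨r, hr, rfl⟩
        rw [Subgroup.mem_centralizer_singleton_iff]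
        have hc : ⁅z, r⁆ ∈ W := Subgroup.commutator_mem_commutator hzZ hr
        have h2 : π ⁅z, r⁆ = 1 := (QuotientGroup.eq_one_iff _).mpr hc
        rw [map_commutatorElement, commutatorElement_eq_one_iff_mul_comm] at h2
        exact h2.symm
    rw [hsup, Subgroup.map_top_of_surjective π hπs] at h1
    rw [Subgroup.mem_center_iff]
    intro q
    have := h1 (Subgroup.mem_top q)
    rw [Subgroup.mem_centralizer_singleton_iff] at this
    exact this
  have hA : ⁅Z, (⊤ : Subgroup G)⁆ ≤ W := by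
    rw [Subgroup.commutator_le]
    intro z hz g _
    rw [← QuotientGroup.eq_one_iff, ← QuotientGroup.mk'_apply, ← hπ, map_commutatorElement,
      commutatorElement_eq_one_iff_mul_comm]
    exact ((Subgroup.mem_center_iff.mp (hcent hz)) (π g)).symm
  have h2 : ⁅Z, (⊤ : Subgroup G)⁆ = W :=
    le_antisymm hA (Subgroup.commutator_mono le_rfl le_top)
  refine ⟨?_, h2⟩
  apply le_antisymm
  · rw [hZ]
    unfold zSyl
    apply iSup_le
    intro S
    unfold omegaOne
    rw [Subgroup.closure_le]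
    rintro z ⟨hz, hzp⟩
    have hzZ : z ∈ Z := hgenZ S z hz hzp
    obtain ⟨c, hc, w, hw, hcw⟩ := exists_trace Z ⊤ (S : Subgroup G) hZc
      (by rw [Subgroup.normalizer_eq_top_iff.mpr inferInstance]) z hzZ hz.2
    rw [h2] at hw
    set m := (S : Subgroup G).relIndex ⊤ with hm
    have hmp : ¬ p ∣ m := by
      rw [hm, Subgroup.relIndex_top_right]
      exact S.not_dvd_index
    have hcΩ : c ∈ Subgroup.closure {x : G | x ∈ Subgroup.center G ∧ x ^ p = 1} := by
      apply Subgroup.subset_closure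
      refine ⟨?_, hZp c hc.1⟩
      rw [Subgroup.mem_center_iff]
      intro g
      exact (Subgroup.mem_centralizer_iff.mp hc.2) g (Subgroup.mem_top g)
    have hvm : z ^ m ∈ Subgroup.closure {x : G | x ∈ Subgroup.center G ∧ x ^ p = 1} ⊔ W := by
      have : z ^ m = w⁻¹ * c := by rw [hcw]; group
      rw [this]
      exact Subgroup.mul_mem _ (Subgroup.mem_sup_right (Subgroup.inv_mem _ hw))
        (Subgroup.mem_sup_left hcΩ)
    have hcop : m.Coprime (orderOf z) := by
      have hdvd : orderOf z ∣ p := orderOf_dvd_of_pow_eq_one hzp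
      exact Nat.Coprime.coprime_dvd_right hdvd
        ((Nat.Prime.coprime_iff_not_dvd hp).mpr hmp).symm
    obtain ⟨j, hj⟩ := exists_pow_eq_self_of_coprime hcop
    rw [SetLike.mem_coe, ← hj]
    exact Subgroup.pow_mem _ hvm j
  · apply sup_le omegaOne_center_le_zSyl
    rw [hW, Subgroup.commutator_comm]
    exact Subgroup.commutator_le_right R Z

/-- `Ω₁` commutes with the inclusion of a subgroup. -/
theorem omegaOne_map_subtype (K : Subgroup G) (A : Subgroup ↥K) :
    (omegaOne p A).map K.subtype = omegaOne p (A.map K.subtype) := by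
  unfold omegaOne
  rw [MonoidHom.map_closure]
  congr 1
  ext y
  constructor
  · rintro ⟨x, ⟨hx, hxp⟩, rfl⟩
    refine ⟨⟨x, hx, rfl⟩, ?_⟩
    have := congrArg Subtype.val hxp
    simpa using this
  · rintro ⟨⟨x, hx, rfl⟩, hyp⟩
    exact ⟨x, ⟨hx, Subtype.ext (by simpa using hyp)⟩, rfl⟩

/-- `A ∩ C(A)` commutes with the inclusion of a subgroup. -/
theorem map_subtype_inf_centralizer (K : Subgroup G) (A : Subgroup ↥K) :
    (A ⊓ Subgroup.centralizer (A : Set ↥K)).map K.subtype =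
      A.map K.subtype ⊓ Subgroup.centralizer ((A.map K.subtype : Subgroup G) : Set G) := by
  ext y
  constructor
  · rintro ⟨x, ⟨hxA, hxC⟩, rfl⟩
    refine Subgroup.mem_inf.mpr ⟨⟨x, hxA, rfl⟩, ?_⟩
    rw [Subgroup.mem_centralizer_iff]
    rintro _ ⟨t, ht, rfl⟩
    exact congrArg Subtype.val ((Subgroup.mem_centralizer_iff.mp hxC) t ht)
  · rintro ⟨⟨x, hxA, rfl⟩, hC⟩
    refine ⟨x, Subgroup.mem_inf.mpr ⟨hxA, ?_⟩, rfl⟩
    rw [Subgroup.mem_centralizer_iff]
    intro t ht
    exact Subtype.ext ((Subgroup.mem_centralizer_iff.mp hC) (t : G) ⟨t, ht, rfl⟩)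

/-- `Z_L` in ambient form is the image of the internal one. -/
theorem sylowCenterClosure_eq_map (L : Subgroup G) :
    sylowCenterClosure p L = (zSyl p ↥L).map L.subtype := by
  unfold sylowCenterClosure zSyl
  rw [Subgroup.map_iSup]
  congr 1
  funext S
  rw [omegaOne_map_subtype, map_subtype_inf_centralizer]

/-- `Z_L = Ω₁Z(L) [Z_L, O^p(L)]` and `[Z_L, L] = [Z_L, O^p(L)]` (= S2823). -/
theorem sylowCenterClosure_decomp [Finite G] [Fact p.Prime] (L : Subgroup G)
    (hL : Subgroup.centralizer (Cfsg.pCore p ↥L : Set ↥L) ≤ Cfsg.pCore p ↥L) :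
    Cfsg.sylowCenterClosure p L = (Cfsg.omegaOne p (L ⊓ Subgroup.centralizer ((L : Subgroup G) : Set G))) ⊔
      ⁅Cfsg.sylowCenterClosure p L, (Cfsg.pResidual p ↥L).map L.subtype⁆ ∧
    ⁅Cfsg.sylowCenterClosure p L, L⁆ =
      ⁅Cfsg.sylowCenterClosure p L, (Cfsg.pResidual p ↥L).map L.subtype⁆ := by
  obtain ⟨h1, h2⟩ := zSyl_decomp (G := ↥L) (p := p) hL
  have hΩ : omegaOne p (L ⊓ Subgroup.centralizer ((L : Subgroup G) : Set G)) =
      (omegaOne p (Subgroup.center ↥L)).map L.subtype := by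
    rw [omegaOne_map_subtype, Cfsg.Agent.Lib.Helper9.map_subtype_center]
  have htop : (⊤ : Subgroup ↥L).map L.subtype = L := by
    rw [← MonoidHom.range_eq_map, Subgroup.range_subtype]
  rw [sylowCenterClosure_eq_map, hΩ]
  constructor
  · rw [← Subgroup.map_commutator, ← Subgroup.map_sup, ← h1]
  · have e : ⁅(zSyl p ↥L).map L.subtype, L⁆ = (⁅zSyl p ↥L, (⊤ : Subgroup ↥L)⁆).map L.subtype := by
      rw [Subgroup.map_commutator, htop]
    rw [e, ← Subgroup.map_commutator, h2]

end Cfsg.Agent.Lib.Helper16
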