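import Cfsg.Prelude.Def_LocalStructure
import Cfsg.Agent.Lib.Helper16.ZL
import Cfsg.Agent.Lib.Helper16.WeaklyClosed3

set_option autoImplicit false
set_option linter.style.haveILetI false
open Cfsg
open scoped Pointwise commutatorElement

namespace Cfsg.Agent.Lib.Helper16

variable {G : Type*} [Group G] {p : ℕ}

/-- `p`-closedness is invariant under isomorphism. -/
theorem isPClosed_of_equiv {A B : Type*} [Group A] [Group B] (e : A ≃* B)
    (h : IsPClosed p A) : IsPClosed p B := by
  intro P
  have hr : (P : Subgroup B) ≤ e.toMonoidHom.range := by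
    rw [MonoidHom.range_eq_top.mpr e.surjective]; exact le_top
  have h0 := h (P.comapOfInjective e.toMonoidHom e.injective hr)
  have h1 : ((P : Subgroup B).comap e.toMonoidHom).Normal := by
    rw [← Sylow.coe_comapOfInjective P e.toMonoidHom e.injective hr]; exact h0
  have h2 : (P : Subgroup B) = ((P : Subgroup B).comap e.toMonoidHom).comap e.symm.toMonoidHom := by
    rw [Subgroup.comap_comap]
    ext x
    simp
  rw [h2]
  exact h1.comap _

/-- members of `𝓛_G` have characteristic `p`. -/
theorem charP_of_mem_charPSubgroups {M : Subgroup G} (hM : M ∈ charPSubgroups p G) :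
    Subgroup.centralizer (pCore p ↥M : Set ↥M) ≤ pCore p ↥M := by
  intro x hx
  have h1 : (x : G) ∈ Subgroup.centralizer (((pCore p ↥M).map M.subtype : Subgroup G) : Set G) := by
    rw [Subgroup.mem_centralizer_iff]
    rintro _ ⟨y, hy, rfl⟩
    exact congrArg Subtype.val ((Subgroup.mem_centralizer_iff.mp hx) y hy)
  obtain ⟨y, hy, hye⟩ := hM.2 h1
  have : y = x := Subtype.ext hye
  rw [← this]; exact hy

/-- for `M ∈ 𝔐_G` containing the Sylow subgroup `S`: `O_p(M) = C_S(Y_M)`. -/
theorem pCoreOf_eq_of_isInFrakM [Finite G] [Fact p.Prime] (S : Sylow p G) (M : Subgroup G)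
    (hSM : (S : Subgroup G) ≤ M) (hM : IsInFrakM p M) :
    pCoreOf p M = (S : Subgroup G) ⊓ Subgroup.centralizer ((largestPReducedOf p M : Subgroup G) : Set G) := by
  have hchar := charP_of_mem_charPSubgroups hM.1
  obtain ⟨hYM, hAPR, -, -, -⟩ := largestPReducedOf_spec (p := p) M hchar
  set Y := largestPReducedOf p M with hY
  set C := Subgroup.centralizer ((Y : Subgroup G) : Set G) with hC
  have hchain := yl_chain S M hSM hchar _ rfl
  apply le_antisymm hchain.2.1
  -- `S ∩ C ≤ O_p(M)` since `C_M(Y)` is `p`-closed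
  have hcl : IsPClosed p ↥(M ⊓ C) := hM.2.2.2.2.1
  set K : Subgroup ↥M := (M ⊓ C).subgroupOf M with hK
  haveI hKn : K.Normal := by
    rw [hK]
    apply (Subgroup.normal_subgroupOf_iff_le_normalizer inf_le_left).mpr
    exact inf_le_normalizer_inf Subgroup.le_normalizer
      (hAPR.1.trans (normalizer_le_normalizer_centralizer Y))
  have hclK : IsPClosed p ↥K :=
    isPClosed_of_equiv (Subgroup.subgroupOfEquivOfLe (inf_le_left : M ⊓ C ≤ M)).symm hcl
  set T₀ : Subgroup G := (S : Subgroup G) ⊓ C with hT₀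
  have hT₀M : T₀ ≤ M := inf_le_left.trans hSM
  have hT₀p : IsPGroup p ↥(T₀.subgroupOf M) :=
    (S.isPGroup'.to_le inf_le_left : IsPGroup p ↥T₀).comap_subtype
  have hle : T₀.subgroupOf M ≤ K := by
    rw [hK]
    exact Subgroup.subgroupOf_mono M (le_inf hT₀M inf_le_right)
  have h1 := le_pCore_of_pClosed_normal hclK hle hT₀p
  have h2 := Subgroup.map_mono (f := M.subtype) h1
  rw [Subgroup.map_subgroupOf_eq_of_le hT₀M] at h2
  exact h2

/-- S2848: `O_p(M)` is weakly closed in `M† = M C_G(Y_M)`. -/
theorem pCoreOf_weaklyClosed_dagger [Finite G] [Fact p.Prime] (S : Sylow p G) (M : Subgroup G)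
    (hSM : (S : Subgroup G) ≤ M) (hM : IsInFrakM p M) :
    IsWeaklyClosedSubgroup p (((pCoreOf p M)).subgroupOf
      (M ⊔ Subgroup.centralizer (((largestPReducedOf p M) : Subgroup G) : Set G))) := by
  have hchar := charP_of_mem_charPSubgroups hM.1
  obtain ⟨hYM, hAPR, -, -, -⟩ := largestPReducedOf_spec (p := p) M hchar
  have hPeq := pCoreOf_eq_of_isInFrakM S M hSM hM
  set Y := largestPReducedOf p M with hY
  set C := Subgroup.centralizer ((Y : Subgroup G) : Set G) with hC
  set Md := M ⊔ C with hMd
  set P := pCoreOf p M with hP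
  have hPS : P ≤ (S : Subgroup G) := by rw [hPeq]; exact inf_le_left
  have hSMd : (S : Subgroup G) ≤ Md := hSM.trans le_sup_left
  have hPMd : P ≤ Md := hPS.trans hSMd
  have hMdC : Md ≤ Subgroup.normalizer (C : Set G) :=
    sup_le (hAPR.1.trans (normalizer_le_normalizer_centralizer Y)) Subgroup.le_normalizer
  refine ⟨S.subtype hSMd, ?_, ?_⟩
  · rw [Sylow.coe_subtype]
    exact Subgroup.subgroupOf_mono Md hPS
  · intro g hg
    rw [Sylow.coe_subtype] at hg
    apply Subgroup.map_injective Md.subtype_injective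
    rw [subgroupOf_map_conj_map_subtype hPMd g, Subgroup.map_subgroupOf_eq_of_le hPMd]
    have h1 : P.map (MulAut.conj (g : G)).toMonoidHom ≤ (S : Subgroup G) := by
      have := Subgroup.map_mono (f := Md.subtype) hg
      rwa [subgroupOf_map_conj_map_subtype hPMd g, Subgroup.map_subgroupOf_eq_of_le hSMd] at this
    have h2 : P.map (MulAut.conj (g : G)).toMonoidHom ≤ C := by
      have hgC : C.map (MulAut.conj (g : G)).toMonoidHom = C :=
        Subgroup.mem_normalizer_iff_map_conj_eq.mp (hMdC g.2)
      rw [← hgC]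
      apply Subgroup.map_mono
      rw [hPeq]; exact inf_le_right
    have h3 : P.map (MulAut.conj (g : G)).toMonoidHom ≤ P := by
      conv_rhs => rw [hPeq]
      exact le_inf h1 h2
    exact Subgroup.eq_of_le_of_card_ge h3 (card_map_conj P (g : G)).ge

end Cfsg.Agent.Lib.Helper16
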