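import Cfsg.Prelude.Def_LocalStructure
import Cfsg.Agent.Lib.Helper16.FrakM

set_option autoImplicit false
set_option linter.style.haveILetI false
open Cfsg
open scoped Pointwise commutatorElement

namespace Cfsg.Agent.Lib.Helper16

variable {G : Type*} [Group G] {p : ℕ}

-- ASYM START
theorem isElementaryAbelian_closure (𝒮 : Set G) (hcomm : ∀ a ∈ 𝒮, ∀ b ∈ 𝒮, a * b = b * a)
    (hp : ∀ a ∈ 𝒮, a ^ p = 1) : IsElementaryAbelian p (Subgroup.closure 𝒮) := by
  have h1 : Subgroup.closure 𝒮 ≤ Subgroup.centralizer 𝒮 := by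
    rw [Subgroup.closure_le]
    intro s hs
    rw [SetLike.mem_coe, Subgroup.mem_centralizer_iff]
    intro h hh
    exact hcomm h hh s hs
  have h2 : Subgroup.closure 𝒮 ≤ Subgroup.centralizer (Subgroup.closure 𝒮 : Set G) := by
    rw [Subgroup.closure_le]
    intro s hs
    rw [SetLike.mem_coe, Subgroup.mem_centralizer_iff]
    intro a ha
    exact ((Subgroup.mem_centralizer_iff.mp (h1 ha)) s hs).symm
  refine ⟨⟨⟨fun a b => ?_⟩⟩, ?_⟩
  · apply Subtype.ext
    exact ((Subgroup.mem_centralizer_iff.mp (h2 b.2)) a a.2)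
  · intro a ha
    induction ha using Subgroup.closure_induction with
    | mem x hx => exact hp x hx
    | one => exact one_pow p
    | mul x y hx hy ihx ihy =>
      have hc : Commute x y := ((Subgroup.mem_centralizer_iff.mp (h2 hy)) x hx)
      rw [hc.mul_pow, ihx, ihy, one_mul]
    | inv x hx ihx => rw [inv_pow, ihx, inv_one]

theorem isElementaryAbelian_of_le {A B : Subgroup G} (hAB : A ≤ B)
    (hB : IsElementaryAbelian p B) : IsElementaryAbelian p A := by
  obtain ⟨⟨⟨hc⟩⟩, hp⟩ := hB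
  refine ⟨⟨⟨fun a b => ?_⟩⟩, fun a ha => hp a (hAB ha)⟩
  apply Subtype.ext
  have h1 := congrArg Subtype.val (hc ⟨a, hAB a.2⟩ ⟨b, hAB b.2⟩)
  exact h1


/-- S2849 -/
theorem asymmetric_normalClosure_elementary [Finite G] [Fact p.Prime] (M : Subgroup G)
    (hM : Cfsg.IsInFrakM p M) (hasym : ¬ Cfsg.IsSymmetricIn (Cfsg.largestPReducedOf p M))
    (R : Subgroup G) (hYR : (Cfsg.largestPReducedOf p M) ≤ R)
    (hRM : R ≤ (M ⊔ Subgroup.centralizer (((Cfsg.largestPReducedOf p M) : Subgroup G) : Set G))) :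
    Cfsg.IsElementaryAbelian p ((Subgroup.normalClosure
      ((((Cfsg.largestPReducedOf p M)).subgroupOf (Subgroup.normalizer ((R : Subgroup G) : Set G)) :
        Subgroup ↥(Subgroup.normalizer ((R : Subgroup G) : Set G))) :
          Set ↥(Subgroup.normalizer ((R : Subgroup G) : Set G)))).map
            (Subgroup.normalizer ((R : Subgroup G) : Set G)).subtype) := by
  have hcharp := charP_of_mem_charPSubgroups hM.1
  obtain ⟨hYM, hAPR, -, -, -⟩ := largestPReducedOf_spec (p := p) M hcharp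
  set Y := largestPReducedOf p M with hY
  set N := Subgroup.normalizer (R : Set G) with hN
  have hMY : M ≤ Subgroup.normalizer (Y : Set G) := hAPR.1
  have hYea : IsElementaryAbelian p Y := hAPR.2.1
  have hRY : R ≤ Subgroup.normalizer (Y : Set G) :=
    hRM.trans (sup_le hMY (Subgroup.centralizer_le_normalizer _))
  -- key: conjugates under N(R) commute with Y
  have key : ∀ g ∈ N, ⁅Y, Y.map (MulAut.conj g).toMonoidHom⁆ = ⊥ := by
    intro g hg
    by_contra hne
    apply hasym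
    refine ⟨g, hne, le_inf ?_ ?_⟩
    · apply Subgroup.le_normalizer_iff_commutator_le_left.mp
      have h1 : Y.map (MulAut.conj g).toMonoidHom ≤ R.map (MulAut.conj g).toMonoidHom :=
        Subgroup.map_mono hYR
      have h2 : R.map (MulAut.conj g).toMonoidHom = R :=
        Subgroup.mem_normalizer_iff_map_conj_eq.mp hg
      rw [h2] at h1
      exact h1.trans hRY
    · rw [Subgroup.commutator_comm]
      apply Subgroup.le_normalizer_iff_commutator_le_left.mp
      have h2 : R.map (MulAut.conj g).toMonoidHom = R :=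
        Subgroup.mem_normalizer_iff_map_conj_eq.mp hg
      have h3 : R.map (MulAut.conj g).toMonoidHom ≤
          (Subgroup.normalizer (Y : Set G)).map (MulAut.conj g).toMonoidHom :=
        Subgroup.map_mono hRY
      have h4 : (Subgroup.normalizer (Y : Set G)).map (MulAut.conj g).toMonoidHom =
          Subgroup.normalizer ((Y.map (MulAut.conj g).toMonoidHom : Subgroup G) : Set G) :=
        Subgroup.map_equiv_normalizer_eq Y (MulAut.conj g)
      rw [h2, h4] at h3
      exact hYR.trans h3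
  set 𝒮 : Set G := {x | ∃ g ∈ N, x ∈ Y.map (MulAut.conj g).toMonoidHom} with h𝒮
  have hcomm : ∀ a ∈ 𝒮, ∀ b ∈ 𝒮, a * b = b * a := by
    rintro a ⟨g, hg, y, hy, rfl⟩ b ⟨h, hh, y', hy', rfl⟩
    have hgh : g⁻¹ * h ∈ N := N.mul_mem (N.inv_mem hg) hh
    have h1 := key (g⁻¹ * h) hgh
    rw [Subgroup.commutator_eq_bot_iff_le_centralizer] at h1
    have h2 : (g⁻¹ * h) * y' * (g⁻¹ * h)⁻¹ * y = y * ((g⁻¹ * h) * y' * (g⁻¹ * h)⁻¹) :=
      (Subgroup.mem_centralizer_iff.mp (h1 hy)) _ ⟨y', hy', rfl⟩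
    show g * y * g⁻¹ * (h * y' * h⁻¹) = h * y' * h⁻¹ * (g * y * g⁻¹)
    have e1 : h * y' * h⁻¹ = g * ((g⁻¹ * h) * y' * (g⁻¹ * h)⁻¹) * g⁻¹ := by group
    rw [e1]
    calc g * y * g⁻¹ * (g * ((g⁻¹ * h) * y' * (g⁻¹ * h)⁻¹) * g⁻¹)
        = g * (y * ((g⁻¹ * h) * y' * (g⁻¹ * h)⁻¹)) * g⁻¹ := by group
      _ = g * ((g⁻¹ * h) * y' * (g⁻¹ * h)⁻¹ * y) * g⁻¹ := by rw [h2]
      _ = g * ((g⁻¹ * h) * y' * (g⁻¹ * h)⁻¹) * g⁻¹ * (g * y * g⁻¹) := by group
  have hpow : ∀ a ∈ 𝒮, a ^ p = 1 := by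
    rintro a ⟨g, hg, y, hy, rfl⟩
    show (g * y * g⁻¹) ^ p = 1
    rw [conj_pow, hYea.2 y hy]; group
  have hW := isElementaryAbelian_closure 𝒮 hcomm hpow
  apply isElementaryAbelian_of_le _ hW
  -- the normal closure lies in closure 𝒮
  have hNW : N ≤ Subgroup.normalizer ((Subgroup.closure 𝒮 : Subgroup G) : Set G) := by
    rw [Subgroup.le_normalizer_closure_iff]
    rintro n hn x ⟨g, hg, y, hy, rfl⟩
    apply Subgroup.subset_closure
    refine ⟨n * g, N.mul_mem hn hg, y, hy, ?_⟩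
    show n * g * y * (n * g)⁻¹ = n * (g * y * g⁻¹) * n⁻¹
    group
  haveI hnorm : ((Subgroup.closure 𝒮).subgroupOf N).Normal := by
    constructor
    intro x hx n
    rw [Subgroup.mem_subgroupOf] at hx ⊢
    exact (Subgroup.mem_normalizer_iff.mp (hNW n.2) (x : G)).mp hx
  rw [Subgroup.map_le_iff_le_comap]
  apply Subgroup.normalClosure_le_normal (N := (Subgroup.closure 𝒮).subgroupOf N)
  intro x hx
  rw [SetLike.mem_coe, Subgroup.mem_subgroupOf] at hx ⊢
  apply Subgroup.subset_closure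
  refine ⟨1, N.one_mem, (x : G), hx, ?_⟩
  simp

end Cfsg.Agent.Lib.Helper16
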