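/-
Helper16 library: large `p`-subgroups force characteristic `p` on overgroups with nontrivial
`O_p` (S2845): `C_G(O_p(L))` is a `p`-group, parabolic subgroups have `C_G(O_p(R)) ≤ O_p(R)`.
-/
import Mathlib
import Cfsg.Prelude.Def_LocalStructure
import Cfsg.Prelude.Def_Amalgam
import Cfsg.Prelude.Def_Solvable
import Cfsg.Agent.Lib.Helper16.Large2
import Cfsg.Agent.Lib.Helper16.PCore
import Cfsg.Agent.Lib.Helper9.Components

set_option autoImplicit false
open Cfsg
open scoped Pointwise commutatorElement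

namespace Cfsg.Agent.Lib.Helper16

-- LC START
section LargeChar

variable {G : Type*} [Group G] {p : ℕ}

/-- `O_p(L) ≠ 1` in subtype form iff in ambient form. -/
theorem pCoreOf_ne_bot_iff (L : Subgroup G) : pCoreOf p L ≠ ⊥ ↔ pCore p ↥L ≠ ⊥ := by
  unfold pCoreOf
  rw [Ne, Ne, Subgroup.map_eq_bot_iff_of_injective _ L.subtype_injective]

/-- ambient characteristic `p` gives the subtype form. -/
theorem charP_of_ambient (L : Subgroup G)
    (h : L ⊓ Subgroup.centralizer ((pCoreOf p L : Subgroup G) : Set G) ≤ pCoreOf p L) :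
    Subgroup.centralizer (pCore p ↥L : Set ↥L) ≤ pCore p ↥L := by
  intro x hx
  have h1 : (x : G) ∈ Subgroup.centralizer ((pCoreOf p L : Subgroup G) : Set G) := by
    rw [Subgroup.mem_centralizer_iff]
    rintro _ ⟨y, hy, rfl⟩
    exact congrArg Subtype.val ((Subgroup.mem_centralizer_iff.mp hx) y hy)
  obtain ⟨y, hy, hye⟩ := h ⟨x.2, h1⟩
  have : y = x := Subtype.ext hye
  rw [← this]; exact hy

/-- if `C_G(O_p(L))` is a `p`-group then `C_L(O_p(L)) ≤ O_p(L)`. -/
theorem inf_centralizer_pCoreOf_le [Finite G] [Fact p.Prime] (L : Subgroup G)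
    (h : IsPGroup p ↥(Subgroup.centralizer ((pCoreOf p L : Subgroup G) : Set G))) :
    L ⊓ Subgroup.centralizer ((pCoreOf p L : Subgroup G) : Set G) ≤ pCoreOf p L := by
  apply le_pCoreOf inf_le_left
  · intro l hl
    apply Cfsg.Agent.Lib.Helper9.mem_normalizer_inf (Subgroup.le_normalizer hl)
    exact normalizer_le_normalizer_centralizer _ (le_normalizer_pCoreOf (p := p) L hl)
  · exact h.to_le inf_le_right

/-- conjugates of a large subgroup are large. -/
theorem isLarge_map_conj {Q : Subgroup G} (hL : IsLarge Q) (g : G) :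
    IsLarge (Q.map (MulAut.conj g).toMonoidHom) := by
  refine ⟨?_, fun U hU hU1 => large_conj hL g U hU hU1⟩
  rw [centralizer_map_conj]
  exact Subgroup.map_mono hL.1

/-- **Key lemma**: if the nontrivial large `p`-subgroup `Q` lies in `L` and `O_p(L) ≠ 1` then
`C_G(O_p(L))` is a `p`-group. -/
theorem large_centralizer_pCoreOf_isPGroup [Finite G] [Fact p.Prime] {Q : Subgroup G}
    (hQp : IsPGroup p ↥Q) (hL : IsLarge Q) {L : Subgroup G} (hQL : Q ≤ L)
    (hP1 : pCoreOf p L ≠ ⊥) :
    IsPGroup p ↥(Subgroup.centralizer ((pCoreOf p L : Subgroup G) : Set G)) := by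
  set P : Subgroup G := pCoreOf p L with hP
  set C : Subgroup G := Subgroup.centralizer (P : Set G) with hC
  have hPp : IsPGroup p ↥P := pCoreOf_isPGroup L
  have hLP : L ≤ Subgroup.normalizer (P : Set G) := le_normalizer_pCoreOf L
  have hLC : L ≤ Subgroup.normalizer (C : Set G) :=
    hLP.trans (normalizer_le_normalizer_centralizer P)
  have hCQ : C ≤ Subgroup.normalizer (Q : Set G) :=
    large_centralizer_le_normalizer hQp hL hPp hP1 (hQL.trans hLP)
  -- `Q ⊓ C ≤ P`
  have hQC : Q ⊓ C ≤ P := by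
    have h1 : Q ⊓ C ≤ pCoreOf p (L ⊓ C) := by
      apply le_pCoreOf (inf_le_inf_right C hQL)
      · intro x hx
        exact Cfsg.Agent.Lib.Helper9.mem_normalizer_inf (hCQ hx.2) (Subgroup.le_normalizer hx.2)
      · exact hQp.to_le inf_le_left
    refine h1.trans ?_
    apply le_pCoreOf ((pCoreOf_le _).trans inf_le_left)
    · refine le_trans ?_ (normalizer_le_normalizer_pCoreOf (L ⊓ C))
      intro l hl
      exact Cfsg.Agent.Lib.Helper9.mem_normalizer_inf (Subgroup.le_normalizer hl) (hLC hl)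
    · exact pCoreOf_isPGroup _
  apply isPGroup_of_coprime_trivial
  intro x hx hcop
  -- `x` centralizes `Q`
  have hxQ : x ∈ Subgroup.centralizer (Q : Set G) := by
    rw [Subgroup.mem_centralizer_iff]
    intro q hq
    have hu : x * q * x⁻¹ * q⁻¹ ∈ Q ⊓ C := by
      constructor
      · have h1 : x * q * x⁻¹ ∈ Q := (Subgroup.mem_normalizer_iff.mp (hCQ hx) q).mp hq
        exact Q.mul_mem h1 (Q.inv_mem hq)
      · have h2 : q * x⁻¹ * q⁻¹ ∈ C :=
          (Subgroup.mem_normalizer_iff.mp (hLC (hQL hq)) x⁻¹).mp (C.inv_mem hx)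
        have e : x * q * x⁻¹ * q⁻¹ = x * (q * x⁻¹ * q⁻¹) := by group
        rw [e]
        exact C.mul_mem hx h2
    have huP : x * q * x⁻¹ * q⁻¹ ∈ P := hQC hu
    have hcomm : x * (x * q * x⁻¹ * q⁻¹) = (x * q * x⁻¹ * q⁻¹) * x :=
      ((Subgroup.mem_centralizer_iff.mp hx) _ huP).symm
    have hz : ∃ k : ℕ, (x * q * x⁻¹ * q⁻¹) ^ (p ^ k) = 1 := by
      obtain ⟨k, hk⟩ := hPp ⟨_, huP⟩
      exact ⟨k, by simpa using congrArg Subtype.val hk⟩
    have h1 := coprime_step x q hcop hcomm hz
    have h2 : x * q = q * x := by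
      have : x * q * x⁻¹ * q⁻¹ * (q * x) = q * x := by rw [h1, one_mul]
      rw [← this]; group
    exact h2.symm
  exact eq_one_of_mem_pgroup_of_coprime hQp (hL.1 hxQ) hcop

/-- the weak closure alternative for a large subgroup. -/
theorem large_weakClosure_alt [Finite G] [Fact p.Prime] {Q : Subgroup G}
    (hQp : IsPGroup p ↥Q) (hQ1 : Q ≠ ⊥) (hL : IsLarge Q) {L : Subgroup G} (hQL : Q ≤ L) :
    weakClosure Q L = Q ∨
      Subgroup.centralizer ((weakClosure Q L : Subgroup G) : Set G) = ⊥ := by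
  have hQle : Q ≤ weakClosure Q L := by
    unfold weakClosure
    have h1 : Q.map (MulAut.conj (1 : G)).toMonoidHom = Q := by
      ext x; simp
    have h2 : Q.map (MulAut.conj (1 : G)).toMonoidHom ≤ L := by rw [h1]; exact hQL
    calc Q = Q.map (MulAut.conj (1 : G)).toMonoidHom := h1.symm
      _ ≤ _ := le_iSup (fun g : {g : G // Q.map (MulAut.conj g).toMonoidHom ≤ L} =>
          Q.map (MulAut.conj (g : G)).toMonoidHom) ⟨1, h2⟩
  by_cases hall : ∀ g : G, Q.map (MulAut.conj g).toMonoidHom ≤ L →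
      g ∈ Subgroup.normalizer (Q : Set G)
  · left
    apply le_antisymm _ hQle
    unfold weakClosure
    apply iSup_le
    rintro ⟨g, hg⟩
    show Q.map (MulAut.conj g).toMonoidHom ≤ Q
    exact (Subgroup.mem_normalizer_iff_map_conj_eq.mp (hall g hg)).le
  · right
    push Not at hall
    obtain ⟨g, hg, hgN⟩ := hall
    have h1 := large_centralizer_inf hQp hQ1 hL g hgN
    rw [eq_bot_iff, ← h1]
    apply le_inf
    · exact Subgroup.centralizer_le hQle
    · apply Subgroup.centralizer_le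
      unfold weakClosure
      exact le_iSup (fun g : {g : G // Q.map (MulAut.conj g).toMonoidHom ≤ L} =>
          Q.map (MulAut.conj (g : G)).toMonoidHom) ⟨g, hg⟩

/-- a parabolic subgroup `R` with `O_p(R) ≠ 1` in a group with a large `p`-subgroup satisfies
`C_G(O_p(R)) ≤ O_p(R)`. -/
theorem large_parabolic_centralizer_le [Finite G] [Fact p.Prime] {Q : Subgroup G}
    (hQp : IsPGroup p ↥Q) (hL : IsLarge Q) {R : Subgroup G} (hR : IsParabolic p R)
    (hP1 : pCoreOf p R ≠ ⊥) :
    Subgroup.centralizer ((pCoreOf p R : Subgroup G) : Set G) ≤ pCoreOf p R := by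
  obtain ⟨T, hTR⟩ := hR
  obtain ⟨S, hQS⟩ := hQp.exists_le_sylow
  obtain ⟨g, hg⟩ := MulAction.exists_smul_eq G S T
  -- `Q^g ≤ T ≤ R`
  have hQT : Q.map (MulAut.conj g).toMonoidHom ≤ (T : Subgroup G) := by
    rw [← hg, Sylow.coe_subgroup_smul]
    exact Subgroup.map_mono hQS
  have hQg : Q.map (MulAut.conj g).toMonoidHom ≤ R := hQT.trans hTR
  have hCp := large_centralizer_pCoreOf_isPGroup (isPGroup_map_conj hQp g)
    (isLarge_map_conj hL g) hQg hP1
  set C : Subgroup G := Subgroup.centralizer ((pCoreOf p R : Subgroup G) : Set G) with hC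
  have hRC : R ≤ Subgroup.normalizer (C : Set G) :=
    (le_normalizer_pCoreOf (p := p) R).trans (normalizer_le_normalizer_centralizer _)
  have hCT : C ≤ (T : Subgroup G) := by
    have hD : IsPGroup p ↥((T : Subgroup G) ⊔ C) :=
      IsPGroup.to_sup_of_normal_right' T.isPGroup' hCp (hTR.trans hRC)
    have h1 : (T : Subgroup G) ⊔ C = (T : Subgroup G) := T.is_maximal' hD le_sup_left
    calc C ≤ (T : Subgroup G) ⊔ C := le_sup_right
      _ = T := h1
  exact le_pCoreOf (hCT.trans hTR) hRC hCp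

end LargeChar

end Cfsg.Agent.Lib.Helper16
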