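import Cfsg.Agent.Lib.Helper16.WeaklyClosed3

set_option autoImplicit false
open Cfsg
open scoped Pointwise commutatorElement

namespace Cfsg.Agent.Lib.Helper16

variable {G : Type*} [Group G] {p : ℕ}

/-- A subnormal subgroup containing a weakly closed `p`-subgroup `Q` contains all conjugates of
`Q`. -/
theorem wc_conj_le_of_subnormal [Finite G] [Fact p.Prime] {Q : Subgroup G} (hQp : IsPGroup p Q)
    (hwc : IsWeaklyClosedSubgroup p Q) (J : Subgroup G) (hJ : J.IsSubnormal) :
    Q ≤ J → ∀ g : G, Q.map (MulAut.conj g).toMonoidHom ≤ J := by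
  induction hJ with
  | top => intro _ g; exact le_top
  | step J J1 h_le hSubn hN ih =>
    intro hQJ g
    have h1 := ih (hQJ.trans h_le) g
    obtain ⟨j, hj, hj2⟩ := wc_conj_in_subgroup hQp hwc (hQJ.trans h_le) g h1
    rw [hj2]
    rintro _ ⟨q, hq, rfl⟩
    have h2 : (⟨q, h_le (hQJ hq)⟩ : J1) ∈ J.subgroupOf J1 := by
      rw [Subgroup.mem_subgroupOf]; exact hQJ hq
    have h3 := hN.conj_mem _ h2 ⟨j, hj⟩
    rw [Subgroup.mem_subgroupOf] at h3
    simpa using h3

theorem map_conj_le_of_mem {Q K : Subgroup G} (hQK : Q ≤ K) {k : G} (hk : k ∈ K) :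
    Q.map (MulAut.conj k).toMonoidHom ≤ K :=
  calc Q.map (MulAut.conj k).toMonoidHom ≤ K.map (MulAut.conj k).toMonoidHom :=
        Subgroup.map_mono hQK
    _ = K := map_conj_eq_self_of_mem hk

theorem weakClosure_eq_iSup [Finite G] [Fact p.Prime] {Q : Subgroup G} (hQp : IsPGroup p Q)
    (hwc : IsWeaklyClosedSubgroup p Q) {K : Subgroup G} (hQK : Q ≤ K) :
    weakClosure Q K = ⨆ k : ↥K, Q.map (MulAut.conj (k : G)).toMonoidHom := by
  unfold weakClosure
  apply le_antisymm
  · apply iSup_le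
    rintro ⟨g, hg⟩
    obtain ⟨k, hk, hk2⟩ := wc_conj_in_subgroup hQp hwc hQK g hg
    show Q.map (MulAut.conj g).toMonoidHom ≤ _
    rw [hk2]
    exact le_iSup (fun k : ↥K => Q.map (MulAut.conj (k : G)).toMonoidHom) ⟨k, hk⟩
  · apply iSup_le
    intro k
    have hk : Q.map (MulAut.conj (k : G)).toMonoidHom ≤ K := map_conj_le_of_mem hQK k.2
    exact le_iSup (fun g : {g : G // Q.map (MulAut.conj g).toMonoidHom ≤ K} =>
      Q.map (MulAut.conj (g : G)).toMonoidHom) ⟨(k : G), hk⟩

theorem weakClosure_eq_subnormalClosure [Finite G] [Fact p.Prime] {Q : Subgroup G}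
    (hQp : IsPGroup p Q) (hwc : IsWeaklyClosedSubgroup p Q) {K : Subgroup G} (hQK : Q ≤ K) :
    weakClosure Q K = (subnormalClosure (Q.subgroupOf K)).map K.subtype := by
  have hi := weakClosure_eq_iSup hQp hwc hQK
  set Kc := weakClosure Q K with hKc
  have hKcK : Kc ≤ K := by
    rw [hi]
    apply iSup_le
    intro k
    exact map_conj_le_of_mem hQK k.2
  have hQKc : Q ≤ Kc := by
    rw [hi]
    have h := le_iSup (fun k : ↥K => Q.map (MulAut.conj (k : G)).toMonoidHom) (1 : K)
    have e : Q.map (MulAut.conj (((1 : K) : G))).toMonoidHom = Q := by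
      rw [Subgroup.coe_one, map_conj_one]
    calc Q = Q.map (MulAut.conj (((1 : K) : G))).toMonoidHom := e.symm
      _ ≤ _ := h
  apply le_antisymm
  · rw [hi]
    apply iSup_le
    intro k
    rw [← subgroupOf_map_conj_map_subtype hQK k]
    apply Subgroup.map_mono
    unfold subnormalClosure
    apply le_sInf
    rintro J ⟨hQJ, hJ⟩
    exact wc_conj_le_of_subnormal (hQp.comap_subtype : IsPGroup p (Q.subgroupOf K))
      (wc_subgroupOf hQp hwc hQK) J hJ hQJ k
  · have hnorm : (Kc.subgroupOf K).Normal := by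
      rw [Subgroup.normal_subgroupOf_iff_le_normalizer hKcK]
      intro k hk
      apply mem_normalizer_of_map_conj_le
      rw [hi, Subgroup.map_iSup]
      apply iSup_le
      intro k'
      rw [map_conj_map_conj]
      exact le_iSup (fun k : ↥K => Q.map (MulAut.conj (k : G)).toMonoidHom) (⟨k, hk⟩ * k')
    have h1 : subnormalClosure (Q.subgroupOf K) ≤ Kc.subgroupOf K := by
      unfold subnormalClosure
      apply sInf_le
      exact ⟨Subgroup.subgroupOf_mono K hQKc, hnorm.isSubnormal⟩
    calc (subnormalClosure (Q.subgroupOf K)).map K.subtype ≤ (Kc.subgroupOf K).map K.subtype :=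
          Subgroup.map_mono h1
      _ = Kc := Subgroup.map_subgroupOf_eq_of_le hKcK

end Cfsg.Agent.Lib.Helper16
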