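/-
Helper16 library: `M ∈ 𝔐_G(S)` with a large subgroup `Q` (S2864): `N_G(I) ≤ M†` for nontrivial
normal `p`-subgroups `I` of `M`; ambient normal closures `conjClosure`; a criterion for
`Y ≤ O_p(L)`.
-/
import Mathlib
import Cfsg.Prelude.Def_LocalStructure
import Cfsg.Prelude.Def_Amalgam
import Cfsg.Prelude.Def_Solvable
import Cfsg.Prelude.Def_Transfer
import Cfsg.Agent.Lib.Helper16.LargeChar
import Cfsg.Agent.Lib.Helper16.WeaklyClosed4
import Cfsg.Agent.Lib.Helper17.WStable
import Cfsg.Agent.Lib.Helper1.PGroup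
import Cfsg.Agent.Lib.Helper8.PResidual

set_option autoImplicit false
open Cfsg
open scoped Pointwise commutatorElement

namespace Cfsg.Agent.Lib.Helper16

-- FM2 START
section FrakM2

variable {G : Type*} [Group G] {p : ℕ}

/-- the closure of `Y` under conjugation by `L` (ambient normal closure). -/
def conjClosure (L Y : Subgroup G) : Subgroup G :=
  ⨆ l : ↥L, Y.map (MulAut.conj (l : G)).toMonoidHom

theorem map_conj_le_conjClosure (L Y : Subgroup G) {l : G} (hl : l ∈ L) :
    Y.map (MulAut.conj l).toMonoidHom ≤ conjClosure L Y :=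
  le_iSup (fun l : ↥L => Y.map (MulAut.conj (l : G)).toMonoidHom) ⟨l, hl⟩

theorem le_conjClosure (L Y : Subgroup G) : Y ≤ conjClosure L Y := by
  have h := map_conj_le_conjClosure L Y L.one_mem
  rwa [map_conj_one] at h

theorem conjClosure_le {L Y K : Subgroup G} (hYK : Y ≤ K) (hLK : L ≤ K) : conjClosure L Y ≤ K := by
  unfold conjClosure
  apply iSup_le
  intro l
  exact map_conj_le_of_mem hYK (hLK l.2)

theorem le_normalizer_conjClosure (L Y : Subgroup G) :
    L ≤ Subgroup.normalizer ((conjClosure L Y : Subgroup G) : Set G) := by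
  unfold conjClosure
  rw [Subgroup.iSup_eq_closure, Subgroup.le_normalizer_closure_iff]
  intro b hb g hg
  obtain ⟨l, hgl⟩ := Set.mem_iUnion.mp hg
  apply Subgroup.subset_closure
  refine Set.mem_iUnion.mpr ⟨⟨b * l, L.mul_mem hb l.2⟩, ?_⟩
  obtain ⟨y, hy, rfl⟩ := hgl
  exact ⟨y, hy, by simp [mul_assoc]⟩

theorem map_conj_eq_of_mem_normalizer {A : Subgroup G} {n : G}
    (hn : n ∈ Subgroup.normalizer (A : Set G)) : A.map (MulAut.conj n).toMonoidHom = A :=
  Subgroup.mem_normalizer_iff_map_conj_eq.mp hn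

theorem normalizer_le_normalizer_commutator_self (A : Subgroup G) [Finite G] :
    Subgroup.normalizer (A : Set G) ≤ Subgroup.normalizer ((⁅A, A⁆ : Subgroup G) : Set G) := by
  intro n hn
  apply mem_normalizer_of_map_conj_le
  rw [Subgroup.map_commutator, map_conj_eq_of_mem_normalizer hn]

/-- `G = O^p(G) T` for a Sylow `p`-subgroup `T` (elementwise, `t * b` form). -/
theorem exists_sylow_mul_pResidual {A : Type*} [Group A] [Finite A] [Fact p.Prime] (T : Sylow p A)
    (a : A) : ∃ t ∈ (T : Subgroup A), ∃ b ∈ pResidual p A, a = t * b := by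
  have hn : (pResidual p A).Normal := Cfsg.Agent.Lib.Helper8.pResidual_normal p A
  have hq : IsPGroup p (A ⧸ pResidual p A) :=
    Cfsg.Agent.Lib.Helper8.isPGroup_quotient_pResidual p (pResidual p A) le_rfl
  have hsurj : Function.Surjective (QuotientGroup.mk' (pResidual p A)) :=
    QuotientGroup.mk'_surjective _
  have h1 : ((T.mapSurjective hsurj : Sylow p (A ⧸ pResidual p A)) :
      Subgroup (A ⧸ pResidual p A)) = ⊤ := by
    have htop : IsPGroup p (⊤ : Subgroup (A ⧸ pResidual p A)) := hq.to_subgroup _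
    obtain ⟨T', hT'⟩ := htop.exists_le_sylow
    have h2 : (T' : Subgroup (A ⧸ pResidual p A)) = ⊤ := top_le_iff.mp hT'
    obtain ⟨g, hg⟩ := MulAction.exists_smul_eq (A ⧸ pResidual p A) T' (T.mapSurjective hsurj)
    rw [← hg, Sylow.coe_subgroup_smul, h2]
    simp
  rw [Sylow.coe_mapSurjective] at h1
  have h3 := congrArg (Subgroup.comap (QuotientGroup.mk' (pResidual p A))) h1
  rw [Subgroup.comap_map_eq, QuotientGroup.ker_mk', Subgroup.comap_top] at h3
  have h : a ∈ (((T : Subgroup A) ⊔ pResidual p A : Subgroup A) : Set A) := by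
    rw [h3]; trivial
  rw [Subgroup.mul_normal] at h
  obtain ⟨t, ht, b, hb, rfl⟩ := h
  exact ⟨t, ht, b, hb, rfl⟩

/-- **Core lemma** (`Y ≤ O_p(L)`): `R` a `p`-group normalized by `Md`, `Y ≤ R`, `A` a normal
`p`-subgroup of `L ≥ Y` with `[A, Y] ≤ A'` and `C_G(A) ≤ Md`. -/
theorem le_pCoreOf_of_centralizer_le [Finite G] [Fact p.Prime] (Md R Y L A : Subgroup G)
    (hRp : IsPGroup p ↥R) (hMdR : Md ≤ Subgroup.normalizer (R : Set G)) (hYR : Y ≤ R)
    (hYL : Y ≤ L) (hAp : IsPGroup p ↥A)
    (hLA : L ≤ Subgroup.normalizer (A : Set G)) (hc : ⁅A, Y⁆ ≤ ⁅A, A⁆)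
    (hCA : Subgroup.centralizer (A : Set G) ≤ Md) : Y ≤ pCoreOf p L := by
  have hYp : IsPGroup p ↥Y := hRp.to_le hYR
  set V : Subgroup G := conjClosure L Y with hV
  have hYV : Y ≤ V := le_conjClosure L Y
  have hVL : V ≤ L := conjClosure_le hYL le_rfl
  have hLV : L ≤ Subgroup.normalizer (V : Set G) := le_normalizer_conjClosure L Y
  have hNA' := normalizer_le_normalizer_commutator_self A
  -- `[A, V] ≤ A'`
  have hAV : ⁅A, V⁆ ≤ ⁅A, A⁆ := by
    apply commutator_iSup_le (V := A) (N := ⁅A, A⁆)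
      (X := fun l : ↥L => Y.map (MulAut.conj (l : G)).toMonoidHom)
    · intro l
      exact (map_conj_le_of_mem hYL l.2).trans (hLA.trans hNA')
    · intro l
      have hAl : A.map (MulAut.conj (l : G)).toMonoidHom = A :=
        map_conj_eq_of_mem_normalizer (hLA l.2)
      have hA'l : (⁅A, A⁆ : Subgroup G).map (MulAut.conj (l : G)).toMonoidHom = ⁅A, A⁆ :=
        map_conj_eq_of_mem_normalizer (hNA' (hLA l.2))
      calc ⁅A, Y.map (MulAut.conj (l : G)).toMonoidHom⁆
          = ⁅A.map (MulAut.conj (l : G)).toMonoidHom, Y.map (MulAut.conj (l : G)).toMonoidHom⁆ := by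
            rw [hAl]
        _ = (⁅A, Y⁆ : Subgroup G).map (MulAut.conj (l : G)).toMonoidHom :=
            (Subgroup.map_commutator _ _ _).symm
        _ ≤ (⁅A, A⁆ : Subgroup G).map (MulAut.conj (l : G)).toMonoidHom := Subgroup.map_mono hc
        _ = ⁅A, A⁆ := hA'l
  -- `p'`-elements of `V` centralize `A`
  have hcent : ∀ x ∈ V, (orderOf x).Coprime p → x ∈ Subgroup.centralizer (A : Set G) := by
    intro x hx hcop
    have hxN : Subgroup.zpowers x ≤ Subgroup.normalizer (A : Set G) := by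
      rw [Subgroup.zpowers_le]; exact hLA (hVL hx)
    have hcard : (Nat.card ↥(Subgroup.zpowers x)).Coprime (Nat.card ↥A) := by
      rw [Nat.card_zpowers]
      obtain ⟨k, hk⟩ := IsPGroup.iff_card.mp hAp
      rw [hk]
      exact Nat.Coprime.pow_right k hcop
    have hfr : ⁅A, Subgroup.zpowers x⁆ ≤ (frattini ↥A).map A.subtype := by
      have h1 : ⁅A, Subgroup.zpowers x⁆ ≤ ⁅A, A⁆ :=
        (Subgroup.commutator_mono le_rfl (by rw [Subgroup.zpowers_le]; exact hx)).trans hAV
      refine h1.trans ?_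
      rw [← Subgroup.map_subtype_commutator]
      exact Subgroup.map_mono (Cfsg.Agent.Lib.Helper1.IsPGroup.commutator_le_frattini
        (G := ↥A) (p := p) hAp)
    have h2 := Cfsg.Agent.Lib.Helper17.le_centralizer_of_commutator_le_frattini A
      (Subgroup.zpowers x) hxN hcard (Or.inl inferInstance) hfr
    rw [Subgroup.mem_centralizer_iff]
    intro a ha
    exact (Subgroup.mem_centralizer_iff.mp (h2 ha) x (Subgroup.mem_zpowers x)).symm
  set X : Subgroup G := Subgroup.closure {x : G | x ∈ V ∧ (orderOf x).Coprime p} with hX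
  have hXV : X ≤ V := by
    rw [hX, Subgroup.closure_le]; intro x hx; exact hx.1
  have hXC : X ≤ Subgroup.centralizer (A : Set G) := by
    rw [hX, Subgroup.closure_le]; intro x hx; exact hcent x hx.1 hx.2
  have hXMd : X ≤ Md := hXC.trans hCA
  have hLX : L ≤ Subgroup.normalizer (X : Set G) := by
    rw [hX, Subgroup.le_normalizer_closure_iff]
    intro l hl x hx
    apply Subgroup.subset_closure
    refine ⟨?_, ?_⟩
    · exact (Subgroup.mem_normalizer_iff.mp (hLV hl) x).mp hx.1
    · have : orderOf (l * x * l⁻¹) = orderOf x := by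
        have := (MulAut.conj l).orderOf_eq x
        simpa using this
      rw [this]; exact hx.2
  have hres : pResidual p ↥V ≤ X.comap V.subtype := by
    unfold pResidual
    rw [Subgroup.closure_le]
    intro x hx
    rw [SetLike.mem_coe, Subgroup.mem_comap]
    apply Subgroup.subset_closure
    refine ⟨x.2, ?_⟩
    have hx' : (orderOf x).Coprime p := hx
    rwa [← Subgroup.orderOf_coe] at hx'
  set PX : Subgroup G := pCoreOf p X with hPX
  have hPXp : IsPGroup p ↥PX := pCoreOf_isPGroup X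
  have hXR : X ⊓ R ≤ PX := by
    apply le_pCoreOf inf_le_left _ (hRp.to_le inf_le_right)
    intro x hx
    exact Cfsg.Agent.Lib.Helper9.mem_normalizer_inf (Subgroup.le_normalizer hx) (hMdR (hXMd hx))
  have hXY : ∀ x ∈ X, ∀ y ∈ Y, x * y * x⁻¹ * y⁻¹ ∈ PX := by
    intro x hx y hy
    apply hXR
    constructor
    · have h1 : y * x⁻¹ * y⁻¹ ∈ X :=
        (Subgroup.mem_normalizer_iff.mp (hLX (hYL hy)) x⁻¹).mp (X.inv_mem hx)
      have e : x * y * x⁻¹ * y⁻¹ = x * (y * x⁻¹ * y⁻¹) := by group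
      rw [e]; exact X.mul_mem hx h1
    · have h1 : x * y * x⁻¹ ∈ R :=
        (Subgroup.mem_normalizer_iff.mp (hMdR (hXMd hx)) y).mp (hYR hy)
      exact R.mul_mem h1 (R.inv_mem (hYR hy))
  have hXPX : X ≤ Subgroup.normalizer (PX : Set G) := le_normalizer_pCoreOf X
  have hYPX : Y ≤ Subgroup.normalizer (PX : Set G) :=
    (hYL.trans hLX).trans (normalizer_le_normalizer_pCoreOf X)
  set B : Subgroup G := Y ⊔ PX with hB
  have hBp : IsPGroup p ↥B := IsPGroup.to_sup_of_normal_right' hYp hPXp hYPX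
  have hXB : X ≤ Subgroup.normalizer (B : Set G) := by
    intro x hx
    apply mem_normalizer_of_map_conj_le
    rw [Subgroup.map_sup]
    apply sup_le
    · rintro _ ⟨y, hy, rfl⟩
      have e : (MulAut.conj x).toMonoidHom y = (x * y * x⁻¹ * y⁻¹) * y := by simp
      rw [e]
      exact B.mul_mem (Subgroup.mem_sup_right (hXY x hx y hy)) (Subgroup.mem_sup_left hy)
    · rw [map_conj_eq_of_mem_normalizer (hXPX hx)]
      exact le_sup_right
  have hBV : B ≤ V := sup_le hYV ((pCoreOf_le X).trans hXV)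
  obtain ⟨T, hT⟩ := (hBp.comap_subtype : IsPGroup p (B.subgroupOf V)).exists_le_sylow
  set TG : Subgroup G := (T : Subgroup ↥V).map V.subtype with hTG
  have hTGp : IsPGroup p ↥TG := T.isPGroup'.map _
  have hBT : B ≤ TG := by
    intro b hb
    exact ⟨⟨b, hBV hb⟩, hT (by rw [Subgroup.mem_comap]; exact hb), rfl⟩
  have hconj : ∀ v : ↥V, B.map (MulAut.conj (v : G)).toMonoidHom ≤ TG := by
    intro v
    obtain ⟨t, ht, b, hb, hvtb⟩ := exists_sylow_mul_pResidual T v
    have hbX : (b : G) ∈ X := hres hb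
    have htT : (t : G) ∈ TG := ⟨t, ht, rfl⟩
    have e : (v : G) = (t : G) * (b : G) := by rw [hvtb]; rfl
    rw [e, ← map_conj_map_conj, map_conj_eq_of_mem_normalizer (hXB hbX)]
    exact map_conj_le_of_mem hBT htT
  set N : Subgroup G := conjClosure V B with hN
  have hNT : N ≤ TG := by
    rw [hN]
    unfold conjClosure
    exact iSup_le hconj
  have hNp : IsPGroup p ↥N := hTGp.to_le hNT
  have hYN : Y ≤ N := le_sup_left.trans (le_conjClosure V B)
  have h1 : Y ≤ pCoreOf p V :=
    hYN.trans (le_pCoreOf (conjClosure_le hBV le_rfl) (le_normalizer_conjClosure V B) hNp)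
  refine h1.trans ?_
  exact le_pCoreOf ((pCoreOf_le V).trans hVL) (hLV.trans (normalizer_le_normalizer_pCoreOf V))
    (pCoreOf_isPGroup V)

/-- a parabolic subgroup with nontrivial `O_p` lies in `𝓛_G` when `G` has a large `p`-subgroup. -/
theorem mem_charPSubgroups_of_large [Finite G] [Fact p.Prime] {Q : Subgroup G}
    (hQp : IsPGroup p ↥Q) (hL : IsLarge Q) {R : Subgroup G} (hR : IsParabolic p R)
    (hP1 : pCoreOf p R ≠ ⊥) : R ∈ charPSubgroups p G := by
  refine ⟨(pCoreOf_ne_bot_iff R).mp hP1, ?_⟩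
  exact large_parabolic_centralizer_le hQp hL hR hP1

/-- every member of `𝓛_G` lies in a maximal one. -/
theorem exists_le_maxCharPSubgroups [Finite G] {R : Subgroup G} (hR : R ∈ charPSubgroups p G) :
    ∃ X ∈ maxCharPSubgroups p G, R ≤ X := by
  obtain ⟨X, hRX, hX⟩ := Finite.exists_le_maximal (p := fun K : Subgroup G => K ∈ charPSubgroups p G)
    (a := R) hR
  refine ⟨X, ⟨hX.prop, ?_⟩, hRX⟩
  intro K hK hXK
  exact le_antisymm (hX.le_of_ge hK hXK) hXK

/-- for `M ∈ 𝔐_G(S)` and `Q` large: `N_G(I) ≤ M†` for every nontrivial normal `p`-subgroup `I`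
of `M`. -/
theorem normalizer_le_dagger [Finite G] [Fact p.Prime] (S : Sylow p G) {Q : Subgroup G}
    (hQp : IsPGroup p ↥Q) (hQ : IsLarge Q) {M : Subgroup G}
    (hSM : (S : Subgroup G) ≤ M) (hM : IsInFrakM p M) {I : Subgroup G} (hI1 : I ≠ ⊥)
    (hIp : IsPGroup p ↥I) (hMI : M ≤ Subgroup.normalizer (I : Set G)) :
    Subgroup.normalizer (I : Set G) ≤
      M ⊔ Subgroup.centralizer ((largestPReducedOf p M : Subgroup G) : Set G) := by
  set N : Subgroup G := Subgroup.normalizer (I : Set G) with hN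
  have hpar : IsParabolic p N := ⟨S, hSM.trans hMI⟩
  have hIN : I ≤ pCoreOf p N := le_pCoreOf Subgroup.le_normalizer le_rfl hIp
  have hP1 : pCoreOf p N ≠ ⊥ := by
    intro hb; apply hI1; rw [eq_bot_iff, ← hb]; exact hIN
  obtain ⟨X, hX, hNX⟩ := exists_le_maxCharPSubgroups (mem_charPSubgroups_of_large hQp hQ hpar hP1)
  have := hM.2.2.1 X hX (hMI.trans hNX)
  rw [← this]; exact hNX

end FrakM2

end Cfsg.Agent.Lib.Helper16
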