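import Mathlib
import Cfsg.Prelude.Def_LocalStructure
import Cfsg.Prelude.Def_Amalgam
import Cfsg.Prelude.Def_Solvable
import Cfsg.Prelude.Def_Transfer
import Cfsg.Agent.Lib.Helper16.FrakM2
import Cfsg.Agent.Lib.Helper16.FrakM
import Cfsg.Agent.Lib.Helper16.YL2
import Cfsg.Agent.Lib.Helper16.ZL
import Cfsg.Agent.Lib.Helper16.PReduced3
import Cfsg.Agent.Lib.Helper12.Basic
import Cfsg.Agent.Lib.Helper8.SupNormalizer
import Cfsg.Agent.Lib.Helper4.Basic
import Cfsg.Agent.Lib.Helper16.Frattini2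

/-! Existence of members of `frakM` above a Sylow `p`-subgroup (helper16). -/

set_option autoImplicit false
open Cfsg
open scoped Pointwise commutatorElement

namespace Cfsg.Agent.Lib.Helper16

-- FE START
section FrakMExists

variable {G : Type*} [Group G] {p : ℕ}

/-- hypothesis (PC): parabolic subgroups with nontrivial `O_p` satisfy `C_G(O_p(X)) ≤ O_p(X)`. -/
def ParabolicCharP (p : ℕ) (G : Type*) [Group G] : Prop :=
  ∀ X : Subgroup G, IsParabolic p X → pCoreOf p X ≠ ⊥ →
    Subgroup.centralizer ((pCoreOf p X : Subgroup G) : Set G) ≤ pCoreOf p X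

theorem mem_charPSubgroups_of_PC (hPC : ParabolicCharP p G) {X : Subgroup G}
    (hX : IsParabolic p X) (h1 : pCoreOf p X ≠ ⊥) : X ∈ charPSubgroups p G :=
  ⟨(pCoreOf_ne_bot_iff X).mp h1, hPC X hX h1⟩

theorem pCoreOf_ne_bot_of_mem {X : Subgroup G} (hX : X ∈ charPSubgroups p G) :
    pCoreOf p X ≠ ⊥ := (pCoreOf_ne_bot_iff X).mpr hX.1

/-- `Y_X ≠ 1` for `X` of characteristic `p` containing a nontrivial Sylow subgroup. -/
theorem largestPReducedOf_ne_bot [Finite G] [Fact p.Prime] (S : Sylow p G) {X : Subgroup G}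
    (hSX : (S : Subgroup G) ≤ X)
    (hX : Subgroup.centralizer (pCore p ↥X : Set ↥X) ≤ pCore p ↥X) (hS1 : (S : Subgroup G) ≠ ⊥) :
    largestPReducedOf p X ≠ ⊥ := by
  obtain ⟨x, hxS, hxo, hxc⟩ := exists_orderOf_eq_prime_central S.isPGroup' (le_refl (S : Subgroup G))
    Subgroup.le_normalizer hS1
  have hchain := yl_chain S X hSX hX _ rfl
  have h1 : x ∈ omegaOne p ((S : Subgroup G) ⊓
      Subgroup.centralizer (((S : Subgroup G) : Subgroup G) : Set G)) := by
    apply Subgroup.subset_closure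
    refine ⟨⟨hxS, ?_⟩, ?_⟩
    · show x ∈ Subgroup.centralizer ((S : Subgroup G) : Set G)
      rw [Subgroup.mem_centralizer_iff]
      intro s hs; exact hxc s hs
    · rw [← hxo]; exact pow_orderOf_eq_one x
  have h2 : x ∈ largestPReducedOf p X := hchain.2.2.2.2.1 (hchain.2.2.2.1 h1)
  intro hb
  rw [hb, Subgroup.mem_bot] at h2
  rw [h2, orderOf_one] at hxo
  exact (Fact.out : p.Prime).one_lt.ne hxo

theorem sylow_ne_bot_of_le [Finite G] [Fact p.Prime] (S : Sylow p G) {X : Subgroup G}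
    (hSX : (S : Subgroup G) ≤ X) (h1 : pCoreOf p X ≠ ⊥) : (S : Subgroup G) ≠ ⊥ := by
  intro hb
  apply h1
  rw [eq_bot_iff, ← hb]
  exact pCoreOf_le_sylow S hSX

/-- ambient `p`-reducedness passes to the subtype of an overgroup. -/
theorem APR_subgroupOf [Finite G] [Fact p.Prime] {L R V : Subgroup G} (hRL : R ≤ L) (hVR : V ≤ R)
    (h : APR p R V) : APR p (R.subgroupOf L) (V.subgroupOf L) := by
  have hVL : V ≤ L := hVR.trans hRL
  refine ⟨?_, (isElementaryAbelian_subgroupOf hVL).mpr h.2.1, ?_⟩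
  · intro x hx
    rw [Subgroup.mem_subgroupOf] at hx
    rw [Subgroup.mem_normalizer_iff]
    intro y
    rw [Subgroup.mem_subgroupOf, Subgroup.mem_subgroupOf]
    have := Subgroup.mem_normalizer_iff.mp (h.1 hx) (y : G)
    simpa using this
  · intro D hDK hKD hDp
    set D' : Subgroup G := D.map L.subtype with hD'
    have h1 : D' ≤ R := by
      rintro _ ⟨d, hd, rfl⟩
      have := hDK hd
      rwa [Subgroup.mem_subgroupOf] at this
    have h2 : R ≤ Subgroup.normalizer (D' : Set G) := by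
      intro r hr
      apply mem_normalizer_of_map_conj_le
      rintro _ ⟨_, ⟨d, hd, rfl⟩, rfl⟩
      have hr' : (⟨r, hRL hr⟩ : ↥L) ∈ R.subgroupOf L := by
        rw [Subgroup.mem_subgroupOf]; exact hr
      have h3 := (Subgroup.mem_normalizer_iff.mp (hKD hr') d).mp hd
      exact ⟨_, h3, by simp⟩
    have h3 : ∀ d ∈ D', ∃ k : ℕ, d ^ (p ^ k) ∈ Subgroup.centralizer (V : Set G) := by
      rintro _ ⟨d, hd, rfl⟩
      obtain ⟨k, hk⟩ := hDp d hd
      refine ⟨k, ?_⟩
      rw [mem_centralizer_subgroupOf hVL] at hk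
      simpa using hk
    have h4 := h.2.2 D' h1 h2 h3
    intro d hd
    rw [mem_centralizer_subgroupOf hVL]
    exact h4 ⟨d, hd, rfl⟩

/-- ambient form of S2802: `Y_R ≤ Y_L` for `T ≤ R ≤ L` of characteristic `p`. -/
theorem largestPReducedOf_mono [Finite G] [Fact p.Prime] (T : Sylow p G) {R L : Subgroup G}
    (hTR : (T : Subgroup G) ≤ R) (hRL : R ≤ L)
    (hR : Subgroup.centralizer (pCore p ↥R : Set ↥R) ≤ pCore p ↥R)
    (hL : Subgroup.centralizer (pCore p ↥L : Set ↥L) ≤ pCore p ↥L) :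
    largestPReducedOf p R ≤ largestPReducedOf p L := by
  obtain ⟨hVR, hAPR, -, -, -⟩ := largestPReducedOf_spec (p := p) R hR
  set V : Subgroup G := largestPReducedOf p R with hV
  have hVL : V ≤ L := hVR.trans hRL
  set R' : Subgroup ↥L := R.subgroupOf L with hR'
  set V' : Subgroup ↥L := V.subgroupOf L with hV'
  have hV'R' : V' ≤ R' := Subgroup.subgroupOf_mono L hVR
  have h1 : APR p R' V' := APR_subgroupOf hRL hVR hAPR
  have h2 : IsPReducedNormal p (V'.subgroupOf R') :=
    (isPReducedNormal_subgroupOf_iff (G := ↥L) hV'R').mpr h1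
  set T' : Sylow p ↥L := T.subtype (hTR.trans hRL) with hT'
  have hT'R' : (T' : Subgroup ↥L) ≤ R' := by
    rw [hT', Sylow.coe_subtype]
    exact Subgroup.subgroupOf_mono L hTR
  have h3 := normalClosure_pReduced (G := ↥L) hL T' R' hT'R' (V'.subgroupOf R') h2
  rw [Subgroup.map_subgroupOf_eq_of_le hV'R'] at h3
  have h4 : Subgroup.normalClosure ((V' : Subgroup ↥L) : Set ↥L) ≤ largestPReduced p ↥L :=
    le_sSup h3
  calc V = V'.map L.subtype := (Subgroup.map_subgroupOf_eq_of_le hVL).symm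
    _ ≤ (Subgroup.normalClosure ((V' : Subgroup ↥L) : Set ↥L)).map L.subtype :=
        Subgroup.map_mono Subgroup.le_normalClosure
    _ ≤ (largestPReduced p ↥L).map L.subtype := Subgroup.map_mono h4

/-- for a maximal member `X` of `𝓛_G` containing `S`: `N_G(Y_X) = X`. -/
theorem normalizer_largestPReducedOf_eq [Finite G] [Fact p.Prime] (hPC : ParabolicCharP p G)
    (S : Sylow p G) {X : Subgroup G} (hSX : (S : Subgroup G) ≤ X)
    (hX : X ∈ maxCharPSubgroups p G) :
    Subgroup.normalizer ((largestPReducedOf p X : Subgroup G) : Set G) = X := by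
  have hXc := charP_of_mem_charPSubgroups hX.1
  obtain ⟨hYX, hAPR, -, hYO, -⟩ := largestPReducedOf_spec (p := p) X hXc
  have hS1 := sylow_ne_bot_of_le S hSX (pCoreOf_ne_bot_of_mem hX.1)
  have hY1 := largestPReducedOf_ne_bot S hSX hXc hS1
  set Y := largestPReducedOf p X with hY
  set N := Subgroup.normalizer (Y : Set G) with hN
  have hXN : X ≤ N := hAPR.1
  have hYp : IsPGroup p ↥Y := (pCoreOf_isPGroup X).to_le hYO
  have hYN : Y ≤ pCoreOf p N := le_pCoreOf Subgroup.le_normalizer le_rfl hYp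
  have hN1 : pCoreOf p N ≠ ⊥ := by
    intro hb; apply hY1; rw [eq_bot_iff, ← hb]; exact hYN
  have hNL : N ∈ charPSubgroups p G := mem_charPSubgroups_of_PC hPC ⟨S, hSX.trans hXN⟩ hN1
  exact hX.2 N hNL hXN

/-- construction of `L*` inside `M`. -/
theorem exists_Lstar [Finite G] [Fact p.Prime] (hPC : ParabolicCharP p G)
    (S : Sylow p G) {X M L' : Subgroup G} (hX : X ∈ maxCharPSubgroups p G)
    (hSM : (S : Subgroup G) ≤ M) (hMX : M ≤ X)
    (hMfac : M ⊔ Subgroup.centralizer ((largestPReducedOf p X : Subgroup G) : Set G) = X)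
    (hML : M ∈ charPSubgroups p G)
    (hSL' : (S : Subgroup G) ≤ L') (hL'X : L' ≤ X) (hL' : L' ∈ charPSubgroups p G) :
    ∃ Ls : Subgroup G, (S : Subgroup G) ≤ Ls ∧ Ls ≤ M ∧ Ls ∈ charPSubgroups p G ∧
      largestPReducedOf p Ls = largestPReducedOf p L' ∧
      L' ⊔ Subgroup.centralizer ((largestPReducedOf p L' : Subgroup G) : Set G) =
        Ls ⊔ Subgroup.centralizer ((largestPReducedOf p L' : Subgroup G) : Set G) := by
  have hSX : (S : Subgroup G) ≤ X := hSM.trans hMX
  have hXc := charP_of_mem_charPSubgroups hX.1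
  have hL'c := charP_of_mem_charPSubgroups hL'
  have hMc := charP_of_mem_charPSubgroups hML
  obtain ⟨hYXX, hAPRX, -, -, -⟩ := largestPReducedOf_spec (p := p) X hXc
  obtain ⟨hYL'L', hAPRL', -, hYL'O, -⟩ := largestPReducedOf_spec (p := p) L' hL'c
  set YX := largestPReducedOf p X with hYX
  set CX := Subgroup.centralizer (YX : Set G) with hCX
  set YL := largestPReducedOf p L' with hYL
  set CL := Subgroup.centralizer (YL : Set G) with hCL
  have hmono : YL ≤ YX := largestPReducedOf_mono S hSL' hL'X hL'c hXc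
  have hCXCL : CX ≤ CL := Subgroup.centralizer_le hmono
  have hXCX : X ≤ Subgroup.normalizer (CX : Set G) :=
    hAPRX.1.trans (normalizer_le_normalizer_centralizer YX)
  have hL'CL : L' ≤ Subgroup.normalizer (CL : Set G) :=
    hAPRL'.1.trans (normalizer_le_normalizer_centralizer YL)
  set M' : Subgroup G := M ⊓ (L' ⊔ CX) with hM'
  have hSM' : (S : Subgroup G) ≤ M' := le_inf hSM (hSL'.trans le_sup_left)
  have hM'M : M' ≤ M := inf_le_left
  -- `M'` lies in `𝓛`
  have hM'L : M' ∈ charPSubgroups p G := by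
    apply mem_charPSubgroups_of_PC hPC ⟨S, hSM'⟩
    have h1 : pCoreOf p M ≤ pCoreOf p M' :=
      le_pCoreOf ((pCoreOf_le_sylow S hSM).trans hSM')
        (hM'M.trans (le_normalizer_pCoreOf M)) (pCoreOf_isPGroup M)
    intro hb
    apply pCoreOf_ne_bot_of_mem hML
    rw [eq_bot_iff, ← hb]; exact h1
  have hM'c := charP_of_mem_charPSubgroups hM'L
  -- factorization
  have hfac : M' ⊔ CL = L' ⊔ CL := by
    apply le_antisymm
    · apply sup_le _ le_sup_right
      exact inf_le_right.trans (sup_le le_sup_left (hCXCL.trans le_sup_right))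
    · apply sup_le _ le_sup_right
      intro l hl
      have hlX : l ∈ CX ⊔ M := by
        rw [sup_comm, hMfac]; exact hL'X hl
      obtain ⟨c, hc, m, hm, rfl⟩ :=
        Cfsg.Agent.Lib.Helper8.mem_sup_of_le_normalizer (hMX.trans hXCX) hlX
      have hmM' : m ∈ M' := by
        refine ⟨hm, ?_⟩
        have e : m = c⁻¹ * (c * m) := by group
        rw [e]
        exact Subgroup.mul_mem _ (Subgroup.mem_sup_right (CX.inv_mem hc)) (Subgroup.mem_sup_left hl)
      exact Subgroup.mul_mem _ (Subgroup.mem_sup_right (hCXCL hc)) (Subgroup.mem_sup_left hmM')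
  obtain ⟨h1, h2⟩ := largestPReducedOf_inf_normalizer S L' M' hSL' hSM' hL'c hM'c hfac
  set T₀ : Subgroup G := (S : Subgroup G) ⊓ CL with hT₀
  set Ls : Subgroup G := M' ⊓ Subgroup.normalizer (T₀ : Set G) with hLs
  have hSLs : (S : Subgroup G) ≤ Ls :=
    le_inf hSM' (inf_le_normalizer_inf Subgroup.le_normalizer (hSL'.trans hL'CL))
  refine ⟨Ls, hSLs, inf_le_left.trans hM'M, ?_, h1, h2⟩
  apply mem_charPSubgroups_of_PC hPC ⟨S, hSLs⟩
  have hT₀p : IsPGroup p ↥T₀ := S.isPGroup'.to_le inf_le_left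
  have hT₀Ls : T₀ ≤ pCoreOf p Ls :=
    le_pCoreOf (inf_le_left.trans hSLs) inf_le_right hT₀p
  have hS1 := sylow_ne_bot_of_le S hSL' (pCoreOf_ne_bot_of_mem hL')
  have hY1 := largestPReducedOf_ne_bot S hSL' hL'c hS1
  have hYT₀ : YL ≤ T₀ := by
    refine le_inf (hYL'O.trans (pCoreOf_le_sylow S hSL')) ?_
    intro y hy
    rw [Subgroup.mem_centralizer_iff]
    intro z hz
    exact congrArg Subtype.val (hAPRL'.2.1.1.is_comm.comm ⟨z, hz⟩ ⟨y, hy⟩)
  intro hb
  apply hY1
  rw [eq_bot_iff, ← hb]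
  exact hYT₀.trans hT₀Ls

/-- the family of supplements to `C_G(Y_X)` in `X` containing `S`. -/
def suppFam (p : ℕ) (S : Subgroup G) (X : Subgroup G) : Set (Subgroup G) :=
  {K | S ≤ K ∧ K ≤ X ∧
    K ⊔ Subgroup.centralizer ((largestPReducedOf p X : Subgroup G) : Set G) = X}

/-- basic properties of members of `suppFam`. -/
theorem suppFam_basic [Finite G] [Fact p.Prime] (hPC : ParabolicCharP p G)
    (S : Sylow p G) {X M : Subgroup G} (hX : X ∈ maxCharPSubgroups p G)
    (hM : M ∈ suppFam p (S : Subgroup G) X) :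
    M ∈ charPSubgroups p G ∧ largestPReducedOf p M = largestPReducedOf p X ∧
      M ⊔ Subgroup.centralizer ((largestPReducedOf p M : Subgroup G) : Set G) = X := by
  obtain ⟨hSM, hMX, hfac⟩ := hM
  have hSX : (S : Subgroup G) ≤ X := hSM.trans hMX
  have hXc := charP_of_mem_charPSubgroups hX.1
  have hML : M ∈ charPSubgroups p G := by
    apply mem_charPSubgroups_of_PC hPC ⟨S, hSM⟩
    have h1 : pCoreOf p X ≤ pCoreOf p M :=
      le_pCoreOf ((pCoreOf_le_sylow S hSX).trans hSM)
        (hMX.trans (le_normalizer_pCoreOf X)) (pCoreOf_isPGroup X)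
    intro hb
    apply pCoreOf_ne_bot_of_mem hX.1
    rw [eq_bot_iff, ← hb]; exact h1
  have hMc := charP_of_mem_charPSubgroups hML
  have h1 : largestPReducedOf p M ≤ largestPReducedOf p X :=
    largestPReducedOf_mono S hSM hMX hMc hXc
  have hCX : Subgroup.centralizer ((largestPReducedOf p X : Subgroup G) : Set G) ≤ X :=
    le_sup_right.trans (le_of_eq hfac)
  have h2 : largestPReducedOf p X ≤ largestPReducedOf p M := by
    apply largestPReduced_le_of_sup_eq S M X hSM hSX hMc hXc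
    exact hfac.trans (sup_eq_left.mpr hCX).symm
  have h3 := le_antisymm h1 h2
  exact ⟨hML, h3, by rw [h3]; exact hfac⟩

/-- a minimal member of `suppFam` normalizes `C_S(Y_X)`. -/
theorem suppFam_minimal_normalizes [Finite G] [Fact p.Prime]
    (S : Sylow p G) {X M : Subgroup G} (hX : X ∈ maxCharPSubgroups p G)
    (hM : M ∈ suppFam p (S : Subgroup G) X)
    (hmin : ∀ K ∈ suppFam p (S : Subgroup G) X, K ≤ M → M ≤ K) :
    M ≤ Subgroup.normalizer ((((S : Subgroup G) ⊓
      Subgroup.centralizer ((largestPReducedOf p X : Subgroup G) : Set G) : Subgroup G)) : Set G) := by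
  obtain ⟨hSM, hMX, hfac⟩ := hM
  have hXc := charP_of_mem_charPSubgroups hX.1
  obtain ⟨hYXX, hAPRX, -, -, -⟩ := largestPReducedOf_spec (p := p) X hXc
  set Y := largestPReducedOf p X with hY
  set C := Subgroup.centralizer (Y : Set G) with hC
  have hXC : X ≤ Subgroup.normalizer (C : Set G) :=
    hAPRX.1.trans (normalizer_le_normalizer_centralizer Y)
  have hMC : M ≤ Subgroup.normalizer (C : Set G) := hMX.trans hXC
  have hCX : C ≤ X := le_sup_right.trans (le_of_eq hfac)
  have hfr := frattini_ambient S M C hSM hMC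
  set K : Subgroup G := M ⊓ Subgroup.normalizer ((((S : Subgroup G) ⊓ C : Subgroup G)) : Set G)
    with hK
  have hKmem : K ∈ suppFam p (S : Subgroup G) X := by
    refine ⟨le_inf hSM (inf_le_normalizer_inf Subgroup.le_normalizer (hSM.trans hMC)),
      inf_le_left.trans hMX, ?_⟩
    apply le_antisymm (sup_le (inf_le_left.trans hMX) hCX)
    calc X = M ⊔ C := hfac.symm
      _ ≤ K ⊔ C := by
        apply sup_le _ le_sup_right
        intro m hm
        obtain ⟨a, ha, c, hc, rfl⟩ := hfr m hm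
        exact Subgroup.mul_mem _ (Subgroup.mem_sup_left ha) (Subgroup.mem_sup_right hc.2)
  exact (hmin K hKmem inf_le_left).trans inf_le_right

/-- a finite group with a normal Sylow `p`-subgroup is `p`-closed. -/
theorem isPClosed_of_normal_sylow {A : Type*} [Group A] [Finite A] [Fact p.Prime] (P : Sylow p A)
    (hP : (P : Subgroup A).Normal) : IsPClosed p A := by
  intro P'
  obtain ⟨g, hg⟩ := MulAction.exists_smul_eq A P P'
  have : g • P = P := Sylow.smul_eq_of_normal
  rw [this] at hg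
  rw [← hg]; exact hP

/-- `C_M(Y)` is `p`-closed if `M ≥ S` normalizes `C_S(Y)` and `C`. -/
theorem isPClosed_inf_of_le_normalizer [Finite G] [Fact p.Prime] (S : Sylow p G) {M C : Subgroup G}
    (hSM : (S : Subgroup G) ≤ M) (hMC : M ≤ Subgroup.normalizer (C : Set G))
    (hMT : M ≤ Subgroup.normalizer ((((S : Subgroup G) ⊓ C : Subgroup G)) : Set G)) :
    IsPClosed p ↥(M ⊓ C) := by
  have hSN : (S : Subgroup G) ≤ Subgroup.normalizer ((M ⊓ C : Subgroup G) : Set G) :=
    inf_le_normalizer_inf (hSM.trans Subgroup.le_normalizer) (hSM.trans hMC)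
  obtain ⟨P, hP⟩ := exists_sylow_of_le_normalizer_inf S (M ⊓ C) hSN
  have e : (S : Subgroup G) ⊓ (M ⊓ C) = (S : Subgroup G) ⊓ C := by
    rw [← inf_assoc, inf_eq_left.mpr hSM]
  rw [e] at hP
  apply isPClosed_of_normal_sylow P
  have h1 : (P : Subgroup ↥(M ⊓ C)) = ((S : Subgroup G) ⊓ C).subgroupOf (M ⊓ C) := by
    rw [← hP]
    exact (Subgroup.comap_map_eq_self_of_injective (M ⊓ C).subtype_injective _).symm
  rw [h1]
  apply (Subgroup.normal_subgroupOf_iff_le_normalizer (inf_le_inf_right C hSM)).mpr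
  exact inf_le_left.trans hMT

/-- a maximal subgroup `K` of a minimal member `M` of `suppFam` with `C_S(Y) ≤ K` contains
`C_M(Y)`. -/
theorem suppFam_minimal_le_coatom [Finite G] [Fact p.Prime]
    (S : Sylow p G) {X M : Subgroup G} (hX : X ∈ maxCharPSubgroups p G)
    (hM : M ∈ suppFam p (S : Subgroup G) X)
    (hmin : ∀ K ∈ suppFam p (S : Subgroup G) X, K ≤ M → M ≤ K)
    (K : Subgroup G) (hKM : K ≤ M) (hne : K ≠ M)
    (hmax : ∀ J : Subgroup G, K ≤ J → J ≤ M → J = K ∨ J = M)
    (hTK : (S : Subgroup G) ⊓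
      Subgroup.centralizer ((largestPReducedOf p X : Subgroup G) : Set G) ≤ K) :
    M ⊓ Subgroup.centralizer ((largestPReducedOf p X : Subgroup G) : Set G) ≤ K := by
  have hp : p.Prime := Fact.out
  obtain ⟨hSM, hMX, hfac⟩ := hM
  have hXc := charP_of_mem_charPSubgroups hX.1
  obtain ⟨hYXX, hAPRX, -, -, -⟩ := largestPReducedOf_spec (p := p) X hXc
  set Y := largestPReducedOf p X with hY
  set C := Subgroup.centralizer (Y : Set G) with hC
  have hXC : X ≤ Subgroup.normalizer (C : Set G) :=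
    hAPRX.1.trans (normalizer_le_normalizer_centralizer Y)
  have hMC : M ≤ Subgroup.normalizer (C : Set G) := hMX.trans hXC
  have hCX : C ≤ X := le_sup_right.trans (le_of_eq hfac)
  set N₀ : Subgroup G := M ⊓ C with hN₀
  set T₀ : Subgroup G := (S : Subgroup G) ⊓ C with hT₀
  have hMN₀ : M ≤ Subgroup.normalizer (N₀ : Set G) :=
    inf_le_normalizer_inf Subgroup.le_normalizer hMC
  by_contra hnot
  -- `K ⊔ N₀ = M`
  have hsup : K ⊔ N₀ = M := by
    rcases hmax (K ⊔ N₀) le_sup_left (sup_le hKM inf_le_left) with h | h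
    · exfalso; apply hnot; rw [← h]; exact le_sup_right
    · exact h
  -- `p ∤ |M : K|`
  have hT₀N₀ : T₀ ≤ N₀ := inf_le_inf_right C hSM
  have hSN : (S : Subgroup G) ≤ Subgroup.normalizer (N₀ : Set G) := hSM.trans hMN₀
  obtain ⟨P, hP⟩ := exists_sylow_of_le_normalizer_inf S N₀ hSN
  have e : (S : Subgroup G) ⊓ N₀ = T₀ := by
    rw [hN₀, ← inf_assoc, inf_eq_left.mpr hSM]
  rw [e] at hP
  have hTidx : ¬ p ∣ T₀.relIndex N₀ := by
    have h1 : T₀.subgroupOf N₀ = (P : Subgroup ↥N₀) := by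
      rw [← hP]
      exact Subgroup.comap_map_eq_self_of_injective N₀.subtype_injective _
    show ¬ p ∣ (T₀.subgroupOf N₀).index
    rw [h1]; exact P.not_dvd_index
  have hKidx : ¬ p ∣ K.relIndex M := by
    intro hdvd
    have h1 := Cfsg.Agent.Lib.Helper4.card_sup_mul_card_inf K N₀ (hKM.trans hMN₀)
    rw [hsup] at h1
    have h2 := Cfsg.Agent.Lib.Helper4.card_mul_relIndex hKM
    have h3 := Cfsg.Agent.Lib.Helper4.card_mul_relIndex hT₀N₀
    have h4 : Nat.card ↥T₀ ∣ Nat.card ↥(K ⊓ N₀ : Subgroup G) :=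
      Subgroup.card_dvd_of_le (le_inf hTK hT₀N₀)
    obtain ⟨a, ha⟩ := h4
    obtain ⟨b, hb⟩ := hdvd
    have hKpos : 0 < Nat.card ↥K := Nat.card_pos
    have hTpos : 0 < Nat.card ↥T₀ := Nat.card_pos
    -- card K * relIndex * card (K ⊓ N₀) = card K * card N₀
    have h5 : K.relIndex M * Nat.card ↥(K ⊓ N₀ : Subgroup G) = Nat.card ↥N₀ := by
      have : Nat.card ↥K * (K.relIndex M * Nat.card ↥(K ⊓ N₀ : Subgroup G)) =
          Nat.card ↥K * Nat.card ↥N₀ := by
        rw [← mul_assoc, h2, h1]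
      exact Nat.eq_of_mul_eq_mul_left hKpos this
    have h6 : Nat.card ↥T₀ * (p * (b * a)) = Nat.card ↥T₀ * T₀.relIndex N₀ := by
      rw [h3, ← h5, hb, ha]; ring
    have h7 := Nat.eq_of_mul_eq_mul_left hTpos h6
    exact hTidx ⟨b * a, h7.symm⟩
  -- conjugate `S` into `K`
  obtain ⟨R'⟩ : Nonempty (Sylow p ↥K) := inferInstance
  set R : Subgroup G := (R' : Subgroup ↥K).map K.subtype with hR
  have hRK : R ≤ K := Subgroup.map_subtype_le _
  have hRp : IsPGroup p ↥R := R'.isPGroup'.map _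
  have hRidx : ¬ p ∣ R.relIndex M := by
    rw [← Subgroup.relIndex_mul_relIndex R K M hRK hKM]
    have h1 : R.relIndex K = (R' : Subgroup ↥K).index := by
      have h0 : R.subgroupOf K = (R' : Subgroup ↥K) :=
        Subgroup.comap_map_eq_self_of_injective K.subtype_injective _
      show (R.subgroupOf K).index = _
      rw [h0]
    rw [h1]
    exact Nat.Prime.not_dvd_mul hp R'.not_dvd_index hKidx
  obtain ⟨h, hhM, hh⟩ := Cfsg.Agent.Lib.Helper12.exists_conj_mem_of_relIndex R M (S : Subgroup G)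
    hRp hRidx hSM S.isPGroup'
  set K₁ : Subgroup G := K.map (MulAut.conj h⁻¹).toMonoidHom with hK₁
  have hSK₁ : (S : Subgroup G) ≤ K₁ := by
    intro s hs
    rw [hK₁, mem_map_conj_iff]
    simpa using hRK (hh s hs)
  have hK₁M : K₁ ≤ M := map_conj_le_of_mem hKM (M.inv_mem hhM)
  have hN₀h : N₀.map (MulAut.conj h⁻¹).toMonoidHom = N₀ :=
    map_conj_eq_of_mem_normalizer (hMN₀ (M.inv_mem hhM))
  have hK₁sup : K₁ ⊔ N₀ = M := by
    have := congrArg (Subgroup.map (MulAut.conj h⁻¹).toMonoidHom) hsup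
    rw [Subgroup.map_sup, hN₀h, map_conj_eq_self_of_mem (M.inv_mem hhM)] at this
    exact this
  have hK₁mem : K₁ ∈ suppFam p (S : Subgroup G) X := by
    refine ⟨hSK₁, hK₁M.trans hMX, ?_⟩
    apply le_antisymm (sup_le (hK₁M.trans hMX) hCX)
    calc X = M ⊔ C := hfac.symm
      _ ≤ K₁ ⊔ C := by
        apply sup_le _ le_sup_right
        rw [← hK₁sup]
        exact sup_le le_sup_left (inf_le_right.trans le_sup_right)
  have hMK₁ : M ≤ K₁ := hmin K₁ hK₁mem hK₁M
  apply hne
  have hcard : Nat.card ↥M ≤ Nat.card ↥K := by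
    have := Subgroup.card_le_of_le hMK₁
    rwa [hK₁, card_map_conj] at this
  exact Subgroup.eq_of_le_of_card_ge hKM hcard

/-- the Frattini condition for a minimal member of `suppFam`. -/
theorem suppFam_minimal_frattini [Finite G] [Fact p.Prime]
    (S : Sylow p G) {X M : Subgroup G} (hX : X ∈ maxCharPSubgroups p G)
    (hM : M ∈ suppFam p (S : Subgroup G) X)
    (hmin : ∀ K ∈ suppFam p (S : Subgroup G) X, K ≤ M → M ≤ K) :
    ((M ⊓ Subgroup.centralizer ((largestPReducedOf p X : Subgroup G) : Set G)).subgroupOf M).map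
      (QuotientGroup.mk' (pCore p ↥M)) ≤ frattini (↥M ⧸ pCore p ↥M) := by
  have hnorm := suppFam_minimal_normalizes S hX hM hmin
  have hSM : (S : Subgroup G) ≤ M := hM.1
  set C := Subgroup.centralizer ((largestPReducedOf p X : Subgroup G) : Set G) with hC
  set T₀ : Subgroup G := (S : Subgroup G) ⊓ C with hT₀
  have hT₀O : T₀ ≤ pCoreOf p M :=
    le_pCoreOf (inf_le_left.trans hSM) hnorm (S.isPGroup'.to_le inf_le_left)
  set π := QuotientGroup.mk' (pCore p ↥M) with hπ
  have hπs : Function.Surjective π := QuotientGroup.mk'_surjective _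
  rw [le_frattini_iff]
  intro Kb hKb
  rw [Subgroup.map_le_iff_le_comap]
  set K' : Subgroup ↥M := Kb.comap π with hK'
  have hker : pCore p ↥M ≤ K' := by
    intro x hx
    rw [hK', Subgroup.mem_comap]
    have : π x = 1 := (QuotientGroup.eq_one_iff x).mpr hx
    rw [this]; exact Kb.one_mem
  set K : Subgroup G := K'.map M.subtype with hK
  have hKM : K ≤ M := Subgroup.map_subtype_le _
  have hKsub : K.subgroupOf M = K' :=
    Subgroup.comap_map_eq_self_of_injective M.subtype_injective K'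
  have hmapK' : K'.map π = Kb := Subgroup.map_comap_eq_self_of_surjective hπs Kb
  have hne : K ≠ M := by
    intro h
    have h1 : K' = ⊤ := by
      rw [← hKsub, h]; exact Subgroup.subgroupOf_self M
    apply hKb.1
    rw [← hmapK', h1]
    exact Subgroup.map_top_of_surjective π hπs
  have hmax : ∀ J : Subgroup G, K ≤ J → J ≤ M → J = K ∨ J = M := by
    intro J hKJ hJM
    have hK'J : K' ≤ J.subgroupOf M := by
      rw [← hKsub]; exact Subgroup.subgroupOf_mono M hKJ
    have h1 : Kb ≤ (J.subgroupOf M).map π := by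
      rw [← hmapK']; exact Subgroup.map_mono hK'J
    rcases eq_or_lt_of_le h1 with h2 | h2
    · left
      apply le_antisymm _ hKJ
      have h3 : J.subgroupOf M ≤ K' := by
        rw [hK', h2]; exact Subgroup.le_comap_map π _
      have := Subgroup.map_mono (f := M.subtype) h3
      rwa [Subgroup.map_subgroupOf_eq_of_le hJM] at this
    · right
      have h3 := hKb.2 _ h2
      have h4 : J.subgroupOf M = ⊤ := by
        have h5 := congrArg (Subgroup.comap π) h3
        rw [Subgroup.comap_map_eq, QuotientGroup.ker_mk', Subgroup.comap_top] at h5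
        rw [← h5]
        exact (sup_eq_left.mpr (hker.trans hK'J)).symm
      apply le_antisymm hJM
      intro m hm
      have : (⟨m, hm⟩ : ↥M) ∈ J.subgroupOf M := by rw [h4]; exact Subgroup.mem_top _
      rwa [Subgroup.mem_subgroupOf] at this
  have hTK : T₀ ≤ K := by
    refine hT₀O.trans ?_
    unfold pCoreOf
    exact Subgroup.map_mono hker
  have h1 := suppFam_minimal_le_coatom S hX hM hmin K hKM hne hmax hTK
  intro x hx
  rw [Subgroup.mem_subgroupOf] at hx
  obtain ⟨y, hy, hyx⟩ := h1 hx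
  have : y = x := Subtype.ext hyx
  rw [← this]; exact hy

/-- **Existence of `M ∈ 𝔐_G(S)`** above (a twist of) a given `L ∈ 𝓛_G(S)`, under (PC). -/
theorem exists_frakM [Finite G] [Fact p.Prime] (hPC : ParabolicCharP p G) (S : Sylow p G)
    (L : Subgroup G) (hSL : (S : Subgroup G) ≤ L) (hL : L ∈ charPSubgroups p G) :
    ∃ M Ls : Subgroup G, (S : Subgroup G) ≤ M ∧ IsInFrakM p M ∧ (S : Subgroup G) ≤ Ls ∧ Ls ≤ M ∧
      Ls ∈ charPSubgroups p G ∧ largestPReducedOf p L = largestPReducedOf p Ls ∧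
      largestPReducedOf p L ≤ largestPReducedOf p M ∧
      L ⊔ Subgroup.centralizer ((largestPReducedOf p L : Subgroup G) : Set G) =
        Ls ⊔ Subgroup.centralizer ((largestPReducedOf p L : Subgroup G) : Set G) := by
  set YL := largestPReducedOf p L with hYL
  set CL := Subgroup.centralizer (YL : Set G) with hCL
  set 𝓕 : Set (Subgroup G) := {X | X ∈ maxCharPSubgroups p G ∧ ∃ L' : Subgroup G,
    (S : Subgroup G) ≤ L' ∧ L' ≤ X ∧ L' ∈ charPSubgroups p G ∧ largestPReducedOf p L' = YL ∧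
      L' ⊔ CL = L ⊔ CL} with h𝓕
  have hne : 𝓕.Nonempty := by
    obtain ⟨X₀, hX₀, hLX₀⟩ := exists_le_maxCharPSubgroups hL
    exact ⟨X₀, hX₀, L, hSL, hLX₀, hL, rfl, rfl⟩
  obtain ⟨X, ⟨hX, L', hSL', hL'X, hL', hYL', hfacL'⟩, hXmax⟩ :=
    Set.exists_max_image 𝓕 (fun X => Nat.card ↥(largestPReducedOf p X)) (Set.toFinite 𝓕) hne
  have hSX : (S : Subgroup G) ≤ X := hSL'.trans hL'X
  have hXc := charP_of_mem_charPSubgroups hX.1
  have hNX := normalizer_largestPReducedOf_eq hPC S hSX hX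
  have hCX : Subgroup.centralizer ((largestPReducedOf p X : Subgroup G) : Set G) ≤ X :=
    (Subgroup.centralizer_le_normalizer _).trans (le_of_eq hNX)
  have hXmem : X ∈ suppFam p (S : Subgroup G) X := ⟨hSX, le_rfl, sup_eq_left.mpr hCX⟩
  obtain ⟨M, -, hMmin⟩ := Finite.exists_le_minimal (p := fun K => K ∈ suppFam p (S : Subgroup G) X)
    (a := X) hXmem
  have hM : M ∈ suppFam p (S : Subgroup G) X := hMmin.prop
  have hmin : ∀ K ∈ suppFam p (S : Subgroup G) X, K ≤ M → M ≤ K := fun K hK hKM =>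
    hMmin.le_of_le hK hKM
  obtain ⟨hML, hYM, hMfac⟩ := suppFam_basic hPC S hX hM
  have hSM : (S : Subgroup G) ≤ M := hM.1
  have hMX : M ≤ X := hM.2.1
  have hMc := charP_of_mem_charPSubgroups hML
  -- `L*`
  obtain ⟨Ls, hSLs, hLsM, hLsL, hYLs, hfacLs⟩ :=
    exists_Lstar hPC S hX hSM hMX hM.2.2 hML hSL' hL'X hL'
  rw [hYL'] at hYLs hfacLs
  have hL'c := charP_of_mem_charPSubgroups hL'
  have hmonoL : YL ≤ largestPReducedOf p M := by
    rw [hYM, ← hYL']
    exact largestPReducedOf_mono S hSL' hL'X hL'c hXc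
  refine ⟨M, Ls, hSM, ?_, hSLs, hLsM, hLsL, hYLs.symm, hmonoL, hfacL'.symm.trans hfacLs⟩
  have hnorm := suppFam_minimal_normalizes S hX hM hmin
  have hfr := suppFam_minimal_frattini S hX hM hmin
  obtain ⟨-, hAPRX, -, -, -⟩ := largestPReducedOf_spec (p := p) X hXc
  have hMC : M ≤ Subgroup.normalizer ((Subgroup.centralizer
      ((largestPReducedOf p X : Subgroup G) : Set G) : Subgroup G) : Set G) :=
    hMX.trans (hAPRX.1.trans (normalizer_le_normalizer_centralizer _))
  have hcl := isPClosed_inf_of_le_normalizer S hSM hMC hnorm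
  refine ⟨hML, ?_, ?_, ?_, ?_, ?_⟩
  · rw [hMfac]; exact hX
  · intro X' hX' hMX'
    rw [hMfac]
    have hX'c := charP_of_mem_charPSubgroups hX'.1
    have hX'mem : X' ∈ 𝓕 :=
      ⟨hX', Ls, hSLs, hLsM.trans hMX', hLsL, hYLs, hfacLs.symm.trans hfacL'⟩
    have h1 := hXmax X' hX'mem
    have h2 : largestPReducedOf p X ≤ largestPReducedOf p X' := by
      rw [← hYM]
      exact largestPReducedOf_mono S hSM hMX' hMc hX'c
    have h3 : largestPReducedOf p X = largestPReducedOf p X' :=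
      Subgroup.eq_of_le_of_card_ge h2 h1
    have hNX' := normalizer_largestPReducedOf_eq hPC S (hSM.trans hMX') hX'
    rw [← h3, hNX] at hNX'
    exact hNX'.symm
  · rw [hMfac, hYM]
  · rw [hYM]; exact hcl
  · rw [hYM]; exact hfr

end FrakMExists

end Cfsg.Agent.Lib.Helper16
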