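import Mathlib
import Cfsg.Prelude.Def_LocalStructure
import Cfsg.Prelude.Def_Amalgam
import Cfsg.Prelude.Def_Solvable
import Cfsg.Prelude.Def_Transfer
import Cfsg.Agent.Lib.Helper16.FrakM2
import Cfsg.Agent.Lib.Helper16.FrakM
import Cfsg.Agent.Lib.Helper16.WeaklyClosed3
import Cfsg.Agent.Lib.Helper16.Asymmetric
import Cfsg.Agent.Lib.Helper8.SupNormalizer
import Cfsg.Agent.Lib.Helper16.FrakMExists
import Cfsg.Agent.Lib.Helper16.LargeChar

/-! `M ∈ 𝔐_G(S)` with `Y_M` asymmetric: `O_p(M)` is weakly closed in `G` (chain argument on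
mutually normalizing conjugates), `M` controls fusion in `Y_M` (helper16). -/

set_option autoImplicit false
open Cfsg
open scoped Pointwise commutatorElement

namespace Cfsg.Agent.Lib.Helper16

-- WCG START
section ConjChain

variable {G : Type*} [Group G] {p : ℕ}

theorem le_map_conj_iff {A B : Subgroup G} (g : G) :
    A ≤ B.map (MulAut.conj g).toMonoidHom ↔ A.map (MulAut.conj g⁻¹).toMonoidHom ≤ B := by
  constructor
  · intro h
    have := Subgroup.map_mono (f := (MulAut.conj g⁻¹).toMonoidHom) h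
    rwa [map_conj_inv_map_conj] at this
  · intro h
    have := Subgroup.map_mono (f := (MulAut.conj g).toMonoidHom) h
    rwa [map_conj_map_conj_inv] at this

/-- adjacency of conjugates: `P^x` and `P^y` normalize each other. -/
def ConjAdj (P : Subgroup G) (x y : G) : Prop :=
  P.map (MulAut.conj x).toMonoidHom ≤
      Subgroup.normalizer ((P.map (MulAut.conj y).toMonoidHom : Subgroup G) : Set G) ∧
    P.map (MulAut.conj y).toMonoidHom ≤
      Subgroup.normalizer ((P.map (MulAut.conj x).toMonoidHom : Subgroup G) : Set G)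

theorem ConjAdj.symm {P : Subgroup G} {x y : G} (h : ConjAdj P x y) : ConjAdj P y x := ⟨h.2, h.1⟩

theorem ConjAdj.mul_left {P : Subgroup G} {x y : G} (h : ConjAdj P x y) (k : G) :
    ConjAdj P (k * x) (k * y) := by
  have ex : P.map (MulAut.conj (k * x)).toMonoidHom =
      (P.map (MulAut.conj x).toMonoidHom).map (MulAut.conj k).toMonoidHom :=
    (map_conj_map_conj P x k).symm
  have ey : P.map (MulAut.conj (k * y)).toMonoidHom =
      (P.map (MulAut.conj y).toMonoidHom).map (MulAut.conj k).toMonoidHom :=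
    (map_conj_map_conj P y k).symm
  unfold ConjAdj
  rw [ex, ey, normalizer_map_conj (P.map (MulAut.conj y).toMonoidHom) k,
    normalizer_map_conj (P.map (MulAut.conj x).toMonoidHom) k]
  exact ⟨Subgroup.map_mono h.1, Subgroup.map_mono h.2⟩

/-- chains of adjacent conjugates of length `n`. -/
def ConjReach (P : Subgroup G) : ℕ → G → G → Prop
  | 0, x, y => x = y
  | n + 1, x, y => ∃ z, ConjReach P n x z ∧ ConjAdj P z y

theorem ConjReach.head {P : Subgroup G} : ∀ {n : ℕ} {x w y : G}, ConjAdj P x w →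
    ConjReach P n w y → ConjReach P (n + 1) x y
  | 0, x, w, y, h, h' => by
    have : w = y := h'
    subst this
    exact ⟨x, rfl, h⟩
  | n + 1, x, w, y, h, h' => by
    obtain ⟨z, hz, hzy⟩ := h'
    exact ⟨z, ConjReach.head h hz, hzy⟩

theorem ConjReach.exists_head {P : Subgroup G} : ∀ {n : ℕ} {x y : G},
    ConjReach P (n + 1) x y → ∃ w, ConjAdj P x w ∧ ConjReach P n w y
  | 0, x, y, h => by
    obtain ⟨z, hz, hzy⟩ := h
    have : x = z := hz
    subst this
    exact ⟨y, hzy, rfl⟩
  | n + 1, x, y, h => by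
    obtain ⟨z, hz, hzy⟩ := h
    obtain ⟨w, hw, hwz⟩ := ConjReach.exists_head hz
    exact ⟨w, hw, z, hwz, hzy⟩

theorem ConjReach.symm {P : Subgroup G} : ∀ {n : ℕ} {x y : G},
    ConjReach P n x y → ConjReach P n y x
  | 0, x, y, h => by
    have : x = y := h
    exact this.symm
  | n + 1, x, y, h => by
    obtain ⟨z, hz, hzy⟩ := h
    exact ConjReach.head hzy.symm (ConjReach.symm hz)

theorem ConjReach.mul_left {P : Subgroup G} (k : G) : ∀ {n : ℕ} {x y : G},
    ConjReach P n x y → ConjReach P n (k * x) (k * y)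
  | 0, x, y, h => by
    have : x = y := h
    show k * x = k * y
    rw [this]
  | n + 1, x, y, h => by
    obtain ⟨z, hz, hzy⟩ := h
    exact ⟨k * z, ConjReach.mul_left k hz, hzy.mul_left k⟩

theorem ConjReach.trans {P : Subgroup G} {m : ℕ} {x y : G} (hxy : ConjReach P m x y) :
    ∀ {n : ℕ} {z : G}, ConjReach P n y z → ConjReach P (m + n) x z
  | 0, z, h => by
    have : y = z := h
    subst this
    exact hxy
  | n + 1, z, h => by
    obtain ⟨w, hw, hwz⟩ := h
    exact ⟨w, ConjReach.trans hxy hw, hwz⟩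

/-- the chain argument: along chains of mutually normalizing conjugates of `P`, the conjugates of
`Y` lie in the conjugates of `P`. -/
theorem conjReach_le [Finite G] {P Y : Subgroup G} (hYp : IsPGroup p ↥Y) (hYP : Y ≤ P)
    (hN : Subgroup.normalizer (P : Set G) ≤ Subgroup.normalizer (Y : Set G))
    (hSyl : ∀ X : Subgroup G, IsPGroup p ↥X → X ≤ Subgroup.centralizer (Y : Set G) →
      X ≤ Subgroup.normalizer (P : Set G) → X ≤ P)
    (hAs : ∀ u : G, Y.map (MulAut.conj u).toMonoidHom ≤ Subgroup.normalizer (Y : Set G) →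
      Y ≤ Subgroup.normalizer ((Y.map (MulAut.conj u).toMonoidHom : Subgroup G) : Set G) →
      Y.map (MulAut.conj u).toMonoidHom ≤ Subgroup.centralizer (Y : Set G)) :
    ∀ (n : ℕ) (x y : G), ConjReach P n x y →
      Y.map (MulAut.conj x).toMonoidHom ≤ P.map (MulAut.conj y).toMonoidHom := by
  -- conjugated hypotheses
  have hN' : ∀ y : G, Subgroup.normalizer ((P.map (MulAut.conj y).toMonoidHom : Subgroup G) : Set G) ≤
      Subgroup.normalizer ((Y.map (MulAut.conj y).toMonoidHom : Subgroup G) : Set G) := by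
    intro y
    rw [normalizer_map_conj, normalizer_map_conj]
    exact Subgroup.map_mono hN
  have hSyl' : ∀ (y : G) (X : Subgroup G), IsPGroup p ↥X →
      X ≤ Subgroup.centralizer ((Y.map (MulAut.conj y).toMonoidHom : Subgroup G) : Set G) →
      X ≤ Subgroup.normalizer ((P.map (MulAut.conj y).toMonoidHom : Subgroup G) : Set G) →
      X ≤ P.map (MulAut.conj y).toMonoidHom := by
    intro y X hX h1 h2
    rw [le_map_conj_iff]
    apply hSyl _ (isPGroup_map_conj hX _)
    · rw [← le_map_conj_iff, ← centralizer_map_conj]; exact h1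
    · rw [← le_map_conj_iff, ← normalizer_map_conj]; exact h2
  have hAs' : ∀ x y : G,
      Y.map (MulAut.conj x).toMonoidHom ≤
        Subgroup.normalizer ((Y.map (MulAut.conj y).toMonoidHom : Subgroup G) : Set G) →
      Y.map (MulAut.conj y).toMonoidHom ≤
        Subgroup.normalizer ((Y.map (MulAut.conj x).toMonoidHom : Subgroup G) : Set G) →
      Y.map (MulAut.conj x).toMonoidHom ≤
        Subgroup.centralizer ((Y.map (MulAut.conj y).toMonoidHom : Subgroup G) : Set G) := by
    intro x y h1 h2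
    have e : Y.map (MulAut.conj x).toMonoidHom =
        (Y.map (MulAut.conj (y⁻¹ * x)).toMonoidHom).map (MulAut.conj y).toMonoidHom := by
      rw [map_conj_map_conj]; congr 3; group
    have h1' := Subgroup.map_mono (f := (MulAut.conj y⁻¹).toMonoidHom) h1
    rw [← normalizer_map_conj, map_conj_inv_map_conj, map_conj_map_conj] at h1'
    have h2' := Subgroup.map_mono (f := (MulAut.conj y⁻¹).toMonoidHom) h2
    rw [map_conj_inv_map_conj, ← normalizer_map_conj, map_conj_map_conj] at h2'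
    have h3 := hAs (y⁻¹ * x) h1' h2'
    rw [e, centralizer_map_conj]
    exact Subgroup.map_mono h3
  intro n
  induction n with
  | zero =>
    intro x y h
    have : x = y := h
    subst this
    exact Subgroup.map_mono hYP
  | succ n ih =>
    intro x y h
    obtain ⟨z, hz, hzy⟩ := id h
    obtain ⟨w, hxw, hwy⟩ := ConjReach.exists_head h
    have h1 : Y.map (MulAut.conj x).toMonoidHom ≤ P.map (MulAut.conj z).toMonoidHom := ih x z hz
    have h2 : Y.map (MulAut.conj y).toMonoidHom ≤ P.map (MulAut.conj w).toMonoidHom :=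
      ih y w hwy.symm
    have h3 : Y.map (MulAut.conj x).toMonoidHom ≤
        Subgroup.normalizer ((P.map (MulAut.conj y).toMonoidHom : Subgroup G) : Set G) :=
      h1.trans hzy.1
    have h4 : Y.map (MulAut.conj y).toMonoidHom ≤
        Subgroup.normalizer ((P.map (MulAut.conj x).toMonoidHom : Subgroup G) : Set G) :=
      h2.trans hxw.2
    have h5 := hAs' x y (h3.trans (hN' y)) (h4.trans (hN' x))
    exact hSyl' y _ (isPGroup_map_conj hYp x) h5 h3

/-- consequence of the chain argument: if `P` and `P^g` normalize each other, some nontrivial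
subgroup `E ≤ P` is normalized by `N_G(P)` and by `g`. -/
theorem exists_normalized_of_conjAdj [Finite G] {P Y : Subgroup G} (hYp : IsPGroup p ↥Y)
    (hY1 : Y ≠ ⊥) (hYP : Y ≤ P)
    (hN : Subgroup.normalizer (P : Set G) ≤ Subgroup.normalizer (Y : Set G))
    (hSyl : ∀ X : Subgroup G, IsPGroup p ↥X → X ≤ Subgroup.centralizer (Y : Set G) →
      X ≤ Subgroup.normalizer (P : Set G) → X ≤ P)
    (hAs : ∀ u : G, Y.map (MulAut.conj u).toMonoidHom ≤ Subgroup.normalizer (Y : Set G) →
      Y ≤ Subgroup.normalizer ((Y.map (MulAut.conj u).toMonoidHom : Subgroup G) : Set G) →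
      Y.map (MulAut.conj u).toMonoidHom ≤ Subgroup.centralizer (Y : Set G))
    (g : G) (hg : ConjAdj P 1 g) :
    ∃ E : Subgroup G, E ≠ ⊥ ∧ E ≤ P ∧
      Subgroup.normalizer (P : Set G) ≤ Subgroup.normalizer (E : Set G) ∧
      g ∈ Subgroup.normalizer (E : Set G) := by
  have hchain := conjReach_le hYp hYP hN hSyl hAs
  set C : Set G := {x | ∃ n, ConjReach P n 1 x} with hC
  have hCmul : ∀ c ∈ C, ∀ x ∈ C, c * x ∈ C := by
    rintro c ⟨m, hm⟩ x ⟨n, hn⟩
    refine ⟨m + n, ConjReach.trans hm ?_⟩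
    have := ConjReach.mul_left c hn
    rwa [mul_one] at this
  have hCN : ∀ m ∈ Subgroup.normalizer (P : Set G), m ∈ C := by
    intro m hm
    refine ⟨1, 1, rfl, ?_⟩
    have e : P.map (MulAut.conj m).toMonoidHom = P := map_conj_eq_of_mem_normalizer hm
    unfold ConjAdj
    rw [map_conj_one, e]
    exact ⟨Subgroup.le_normalizer, Subgroup.le_normalizer⟩
  have hgC : g ∈ C := ⟨1, 1, rfl, hg⟩
  set E : Subgroup G := ⨆ x : C, Y.map (MulAut.conj (x : G)).toMonoidHom with hE
  have hEP : E ≤ P := by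
    apply iSup_le
    rintro ⟨x, n, hn⟩
    have := hchain n x 1 hn.symm
    rwa [map_conj_one] at this
  have hYE : Y ≤ E := by
    have h1 : (1 : G) ∈ C := hCN 1 (Subgroup.one_mem _)
    calc Y = Y.map (MulAut.conj (1 : G)).toMonoidHom := (map_conj_one Y).symm
      _ ≤ E := le_iSup (fun x : C => Y.map (MulAut.conj (x : G)).toMonoidHom) ⟨1, h1⟩
  have hnorm : ∀ c ∈ C, c ∈ Subgroup.normalizer (E : Set G) := by
    intro c hc
    apply mem_normalizer_of_map_conj_le
    rw [hE, Subgroup.map_iSup]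
    apply iSup_le
    rintro ⟨x, hx⟩
    rw [map_conj_map_conj]
    exact le_iSup (fun x : C => Y.map (MulAut.conj (x : G)).toMonoidHom) ⟨c * x, hCmul c hc x hx⟩
  refine ⟨E, ?_, hEP, fun m hm => hnorm m (hCN m hm), hnorm g hgC⟩
  intro hb
  apply hY1
  rw [eq_bot_iff, ← hb]
  exact hYE

end ConjChain

section FrakMAsym

variable {G : Type*} [Group G] {p : ℕ}

/-- `M† ≤ N_G(Y_M)`. -/
theorem frakM_dagger_le_normalizer [Finite G] [Fact p.Prime] {M : Subgroup G}
    (hM : IsInFrakM p M) :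
    M ⊔ Subgroup.centralizer ((largestPReducedOf p M : Subgroup G) : Set G) ≤
      Subgroup.normalizer ((largestPReducedOf p M : Subgroup G) : Set G) := by
  have hchar := charP_of_mem_charPSubgroups hM.1
  obtain ⟨-, hAPR, -, -, -⟩ := largestPReducedOf_spec (p := p) M hchar
  exact sup_le hAPR.1 (Subgroup.centralizer_le_normalizer _)

/-- `O_p(M) ≤ C_G(Y_M)`. -/
theorem frakM_pCoreOf_le_centralizer [Finite G] [Fact p.Prime] {M : Subgroup G}
    (hM : IsInFrakM p M) :
    pCoreOf p M ≤ Subgroup.centralizer ((largestPReducedOf p M : Subgroup G) : Set G) := by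
  have hchar := charP_of_mem_charPSubgroups hM.1
  obtain ⟨-, -, -, -, h5⟩ := largestPReducedOf_spec (p := p) M hchar
  exact Subgroup.le_centralizer_iff.mp h5

theorem frakM_pCoreOf_ne_bot {M : Subgroup G} (hM : IsInFrakM p M) : pCoreOf p M ≠ ⊥ :=
  (pCoreOf_ne_bot_iff M).mpr hM.1.1

/-- `N_G(O_p(M)) ≤ M†`. -/
theorem frakM_normalizer_pCoreOf_le [Finite G] [Fact p.Prime] (S : Sylow p G) {Q : Subgroup G}
    (hQp : IsPGroup p ↥Q) (hQ : IsLarge Q) {M : Subgroup G}
    (hSM : (S : Subgroup G) ≤ M) (hM : IsInFrakM p M) :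
    Subgroup.normalizer ((pCoreOf p M : Subgroup G) : Set G) ≤
      M ⊔ Subgroup.centralizer ((largestPReducedOf p M : Subgroup G) : Set G) :=
  normalizer_le_dagger S hQp hQ hSM hM (frakM_pCoreOf_ne_bot hM) (pCoreOf_isPGroup M)
    (le_normalizer_pCoreOf M)

/-- `M†`-conjugates of `O_p(M)` inside `S` equal `O_p(M)`. -/
theorem frakM_conj_eq_of_le_sylow [Finite G] [Fact p.Prime] (S : Sylow p G) {M : Subgroup G}
    (hSM : (S : Subgroup G) ≤ M) (hM : IsInFrakM p M) {k : G}
    (hk : k ∈ M ⊔ Subgroup.centralizer ((largestPReducedOf p M : Subgroup G) : Set G))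
    (hle : (pCoreOf p M).map (MulAut.conj k).toMonoidHom ≤ (S : Subgroup G)) :
    (pCoreOf p M).map (MulAut.conj k).toMonoidHom = pCoreOf p M := by
  have hPeq := pCoreOf_eq_of_isInFrakM S M hSM hM
  have hkN := frakM_dagger_le_normalizer hM hk
  have h1 : (pCoreOf p M).map (MulAut.conj k).toMonoidHom ≤
      Subgroup.centralizer ((largestPReducedOf p M : Subgroup G) : Set G) := by
    have h2 := Subgroup.map_mono (f := (MulAut.conj k).toMonoidHom) (frakM_pCoreOf_le_centralizer hM)
    rw [← centralizer_map_conj, map_conj_eq_of_mem_normalizer hkN] at h2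
    exact h2
  have h3 : (pCoreOf p M).map (MulAut.conj k).toMonoidHom ≤ pCoreOf p M := by
    conv_rhs => rw [hPeq]
    exact le_inf hle h1
  exact map_conj_eq_of_mem_normalizer (mem_normalizer_of_map_conj_le h3)

/-- `O_p(M)` is a Sylow `p`-subgroup of `C_G(Y_M)`, in the form: `p`-subgroups of `C_G(Y_M)`
normalizing `O_p(M)` lie in `O_p(M)`. -/
theorem frakM_le_pCoreOf_of_le_centralizer [Finite G] [Fact p.Prime] (S : Sylow p G)
    {Q : Subgroup G} (hQp : IsPGroup p ↥Q) (hQ : IsLarge Q) {M : Subgroup G}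
    (hSM : (S : Subgroup G) ≤ M) (hM : IsInFrakM p M) {X : Subgroup G} (hX : IsPGroup p ↥X)
    (hXC : X ≤ Subgroup.centralizer ((largestPReducedOf p M : Subgroup G) : Set G))
    (hXN : X ≤ Subgroup.normalizer ((pCoreOf p M : Subgroup G) : Set G)) : X ≤ pCoreOf p M := by
  set P := pCoreOf p M with hP
  set Y := largestPReducedOf p M with hY
  set Md := M ⊔ Subgroup.centralizer ((Y : Subgroup G) : Set G) with hMd
  have hPeq := pCoreOf_eq_of_isInFrakM S M hSM hM
  have hNP := frakM_normalizer_pCoreOf_le S hQp hQ hSM hM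
  have hPC := frakM_pCoreOf_le_centralizer hM
  have hD : IsPGroup p ↥(X ⊔ P) := IsPGroup.to_sup_of_normal_right' hX (pCoreOf_isPGroup M) hXN
  have hDMd : X ⊔ P ≤ Md := sup_le (hXN.trans hNP) ((pCoreOf_le M).trans le_sup_left)
  obtain ⟨t, ht, hle⟩ := exists_conj_le_sylow S (hSM.trans le_sup_left) hDMd hD
  have htN := frakM_dagger_le_normalizer hM ht
  have h1 : (X ⊔ P).map (MulAut.conj t).toMonoidHom ≤
      Subgroup.centralizer ((Y : Subgroup G) : Set G) := by
    have h2 := Subgroup.map_mono (f := (MulAut.conj t).toMonoidHom) (sup_le hXC hPC)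
    rw [← centralizer_map_conj, map_conj_eq_of_mem_normalizer htN] at h2
    exact h2
  have h3 : (X ⊔ P).map (MulAut.conj t).toMonoidHom ≤ P := by
    conv_rhs => rw [hP, hPeq]
    exact le_inf hle h1
  have h4 : P.map (MulAut.conj t).toMonoidHom ≤ P := (Subgroup.map_mono le_sup_right).trans h3
  have h5 : P.map (MulAut.conj t).toMonoidHom = P :=
    map_conj_eq_of_mem_normalizer (mem_normalizer_of_map_conj_le h4)
  have h6 : X.map (MulAut.conj t).toMonoidHom ≤ P.map (MulAut.conj t).toMonoidHom := by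
    rw [h5]; exact (Subgroup.map_mono le_sup_left).trans h3
  exact (Subgroup.map_le_map_iff_of_injective (MulAut.conj t).injective).mp h6

/-- asymmetry: conjugates of `Y` normalizing each other commute. -/
theorem asym_le_centralizer {Y : Subgroup G} (hasym : ¬ IsSymmetricIn Y) (u : G)
    (h1 : Y.map (MulAut.conj u).toMonoidHom ≤ Subgroup.normalizer (Y : Set G))
    (h2 : Y ≤ Subgroup.normalizer ((Y.map (MulAut.conj u).toMonoidHom : Subgroup G) : Set G)) :
    Y.map (MulAut.conj u).toMonoidHom ≤ Subgroup.centralizer (Y : Set G) := by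
  by_contra hne
  apply hasym
  refine ⟨u, ?_, le_inf ?_ ?_⟩
  · intro hb
    apply hne
    rw [Subgroup.commutator_comm] at hb
    exact Subgroup.commutator_eq_bot_iff_le_centralizer.mp hb
  · exact Subgroup.le_normalizer_iff_commutator_le_left.mp h1
  · rw [Subgroup.commutator_comm]
    exact Subgroup.le_normalizer_iff_commutator_le_left.mp h2

/-- the crux: for `M ∈ 𝔐_G(S)` with `Y_M` asymmetric, a conjugate of `O_p(M)` that normalizes and
is normalized by `O_p(M)` equals `O_p(M)`. -/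
theorem frakM_pCoreOf_conj_eq [Finite G] [Fact p.Prime] (S : Sylow p G) {Q : Subgroup G}
    (hQp : IsPGroup p ↥Q) (hQ1 : Q ≠ ⊥) (hQS : Q ≤ (S : Subgroup G)) (hQ : IsLarge Q)
    {M : Subgroup G} (hSM : (S : Subgroup G) ≤ M) (hM : IsInFrakM p M)
    (hasym : ¬ IsSymmetricIn (largestPReducedOf p M)) (g : G)
    (h : ⁅pCoreOf p M, (pCoreOf p M).map (MulAut.conj g).toMonoidHom⁆ ≤
      pCoreOf p M ⊓ (pCoreOf p M).map (MulAut.conj g).toMonoidHom) :
    (pCoreOf p M).map (MulAut.conj g).toMonoidHom = pCoreOf p M := by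
  set P := pCoreOf p M with hP
  set Y := largestPReducedOf p M with hY
  set Md := M ⊔ Subgroup.centralizer ((Y : Subgroup G) : Set G) with hMd
  have hchar := charP_of_mem_charPSubgroups hM.1
  obtain ⟨-, hAPR, -, hYP, -⟩ := largestPReducedOf_spec (p := p) M hchar
  have hPp : IsPGroup p ↥P := pCoreOf_isPGroup M
  have hYp : IsPGroup p ↥Y := hPp.to_le hYP
  have hS1 : (S : Subgroup G) ≠ ⊥ := by
    intro hb; apply hQ1; rw [eq_bot_iff, ← hb]; exact hQS
  have hY1 : Y ≠ ⊥ := largestPReducedOf_ne_bot S hSM hchar hS1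
  have hNP := frakM_normalizer_pCoreOf_le S hQp hQ hSM hM
  have hN : Subgroup.normalizer (P : Set G) ≤ Subgroup.normalizer (Y : Set G) :=
    hNP.trans (frakM_dagger_le_normalizer hM)
  have h1 : P.map (MulAut.conj g).toMonoidHom ≤ Subgroup.normalizer (P : Set G) :=
    Subgroup.le_normalizer_iff_commutator_le_left.mpr (h.trans inf_le_left)
  have h2 : P ≤ Subgroup.normalizer ((P.map (MulAut.conj g).toMonoidHom : Subgroup G) : Set G) := by
    apply Subgroup.le_normalizer_iff_commutator_le_left.mpr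
    rw [Subgroup.commutator_comm]
    exact h.trans inf_le_right
  have hadj : ConjAdj P 1 g := by
    unfold ConjAdj
    rw [map_conj_one]
    exact ⟨h2, h1⟩
  obtain ⟨E, hE1, hEP, hNE, hgE⟩ := exists_normalized_of_conjAdj hYp hY1 hYP hN
    (fun X hX hXC hXN => frakM_le_pCoreOf_of_le_centralizer S hQp hQ hSM hM hX hXC hXN)
    (asym_le_centralizer hasym) g hadj
  have hME : M ≤ Subgroup.normalizer (E : Set G) := (le_normalizer_pCoreOf M).trans hNE
  have hgMd : g ∈ Md :=
    normalizer_le_dagger S hQp hQ hSM hM hE1 (hPp.to_le hEP) hME hgE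
  -- weak closure of `P` in `M†`
  have hD : IsPGroup p ↥(P.map (MulAut.conj g).toMonoidHom ⊔ P) :=
    IsPGroup.to_sup_of_normal_right' (isPGroup_map_conj hPp g) hPp h1
  have hPMd : P ≤ Md := (pCoreOf_le M).trans le_sup_left
  have hDMd : P.map (MulAut.conj g).toMonoidHom ⊔ P ≤ Md := sup_le (h1.trans hNP) hPMd
  obtain ⟨t, ht, hle⟩ := exists_conj_le_sylow S (hSM.trans le_sup_left) hDMd hD
  have e1 : P.map (MulAut.conj t).toMonoidHom = P :=
    frakM_conj_eq_of_le_sylow S hSM hM ht ((Subgroup.map_mono le_sup_right).trans hle)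
  have e2 : P.map (MulAut.conj (t * g)).toMonoidHom = P := by
    apply frakM_conj_eq_of_le_sylow S hSM hM (Subgroup.mul_mem _ ht hgMd)
    rw [← map_conj_map_conj]
    exact (Subgroup.map_mono le_sup_left).trans hle
  apply map_conj_injective t
  rw [map_conj_map_conj, e2, e1]

/-- S2850(b): `O_p(M)` is a weakly closed subgroup of `G`. -/
theorem frakM_pCoreOf_weaklyClosed [Finite G] [Fact p.Prime] (S : Sylow p G) {Q : Subgroup G}
    (hQp : IsPGroup p ↥Q) (hQ1 : Q ≠ ⊥) (hQS : Q ≤ (S : Subgroup G)) (hQ : IsLarge Q)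
    {M : Subgroup G} (hSM : (S : Subgroup G) ≤ M) (hM : IsInFrakM p M)
    (hasym : ¬ IsSymmetricIn (largestPReducedOf p M)) :
    IsWeaklyClosedSubgroup p (pCoreOf p M) :=
  normalizer_imp_wc (pCoreOf_isPGroup M) (fun R hR hPR =>
    comm_imp_normalizer (frakM_pCoreOf_conj_eq S hQp hQ1 hQS hQ hSM hM hasym) R hR hPR)

/-- S2850(d): `M` controls fusion in `Y_M`. -/
theorem frakM_control_fusion [Finite G] [Fact p.Prime] (S : Sylow p G) {Q : Subgroup G}
    (hQp : IsPGroup p ↥Q) (hQ1 : Q ≠ ⊥) (hQS : Q ≤ (S : Subgroup G)) (hQ : IsLarge Q)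
    {M : Subgroup G} (hSM : (S : Subgroup G) ≤ M) (hM : IsInFrakM p M)
    (hasym : ¬ IsSymmetricIn (largestPReducedOf p M)) {x : G}
    (hx : x ∈ largestPReducedOf p M) (g : G) (hgx : g * x * g⁻¹ ∈ largestPReducedOf p M) :
    ∃ m ∈ M, m * x * m⁻¹ = g * x * g⁻¹ := by
  set P := pCoreOf p M with hP
  set Y := largestPReducedOf p M with hY
  have hwc := frakM_pCoreOf_weaklyClosed S hQp hQ1 hQS hQ hSM hM hasym
  have hPp : IsPGroup p ↥P := pCoreOf_isPGroup M
  have hPC := frakM_pCoreOf_le_centralizer hM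
  have hNP := frakM_normalizer_pCoreOf_le S hQp hQ hSM hM
  have hchar := charP_of_mem_charPSubgroups hM.1
  obtain ⟨-, hAPR, -, -, -⟩ := largestPReducedOf_spec (p := p) M hchar
  set K : Subgroup G := Subgroup.centralizer ({g * x * g⁻¹} : Set G) with hK
  have hPK : P ≤ K := by
    intro a ha
    rw [hK, Subgroup.mem_centralizer_iff]
    intro y hy
    rw [Set.mem_singleton_iff] at hy
    subst hy
    exact (Subgroup.mem_centralizer_iff.mp (hPC ha)) _ hgx
  have hPgK : P.map (MulAut.conj g).toMonoidHom ≤ K := by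
    rintro _ ⟨a, ha, rfl⟩
    rw [hK, Subgroup.mem_centralizer_iff]
    intro y hy
    rw [Set.mem_singleton_iff] at hy
    subst hy
    have h1 : x * a = a * x := (Subgroup.mem_centralizer_iff.mp (hPC ha)) x hx
    simp only [MulEquiv.coe_toMonoidHom, MulAut.conj_apply]
    calc g * x * g⁻¹ * (g * a * g⁻¹) = g * (x * a) * g⁻¹ := by group
      _ = g * (a * x) * g⁻¹ := by rw [h1]
      _ = g * a * g⁻¹ * (g * x * g⁻¹) := by group
  obtain ⟨k, hk, hkeq⟩ := wc_conj_in_subgroup hPp hwc hPK g hPgK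
  -- `n = k⁻¹ g` normalizes `P`
  have hn : k⁻¹ * g ∈ Subgroup.normalizer (P : Set G) := by
    rw [Subgroup.mem_normalizer_iff_map_conj_eq]
    show P.map (MulAut.conj (k⁻¹ * g)).toMonoidHom = P
    rw [← map_conj_map_conj, hkeq, map_conj_map_conj, inv_mul_cancel, map_conj_one]
  have hnMd := hNP hn
  rw [sup_comm] at hnMd
  obtain ⟨c, hc, m, hm, hmc⟩ := Cfsg.Agent.Lib.Helper8.mem_sup_of_le_normalizer
    (X := Subgroup.centralizer ((Y : Subgroup G) : Set G)) (Y := M)
    (hAPR.1.trans (normalizer_le_normalizer_centralizer Y)) hnMd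
  refine ⟨m, hm, ?_⟩
  have hmx : m * x * m⁻¹ ∈ Y := (Subgroup.mem_normalizer_iff.mp (hAPR.1 hm) x).mp hx
  have hcx : m * x * m⁻¹ * c = c * (m * x * m⁻¹) := (Subgroup.mem_centralizer_iff.mp hc) _ hmx
  have hkx : g * x * g⁻¹ * k = k * (g * x * g⁻¹) :=
    (Subgroup.mem_centralizer_iff.mp hk) _ (Set.mem_singleton _)
  -- `n x n⁻¹ = k⁻¹ (g x g⁻¹) k = g x g⁻¹`
  have e1 : (k⁻¹ * g) * x * (k⁻¹ * g)⁻¹ = g * x * g⁻¹ := by
    calc (k⁻¹ * g) * x * (k⁻¹ * g)⁻¹ = k⁻¹ * (g * x * g⁻¹ * k) := by group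
      _ = k⁻¹ * (k * (g * x * g⁻¹)) := by rw [hkx]
      _ = g * x * g⁻¹ := by group
  have e2 : (c * m) * x * (c * m)⁻¹ = m * x * m⁻¹ := by
    calc (c * m) * x * (c * m)⁻¹ = c * (m * x * m⁻¹) * c⁻¹ := by group
      _ = m * x * m⁻¹ * c * c⁻¹ := by rw [hcx]
      _ = m * x * m⁻¹ := by group
  rw [← e2, ← hmc, e1]

end FrakMAsym

end Cfsg.Agent.Lib.Helper16
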