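import Cfsg.Agent.Lib.Helper16.CosetGraph
import Cfsg.Agent.Lib.Helper16.PCore
import Cfsg.Prelude.Def_Amalgam

set_option autoImplicit false
open Cfsg

namespace Cfsg.Agent.Lib.Helper16

theorem finite_of_le {X : Type*} [Group X] {K M : Subgroup X} (h : K ≤ M) [Finite M] : Finite K :=
  Finite.of_injective (Subgroup.inclusion h) (Subgroup.inclusion_injective h)

/-- If `K ≤ M` (finite) has the same `p`-part of the order as `M`, then `O_p(M) ≤ K`. -/
theorem pCoreOf_le_of_factorization_eq {X : Type*} [Group X] {p : ℕ} [Fact p.Prime]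
    (M K : Subgroup X) [Finite M] (hKM : K ≤ M)
    (hfac : (Nat.card K).factorization p = (Nat.card M).factorization p) :
    pCoreOf p M ≤ K := by
  have : Finite K := finite_of_le hKM
  obtain ⟨P⟩ : Nonempty (Sylow p K) := inferInstance
  -- P as a subgroup of X
  set P' : Subgroup X := (P : Subgroup K).map K.subtype with hP'
  have hP'K : P' ≤ K := Subgroup.map_subtype_le _
  have hcard1 : Nat.card P' = Nat.card P := Subgroup.card_subtype K P
  set P'' : Subgroup M := P'.subgroupOf M with hP''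
  have hcard2 : Nat.card P'' = Nat.card P' :=
    Nat.card_congr (Subgroup.subgroupOfEquivOfLe (hP'K.trans hKM)).toEquiv
  have hPp : IsPGroup p P'' := by
    have h1 : IsPGroup p P' := P.isPGroup'.map _
    exact h1.comap_subtype
  obtain ⟨Q, hQ⟩ := hPp.exists_le_sylow
  have hcardQ : Nat.card Q = Nat.card P'' := by
    rw [hcard2, hcard1, Sylow.card_eq_multiplicity, Sylow.card_eq_multiplicity, hfac]
  have hQeq : P'' = (Q : Subgroup M) := Subgroup.eq_of_le_of_card_ge hQ hcardQ.le
  intro y hy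
  obtain ⟨y', hy', rfl⟩ := hy
  have h1 : y' ∈ (Q : Subgroup M) := pCore_le_sylow Q hy'
  rw [← hQeq] at h1
  exact hP'K h1


theorem charPAmalgam_factorization {X : Type*} [Group X] {p : ℕ} [Fact p.Prime]
    {M₁ M₂ : Subgroup X} (h : IsCharPAmalgamPair p M₁ M₂) :
    (Nat.card ↥(M₁ ⊓ M₂)).factorization p = (Nat.card M₁).factorization p ∧
      (Nat.card ↥(M₁ ⊓ M₂)).factorization p = (Nat.card M₂).factorization p := by
  obtain ⟨_, hf1, hf2, _, _, hsyl, _, _⟩ := h
  have : Finite ↥(M₁ ⊓ M₂) := finite_of_le (inf_le_left : M₁ ⊓ M₂ ≤ M₁)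
  obtain ⟨S⟩ : Nonempty (Sylow p ↥(M₁ ⊓ M₂)) := inferInstance
  obtain ⟨P₁⟩ : Nonempty (Sylow p M₁) := inferInstance
  obtain ⟨P₂⟩ : Nonempty (Sylow p M₂) := inferInstance
  obtain ⟨h1, h2⟩ := hsyl S P₁ P₂
  rw [Sylow.card_eq_multiplicity, Sylow.card_eq_multiplicity] at h1 h2
  have hp : 1 < p := (Fact.out : p.Prime).one_lt
  exact ⟨Nat.pow_right_injective hp h1, Nat.pow_right_injective hp h2⟩

theorem vertexQ_le_stab_of_adj {X : Type*} [Group X] {p : ℕ} [Fact p.Prime]
    {M₁ M₂ : Subgroup X} (h : IsCharPAmalgamPair p M₁ M₂) (δ μ : CosetVertex M₁ M₂)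
    (hadj : (cosetGraph M₁ M₂).Adj δ μ) :
    vertexQ p δ ≤ MulAction.stabilizer X δ ⊓ MulAction.stabilizer X μ := by
  obtain ⟨hfac1, hfac2⟩ := charPAmalgam_factorization h
  obtain ⟨_, hf1, hf2, _⟩ := h
  rw [cosetGraph_adj_iff] at hadj
  have hinj : ∀ x : X, Function.Injective (MulAut.conj x).toMonoidHom := fun x => (MulAut.conj x).injective
  obtain ⟨x, ⟨rfl, rfl⟩ | ⟨rfl, rfl⟩⟩ := hadj
  · unfold vertexQ
    rw [stab_inl, stab_inr, stab_coset, stab_coset, ← Subgroup.map_inf_eq _ _ _ (hinj x)]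
    have : Finite ↥(M₁.map (MulAut.conj x).toMonoidHom) :=
      Finite.of_equiv _ (M₁.equivMapOfInjective _ (hinj x)).toEquiv
    apply pCoreOf_le_of_factorization_eq
    · exact Subgroup.map_mono inf_le_left
    · rw [Subgroup.card_map_of_injective (hinj x), Subgroup.card_map_of_injective (hinj x), hfac1]
  · unfold vertexQ
    rw [stab_inl, stab_inr, stab_coset, stab_coset, ← Subgroup.map_inf_eq _ _ _ (hinj x)]
    have : Finite ↥(M₂.map (MulAut.conj x).toMonoidHom) :=
      Finite.of_equiv _ (M₂.equivMapOfInjective _ (hinj x)).toEquiv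
    apply pCoreOf_le_of_factorization_eq
    · exact Subgroup.map_mono inf_le_left
    · rw [Subgroup.card_map_of_injective (hinj x), Subgroup.card_map_of_injective (hinj x), inf_comm, hfac2]

theorem vertexQ_le_neighbourKernel {X : Type*} [Group X] {p : ℕ} [Fact p.Prime]
    {M₁ M₂ : Subgroup X} (h : IsCharPAmalgamPair p M₁ M₂) (δ : CosetVertex M₁ M₂) :
    vertexQ p δ ≤ neighbourKernel δ := by
  unfold neighbourKernel
  apply le_inf
  · exact Subgroup.map_subtype_le _
  · apply le_iInf₂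
    intro μ hμ
    exact (vertexQ_le_stab_of_adj h δ μ hμ).trans inf_le_right

end Cfsg.Agent.Lib.Helper16

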