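import Cfsg.Prelude.Def_Amalgam
import Cfsg.Agent.Lib.Helper16.Amalgam
import Cfsg.Agent.Lib.Helper16.ZL
import Cfsg.Agent.Lib.Helper16.Trace

set_option autoImplicit false
set_option linter.style.haveILetI false
open Cfsg
open scoped Pointwise commutatorElement

namespace Cfsg.Agent.Lib.Helper16

theorem exists_adj_dist_lt {V : Type*} (Γ : SimpleGraph V) (hc : Γ.Connected) {x y : V}
    (hne : x ≠ y) : ∃ ν, Γ.Adj x ν ∧ Γ.dist ν y < Γ.dist x y := by
  obtain ⟨w, hw⟩ := hc.exists_walk_length_eq_dist x y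
  cases w with
  | nil => exact absurd rfl hne
  | cons h q =>
    refine ⟨_, h, ?_⟩
    rw [← hw, SimpleGraph.Walk.length_cons]
    exact Nat.lt_succ_of_le (SimpleGraph.dist_le q)

theorem sylowCenterClosure_le {X : Type*} [Group X] (p : ℕ) (H : Subgroup X) :
    sylowCenterClosure p H ≤ H := by
  rw [sylowCenterClosure_eq_map]
  exact Subgroup.map_subtype_le _

theorem le_normalizer_sylowCenterClosure {X : Type*} [Group X] (p : ℕ) (H : Subgroup X) :
    H ≤ Subgroup.normalizer (sylowCenterClosure p H : Set X) := by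
  rw [sylowCenterClosure_eq_map]
  exact le_normalizer_map_subtype_of_normal H (zSyl p ↥H)

theorem neighbourKernel_le_stab {X : Type*} [Group X] {M₁ M₂ : Subgroup X}
    (ν x : CosetVertex M₁ M₂) (hadj : (cosetGraph M₁ M₂).Adj ν x) :
    neighbourKernel ν ≤ MulAction.stabilizer X x := by
  unfold neighbourKernel
  exact inf_le_right.trans (iInf₂_le x hadj)

theorem vertexZ_le_neighbourKernel_of_dist_lt {X : Type*} [Group X] {p : ℕ}
    {M₁ M₂ : Subgroup X} (δ μ : CosetVertex M₁ M₂)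
    (hlt : (cosetGraph M₁ M₂).dist δ μ < criticalDistance p M₁ M₂) :
    vertexZ p δ ≤ neighbourKernel μ := by
  by_contra hcon
  have : criticalDistance p M₁ M₂ ≤ (cosetGraph M₁ M₂).dist δ μ := Nat.sInf_le ⟨δ, μ, rfl, hcon⟩
  omega

/-- if `d(x,y)` is the critical distance then `Z_y ≤ G_x`. -/
theorem vertexZ_le_stab_of_dist_eq {X : Type*} [Group X] {p : ℕ}
    {M₁ M₂ : Subgroup X} (hgen : M₁ ⊔ M₂ = ⊤) (x y : CosetVertex M₁ M₂)
    (hd : (cosetGraph M₁ M₂).dist x y = criticalDistance p M₁ M₂) :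
    vertexZ p y ≤ MulAction.stabilizer X x := by
  by_cases hxy : x = y
  · subst hxy
    exact sylowCenterClosure_le p _
  · obtain ⟨ν, hadj, hlt⟩ := exists_adj_dist_lt _ (cosetGraph_connected M₁ M₂ hgen) hxy
    have h1 : (cosetGraph M₁ M₂).dist y ν < criticalDistance p M₁ M₂ := by
      rw [SimpleGraph.dist_comm, ← hd]; exact hlt
    exact (vertexZ_le_neighbourKernel_of_dist_lt y ν h1).trans
      (neighbourKernel_le_stab ν x hadj.symm)

/-- S2747 -/
theorem critical_pair_basic {X : Type*} [Group X] {p : ℕ} (M₁ M₂ : Subgroup X)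
    (hgen : M₁ ⊔ M₂ = ⊤) (α α' : Cfsg.CosetVertex M₁ M₂)
    (hc : Cfsg.IsCriticalPair p α α') :
    Cfsg.vertexZ p α' ≤ MulAction.stabilizer X α ∧ Cfsg.vertexZ p α ≤ MulAction.stabilizer X α' ∧
      ⁅Cfsg.vertexZ p α, Cfsg.vertexZ p α'⁆ ≤ Cfsg.vertexZ p α ⊓ Cfsg.vertexZ p α' := by
  have h1 : Cfsg.vertexZ p α' ≤ MulAction.stabilizer X α :=
    vertexZ_le_stab_of_dist_eq hgen α α' hc.2
  have h2 : Cfsg.vertexZ p α ≤ MulAction.stabilizer X α' :=
    vertexZ_le_stab_of_dist_eq hgen α' α (by rw [SimpleGraph.dist_comm]; exact hc.2)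
  refine ⟨h1, h2, le_inf ?_ ?_⟩
  · exact Subgroup.le_normalizer_iff_commutator_le_left.mp
      (h1.trans (le_normalizer_sylowCenterClosure p _))
  · rw [Subgroup.commutator_comm]
    exact Subgroup.le_normalizer_iff_commutator_le_left.mp
      (h2.trans (le_normalizer_sylowCenterClosure p _))

theorem stab_equiv {X : Type*} [Group X] (M₁ M₂ : Subgroup X) (δ : CosetVertex M₁ M₂) :
    Nonempty (↥M₁ ≃* ↥(MulAction.stabilizer X δ)) ∨
      Nonempty (↥M₂ ≃* ↥(MulAction.stabilizer X δ)) := by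
  have hinj : ∀ x : X, Function.Injective (MulAut.conj x).toMonoidHom :=
    fun x => (MulAut.conj x).injective
  rcases δ with a | b
  · obtain ⟨x, rfl⟩ := QuotientGroup.mk_surjective a
    left
    rw [stab_inl, stab_coset]
    exact ⟨M₁.equivMapOfInjective _ (hinj x)⟩
  · obtain ⟨x, rfl⟩ := QuotientGroup.mk_surjective b
    right
    rw [stab_inr, stab_coset]
    exact ⟨M₂.equivMapOfInjective _ (hinj x)⟩

theorem stab_finite {X : Type*} [Group X] {p : ℕ} {M₁ M₂ : Subgroup X}
    (h : IsCharPAmalgamPair p M₁ M₂) (δ : CosetVertex M₁ M₂) :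
    Finite ↥(MulAction.stabilizer X δ) := by
  obtain ⟨_, hf1, hf2, _⟩ := h
  rcases stab_equiv M₁ M₂ δ with ⟨⟨e⟩⟩ | ⟨⟨e⟩⟩
  · exact Finite.of_equiv _ e.toEquiv
  · exact Finite.of_equiv _ e.toEquiv

theorem stab_charP {X : Type*} [Group X] {p : ℕ} [Fact p.Prime] {M₁ M₂ : Subgroup X}
    (h : IsCharPAmalgamPair p M₁ M₂) (δ : CosetVertex M₁ M₂) :
    Subgroup.centralizer (pCore p ↥(MulAction.stabilizer X δ) : Set ↥(MulAction.stabilizer X δ)) ≤
      pCore p ↥(MulAction.stabilizer X δ) := by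
  obtain ⟨_, _, _, _, _, _, hc1, hc2⟩ := h
  rcases stab_equiv M₁ M₂ δ with ⟨⟨e⟩⟩ | ⟨⟨e⟩⟩
  · exact charP_of_equiv e hc1
  · exact charP_of_equiv e hc2

/-- internal: `Z_G ≤ O_p(G)` in characteristic `p`. -/
theorem zSyl_le_pCore {G : Type*} [Group G] {p : ℕ} [Fact p.Prime]
    (hchar : Subgroup.centralizer (pCore p G : Set G) ≤ pCore p G) : zSyl p G ≤ pCore p G := by
  unfold zSyl
  apply iSup_le
  intro S
  unfold omegaOne
  rw [Subgroup.closure_le]
  rintro x ⟨hx, -⟩
  apply hchar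
  exact Subgroup.centralizer_le (pCore_le_sylow S) hx.2

theorem vertexZ_le_vertexQ {X : Type*} [Group X] {p : ℕ} [Fact p.Prime] {M₁ M₂ : Subgroup X}
    (h : IsCharPAmalgamPair p M₁ M₂) (δ : CosetVertex M₁ M₂) :
    vertexZ p δ ≤ vertexQ p δ := by
  unfold vertexZ vertexQ pCoreOf
  rw [sylowCenterClosure_eq_map]
  exact Subgroup.map_mono (zSyl_le_pCore (stab_charP h δ))

theorem critical_pair_ne {X : Type*} [Group X] {p : ℕ} [Fact p.Prime] {M₁ M₂ : Subgroup X}
    (h : IsCharPAmalgamPair p M₁ M₂) (α α' : CosetVertex M₁ M₂) (hc : IsCriticalPair p α α') :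
    α ≠ α' := by
  intro heq
  subst heq
  exact hc.1 ((vertexZ_le_vertexQ h α).trans (vertexQ_le_neighbourKernel h α))

theorem exists_sylow_map_eq_of_factorization_eq {X : Type*} [Group X] {p : ℕ} [Fact p.Prime]
    (M K : Subgroup X) [Finite M] (hKM : K ≤ M)
    (hfac : (Nat.card K).factorization p = (Nat.card M).factorization p) (P : Sylow p K) :
    ∃ Q : Sylow p M, (Q : Subgroup M).map M.subtype = (P : Subgroup K).map K.subtype := by
  have : Finite K := finite_of_le hKM
  set P' : Subgroup X := (P : Subgroup K).map K.subtype with hP'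
  have hP'K : P' ≤ K := Subgroup.map_subtype_le _
  have hcard1 : Nat.card P' = Nat.card P := Subgroup.card_subtype K P
  set P'' : Subgroup M := P'.subgroupOf M with hP''
  have hcard2 : Nat.card P'' = Nat.card P' :=
    Nat.card_congr (Subgroup.subgroupOfEquivOfLe (hP'K.trans hKM)).toEquiv
  have hPp : IsPGroup p P'' := by
    have h1 : IsPGroup p P' := P.isPGroup'.map _
    exact h1.comap_subtype
  obtain ⟨Q, hQ⟩ := hPp.exists_le_sylow
  have hcardQ : Nat.card Q = Nat.card P'' := by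
    rw [hcard2, hcard1, Sylow.card_eq_multiplicity, Sylow.card_eq_multiplicity, hfac]
  have hQeq : P'' = (Q : Subgroup M) := Subgroup.eq_of_le_of_card_ge hQ hcardQ.le
  refine ⟨Q, ?_⟩
  rw [← hQeq, hP'', Subgroup.subgroupOf_map_subtype, inf_of_le_left (hP'K.trans hKM)]

theorem edge_factorization {X : Type*} [Group X] {p : ℕ} [Fact p.Prime]
    {M₁ M₂ : Subgroup X} (h : IsCharPAmalgamPair p M₁ M₂) (δ μ : CosetVertex M₁ M₂)
    (hadj : (cosetGraph M₁ M₂).Adj δ μ) :
    (Nat.card ↥(MulAction.stabilizer X δ ⊓ MulAction.stabilizer X μ)).factorization p =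
      (Nat.card ↥(MulAction.stabilizer X δ)).factorization p := by
  obtain ⟨hfac1, hfac2⟩ := charPAmalgam_factorization h
  rw [cosetGraph_adj_iff] at hadj
  have hinj : ∀ x : X, Function.Injective (MulAut.conj x).toMonoidHom :=
    fun x => (MulAut.conj x).injective
  obtain ⟨x, ⟨rfl, rfl⟩ | ⟨rfl, rfl⟩⟩ := hadj
  · rw [stab_inl, stab_inr, stab_coset, stab_coset, ← Subgroup.map_inf_eq _ _ _ (hinj x),
      Subgroup.card_map_of_injective (hinj x), Subgroup.card_map_of_injective (hinj x), hfac1]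
  · rw [stab_inl, stab_inr, stab_coset, stab_coset, ← Subgroup.map_inf_eq _ _ _ (hinj x),
      Subgroup.card_map_of_injective (hinj x), Subgroup.card_map_of_injective (hinj x), inf_comm,
      hfac2]

/-- a Sylow `p`-subgroup of an edge stabilizer is a Sylow `p`-subgroup of the vertex stabilizer. -/
theorem edge_sylow_is_vertex_sylow {X : Type*} [Group X] {p : ℕ} [Fact p.Prime]
    {M₁ M₂ : Subgroup X} (h : IsCharPAmalgamPair p M₁ M₂) (δ μ : CosetVertex M₁ M₂)
    (hadj : (cosetGraph M₁ M₂).Adj δ μ)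
    (S : Sylow p ↥(MulAction.stabilizer X δ ⊓ MulAction.stabilizer X μ)) :
    ∃ Q : Sylow p ↥(MulAction.stabilizer X δ),
      (Q : Subgroup ↥(MulAction.stabilizer X δ)).map (MulAction.stabilizer X δ).subtype =
        (S : Subgroup ↥(MulAction.stabilizer X δ ⊓ MulAction.stabilizer X μ)).map
          (MulAction.stabilizer X δ ⊓ MulAction.stabilizer X μ).subtype := by
  haveI := stab_finite h δ
  exact exists_sylow_map_eq_of_factorization_eq _ _ inf_le_left (edge_factorization h δ μ hadj) S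

/-- `Ω₁Z` of a Sylow, conjugated. -/
theorem omegaOne_center_sylow_smul_le {G : Type*} [Group G] {p : ℕ} (S : Sylow p G) (g : G) :
    (omegaOne p ((S : Subgroup G) ⊓ Subgroup.centralizer ((S : Subgroup G) : Set G))).map
        (MulAut.conj g).toMonoidHom ≤
      omegaOne p (((g • S : Sylow p G) : Subgroup G) ⊓
        Subgroup.centralizer (((g • S : Sylow p G) : Subgroup G) : Set G)) := by
  rw [Subgroup.map_le_iff_le_comap]
  unfold omegaOne
  rw [Subgroup.closure_le]
  rintro x ⟨hx, hxp⟩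
  show g * x * g⁻¹ ∈ Subgroup.closure _
  refine Subgroup.subset_closure ⟨?_, ?_⟩
  · refine Subgroup.mem_inf.mpr ⟨?_, ?_⟩
    · rw [Cfsg.Agent.Lib.Helper1.mem_sylow_smul_iff]
      have e : g⁻¹ * (g * x * g⁻¹) * g = x := by group
      rw [e]; exact hx.1
    · rw [Subgroup.mem_centralizer_iff]
      intro t ht
      have ht' : g⁻¹ * t * g ∈ (S : Subgroup G) :=
        (Cfsg.Agent.Lib.Helper1.mem_sylow_smul_iff S g t).mp ht
      have h1 := (Subgroup.mem_centralizer_iff.mp hx.2) _ ht'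
      calc t * (g * x * g⁻¹) = g * ((g⁻¹ * t * g) * x) * g⁻¹ := by group
        _ = g * (x * (g⁻¹ * t * g)) * g⁻¹ := by rw [h1]
        _ = g * x * g⁻¹ * t := by group
  · rw [conj_pow, hxp]; group

/-- if `Z_G = Ω₁Z(S₀)` for one Sylow `p`-subgroup then for all. -/
theorem zSyl_eq_all_of_eq_one {G : Type*} [Group G] [Finite G] {p : ℕ} [Fact p.Prime]
    (S₀ : Sylow p G)
    (h0 : zSyl p G =
      omegaOne p ((S₀ : Subgroup G) ⊓ Subgroup.centralizer ((S₀ : Subgroup G) : Set G)))
    (S : Sylow p G) :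
    zSyl p G = omegaOne p ((S : Subgroup G) ⊓ Subgroup.centralizer ((S : Subgroup G) : Set G)) := by
  apply le_antisymm
  · obtain ⟨g, rfl⟩ := MulAction.exists_smul_eq G S₀ S
    intro z hz
    have h1 : g⁻¹ * z * g⁻¹⁻¹ ∈ zSyl p G := (zSyl_normal (p := p) (G := G)).conj_mem z hz g⁻¹
    rw [h0] at h1
    apply omegaOne_center_sylow_smul_le S₀ g
    refine ⟨g⁻¹ * z * g⁻¹⁻¹, h1, ?_⟩
    show g * (g⁻¹ * z * g⁻¹⁻¹) * g⁻¹ = z
    group
  · unfold zSyl
    exact le_iSup (fun S : Sylow p G =>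
      omegaOne p ((S : Subgroup G) ⊓ Subgroup.centralizer ((S : Subgroup G) : Set G))) S

/-- ambient version. -/
theorem sylowCenterClosure_eq_all_of_eq_one {X : Type*} [Group X] {p : ℕ} [Fact p.Prime]
    (H : Subgroup X) [Finite H] (S₀ S : Sylow p H)
    (h0 : sylowCenterClosure p H = omegaOne p (((S₀ : Subgroup H).map H.subtype) ⊓
      Subgroup.centralizer (((S₀ : Subgroup H).map H.subtype : Subgroup X) : Set X))) :
    sylowCenterClosure p H = omegaOne p (((S : Subgroup H).map H.subtype) ⊓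
      Subgroup.centralizer (((S : Subgroup H).map H.subtype : Subgroup X) : Set X)) := by
  rw [sylowCenterClosure_eq_map, ← map_subtype_inf_centralizer, ← omegaOne_map_subtype] at h0 ⊢
  have h1 := Subgroup.map_injective H.subtype_injective h0
  rw [zSyl_eq_all_of_eq_one S₀ h1 S]

theorem critical_pair_vertexZ_ne {X : Type*} [Group X] {p : ℕ} [Fact p.Prime] (M₁ M₂ : Subgroup X)
    (h : Cfsg.IsCharPAmalgamPair p M₁ M₂) (α α' : Cfsg.CosetVertex M₁ M₂)
    (hc : Cfsg.IsCriticalPair p α α') (S : Sylow p ↥(MulAction.stabilizer X α)) :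
    Cfsg.vertexZ p α ≠ Cfsg.omegaOne p
      (((S : Subgroup ↥(MulAction.stabilizer X α)).map (MulAction.stabilizer X α).subtype) ⊓
        Subgroup.centralizer (((S : Subgroup ↥(MulAction.stabilizer X α)).map
          (MulAction.stabilizer X α).subtype : Subgroup X) : Set X)) := by
  intro heq
  have hne := critical_pair_ne h α α' hc
  obtain ⟨β, hadj, hlt⟩ := exists_adj_dist_lt _ (cosetGraph_connected M₁ M₂ h.1.1) hne
  haveI := stab_finite h α
  haveI := stab_finite h β
  haveI : Finite ↥(MulAction.stabilizer X α ⊓ MulAction.stabilizer X β) :=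
    finite_of_le (inf_le_left : MulAction.stabilizer X α ⊓ MulAction.stabilizer X β ≤ _)
  obtain ⟨SE⟩ : Nonempty (Sylow p ↥(MulAction.stabilizer X α ⊓ MulAction.stabilizer X β)) :=
    inferInstance
  obtain ⟨Qα, hQα⟩ := edge_sylow_is_vertex_sylow h α β hadj SE
  have hfacβ := edge_factorization h β α hadj.symm
  rw [inf_comm] at hfacβ
  obtain ⟨Qβ, hQβ⟩ := exists_sylow_map_eq_of_factorization_eq (MulAction.stabilizer X β)
    (MulAction.stabilizer X α ⊓ MulAction.stabilizer X β) inf_le_right hfacβ SE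
  have h1 := sylowCenterClosure_eq_all_of_eq_one (MulAction.stabilizer X α) S Qα heq
  rw [hQα, ← hQβ] at h1
  have h2 : vertexZ p α ≤ vertexZ p β := by
    show sylowCenterClosure p _ ≤ sylowCenterClosure p _
    rw [h1]
    unfold sylowCenterClosure
    exact le_iSup (fun S : Sylow p ↥(MulAction.stabilizer X β) =>
      omegaOne p (((S : Subgroup ↥(MulAction.stabilizer X β)).map
        (MulAction.stabilizer X β).subtype) ⊓ Subgroup.centralizer
          (((S : Subgroup ↥(MulAction.stabilizer X β)).map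
            (MulAction.stabilizer X β).subtype : Subgroup X) : Set X))) Qβ
  have h3 : (cosetGraph M₁ M₂).dist β α' < criticalDistance p M₁ M₂ := by
    rw [← hc.2]; exact hlt
  exact hc.1 (h2.trans (vertexZ_le_neighbourKernel_of_dist_lt β α' h3))

end Cfsg.Agent.Lib.Helper16
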