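import Cfsg.Prelude.Def_Amalgam
import Cfsg.Agent.Lib.Helper16.Amalgam2

set_option autoImplicit false
set_option linter.style.haveILetI false
open Cfsg
open scoped Pointwise commutatorElement

namespace Cfsg.Agent.Lib.Helper16

/-- AMALGAM4 START -/
theorem stab_sup_stab_eq_top {X : Type*} [Group X] {M₁ M₂ : Subgroup X} (hgen : M₁ ⊔ M₂ = ⊤)
    (δ μ : CosetVertex M₁ M₂) (hadj : (cosetGraph M₁ M₂).Adj δ μ) :
    MulAction.stabilizer X δ ⊔ MulAction.stabilizer X μ = ⊤ := by
  rw [cosetGraph_adj_iff] at hadj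
  obtain ⟨x, ⟨rfl, rfl⟩ | ⟨rfl, rfl⟩⟩ := hadj
  · rw [stab_inl, stab_inr, stab_coset, stab_coset, ← Subgroup.map_sup, hgen,
      Subgroup.map_top_of_surjective _ (MulAut.conj x).surjective]
  · rw [stab_inl, stab_inr, stab_coset, stab_coset, ← Subgroup.map_sup, sup_comm, hgen,
      Subgroup.map_top_of_surjective _ (MulAut.conj x).surjective]

theorem normal_le_edge_eq_bot {X : Type*} [Group X] {M₁ M₂ : Subgroup X}
    (h : IsAmalgamPair M₁ M₂)
    (δ μ : CosetVertex M₁ M₂) (hadj : (cosetGraph M₁ M₂).Adj δ μ) (N : Subgroup X) (hNn : N.Normal)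
    (hN : N ≤ MulAction.stabilizer X δ ⊓ MulAction.stabilizer X μ) : N = ⊥ := by
  have hinj : ∀ x : X, Function.Injective (MulAut.conj x).toMonoidHom :=
    fun x => (MulAut.conj x).injective
  have key : ∀ x : X, N ≤ (M₁ ⊓ M₂).map (MulAut.conj x).toMonoidHom → N = ⊥ := by
    intro x hx
    apply h.2.2.2 N _ hNn
    intro n hn
    have h1 : x * n * x⁻¹ ∈ N := hNn.conj_mem n hn x
    obtain ⟨m, hm, hme⟩ := hx h1
    have h2 : m = n := by
      have h3 : x * m * x⁻¹ = x * n * x⁻¹ := hme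
      have h4 : m = x⁻¹ * (x * m * x⁻¹) * x := by group
      rw [h4, h3]; group
    rw [← h2]; exact hm
  rw [cosetGraph_adj_iff] at hadj
  obtain ⟨x, ⟨rfl, rfl⟩ | ⟨rfl, rfl⟩⟩ := hadj
  · rw [stab_inl, stab_inr, stab_coset, stab_coset, ← Subgroup.map_inf_eq _ _ _ (hinj x)] at hN
    exact key x hN
  · rw [stab_inl, stab_inr, stab_coset, stab_coset, ← Subgroup.map_inf_eq _ _ _ (hinj x),
      inf_comm] at hN
    exact key x hN

theorem omegaOne_mono' {X : Type*} [Group X] {p : ℕ} {A B : Subgroup X} (h : A ≤ B) :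
    omegaOne p A ≤ omegaOne p B := by
  unfold omegaOne
  apply Subgroup.closure_mono
  rintro x ⟨hx, hxp⟩
  exact ⟨h hx, hxp⟩

theorem omegaOne_le' {X : Type*} [Group X] {p : ℕ} (A : Subgroup X) : omegaOne p A ≤ A := by
  unfold omegaOne
  rw [Subgroup.closure_le]
  rintro x ⟨hx, -⟩
  exact hx

theorem normalizer_le_normalizer_omegaOne {X : Type*} [Group X] {p : ℕ} (A : Subgroup X) :
    Subgroup.normalizer (A : Set X) ≤ Subgroup.normalizer (omegaOne p A : Set X) := by
  unfold omegaOne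
  rw [Subgroup.le_normalizer_closure_iff]
  rintro g hg x ⟨hx, hxp⟩
  apply Subgroup.subset_closure
  refine ⟨(Subgroup.mem_normalizer_iff.mp hg x).mp hx, ?_⟩
  rw [conj_pow, hxp]; group

theorem normalizer_le_normalizer_inf_centralizer {X : Type*} [Group X] (K : Subgroup X) :
    Subgroup.normalizer (K : Set X) ≤
      Subgroup.normalizer ((K ⊓ Subgroup.centralizer (K : Set X) : Subgroup X) : Set X) := by
  rw [Subgroup.le_normalizer_iff]
  intro g hg c hc
  refine Subgroup.mem_inf.mpr ⟨(Subgroup.mem_normalizer_iff.mp hg c).mp hc.1, ?_⟩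
  rw [Subgroup.mem_centralizer_iff]
  intro k hk
  have hk' : g⁻¹ * k * g ∈ K := by
    have := (Subgroup.mem_normalizer_iff.mp (Subgroup.inv_mem _ hg) k).mp hk
    simpa using this
  have h1 := (Subgroup.mem_centralizer_iff.mp hc.2) _ hk'
  calc k * (g * c * g⁻¹) = g * ((g⁻¹ * k * g) * c) * g⁻¹ := by group
    _ = g * (c * (g⁻¹ * k * g)) * g⁻¹ := by rw [h1]
    _ = g * c * g⁻¹ * k := by group

theorem eq_bot_of_omegaOne_eq_bot {X : Type*} [Group X] {p : ℕ} {C : Subgroup X}
    (hC : IsPGroup p C) (h : omegaOne p C = ⊥) : C = ⊥ := by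
  rw [Subgroup.eq_bot_iff_forall]
  intro c hc
  by_contra hne
  have hex : ∃ k : ℕ, c ^ (p ^ k) = 1 := by
    obtain ⟨k, hk⟩ := hC ⟨c, hc⟩
    exact ⟨k, by simpa using congrArg Subtype.val hk⟩
  classical
  have hk0 : Nat.find hex ≠ 0 := by
    intro h0
    have := Nat.find_spec hex
    rw [h0, pow_zero, pow_one] at this
    exact hne this
  obtain ⟨m, hm⟩ := Nat.exists_eq_succ_of_ne_zero hk0
  have hd : c ^ (p ^ m) ≠ 1 := Nat.find_min hex (by omega)
  apply hd
  have hmem : c ^ (p ^ m) ∈ omegaOne p C := by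
    apply Subgroup.subset_closure
    refine ⟨C.pow_mem hc _, ?_⟩
    rw [← pow_mul, ← pow_succ, ← Nat.succ_eq_add_one, ← hm]
    exact Nat.find_spec hex
  rw [h] at hmem
  exact Subgroup.mem_bot.mp hmem


/-- S2749 -/
theorem center_pElementClosure_eq_bot {X : Type*} [Group X] {p : ℕ} [Fact p.Prime]
    (M₁ M₂ : Subgroup X) (h : Cfsg.IsCharPAmalgamPair p M₁ M₂) (α β : Cfsg.CosetVertex M₁ M₂)
    (hadj : (Cfsg.cosetGraph M₁ M₂).Adj α β)
    (S : Sylow p ↥(Cfsg.edgeStabilizer α β)) (L : Subgroup X)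
    (hLc : L ≤ Subgroup.centralizer (Cfsg.omegaOne p
      (((S : Subgroup ↥(Cfsg.edgeStabilizer α β)).map (Cfsg.edgeStabilizer α β).subtype) ⊓
        Subgroup.centralizer (((S : Subgroup ↥(Cfsg.edgeStabilizer α β)).map
          (Cfsg.edgeStabilizer α β).subtype : Subgroup X) : Set X)) : Set X))
    (hLt : ∀ ν ν' : Cfsg.CosetVertex M₁ M₂, (Cfsg.cosetGraph M₁ M₂).Adj β ν →
      (Cfsg.cosetGraph M₁ M₂).Adj β ν' → ∃ g ∈ L, g • ν = ν') :
    Subgroup.center ↥(Cfsg.pElementClosure p (MulAction.stabilizer X α)) = ⊥ := by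
  set Gα := MulAction.stabilizer X α with hGα
  set Gβ := MulAction.stabilizer X β with hGβ
  set K := pElementClosure p Gα with hK
  set T := (S : Subgroup ↥(Cfsg.edgeStabilizer α β)).map (Cfsg.edgeStabilizer α β).subtype with hT
  set C := K ⊓ Subgroup.centralizer (K : Set X) with hC
  have hKG : K ≤ Gα := by
    rw [hK]; unfold pElementClosure; rw [Subgroup.closure_le]; rintro x ⟨hx, -⟩; exact hx
  have hpK : ∀ P : Subgroup X, P ≤ Gα → IsPGroup p P → P ≤ K := by
    intro P hP hPp x hx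
    apply Subgroup.subset_closure
    refine ⟨hP hx, ?_⟩
    obtain ⟨k, hk⟩ := (IsPGroup.iff_orderOf.mp hPp) ⟨x, hx⟩
    exact ⟨k, by rw [← hk, Subgroup.orderOf_mk]⟩
  have hQp : IsPGroup p (vertexQ p α) := (pCore_isPGroup (G := ↥Gα) (p := p)).map _
  have hQK : vertexQ p α ≤ K := hpK _ (Subgroup.map_subtype_le _) hQp
  have hTE : T ≤ Gα ⊓ Gβ := Subgroup.map_subtype_le _
  have hTp : IsPGroup p T := S.isPGroup'.map _
  have hTK : T ≤ K := hpK T (hTE.trans inf_le_left) hTp
  have hCQ : C ≤ vertexQ p α := by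
    intro c hc
    have hcG : c ∈ Gα := hKG hc.1
    have h1 : (⟨c, hcG⟩ : Gα) ∈ Subgroup.centralizer (pCore p Gα : Set Gα) := by
      rw [Subgroup.mem_centralizer_iff]
      intro q hq
      apply Subtype.ext
      have : (q : X) ∈ K := hQK ⟨q, hq, rfl⟩
      exact (Subgroup.mem_centralizer_iff.mp hc.2) _ this
    exact ⟨⟨c, hcG⟩, stab_charP h α h1, rfl⟩
  have hQT : vertexQ p α ≤ T := by
    obtain ⟨Q, hQ⟩ := edge_sylow_is_vertex_sylow h α β hadj S
    rw [hT, ← hQ]
    exact Subgroup.map_mono (pCore_le_sylow Q)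
  have hCT : C ≤ T ⊓ Subgroup.centralizer (T : Set X) := by
    apply le_inf (hCQ.trans hQT)
    exact inf_le_right.trans (Subgroup.centralizer_le hTK)
  set A := omegaOne p C with hA
  have hAle : A ≤ omegaOne p (T ⊓ Subgroup.centralizer (T : Set X)) := omegaOne_mono' hCT
  have hLA : L ≤ Subgroup.centralizer (A : Set X) := hLc.trans (Subgroup.centralizer_le hAle)
  have hGK : Gα ≤ Subgroup.normalizer (K : Set X) := by
    rw [hK]; unfold pElementClosure
    rw [Subgroup.le_normalizer_closure_iff]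
    rintro g hg x ⟨hx, k, hk⟩
    apply Subgroup.subset_closure
    refine ⟨Gα.mul_mem (Gα.mul_mem hg hx) (Gα.inv_mem hg), k, ?_⟩
    rw [← hk]
    exact orderOf_injective (MulAut.conj g).toMonoidHom (MulAut.conj g).injective x
  have hGA : Gα ≤ Subgroup.normalizer (A : Set X) :=
    (hGK.trans (normalizer_le_normalizer_inf_centralizer K)).trans
      (normalizer_le_normalizer_omegaOne C)
  have hβ : Gβ ≤ L ⊔ Gα := by
    intro g hg
    have h1 : (cosetGraph M₁ M₂).Adj β (g • α) := by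
      have := cosetGraph_adj_smul M₁ M₂ g hadj.symm
      rwa [MulAction.mem_stabilizer_iff.mp hg] at this
    obtain ⟨l, hl, hlα⟩ := hLt α (g • α) hadj.symm h1
    have h2 : l⁻¹ * g ∈ Gα := by
      rw [MulAction.mem_stabilizer_iff, mul_smul, ← hlα, inv_smul_smul]
    have : g = l * (l⁻¹ * g) := by group
    rw [this]
    exact Subgroup.mul_mem _ (Subgroup.mem_sup_left hl) (Subgroup.mem_sup_right h2)
  have htop : L ⊔ Gα = ⊤ := by
    rw [eq_top_iff, ← stab_sup_stab_eq_top h.1.1 α β hadj]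
    exact sup_le le_sup_right hβ
  have hAn : A.Normal := by
    rw [← Subgroup.normalizer_eq_top_iff, eq_top_iff, ← htop]
    exact sup_le (hLA.trans (Subgroup.centralizer_le_normalizer _)) hGA
  have hAbot : A = ⊥ := normal_le_edge_eq_bot h.1 α β hadj A hAn
    (((omegaOne_le' C).trans (hCT.trans inf_le_left)).trans hTE)
  have hCp : IsPGroup p C := hQp.to_le hCQ
  have hCbot : C = ⊥ := eq_bot_of_omegaOne_eq_bot hCp hAbot
  have h9 := Cfsg.Agent.Lib.Helper9.map_subtype_center K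
  rw [← hC, hCbot] at h9
  exact (Subgroup.map_eq_bot_iff_of_injective _ K.subtype_injective).mp h9

end Cfsg.Agent.Lib.Helper16
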