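import Cfsg.Agent.Lib.Helper16.Minimal2

set_option autoImplicit false
open Cfsg
open scoped Pointwise commutatorElement

namespace Cfsg.Agent.Lib.Helper16

variable {G : Type*} [Group G] {p : ℕ}

theorem pResidual_eq_OpOf_top : pResidual p G = OpOf p (⊤ : Subgroup G) := by
  unfold pResidual OpOf
  congr 1
  ext g
  simp

/-- A subgroup containing a Sylow `p`-subgroup and `O^p(G)` is everything. -/
theorem eq_top_of_sylow_le_of_pResidual_le [Finite G] [Fact p.Prime] (T : Sylow p G)
    {K : Subgroup G} (hTK : (T : Subgroup G) ≤ K) (hXK : pResidual p G ≤ K) : K = ⊤ := by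
  have hp : p.Prime := Fact.out
  -- index of K divides index of T (coprime to p) and index of O^p(G) (a power of p)
  have h1 : K.index ∣ (T : Subgroup G).index := Subgroup.index_dvd_of_le hTK
  have h2 : K.index ∣ (pResidual p G).index := Subgroup.index_dvd_of_le hXK
  have hquot : IsPGroup p (G ⧸ pResidual p G) := by
    intro q
    obtain ⟨g, rfl⟩ := QuotientGroup.mk_surjective q
    obtain ⟨b, hb⟩ := exists_pow_mem_OpOf (p := p) (⊤ : Subgroup G) (Subgroup.mem_top g)
    rw [← pResidual_eq_OpOf_top] at hb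
    refine ⟨b, ?_⟩
    rw [← QuotientGroup.mk_pow, QuotientGroup.eq_one_iff]
    exact hb
  obtain ⟨n, hn⟩ := IsPGroup.iff_card.mp hquot
  have h3 : (pResidual p G).index = p ^ n := by rw [Subgroup.index_eq_card]; exact hn
  rw [h3] at h2
  obtain ⟨m, -, hm⟩ := (Nat.dvd_prime_pow hp).mp h2
  rw [← Subgroup.index_eq_one]
  rcases Nat.eq_zero_or_pos m with h0 | hpos
  · rw [hm, h0, pow_zero]
  · exfalso
    have : p ∣ K.index := by rw [hm]; exact dvd_pow_self p hpos.ne'
    exact T.not_dvd_index (this.trans h1)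


/-- If a normal subgroup `K` is `p`-closed then every `p`-subgroup of `K` lies in `O_p(G)`. -/
theorem le_pCore_of_pClosed_normal [Finite G] [Fact p.Prime] {K : Subgroup G} [hK : K.Normal]
    (hcl : IsPClosed p ↥K) {Y : Subgroup G} (hYK : Y ≤ K) (hYp : IsPGroup p Y) :
    Y ≤ pCore p G := by
  obtain ⟨P, hP⟩ := (hYp.comap_subtype : IsPGroup p (Y.subgroupOf K)).exists_le_sylow
  have hPn : (P : Subgroup K).Normal := hcl P
  have hPc : (P : Subgroup K).Characteristic := Sylow.characteristic_of_normal P hPn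
  have hPn' : ((P : Subgroup K).map K.subtype).Normal := inferInstance
  have h1 : (P : Subgroup K).map K.subtype ≤ pCore p G := le_pCore hPn' (P.isPGroup'.map _)
  intro y hy
  exact h1 ⟨⟨y, hYK hy⟩, hP (by rw [Subgroup.mem_comap]; exact hy), rfl⟩

theorem pIrreducible_facts [Finite G] [Fact p.Prime] (hH : Cfsg.IsPIrreducible p G) (T : Sylow p G) : Subgroup.normalClosure ((T : Subgroup G) : Set G) = ⊤ ∧ commutator G ⊔ (T : Subgroup G) = ⊤ ∧ Cfsg.pResidual p G ≤ commutator G ∧ ∀ Y : Subgroup G, Y ≤ (T : Subgroup G) → (T : Subgroup G) ≤ Subgroup.normalizer (Y : Set G) → ¬ Y ≤ Cfsg.pCore p G → ⁅Cfsg.pResidual p G, Y⁆ = Cfsg.pResidual p G ∧ Cfsg.pResidual p G ≤ Subgroup.normalClosure (Y : Set G) := by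
  obtain ⟨hncl, hirr⟩ := hH
  -- T is not contained in O_p(G)
  have hTO : ¬ (T : Subgroup G) ≤ pCore p G := by
    intro h
    apply hncl
    have hTeq : (T : Subgroup G) = pCore p G := le_antisymm h (pCore_le_sylow T)
    have hTn : (T : Subgroup G).Normal := by rw [hTeq]; infer_instance
    intro P
    have := Sylow.unique_of_normal T hTn
    rw [Subsingleton.elim P T]; exact hTn
  -- a normal subgroup containing a p-subgroup Y ≰ O_p(G) contains O^p(G)
  have hkey : ∀ (K : Subgroup G) (Y : Subgroup G), K.Normal → Y ≤ K → IsPGroup p Y →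
      ¬ Y ≤ pCore p G → pResidual p G ≤ K := by
    intro K Y hK hYK hYp hYO
    apply hirr K hK
    intro hcl
    exact hYO (le_pCore_of_pClosed_normal hcl hYK hYp)
  have h1 : Subgroup.normalClosure ((T : Subgroup G) : Set G) = ⊤ := by
    apply eq_top_of_sylow_le_of_pResidual_le T Subgroup.le_normalClosure
    exact hkey _ T Subgroup.normalClosure_normal Subgroup.le_normalClosure T.isPGroup' hTO
  have hcn : (commutator G ⊔ (T : Subgroup G)).Normal :=
    Subgroup.Normal.of_commutator_le G le_sup_left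
  have h2 : commutator G ⊔ (T : Subgroup G) = ⊤ := by
    rw [eq_top_iff, ← h1]
    exact Subgroup.normalClosure_le_normal (N := commutator G ⊔ (T : Subgroup G)) (SetLike.coe_subset_coe.mpr le_sup_right)
  have h3 : pResidual p G ≤ commutator G := by
    unfold pResidual
    rw [Subgroup.closure_le]
    intro g hg
    have hTN : (T : Subgroup G) ≤ Subgroup.normalizer ((commutator G : Subgroup G) : Set G) := by
      rw [Subgroup.normalizer_eq_top]; exact le_top
    have hg' : g ∈ ((commutator G ⊔ (T : Subgroup G) : Subgroup G) : Set G) := by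
      rw [h2]; trivial
    rw [Subgroup.coe_mul_of_right_le_normalizer_left (commutator G) T hTN] at hg'
    obtain ⟨b, hb, a, ha, rfl⟩ := hg'
    exact mul_mem_of_coprime hb (hTN ha) (exists_pow_eq_one_of_isPGroup T.isPGroup' ha) hg
  refine ⟨h1, h2, h3, ?_⟩
  intro Y hYT hTY hYO
  have hYp : IsPGroup p Y := T.isPGroup'.to_le hYT
  set X : Subgroup G := pResidual p G with hX
  have hXn : X.Normal := inferInstance
  have h4b : X ≤ Subgroup.normalClosure (Y : Set G) :=
    hkey _ Y Subgroup.normalClosure_normal Subgroup.le_normalClosure hYp hYO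
  refine ⟨?_, h4b⟩
  apply le_antisymm (Subgroup.commutator_le_left X Y)
  set M : Subgroup G := ⁅X, Y⁆ with hM
  have hXM : X ≤ Subgroup.normalizer (M : Set G) := Subgroup.normalizer_commutator_ge_left X Y
  have hYM : Y ≤ Subgroup.normalizer (M : Set G) := Subgroup.normalizer_commutator_ge_right X Y
  -- D = M ⊔ Y is normal in G
  have hXD : X ≤ Subgroup.normalizer ((M ⊔ Y : Subgroup G) : Set G) := by
    intro x hx
    apply mem_normalizer_of_map_conj_le
    rw [Subgroup.map_sup]
    apply sup_le
    · have e : M.map (MulAut.conj x).toMonoidHom = M :=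
        Subgroup.mem_normalizer_iff_map_conj_eq.mp (hXM hx)
      rw [e]; exact le_sup_left
    · rintro _ ⟨y, hy, rfl⟩
      simp only [MulEquiv.coe_toMonoidHom, MulAut.conj_apply]
      have e : x * y * x⁻¹ = ⁅x, y⁆ * y := by rw [commutatorElement_def]; group
      rw [e]
      exact Subgroup.mul_mem _ (Subgroup.mem_sup_left (Subgroup.commutator_mem_commutator hx hy))
        (Subgroup.mem_sup_right hy)
  have hTD : (T : Subgroup G) ≤ Subgroup.normalizer ((M ⊔ Y : Subgroup G) : Set G) := by
    intro t ht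
    apply mem_normalizer_of_map_conj_le
    have hXt : X.map (MulAut.conj t).toMonoidHom = X :=
      Subgroup.mem_normalizer_iff_map_conj_eq.mp (by rw [Subgroup.normalizer_eq_top]; trivial)
    have hYt : Y.map (MulAut.conj t).toMonoidHom = Y :=
      Subgroup.mem_normalizer_iff_map_conj_eq.mp (hTY ht)
    rw [Subgroup.map_sup, hM, Subgroup.map_commutator, hXt, hYt]
  have hDn : (M ⊔ Y : Subgroup G).Normal := by
    rw [← Subgroup.normalizer_eq_top_iff]
    exact eq_top_of_sylow_le_of_pResidual_le T hTD hXD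
  have hXD' : X ≤ M ⊔ Y :=
    h4b.trans (Subgroup.normalClosure_le_normal (N := M ⊔ Y) (SetLike.coe_subset_coe.mpr le_sup_right))
  conv_lhs => rw [hX]
  unfold pResidual
  rw [Subgroup.closure_le]
  intro g hg
  have hgX : g ∈ X := Subgroup.subset_closure hg
  have hg' : g ∈ ((M ⊔ Y : Subgroup G) : Set G) := hXD' hgX
  rw [Subgroup.coe_mul_of_right_le_normalizer_left M Y hYM] at hg'
  obtain ⟨b, hb, a, ha, rfl⟩ := hg'
  exact mul_mem_of_coprime hb (hYM ha) (exists_pow_eq_one_of_isPGroup hYp ha) hg

end Cfsg.Agent.Lib.Helper16
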