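/-
Helper16 library: relative trace with control of the commutator part, and
`C_H(Ω₁Z(T)) = C_H([V, O^p(H)] ∩ Ω₁Z(T))` (S2826).
-/
import Mathlib
import Cfsg.Prelude.Def_Transfer
import Cfsg.Prelude.Def_PLocal
import Cfsg.Agent.Lib.Helper16.Trace
import Cfsg.Agent.Lib.Helper16.Irreducible
import Cfsg.Agent.Lib.Helper8.SupNormalizer

set_option autoImplicit false
set_option linter.style.haveILetI false
open Cfsg
open scoped Pointwise commutatorElement

namespace Cfsg.Agent.Lib.Helper16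

section Trace2

variable {G : Type*} [Group G]

/-- relative trace, with control of the commutator part: for `v ∈ C_V(T)`, `R ≤ N(V)`, `V` abelian,
and a subgroup `W` containing all `[r, v]`, `r ∈ R`, there are `c ∈ C_V(R)` and `w ∈ W ⊓ V` with
`c = w * v ^ |R : T ∩ R|`. -/
theorem exists_trace' [Finite G] (V R T : Subgroup G) (hVc : ∀ a ∈ V, ∀ b ∈ V, a * b = b * a)
    (hRV : R ≤ Subgroup.normalizer (V : Set G)) (v : G) (hv : v ∈ V)
    (hvT : v ∈ Subgroup.centralizer (T : Set G)) (W : Subgroup G)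
    (hW : ∀ r ∈ R, r * v * r⁻¹ * v⁻¹ ∈ W) :
    ∃ c ∈ V ⊓ Subgroup.centralizer (R : Set G), ∃ w ∈ W ⊓ V, c = w * v ^ (T.relIndex R) := by
  classical
  letI : CommGroup ↥V :=
    { (inferInstance : Group ↥V) with
      mul_comm := fun a b => Subtype.ext (hVc a a.2 b b.2) }
  set T' : Subgroup ↥R := T.subgroupOf R with hT'
  letI : Fintype (↥R ⧸ T') := Fintype.ofFinite _
  have hconj : ∀ r ∈ R, ∀ x ∈ V, r * x * r⁻¹ ∈ V := fun r hr x hx =>
    (Subgroup.mem_normalizer_iff.mp (hRV hr) x).mp hx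
  let f : (↥R ⧸ T') → ↥V := fun q => ⟨(q.out : G) * v * (q.out : G)⁻¹, hconj _ q.out.2 v hv⟩
  set c : ↥V := ∏ q, f q with hc
  have hfix : ∀ r ∈ R, r * (c : G) * r⁻¹ = (c : G) := by
    intro r hr
    let φ : ↥V →* ↥V :=
      { toFun := fun x => ⟨r * (x : G) * r⁻¹, hconj r hr x x.2⟩
        map_one' := by apply Subtype.ext; simp
        map_mul' := by intro a b; apply Subtype.ext; simp }
    have h1 : φ c = ∏ q, φ (f q) := map_prod φ f Finset.univ
    have h2 : ∀ q, φ (f q) = f ((⟨r, hr⟩ : ↥R) • q) := by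
      intro q
      apply Subtype.ext
      show r * ((q.out : G) * v * (q.out : G)⁻¹) * r⁻¹ =
        ((((⟨r, hr⟩ : ↥R) • q).out : ↥R) : G) * v * ((((⟨r, hr⟩ : ↥R) • q).out : ↥R) : G)⁻¹
      set a : ↥R := ((⟨r, hr⟩ : ↥R) • q).out with ha
      set b : ↥R := (⟨r, hr⟩ : ↥R) * q.out with hb
      have hab : (QuotientGroup.mk a : ↥R ⧸ T') = QuotientGroup.mk b := by
        rw [ha, QuotientGroup.out_eq', hb]
        conv_lhs => rw [← QuotientGroup.out_eq' q]
        rfl
      have hmem : a⁻¹ * b ∈ T' := QuotientGroup.eq.mp hab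
      have hmem' : (a : G)⁻¹ * (b : G) ∈ T := by
        have := Subgroup.mem_subgroupOf.mp hmem
        simpa using this
      have hcomm : ((a : G)⁻¹ * (b : G)) * v = v * ((a : G)⁻¹ * (b : G)) :=
        ((Subgroup.mem_centralizer_iff.mp hvT) _ hmem')
      have hbG : (b : G) = r * (q.out : G) := rfl
      have e1 : r * ((q.out : G) * v * (q.out : G)⁻¹) * r⁻¹ = (b : G) * v * (b : G)⁻¹ := by
        rw [hbG]; group
      have e2 : (b : G) * v * (b : G)⁻¹ =
          (a : G) * (((a : G)⁻¹ * (b : G)) * v) * ((a : G)⁻¹ * (b : G))⁻¹ * (a : G)⁻¹ := by group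
      rw [e1, e2, hcomm]; group
    have h3 : ∏ q, φ (f q) = ∏ q, f q := by
      simp_rw [h2]
      exact Equiv.prod_comp (MulAction.toPerm (⟨r, hr⟩ : ↥R)) f
    have h4 : φ c = c := by rw [h1, h3]
    exact congrArg Subtype.val h4
  refine ⟨(c : G), Subgroup.mem_inf.mpr ⟨c.2, ?_⟩, ?_⟩
  · rw [Subgroup.mem_centralizer_iff]
    intro r hr
    have := hfix r hr
    calc r * (c : G) = (r * (c : G) * r⁻¹) * r := by group
      _ = (c : G) * r := by rw [this]
  · let v' : ↥V := ⟨v, hv⟩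
    let g : (↥R ⧸ T') → ↥V := fun q => f q * v'⁻¹
    have hfg : ∀ q, f q = g q * v' := fun q => by simp [g]
    have hprod : c = (∏ q, g q) * v' ^ (Fintype.card (↥R ⧸ T')) := by
      rw [hc]
      simp_rw [hfg]
      rw [Finset.prod_mul_distrib, Finset.prod_const, Finset.card_univ]
    have hcard : Fintype.card (↥R ⧸ T') = T.relIndex R := by
      rw [← Nat.card_eq_fintype_card]; rfl
    have hgmem : ∏ q, g q ∈ W.subgroupOf V := by
      apply Subgroup.prod_mem
      intro q _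
      rw [Subgroup.mem_subgroupOf]
      show (q.out : G) * v * (q.out : G)⁻¹ * v⁻¹ ∈ W
      exact hW _ q.out.2
    refine ⟨((∏ q, g q : ↥V) : G), ⟨Subgroup.mem_subgroupOf.mp hgmem, (∏ q, g q : ↥V).2⟩, ?_⟩
    rw [← hcard]
    have := congrArg Subtype.val hprod
    simpa using this

/-- if `y ^ p = 1`, `m` is prime to `p` and `c` commutes with `y ^ m`, then `c` commutes with `y`. -/
theorem commute_of_commute_pow_coprime {p : ℕ} (hp : p.Prime) {y c : G} (hy : y ^ p = 1) {m : ℕ}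
    (hm : m.Coprime p) (h : c * y ^ m = y ^ m * c) : c * y = y * c := by
  obtain ⟨k, -, hk⟩ := Nat.exists_mul_mod_eq_one_of_coprime hm hp.one_lt
  have h1 : y ^ (m * k) = y := by
    conv_lhs => rw [← Nat.div_add_mod (m * k) p, hk, pow_add, pow_mul, hy, one_pow, one_mul, pow_one]
  have h2 : c * (y ^ m) ^ k = (y ^ m) ^ k * c := by
    have : Commute c (y ^ m) := h
    exact (this.pow_right k).eq
  rwa [← pow_mul, h1] at h2

/-- `Ω₁Z(T)` is centralized by `T`. -/
theorem omegaOne_center_le_centralizer (p : ℕ) (T : Subgroup G) :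
    Cfsg.omegaOne p (T ⊓ Subgroup.centralizer (T : Set G)) ≤ Subgroup.centralizer (T : Set G) := by
  unfold Cfsg.omegaOne
  rw [Subgroup.closure_le]
  rintro x ⟨hx, -⟩
  exact hx.2

/-- S2826: `C_H(Ω₁Z(T)) = C_H([V, O^p(H)] ∩ Ω₁Z(T))` for `Ω₁Z(T) ≤ V ⊴ H` elementary abelian. -/
theorem centralizer_omegaOne_center_eq [Finite G] {p : ℕ} [hpp : Fact p.Prime] (T : Sylow p G)
    (V : Subgroup G) [hVn : V.Normal] (hV : Cfsg.IsElementaryAbelian p V)
    (hZV : Cfsg.omegaOne p ((T : Subgroup G) ⊓ Subgroup.centralizer ((T : Subgroup G) : Set G)) ≤ V) :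
    Subgroup.centralizer
        ((Cfsg.omegaOne p ((T : Subgroup G) ⊓ Subgroup.centralizer ((T : Subgroup G) : Set G)) :
          Subgroup G) : Set G) =
      Subgroup.centralizer (((⁅V, Cfsg.pResidual p G⁆ ⊓
        Cfsg.omegaOne p ((T : Subgroup G) ⊓ Subgroup.centralizer ((T : Subgroup G) : Set G)) :
          Subgroup G)) : Set G) := by
  have hp : p.Prime := hpp.out
  set Z : Subgroup G :=
    Cfsg.omegaOne p ((T : Subgroup G) ⊓ Subgroup.centralizer ((T : Subgroup G) : Set G)) with hZ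
  set R : Subgroup G := Cfsg.pResidual p G with hR
  set Z₁ : Subgroup G := ⁅V, R⁆ ⊓ Z with hZ₁
  set C : Subgroup G := Subgroup.centralizer (Z₁ : Set G) with hC
  apply le_antisymm
  · exact Subgroup.centralizer_le (by intro x hx; exact hx.2)
  -- main direction
  have hZT : Z ≤ Subgroup.centralizer ((T : Subgroup G) : Set G) :=
    omegaOne_center_le_centralizer p _
  have hTZ : (T : Subgroup G) ≤ Subgroup.centralizer (Z : Set G) := by
    intro t ht
    rw [Subgroup.mem_centralizer_iff]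
    intro z hz
    exact ((Subgroup.mem_centralizer_iff.mp (hZT hz)) t ht).symm
  have hTC : (T : Subgroup G) ≤ C :=
    hTZ.trans (Subgroup.centralizer_le (by intro x hx; exact hx.2))
  have hVc : ∀ a ∈ V, ∀ b ∈ V, a * b = b * a := by
    intro a ha b hb
    have := hV.1.is_comm.comm (⟨a, ha⟩ : ↥V) ⟨b, hb⟩
    exact congrArg Subtype.val this
  have hCV : C ≤ Subgroup.normalizer (V : Set G) := by
    rw [Subgroup.normalizer_eq_top_iff.mpr hVn]; exact le_top
  have hVpg : IsPGroup p ↥V := by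
    intro x
    refine ⟨1, ?_⟩
    apply Subtype.ext
    rw [pow_one]
    exact hV.2 x x.2
  have hVT : V ≤ (T : Subgroup G) := hVpg.le_sylow_of_normal T
  have htop : R ⊔ (T : Subgroup G) = ⊤ :=
    eq_top_of_sylow_le_of_pResidual_le T le_sup_right le_sup_left
  have hTR : (T : Subgroup G) ≤ Subgroup.normalizer (R : Set G) := by
    rw [Subgroup.normalizer_eq_top_iff.mpr (inferInstance : R.Normal)]; exact le_top
  have hm : (((T : Subgroup G).relIndex C)).Coprime p := by
    have h1 : (T : Subgroup G).relIndex C ∣ (T : Subgroup G).index :=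
      Subgroup.relIndex_dvd_index_of_le hTC
    have h2 : ¬ p ∣ (T : Subgroup G).relIndex C := fun h => T.not_dvd_index (h.trans h1)
    exact ((Nat.Prime.coprime_iff_not_dvd hp).mpr h2).symm
  intro c hc
  rw [Subgroup.mem_centralizer_iff]
  intro y hy
  have hyV : y ∈ V := hZV hy
  have hyT : y ∈ Subgroup.centralizer ((T : Subgroup G) : Set G) := hZT hy
  have hW : ∀ r ∈ C, r * y * r⁻¹ * y⁻¹ ∈ ⁅V, R⁆ := by
    intro r _
    have hr : r ∈ R ⊔ (T : Subgroup G) := by rw [htop]; exact Subgroup.mem_top r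
    obtain ⟨r₁, hr₁, t, ht, rfl⟩ := Cfsg.Agent.Lib.Helper8.mem_sup_of_le_normalizer hTR hr
    have hty : t * y = y * t := ((Subgroup.mem_centralizer_iff.mp hyT) t ht)
    have e : r₁ * t * y * (r₁ * t)⁻¹ * y⁻¹ = ⁅r₁, y⁆ := by
      rw [commutatorElement_def]
      have : r₁ * t * y * (r₁ * t)⁻¹ = r₁ * (t * y) * t⁻¹ * r₁⁻¹ := by group
      rw [this, hty]; group
    rw [e, Subgroup.commutator_comm]
    exact Subgroup.commutator_mem_commutator hr₁ hyV
  obtain ⟨c₀, hc₀, w, hw, hcw⟩ := exists_trace' V C (T : Subgroup G) hVc hCV y hyV hyT ⁅V, R⁆ hW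
  -- `w ∈ Z₁`
  have hc₀T : c₀ ∈ Subgroup.centralizer ((T : Subgroup G) : Set G) :=
    Subgroup.centralizer_le hTC hc₀.2
  have hwe : w = c₀ * (y ^ ((T : Subgroup G).relIndex C))⁻¹ := by rw [hcw]; group
  have hwT : w ∈ Subgroup.centralizer ((T : Subgroup G) : Set G) := by
    rw [hwe]
    exact Subgroup.mul_mem _ hc₀T (Subgroup.inv_mem _ (Subgroup.pow_mem _ hyT _))
  have hwZ : w ∈ Z := by
    apply Subgroup.subset_closure
    exact ⟨⟨hVT hw.2, hwT⟩, hV.2 w hw.2⟩
  have hwZ₁ : w ∈ Z₁ := ⟨hw.1, hwZ⟩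
  have h1 : w * c = c * w := (Subgroup.mem_centralizer_iff.mp hc) w hwZ₁
  have h2 : c * c₀ = c₀ * c := (Subgroup.mem_centralizer_iff.mp hc₀.2) c hc
  have h3 : c * y ^ ((T : Subgroup G).relIndex C) = y ^ ((T : Subgroup G).relIndex C) * c := by
    have e : y ^ ((T : Subgroup G).relIndex C) = w⁻¹ * c₀ := by rw [hcw]; group
    rw [e]
    calc c * (w⁻¹ * c₀) = w⁻¹ * (w * c) * w⁻¹ * c₀ := by group
      _ = w⁻¹ * (c * w) * w⁻¹ * c₀ := by rw [h1]
      _ = w⁻¹ * (c * c₀) := by group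
      _ = w⁻¹ * (c₀ * c) := by rw [h2]
      _ = w⁻¹ * c₀ * c := by group
  exact (commute_of_commute_pow_coprime hp (hV.2 y hyV) hm h3).symm

end Trace2

end Cfsg.Agent.Lib.Helper16
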