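/-
Helper16 library: the relative trace as a function (multiplicative, equivariant), the fixed point
lemma `C_V(S) ≤ C_V(R) ⇒ C_V(T) ≤ C_V(R)`, and `C_L(Ω₁Z(T)) = C_L(Ω₁Z(T ∩ L))` for subnormal `L`
in a group of characteristic `p` (S2805).
-/
import Mathlib
import Cfsg.Prelude.Def_Transfer
import Cfsg.Prelude.Def_PLocal
import Cfsg.Prelude.Def_Amalgam
import Cfsg.Prelude.Def_Solvable
import Cfsg.Agent.Lib.Helper16.Trace2
import Cfsg.Agent.Lib.Helper16.PCore
import Cfsg.Agent.Lib.Helper18.Basic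
import Cfsg.Agent.Lib.Helper1.Coprime
import Cfsg.Agent.Lib.Helper16.Amalgam3
import Cfsg.Agent.Lib.Helper16.Large2
import Cfsg.Agent.Lib.Helper9.Components
import Cfsg.Agent.Lib.Helper4.Basic

set_option autoImplicit false
set_option linter.style.haveILetI false
open Cfsg
open scoped Pointwise commutatorElement

namespace Cfsg.Agent.Lib.Helper16

section Trace3

variable {G : Type*} [Group G]

/-- the commutative group structure on a commutative subgroup. -/
@[reducible] def commGroupOfComm (V : Subgroup G) (hVc : ∀ a ∈ V, ∀ b ∈ V, a * b = b * a) :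
    CommGroup ↥V :=
  { (inferInstance : Group ↥V) with
    mul_comm := fun a b => Subtype.ext (hVc a a.2 b b.2) }

/-- conjugation by an element normalizing `V`, as an endomorphism of `↥V`. -/
def conjOn (V : Subgroup G) (r : G) (hr : r ∈ Subgroup.normalizer (V : Set G)) : ↥V →* ↥V where
  toFun x := ⟨r * (x : G) * r⁻¹, (Subgroup.mem_normalizer_iff.mp hr x).mp x.2⟩
  map_one' := by apply Subtype.ext; simp
  map_mul' a b := by apply Subtype.ext; simp

@[simp] theorem conjOn_coe (V : Subgroup G) (r : G) (hr : r ∈ Subgroup.normalizer (V : Set G))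
    (x : ↥V) : ((conjOn V r hr x : ↥V) : G) = r * (x : G) * r⁻¹ := rfl

/-- the relative trace (norm) map from `T`-fixed points to `R`-fixed points of `V`. -/
noncomputable def traceFun [Finite G] (V R T : Subgroup G)
    (hVc : ∀ a ∈ V, ∀ b ∈ V, a * b = b * a)
    (hRV : R ≤ Subgroup.normalizer (V : Set G)) (y : ↥V) : ↥V :=
  letI : CommGroup ↥V := commGroupOfComm V hVc
  letI : Fintype (↥R ⧸ T.subgroupOf R) := Fintype.ofFinite _
  ∏ q : ↥R ⧸ T.subgroupOf R, conjOn V ((q.out : ↥R) : G) (hRV q.out.2) y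

/-- the conjugate of a `T`-fixed element depends only on the coset modulo `T`. -/
theorem conjOn_eq_of_mem (V T : Subgroup G) (r r' : G)
    (hr : r ∈ Subgroup.normalizer (V : Set G)) (hr' : r' ∈ Subgroup.normalizer (V : Set G))
    (h : r⁻¹ * r' ∈ T) (y : ↥V) (hy : (y : G) ∈ Subgroup.centralizer (T : Set G)) :
    conjOn V r hr y = conjOn V r' hr' y := by
  apply Subtype.ext
  show r * (y : G) * r⁻¹ = r' * (y : G) * r'⁻¹
  have hcomm : (r⁻¹ * r') * (y : G) = (y : G) * (r⁻¹ * r') :=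
    (Subgroup.mem_centralizer_iff.mp hy) _ h
  have e2 : r' * (y : G) * r'⁻¹ = r * ((r⁻¹ * r') * (y : G)) * (r⁻¹ * r')⁻¹ * r⁻¹ := by group
  rw [e2, hcomm]; group

theorem traceFun_mul [Finite G] (V R T : Subgroup G) (hVc : ∀ a ∈ V, ∀ b ∈ V, a * b = b * a)
    (hRV : R ≤ Subgroup.normalizer (V : Set G)) (y₁ y₂ : ↥V) :
    traceFun V R T hVc hRV (y₁ * y₂) = traceFun V R T hVc hRV y₁ * traceFun V R T hVc hRV y₂ := by
  unfold traceFun
  letI : CommGroup ↥V := commGroupOfComm V hVc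
  letI : Fintype (↥R ⧸ T.subgroupOf R) := Fintype.ofFinite _
  simp_rw [map_mul]
  exact Finset.prod_mul_distrib

/-- the trace of a `T`-fixed element is `R`-fixed. -/
theorem traceFun_fixed [Finite G] (V R T : Subgroup G) (hVc : ∀ a ∈ V, ∀ b ∈ V, a * b = b * a)
    (hRV : R ≤ Subgroup.normalizer (V : Set G)) (y : ↥V)
    (hy : (y : G) ∈ Subgroup.centralizer (T : Set G)) (r : G) (hr : r ∈ R) :
    conjOn V r (hRV hr) (traceFun V R T hVc hRV y) = traceFun V R T hVc hRV y := by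
  unfold traceFun
  letI : CommGroup ↥V := commGroupOfComm V hVc
  letI : Fintype (↥R ⧸ T.subgroupOf R) := Fintype.ofFinite _
  rw [map_prod]
  have h2 : ∀ q : ↥R ⧸ T.subgroupOf R,
      conjOn V r (hRV hr) (conjOn V ((q.out : ↥R) : G) (hRV q.out.2) y) =
        conjOn V ((((⟨r, hr⟩ : ↥R) • q).out : ↥R) : G) (hRV ((⟨r, hr⟩ : ↥R) • q).out.2) y := by
    intro q
    set a : ↥R := ((⟨r, hr⟩ : ↥R) • q).out with ha
    set b : ↥R := (⟨r, hr⟩ : ↥R) * q.out with hb
    have hab : (QuotientGroup.mk a : ↥R ⧸ T.subgroupOf R) = QuotientGroup.mk b := by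
      rw [ha, QuotientGroup.out_eq', hb]
      conv_lhs => rw [← QuotientGroup.out_eq' q]
      rfl
    have hmem : a⁻¹ * b ∈ T.subgroupOf R := QuotientGroup.eq.mp hab
    have hmem' : (a : G)⁻¹ * (b : G) ∈ T := by
      have := Subgroup.mem_subgroupOf.mp hmem
      simpa using this
    have e1 : conjOn V r (hRV hr) (conjOn V ((q.out : ↥R) : G) (hRV q.out.2) y) =
        conjOn V (b : G) (hRV b.2) y := by
      apply Subtype.ext
      show r * (((q.out : ↥R) : G) * (y : G) * ((q.out : ↥R) : G)⁻¹) * r⁻¹ =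
        (b : G) * (y : G) * (b : G)⁻¹
      have hbG : (b : G) = r * ((q.out : ↥R) : G) := rfl
      rw [hbG]; group
    rw [e1]
    exact (conjOn_eq_of_mem V T (a : G) (b : G) (hRV a.2) (hRV b.2) hmem' y hy).symm
  simp_rw [h2]
  exact Equiv.prod_comp (MulAction.toPerm (⟨r, hr⟩ : ↥R))
    (fun q : ↥R ⧸ T.subgroupOf R => conjOn V ((q.out : ↥R) : G) (hRV q.out.2) y)

/-- the trace of an `R`-fixed element is its `|R : T|`-th power. -/
theorem traceFun_of_fixed [Finite G] (V R T : Subgroup G) (hVc : ∀ a ∈ V, ∀ b ∈ V, a * b = b * a)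
    (hRV : R ≤ Subgroup.normalizer (V : Set G)) (y : ↥V)
    (hy : (y : G) ∈ Subgroup.centralizer (R : Set G)) :
    traceFun V R T hVc hRV y = y ^ (T.relIndex R) := by
  unfold traceFun
  letI : CommGroup ↥V := commGroupOfComm V hVc
  letI : Fintype (↥R ⧸ T.subgroupOf R) := Fintype.ofFinite _
  have h1 : ∀ q : ↥R ⧸ T.subgroupOf R, conjOn V ((q.out : ↥R) : G) (hRV q.out.2) y = y := by
    intro q
    apply Subtype.ext
    show ((q.out : ↥R) : G) * (y : G) * ((q.out : ↥R) : G)⁻¹ = (y : G)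
    have := (Subgroup.mem_centralizer_iff.mp hy) _ q.out.2
    rw [this]; group
  simp_rw [h1]
  rw [Finset.prod_const, Finset.card_univ]
  congr 1
  rw [← Nat.card_eq_fintype_card]; rfl

/-- conjugating a `T`-fixed element by an element normalizing `T` gives a `T`-fixed element. -/
theorem conj_mem_centralizer_of_mem_normalizer (T : Subgroup G) (t y : G)
    (ht : t ∈ Subgroup.normalizer (T : Set G)) (hy : y ∈ Subgroup.centralizer (T : Set G)) :
    t * y * t⁻¹ ∈ Subgroup.centralizer (T : Set G) := by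
  rw [Subgroup.mem_centralizer_iff]
  intro s hs
  have h1 : t⁻¹ * s * t⁻¹⁻¹ ∈ T :=
    (Subgroup.mem_normalizer_iff.mp (Subgroup.inv_mem _ ht) s).mp hs
  rw [inv_inv] at h1
  have h2 := (Subgroup.mem_centralizer_iff.mp hy) _ h1
  calc s * (t * y * t⁻¹) = t * ((t⁻¹ * s * t) * y) * t⁻¹ := by group
    _ = t * (y * (t⁻¹ * s * t)) * t⁻¹ := by rw [h2]
    _ = t * y * t⁻¹ * s := by group

/-- equivariance of the trace under elements normalizing `V`, `R` and `T`. -/
theorem traceFun_conj [Finite G] (V R T : Subgroup G) (hVc : ∀ a ∈ V, ∀ b ∈ V, a * b = b * a)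
    (hRV : R ≤ Subgroup.normalizer (V : Set G)) (t : G)
    (htV : t ∈ Subgroup.normalizer (V : Set G)) (htR : t ∈ Subgroup.normalizer (R : Set G))
    (htT : t ∈ Subgroup.normalizer (T : Set G)) (y : ↥V)
    (hy : (y : G) ∈ Subgroup.centralizer (T : Set G)) :
    traceFun V R T hVc hRV (conjOn V t htV y) = conjOn V t htV (traceFun V R T hVc hRV y) := by
  unfold traceFun
  letI : CommGroup ↥V := commGroupOfComm V hVc
  letI : Fintype (↥R ⧸ T.subgroupOf R) := Fintype.ofFinite _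
  rw [map_prod]
  have hconjR : ∀ r : ↥R, t * (r : G) * t⁻¹ ∈ R := fun r =>
    (Subgroup.mem_normalizer_iff.mp htR r).mp r.2
  let σ : (↥R ⧸ T.subgroupOf R) → (↥R ⧸ T.subgroupOf R) := fun q =>
    QuotientGroup.mk (⟨t * ((q.out : ↥R) : G) * t⁻¹, hconjR q.out⟩ : ↥R)
  have hy' : ((conjOn V t htV y : ↥V) : G) ∈ Subgroup.centralizer (T : Set G) :=
    conj_mem_centralizer_of_mem_normalizer T t y htT hy
  have h2 : ∀ q : ↥R ⧸ T.subgroupOf R,
      conjOn V t htV (conjOn V ((q.out : ↥R) : G) (hRV q.out.2) y) =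
        conjOn V (((σ q).out : ↥R) : G) (hRV (σ q).out.2) (conjOn V t htV y) := by
    intro q
    set b : ↥R := ⟨t * ((q.out : ↥R) : G) * t⁻¹, hconjR q.out⟩ with hb
    set a : ↥R := (σ q).out with ha
    have hab : (QuotientGroup.mk a : ↥R ⧸ T.subgroupOf R) = QuotientGroup.mk b := by
      rw [ha, QuotientGroup.out_eq']
    have hmem : a⁻¹ * b ∈ T.subgroupOf R := QuotientGroup.eq.mp hab
    have hmem' : (a : G)⁻¹ * (b : G) ∈ T := by
      have := Subgroup.mem_subgroupOf.mp hmem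
      simpa using this
    have e1 : conjOn V t htV (conjOn V ((q.out : ↥R) : G) (hRV q.out.2) y) =
        conjOn V (b : G) (hRV b.2) (conjOn V t htV y) := by
      apply Subtype.ext
      show t * (((q.out : ↥R) : G) * (y : G) * ((q.out : ↥R) : G)⁻¹) * t⁻¹ =
        (b : G) * (t * (y : G) * t⁻¹) * (b : G)⁻¹
      have hbG : (b : G) = t * ((q.out : ↥R) : G) * t⁻¹ := rfl
      rw [hbG]; group
    rw [e1]
    exact (conjOn_eq_of_mem V T (a : G) (b : G) (hRV a.2) (hRV b.2) hmem' _ hy').symm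
  simp_rw [h2]
  have hσinj : Function.Injective σ := by
    intro q₁ q₂ h
    have h1 : (⟨t * ((q₁.out : ↥R) : G) * t⁻¹, hconjR q₁.out⟩ : ↥R)⁻¹ *
        (⟨t * ((q₂.out : ↥R) : G) * t⁻¹, hconjR q₂.out⟩ : ↥R) ∈ T.subgroupOf R :=
      QuotientGroup.eq.mp h
    have h1' : (t * ((q₁.out : ↥R) : G) * t⁻¹)⁻¹ * (t * ((q₂.out : ↥R) : G) * t⁻¹) ∈ T := by
      have := Subgroup.mem_subgroupOf.mp h1
      simpa using this
    have h2' : t⁻¹ * ((t * ((q₁.out : ↥R) : G) * t⁻¹)⁻¹ * (t * ((q₂.out : ↥R) : G) * t⁻¹)) *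
        t⁻¹⁻¹ ∈ T :=
      (Subgroup.mem_normalizer_iff.mp (Subgroup.inv_mem _ htT) _).mp h1'
    have e : t⁻¹ * ((t * ((q₁.out : ↥R) : G) * t⁻¹)⁻¹ * (t * ((q₂.out : ↥R) : G) * t⁻¹)) *
        t⁻¹⁻¹ = ((q₁.out : ↥R) : G)⁻¹ * ((q₂.out : ↥R) : G) := by group
    rw [e] at h2'
    have h3 : (q₁.out)⁻¹ * q₂.out ∈ T.subgroupOf R := by
      rw [Subgroup.mem_subgroupOf]
      simpa using h2'
    have h4 : (QuotientGroup.mk q₁.out : ↥R ⧸ T.subgroupOf R) = QuotientGroup.mk q₂.out :=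
      QuotientGroup.eq.mpr h3
    rwa [QuotientGroup.out_eq', QuotientGroup.out_eq'] at h4
  have hσbij : Function.Bijective σ := Finite.injective_iff_bijective.mp hσinj
  exact (Equiv.prod_comp (Equiv.ofBijective σ hσbij)
    (fun q : ↥R ⧸ T.subgroupOf R =>
      conjOn V ((q.out : ↥R) : G) (hRV q.out.2) (conjOn V t htV y))).symm

theorem traceFun_one [Finite G] (V R T : Subgroup G) (hVc : ∀ a ∈ V, ∀ b ∈ V, a * b = b * a)
    (hRV : R ≤ Subgroup.normalizer (V : Set G)) : traceFun V R T hVc hRV 1 = 1 := by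
  have h := traceFun_mul V R T hVc hRV 1 1
  rw [mul_one] at h
  exact (mul_eq_left (a := traceFun V R T hVc hRV 1)).mp h.symm

theorem traceFun_inv [Finite G] (V R T : Subgroup G) (hVc : ∀ a ∈ V, ∀ b ∈ V, a * b = b * a)
    (hRV : R ≤ Subgroup.normalizer (V : Set G)) (y : ↥V) :
    traceFun V R T hVc hRV y⁻¹ = (traceFun V R T hVc hRV y)⁻¹ := by
  have h := traceFun_mul V R T hVc hRV y⁻¹ y
  rw [inv_mul_cancel, traceFun_one] at h
  exact eq_inv_of_mul_eq_one_left h.symm

theorem traceFun_pow [Finite G] (V R T : Subgroup G) (hVc : ∀ a ∈ V, ∀ b ∈ V, a * b = b * a)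
    (hRV : R ≤ Subgroup.normalizer (V : Set G)) (y : ↥V) (n : ℕ) :
    traceFun V R T hVc hRV (y ^ n) = (traceFun V R T hVc hRV y) ^ n := by
  induction n with
  | zero => simp [traceFun_one]
  | succ k ih => rw [pow_succ, pow_succ, traceFun_mul, ih]

/-- the kernel of the trace on `T`-fixed points, as a subgroup of `G`. -/
noncomputable def traceKer [Finite G] (V R T : Subgroup G)
    (hVc : ∀ a ∈ V, ∀ b ∈ V, a * b = b * a)
    (hRV : R ≤ Subgroup.normalizer (V : Set G)) : Subgroup G where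
  carrier := {y | ∃ hy : y ∈ V, y ∈ Subgroup.centralizer (T : Set G) ∧
    traceFun V R T hVc hRV ⟨y, hy⟩ = 1}
  mul_mem' := by
    rintro a b ⟨ha, haT, ha1⟩ ⟨hb, hbT, hb1⟩
    refine ⟨V.mul_mem ha hb, Subgroup.mul_mem _ haT hbT, ?_⟩
    have : (⟨a * b, V.mul_mem ha hb⟩ : ↥V) = ⟨a, ha⟩ * ⟨b, hb⟩ := rfl
    rw [this, traceFun_mul, ha1, hb1, one_mul]
  one_mem' := ⟨V.one_mem, Subgroup.one_mem _, traceFun_one V R T hVc hRV⟩
  inv_mem' := by
    rintro a ⟨ha, haT, ha1⟩
    refine ⟨V.inv_mem ha, Subgroup.inv_mem _ haT, ?_⟩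
    have : (⟨a⁻¹, V.inv_mem ha⟩ : ↥V) = (⟨a, ha⟩ : ↥V)⁻¹ := rfl
    rw [this, traceFun_inv, ha1, inv_one]

/-- **fixed point lemma**: `T ≤ R` of index prime to `p`, `V` an abelian group of exponent `p`
normalized by `R`, `S` a `p`-group normalizing `V`, `R`, `T`.  If `C_V(S) ≤ C_V(R)` then
`C_V(T) ≤ C_V(R)`. -/
theorem inf_centralizer_le_of_pgroup_fixed [Finite G] {p : ℕ} [hpp : Fact p.Prime]
    (V R T S : Subgroup G) (hVc : ∀ a ∈ V, ∀ b ∈ V, a * b = b * a) (hVp : ∀ a ∈ V, a ^ p = 1)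
    (hRV : R ≤ Subgroup.normalizer (V : Set G)) (hTR : T ≤ R)
    (hm : (T.relIndex R).Coprime p) (hS : IsPGroup p ↥S)
    (hSV : S ≤ Subgroup.normalizer (V : Set G)) (hSR : S ≤ Subgroup.normalizer (R : Set G))
    (hST : S ≤ Subgroup.normalizer (T : Set G))
    (hfix : V ⊓ Subgroup.centralizer (S : Set G) ≤ Subgroup.centralizer (R : Set G)) :
    V ⊓ Subgroup.centralizer (T : Set G) ≤ Subgroup.centralizer (R : Set G) := by
  have hp : p.Prime := hpp.out
  set K : Subgroup G := traceKer V R T hVc hRV with hK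
  have hKV : K ≤ V := by
    rintro y ⟨hy, -, -⟩
    exact hy
  have hVpg : IsPGroup p ↥V := by
    intro x
    refine ⟨1, ?_⟩
    apply Subtype.ext
    rw [pow_one]
    exact hVp x x.2
  have hKpg : IsPGroup p ↥K := hVpg.to_le hKV
  have hSK : S ≤ Subgroup.normalizer (K : Set G) := by
    intro s hs
    apply Cfsg.Agent.Lib.Helper1.mem_normalizer_of_forall_conj_mem
    rintro y ⟨hy, hyT, hy1⟩
    have hsy : s * y * s⁻¹ ∈ V := (Subgroup.mem_normalizer_iff.mp (hSV hs) y).mp hy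
    refine ⟨hsy, conj_mem_centralizer_of_mem_normalizer T s y (hST hs) hyT, ?_⟩
    have e : (⟨s * y * s⁻¹, hsy⟩ : ↥V) = conjOn V s (hSV hs) ⟨y, hy⟩ := rfl
    rw [e, traceFun_conj V R T hVc hRV s (hSV hs) (hSR hs) (hST hs) ⟨y, hy⟩ hyT, hy1, map_one]
  have hKbot : K = ⊥ := by
    by_contra hne
    obtain ⟨y, hyK, hy1, hyS⟩ :=
      Cfsg.Agent.Lib.Helper18.exists_ne_one_fixed_of_pgroup_normalizes K S hKpg hS hne hSK
    obtain ⟨hyV, hyT, hytr⟩ := hyK
    have hyCS : y ∈ Subgroup.centralizer (S : Set G) := by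
      rw [Subgroup.mem_centralizer_iff]
      intro s hs
      exact hyS s hs
    have hyR : y ∈ Subgroup.centralizer (R : Set G) := hfix ⟨hyV, hyCS⟩
    rw [traceFun_of_fixed V R T hVc hRV ⟨y, hyV⟩ hyR] at hytr
    have h1 : y ^ (T.relIndex R) = 1 := by
      have := congrArg Subtype.val hytr
      simpa using this
    apply hy1
    have h2 : orderOf y ∣ T.relIndex R := orderOf_dvd_of_pow_eq_one h1
    have h3 : orderOf y ∣ p := orderOf_dvd_of_pow_eq_one (hVp y hyV)
    have h4 : orderOf y ∣ Nat.gcd (T.relIndex R) p := Nat.dvd_gcd h2 h3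
    rw [hm] at h4
    exact orderOf_eq_one_iff.mp (Nat.dvd_one.mp h4)
  rintro y ⟨hyV, hyT⟩
  obtain ⟨k, -, hk⟩ := Nat.exists_mul_mod_eq_one_of_coprime hm hp.one_lt
  set c : ↥V := traceFun V R T hVc hRV ⟨y, hyV⟩ with hc
  have hcR : (c : G) ∈ Subgroup.centralizer (R : Set G) := by
    rw [Subgroup.mem_centralizer_iff]
    intro r hr
    have h1 := traceFun_fixed V R T hVc hRV ⟨y, hyV⟩ hyT r hr
    have h2 : r * (c : G) * r⁻¹ = (c : G) := congrArg Subtype.val h1
    calc r * (c : G) = (r * (c : G) * r⁻¹) * r := by group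
      _ = (c : G) * r := by rw [h2]
  have hcp : c ^ p = 1 := by
    apply Subtype.ext
    simpa using hVp c c.2
  have hcmk : c ^ (T.relIndex R * k) = c := by
    conv_lhs => rw [← Nat.div_add_mod (T.relIndex R * k) p, hk, pow_add, pow_mul, hcp, one_pow,
      one_mul, pow_one]
  -- `y' = y * (c^k)⁻¹` has trivial trace
  have hckR : ((c ^ k : ↥V) : G) ∈ Subgroup.centralizer (R : Set G) := by
    have : ((c ^ k : ↥V) : G) = (c : G) ^ k := rfl
    rw [this]
    exact Subgroup.pow_mem _ hcR k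
  have hy'K : y * ((c ^ k : ↥V) : G)⁻¹ ∈ K := by
    refine ⟨V.mul_mem hyV (V.inv_mem (c ^ k).2),
      Subgroup.mul_mem _ hyT (Subgroup.inv_mem _ (Subgroup.centralizer_le hTR hckR)), ?_⟩
    have e : (⟨y * ((c ^ k : ↥V) : G)⁻¹, V.mul_mem hyV (V.inv_mem (c ^ k).2)⟩ : ↥V) =
        (⟨y, hyV⟩ : ↥V) * (c ^ k)⁻¹ := rfl
    rw [e, traceFun_mul, traceFun_inv, traceFun_of_fixed V R T hVc hRV (c ^ k) hckR, ← hc,
      ← pow_mul, mul_comm k, hcmk, mul_inv_cancel]
  rw [hKbot, Subgroup.mem_bot] at hy'K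
  have hyc : y = ((c ^ k : ↥V) : G) := by
    have := mul_inv_eq_one.mp hy'K
    exact this
  rw [hyc]
  exact hckR

/-- elements of `Ω₁(Z(Q))` have order dividing `p`. -/
theorem omegaOne_center_pow (p : ℕ) (Q : Subgroup G) :
    ∀ w ∈ Cfsg.omegaOne p (Q ⊓ Subgroup.centralizer (Q : Set G)), w ^ p = 1 := by
  let B : Subgroup G :=
    { carrier := {x | x ∈ Q ⊓ Subgroup.centralizer (Q : Set G) ∧ x ^ p = 1}
      one_mem' := ⟨Subgroup.one_mem _, one_pow p⟩
      mul_mem' := by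
        rintro a b ⟨ha, ha'⟩ ⟨hb, hb'⟩
        refine ⟨Subgroup.mul_mem _ ha hb, ?_⟩
        have hc : Commute a b := ((Subgroup.mem_centralizer_iff.mp ha.2) b hb.1).symm
        rw [hc.mul_pow, ha', hb', one_mul]
      inv_mem' := by
        rintro a ⟨ha, ha'⟩
        exact ⟨Subgroup.inv_mem _ ha, by rw [inv_pow, ha', inv_one]⟩ }
  have hle : Cfsg.omegaOne p (Q ⊓ Subgroup.centralizer (Q : Set G)) ≤ B := by
    unfold Cfsg.omegaOne
    rw [Subgroup.closure_le]
    rintro x ⟨hx, hxp⟩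
    exact ⟨hx, hxp⟩
  intro w hw
  exact (hle hw).2

/-- a `p`-subgroup `A` of `L` normalized by `L` lies in every `p`-subgroup of `L` of index prime
to `p`. -/
theorem le_of_not_dvd_relIndex_of_le_normalizer [Finite G] {p : ℕ} [Fact p.Prime]
    (A P L : Subgroup G) (hA : IsPGroup p ↥A) (hAL : A ≤ L)
    (hLA : L ≤ Subgroup.normalizer (A : Set G)) (hP : IsPGroup p ↥P)
    (hidx : ¬ p ∣ P.relIndex L) : A ≤ P := by
  have hAn : (A.subgroupOf L).Normal :=
    (Subgroup.normal_subgroupOf_iff_le_normalizer hAL).mpr hLA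
  have hPp : IsPGroup p ↥(P.subgroupOf L) := hP.comap_subtype
  have hApp : IsPGroup p ↥(A.subgroupOf L) := hA.comap_subtype
  have h := hApp.le_sylow_of_normal (hPp.toSylow hidx)
  intro a ha
  have : (⟨a, hAL ha⟩ : ↥L) ∈ P.subgroupOf L := h (show (⟨a, hAL ha⟩ : ↥L) ∈ A.subgroupOf L from ha)
  exact this

/-- characteristic `p` in ambient form. -/
theorem charP_ambient {p : ℕ} (L : Subgroup G)
    (h : Subgroup.centralizer (Cfsg.pCore p ↥L : Set ↥L) ≤ Cfsg.pCore p ↥L) :
    L ⊓ Subgroup.centralizer ((Cfsg.pCoreOf p L : Subgroup G) : Set G) ≤ Cfsg.pCoreOf p L := by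
  rintro x ⟨hxL, hxC⟩
  have hx : (⟨x, hxL⟩ : ↥L) ∈ Subgroup.centralizer (Cfsg.pCore p ↥L : Set ↥L) := by
    rw [Subgroup.mem_centralizer_iff]
    intro y hy
    apply Subtype.ext
    have hy' : (y : G) ∈ Cfsg.pCoreOf p L := ⟨y, hy, rfl⟩
    exact (Subgroup.mem_centralizer_iff.mp hxC) _ hy'
  exact ⟨⟨x, hxL⟩, h hx, rfl⟩

/-- the closure of a commuting set is commutative. -/
theorem closure_comm_of_comm (S : Set G) (hS : ∀ a ∈ S, ∀ b ∈ S, a * b = b * a) :
    ∀ a ∈ Subgroup.closure S, ∀ b ∈ Subgroup.closure S, a * b = b * a := by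
  have h1 : Subgroup.closure S ≤ Subgroup.centralizer S := by
    rw [Subgroup.closure_le]
    intro a ha
    rw [SetLike.mem_coe, Subgroup.mem_centralizer_iff]
    intro b hb
    exact hS b hb a ha
  intro a ha b hb
  have h2 : a ∈ Subgroup.centralizer ((Subgroup.closure S : Subgroup G) : Set G) := by
    rw [Subgroup.centralizer_closure]
    exact h1 ha
  exact ((Subgroup.mem_centralizer_iff.mp h2) b hb).symm

/-- S2805, one normal step: `P` a `p`-group normalizing `L` of characteristic `p` with `P ∩ L` of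
index prime to `p` in `L`.  Then `C_L(Ω₁Z(P)) = C_L(Ω₁Z(P ∩ L))`. -/
theorem inf_centralizer_omegaOne_center_step [Finite G] {p : ℕ} [hpp : Fact p.Prime]
    (P L : Subgroup G) (hP : IsPGroup p ↥P) (hPL : P ≤ Subgroup.normalizer (L : Set G))
    (hidx : ¬ p ∣ P.relIndex L)
    (hL : L ⊓ Subgroup.centralizer ((Cfsg.pCoreOf p L : Subgroup G) : Set G) ≤ Cfsg.pCoreOf p L) :
    L ⊓ Subgroup.centralizer
        ((Cfsg.omegaOne p (P ⊓ Subgroup.centralizer (P : Set G)) : Subgroup G) : Set G) =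
      L ⊓ Subgroup.centralizer
        ((Cfsg.omegaOne p ((P ⊓ L) ⊓ Subgroup.centralizer ((P ⊓ L : Subgroup G) : Set G)) :
          Subgroup G) : Set G) := by
  have hp : p.Prime := hpp.out
  set PL : Subgroup G := P ⊓ L with hPLdef
  set Q : Subgroup G := Cfsg.pCoreOf p L with hQ
  set W : Subgroup G := Cfsg.omegaOne p (Q ⊓ Subgroup.centralizer (Q : Set G)) with hW
  set Z : Subgroup G := Cfsg.omegaOne p (P ⊓ Subgroup.centralizer (P : Set G)) with hZ
  set ZL : Subgroup G := Cfsg.omegaOne p (PL ⊓ Subgroup.centralizer (PL : Set G)) with hZL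
  have hQL : Q ≤ L := pCoreOf_le L
  have hQp : IsPGroup p ↥Q := pCoreOf_isPGroup L
  have hLQ : L ≤ Subgroup.normalizer (Q : Set G) := le_normalizer_pCoreOf L
  have hNLQ : Subgroup.normalizer (L : Set G) ≤ Subgroup.normalizer (Q : Set G) :=
    normalizer_le_normalizer_pCoreOf L
  have hPLp : IsPGroup p ↥PL := hP.to_le inf_le_left
  have hPLL : PL ≤ L := inf_le_right
  have hPLP : PL ≤ P := inf_le_left
  have hidx' : ¬ p ∣ PL.relIndex L := by rw [hPLdef, Subgroup.inf_relIndex_right]; exact hidx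
  have hQPL : Q ≤ PL := le_of_not_dvd_relIndex_of_le_normalizer Q PL L hQp hQL hLQ hPLp hidx'
  have hNQW : Subgroup.normalizer (Q : Set G) ≤ Subgroup.normalizer (W : Set G) :=
    (normalizer_le_normalizer_inf_centralizer Q).trans (normalizer_le_normalizer_omegaOne _)
  have hWQ : W ≤ Q ⊓ Subgroup.centralizer (Q : Set G) := omegaOne_le' _
  have hWc : ∀ a ∈ W, ∀ b ∈ W, a * b = b * a := by
    intro a ha b hb
    exact ((Subgroup.mem_centralizer_iff.mp (hWQ ha).2) b (hWQ hb).1).symm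
  have hWp : ∀ w ∈ W, w ^ p = 1 := omegaOne_center_pow p Q
  have hLW : L ≤ Subgroup.normalizer (W : Set G) := hLQ.trans hNQW
  have hPW : P ≤ Subgroup.normalizer (W : Set G) := hPL.trans (hNLQ.trans hNQW)
  have hZP : Z ≤ P ⊓ Subgroup.centralizer (P : Set G) := omegaOne_le' _
  have hZp : ∀ z ∈ Z, z ^ p = 1 := omegaOne_center_pow p P
  have hZLsub : ZL ≤ PL ⊓ Subgroup.centralizer (PL : Set G) := omegaOne_le' _
  -- `ZL = W ∩ C(PL)`
  have hZLW : ZL ≤ W ⊓ Subgroup.centralizer (PL : Set G) := by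
    rw [hZL]
    unfold Cfsg.omegaOne
    rw [Subgroup.closure_le]
    rintro x ⟨hx, hxp⟩
    have hxQ : x ∈ Q := hL ⟨hPLL hx.1, Subgroup.centralizer_le hQPL hx.2⟩
    refine ⟨?_, hx.2⟩
    apply Subgroup.subset_closure
    exact ⟨⟨hxQ, Subgroup.centralizer_le hQPL hx.2⟩, hxp⟩
  have hWZL : W ⊓ Subgroup.centralizer (PL : Set G) ≤ ZL := by
    rintro w ⟨hw, hwC⟩
    apply Subgroup.subset_closure
    exact ⟨⟨hQPL (hWQ hw).1, hwC⟩, hWp w hw⟩
  have hPCZ : P ≤ Subgroup.centralizer (Z : Set G) := by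
    intro t ht
    rw [Subgroup.mem_centralizer_iff]
    intro z hz
    exact ((Subgroup.mem_centralizer_iff.mp (hZP hz).2) t ht).symm
  have hPLCZL : PL ≤ Subgroup.centralizer (ZL : Set G) := by
    intro t ht
    rw [Subgroup.mem_centralizer_iff]
    intro z hz
    exact ((Subgroup.mem_centralizer_iff.mp (hZLsub hz).2) t ht).symm
  have hcop : ∀ C : Subgroup G, PL ≤ C → C ≤ L → (PL.relIndex C).Coprime p := by
    intro C h1 h2
    have h3 := Subgroup.relIndex_mul_relIndex PL C L h1 h2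
    have h4 : ¬ p ∣ PL.relIndex C := fun h => hidx' (h3 ▸ Dvd.dvd.mul_right h _)
    exact ((Nat.Prime.coprime_iff_not_dvd hp).mpr h4).symm
  apply le_antisymm
  · -- `C_L(Z) ≤ C_L(ZL)` by the fixed point lemma
    apply le_inf inf_le_left
    set C₂ : Subgroup G := L ⊓ Subgroup.centralizer (Z : Set G) with hC₂
    have hPLC₂ : PL ≤ C₂ := le_inf hPLL (hPLP.trans hPCZ)
    have hfp := inf_centralizer_le_of_pgroup_fixed W C₂ PL P hWc hWp (inf_le_left.trans hLW)
      hPLC₂ (hcop C₂ hPLC₂ inf_le_left) hP hPW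
      (by
        intro t ht
        exact Cfsg.Agent.Lib.Helper9.mem_normalizer_inf (hPL ht)
          (Subgroup.le_normalizer (hPCZ ht)))
      (by
        intro t ht
        exact Cfsg.Agent.Lib.Helper9.mem_normalizer_inf (Subgroup.le_normalizer ht) (hPL ht))
      (by
        rintro w ⟨hw, hwP⟩
        have hwZ : w ∈ Z := by
          apply Subgroup.subset_closure
          exact ⟨⟨hPLP (hQPL (hWQ hw).1), hwP⟩, hWp w hw⟩
        rw [Subgroup.mem_centralizer_iff]
        intro r hr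
        exact ((Subgroup.mem_centralizer_iff.mp hr.2) w hwZ).symm)
    intro x hx
    rw [Subgroup.mem_centralizer_iff]
    intro y hy
    have hyC : y ∈ Subgroup.centralizer (C₂ : Set G) := hfp (hZLW hy)
    exact ((Subgroup.mem_centralizer_iff.mp hyC) x hx).symm
  · -- `C_L(ZL) ≤ C_L(Z)` by the trace
    apply le_inf inf_le_left
    set C₁ : Subgroup G := L ⊓ Subgroup.centralizer (ZL : Set G) with hC₁
    have hPLC₁ : PL ≤ C₁ := le_inf hPLL hPLCZL
    intro x hx
    rw [Subgroup.mem_centralizer_iff]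
    intro z hz
    have hzP : z ∈ P := (hZP hz).1
    have hzCP : z ∈ Subgroup.centralizer (P : Set G) := (hZP hz).2
    have hzQ : ∀ q ∈ Q, q * z = z * q := fun q hq =>
      (Subgroup.mem_centralizer_iff.mp hzCP) q (hPLP (hQPL hq))
    -- quadratic action
    have hquad : ∀ r ∈ L, r * z * r⁻¹ * z⁻¹ ∈ W := by
      intro r hr
      set u : G := r * z * r⁻¹ * z⁻¹ with hu
      have huL : u ∈ L := by
        have h1 : z * r⁻¹ * z⁻¹ ∈ L :=
          (Subgroup.mem_normalizer_iff.mp (hPL hzP) r⁻¹).mp (L.inv_mem hr)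
        have : u = r * (z * r⁻¹ * z⁻¹) := by rw [hu]; group
        rw [this]
        exact L.mul_mem hr h1
      have huC : u ∈ Subgroup.centralizer (Q : Set G) := by
        rw [Subgroup.mem_centralizer_iff]
        intro q hq
        have hq' : r⁻¹ * q * r⁻¹⁻¹ ∈ Q :=
          (Subgroup.mem_normalizer_iff.mp (hLQ (L.inv_mem hr)) q).mp hq
        rw [inv_inv] at hq'
        have h1 := hzQ q hq
        have h2 := hzQ _ hq'
        have h3 : z⁻¹ * q = q * z⁻¹ := by
          calc z⁻¹ * q = z⁻¹ * (q * z) * z⁻¹ := by group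
            _ = z⁻¹ * (z * q) * z⁻¹ := by rw [h1]
            _ = q * z⁻¹ := by group
        calc q * u = r * ((r⁻¹ * q * r) * z) * r⁻¹ * z⁻¹ := by rw [hu]; group
          _ = r * (z * (r⁻¹ * q * r)) * r⁻¹ * z⁻¹ := by rw [h2]
          _ = r * z * r⁻¹ * (q * z⁻¹) := by group
          _ = r * z * r⁻¹ * (z⁻¹ * q) := by rw [h3]
          _ = u * q := by rw [hu]; group
      have huQ : u ∈ Q := hL ⟨huL, huC⟩
      have hzu : z * u = u * z := (hzQ u huQ).symm
      have hup : u ^ p = 1 := by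
        have e1 : r * z * r⁻¹ = u * z := by rw [hu]; group
        have e2 : (r * z * r⁻¹) ^ p = 1 := by rw [conj_pow, hZp z hz]; group
        have hc : Commute u z := hzu.symm
        rw [e1, hc.mul_pow, hZp z hz, mul_one] at e2
        exact e2
      apply Subgroup.subset_closure
      exact ⟨⟨huQ, huC⟩, hup⟩
    -- the abelian group `V = ⟨W, z⟩`
    set S : Set G := (W : Set G) ∪ {z} with hS
    set V : Subgroup G := Subgroup.closure S with hV
    have hzW : ∀ w ∈ W, w * z = z * w := fun w hw => hzQ w (hWQ hw).1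
    have hVc : ∀ a ∈ V, ∀ b ∈ V, a * b = b * a := by
      apply closure_comm_of_comm
      rintro a (ha | ha) b (hb | hb)
      · exact hWc a ha b hb
      · rw [Set.mem_singleton_iff] at hb; rw [hb]; exact hzW a ha
      · rw [Set.mem_singleton_iff] at ha; rw [ha]; exact (hzW b hb).symm
      · rw [Set.mem_singleton_iff] at ha hb; rw [ha, hb]
    have hWV : W ≤ V := by
      intro w hw
      exact Subgroup.subset_closure (Or.inl hw)
    have hzV : z ∈ V := Subgroup.subset_closure (Or.inr rfl)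
    have hC₁V : C₁ ≤ Subgroup.normalizer (V : Set G) := by
      intro r hr
      apply Cfsg.Agent.Lib.Helper1.mem_normalizer_of_forall_conj_mem
      intro y hy
      induction hy using Subgroup.closure_induction with
      | mem y hy =>
        rcases hy with hy | hy
        · exact hWV ((Subgroup.mem_normalizer_iff.mp (hLW hr.1) y).mp hy)
        · rw [Set.mem_singleton_iff] at hy
          rw [hy]
          have : r * z * r⁻¹ = (r * z * r⁻¹ * z⁻¹) * z := by group
          rw [this]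
          exact V.mul_mem (hWV (hquad r hr.1)) hzV
      | one => simp
      | mul a b _ _ iha ihb =>
        have : r * (a * b) * r⁻¹ = (r * a * r⁻¹) * (r * b * r⁻¹) := by group
        rw [this]; exact V.mul_mem iha ihb
      | inv a _ iha =>
        have : r * a⁻¹ * r⁻¹ = (r * a * r⁻¹)⁻¹ := by group
        rw [this]; exact V.inv_mem iha
    have hzPL : z ∈ Subgroup.centralizer (PL : Set G) := Subgroup.centralizer_le hPLP hzCP
    obtain ⟨c₀, hc₀, w, hw, hcw⟩ := exists_trace' V C₁ PL hVc hC₁V z hzV hzPL W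
      (fun r hr => hquad r hr.1)
    have hm := hcop C₁ hPLC₁ inf_le_left
    have hc₀PL : c₀ ∈ Subgroup.centralizer (PL : Set G) := Subgroup.centralizer_le hPLC₁ hc₀.2
    have hwe : w = c₀ * (z ^ (PL.relIndex C₁))⁻¹ := by rw [hcw]; group
    have hwPL : w ∈ Subgroup.centralizer (PL : Set G) := by
      rw [hwe]
      exact Subgroup.mul_mem _ hc₀PL (Subgroup.inv_mem _ (Subgroup.pow_mem _ hzPL _))
    have hwZL : w ∈ ZL := hWZL ⟨hw.1, hwPL⟩
    have h1 : w * x = x * w := (Subgroup.mem_centralizer_iff.mp hx.2) w hwZL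
    have h2 : x * c₀ = c₀ * x := (Subgroup.mem_centralizer_iff.mp hc₀.2) x hx
    have h3 : x * z ^ (PL.relIndex C₁) = z ^ (PL.relIndex C₁) * x := by
      have e : z ^ (PL.relIndex C₁) = w⁻¹ * c₀ := by rw [hcw]; group
      rw [e]
      calc x * (w⁻¹ * c₀) = w⁻¹ * (w * x) * w⁻¹ * c₀ := by group
        _ = w⁻¹ * (x * w) * w⁻¹ * c₀ := by rw [h1]
        _ = w⁻¹ * (x * c₀) := by group
        _ = w⁻¹ * (c₀ * x) := by rw [h2]
        _ = w⁻¹ * c₀ * x := by group
    exact (commute_of_commute_pow_coprime hp (hZp z hz) hm h3).symm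

/-- S2805: `H` of characteristic `p`, `T` a Sylow `p`-subgroup, `L` subnormal:
`C_L(Ω₁Z(T)) = C_L(Ω₁Z(T ∩ L))`. -/
theorem inf_centralizer_omegaOne_center_subnormal [Finite G] {p : ℕ} [hpp : Fact p.Prime]
    (hG : Subgroup.centralizer (Cfsg.pCore p G : Set G) ≤ Cfsg.pCore p G) (T : Sylow p G)
    (L : Subgroup G) (hL : L.IsSubnormal) :
    L ⊓ Subgroup.centralizer ((Cfsg.omegaOne p ((T : Subgroup G) ⊓
        Subgroup.centralizer ((T : Subgroup G) : Set G)) : Subgroup G) : Set G) =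
      L ⊓ Subgroup.centralizer ((Cfsg.omegaOne p (((T : Subgroup G) ⊓ L) ⊓
        Subgroup.centralizer ((((T : Subgroup G) ⊓ L) : Subgroup G) : Set G)) : Subgroup G) :
          Set G) := by
  induction hL with
  | top => simp only [inf_top_eq]
  | step H K hHK hK hN ih =>
    have hHsn : H.IsSubnormal := Subgroup.IsSubnormal.step H K hHK hK hN
    have hKH : K ≤ Subgroup.normalizer (H : Set G) :=
      (Subgroup.normal_subgroupOf_iff_le_normalizer hHK).mp hN
    have hchar := charP_ambient H (charP_of_subnormal hG H hHsn)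
    have hidx : ¬ p ∣ ((T : Subgroup G) ⊓ K).relIndex H := by
      have h1 : ((T : Subgroup G) ⊓ K).relIndex H = (T : Subgroup G).relIndex H := by
        rw [← Subgroup.inf_relIndex_right ((T : Subgroup G) ⊓ K) H, inf_assoc,
          inf_eq_right.mpr hHK, Subgroup.inf_relIndex_right]
      rw [h1]
      exact Cfsg.Agent.Lib.Helper4.not_dvd_relIndex_of_isSubnormal hHsn T
    have hstep := inf_centralizer_omegaOne_center_step ((T : Subgroup G) ⊓ K) H
      (T.isPGroup'.to_le inf_le_left) (inf_le_right.trans hKH) hidx hchar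
    have e : ((T : Subgroup G) ⊓ K) ⊓ H = (T : Subgroup G) ⊓ H := by
      rw [inf_assoc, inf_eq_right.mpr hHK]
    rw [e] at hstep
    rw [← hstep]
    calc H ⊓ Subgroup.centralizer ((Cfsg.omegaOne p ((T : Subgroup G) ⊓
            Subgroup.centralizer ((T : Subgroup G) : Set G)) : Subgroup G) : Set G)
        = H ⊓ (K ⊓ Subgroup.centralizer ((Cfsg.omegaOne p ((T : Subgroup G) ⊓
            Subgroup.centralizer ((T : Subgroup G) : Set G)) : Subgroup G) : Set G)) := by
          rw [← inf_assoc, inf_eq_left.mpr hHK]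
      _ = H ⊓ (K ⊓ Subgroup.centralizer ((Cfsg.omegaOne p (((T : Subgroup G) ⊓ K) ⊓
            Subgroup.centralizer ((((T : Subgroup G) ⊓ K) : Subgroup G) : Set G)) : Subgroup G) :
              Set G)) := by rw [ih]
      _ = H ⊓ Subgroup.centralizer ((Cfsg.omegaOne p (((T : Subgroup G) ⊓ K) ⊓
            Subgroup.centralizer ((((T : Subgroup G) ⊓ K) : Subgroup G) : Set G)) : Subgroup G) :
              Set G) := by
          rw [← inf_assoc, inf_eq_left.mpr hHK]

end Trace3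

end Cfsg.Agent.Lib.Helper16
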