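/-
Helper16 library: weakly closed `p`-subgroups `Q` with `C(Q) ≤ Q` and characteristic `p` (S2842):
`C_G(P)` has characteristic `p` if `C_G(y)` has for some `y ∈ P`; `C_G(O_p(L)) ≤ N_G(Q)`.
-/
import Mathlib
import Cfsg.Prelude.Def_LocalStructure
import Cfsg.Prelude.Def_Amalgam
import Cfsg.Prelude.Def_Solvable
import Cfsg.Agent.Lib.Helper16.LargeChar
import Cfsg.Agent.Lib.Helper16.YL2
import Cfsg.Agent.Lib.Helper16.Trace3
import Cfsg.Agent.Lib.Helper8.SupNormalizer

set_option autoImplicit false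
open Cfsg
open scoped Pointwise commutatorElement

namespace Cfsg.Agent.Lib.Helper16

-- WC5 START
section WCCharP

variable {G : Type*} [Group G] {p : ℕ}

/-- powers of `k * r` with `r` normalizing `K`. -/
theorem exists_mul_pow_eq {K : Subgroup G} {k r : G} (hk : k ∈ K)
    (hr : r ∈ Subgroup.normalizer (K : Set G)) (n : ℕ) : ∃ k' ∈ K, (k * r) ^ n = k' * r ^ n := by
  induction n with
  | zero => exact ⟨1, K.one_mem, by simp⟩
  | succ n ih =>
    obtain ⟨k', hk', e⟩ := ih
    have hrn : r ^ n ∈ Subgroup.normalizer (K : Set G) := Subgroup.pow_mem _ hr n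
    have h1 : r ^ n * k * (r ^ n)⁻¹ ∈ K := (Subgroup.mem_normalizer_iff.mp hrn k).mp hk
    refine ⟨k' * (r ^ n * k * (r ^ n)⁻¹), K.mul_mem hk' h1, ?_⟩
    rw [pow_succ, e, pow_succ]
    group

/-- a `p'`-element of `K ⊔ R` (`R` a `p`-group normalizing `K`) lies in `K`. -/
theorem mem_of_coprime_of_mem_sup [Fact p.Prime] {K R : Subgroup G} (hR : IsPGroup p R)
    (hRK : R ≤ Subgroup.normalizer (K : Set G)) {x : G} (hx : x ∈ K ⊔ R)
    (hc : (orderOf x).Coprime p) : x ∈ K := by
  obtain ⟨k, hk, r, hr, rfl⟩ := Cfsg.Agent.Lib.Helper8.mem_sup_of_le_normalizer hRK hx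
  obtain ⟨a, ha⟩ := hR ⟨r, hr⟩
  have ha' : r ^ (p ^ a) = 1 := by simpa using congrArg Subtype.val ha
  obtain ⟨k', hk', e⟩ := exists_mul_pow_eq hk (hRK hr) (p ^ a)
  rw [ha', mul_one] at e
  obtain ⟨m, hm⟩ := exists_pow_eq_self_of_coprime (x := k * r) (n := p ^ a)
    (Nat.Coprime.pow_left a hc.symm)
  rw [← hm, e]
  exact K.pow_mem hk' m

/-- `K` of characteristic `p`, `R` a `p`-group normalizing `K` ⇒ `K R` has characteristic `p`. -/
theorem charP_sup_pgroup [Finite G] [Fact p.Prime] (K R : Subgroup G) (hR : IsPGroup p R)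
    (hRK : R ≤ Subgroup.normalizer (K : Set G))
    (hK : Subgroup.centralizer (pCore p ↥K : Set ↥K) ≤ pCore p ↥K) :
    Subgroup.centralizer (pCore p ↥(K ⊔ R) : Set ↥(K ⊔ R)) ≤ pCore p ↥(K ⊔ R) := by
  apply charP_of_ambient
  set G₁ : Subgroup G := K ⊔ R with hG₁
  set D₁ : Subgroup G := pCoreOf p G₁ with hD₁
  have hG₁K : G₁ ≤ Subgroup.normalizer (K : Set G) := sup_le Subgroup.le_normalizer hRK
  have hPK : pCoreOf p K ≤ D₁ :=
    le_pCoreOf ((pCoreOf_le K).trans le_sup_left)
      (hG₁K.trans (normalizer_le_normalizer_pCoreOf K)) (pCoreOf_isPGroup K)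
  have hEp : IsPGroup p ↥(G₁ ⊓ Subgroup.centralizer (D₁ : Set G)) := by
    apply isPGroup_of_coprime_trivial
    rintro x ⟨hx1, hx2⟩ hcop
    have hxK : x ∈ K := mem_of_coprime_of_mem_sup hR hRK hx1 hcop
    have hxC : x ∈ Subgroup.centralizer ((pCoreOf p K : Subgroup G) : Set G) :=
      Subgroup.centralizer_le hPK hx2
    exact eq_one_of_mem_pgroup_of_coprime (pCoreOf_isPGroup K) (charP_ambient K hK ⟨hxK, hxC⟩) hcop
  apply le_pCoreOf inf_le_left _ hEp
  intro g hg
  exact Cfsg.Agent.Lib.Helper9.mem_normalizer_inf (Subgroup.le_normalizer hg)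
    (normalizer_le_normalizer_centralizer _ (le_normalizer_pCoreOf (p := p) G₁ hg))

/-- `K` of characteristic `p`, `R` a `p`-group normalizing `K` ⇒ `C_K(R)` has characteristic `p`. -/
theorem charP_inf_centralizer [Finite G] [Fact p.Prime] (K R : Subgroup G) (hR : IsPGroup p R)
    (hRK : R ≤ Subgroup.normalizer (K : Set G))
    (hK : Subgroup.centralizer (pCore p ↥K : Set ↥K) ≤ pCore p ↥K) :
    Subgroup.centralizer (pCore p ↥(K ⊓ Subgroup.centralizer (R : Set G)) :
      Set ↥(K ⊓ Subgroup.centralizer (R : Set G))) ≤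
      pCore p ↥(K ⊓ Subgroup.centralizer (R : Set G)) := by
  have h1 := charP_sup_pgroup K R hR hRK hK
  have h2 := charP_inf_normalizer (K ⊔ R) R le_sup_right hR h1
  apply charP_of_le_normalizer (K₂ := (K ⊔ R) ⊓ Subgroup.normalizer (R : Set G)) _ _ h2
  · exact inf_le_inf le_sup_left (Subgroup.centralizer_le_normalizer _)
  · rintro g ⟨hg1, hg2⟩
    exact Cfsg.Agent.Lib.Helper9.mem_normalizer_inf
      ((sup_le Subgroup.le_normalizer hRK : K ⊔ R ≤ _) hg1)
      (normalizer_le_normalizer_centralizer _ hg2)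

theorem centralizer_sup_eq (Y R : Subgroup G) :
    Subgroup.centralizer ((Y ⊔ R : Subgroup G) : Set G) =
      Subgroup.centralizer (Y : Set G) ⊓ Subgroup.centralizer (R : Set G) := by
  apply le_antisymm
  · exact le_inf (Subgroup.centralizer_le (le_sup_left : Y ≤ Y ⊔ R))
      (Subgroup.centralizer_le (le_sup_right : R ≤ Y ⊔ R))
  · rw [Subgroup.le_centralizer_iff]
    apply sup_le
    · rw [Subgroup.le_centralizer_iff]; exact inf_le_left
    · rw [Subgroup.le_centralizer_iff]; exact inf_le_right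

/-- if `C_G(y)` has characteristic `p` for some `y` in the `p`-subgroup `P`, then `C_G(P)` has
characteristic `p`. -/
theorem charP_centralizer_of_mem [Finite G] [Fact p.Prime] (P : Subgroup G) (hP : IsPGroup p P)
    (y : G) (hy : y ∈ P)
    (hK : Subgroup.centralizer (pCore p ↥(Subgroup.centralizer ({y} : Set G)) :
      Set ↥(Subgroup.centralizer ({y} : Set G))) ≤ pCore p ↥(Subgroup.centralizer ({y} : Set G))) :
    Subgroup.centralizer (pCore p ↥(Subgroup.centralizer (P : Set G)) :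
      Set ↥(Subgroup.centralizer (P : Set G))) ≤ pCore p ↥(Subgroup.centralizer (P : Set G)) := by
  have hbase : (fun Y : Subgroup G => Y ≤ P ∧ y ∈ Y ∧
      Subgroup.centralizer (pCore p ↥(Subgroup.centralizer (Y : Set G)) :
      Set ↥(Subgroup.centralizer (Y : Set G))) ≤ pCore p ↥(Subgroup.centralizer (Y : Set G)))
      (Subgroup.closure {y}) := by
    refine ⟨?_, Subgroup.subset_closure rfl, ?_⟩
    · rw [Subgroup.closure_le]; intro z hz; rw [Set.mem_singleton_iff] at hz; rw [hz]; exact hy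
    · rw [Subgroup.centralizer_closure]; exact hK
  obtain ⟨Y, -, hY⟩ := Finite.exists_le_maximal (p := fun Y : Subgroup G => Y ≤ P ∧ y ∈ Y ∧
      Subgroup.centralizer (pCore p ↥(Subgroup.centralizer (Y : Set G)) :
      Set ↥(Subgroup.centralizer (Y : Set G))) ≤ pCore p ↥(Subgroup.centralizer (Y : Set G)))
      (a := Subgroup.closure {y}) hbase
  obtain ⟨hYP, hyY, hYc⟩ := hY.prop
  by_cases hne : Y = P
  · rw [← hne]; exact hYc
  exfalso
  obtain ⟨x, hxP, hxN, hxY⟩ := exists_mem_normalizer_not_mem hP hYP hne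
  have hRp : IsPGroup p ↥(Subgroup.zpowers x) :=
    hP.to_le (by rw [Subgroup.zpowers_le]; exact hxP)
  have hRN : Subgroup.zpowers x ≤
      Subgroup.normalizer ((Subgroup.centralizer (Y : Set G) : Subgroup G) : Set G) := by
    rw [Subgroup.zpowers_le]
    exact normalizer_le_normalizer_centralizer Y hxN
  have h1 := charP_inf_centralizer _ _ hRp hRN hYc
  rw [← centralizer_sup_eq] at h1
  have h2 : Y ⊔ Subgroup.zpowers x ≤ Y := by
    apply hY.le_of_ge _ le_sup_left
    refine ⟨sup_le hYP (by rw [Subgroup.zpowers_le]; exact hxP), Subgroup.mem_sup_left hyY, h1⟩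
  exact hxY (h2 (Subgroup.mem_sup_right (Subgroup.mem_zpowers x)))

/-- general form of the `Q ⊓ C ≤ O_p(L)` and `C` is a `p`-group argument. -/
theorem centralizer_pCoreOf_facts [Finite G] [Fact p.Prime] {Q : Subgroup G}
    (hQp : IsPGroup p ↥Q) (hCQ' : Subgroup.centralizer (Q : Set G) ≤ Q) {L : Subgroup G}
    (hQL : Q ≤ L)
    (hCQ : Subgroup.centralizer ((pCoreOf p L : Subgroup G) : Set G) ≤
      Subgroup.normalizer (Q : Set G)) :
    Q ⊓ Subgroup.centralizer ((pCoreOf p L : Subgroup G) : Set G) ≤ pCoreOf p L ∧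
    IsPGroup p ↥(Subgroup.centralizer ((pCoreOf p L : Subgroup G) : Set G)) := by
  set P : Subgroup G := pCoreOf p L with hP
  set C : Subgroup G := Subgroup.centralizer (P : Set G) with hC
  have hPp : IsPGroup p ↥P := pCoreOf_isPGroup L
  have hLP : L ≤ Subgroup.normalizer (P : Set G) := le_normalizer_pCoreOf L
  have hLC : L ≤ Subgroup.normalizer (C : Set G) :=
    hLP.trans (normalizer_le_normalizer_centralizer P)
  -- `Q ⊓ C ≤ P`
  have hQC : Q ⊓ C ≤ P := by
    have h1 : Q ⊓ C ≤ pCoreOf p (L ⊓ C) := by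
      apply le_pCoreOf (inf_le_inf_right C hQL)
      · intro x hx
        exact Cfsg.Agent.Lib.Helper9.mem_normalizer_inf (hCQ hx.2) (Subgroup.le_normalizer hx.2)
      · exact hQp.to_le inf_le_left
    refine h1.trans ?_
    apply le_pCoreOf ((pCoreOf_le _).trans inf_le_left)
    · refine le_trans ?_ (normalizer_le_normalizer_pCoreOf (L ⊓ C))
      intro l hl
      exact Cfsg.Agent.Lib.Helper9.mem_normalizer_inf (Subgroup.le_normalizer hl) (hLC hl)
    · exact pCoreOf_isPGroup _
  refine ⟨hQC, ?_⟩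
  apply isPGroup_of_coprime_trivial
  intro x hx hcop
  have hxQ : x ∈ Subgroup.centralizer (Q : Set G) := by
    rw [Subgroup.mem_centralizer_iff]
    intro q hq
    have hu : x * q * x⁻¹ * q⁻¹ ∈ Q ⊓ C := by
      constructor
      · have h1 : x * q * x⁻¹ ∈ Q := (Subgroup.mem_normalizer_iff.mp (hCQ hx) q).mp hq
        exact Q.mul_mem h1 (Q.inv_mem hq)
      · have h2 : q * x⁻¹ * q⁻¹ ∈ C :=
          (Subgroup.mem_normalizer_iff.mp (hLC (hQL hq)) x⁻¹).mp (C.inv_mem hx)
        have e : x * q * x⁻¹ * q⁻¹ = x * (q * x⁻¹ * q⁻¹) := by group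
        rw [e]
        exact C.mul_mem hx h2
    have huP : x * q * x⁻¹ * q⁻¹ ∈ P := hQC hu
    have hcomm : x * (x * q * x⁻¹ * q⁻¹) = (x * q * x⁻¹ * q⁻¹) * x :=
      ((Subgroup.mem_centralizer_iff.mp hx) _ huP).symm
    have hz : ∃ k : ℕ, (x * q * x⁻¹ * q⁻¹) ^ (p ^ k) = 1 := by
      obtain ⟨k, hk⟩ := hPp ⟨_, huP⟩
      exact ⟨k, by simpa using congrArg Subtype.val hk⟩
    have h1 := coprime_step x q hcop hcomm hz
    have h2 : x * q = q * x := by
      have : x * q * x⁻¹ * q⁻¹ * (q * x) = q * x := by rw [h1, one_mul]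
      rw [← this]; group
    exact h2.symm
  exact eq_one_of_mem_pgroup_of_coprime hQp (hCQ' hxQ) hcop

/-- **Key lemma** for weakly closed `Q`: if `D` is a `p`-subgroup normalized by `L` and
`C = C_G(O_p(L))` with `C_C(D)` a `p`-group, then `C ≤ N_G(Q)`. -/
theorem wc_centralizer_le_normalizer [Finite G] [Fact p.Prime] {Q : Subgroup G}
    (hQp : IsPGroup p ↥Q) (hwc : IsWeaklyClosedSubgroup p Q) {L : Subgroup G} (hQL : Q ≤ L)
    (D : Subgroup G) (hDp : IsPGroup p ↥D) (hLD : L ≤ Subgroup.normalizer (D : Set G))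
    (hCD : Subgroup.centralizer ((pCoreOf p L : Subgroup G) : Set G) ≤
      Subgroup.normalizer (D : Set G))
    (hD : IsPGroup p ↥(Subgroup.centralizer ((pCoreOf p L : Subgroup G) : Set G) ⊓
      Subgroup.centralizer (D : Set G))) :
    Subgroup.centralizer ((pCoreOf p L : Subgroup G) : Set G) ≤
      Subgroup.normalizer (Q : Set G) := by
  set P : Subgroup G := pCoreOf p L with hP
  set C : Subgroup G := Subgroup.centralizer (P : Set G) with hC
  have hLP : L ≤ Subgroup.normalizer (P : Set G) := le_normalizer_pCoreOf L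
  have hLC : L ≤ Subgroup.normalizer (C : Set G) :=
    hLP.trans (normalizer_le_normalizer_centralizer P)
  have hQD : Q ≤ Subgroup.normalizer (D : Set G) := hQL.trans hLD
  -- `D ≤ N(Q)`
  have hDQ : D ≤ Subgroup.normalizer (Q : Set G) := by
    have h1 : IsPGroup p ↥(Q ⊔ D) := IsPGroup.to_sup_of_normal_right' hQp hDp hQD
    have h2 := wc_imp_normalizer hwc (Q ⊔ D) h1 le_sup_left
    exact (le_sup_right.trans Subgroup.le_normalizer).trans h2
  set F : Subgroup G := ⁅D, Q⁆ with hF
  have hFD : F ≤ D := Subgroup.le_normalizer_iff_commutator_le_left.mp hQD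
  have hFQ : F ≤ Q := Subgroup.le_normalizer_iff_commutator_le_right.mp hDQ
  have hFP : F ≤ P := by
    have h1 : F ≤ D ⊓ L := le_inf hFD (hFQ.trans hQL)
    refine h1.trans ?_
    apply le_pCoreOf inf_le_right _ (hDp.to_le inf_le_left)
    intro l hl
    exact Cfsg.Agent.Lib.Helper9.mem_normalizer_inf (hLD hl) (Subgroup.le_normalizer hl)
  have hCF : C ≤ Subgroup.centralizer (F : Set G) := Subgroup.centralizer_le hFP
  have hQF : Q ≤ Subgroup.normalizer (F : Set G) := Subgroup.normalizer_commutator_ge_right D Q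
  -- conjugates of `Q` under `C`
  have hconjF : ∀ c ∈ C, F.map (MulAut.conj c).toMonoidHom = F := fun c hc =>
    Subgroup.mem_normalizer_iff_map_conj_eq.mp
      (Subgroup.centralizer_le_normalizer _ (hCF hc))
  have hX1 : ∀ c : ↥C, Q.map (MulAut.conj (c : G)).toMonoidHom ≤
      Subgroup.normalizer (F : Set G) := by
    intro c
    have h1 := Subgroup.map_mono (f := (MulAut.conj (c : G)).toMonoidHom) hQF
    rwa [← normalizer_map_conj, hconjF c c.2] at h1
  have hX2 : ∀ c : ↥C, ⁅D, Q.map (MulAut.conj (c : G)).toMonoidHom⁆ ≤ F := by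
    intro c
    have hDc : D.map (MulAut.conj (c : G)).toMonoidHom = D :=
      Subgroup.mem_normalizer_iff_map_conj_eq.mp (hCD c.2)
    calc ⁅D, Q.map (MulAut.conj (c : G)).toMonoidHom⁆
        = ⁅D.map (MulAut.conj (c : G)).toMonoidHom, Q.map (MulAut.conj (c : G)).toMonoidHom⁆ := by
          rw [hDc]
      _ = F.map (MulAut.conj (c : G)).toMonoidHom := (Subgroup.map_commutator _ _ _).symm
      _ = F := hconjF c c.2
      _ ≤ F := le_rfl
  have hN0 := commutator_iSup_le (V := D) (N := F)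
    (X := fun c : ↥C => Q.map (MulAut.conj (c : G)).toMonoidHom) hX1 hX2
  set M : Subgroup G := ⁅C, Q⁆ with hM
  have hMC : M ≤ C := Subgroup.le_normalizer_iff_commutator_le_left.mp (hQL.trans hLC)
  have hMN0 : M ≤ ⨆ c : ↥C, Q.map (MulAut.conj (c : G)).toMonoidHom := by
    rw [hM, Subgroup.commutator_le]
    intro c hc q hq
    have e : ⁅c, q⁆ = (c * q * c⁻¹) * q⁻¹ := by rw [commutatorElement_def]
    rw [e]
    apply Subgroup.mul_mem
    · exact (le_iSup (fun c : ↥C => Q.map (MulAut.conj (c : G)).toMonoidHom) ⟨c, hc⟩)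
        ⟨q, hq, by simp⟩
    · apply Subgroup.inv_mem
      exact (le_iSup (fun c : ↥C => Q.map (MulAut.conj (c : G)).toMonoidHom) ⟨1, C.one_mem⟩)
        ⟨q, hq, by simp⟩
  have hDM : ⁅D, M⁆ ≤ F := (Subgroup.commutator_mono le_rfl hMN0).trans hN0
  -- `M` is a `p`-group
  have hMp : IsPGroup p ↥M := by
    apply isPGroup_of_coprime_trivial
    intro x hx hcop
    have hxC : x ∈ C := hMC hx
    have hxD : x ∈ Subgroup.centralizer (D : Set G) := by
      rw [Subgroup.mem_centralizer_iff]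
      intro d hd
      have hu : x * d * x⁻¹ * d⁻¹ ∈ F := by
        apply hDM
        rw [Subgroup.commutator_comm]
        have := Subgroup.commutator_mem_commutator hx hd
        rwa [commutatorElement_def] at this
      have hcomm : x * (x * d * x⁻¹ * d⁻¹) = (x * d * x⁻¹ * d⁻¹) * x :=
        ((Subgroup.mem_centralizer_iff.mp (hCF hxC)) _ hu).symm
      have hz : ∃ k : ℕ, (x * d * x⁻¹ * d⁻¹) ^ (p ^ k) = 1 := by
        obtain ⟨k, hk⟩ := hDp ⟨_, hFD hu⟩
        exact ⟨k, by simpa using congrArg Subtype.val hk⟩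
      have h1 := coprime_step x d hcop hcomm hz
      have h2 : x * d = d * x := by
        have : x * d * x⁻¹ * d⁻¹ * (d * x) = d * x := by rw [h1, one_mul]
        rw [← this]; group
      exact h2.symm
    exact eq_one_of_mem_pgroup_of_coprime hD ⟨hxC, hxD⟩ hcop
  have hQM : Q ≤ Subgroup.normalizer (M : Set G) := Subgroup.normalizer_commutator_ge_right C Q
  have hCM : C ≤ Subgroup.normalizer (M : Set G) := Subgroup.normalizer_commutator_ge_left C Q
  have hNp : IsPGroup p ↥(Q ⊔ M) := IsPGroup.to_sup_of_normal_right' hQp hMp hQM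
  have hCN : C ≤ Subgroup.normalizer ((Q ⊔ M : Subgroup G) : Set G) := by
    intro c hc
    apply mem_normalizer_of_map_conj_le
    rw [Subgroup.map_sup]
    apply sup_le
    · rintro _ ⟨q, hq, rfl⟩
      have e : (MulAut.conj c).toMonoidHom q = ⁅c, q⁆ * q := by
        rw [commutatorElement_def]; simp
      rw [e]
      exact Subgroup.mul_mem _ (Subgroup.mem_sup_right (Subgroup.commutator_mem_commutator hc hq))
        (Subgroup.mem_sup_left hq)
    · exact (Subgroup.mem_normalizer_iff_map_conj_eq.mp (hCM hc)).le.trans le_sup_right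
  exact hCN.trans (wc_imp_normalizer hwc (Q ⊔ M) hNp le_sup_left)

/-- case of a `p`-element `y ∈ O_p(L)` with `C_G(y)` of characteristic `p`. -/
theorem wc_centralizer_le_normalizer_of_mem [Finite G] [Fact p.Prime] {Q : Subgroup G}
    (hQp : IsPGroup p ↥Q) (hwc : IsWeaklyClosedSubgroup p Q) {L : Subgroup G} (hQL : Q ≤ L)
    (y : G) (hy : y ∈ pCoreOf p L)
    (hK : Subgroup.centralizer (pCore p ↥(Subgroup.centralizer ({y} : Set G)) :
      Set ↥(Subgroup.centralizer ({y} : Set G))) ≤ pCore p ↥(Subgroup.centralizer ({y} : Set G))) :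
    Subgroup.centralizer ((pCoreOf p L : Subgroup G) : Set G) ≤
      Subgroup.normalizer (Q : Set G) := by
  set P : Subgroup G := pCoreOf p L with hP
  set C : Subgroup G := Subgroup.centralizer (P : Set G) with hC
  have hPp : IsPGroup p ↥P := pCoreOf_isPGroup L
  have hLP : L ≤ Subgroup.normalizer (P : Set G) := le_normalizer_pCoreOf L
  have hLC : L ≤ Subgroup.normalizer (C : Set G) :=
    hLP.trans (normalizer_le_normalizer_centralizer P)
  have hCc := charP_centralizer_of_mem P hPp y hy hK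
  set G₁ : Subgroup G := L ⊔ C with hG₁
  set D : Subgroup G := pCoreOf p G₁ with hD
  have hG₁D : G₁ ≤ Subgroup.normalizer (D : Set G) := le_normalizer_pCoreOf G₁
  have hG₁P : G₁ ≤ Subgroup.normalizer (P : Set G) :=
    sup_le hLP (Subgroup.centralizer_le_normalizer _)
  have hG₁C : G₁ ≤ Subgroup.normalizer (C : Set G) := sup_le hLC Subgroup.le_normalizer
  have hPD : P ≤ D := le_pCoreOf ((pCoreOf_le L).trans le_sup_left) hG₁P hPp
  apply wc_centralizer_le_normalizer hQp hwc hQL D (pCoreOf_isPGroup G₁)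
    (le_sup_left.trans hG₁D) (le_sup_right.trans hG₁D)
  set E : Subgroup G := C ⊓ Subgroup.centralizer (D : Set G) with hE
  have hG₁E : G₁ ≤ Subgroup.normalizer (E : Set G) := by
    intro g hg
    exact Cfsg.Agent.Lib.Helper9.mem_normalizer_inf (hG₁C hg)
      (normalizer_le_normalizer_centralizer _ (hG₁D hg))
  have hEc : Subgroup.centralizer (pCore p ↥E : Set ↥E) ≤ pCore p ↥E :=
    charP_of_le_normalizer (K₁ := E) (K₂ := C) inf_le_left
      ((le_sup_right : C ≤ G₁).trans hG₁E) hCc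
  have h1 := charP_ambient E hEc
  have h2 : pCoreOf p E ≤ D := by
    apply le_pCoreOf (((pCoreOf_le E).trans inf_le_left).trans le_sup_right) _ (pCoreOf_isPGroup E)
    exact hG₁E.trans (normalizer_le_normalizer_pCoreOf E)
  have h3 : E ≤ pCoreOf p E := by
    refine le_trans (le_inf le_rfl ?_) h1
    exact inf_le_right.trans (Subgroup.centralizer_le h2)
  exact (pCoreOf_isPGroup E).to_le h3

end WCCharP

end Cfsg.Agent.Lib.Helper16
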