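import Mathlib
import Cfsg.Prelude.Def_LocalStructure
import Cfsg.Prelude.Def_Amalgam
import Cfsg.Prelude.Def_Solvable
import Cfsg.Prelude.Def_Transfer
import Cfsg.Agent.Lib.Helper16.FrakMAsym
import Cfsg.Agent.Lib.Helper16.PCore
import Cfsg.Agent.S2842

/-! `ℌ_G(O_p(M))`: existence (S2852), characteristic `p` of overgroups of a weakly closed subgroup
(ambient form of S2842), `O_p` of conjugates (helper16). -/

set_option autoImplicit false
open Cfsg
open scoped Pointwise commutatorElement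

namespace Cfsg.Agent.Lib.Helper16

-- FH START
section FrakH

variable {G : Type*} [Group G] {p : ℕ}

/-- `O_p` commutes with conjugation. -/
theorem pCoreOf_map_conj [Finite G] [Fact p.Prime] (L : Subgroup G) (c : G) :
    pCoreOf p (L.map (MulAut.conj c).toMonoidHom) =
      (pCoreOf p L).map (MulAut.conj c).toMonoidHom := by
  have key : ∀ (L : Subgroup G) (c : G), (pCoreOf p L).map (MulAut.conj c).toMonoidHom ≤
      pCoreOf p (L.map (MulAut.conj c).toMonoidHom) := by
    intro L c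
    apply le_pCoreOf (Subgroup.map_mono (pCoreOf_le L))
    · rw [normalizer_map_conj]
      exact Subgroup.map_mono (le_normalizer_pCoreOf L)
    · exact isPGroup_map_conj (pCoreOf_isPGroup L) c
  apply le_antisymm _ (key L c)
  rw [le_map_conj_iff]
  have := key (L.map (MulAut.conj c).toMonoidHom) c⁻¹
  rwa [map_conj_inv_map_conj] at this

/-- characteristic `p` is inherited by conjugates. -/
theorem charP_map_conj [Fact p.Prime] (L : Subgroup G) (c : G)
    (hL : Subgroup.centralizer (pCore p ↥L : Set ↥L) ≤ pCore p ↥L) :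
    Subgroup.centralizer (pCore p ↥(L.map (MulAut.conj c).toMonoidHom) :
      Set ↥(L.map (MulAut.conj c).toMonoidHom)) ≤ pCore p ↥(L.map (MulAut.conj c).toMonoidHom) :=
  charP_of_equiv (L.equivMapOfInjective _ (MulAut.conj c).injective) hL

/-- overgroups (inside a subgroup of characteristic `p`) of a weakly closed subgroup `Q` with
`C_G(Q) ≤ Q` have characteristic `p` (ambient form of S2842). -/
theorem charP_of_wc_le [Finite G] [Fact p.Prime] {Q : Subgroup G} (hQp : IsPGroup p ↥Q)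
    (hQ1 : Q ≠ ⊥) (hwc : IsWeaklyClosedSubgroup p Q)
    (hCQ : Subgroup.centralizer (Q : Set G) ≤ Q) {L H : Subgroup G} (hQL : Q ≤ L) (hLH : L ≤ H)
    (hH : Subgroup.centralizer (pCore p ↥H : Set ↥H) ≤ pCore p ↥H) :
    Subgroup.centralizer (pCore p ↥L : Set ↥L) ≤ pCore p ↥L := by
  have hQH : Q ≤ H := hQL.trans hLH
  have h1 : Q.subgroupOf H ≠ ⊥ := by
    intro hb
    apply hQ1
    rw [eq_bot_iff]
    intro x hx
    have : (⟨x, hQH hx⟩ : ↥H) ∈ Q.subgroupOf H := by rw [Subgroup.mem_subgroupOf]; exact hx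
    rw [hb, Subgroup.mem_bot] at this
    rw [Subgroup.mem_bot]
    exact congrArg Subtype.val this
  have h2 : Subgroup.centralizer ((Q.subgroupOf H : Subgroup ↥H) : Set ↥H) ≤ Q.subgroupOf H := by
    intro x hx
    rw [mem_centralizer_subgroupOf hQH] at hx
    rw [Subgroup.mem_subgroupOf]
    exact hCQ hx
  have h3 := (Cfsg.Agent.S2842.result (H := ↥H) (Q.subgroupOf H) hQp.comap_subtype h1
    (wc_subgroupOf hQp hwc hQH) h2 (L.subgroupOf H) (Subgroup.subgroupOf_mono H hQL)
    (Or.inl hH)).2.2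
  exact charP_of_equiv (Subgroup.subgroupOfEquivOfLe hLH) h3

/-- S2852: existence of `H ∈ ℌ_G(O_p(M))` when `Y_M` is char-`p`-tall and asymmetric. -/
theorem exists_frakH [Finite G] [Fact p.Prime] (S : Sylow p G) {Q : Subgroup G}
    (hQp : IsPGroup p ↥Q) (hQ1 : Q ≠ ⊥) (hQS : Q ≤ (S : Subgroup G)) (hQ : IsLarge Q)
    {M : Subgroup G} (hSM : (S : Subgroup G) ≤ M) (hM : IsInFrakM p M)
    (htall : IsCharPTall p (largestPReducedOf p M))
    (hasym : ¬ IsSymmetricIn (largestPReducedOf p M)) : ∃ H : Subgroup G, IsInFrakH p M H := by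
  set P := pCoreOf p M with hP
  set Y := largestPReducedOf p M with hY
  have hwc := frakM_pCoreOf_weaklyClosed S hQp hQ1 hQS hQ hSM hM hasym
  have hPp : IsPGroup p ↥P := pCoreOf_isPGroup M
  have hP1 : P ≠ ⊥ := frakM_pCoreOf_ne_bot hM
  have hCP : Subgroup.centralizer (P : Set G) ≤ P := hM.1.2
  have hPC := frakM_pCoreOf_le_centralizer hM
  obtain ⟨T, L, hTL, hLc, hYL⟩ := htall
  obtain ⟨T', hT'⟩ := (hPp.comap_subtype : IsPGroup p
    ↥(P.subgroupOf (Subgroup.centralizer ((Y : Subgroup G) : Set G)))).exists_le_sylow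
  obtain ⟨c, hc⟩ := MulAction.exists_smul_eq
    ↥(Subgroup.centralizer ((Y : Subgroup G) : Set G)) T T'
  set L' : Subgroup G := L.map (MulAut.conj (c : G)).toMonoidHom with hL'
  have hPL' : P ≤ L' := by
    intro x hx
    have h1 : (⟨x, hPC hx⟩ : ↥(Subgroup.centralizer ((Y : Subgroup G) : Set G))) ∈
        (T' : Subgroup ↥(Subgroup.centralizer ((Y : Subgroup G) : Set G))) :=
      hT' (Subgroup.mem_comap.mpr hx)
    rw [← hc, Sylow.coe_subgroup_smul, Subgroup.mem_pointwise_smul_iff_inv_smul_mem] at h1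
    have h2 := hTL (Subgroup.mem_map_of_mem _ h1)
    rw [hL', mem_map_conj_iff]
    simpa [MulAut.smul_def, mul_assoc] using h2
  have hL'c := charP_map_conj L (c : G) hLc
  have hcN : (c : G) ∈ Subgroup.normalizer ((Y : Subgroup G) : Set G) :=
    Subgroup.centralizer_le_normalizer _ c.2
  have hYL' : ¬ Y ≤ pCoreOf p L' := by
    rw [hL', pCoreOf_map_conj]
    intro h
    apply hYL
    have h' : Y.map (MulAut.conj (c : G)).toMonoidHom ≤
        (pCoreOf p L).map (MulAut.conj (c : G)).toMonoidHom :=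
      (le_of_eq (map_conj_eq_of_mem_normalizer hcN)).trans h
    exact (Subgroup.map_le_map_iff_of_injective (MulAut.conj (c : G)).injective).mp h'
  obtain ⟨H, -, hHmin⟩ := Finite.exists_le_minimal
    (p := fun H : Subgroup G => Subgroup.centralizer (pCore p ↥H : Set ↥H) ≤ pCore p ↥H ∧
      P ≤ H ∧ ¬ Y ≤ pCoreOf p H) (a := L') ⟨hL'c, hPL', hYL'⟩
  obtain ⟨hHc, hPH, hYH⟩ := hHmin.prop
  refine ⟨H, hHc, hPH, hYH, ?_⟩
  intro P' hPP' hP'H
  by_contra hne
  have hP'c := charP_of_wc_le hPp hP1 hwc hCP hPP' hP'H.le hHc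
  have := hHmin.le_of_le ⟨hP'c, hPP', hne⟩ hP'H.le
  exact absurd hP'H (not_lt_of_ge this)

end FrakH

end Cfsg.Agent.Lib.Helper16
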