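import Cfsg.Agent.Lib.Helper16.Comm
import Mathlib.GroupTheory.IsSubnormal

set_option autoImplicit false
open Cfsg
open scoped Pointwise commutatorElement

namespace Cfsg.Agent.Lib.Helper16

variable {G : Type*} [Group G] {p : ℕ}

/-- `O^p(K)` of a subgroup `K`, in the ambient group. -/
def OpOf (p : ℕ) (K : Subgroup G) : Subgroup G :=
  Subgroup.closure {g : G | g ∈ K ∧ (orderOf g).Coprime p}

theorem pResidual_map_subtype (K : Subgroup G) :
    (pResidual p ↥K).map K.subtype = OpOf p K := by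
  unfold pResidual OpOf
  rw [MonoidHom.map_closure]
  congr 1
  ext g
  constructor
  · rintro ⟨x, hx, rfl⟩
    refine ⟨x.2, ?_⟩
    have hx' : (orderOf x).Coprime p := hx
    rwa [← Subgroup.orderOf_coe] at hx'
  · rintro ⟨hgK, hg⟩
    refine ⟨⟨g, hgK⟩, ?_, rfl⟩
    show (orderOf (⟨g, hgK⟩ : K)).Coprime p
    rw [← Subgroup.orderOf_coe]; exact hg

theorem OpOf_le (K : Subgroup G) : OpOf p K ≤ K := by
  unfold OpOf
  rw [Subgroup.closure_le]
  intro g hg
  exact hg.1

theorem OpOf_mono {K1 K2 : Subgroup G} (h : K1 ≤ K2) : OpOf p K1 ≤ OpOf p K2 := by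
  unfold OpOf
  apply Subgroup.closure_mono
  intro g hg
  exact ⟨h hg.1, hg.2⟩

theorem OpOf_le_OpOf_of_le {X M : Subgroup G} (h : OpOf p X ≤ M) : OpOf p X ≤ OpOf p M := by
  conv_lhs => unfold OpOf
  rw [Subgroup.closure_le]
  intro g hg
  have h1 : g ∈ OpOf p X := Subgroup.subset_closure hg
  exact Subgroup.subset_closure ⟨h h1, hg.2⟩

theorem le_normalizer_OpOf [Finite G] (X : Subgroup G) :
    X ≤ Subgroup.normalizer ((OpOf p X : Subgroup G) : Set G) := by
  intro x hx
  apply mem_normalizer_of_map_conj_le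
  unfold OpOf
  rw [MonoidHom.map_closure, Subgroup.closure_le]
  rintro _ ⟨g, hg, rfl⟩
  apply Subgroup.subset_closure
  simp only [MulEquiv.coe_toMonoidHom, MulAut.conj_apply]
  refine ⟨X.mul_mem (X.mul_mem hx hg.1) (X.inv_mem hx), ?_⟩
  have : orderOf (x * g * x⁻¹) = orderOf g := (MulAut.conj x).orderOf_eq g
  rw [this]; exact hg.2

theorem pow_mul_mem_of_normalizes {M : Subgroup G} {b a : G} (hb : b ∈ M)
    (ha : a ∈ Subgroup.normalizer (M : Set G)) (n : ℕ) : (b * a) ^ n * (a ^ n)⁻¹ ∈ M := by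
  induction n with
  | zero => simp
  | succ n ih =>
    have han : a ^ n ∈ Subgroup.normalizer (M : Set G) := Subgroup.pow_mem _ ha n
    have h1 : a ^ n * b * (a ^ n)⁻¹ ∈ M := (Subgroup.mem_normalizer_iff.mp han b).mp hb
    have e : (b * a) ^ (n + 1) * (a ^ (n + 1))⁻¹ =
        ((b * a) ^ n * (a ^ n)⁻¹) * (a ^ n * b * (a ^ n)⁻¹) := by
      rw [pow_succ, pow_succ]; group
    rw [e]; exact M.mul_mem ih h1

theorem mul_mem_of_coprime {M : Subgroup G} {b a : G} (hb : b ∈ M)
    (ha : a ∈ Subgroup.normalizer (M : Set G)) (hap : ∃ k : ℕ, a ^ (p ^ k) = 1)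
    (hcop : (orderOf (b * a)).Coprime p) : b * a ∈ M := by
  obtain ⟨k, hk⟩ := hap
  have h1 := pow_mul_mem_of_normalizes hb ha (p ^ k)
  rw [hk, inv_one, mul_one] at h1
  have h2 : (p ^ k).Coprime (orderOf (b * a)) := (Nat.Coprime.pow_right k hcop).symm
  obtain ⟨m, hm⟩ := exists_pow_eq_self_of_coprime h2
  rw [← hm]
  exact M.pow_mem h1 m

/-- `O_p(Y) ≤ O_p(G)` for `Y` subnormal in `G`. -/
theorem pCoreOf_le_pCore_of_subnormal [Fact p.Prime] (Y : Subgroup G) (hY : Y.IsSubnormal) :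
    (pCore p Y).map Y.subtype ≤ pCore p G := by
  induction hY with
  | top =>
    rintro _ ⟨x, hx, rfl⟩
    rw [← pCore_map_equiv (Subgroup.topEquiv (G := G))]
    exact ⟨x, hx, rfl⟩
  | step H K h_le hSubn hN ih =>
    have := hN
    rintro _ ⟨x, hx, rfl⟩
    rw [← pCore_map_equiv (Subgroup.subgroupOfEquivOfLe h_le)] at hx
    obtain ⟨y, hy, rfl⟩ := hx
    have h1 : (y : ↥K) ∈ pCore p ↥K :=
      pCoreOf_le_pCore_of_normal (H.subgroupOf K) ⟨y, hy, rfl⟩
    exact ih ⟨(y : ↥K), h1, rfl⟩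

theorem le_pCore_of_subnormal [Fact p.Prime] (A : Subgroup G) (hA : A.IsSubnormal)
    (hAp : IsPGroup p A) : A ≤ pCore p G := by
  intro a ha
  apply pCoreOf_le_pCore_of_subnormal A hA
  have h1 : (⊤ : Subgroup A) ≤ pCore p ↥A := by
    apply le_pCore Subgroup.normal_top
    exact hAp.to_subgroup _
  exact ⟨⟨a, ha⟩, h1 (Subgroup.mem_top _), rfl⟩

theorem exists_pow_eq_one_of_isPGroup {P : Subgroup G} (hP : IsPGroup p P) {a : G} (ha : a ∈ P) :
    ∃ k : ℕ, a ^ (p ^ k) = 1 := by
  obtain ⟨k, hk⟩ := hP ⟨a, ha⟩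
  exact ⟨k, by simpa using congrArg Subtype.val hk⟩

/-- if `X = B P` with `P` a normal `p`-subgroup, then the `p'`-elements of `X` lie in any
`X`-invariant subgroup `M` containing `B`. -/
theorem OpOf_le_of_sup {X B P M : Subgroup G} (hP : IsPGroup p P) (hPX : P ≤ X)
    (hXP : X ≤ Subgroup.normalizer (P : Set G)) (hBP : B ⊔ P = X) (hBM : B ≤ M)
    (hXM : X ≤ Subgroup.normalizer (M : Set G)) : OpOf p X ≤ M := by
  have hBX : B ≤ X := by rw [← hBP]; exact le_sup_left
  unfold OpOf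
  rw [Subgroup.closure_le]
  rintro g ⟨hgX, hg⟩
  have hg' : g ∈ ((B ⊔ P : Subgroup G) : Set G) := by rw [hBP]; exact hgX
  rw [Subgroup.coe_mul_of_left_le_normalizer_right B P (hBX.trans hXP)] at hg'
  obtain ⟨b, hb, a, ha, rfl⟩ := hg'
  exact mul_mem_of_coprime (hBM hb) (hXM (hPX ha)) (exists_pow_eq_one_of_isPGroup hP ha) hg

theorem OpOf_eq_of_subnormal [Fact p.Prime] [Finite G] : ∀ n : ℕ, ∀ X B P : Subgroup G,
    Nat.card X = n → IsPGroup p P → P ≤ X → X ≤ Subgroup.normalizer (P : Set G) → B ⊔ P = X →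
    (B.subgroupOf X).IsSubnormal → OpOf p B = B → OpOf p X = B := by
  intro n
  induction n using Nat.strong_induction_on with
  | _ n ih =>
  intro X B P hn hP hPX hXP hBP hsub hB
  have hBX : B ≤ X := by rw [← hBP]; exact le_sup_left
  rcases hsub.lt_normal with htop | ⟨M', hM'n, hBM', hM'lt⟩
  · have hXB : X ≤ B := by
      intro x hx
      have : (⟨x, hx⟩ : X) ∈ B.subgroupOf X := by rw [htop]; exact Subgroup.mem_top _
      exact this
    have : X = B := le_antisymm hXB hBX
    rw [this]; exact hB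
  · set M : Subgroup G := M'.map X.subtype with hM
    have hMX : M ≤ X := Subgroup.map_subtype_le _
    have hBM : B ≤ M := by
      intro x hx
      exact ⟨⟨x, hBX hx⟩, hBM' (by rw [Subgroup.mem_subgroupOf]; exact hx), rfl⟩
    have hcard : Nat.card M < Nat.card X := by
      by_contra hge
      rw [not_lt] at hge
      have hMeq : M = X := Subgroup.eq_of_le_of_card_ge hMX hge
      apply hM'lt.ne
      rw [eq_top_iff]
      intro x _
      have hx : (x : G) ∈ M := by rw [hMeq]; exact x.2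
      obtain ⟨y, hy, hyx⟩ := hx
      have : y = x := Subtype.ext hyx
      rw [← this]; exact hy
    have hXM : X ≤ Subgroup.normalizer (M : Set G) := by
      intro x hx
      apply mem_normalizer_of_map_conj_le
      rintro _ ⟨m, ⟨m', hm', rfl⟩, rfl⟩
      refine ⟨⟨x, hx⟩ * m' * ⟨x, hx⟩⁻¹, hM'n.conj_mem m' hm' ⟨x, hx⟩, ?_⟩
      simp
    -- P1 = P ⊓ M
    have hP1 : IsPGroup p ↥(P ⊓ M) := hP.to_le inf_le_left
    have hMP1 : M ≤ Subgroup.normalizer ((P ⊓ M : Subgroup G) : Set G) := by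
      intro m hm
      have h1 := hXP (hMX hm)
      rw [Subgroup.mem_normalizer_iff] at h1 ⊢
      intro h
      constructor
      · rintro ⟨hhP, hhM⟩
        exact ⟨(h1 h).mp hhP, M.mul_mem (M.mul_mem hm hhM) (M.inv_mem hm)⟩
      · rintro ⟨hhP, hhM⟩
        refine ⟨(h1 h).mpr hhP, ?_⟩
        have e : h = m⁻¹ * (m * h * m⁻¹) * m := by group
        rw [e]; exact M.mul_mem (M.mul_mem (M.inv_mem hm) hhM) hm
    have hBP1 : B ⊔ (P ⊓ M) = M := by
      apply le_antisymm
      · exact sup_le hBM inf_le_right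
      · intro m hm
        have hm' : m ∈ ((B ⊔ P : Subgroup G) : Set G) := by rw [hBP]; exact hMX hm
        rw [Subgroup.coe_mul_of_left_le_normalizer_right B P (hBX.trans hXP)] at hm'
        obtain ⟨b, hb, a, ha, rfl⟩ := hm'
        have haM : a ∈ M := by
          have e : a = b⁻¹ * (b * a) := by group
          rw [e]; exact M.mul_mem (M.inv_mem (hBM hb)) hm
        exact Subgroup.mul_mem _ (Subgroup.mem_sup_left hb) (Subgroup.mem_sup_right ⟨ha, haM⟩)
    have hsubM : (B.subgroupOf M).IsSubnormal := by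
      have h1 := hsub.comap (Subgroup.inclusion hMX)
      have e : Subgroup.comap (Subgroup.inclusion hMX) (B.subgroupOf X) = B.subgroupOf M := by
        ext x
        simp [Subgroup.mem_subgroupOf]
      rwa [e] at h1
    have hOM : OpOf p M = B :=
      ih (Nat.card M) (by rw [← hn]; exact hcard) M B (P ⊓ M) rfl hP1 inf_le_right hMP1 hBP1
        hsubM hB
    apply le_antisymm
    · have h1 : OpOf p X ≤ M := OpOf_le_of_sup hP hPX hXP hBP hBM hXM
      have h2 := OpOf_le_OpOf_of_le h1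
      rwa [hOM] at h2
    · calc B = OpOf p B := hB.symm
        _ ≤ OpOf p X := OpOf_mono hBX

theorem subnormal_pgroup_normalizes [Fact p.Prime] [Finite G] (A B : Subgroup G)
    (hA : A.IsSubnormal) (hB : B.IsSubnormal) (hAp : IsPGroup p ↥A) (hBres : OpOf p B = B) :
    A ≤ Subgroup.normalizer (B : Set G) ∧ OpOf p (A ⊔ B) = B := by
  have hAN : A ≤ Subgroup.normalizer (B : Set G) := by
    set P : Subgroup G := pCore p G with hPdef
    have hP : IsPGroup p P := pCore_isPGroup
    have hPn : P.Normal := inferInstance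
    set X : Subgroup G := B ⊔ P with hX
    have h1 : OpOf p X = B :=
      OpOf_eq_of_subnormal (Nat.card X) X B P rfl hP le_sup_right
        (by rw [Subgroup.normalizer_eq_top]; exact le_top) rfl hB.subgroupOf hBres
    have h2 := le_normalizer_OpOf (p := p) X
    rw [h1] at h2
    exact ((le_pCore_of_subnormal A hA hAp).trans le_sup_right).trans h2
  refine ⟨hAN, ?_⟩
  apply le_antisymm
  · unfold OpOf
    rw [Subgroup.closure_le]
    rintro g ⟨hgX, hg⟩
    have hg' : g ∈ ((B ⊔ A : Subgroup G) : Set G) := by rw [sup_comm]; exact hgX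
    rw [Subgroup.coe_mul_of_right_le_normalizer_left B A hAN] at hg'
    obtain ⟨b, hb, a, ha, rfl⟩ := hg'
    exact mul_mem_of_coprime hb (hAN ha) (exists_pow_eq_one_of_isPGroup hAp ha) hg
  · calc B = OpOf p B := hBres.symm
      _ ≤ OpOf p (A ⊔ B) := OpOf_mono le_sup_right

end Cfsg.Agent.Lib.Helper16
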