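import Mathlib
import Cfsg.Prelude.Def_LocalStructure
import Cfsg.Prelude.Def_Amalgam
import Cfsg.Prelude.Def_Solvable
import Cfsg.Prelude.Def_Transfer
import Cfsg.Agent.Lib.Helper16.FrakH
import Cfsg.Agent.Lib.Helper16.Subnormal
import Cfsg.Agent.Lib.Helper16.Irreducible
import Cfsg.Agent.Lib.Helper16.WCCharP

/-! Properties of `H ∈ ℌ_G(O_p(M))` (S2853), ambient `O^p` and normal closure helpers
(helper16). -/

set_option autoImplicit false
open Cfsg
open scoped Pointwise commutatorElement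

namespace Cfsg.Agent.Lib.Helper16

-- FH2 START
section FrakH2

variable {G : Type*} [Group G] {p : ℕ}

/-- `O_p(N) ≤ O_p(H)` for `N ⊴ H`. -/
theorem pCoreOf_le_pCoreOf_of_normal [Finite G] [Fact p.Prime] {N H : Subgroup G} (hNH : N ≤ H)
    (hHN : H ≤ Subgroup.normalizer (N : Set G)) : pCoreOf p N ≤ pCoreOf p H := by
  apply le_pCoreOf ((pCoreOf_le N).trans hNH) _ (pCoreOf_isPGroup N)
  intro h hh
  apply mem_normalizer_of_map_conj_le
  rw [← pCoreOf_map_conj, map_conj_eq_of_mem_normalizer (hHN hh)]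

/-- the normal closure in `↥H` of `Y ≤ H`, viewed in `G`, is `conjClosure H Y`. -/
theorem normalClosure_subgroupOf_map {H Y : Subgroup G} (hYH : Y ≤ H) :
    (Subgroup.normalClosure ((Y.subgroupOf H : Subgroup ↥H) : Set ↥H)).map H.subtype =
      conjClosure H Y := by
  apply le_antisymm
  · have hHN := le_normalizer_conjClosure H Y
    have hn : ((conjClosure H Y).subgroupOf H).Normal :=
      (Subgroup.normal_subgroupOf_iff_le_normalizer (conjClosure_le hYH le_rfl)).mpr hHN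
    rw [Subgroup.map_le_iff_le_comap]
    apply Subgroup.normalClosure_le_normal (N := (conjClosure H Y).subgroupOf H)
    intro x hx
    rw [SetLike.mem_coe, Subgroup.mem_subgroupOf] at hx ⊢
    exact le_conjClosure H Y hx
  · unfold conjClosure
    apply iSup_le
    rintro ⟨l, hl⟩ _ ⟨y, hy, rfl⟩
    have hy' : (⟨y, hYH hy⟩ : ↥H) ∈ Subgroup.normalClosure
        ((Y.subgroupOf H : Subgroup ↥H) : Set ↥H) :=
      Subgroup.subset_normalClosure (by
        rw [SetLike.mem_coe, Subgroup.mem_subgroupOf]; exact hy)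
    have hn : (Subgroup.normalClosure ((Y.subgroupOf H : Subgroup ↥H) : Set ↥H)).Normal :=
      Subgroup.normalClosure_normal
    refine ⟨⟨l, hl⟩ * ⟨y, hYH hy⟩ * ⟨l, hl⟩⁻¹, hn.conj_mem _ hy' _, ?_⟩
    simp

theorem mem_OpOf_of_coprime {K : Subgroup G} {x : G} (hx : x ∈ K) (hc : (orderOf x).Coprime p) :
    x ∈ OpOf p K := Subgroup.subset_closure ⟨hx, hc⟩

/-- `O^p(H) ≤ N` whenever the `p'`-elements of `H` lie in `N`. -/
theorem OpOf_le_of_forall {K N : Subgroup G}
    (h : ∀ x ∈ K, (orderOf x).Coprime p → x ∈ N) : OpOf p K ≤ N := by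
  unfold OpOf
  rw [Subgroup.closure_le]
  rintro x ⟨hx, hc⟩
  exact h x hx hc

/-- `O^p(H) T = H` for a `p`-subgroup `T` of `H` of Sylow order (given as a Sylow subgroup of
`↥H`). -/
theorem OpOf_sup_sylow [Finite G] [Fact p.Prime] (H : Subgroup G) (T : Sylow p ↥H) :
    OpOf p H ⊔ (T : Subgroup ↥H).map H.subtype = H := by
  have h1 : pResidual p ↥H ⊔ (T : Subgroup ↥H) = ⊤ :=
    eq_top_of_sylow_le_of_pResidual_le T le_sup_right le_sup_left
  have h2 := congrArg (Subgroup.map H.subtype) h1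
  rw [Subgroup.map_sup, pResidual_map_subtype, ← MonoidHom.range_eq_map,
    Subgroup.range_subtype] at h2
  exact h2

end FrakH2

section FrakHFacts

variable {G : Type*} [Group G] {p : ℕ}

/-- Lemma B: for `H ∈ ℌ_G(O_p(M))` and `N ⊴ H` containing `Y_M`: `N O_p(M) = H`. -/
theorem frakH_sup_eq [Finite G] [Fact p.Prime] {M H : Subgroup G} (hH : IsInFrakH p M H)
    {N : Subgroup G} (hNH : N ≤ H) (hHN : H ≤ Subgroup.normalizer (N : Set G))
    (hYN : largestPReducedOf p M ≤ N) : N ⊔ pCoreOf p M = H := by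
  obtain ⟨-, hPH, hYD, hmin⟩ := hH
  by_contra hne
  have hle : N ⊔ pCoreOf p M ≤ H := sup_le hNH hPH
  have hlt : N ⊔ pCoreOf p M < H := lt_of_le_of_ne hle hne
  have h1 := hmin (N ⊔ pCoreOf p M) le_sup_right hlt
  apply hYD
  have h2 : largestPReducedOf p M ≤ pCoreOf p (N ⊔ pCoreOf p M) ⊓ N := le_inf h1 hYN
  have h3 : pCoreOf p (N ⊔ pCoreOf p M) ⊓ N ≤ pCoreOf p N := by
    apply le_pCoreOf inf_le_right _ ((pCoreOf_isPGroup (N ⊔ pCoreOf p M)).to_le inf_le_left)
    intro n hn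
    have hn' : n ∈ N ⊔ pCoreOf p M := Subgroup.mem_sup_left hn
    have e1 := map_conj_eq_of_mem_normalizer (le_normalizer_pCoreOf (p := p) (N ⊔ pCoreOf p M) hn')
    have e2 : N.map (MulAut.conj n).toMonoidHom = N := map_conj_eq_self_of_mem hn
    apply mem_normalizer_of_map_conj_le
    calc (pCoreOf p (N ⊔ pCoreOf p M) ⊓ N).map (MulAut.conj n).toMonoidHom
        ≤ (pCoreOf p (N ⊔ pCoreOf p M)).map (MulAut.conj n).toMonoidHom ⊓
            N.map (MulAut.conj n).toMonoidHom := Subgroup.map_inf_le _ _ _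
      _ = pCoreOf p (N ⊔ pCoreOf p M) ⊓ N := by rw [e1, e2]
  exact (h2.trans h3).trans (pCoreOf_le_pCoreOf_of_normal hNH hHN)

/-- Lemma A: a normal subgroup of `H ∈ ℌ_G(O_p(M))` containing `O_p(M)` is `H`. -/
theorem frakH_eq_of_normal [Finite G] [Fact p.Prime] {M H : Subgroup G} (hM : IsInFrakM p M)
    (hH : IsInFrakH p M H)
    {N : Subgroup G} (hNH : N ≤ H) (hHN : H ≤ Subgroup.normalizer (N : Set G))
    (hPN : pCoreOf p M ≤ N) : N = H := by
  have hchar := charP_of_mem_charPSubgroups hM.1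
  obtain ⟨-, -, -, hYP, -⟩ := largestPReducedOf_spec (p := p) M hchar
  have := frakH_sup_eq hH hNH hHN (hYP.trans hPN)
  rwa [sup_eq_left.mpr hPN] at this

/-- S2853 in ambient form. -/
theorem frakH_facts [Finite G] [Fact p.Prime] (S : Sylow p G) {Q : Subgroup G}
    (hQp : IsPGroup p ↥Q) (hQ1 : Q ≠ ⊥) (hQS : Q ≤ (S : Subgroup G)) (hQ : IsLarge Q)
    {M : Subgroup G} (hSM : (S : Subgroup G) ≤ M) (hM : IsInFrakM p M)
    (hasym : ¬ IsSymmetricIn (largestPReducedOf p M)) {H : Subgroup G}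
    (hH : IsInFrakH p M H) :
    (∀ T : Sylow p ↥(H ⊓ (M ⊔ Subgroup.centralizer ((largestPReducedOf p M : Subgroup G) : Set G))),
      ∃ P' : Sylow p ↥H, ((P' : Subgroup ↥H).map H.subtype) =
        (T : Subgroup ↥(H ⊓ (M ⊔ Subgroup.centralizer
          ((largestPReducedOf p M : Subgroup G) : Set G)))).map
          (H ⊓ (M ⊔ Subgroup.centralizer
            ((largestPReducedOf p M : Subgroup G) : Set G))).subtype) ∧
    pCoreOf p H ≤ Subgroup.normalizer ((pCoreOf p M : Subgroup G) : Set G) ⊓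
      Subgroup.normalizer ((largestPReducedOf p M : Subgroup G) : Set G) ∧
    ⁅OpOf p H, largestPReducedOf p M⁆ = OpOf p H ∧
    OpOf p H ⊔ pCoreOf p M = H ∧
    OpOf p H ⊔ largestPReducedOf p M = conjClosure H (largestPReducedOf p M) ∧
    conjClosure H (pCoreOf p M) = H := by
  set P := pCoreOf p M with hP
  set Y := largestPReducedOf p M with hY
  set Md := M ⊔ Subgroup.centralizer ((Y : Subgroup G) : Set G) with hMd
  set R := OpOf p H with hR
  have hwc := frakM_pCoreOf_weaklyClosed S hQp hQ1 hQS hQ hSM hM hasym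
  have hPp : IsPGroup p ↥P := pCoreOf_isPGroup M
  have hNP := frakM_normalizer_pCoreOf_le S hQp hQ hSM hM
  have hMdY := frakM_dagger_le_normalizer hM
  have hchar := charP_of_mem_charPSubgroups hM.1
  obtain ⟨-, hAPR, -, hYP, -⟩ := largestPReducedOf_spec (p := p) M hchar
  have hPH : P ≤ H := hH.2.1
  have hYH : Y ≤ H := hYP.trans hPH
  have hPY : P ≤ Subgroup.normalizer ((Y : Subgroup G) : Set G) := (pCoreOf_le M).trans hAPR.1
  -- a Sylow subgroup of `H` inside `N_G(P)`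
  obtain ⟨T₀, hT₀⟩ := wc_parabolic hPp hwc hPH
  set T₁ : Subgroup G := (T₀ : Subgroup ↥H).map H.subtype with hT₁
  have hT₁H : T₁ ≤ H := Subgroup.map_subtype_le _
  have hT₁N : T₁ ≤ Subgroup.normalizer (P : Set G) := by
    rintro _ ⟨x, hx, rfl⟩
    have := hT₀ hx
    rwa [Subgroup.mem_subgroupOf] at this
  have hRH : R ≤ H := OpOf_le H
  have hHR : H ≤ Subgroup.normalizer (R : Set G) := le_normalizer_OpOf H
  have hRT : R ⊔ T₁ = H := OpOf_sup_sylow H T₀
  -- (6)
  have h6 : conjClosure H P = H :=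
    frakH_eq_of_normal hM hH (conjClosure_le hPH le_rfl) (le_normalizer_conjClosure H P)
      (le_conjClosure H P)
  -- (4)
  have h4 : R ⊔ P = H := by
    apply frakH_eq_of_normal hM hH (sup_le hRH hPH) _ le_sup_right
    rw [← hRT]
    apply sup_le
    · exact le_sup_left.trans Subgroup.le_normalizer
    · intro t ht
      apply mem_normalizer_of_map_conj_le
      rw [Subgroup.map_sup, map_conj_eq_of_mem_normalizer (hHR (hT₁H ht)),
        map_conj_eq_of_mem_normalizer (hT₁N ht)]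
  -- `N₁ = ⟨Y^H⟩`
  set N₁ := conjClosure H Y with hN₁
  have hN₁H : N₁ ≤ H := conjClosure_le hYH le_rfl
  have hHN₁ : H ≤ Subgroup.normalizer (N₁ : Set G) := le_normalizer_conjClosure H Y
  have hYN₁ : Y ≤ N₁ := le_conjClosure H Y
  have hN₁P : N₁ ⊔ P = H := frakH_sup_eq hH hN₁H hHN₁ hYN₁
  have hRN₁ : R ≤ N₁ := by
    apply OpOf_le_of_forall
    intro x hx hc
    exact mem_of_coprime_of_mem_sup hPp (hPH.trans hHN₁) (by rw [hN₁P]; exact hx) hc
  -- `N₁ = [R,Y] Y`
  have hcomm_le : ⁅R, Y⁆ ≤ R :=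
    Subgroup.le_normalizer_iff_commutator_le_left.mp (hYH.trans hHR)
  have hYnc : Y ≤ Subgroup.normalizer ((⁅R, Y⁆ : Subgroup G) : Set G) :=
    Subgroup.normalizer_commutator_ge_right R Y
  have hN₁eq : N₁ = ⁅R, Y⁆ ⊔ Y := by
    apply le_antisymm
    · rw [hN₁]
      unfold conjClosure
      apply iSup_le
      rintro ⟨h, hh⟩
      have hh' : h ∈ R ⊔ P := by rw [h4]; exact hh
      obtain ⟨r, hr, a, ha, rfl⟩ := Cfsg.Agent.Lib.Helper8.mem_sup_of_le_normalizer
        (hPH.trans hHR) hh'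
      show Y.map (MulAut.conj (r * a)).toMonoidHom ≤ _
      rw [← map_conj_map_conj, map_conj_eq_of_mem_normalizer (hPY ha)]
      rintro _ ⟨y, hy, rfl⟩
      have e : (MulAut.conj r).toMonoidHom y = ⁅r, y⁆ * y := by
        simp only [MulEquiv.coe_toMonoidHom, MulAut.conj_apply, commutatorElement_def]
        group
      rw [e]
      exact Subgroup.mul_mem _ (Subgroup.mem_sup_left (Subgroup.commutator_mem_commutator hr hy))
        (Subgroup.mem_sup_right hy)
    · apply sup_le _ hYN₁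
      rw [Subgroup.commutator_le]
      intro r hr y hy
      have h1 : r * y * r⁻¹ ∈ N₁ :=
        map_conj_le_conjClosure H Y (hRH hr) ⟨y, hy, by simp⟩
      have e : ⁅r, y⁆ = r * y * r⁻¹ * y⁻¹ := commutatorElement_def r y
      rw [e]
      exact Subgroup.mul_mem _ h1 (Subgroup.inv_mem _ (hYN₁ hy))
  have hYp : IsPGroup p ↥Y := hPp.to_le hYP
  -- (3)
  have h3 : ⁅R, Y⁆ = R := by
    apply le_antisymm hcomm_le
    apply OpOf_le_of_forall
    intro x hx hc
    have hx1 : x ∈ ⁅R, Y⁆ ⊔ Y := by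
      rw [← hN₁eq]; exact hRN₁ (mem_OpOf_of_coprime hx hc)
    exact mem_of_coprime_of_mem_sup hYp hYnc hx1 hc
  -- (5)
  have h5 : R ⊔ Y = N₁ := by rw [hN₁eq, h3]
  -- (2)
  have hDT : pCoreOf p H ≤ T₁ := by
    rintro _ ⟨x, hx, rfl⟩
    exact ⟨x, Cfsg.Agent.Lib.Helper1.pCore_le_sylow T₀ hx, rfl⟩
  have h2 : pCoreOf p H ≤ Subgroup.normalizer (P : Set G) ⊓
      Subgroup.normalizer ((Y : Subgroup G) : Set G) :=
    le_inf (hDT.trans hT₁N) (hDT.trans (hT₁N.trans (hNP.trans hMdY)))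
  refine ⟨?_, h2, h3, h4, h5, h6⟩
  -- (1)
  intro T
  have hp : p.Prime := Fact.out
  set T₂ : Subgroup G := (T : Subgroup ↥(H ⊓ Md)).map (H ⊓ Md).subtype with hT₂
  have hT₂K : T₂ ≤ H ⊓ Md := Subgroup.map_subtype_le _
  have hT₂H : T₂ ≤ H := hT₂K.trans inf_le_left
  have hT₁K : T₁ ≤ H ⊓ Md := le_inf hT₁H (hT₁N.trans hNP)
  have c1 : Nat.card ↥T₁ = p ^ (Nat.card ↥H).factorization p := by
    rw [hT₁, Subgroup.card_subtype]; exact T₀.card_eq_multiplicity
  have c2 : Nat.card ↥T₂ = p ^ (Nat.card ↥(H ⊓ Md)).factorization p := by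
    rw [hT₂, Subgroup.card_subtype]; exact T.card_eq_multiplicity
  have hKH : Nat.card ↥(H ⊓ Md) ∣ Nat.card ↥H := Subgroup.card_dvd_of_le inf_le_left
  have hT₁dvd : Nat.card ↥T₁ ∣ Nat.card ↥(H ⊓ Md) := Subgroup.card_dvd_of_le hT₁K
  have e1 : (Nat.card ↥(H ⊓ Md)).factorization p ≤ (Nat.card ↥H).factorization p :=
    (Nat.factorization_le_iff_dvd Nat.card_pos.ne' Nat.card_pos.ne').mpr hKH p
  have e2 : (Nat.card ↥H).factorization p ≤ (Nat.card ↥(H ⊓ Md)).factorization p := by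
    rw [c1] at hT₁dvd
    exact (hp.pow_dvd_iff_le_factorization Nat.card_pos.ne').mp hT₁dvd
  have c3 : Nat.card ↥(T₂.subgroupOf H) = p ^ (Nat.card ↥H).factorization p := by
    rw [Nat.card_congr (Subgroup.subgroupOfEquivOfLe hT₂H).toEquiv, c2, le_antisymm e1 e2]
  refine ⟨Sylow.ofCard (T₂.subgroupOf H) c3, ?_⟩
  rw [Sylow.coe_ofCard, Subgroup.map_subgroupOf_eq_of_le hT₂H]

end FrakHFacts

end Cfsg.Agent.Lib.Helper16
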