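import Mathlib
import Cfsg.Agent.Lib.Helper8.TW.Defs

/-!
# S5641 block (T), TI leaves: `img`, `mv`, `conjG` API (helper16)
-/

set_option autoImplicit false
set_option linter.unusedSectionVars false
set_option linter.unusedVariables false

namespace Cfsg.Agent.Lib.Helper16.TWLeaf
open Matrix Cfsg.Geo Cfsg.Agent.Lib.Helper8.TW

variable {F : Type*} [Field F] {t m : ℕ}

/-- the linear equivalence attached to a unit -/
noncomputable def glEquiv {ι : Type} [Fintype ι] [DecidableEq ι] (g : GL ι F) : (ι → F) ≃ₗ[F] (ι → F) :=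
  Matrix.toLin'OfInv (M := ((g⁻¹ : GL ι F) : Matrix ι ι F)) (M' := (g : Matrix ι ι F))
    (by rw [← Units.val_mul, inv_mul_cancel, Units.val_one])
    (by rw [← Units.val_mul, mul_inv_cancel, Units.val_one])

lemma glEquiv_coe {ι : Type} [Fintype ι] [DecidableEq ι] (g : GL ι F) :
    ((glEquiv g : (ι → F) ≃ₗ[F] (ι → F)) : (ι → F) →ₗ[F] (ι → F)) = Matrix.toLin' (g : Matrix ι ι F) := by
  exact LinearMap.ext fun v => rfl

lemma toLin'_gl_injective {ι : Type} [Fintype ι] [DecidableEq ι] (g : GL ι F) :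
    Function.Injective (Matrix.toLin' (g : Matrix ι ι F)) := by
  rw [← glEquiv_coe]
  exact (glEquiv g).injective

/-- TI1 (S) -/
theorem img_mul {ι : Type} [Fintype ι] [DecidableEq ι] (g h : GL ι F) (S : Submodule F (ι → F)) :
    img (g * h) S = img g (img h S) := by
  unfold img
  rw [Units.val_mul, Matrix.toLin'_mul, Submodule.map_comp]

/-- TI2 (S) -/
theorem img_one {ι : Type} [Fintype ι] [DecidableEq ι] (S : Submodule F (ι → F)) : img (1 : GL ι F) S = S := by
  unfold img
  rw [Units.val_one, Matrix.toLin'_one, Submodule.map_id]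

/-- TI3 (S) -/
theorem mem_img_iff {ι : Type} [Fintype ι] [DecidableEq ι] (g : GL ι F) (S : Submodule F (ι → F)) (v : ι → F) :
    v ∈ img g S ↔ mv g⁻¹ v ∈ S := by
  unfold img mv
  rw [Submodule.mem_map]
  constructor
  · rintro ⟨w, hw, rfl⟩
    rw [Matrix.toLin'_apply, Matrix.mulVec_mulVec, ← Units.val_mul, inv_mul_cancel, Units.val_one,
      Matrix.one_mulVec]
    exact hw
  · intro h
    refine ⟨_, h, ?_⟩
    rw [Matrix.toLin'_apply, Matrix.mulVec_mulVec, ← Units.val_mul, mul_inv_cancel, Units.val_one,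
      Matrix.one_mulVec]

/-- TI4 (S) -/
theorem finrank_img {ι : Type} [Fintype ι] [DecidableEq ι] (g : GL ι F) (S : Submodule F (ι → F)) :
    Module.finrank F (img g S) = Module.finrank F S := by
  unfold img
  rw [← glEquiv_coe]
  exact LinearEquiv.finrank_map_eq (glEquiv g) S

/-- TI5a (S) -/
theorem img_inf {ι : Type} [Fintype ι] [DecidableEq ι] (g : GL ι F) (S S' : Submodule F (ι → F)) :
    img g (S ⊓ S') = img g S ⊓ img g S' := by
  unfold img
  exact Submodule.map_inf _ (toLin'_gl_injective g)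

/-- TI5b (S) -/
theorem img_sup {ι : Type} [Fintype ι] [DecidableEq ι] (g : GL ι F) (S S' : Submodule F (ι → F)) :
    img g (S ⊔ S') = img g S ⊔ img g S' := by
  unfold img
  exact Submodule.map_sup _ _ _

/-- TI5c (S) -/
theorem img_le_img_iff {ι : Type} [Fintype ι] [DecidableEq ι] (g : GL ι F) (S S' : Submodule F (ι → F)) :
    img g S ≤ img g S' ↔ S ≤ S' := by
  unfold img
  exact Submodule.map_le_map_iff_of_injective (toLin'_gl_injective g) S S'

/-- TI6 (S) -/
theorem mv_mul {ι : Type} [Fintype ι] [DecidableEq ι] (g h : GL ι F) (v : ι → F) : mv (g * h) v = mv g (mv h v) := by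
  unfold mv
  rw [Units.val_mul, Matrix.mulVec_mulVec]

/-- TI8 (S) -/
theorem conjG_mul {ι : Type} [Fintype ι] [DecidableEq ι] (g h : GL ι F) (T : Subgroup (GL ι F)) :
    conjG (g * h) T = conjG g (conjG h T) := by
  unfold conjG
  rw [Subgroup.map_map]
  congr 1
  ext x
  simp [MulAut.conj_apply, mul_assoc]

end Cfsg.Agent.Lib.Helper16.TWLeaf
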