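import Mathlib
import Cfsg.Agent.Lib.Helper8.TW.Defs
import Cfsg.Agent.Lib.Helper26.TWFibA

/-!
# S5641 block (T), TR leaves, part A: root data (helper16)
-/

set_option autoImplicit false
set_option linter.unusedSectionVars false
set_option linter.unusedVariables false

namespace Cfsg.Agent.Lib.Helper16.TWLeaf
open Matrix Cfsg.Geo Cfsg.Agent.Lib.Helper18.AschA89 Cfsg.Agent.Lib.Helper8.TW

variable {F : Type*} [Field F] {t m : ℕ}

/-- TR1 (S) [TF12] -/
theorem RD_range_N (r : RD t m F) : LinearMap.range (Matrix.toLin' r.N) = r.W :=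
  Cfsg.Agent.Lib.Helper26.TWLeaf.range_rootN r.i r.y r.η r.hη

theorem RD_ker_N (r : RD t m F) : LinearMap.ker (Matrix.toLin' r.N) = r.C :=
  Cfsg.Agent.Lib.Helper26.TWLeaf.ker_rootN r.i r.y r.η r.hy

/-- TR2 (S) -/
theorem RD_W_le_C (r : RD t m F) : r.W ≤ r.C := by
  unfold RD.W RD.C Wf Cf
  apply Cfsg.Agent.Lib.Helper26.TWLeaf.fib_mono
  rw [Submodule.span_singleton_le_iff_mem, mem_kerF]
  exact r.h0

lemma RD_elt_pow (r : RD t m F) (c : F) (n : ℕ) : (r.elt c) ^ n = r.elt (n • c) := by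
  induction n with
  | zero => rw [pow_zero, zero_smul, r.elt_zero]
  | succ k ih => rw [pow_succ, ih, r.elt_mul, succ_nsmul]

/-- TR5 (S) [`(r.elt c)^p = r.elt (p • c) = 1`] -/
theorem RD_isPGroup (p : ℕ) [Fact p.Prime] [CharP F p] (r : RD t m F) : IsPGroup p r.grp := by
  rintro ⟨g, c, rfl⟩
  refine ⟨1, ?_⟩
  apply Subtype.ext
  rw [pow_one, Subgroup.coe_pow, Subgroup.coe_one]
  change (r.elt c) ^ p = 1
  rw [RD_elt_pow, nsmul_eq_mul, CharP.cast_eq_zero F p, zero_mul, r.elt_zero]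

/-- TR6 (S) -/
theorem RD_elt_mv (r : RD t m F) (c : F) (v : Idx t m → F) : mv (r.elt c) v = v + c • (r.N *ᵥ v) := by
  unfold mv
  rw [RD.elt_val, Matrix.add_mulVec, Matrix.one_mulVec, Matrix.smul_mulVec]

/-- TR7 (S) existence of root data: given `y ≠ 0` (`m ≥ 2`) there is `η`; given `η ≠ 0` there is `y`; -/
lemma exists_perp (hm : 2 ≤ m) (y : Fin m → F) (hy : y ≠ 0) : ∃ η : Fin m → F, η ≠ 0 ∧ η ⬝ᵥ y = 0 := by
  obtain ⟨a, ha⟩ : ∃ a, y a ≠ 0 := by
    by_contra h
    push Not at h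
    exact hy (funext h)
  obtain ⟨b, hb⟩ : ∃ b : Fin m, b ≠ a := by
    by_cases h0 : a = ⟨0, by omega⟩
    · exact ⟨⟨1, by omega⟩, by rw [h0]; intro h; simpa using congrArg Fin.val h⟩
    · exact ⟨⟨0, by omega⟩, fun h => h0 h.symm⟩
  refine ⟨y a • Pi.single b 1 - y b • Pi.single a 1, ?_, ?_⟩
  · intro h
    have := congrFun h b
    simp [Pi.single_apply, hb] at this
    exact ha this
  · rw [sub_dotProduct, smul_dotProduct, smul_dotProduct, single_dotProduct, single_dotProduct]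
    simp [mul_comm]

theorem exists_RD_of_y (hm : 2 ≤ m) (i : Fin t) (y : Fin m → F) (hy : y ≠ 0) :
    ∃ r : RD t m F, r.i = i ∧ r.y = y := by
  obtain ⟨η, hη, h0⟩ := exists_perp hm y hy
  exact ⟨⟨i, y, η, hy, hη, h0⟩, rfl, rfl⟩

theorem exists_RD_of_eta (hm : 2 ≤ m) (i : Fin t) (η : Fin m → F) (hη : η ≠ 0) :
    ∃ r : RD t m F, r.i = i ∧ r.η = η := by
  obtain ⟨y, hy, h0⟩ := exists_perp hm η hη
  exact ⟨⟨i, y, η, hy, hη, by rw [dotProduct_comm]; exact h0⟩, rfl, rfl⟩

/-- local copy of TS1: slots at different positions commute -/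
lemma slot_comm16 (i j : Fin t) (hij : i ≠ j) (A B : Matrix (Fin m) (Fin m) F) :
    slot m t i A * slot m t j B = slot m t j B * slot m t i A := by
  classical
  apply Matrix.toLin'.injective
  apply LinearMap.ext
  intro v
  rw [Matrix.toLin'_mul, Matrix.toLin'_mul, LinearMap.comp_apply, LinearMap.comp_apply]
  simp only [Matrix.toLin'_apply]
  funext x
  rw [Cfsg.Agent.Lib.Helper26.TWLeaf.slot_mulVec_apply26, Cfsg.Agent.Lib.Helper26.TWLeaf.slot_mulVec_apply26]
  simp only [Cfsg.Agent.Lib.Helper26.TWLeaf.slot_mulVec_apply26]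
  simp only [Function.update_of_ne hij, Function.update_of_ne (Ne.symm hij)]
  simp only [Finset.mul_sum]
  rw [Finset.sum_comm]
  apply Finset.sum_congr rfl
  intro c _
  apply Finset.sum_congr rfl
  intro b _
  rw [Function.update_comm hij]
  ring

/-- TR8 (S) two root groups at different positions commute -/
theorem RD_commute_of_ne (r r' : RD t m F) (h : r.i ≠ r'.i) (c d : F) :
    r.elt c * r'.elt d = r'.elt d * r.elt c := by
  apply Units.ext
  rw [Units.val_mul, Units.val_mul, RD.elt_val, RD.elt_val]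
  have hN : r.N * r'.N = r'.N * r.N := by
    unfold RD.N rootN
    exact slot_comm16 r.i r'.i h _ _
  have h1 : (c • r.N) * (d • r'.N) = (d • r'.N) * (c • r.N) := by
    rw [Matrix.smul_mul, Matrix.mul_smul, Matrix.smul_mul, Matrix.mul_smul, hN, smul_comm]
  simp only [add_mul, mul_add, mul_one, one_mul, h1]
  abel

end Cfsg.Agent.Lib.Helper16.TWLeaf
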