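import Mathlib
import Cfsg.Agent.Lib.Helper8.TW.Defs
import Cfsg.Agent.Lib.Helper26.TWFibB

/-!
# S5641 block (T), TR3: dimensions of the fibre and dual fibre of a root datum (helper16)
-/

set_option autoImplicit false
set_option linter.unusedSectionVars false
set_option linter.unusedVariables false

namespace Cfsg.Agent.Lib.Helper16.TWLeaf
open Matrix Cfsg.Geo Cfsg.Agent.Lib.Helper18.AschA89 Cfsg.Agent.Lib.Helper8.TW

variable {F : Type*} [Field F] {t m : ℕ}

/-- TR3 (S) [TF5, TF13] -/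
theorem RD_finrank_W (r : RD t m F) : Module.finrank F r.W = m ^ (t - 1) := by
  unfold RD.W Wf
  rw [Cfsg.Agent.Lib.Helper26.TWLeaf.finrank_fib, finrank_span_singleton r.hy, mul_one]

theorem RD_finrank_C (r : RD t m F) : Module.finrank F r.C = m ^ (t - 1) * (m - 1) := by
  unfold RD.C Cf
  rw [Cfsg.Agent.Lib.Helper26.TWLeaf.finrank_fib, Cfsg.Agent.Lib.Helper26.TWLeaf.finrank_kerF r.η r.hη]

end Cfsg.Agent.Lib.Helper16.TWLeaf
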