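import Mathlib
import Cfsg.Agent.Lib.Helper8.TW.Defs
import Cfsg.Agent.Lib.Helper12.TWTS
import Cfsg.Agent.Lib.Helper23.TWG1

/-!
# S5641 block (T), TR leaves, part B: root elements lie in `H` (helper16)
-/

set_option autoImplicit false
set_option linter.unusedSectionVars false
set_option linter.unusedVariables false

namespace Cfsg.Agent.Lib.Helper16.TWLeaf
open Matrix Cfsg.Geo Cfsg.Agent.Lib.Helper18.AschA89 Cfsg.Agent.Lib.Helper8.TW

variable {F : Type*} [Field F] {t m : ℕ}

lemma vmv_sq (y η : Fin m → F) (h0 : η ⬝ᵥ y = 0) (c : F) :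
    (c • Matrix.vecMulVec y η) * (c • Matrix.vecMulVec y η) = 0 := by
  rw [Matrix.smul_mul, Matrix.mul_smul, Matrix.vecMulVec_mul_vecMulVec, h0, zero_smul]
  have : Matrix.vecMulVec y (0 : Fin m → F) = 0 := by
    ext a b; simp [Matrix.vecMulVec_apply]
  rw [this, smul_zero, smul_zero]

lemma det_one_add_vmv (y η : Fin m → F) (h0 : η ⬝ᵥ y = 0) (c : F) :
    (1 + c • Matrix.vecMulVec y η).det = 1 := by
  have h : c • Matrix.vecMulVec y η = Matrix.replicateCol Unit (c • y) * Matrix.replicateRow Unit η := by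
    rw [← Matrix.vecMulVec_eq]
    ext a b
    simp [Matrix.vecMulVec_apply, mul_assoc]
  rw [h, Matrix.det_one_add_replicateCol_mul_replicateRow, dotProduct_smul, h0, smul_zero, add_zero]

/-- TR4 (M) root elements lie in `H = G ∩ SL` -/
theorem RD_elt_mem_H (r : RD t m F) (c : F) : r.elt c ∈ Hstd t m F := by
  have hval : ((r.elt c : GL (Idx t m) F) : Matrix (Idx t m) (Idx t m) F) =
      slot m t r.i (1 + c • Matrix.vecMulVec r.y r.η) := by
    rw [RD.elt_val, slot_add, slot_one, slot_smul]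
    rfl
  have hE : r.elt c = slotGL r.i (unip (c • Matrix.vecMulVec r.y r.η) (vmv_sq r.y r.η r.h0 c)) := by
    apply Units.ext
    rw [hval, slotGL_val, unip_val]
  refine ⟨?_, ?_⟩
  · rw [hE]
    exact Cfsg.Agent.Lib.Helper23.TWLeaf.slotGL_mem_G _ _
  · change r.elt c ∈ Cfsg.Geo.specialLinear (Idx t m) F
    unfold Cfsg.Geo.specialLinear
    rw [MonoidHom.mem_ker]
    apply Units.ext
    rw [Matrix.GeneralLinearGroup.val_det_apply, hval, Cfsg.Agent.Lib.Helper12.TWLeaf.det_slot,
      det_one_add_vmv r.y r.η r.h0 c, one_pow, Units.val_one]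

end Cfsg.Agent.Lib.Helper16.TWLeaf
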