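import Mathlib
import Cfsg.Agent.Lib.Helper5.TWU.Defs
import Cfsg.Agent.Lib.Helper8.TW.Defs
import Cfsg.Agent.Lib.Helper14.TWIIDefs
import Cfsg.Agent.Lib.Helper26.TWFibA
import Cfsg.Agent.Lib.Helper14.TWUIIDefs

/-!
S5672 Stage II leaves (helper14's market, `notes/S5672_II_leaves.lean`): `etaA_mem` (T1) and its calculus.
-/

set_option autoImplicit false
set_option linter.unusedSectionVars false
set_option linter.unusedVariables false

namespace Cfsg.Agent.Lib.Helper16.TWUIILeaf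
open Matrix Cfsg.Geo Cfsg.Agent.Lib.Helper18.AschA89 Cfsg.Agent.Lib.Helper8.TW Cfsg.Agent.Lib.Helper5.TWU
  Cfsg.Agent.Lib.Helper14.TWII Cfsg.Agent.Lib.Helper14.TWUII
open Cfsg.Agent.Lib.Helper20.UT (hv)

variable {F : Type*} [Field F] [Fintype F] {t k q : ℕ}

/-- the action of a Heisenberg matrix -/
theorem etaA_mulVec (y w : Fin k → F) (c : F) (a : Fin k → F) :
    etaA q y w c *ᵥ a = a + hv q a y • w - hv q a w • y + (c * hv q a y) • y := by
  unfold etaA
  rw [Matrix.add_mulVec, Matrix.sub_mulVec, Matrix.add_mulVec, Matrix.one_mulVec, Matrix.smul_mulVec,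
    Matrix.vecMulVec_mulVec, Matrix.vecMulVec_mulVec, Matrix.vecMulVec_mulVec,
    ← Cfsg.Agent.Lib.Helper20.UT.hv_eq_dot, ← Cfsg.Agent.Lib.Helper20.UT.hv_eq_dot]
  ext i
  simp only [Pi.add_apply, Pi.sub_apply, Pi.smul_apply, MulOpposite.smul_eq_mul_unop,
    MulOpposite.unop_op, smul_eq_mul]
  ring

theorem det_one_add_vecMulVec16 (a c : Fin k → F) : (1 + vecMulVec a c).det = 1 + c ⬝ᵥ a := by
  have h1 : (1 + vecMulVec a c : Matrix (Fin k) (Fin k) F)
      = 1 + Matrix.replicateCol Unit a * Matrix.replicateRow Unit c := by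
    congr 1
    ext i j; simp [Matrix.vecMulVec_apply, Matrix.mul_apply]
  rw [h1, Matrix.det_one_add_replicateCol_mul_replicateRow]

/-- the determinant of a Heisenberg matrix -/
theorem etaA_det (hF : Fintype.card F = q ^ 2) (y w : Fin k → F) (c : F) (hy : hv q y y = 0)
    (hw : hv q w y = 0) : (etaA q y w c).det = 1 := by
  have hyw : hv q y w = 0 := Cfsg.Agent.Lib.Helper20.UT.hv_symm_zero hF hw
  have hfac : etaA q y w c =
      (1 + vecMulVec w (dag q y)) * (1 + vecMulVec y (-(dag q w) + c • dag q y)) := by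
    rw [Matrix.add_mul, Matrix.one_mul, Matrix.mul_add, Matrix.mul_one, vecMulVec_mul_vecMulVec,
      ← Cfsg.Agent.Lib.Helper20.UT.hv_eq_dot, hy, zero_smul, vecMulVec_zero, add_zero]
    unfold etaA
    rw [vecMulVec_add, vecMulVec_neg, vecMulVec_smul]
    abel
  rw [hfac, Matrix.det_mul, det_one_add_vecMulVec16, det_one_add_vecMulVec16,
    ← Cfsg.Agent.Lib.Helper20.UT.hv_eq_dot, hw, add_dotProduct, neg_dotProduct, smul_dotProduct,
    ← Cfsg.Agent.Lib.Helper20.UT.hv_eq_dot, ← Cfsg.Agent.Lib.Helper20.UT.hv_eq_dot, hy, hyw]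
  simp

/-- a Heisenberg matrix is an isometry -/
theorem etaA_isom (hF : Fintype.card F = q ^ 2) (y w : Fin k → F) (c : F) (hy : hv q y y = 0)
    (hw : hv q w y = 0) (hc : c + c ^ q + hv q w w = 0) (a b : Fin k → F) :
    hv q (etaA q y w c *ᵥ a) (etaA q y w c *ᵥ b) = hv q a b := by
  have hyw : hv q y w = 0 := Cfsg.Agent.Lib.Helper20.UT.hv_symm_zero hF hw
  have e1 : hv q w b = (hv q b w) ^ q := (Cfsg.Agent.Lib.Helper20.UT.hv_conj hF b w).symm
  have e2 : hv q y b = (hv q b y) ^ q := (Cfsg.Agent.Lib.Helper20.UT.hv_conj hF b y).symm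
  rw [etaA_mulVec, etaA_mulVec]
  simp only [Cfsg.Agent.Lib.Helper20.UT.hv_add_left, Cfsg.Agent.Lib.Helper20.UT.hv_sub_left,
    Cfsg.Agent.Lib.Helper20.UT.hv_smul_left, Cfsg.Agent.Lib.Helper20.UT.hv_add_right hF,
    Cfsg.Agent.Lib.Helper20.UT.hv_sub_right hF, Cfsg.Agent.Lib.Helper20.UT.hv_smul_right,
    hy, hw, hyw, e1, e2, mul_pow]
  linear_combination (hv q a y * (hv q b y) ^ q) * hc

/-- **T1** the Heisenberg elements lie in `SU(A)` and fix `y` -/
theorem etaA_mem (hF : Fintype.card F = q ^ 2) (y w : Fin k → F) (c : F) (hy : hv q y y = 0) (hw : hv q w y = 0)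
    (hc : c + c ^ q + hv q w w = 0) :
    ∃ η : GL (Fin k) F, (η : Matrix (Fin k) (Fin k) F) = etaA q y w c ∧ η ∈ GUA k q F ∧
      (η : Matrix (Fin k) (Fin k) F).det = 1 ∧ (η : Matrix (Fin k) (Fin k) F) *ᵥ y = y := by
  have hdet : (etaA q y w c).det = 1 := etaA_det hF y w c hy hw
  have hyw : hv q y w = 0 := Cfsg.Agent.Lib.Helper20.UT.hv_symm_zero hF hw
  refine ⟨Matrix.GeneralLinearGroup.mkOfDetNeZero (etaA q y w c) (by rw [hdet]; exact one_ne_zero),
    rfl, ?_, hdet, ?_⟩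
  · intro a b
    exact etaA_isom hF y w c hy hw hc a b
  · change etaA q y w c *ᵥ y = y
    rw [etaA_mulVec, hy, hyw]
    simp

/-- slices of `mv (slotGL i η) v - v` -/
theorem slice_slotGL_sub (i : Fin t) (η : GL (Fin k) F) (v : Idx t k → F) (x : Idx t k) :
    slice i x (mv (slotGL i η) v - v) = (η : Matrix (Fin k) (Fin k) F) *ᵥ slice i x v - slice i x v := by
  have h1 : slice i x (mv (slotGL i η) v - v) = slice i x (mv (slotGL i η) v) - slice i x v := rfl
  rw [h1]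
  unfold mv
  rw [slotGL_val, Cfsg.Agent.Lib.Helper26.TWLeaf.slot_mulVec_slice26]

/-- **R1** the Heisenberg elements lie in `U^W` -/
theorem InU_slot_eta (hF : Fintype.card F = q ^ 2) (i : Fin t) (y w : Fin k → F) (c : F) (hy : hv q y y = 0)
    (hw : hv q w y = 0) (η : GL (Fin k) F) (hη : (η : Matrix (Fin k) (Fin k) F) = etaA q y w c) :
    InU q i y (slotGL i η) := by
  have hyw : hv q y w = 0 := Cfsg.Agent.Lib.Helper20.UT.hv_symm_zero hF hw
  have hηy : (η : Matrix (Fin k) (Fin k) F) *ᵥ y = y := by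
    rw [hη, etaA_mulVec, hy, hyw]
    simp
  refine ⟨?_, ?_, ?_⟩
  · intro v hv'
    apply Cfsg.Agent.Lib.Helper26.TWLeaf.ext_slice26 i
    intro x
    unfold mv
    rw [slotGL_val, Cfsg.Agent.Lib.Helper26.TWLeaf.slot_mulVec_slice26]
    have hx : slice i x v ∈ (F ∙ y) := hv' x
    obtain ⟨d, hd⟩ := Submodule.mem_span_singleton.mp hx
    rw [← hd, Matrix.mulVec_smul, hηy]
  · intro v hv' x
    rw [slice_slotGL_sub, hη, etaA_mulVec]
    have hx : dag q y ⬝ᵥ slice i x v = 0 := hv' x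
    rw [← Cfsg.Agent.Lib.Helper20.UT.hv_eq_dot] at hx
    rw [hx]
    apply Submodule.mem_span_singleton.mpr
    refine ⟨-(hv q (slice i x v) w), ?_⟩
    ext j
    simp
  · intro v x
    rw [slice_slotGL_sub, hη, etaA_mulVec]
    change dag q y ⬝ᵥ _ = 0
    rw [← Cfsg.Agent.Lib.Helper20.UT.hv_eq_dot]
    simp only [Cfsg.Agent.Lib.Helper20.UT.hv_add_left, Cfsg.Agent.Lib.Helper20.UT.hv_sub_left,
      Cfsg.Agent.Lib.Helper20.UT.hv_smul_left, hy, hw]
    ring

end Cfsg.Agent.Lib.Helper16.TWUIILeaf
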