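import Mathlib
import Cfsg.Agent.Lib.Helper5.TWS.Defs
import Cfsg.Agent.Lib.Helper26.TWFibA
import Cfsg.Agent.Lib.Helper16.TWUIIEta
import Cfsg.Agent.Lib.Helper14.TWSIIDefs

/-!
S5668-II (helper14's market, `notes/S5668_II_leaves.lean`): T1 `etaS_mem`, U1 `InUS_slot_eta` (helper16), ports of `Helper16.TWUIIEta`.
-/

set_option autoImplicit false
set_option linter.unusedSectionVars false
set_option linter.unusedVariables false

namespace Cfsg.Agent.Lib.Helper16.TWSIILeaf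
open Matrix Cfsg.Geo Cfsg.Agent.Lib.Helper18.AschA89 Cfsg.Agent.Lib.Helper8.TW Cfsg.Agent.Lib.Helper5.TWS
  Cfsg.Agent.Lib.Helper14.TWII Cfsg.Agent.Lib.Helper14.TWSII
open Cfsg.Agent.Lib.Helper25.SpT (sf Jm sfv)

variable {F : Type*} [Field F] [Fintype F] {t k : ℕ}

/-- the nilpotent part of a Heisenberg matrix -/
def etaN (y w : Fin k → F) (c : F) : Matrix (Fin k) (Fin k) F :=
  Matrix.vecMulVec w (sfv y) + Matrix.vecMulVec y (sfv w) + c • Matrix.vecMulVec y (sfv y)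

theorem etaS_eq (y w : Fin k → F) (c : F) : etaS y w c = 1 + etaN y w c := by
  unfold etaS etaN
  abel

theorem etaN_mulVec (y w : Fin k → F) (c : F) (a : Fin k → F) :
    etaN y w c *ᵥ a = sf a y • w + sf a w • y + (c * sf a y) • y := by
  unfold etaN
  rw [Matrix.add_mulVec, Matrix.add_mulVec, Matrix.smul_mulVec]
  simp only [Matrix.vecMulVec_mulVec, Cfsg.Agent.Lib.Helper25.SpT.sfv_dot]
  ext i
  simp only [Pi.add_apply, Pi.smul_apply, MulOpposite.smul_eq_mul_unop,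
    MulOpposite.unop_op, smul_eq_mul]
  ring

/-- the action of a Heisenberg matrix -/
theorem etaS_mulVec (y w : Fin k → F) (c : F) (a : Fin k → F) :
    etaS y w c *ᵥ a = a + sf a y • w + sf a w • y + (c * sf a y) • y := by
  rw [etaS_eq, Matrix.add_mulVec, Matrix.one_mulVec, etaN_mulVec]
  abel

theorem etaN_sq (y w : Fin k → F) (c : F) (hw : sf w y = 0) : etaN y w c * etaN y w c = 0 := by
  have hyw : sf y w = 0 := by rw [Cfsg.Agent.Lib.Helper25.SpT.sf_skew, hw, neg_zero]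
  unfold etaN
  simp only [Matrix.add_mul, Matrix.mul_add, Matrix.smul_mul, Matrix.mul_smul,
    Matrix.vecMulVec_mul_vecMulVec, Cfsg.Agent.Lib.Helper25.SpT.sfv_dot, hw, hyw,
    Cfsg.Agent.Lib.Helper25.SpT.sf_self, zero_smul, Matrix.vecMulVec_zero, smul_zero, add_zero]

/-- a Heisenberg matrix is an isometry -/
theorem etaS_isom (y w : Fin k → F) (c : F) (hw : sf w y = 0) (a b : Fin k → F) :
    sf (etaS y w c *ᵥ a) (etaS y w c *ᵥ b) = sf a b := by
  have hyw : sf y w = 0 := by rw [Cfsg.Agent.Lib.Helper25.SpT.sf_skew, hw, neg_zero]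
  have e1 : sf w b = - sf b w := Cfsg.Agent.Lib.Helper25.SpT.sf_skew w b
  have e2 : sf y b = - sf b y := Cfsg.Agent.Lib.Helper25.SpT.sf_skew y b
  rw [etaS_mulVec, etaS_mulVec]
  simp only [Cfsg.Agent.Lib.Helper25.SpT.sf_add_left, Cfsg.Agent.Lib.Helper25.SpT.sf_add_right,
    Cfsg.Agent.Lib.Helper25.SpT.sf_smul_left, Cfsg.Agent.Lib.Helper25.SpT.sf_smul_right,
    Cfsg.Agent.Lib.Helper25.SpT.sf_self, hw, hyw, e1, e2]
  ring

/-- T1 (M) the Heisenberg elements lie in `Sp(A)` and fix `y` -/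
theorem etaS_mem (y w : Fin k → F) (c : F) (hw : sf w y = 0) :
    ∃ η : GL (Fin k) F, (η : Matrix (Fin k) (Fin k) F) = etaS y w c ∧ η ∈ GSA k F ∧
      (η : Matrix (Fin k) (Fin k) F) *ᵥ y = y := by
  have hyw : sf y w = 0 := by rw [Cfsg.Agent.Lib.Helper25.SpT.sf_skew, hw, neg_zero]
  have hval : ((unip (etaN y w c) (etaN_sq y w c hw) : GL (Fin k) F) : Matrix (Fin k) (Fin k) F) =
      etaS y w c := by
    rw [unip_val, etaS_eq]
  refine ⟨unip (etaN y w c) (etaN_sq y w c hw), hval, ?_, ?_⟩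
  · intro a b
    change sf (((unip (etaN y w c) (etaN_sq y w c hw) : GL (Fin k) F) : Matrix (Fin k) (Fin k) F) *ᵥ a)
      (((unip (etaN y w c) (etaN_sq y w c hw) : GL (Fin k) F) : Matrix (Fin k) (Fin k) F) *ᵥ b) = sf a b
    rw [hval]
    exact etaS_isom y w c hw a b
  · rw [hval, etaS_mulVec, Cfsg.Agent.Lib.Helper25.SpT.sf_self, hyw]
    simp

/-- U1 (M) the Heisenberg elements lie in `U^W` -/
theorem InUS_slot_eta (i : Fin t) (y w : Fin k → F) (c : F) (hw : sf w y = 0) (η : GL (Fin k) F)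
    (hη : (η : Matrix (Fin k) (Fin k) F) = etaS y w c) : InUS i y (slotGL i η) := by
  have hyw : sf y w = 0 := by rw [Cfsg.Agent.Lib.Helper25.SpT.sf_skew, hw, neg_zero]
  have hηy : (η : Matrix (Fin k) (Fin k) F) *ᵥ y = y := by
    rw [hη, etaS_mulVec, Cfsg.Agent.Lib.Helper25.SpT.sf_self, hyw]
    simp
  refine ⟨?_, ?_, ?_⟩
  · intro v hv'
    apply Cfsg.Agent.Lib.Helper26.TWLeaf.ext_slice26 i
    intro x
    unfold mv
    rw [slotGL_val, Cfsg.Agent.Lib.Helper26.TWLeaf.slot_mulVec_slice26]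
    have hx : slice i x v ∈ (F ∙ y) := hv' x
    obtain ⟨d, hd⟩ := Submodule.mem_span_singleton.mp hx
    rw [← hd, Matrix.mulVec_smul, hηy]
  · intro v hv' x
    rw [Cfsg.Agent.Lib.Helper16.TWUIILeaf.slice_slotGL_sub, hη, etaS_mulVec]
    have hx : sfv y ⬝ᵥ slice i x v = 0 := hv' x
    rw [Cfsg.Agent.Lib.Helper25.SpT.sfv_dot] at hx
    rw [hx]
    apply Submodule.mem_span_singleton.mpr
    refine ⟨sf (slice i x v) w, ?_⟩
    ext j
    simp
  · intro v x
    rw [Cfsg.Agent.Lib.Helper16.TWUIILeaf.slice_slotGL_sub, hη, etaS_mulVec]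
    change sfv y ⬝ᵥ _ = 0
    rw [Cfsg.Agent.Lib.Helper25.SpT.sfv_dot]
    simp only [Cfsg.Agent.Lib.Helper25.SpT.sf_add_left, Cfsg.Agent.Lib.Helper25.SpT.sf_sub_left,
      Cfsg.Agent.Lib.Helper25.SpT.sf_smul_left, Cfsg.Agent.Lib.Helper25.SpT.sf_self, hw]
    ring

end Cfsg.Agent.Lib.Helper16.TWSIILeaf
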