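import Mathlib

/-!
# S2332 (minimal degree of `SL_n(q)`): definitions

* `eps F` : a fixed primitive additive character `F → ℂ`;
* `wt ρ ι v` : the weight space of the "root map" `ι : (I → F) → H` for the character
  `r ↦ eps (v ⬝ᵥ r)`;
* the block matrices `rad`, `levi`, `emb` in `SL (Unit ⊕ ι') F`.
-/

set_option autoImplicit false

namespace Cfsg.Agent.Lib.Helper16.SLMin

open Matrix

section eps

variable (F : Type*) [Field F] [Finite F]

theorem exists_eps : ∃ ψ : AddChar F ℂ, ψ.IsPrimitive := by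
  obtain ⟨ψ, hψ⟩ := (AddChar.exists_apply_ne_zero (α := F) (a := 1)).mpr one_ne_zero
  refine ⟨ψ, AddChar.IsPrimitive.of_ne_one ?_⟩
  intro h
  apply hψ
  rw [h]
  rfl

/-- a fixed primitive additive character of the finite field `F` -/
noncomputable def eps : AddChar F ℂ := Classical.choose (exists_eps F)

theorem eps_prim : (eps F).IsPrimitive := Classical.choose_spec (exists_eps F)

end eps

section wt

variable {F : Type*} [Field F] [Finite F] {H : Type*} [Group H] {M : Type*} [AddCommGroup M]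
  [Module ℂ M] {I : Type*} [Fintype I]

/-- the weight space of `ι` for the character `r ↦ eps (v ⬝ᵥ r)` -/
noncomputable def wt (ρ : Representation ℂ H M) (ι : (I → F) → H) (v : I → F) : Submodule ℂ M where
  carrier := {m | ∀ r, ρ (ι r) m = (eps F (v ⬝ᵥ r)) • m}
  add_mem' := by
    intro a b ha hb r
    rw [map_add, ha r, hb r, smul_add]
  zero_mem' := by
    intro r
    rw [map_zero, smul_zero]
  smul_mem' := by
    intro c a ha r
    rw [map_smul, ha r, smul_comm]

theorem mem_wt {ρ : Representation ℂ H M} {ι : (I → F) → H} {v : I → F} {m : M} :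
    m ∈ wt ρ ι v ↔ ∀ r, ρ (ι r) m = (eps F (v ⬝ᵥ r)) • m := Iff.rfl

end wt

section blocks

variable {F : Type*} [Field F] {ι' : Type*} [Fintype ι'] [DecidableEq ι']

/-- the first-row radical: `[[1, r], [0, 1]]` -/
def rad (r : ι' → F) : SpecialLinearGroup (Unit ⊕ ι') F :=
  ⟨fromBlocks 1 (replicateRow Unit r) 0 1, by
    rw [det_fromBlocks_zero₂₁, det_one, det_one, one_mul]⟩

theorem rad_coe (r : ι' → F) :
    (rad r : Matrix (Unit ⊕ ι') (Unit ⊕ ι') F) = fromBlocks 1 (replicateRow Unit r) 0 1 := rfl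

theorem rad_add (r s : ι' → F) : rad (r + s) = rad r * rad s := by
  apply Subtype.ext
  show fromBlocks 1 (replicateRow Unit (r + s)) 0 1 =
    fromBlocks 1 (replicateRow Unit r) 0 1 * fromBlocks 1 (replicateRow Unit s) 0 1
  rw [fromBlocks_multiply]
  congr 1
  · simp
  · ext i j
    simp [add_comm]
  · simp
  · simp

theorem rad_zero : rad (0 : ι' → F) = 1 := by
  apply Subtype.ext
  show fromBlocks 1 (replicateRow Unit (0 : ι' → F)) 0 1 = (1 : Matrix (Unit ⊕ ι') (Unit ⊕ ι') F)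
  rw [← fromBlocks_one]
  congr 1

/-- the Levi complement `GL ι' F → SL (Unit ⊕ ι') F`, `g ↦ [[(det g)⁻¹, 0], [0, g]]` -/
noncomputable def levi : GL ι' F →* SpecialLinearGroup (Unit ⊕ ι') F where
  toFun g := ⟨fromBlocks (((g : Matrix ι' ι' F).det)⁻¹ • (1 : Matrix Unit Unit F)) 0 0
      (g : Matrix ι' ι' F), by
    have hdet : (g : Matrix ι' ι' F).det ≠ 0 := by
      have := g.isUnit
      exact ((Matrix.isUnit_iff_isUnit_det _).mp (g.isUnit)).ne_zero
    rw [det_fromBlocks_zero₂₁, det_smul, det_one, Fintype.card_unit, pow_one, mul_one,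
      inv_mul_cancel₀ hdet]⟩
  map_one' := by
    apply Subtype.ext
    show fromBlocks (((((1 : GL ι' F) : Matrix ι' ι' F)).det)⁻¹ • (1 : Matrix Unit Unit F)) 0 0
      (((1 : GL ι' F) : Matrix ι' ι' F)) = (1 : Matrix (Unit ⊕ ι') (Unit ⊕ ι') F)
    simp [fromBlocks_one]
  map_mul' g h := by
    apply Subtype.ext
    show fromBlocks (((((g * h : GL ι' F) : Matrix ι' ι' F)).det)⁻¹ • (1 : Matrix Unit Unit F)) 0 0
      (((g * h : GL ι' F) : Matrix ι' ι' F)) =
      fromBlocks ((((g : Matrix ι' ι' F)).det)⁻¹ • (1 : Matrix Unit Unit F)) 0 0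
        ((g : Matrix ι' ι' F)) *
      fromBlocks ((((h : Matrix ι' ι' F)).det)⁻¹ • (1 : Matrix Unit Unit F)) 0 0
        ((h : Matrix ι' ι' F))
    rw [fromBlocks_multiply]
    congr 1
    · simp [mul_comm, smul_smul]
    · simp
    · simp
    · simp

theorem levi_coe (g : GL ι' F) :
    (levi g : Matrix (Unit ⊕ ι') (Unit ⊕ ι') F) =
      fromBlocks (((g : Matrix ι' ι' F).det)⁻¹ • (1 : Matrix Unit Unit F)) 0 0
        (g : Matrix ι' ι' F) := rfl

/-- the block embedding `SL ι' F → SL (Unit ⊕ ι') F`, `g ↦ [[1, 0], [0, g]]` -/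
def emb : SpecialLinearGroup ι' F →* SpecialLinearGroup (Unit ⊕ ι') F where
  toFun g := ⟨fromBlocks 1 0 0 (g : Matrix ι' ι' F), by
    rw [det_fromBlocks_zero₂₁, det_one, one_mul, g.2]⟩
  map_one' := by
    apply Subtype.ext
    show fromBlocks 1 0 0 (((1 : SpecialLinearGroup ι' F) : Matrix ι' ι' F)) =
      (1 : Matrix (Unit ⊕ ι') (Unit ⊕ ι') F)
    simp [fromBlocks_one]
  map_mul' g h := by
    apply Subtype.ext
    show fromBlocks 1 0 0 (((g * h : SpecialLinearGroup ι' F) : Matrix ι' ι' F)) =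
      fromBlocks 1 0 0 ((g : Matrix ι' ι' F)) * fromBlocks 1 0 0 ((h : Matrix ι' ι' F))
    rw [fromBlocks_multiply]
    congr 1 <;> simp

theorem emb_coe (g : SpecialLinearGroup ι' F) :
    (emb g : Matrix (Unit ⊕ ι') (Unit ⊕ ι') F) = fromBlocks 1 0 0 (g : Matrix ι' ι' F) := rfl

/-- the Levi complement normalises the radical -/
theorem levi_rad (g : GL ι' F) (r : ι' → F) :
    levi g * rad r * (levi g)⁻¹ =
      rad ((((g : Matrix ι' ι' F).det)⁻¹) • (r ᵥ* ((g⁻¹ : GL ι' F) : Matrix ι' ι' F))) := by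
  rw [mul_inv_eq_iff_eq_mul]
  apply Subtype.ext
  show (levi g : Matrix (Unit ⊕ ι') (Unit ⊕ ι') F) * (rad r : Matrix (Unit ⊕ ι') (Unit ⊕ ι') F) =
    ((rad ((((g : Matrix ι' ι' F).det)⁻¹) • (r ᵥ* ((g⁻¹ : GL ι' F) : Matrix ι' ι' F))) :
      SpecialLinearGroup (Unit ⊕ ι') F) : Matrix (Unit ⊕ ι') (Unit ⊕ ι') F) *
    (levi g : Matrix (Unit ⊕ ι') (Unit ⊕ ι') F)
  rw [levi_coe, rad_coe, rad_coe, fromBlocks_multiply, fromBlocks_multiply]
  have hgg : ((g⁻¹ : GL ι' F) : Matrix ι' ι' F) * (g : Matrix ι' ι' F) = 1 := by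
    rw [← Units.val_mul, inv_mul_cancel, Units.val_one]
  have hB : replicateRow Unit ((((g : Matrix ι' ι' F).det)⁻¹) •
      (r ᵥ* ((g⁻¹ : GL ι' F) : Matrix ι' ι' F))) * (g : Matrix ι' ι' F) =
      (((g : Matrix ι' ι' F).det)⁻¹) • replicateRow Unit r := by
    rw [← replicateRow_vecMul, smul_vecMul, vecMul_vecMul, hgg, vecMul_one]
    ext i j
    simp
  congr 1
  · simp
  · rw [hB]
    simp
  · simp
  · simp

theorem emb_eq_levi (g : SpecialLinearGroup ι' F) :
    emb g = levi (SpecialLinearGroup.toGL g) := by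
  apply Subtype.ext
  show fromBlocks 1 0 0 (g : Matrix ι' ι' F) =
    fromBlocks ((((SpecialLinearGroup.toGL g : GL ι' F) : Matrix ι' ι' F).det)⁻¹ •
      (1 : Matrix Unit Unit F)) 0 0 ((SpecialLinearGroup.toGL g : GL ι' F) : Matrix ι' ι' F)
  have h1 : ((SpecialLinearGroup.toGL g : GL ι' F) : Matrix ι' ι' F) = (g : Matrix ι' ι' F) := rfl
  rw [h1, g.2, inv_one, one_smul]

/-- the block embedding of `SL ι'` normalises the radical -/
theorem emb_rad (g : SpecialLinearGroup ι' F) (r : ι' → F) :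
    emb g * rad r * (emb g)⁻¹ =
      rad (r ᵥ* ((g⁻¹ : SpecialLinearGroup ι' F) : Matrix ι' ι' F)) := by
  rw [emb_eq_levi, levi_rad]
  have h1 : ((SpecialLinearGroup.toGL g : GL ι' F) : Matrix ι' ι' F) = (g : Matrix ι' ι' F) := rfl
  have h2 : (((SpecialLinearGroup.toGL g)⁻¹ : GL ι' F) : Matrix ι' ι' F) =
      ((g⁻¹ : SpecialLinearGroup ι' F) : Matrix ι' ι' F) := by
    rw [← map_inv]
    rfl
  rw [h1, h2, g.2, inv_one, one_smul]

end blocks

section stage

variable {F : Type*} [Field F] {J : Type*} [Fintype J] [DecidableEq J]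

/-- the root group `1 + t E₁₂` of `SL (Unit ⊕ (Unit ⊕ J))` -/
def rx (t : Unit → F) : SpecialLinearGroup (Unit ⊕ (Unit ⊕ J)) F :=
  rad (Sum.elim t (0 : J → F))

/-- row 1, columns `J` -/
def ra (v : J → F) : SpecialLinearGroup (Unit ⊕ (Unit ⊕ J)) F :=
  rad (Sum.elim (0 : Unit → F) v)

/-- row 2, columns `J` -/
def rb (w : J → F) : SpecialLinearGroup (Unit ⊕ (Unit ⊕ J)) F :=
  emb (rad w)

end stage

/-- `(q^n - q)/(q - 1)`, the target degree -/
def tgt (q n : ℕ) : ℕ := (q ^ n - q) / (q - 1)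

end Cfsg.Agent.Lib.Helper16.SLMin
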