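/-
Helper16 library: transport of `SU_n` along a ring homomorphism of finite fields, and explicit
generators of `SU₃(2)` over a concrete field with four elements.
-/
import Mathlib
import Cfsg.Agent.Lib.Helper14.Unitary3

set_option autoImplicit false
set_option linter.unusedSectionVars false

namespace Cfsg.Agent.Lib.Helper16.PSU32

open Cfsg.Agent.Lib.Helper14

section transport

variable {K F : Type*} [Field K] [Fintype K] [Field F] [Fintype F] {q n : ℕ}

theorem isUni_of_mul_eq_one (hF : Fintype.card F = q ^ 2) (M : Matrix (Fin n) (Fin n) F)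
    (h : M.transpose * M.map (fun x => x ^ q) = 1) : IsUni F q n M := by
  classical
  intro u v
  refine hermForm_mulVec_of_orthoN hF M ?_ u v
  intro j l
  have h1 := congrFun (congrFun h j) l
  rw [Matrix.mul_apply, Matrix.one_apply] at h1
  unfold Cfsg.hermForm
  simpa using h1

theorem mul_eq_one_of_isUni (hF : Fintype.card F = q ^ 2) (M : Matrix (Fin n) (Fin n) F)
    (hU : IsUni F q n M) : M.transpose * M.map (fun x => x ^ q) = 1 := by
  classical
  apply transpose_mul_map_of_orthoN M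
  intro j l
  have := hU (Pi.single j 1) (Pi.single l 1)
  rw [hermForm_single hF, Matrix.mulVec_single_one, Matrix.mulVec_single_one] at this
  exact this

theorem map_uni (φ : K →+* F) (c : Matrix (Fin n) (Fin n) K)
    (hc : c.transpose * c.map (fun x => x ^ q) = 1) :
    (c.map φ).transpose * (c.map φ).map (fun x => x ^ q) = 1 := by
  have h := congrArg (fun X : Matrix (Fin n) (Fin n) K => X.map φ) hc
  simp only [Matrix.map_mul, Matrix.transpose_map] at h
  have e : ((c.map fun x => x ^ q).map φ) = (c.map φ).map (fun x => x ^ q) := by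
    ext i j
    simp [Matrix.map_apply]
  rw [e] at h
  rw [h]
  ext i j
  simp [Matrix.map_apply, Matrix.one_apply]

/-- the homomorphism `SU_n(K) → SU_n(F)` induced by a ring homomorphism of fields of order `q²`. -/
noncomputable def mapSU (hK : Fintype.card K = q ^ 2) (hF : Fintype.card F = q ^ 2)
    (φ : K →+* F) : Cfsg.SU n K q →* Cfsg.SU n F q :=
  ((Matrix.SpecialLinearGroup.map φ).comp (Cfsg.SU n K q).subtype).codRestrict (Cfsg.SU n F q)
    (fun g => by
      rw [mem_SU_iff]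
      have h1 := mul_eq_one_of_isUni hK _ ((mem_SU_iff g.1).mp g.2)
      exact isUni_of_mul_eq_one hF _ (map_uni φ _ h1))

theorem mapSU_coe (hK : Fintype.card K = q ^ 2) (hF : Fintype.card F = q ^ 2)
    (φ : K →+* F) (g : Cfsg.SU n K q) :
    ((mapSU hK hF φ g).1 : Matrix (Fin n) (Fin n) F) =
      (g.1 : Matrix (Fin n) (Fin n) K).map φ := rfl

/-- build an element of `SU` from a matrix. -/
def mkSU (hK : Fintype.card K = q ^ 2) (c : Matrix (Fin n) (Fin n) K) (hdet : c.det = 1)
    (hc : c.transpose * c.map (fun x => x ^ q) = 1) : Cfsg.SU n K q :=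
  ⟨⟨c, hdet⟩, (mem_SU_iff _).mpr (isUni_of_mul_eq_one hK c hc)⟩

theorem mkSU_coe (hK : Fintype.card K = q ^ 2) (c : Matrix (Fin n) (Fin n) K) (hdet : c.det = 1)
    (hc : c.transpose * c.map (fun x => x ^ q) = 1) :
    ((mkSU hK c hdet hc).1 : Matrix (Fin n) (Fin n) K) = c := rfl

theorem su_ext {a b : Cfsg.SU n K q}
    (h : (a.1 : Matrix (Fin n) (Fin n) K) = (b.1 : Matrix (Fin n) (Fin n) K)) : a = b :=
  Subtype.ext (Subtype.ext h)

theorem su_coe_mul (a b : Cfsg.SU n K q) :
    ((a * b).1 : Matrix (Fin n) (Fin n) K) =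
      (a.1 : Matrix (Fin n) (Fin n) K) * (b.1 : Matrix (Fin n) (Fin n) K) := rfl

theorem su_coe_one : ((1 : Cfsg.SU n K q).1 : Matrix (Fin n) (Fin n) K) = 1 := rfl

theorem su_coe_pow (a : Cfsg.SU n K q) (k : ℕ) :
    ((a ^ k).1 : Matrix (Fin n) (Fin n) K) = (a.1 : Matrix (Fin n) (Fin n) K) ^ k := by
  induction k with
  | zero => rfl
  | succ k ih => rw [pow_succ, pow_succ, su_coe_mul, ih]

/-- the composite `SU_n(K) → SU_n(F) → PSU_n(F)`. -/
noncomputable def toPSU (hK : Fintype.card K = q ^ 2) (hF : Fintype.card F = q ^ 2)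
    (φ : K →+* F) : Cfsg.SU n K q →* Cfsg.PSU n F q :=
  (QuotientGroup.mk' (Subgroup.center (Cfsg.SU n F q))).comp (mapSU hK hF φ)

/-- an element killed by `toPSU` is a scalar matrix. -/
theorem scalar_of_toPSU_eq_one {m : ℕ} (hK : Fintype.card K = q ^ 2)
    (hF : Fintype.card F = q ^ 2) (φ : K →+* F) (g : Cfsg.SU (m + 2) K q)
    (h : toPSU hK hF φ g = 1) :
    (g.1 : Matrix (Fin (m + 2)) (Fin (m + 2)) K) =
      Matrix.diagonal (fun _ => (g.1 : Matrix (Fin (m + 2)) (Fin (m + 2)) K) 0 0) := by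
  classical
  have h1 : mapSU hK hF φ g ∈ Subgroup.center (Cfsg.SU (m + 2) F q) := by
    have : (QuotientGroup.mk' (Subgroup.center (Cfsg.SU (m + 2) F q))) (mapSU hK hF φ g) = 1 := h
    rwa [QuotientGroup.mk'_apply, QuotientGroup.eq_one_iff] at this
  have h2 := center_eq_scalar hF _ h1
  rw [mapSU_coe] at h2
  apply Matrix.map_injective φ.injective
  show (g.1 : Matrix (Fin (m + 2)) (Fin (m + 2)) K).map φ =
    (Matrix.diagonal (fun _ => (g.1 : Matrix (Fin (m + 2)) (Fin (m + 2)) K) 0 0)).map φ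
  rw [h2]
  ext i j
  by_cases hij : i = j
  · subst hij; simp [Matrix.map_apply]
  · simp [Matrix.map_apply, Matrix.diagonal_apply_ne _ hij]

/-- scalar matrices are killed by `toPSU`. -/
theorem toPSU_eq_one_of_scalar (hK : Fintype.card K = q ^ 2)
    (hF : Fintype.card F = q ^ 2) (φ : K →+* F) (g : Cfsg.SU n K q) (c : K)
    (h : (g.1 : Matrix (Fin n) (Fin n) K) = Matrix.diagonal (fun _ => c)) :
    toPSU hK hF φ g = 1 := by
  classical
  show (QuotientGroup.mk' (Subgroup.center (Cfsg.SU n F q))) (mapSU hK hF φ g) = 1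
  rw [QuotientGroup.mk'_apply, QuotientGroup.eq_one_iff, Subgroup.mem_center_iff]
  intro y
  apply su_ext
  rw [su_coe_mul, su_coe_mul, mapSU_coe, h]
  have e : (Matrix.diagonal (fun _ : Fin n => c)).map φ = Matrix.diagonal (fun _ => φ c) := by
    ext i j
    by_cases hij : i = j
    · subst hij; simp [Matrix.map_apply]
    · simp [Matrix.map_apply, Matrix.diagonal_apply_ne _ hij]
  rw [e]
  ext i j
  simp [Matrix.mul_apply, Matrix.diagonal_apply, mul_comm]

end transport

/-- the field with 4 elements, as `𝔽₂[ω]`, `ω² = 1 + ω`. -/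
abbrev K4 : Type := QuadraticAlgebra (ZMod 2) 1 1

instance fact4 : Fact (∀ r : ZMod 2, r ^ 2 ≠ (1 : ZMod 2) + 1 * r) := ⟨by decide⟩

noncomputable instance fintypeK4 : Fintype K4 :=
  Fintype.ofEquiv _ (QuadraticAlgebra.equivProd (1 : ZMod 2) 1).symm

theorem card_K4 : Fintype.card K4 = 4 := by
  rw [Fintype.card_congr (QuadraticAlgebra.equivProd (1 : ZMod 2) 1)]
  simp

theorem card_K4' : Fintype.card K4 = 2 ^ 2 := by rw [card_K4]; norm_num

/-- 3 × 3 matrices over `K4`. -/
abbrev M4 : Type := Matrix (Fin 3) (Fin 3) K4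

/-- `diag(ω, ω², 1)`. -/
def dd : M4 := !![⟨0, 1⟩, 0, 0; 0, ⟨1, 1⟩, 0; 0, 0, 1]
/-- the cyclic permutation matrix. -/
def cc : M4 := !![0, 1, 0; 0, 0, 1; 1, 0, 0]
/-- the Fourier matrix. -/
def ff : M4 := !![1, 1, 1; 1, ⟨0, 1⟩, ⟨1, 1⟩; 1, ⟨1, 1⟩, ⟨0, 1⟩]
/-- a second element of order 4. -/
def xx : M4 := !![1, ⟨0, 1⟩, ⟨0, 1⟩; ⟨1, 1⟩, ⟨0, 1⟩, ⟨1, 1⟩; ⟨1, 1⟩, ⟨1, 1⟩, ⟨0, 1⟩]
/-- the scalar matrix `ω`. -/
def zz : M4 := !![⟨0, 1⟩, 0, 0; 0, ⟨0, 1⟩, 0; 0, 0, ⟨0, 1⟩]

theorem det_dd : dd.det = 1 := by decide +kernel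
theorem det_cc : cc.det = 1 := by decide +kernel
theorem det_ff : ff.det = 1 := by decide +kernel
theorem det_xx : xx.det = 1 := by decide +kernel
theorem det_zz : zz.det = 1 := by decide +kernel
theorem uni_dd : dd.transpose * dd.map (fun x => x ^ 2) = 1 := by decide +kernel
theorem uni_cc : cc.transpose * cc.map (fun x => x ^ 2) = 1 := by decide +kernel
theorem uni_ff : ff.transpose * ff.map (fun x => x ^ 2) = 1 := by decide +kernel
theorem uni_xx : xx.transpose * xx.map (fun x => x ^ 2) = 1 := by decide +kernel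
theorem uni_zz : zz.transpose * zz.map (fun x => x ^ 2) = 1 := by decide +kernel

theorem rel_dd3 : dd ^ 3 = 1 := by decide +kernel
theorem rel_cc3 : cc ^ 3 = 1 := by decide +kernel
theorem rel_dc : dd * cc = zz ^ 2 * (cc * dd) := by decide +kernel
theorem rel_ff4 : ff ^ 4 = 1 := by decide +kernel
theorem rel_xx2 : xx ^ 2 = ff ^ 2 := by decide +kernel
theorem rel_xf : xx * ff = ff ^ 3 * xx := by decide +kernel
theorem rel_fd : ff * dd = zz * (cc * ff) := by decide +kernel
theorem rel_fc : ff * cc = zz * (dd ^ 2 * ff) := by decide +kernel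
theorem rel_xd : xx * dd = dd ^ 2 * cc * xx := by decide +kernel
theorem rel_xc : xx * cc = zz * (dd * cc * xx) := by decide +kernel

/-- being a scalar matrix. -/
def IsScal (M : M4) : Prop := M = Matrix.diagonal (fun _ => M 0 0)

instance (M : M4) : Decidable (IsScal M) := by unfold IsScal; infer_instance

theorem ns_dd : ¬ IsScal dd := by decide +kernel
theorem ns_cc : ¬ IsScal cc := by decide +kernel
theorem ns_cd2 : ¬ IsScal (cc * dd ^ 2) := by decide +kernel
theorem ns_cd : ¬ IsScal (cc * dd) := by decide +kernel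
theorem ns_ff2 : ¬ IsScal (ff ^ 2) := by decide +kernel
theorem ns_xx : ¬ IsScal xx := by decide +kernel
theorem ns_xf : ¬ IsScal (xx * ff) := by decide +kernel
theorem ns_xf2 : ¬ IsScal (xx * ff ^ 2) := by decide +kernel
theorem ns_xf3 : ¬ IsScal (xx * ff ^ 3) := by decide +kernel

end Cfsg.Agent.Lib.Helper16.PSU32
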