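import Mathlib
import Cfsg.Prelude.Def_Classical
import Cfsg.Prelude.Def_ClassicalGeometry
import Cfsg.Prelude.Def_GeometricClasses
import Cfsg.Agent.Lib.Helper5.SUMax
import Cfsg.Agent.Lib.Helper22.C3LDefs
import Cfsg.Agent.Lib.Helper22.C3LTool

/-!
Shared definitions for the unitary `C3` maximality (`GU_{n/r}(q^r).r < SU_n(q)`, `r` an odd prime):
a field `E` acting on `V = F^n` through an algebra map `ρ`, with an involution `st` of `E` extending
`c ↦ c^q`, an `E`-hermitian form `fE` and a functional `τ` with `f(e x, y) = τ (e * fE x y)`,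
`τ (st e) = (τ e)^q`.  The `E`-transvections `kt v a` (`v` `E`-isotropic, `a` skew) are elements of
`GU ⊓ SL` commuting with `E`.  Built on helper22's form-free `C3L` toolkit (`act`, `line`, `img`,
`unip`, `cent`).
-/

set_option autoImplicit false
set_option linter.unusedSectionVars false
set_option linter.unusedVariables false
set_option linter.unusedSimpArgs false

namespace Cfsg.Agent.Lib.Helper16.C3u
open Cfsg Matrix Cfsg.Agent.Lib.Helper5.SpMax Cfsg.Agent.Lib.Helper22.C3L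

/-- a field `E` with involution acting on `F^n`, with its `E`-hermitian form -/
structure KU (n q : ℕ) (F : Type*) [Field F] (E : Type*) [Field E] [Algebra F E] where
  ρ : E →ₐ[F] Matrix (Fin n) (Fin n) F
  st : E ≃+* E
  st_st : ∀ e, st (st e) = e
  st_alg : ∀ c : F, st (algebraMap F E c) = algebraMap F E (c ^ q)
  τ : E →ₗ[F] F
  τ_st : ∀ e, τ (st e) = (τ e) ^ q
  fE : (Fin n → F) → (Fin n → F) → E
  add_left : ∀ x y z, fE (x + y) z = fE x z + fE y z
  smul_left : ∀ (e : E) x y, fE (ρ e *ᵥ x) y = e * fE x y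
  herm : ∀ x y, fE y x = st (fE x y)
  form_eq : ∀ (e : E) x y, Cfsg.hermForm n F q (ρ e *ᵥ x) y = τ (e * fE x y)

variable {F : Type*} [Field F] {n q : ℕ} {E : Type*} [Field E] [Algebra F E]

local notation "𝕍" => (Fin n → F)
local notation "𝕄" => Matrix (Fin n) (Fin n) F

namespace KU
variable (S : KU n q F E)

/-! ### the form `fE` -/

lemma fE_act_left (e : E) (x y : 𝕍) : S.fE (act S.ρ e x) y = e * S.fE x y := S.smul_left e x y

lemma fE_act_right (e : E) (x y : 𝕍) : S.fE x (act S.ρ e y) = S.st e * S.fE x y := by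
  rw [S.herm, fE_act_left, map_mul, ← S.herm]

lemma fE_add_right (x y z : 𝕍) : S.fE x (y + z) = S.fE x y + S.fE x z := by
  rw [S.herm, S.add_left, map_add, ← S.herm, ← S.herm]

@[simp] lemma fE_zero_left (y : 𝕍) : S.fE 0 y = 0 := by
  have h := S.add_left 0 0 y
  rw [add_zero] at h
  exact left_eq_add.mp h

@[simp] lemma fE_zero_right (y : 𝕍) : S.fE y 0 = 0 := by
  rw [S.herm, fE_zero_left, map_zero]

lemma fE_neg_left (x y : 𝕍) : S.fE (-x) y = - S.fE x y := by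
  have h := S.add_left x (-x) y
  rw [add_neg_cancel, fE_zero_left] at h
  exact eq_neg_of_add_eq_zero_right h.symm

lemma fE_neg_right (x y : 𝕍) : S.fE x (-y) = - S.fE x y := by
  rw [S.herm, fE_neg_left, map_neg, ← S.herm]

lemma fE_sub_left (x y z : 𝕍) : S.fE (x - y) z = S.fE x z - S.fE y z := by
  rw [sub_eq_add_neg, S.add_left, fE_neg_left, sub_eq_add_neg]

lemma fE_sub_right (x y z : 𝕍) : S.fE x (y - z) = S.fE x y - S.fE x z := by
  rw [sub_eq_add_neg, fE_add_right, fE_neg_right, sub_eq_add_neg]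

lemma fE_fsmul_left (c : F) (x y : 𝕍) : S.fE (c • x) y = c • S.fE x y := by
  rw [← act_algebraMap S.ρ, fE_act_left, Algebra.smul_def]

lemma fE_fsmul_right (c : F) (x y : 𝕍) : S.fE x (c • y) = (c ^ q) • S.fE x y := by
  rw [← act_algebraMap S.ρ, fE_act_right, S.st_alg, Algebra.smul_def]

lemma st_fE_self (x : 𝕍) : S.st (S.fE x x) = S.fE x x := (S.herm x x).symm

lemma form_eq' (x y : 𝕍) : Cfsg.hermForm n F q x y = S.τ (S.fE x y) := by
  have h := S.form_eq 1 x y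
  rwa [map_one, Matrix.one_mulVec, one_mul] at h

lemma form_act_left (e : E) (x y : 𝕍) :
    Cfsg.hermForm n F q (act S.ρ e x) y = S.τ (e * S.fE x y) := S.form_eq e x y

lemma form_act_right (e : E) (x y : 𝕍) :
    Cfsg.hermForm n F q x (act S.ρ e y) = S.τ (S.st e * S.fE x y) := by
  rw [S.form_eq', fE_act_right]

/-- the adjoint of `ρ e` is `ρ (st e)` -/
lemma adj (e : E) (x y : 𝕍) :
    Cfsg.hermForm n F q (act S.ρ e x) y = Cfsg.hermForm n F q x (act S.ρ (S.st e) y) := by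
  rw [form_act_left, form_act_right, S.st_st]

/-- an `fE`-isometry is an isometry of the hermitian form -/
lemma form_of_fE {g : 𝕄} (h : ∀ x y, S.fE (g *ᵥ x) (g *ᵥ y) = S.fE x y) (x y : 𝕍) :
    Cfsg.hermForm n F q (g *ᵥ x) (g *ᵥ y) = Cfsg.hermForm n F q x y := by
  rw [S.form_eq', S.form_eq', h]

/-! ### the `E`-hyperplane `v^⊥` -/

/-- the linear map `x ↦ fE x v` -/
def phi (v : 𝕍) : 𝕍 →ₗ[F] E where
  toFun x := S.fE x v
  map_add' x y := S.add_left x y v
  map_smul' c x := by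
    simp only [RingHom.id_apply]
    exact S.fE_fsmul_left c x v

lemma phi_apply (v x : 𝕍) : S.phi v x = S.fE x v := rfl

/-- the `E`-orthogonal complement of `v` (an `F`-subspace) -/
def hyp (v : 𝕍) : Submodule F 𝕍 := LinearMap.ker (S.phi v)

lemma mem_hyp {v x : 𝕍} : x ∈ S.hyp v ↔ S.fE x v = 0 := LinearMap.mem_ker

lemma act_mem_hyp {v x : 𝕍} (hx : x ∈ S.hyp v) (e : E) : act S.ρ e x ∈ S.hyp v := by
  rw [mem_hyp] at hx ⊢
  rw [fE_act_left, hx, mul_zero]

lemma line_le_hyp {v : 𝕍} (hv : S.fE v v = 0) : line S.ρ v ≤ S.hyp v := by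
  intro x hx
  obtain ⟨e, rfl⟩ := mem_line.mp hx
  rw [mem_hyp, fE_act_left, hv, mul_zero]

/-! ### `E`-transvections -/

/-- the linear map `x ↦ (a * fE x v) v` -/
def ktLin (v : 𝕍) (a : E) : 𝕍 →ₗ[F] 𝕍 where
  toFun x := act S.ρ (a * S.fE x v) v
  map_add' x y := by rw [S.add_left, mul_add, act_add]
  map_smul' c x := by
    simp only [RingHom.id_apply]
    rw [S.fE_fsmul_left, mul_smul_comm, act_smul]

/-- the matrix of `x ↦ (a * fE x v) v` -/
def ktMat (v : 𝕍) (a : E) : 𝕄 := LinearMap.toMatrix' (S.ktLin v a)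

lemma ktMat_mulVec (v : 𝕍) (a : E) (x : 𝕍) :
    S.ktMat v a *ᵥ x = act S.ρ (a * S.fE x v) v := by
  unfold ktMat
  rw [← Matrix.toLin'_apply, Matrix.toLin'_toMatrix']
  rfl

lemma ktMat_sq {v : 𝕍} (hv : S.fE v v = 0) (a : E) : S.ktMat v a * S.ktMat v a = 0 := by
  apply mat_eq_of_mulVec
  intro x
  rw [← Matrix.mulVec_mulVec, ktMat_mulVec, ktMat_mulVec, fE_act_left, hv, mul_zero, mul_zero,
    act_zero, Matrix.zero_mulVec]

/-- the `E`-transvection `x ↦ x + (a * fE x v) v` (`v` isotropic) -/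
def kt (v : 𝕍) (a : E) (hv : S.fE v v = 0) : GL (Fin n) F := unip (S.ktMat v a) (S.ktMat_sq hv a)

lemma kt_mulVec {v : 𝕍} (hv : S.fE v v = 0) (a : E) (x : 𝕍) :
    ((S.kt v a hv : GL (Fin n) F) : 𝕄) *ᵥ x = x + act S.ρ (a * S.fE x v) v := by
  unfold kt
  rw [unip_mulVec, ktMat_mulVec]

lemma kt_inv_mulVec {v : 𝕍} (hv : S.fE v v = 0) (a : E) (x : 𝕍) :
    (((S.kt v a hv)⁻¹ : GL (Fin n) F) : 𝕄) *ᵥ x = x - act S.ρ (a * S.fE x v) v := by
  unfold kt
  rw [unip_inv_mulVec, ktMat_mulVec]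

/-- `kt v a` preserves `fE` when `a` is skew -/
lemma kt_fE {v : 𝕍} (hv : S.fE v v = 0) {a : E} (ha : S.st a = -a) (x y : 𝕍) :
    S.fE (((S.kt v a hv : GL (Fin n) F) : 𝕄) *ᵥ x)
      (((S.kt v a hv : GL (Fin n) F) : 𝕄) *ᵥ y) = S.fE x y := by
  rw [kt_mulVec, kt_mulVec, S.add_left, fE_add_right, fE_add_right, fE_act_left, fE_act_left,
    fE_act_right, fE_act_right, hv, map_mul, ha, S.herm y v]
  ring

lemma kt_mem_GU {v : 𝕍} (hv : S.fE v v = 0) {a : E} (ha : S.st a = -a) :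
    S.kt v a hv ∈ Cfsg.GU n F q := by
  rw [Cfsg.Agent.Lib.Helper5.SUMax.mem_GU]
  exact S.form_of_fE (S.kt_fE hv ha)

lemma ktMat_comm (v : 𝕍) (a e : E) : S.ktMat v a * S.ρ e = S.ρ e * S.ktMat v a := by
  apply mat_eq_of_mulVec
  intro x
  rw [← Matrix.mulVec_mulVec, ← Matrix.mulVec_mulVec, ktMat_mulVec, ktMat_mulVec]
  change act S.ρ (a * S.fE (act S.ρ e x) v) v = act S.ρ e (act S.ρ (a * S.fE x v) v)
  rw [fE_act_left, ← act_mul]
  congr 1
  ring

lemma kt_comm {v : 𝕍} (hv : S.fE v v = 0) (a e : E) :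
    ((S.kt v a hv : GL (Fin n) F) : 𝕄) * S.ρ e = S.ρ e * ((S.kt v a hv : GL (Fin n) F) : 𝕄) := by
  unfold kt
  rw [unip_val, add_mul, mul_add, one_mul, mul_one, ktMat_comm]

/-- `kt v a ∈ GU ⊓ SL` -/
lemma kt_mem {v : 𝕍} (hv : S.fE v v = 0) {a : E} (ha : S.st a = -a) :
    S.kt v a hv ∈ Cfsg.GU n F q ⊓ Cfsg.Geo.specialLinear (Fin n) F :=
  ⟨S.kt_mem_GU hv ha, unip_mem_SL _ _⟩

end KU

end Cfsg.Agent.Lib.Helper16.C3u
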