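import Mathlib

/-
helper16 library: Sylow 2-subgroups with elementary abelian abelianisation (`E2`),
transfer along odd-index embeddings, and the semidirect-product lemma.
-/

set_option autoImplicit false

namespace Cfsg.Agent.Lib.Helper16.SylAb

open scoped commutatorElement

variable {G : Type*} [Group G]

/-- squares of elements of `R` lie in `⁅R, R⁆` -/
def SqS (R : Subgroup G) : Prop := ∀ x ∈ R, x ^ 2 ∈ ⁅R, R⁆

theorem SqS.map {G' : Type*} [Group G'] (f : G →* G') {R : Subgroup G} (h : SqS R) :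
    SqS (R.map f) := by
  rintro _ ⟨x, hx, rfl⟩
  rw [← map_pow, ← Subgroup.map_commutator]
  exact Subgroup.mem_map_of_mem f (h x hx)

theorem sqS_of_mul {R A B : Subgroup G} (hA : A ≤ R) (hB : B ≤ R)
    (hdec : ∀ x ∈ R, ∃ a ∈ A, ∃ b ∈ B, x = a * b) (h1 : SqS A) (h2 : SqS B) : SqS R := by
  intro x hx
  obtain ⟨a, ha, b, hb, rfl⟩ := hdec x hx
  have e : (a * b) ^ 2 = a ^ 2 * ⁅a⁻¹, b⁆ * b ^ 2 := by
    simp [commutatorElement_def, pow_two, mul_assoc]
  rw [e]
  refine mul_mem (mul_mem (Subgroup.commutator_mono hA hA (h1 a ha)) ?_)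
    (Subgroup.commutator_mono hB hB (h2 b hb))
  exact Subgroup.commutator_mem_commutator (inv_mem (hA ha)) (hB hb)

theorem sqS_of_sq_eq_one {R : Subgroup G} (h : ∀ x ∈ R, x ^ 2 = 1) : SqS R := by
  intro x hx
  rw [h x hx]
  exact one_mem _

/-- all Sylow `2`-subgroups have elementary abelian abelianisation -/
def E2 (G : Type*) [Group G] : Prop := ∀ P : Sylow 2 G, SqS (P : Subgroup G)

theorem E2_of_sylow [Finite G] (P : Sylow 2 G) (h : SqS (P : Subgroup G)) : E2 G := by
  intro Q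
  obtain ⟨g, rfl⟩ := MulAction.exists_smul_eq G P Q
  rw [Sylow.coe_subgroup_smul, Subgroup.pointwise_smul_def]
  exact h.map _

theorem E2_of_injective {H : Type*} [Group H] [Finite G] (φ : H →* G)
    (hφ : Function.Injective φ) (hodd : ¬ 2 ∣ φ.range.index) (h : E2 H) : E2 G := by
  have : Finite H := Finite.of_injective φ hφ
  obtain ⟨P₀⟩ : Nonempty (Sylow 2 H) := inferInstance
  have hp : IsPGroup 2 ((P₀ : Subgroup H).map φ) := P₀.isPGroup'.map φ
  have hidx : ¬ 2 ∣ ((P₀ : Subgroup H).map φ).index := by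
    rw [Subgroup.index_map_of_injective _ hφ]
    intro hd
    rcases (Nat.Prime.dvd_mul Nat.prime_two).mp hd with h1 | h1
    · exact P₀.not_dvd_index h1
    · exact hodd h1
  refine E2_of_sylow (hp.toSylow hidx) ?_
  rw [IsPGroup.toSylow_coe]
  exact (h P₀).map φ

theorem E2_of_mulEquiv {H : Type*} [Group H] [Finite G] (e : H ≃* G) (h : E2 H) : E2 G := by
  apply E2_of_injective e.toMonoidHom e.injective _ h
  have : e.toMonoidHom.range = ⊤ := MonoidHom.range_eq_top.mpr e.surjective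
  rw [this, Subgroup.index_top]
  norm_num

theorem E2_of_sq_eq_one (h : ∀ x : G, x ^ 2 = 1) : E2 G :=
  fun _ => sqS_of_sq_eq_one (fun x _ => h x)

/-- the statement form -/
theorem E2.sq_mem {G : Type*} [Group G] (h : E2 G) (P : Sylow 2 G) (x : (P : Subgroup G)) :
    x ^ 2 ∈ commutator (P : Subgroup G) := by
  have h1 := h P x x.2
  rw [← Subgroup.map_subtype_commutator] at h1
  obtain ⟨y, hy, hyx⟩ := h1
  have : y = x ^ 2 := Subtype.ext hyx
  rwa [← this]

theorem E2_of_complement {H : Type*} [Group H] [Finite H] (N K : Subgroup H) [N.Normal]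
    (hdisj : N ⊓ K = ⊥) (hsup : N ⊔ K = ⊤) (hN : E2 N) (hK : E2 K) : E2 H := by
  classical
  obtain ⟨ψ, hψ⟩ : ∃ ψ : K →* H ⧸ N, ψ = (QuotientGroup.mk' N).comp K.subtype := ⟨_, rfl⟩
  have hψa : ∀ k : K, ψ k = QuotientGroup.mk' N (k : H) := fun k => by rw [hψ]; rfl
  have hψinj : Function.Injective ψ := by
    rw [injective_iff_map_eq_one]
    intro k hk
    rw [hψa, QuotientGroup.mk'_apply, QuotientGroup.eq_one_iff] at hk
    have h2 : (k : H) ∈ N ⊓ K := ⟨hk, k.2⟩
    rw [hdisj, Subgroup.mem_bot] at h2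
    exact Subtype.ext h2
  have hψsurj : Function.Surjective ψ := by
    intro y
    obtain ⟨x, rfl⟩ := QuotientGroup.mk'_surjective N y
    have hx : x ∈ N ⊔ K := by rw [hsup]; trivial
    rw [← SetLike.mem_coe, Subgroup.normal_mul, Set.mem_mul] at hx
    obtain ⟨n, hn, k, hk, rfl⟩ := hx
    refine ⟨⟨k, hk⟩, ?_⟩
    rw [hψa, map_mul]
    have : QuotientGroup.mk' N n = 1 := by
      rw [QuotientGroup.mk'_apply, QuotientGroup.eq_one_iff]; exact hn
    rw [this, one_mul]
  obtain ⟨RK⟩ : Nonempty (Sylow 2 K) := inferInstance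
  obtain ⟨P, hRP⟩ := (RK.isPGroup'.map K.subtype).exists_le_sylow
  obtain ⟨S, hS⟩ : ∃ S : Subgroup K, S = ((P : Subgroup H).map (QuotientGroup.mk' N)).comap ψ :=
    ⟨_, rfl⟩
  have hS2 : IsPGroup 2 S := by
    rw [hS]
    exact (P.isPGroup'.map _).comap_of_injective ψ hψinj
  have hRS : (RK : Subgroup K) ≤ S := by
    intro k hk
    rw [hS, Subgroup.mem_comap]
    exact ⟨(k : H), hRP (Subgroup.mem_map_of_mem _ hk), (hψa k).symm⟩
  have hSeq : S = RK := RK.is_maximal' hS2 hRS
  -- decomposition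
  have hdec : ∀ x ∈ (P : Subgroup H), ∃ a ∈ (P : Subgroup H) ⊓ N,
      ∃ b ∈ (RK : Subgroup K).map K.subtype, x = a * b := by
    intro x hx
    obtain ⟨k, hk⟩ := hψsurj (QuotientGroup.mk' N x)
    have hkS : k ∈ S := by rw [hS, Subgroup.mem_comap]; exact ⟨x, hx, hk.symm⟩
    rw [hSeq] at hkS
    have hkP : (k : H) ∈ (P : Subgroup H) := hRP (Subgroup.mem_map_of_mem _ hkS)
    refine ⟨x * (k : H)⁻¹, Subgroup.mem_inf.mpr ⟨mul_mem hx (inv_mem hkP), ?_⟩, (k : H),
      Subgroup.mem_map_of_mem _ hkS, by group⟩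
    have : QuotientGroup.mk' N (x * (k : H)⁻¹) = 1 := by
      rw [map_mul, map_inv, ← hk, hψa, mul_inv_cancel]
    rwa [QuotientGroup.mk'_apply, QuotientGroup.eq_one_iff] at this
  -- cardinalities
  have hcardH : Nat.card H = Nat.card N * Nat.card K := by
    rw [← Subgroup.card_mul_index N, Subgroup.index_eq_card]
    congr 1
    exact (Nat.card_congr (Equiv.ofBijective ψ ⟨hψinj, hψsurj⟩)).symm
  have hQP : Nat.card ((P : Subgroup H) ⊓ N : Subgroup H) * Nat.card (RK : Subgroup K) =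
      Nat.card (P : Subgroup H) := by
    let f : ((P : Subgroup H) ⊓ N : Subgroup H) × (RK : Subgroup K) → (P : Subgroup H) :=
      fun ab => ⟨(ab.1 : H) * ((ab.2 : K) : H), mul_mem (Subgroup.mem_inf.mp ab.1.2).1
        (hRP (Subgroup.mem_map_of_mem _ ab.2.2))⟩
    have hf : Function.Bijective f := by
      constructor
      · rintro ⟨a, b⟩ ⟨a', b'⟩ hab
        have h1 : (a : H) * ((b : K) : H) = (a' : H) * ((b' : K) : H) := congrArg Subtype.val hab
        have h2 : (a' : H)⁻¹ * (a : H) = ((b' : K) : H) * ((b : K) : H)⁻¹ := by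
          calc (a' : H)⁻¹ * (a : H) = (a' : H)⁻¹ * ((a : H) * ((b : K) : H)) * ((b : K) : H)⁻¹ := by
                group
            _ = (a' : H)⁻¹ * ((a' : H) * ((b' : K) : H)) * ((b : K) : H)⁻¹ := by rw [h1]
            _ = ((b' : K) : H) * ((b : K) : H)⁻¹ := by group
        have h3 : (a' : H)⁻¹ * (a : H) ∈ N ⊓ K := by
          refine Subgroup.mem_inf.mpr ⟨mul_mem (inv_mem (Subgroup.mem_inf.mp a'.2).2)
            (Subgroup.mem_inf.mp a.2).2, ?_⟩
          rw [h2]; exact mul_mem b'.1.2 (inv_mem b.1.2)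
        rw [hdisj, Subgroup.mem_bot] at h3
        have ha : (a : H) = a' := by
          rw [inv_mul_eq_one] at h3; exact h3.symm
        have hb : ((b : K) : H) = ((b' : K) : H) := by
          rw [ha] at h1; exact mul_left_cancel h1
        exact Prod.ext (Subtype.ext ha) (Subtype.ext (Subtype.ext hb))
      · rintro ⟨x, hx⟩
        obtain ⟨a, ha, b, ⟨k, hk, rfl⟩, rfl⟩ := hdec x hx
        exact ⟨(⟨a, ha⟩, ⟨k, hk⟩), rfl⟩
    rw [← Nat.card_prod]
    exact Nat.card_congr (Equiv.ofBijective f hf)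
  have hQcard : Nat.card ((P : Subgroup H) ⊓ N : Subgroup H) = 2 ^ (Nat.card N).factorization 2 := by
    have h1 := P.card_eq_multiplicity
    have h2 := RK.card_eq_multiplicity
    rw [h1, h2, hcardH, Nat.factorization_mul Nat.card_pos.ne' Nat.card_pos.ne', Finsupp.add_apply,
      pow_add] at hQP
    exact Nat.eq_of_mul_eq_mul_right (pow_pos (by norm_num) _) hQP
  have hQ' : Nat.card (((P : Subgroup H) ⊓ N).subgroupOf N) = 2 ^ (Nat.card N).factorization 2 := by
    rw [← hQcard]
    exact Nat.card_congr (Subgroup.subgroupOfEquivOfLe inf_le_right).toEquiv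
  have hSQ : SqS ((P : Subgroup H) ⊓ N) := by
    have h1 := (hN (Sylow.ofCard _ hQ')).map N.subtype
    rw [Sylow.coe_ofCard, Subgroup.subgroupOf_map_subtype, inf_assoc, inf_idem] at h1
    exact h1
  have hSR : SqS ((RK : Subgroup K).map K.subtype) := (hK RK).map K.subtype
  exact E2_of_sylow P (sqS_of_mul inf_le_left hRP hdec hSQ hSR)

theorem E2_of_semidirect [Finite G] (N K : Subgroup G) (hK : K ≤ Subgroup.normalizer (N : Set G))
    (hdisj : N ⊓ K = ⊥) (hodd : ¬ 2 ∣ (K ⊔ N).index) (hN : E2 N) (hK' : E2 K) : E2 G := by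
  have : (N.subgroupOf (K ⊔ N)).Normal := Subgroup.normal_subgroupOf_sup_of_le_normalizer hK
  have hL : E2 ↥(K ⊔ N) := by
    apply E2_of_complement (N.subgroupOf (K ⊔ N)) (K.subgroupOf (K ⊔ N))
    · ext x
      rw [Subgroup.mem_inf, Subgroup.mem_subgroupOf, Subgroup.mem_subgroupOf, Subgroup.mem_bot]
      constructor
      · rintro ⟨h1, h2⟩
        have : (x : G) ∈ N ⊓ K := ⟨h1, h2⟩
        rw [hdisj, Subgroup.mem_bot] at this
        exact Subtype.ext this
      · rintro rfl
        exact ⟨one_mem _, one_mem _⟩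
    · rw [← Subgroup.subgroupOf_sup le_sup_right le_sup_left, sup_comm, Subgroup.subgroupOf_self]
    · exact E2_of_mulEquiv (Subgroup.subgroupOfEquivOfLe le_sup_right).symm hN
    · exact E2_of_mulEquiv (Subgroup.subgroupOfEquivOfLe le_sup_left).symm hK'
  apply E2_of_injective (K ⊔ N).subtype Subtype.val_injective _ hL
  rwa [Subgroup.range_subtype]

/-- order of an internal semidirect product -/
theorem card_of_complement {H : Type*} [Group H] [Finite H] (N K : Subgroup H) [N.Normal]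
    (hdisj : N ⊓ K = ⊥) (hsup : N ⊔ K = ⊤) : Nat.card H = Nat.card N * Nat.card K := by
  obtain ⟨ψ, hψ⟩ : ∃ ψ : K →* H ⧸ N, ψ = (QuotientGroup.mk' N).comp K.subtype := ⟨_, rfl⟩
  have hψa : ∀ k : K, ψ k = QuotientGroup.mk' N (k : H) := fun k => by rw [hψ]; rfl
  have hψinj : Function.Injective ψ := by
    rw [injective_iff_map_eq_one]
    intro k hk
    rw [hψa, QuotientGroup.mk'_apply, QuotientGroup.eq_one_iff] at hk
    have h2 : (k : H) ∈ N ⊓ K := ⟨hk, k.2⟩
    rw [hdisj, Subgroup.mem_bot] at h2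
    exact Subtype.ext h2
  have hψsurj : Function.Surjective ψ := by
    intro y
    obtain ⟨x, rfl⟩ := QuotientGroup.mk'_surjective N y
    have hx : x ∈ N ⊔ K := by rw [hsup]; trivial
    rw [← SetLike.mem_coe, Subgroup.normal_mul, Set.mem_mul] at hx
    obtain ⟨n, hn, k, hk, rfl⟩ := hx
    refine ⟨⟨k, hk⟩, ?_⟩
    rw [hψa, map_mul]
    have : QuotientGroup.mk' N n = 1 := by
      rw [QuotientGroup.mk'_apply, QuotientGroup.eq_one_iff]; exact hn
    rw [this, one_mul]
  rw [← Subgroup.card_mul_index N, Subgroup.index_eq_card]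
  congr 1
  exact (Nat.card_congr (Equiv.ofBijective ψ ⟨hψinj, hψsurj⟩)).symm

theorem card_sup_of_normalizer [Finite G] (N K : Subgroup G)
    (hK : K ≤ Subgroup.normalizer (N : Set G)) (hdisj : N ⊓ K = ⊥) :
    Nat.card ↥(K ⊔ N) = Nat.card N * Nat.card K := by
  have : (N.subgroupOf (K ⊔ N)).Normal := Subgroup.normal_subgroupOf_sup_of_le_normalizer hK
  rw [card_of_complement (N.subgroupOf (K ⊔ N)) (K.subgroupOf (K ⊔ N))]
  · rw [Nat.card_congr (Subgroup.subgroupOfEquivOfLe (le_sup_right : N ≤ K ⊔ N)).toEquiv,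
      Nat.card_congr (Subgroup.subgroupOfEquivOfLe (le_sup_left : K ≤ K ⊔ N)).toEquiv]
  · ext x
    rw [Subgroup.mem_inf, Subgroup.mem_subgroupOf, Subgroup.mem_subgroupOf, Subgroup.mem_bot]
    constructor
    · rintro ⟨h1, h2⟩
      have : (x : G) ∈ N ⊓ K := ⟨h1, h2⟩
      rw [hdisj, Subgroup.mem_bot] at this
      exact Subtype.ext this
    · rintro rfl
      exact ⟨one_mem _, one_mem _⟩
  · rw [← Subgroup.subgroupOf_sup le_sup_right le_sup_left, sup_comm, Subgroup.subgroupOf_self]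

theorem not_dvd_index_of_factorization [Finite G] (L : Subgroup G)
    (hv : (Nat.card G).factorization 2 = (Nat.card L).factorization 2) : ¬ 2 ∣ L.index := by
  intro hd
  have h1 := Subgroup.card_mul_index L
  have h0 : L.index ≠ 0 := Subgroup.index_ne_zero_of_finite
  have h2 : (Nat.card L * L.index).factorization 2 =
      (Nat.card L).factorization 2 + L.index.factorization 2 := by
    rw [Nat.factorization_mul Nat.card_pos.ne' h0, Finsupp.add_apply]
  rw [h1, hv] at h2
  have h3 : 1 ≤ L.index.factorization 2 :=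
    (Nat.Prime.dvd_iff_one_le_factorization Nat.prime_two h0).mp hd
  omega

theorem E2_of_semidirect' [Finite G] (N K : Subgroup G)
    (hK : K ≤ Subgroup.normalizer (N : Set G)) (hdisj : N ⊓ K = ⊥)
    (hv : (Nat.card G).factorization 2 =
      (Nat.card N).factorization 2 + (Nat.card K).factorization 2)
    (hN : E2 N) (hK' : E2 K) : E2 G := by
  apply E2_of_semidirect N K hK hdisj _ hN hK'
  apply not_dvd_index_of_factorization
  rw [card_sup_of_normalizer N K hK hdisj, Nat.factorization_mul Nat.card_pos.ne' Nat.card_pos.ne',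
    Finsupp.add_apply, hv]

theorem E2_of_injective' {H : Type*} [Group H] [Finite G] (φ : H →* G)
    (hφ : Function.Injective φ)
    (hv : (Nat.card G).factorization 2 = (Nat.card H).factorization 2) (h : E2 H) : E2 G := by
  apply E2_of_injective φ hφ _ h
  apply not_dvd_index_of_factorization
  rw [hv, Nat.card_congr (MonoidHom.ofInjective hφ).toEquiv]

end Cfsg.Agent.Lib.Helper16.SylAb
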