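import Cfsg.Agent.Lib.Helper16.SylAb
import Cfsg.Agent.Lib.Helper2.SL2Quat

/-
helper16 library: `E2` (Sylow 2-subgroups with elementary abelian abelianisation) for products,
generalised quaternion groups and `SL_2(q)`, `q` odd.
-/

set_option autoImplicit false

namespace Cfsg.Agent.Lib.Helper16.SylAb

variable {G : Type*} [Group G]

open scoped commutatorElement

theorem E2_prod {A B : Type*} [Group A] [Group B] [Finite A] [Finite B] (hA : E2 A) (hB : E2 B) :
    E2 (A × B) := by
  have hn : ((MonoidHom.inl A B).range).Normal := by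
    refine ⟨?_⟩
    rintro _ ⟨a, rfl⟩ g
    refine ⟨g.1 * a * g.1⁻¹, ?_⟩
    ext <;> simp
  apply E2_of_complement (MonoidHom.inl A B).range (MonoidHom.inr A B).range
  · ext x
    rw [Subgroup.mem_inf, Subgroup.mem_bot]
    constructor
    · rintro ⟨⟨a, rfl⟩, ⟨b, hb⟩⟩
      have h1 := congrArg Prod.fst hb
      have h2 := congrArg Prod.snd hb
      simp at h1 h2
      ext <;> simp [← h1]
    · rintro rfl
      exact ⟨one_mem _, one_mem _⟩
  · rw [eq_top_iff]
    intro x _
    have : x = (MonoidHom.inl A B x.1) * (MonoidHom.inr A B x.2) := by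
      ext <;> simp
    rw [this]
    exact mul_mem (Subgroup.mem_sup_left ⟨_, rfl⟩) (Subgroup.mem_sup_right ⟨_, rfl⟩)
  · exact E2_of_mulEquiv (MonoidHom.ofInjective
      (f := MonoidHom.inl A B) (fun a b h => by simpa using congrArg Prod.fst h)) hA
  · exact E2_of_mulEquiv (MonoidHom.ofInjective
      (f := MonoidHom.inr A B) (fun a b h => by simpa using congrArg Prod.snd h)) hB

/-- `(Fin (n+1) → A) ≃* A × (Fin n → A)` -/
def piSuccEquiv (A : Type*) [Group A] (n : ℕ) : (Fin (n + 1) → A) ≃* A × (Fin n → A) where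
  toFun f := (f 0, Fin.tail f)
  invFun p := Fin.cons p.1 p.2
  left_inv f := by simp
  right_inv p := by simp
  map_mul' f g := by
    ext <;> simp [Fin.tail]

theorem E2_pi {A : Type*} [Group A] [Finite A] (hA : E2 A) (n : ℕ) : E2 (Fin n → A) := by
  induction n with
  | zero => exact E2_of_sq_eq_one (fun x => Subsingleton.elim _ _)
  | succ n ih => exact E2_of_mulEquiv (piSuccEquiv A n).symm (E2_prod hA ih)

theorem sqS_of_mulEquiv {R : Subgroup G} {A : Type*} [Group A] (e : R ≃* A)
    (h : ∀ x : A, x ^ 2 ∈ commutator A) : SqS R := by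
  intro x hx
  have h1 := h (e ⟨x, hx⟩)
  rw [commutator_def] at h1
  have h2 : e.symm (e ⟨x, hx⟩ ^ 2) ∈ Subgroup.map e.symm.toMonoidHom ⁅(⊤ : Subgroup A), ⊤⁆ :=
    Subgroup.mem_map_of_mem _ h1
  rw [Subgroup.map_commutator, Subgroup.map_top_of_surjective _ e.symm.surjective,
    ← commutator_def] at h2
  rw [map_pow, e.symm_apply_apply] at h2
  have h3 := Subgroup.mem_map_of_mem R.subtype h2
  rw [Subgroup.map_subtype_commutator] at h3
  exact h3

theorem quaternion_sq_mem (n : ℕ) (hn : Even n) (x : QuaternionGroup n) :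
    x ^ 2 ∈ commutator (QuaternionGroup n) := by
  obtain ⟨m, rfl⟩ := hn
  have h2n : (((m + m : ℕ) : ZMod (2 * (m + m))) + ((m + m : ℕ) : ZMod (2 * (m + m)))) = 0 := by
    rw [← Nat.cast_add, ← two_mul (m + m)]
    exact ZMod.natCast_self _
  have inv_a : ∀ i : ZMod (2 * (m + m)),
      (QuaternionGroup.a i : QuaternionGroup (m + m))⁻¹ = QuaternionGroup.a (-i) := by
    intro i
    apply inv_eq_of_mul_eq_one_right
    rw [QuaternionGroup.a_mul_a, add_neg_cancel, QuaternionGroup.a_zero]
  have inv_xa : ∀ i : ZMod (2 * (m + m)),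
      (QuaternionGroup.xa i : QuaternionGroup (m + m))⁻¹ =
        QuaternionGroup.xa (((m + m : ℕ) : ZMod (2 * (m + m))) + i) := by
    intro i
    apply inv_eq_of_mul_eq_one_right
    rw [QuaternionGroup.xa_mul_xa, ← QuaternionGroup.a_zero]
    congr 1
    linear_combination h2n
  have key : ∀ i : ZMod (2 * (m + m)),
      QuaternionGroup.a (2 * i) ∈ commutator (QuaternionGroup (m + m)) := by
    intro i
    have h1 : ⁅(QuaternionGroup.xa 0 : QuaternionGroup (m + m)), QuaternionGroup.a (-i)⁆ ∈
        commutator (QuaternionGroup (m + m)) := by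
      rw [commutator_def]
      exact Subgroup.commutator_mem_commutator (Subgroup.mem_top _) (Subgroup.mem_top _)
    have h2 : ⁅(QuaternionGroup.xa 0 : QuaternionGroup (m + m)), QuaternionGroup.a (-i)⁆ =
        QuaternionGroup.a (2 * i) := by
      rw [commutatorElement_def]
      rw [inv_a, inv_xa, QuaternionGroup.xa_mul_a, QuaternionGroup.xa_mul_xa,
        QuaternionGroup.a_mul_a]
      congr 1
      linear_combination h2n
    rw [h2] at h1
    exact h1
  rcases x with i | i
  · have : (QuaternionGroup.a i : QuaternionGroup (m + m)) ^ 2 = QuaternionGroup.a (2 * i) := by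
      rw [pow_two, QuaternionGroup.a_mul_a, two_mul i]
    rw [this]
    exact key i
  · have : (QuaternionGroup.xa i : QuaternionGroup (m + m)) ^ 2 =
        QuaternionGroup.a (2 * ((m : ℕ) : ZMod (2 * (m + m)))) := by
      rw [pow_two, QuaternionGroup.xa_mul_xa]
      congr 1
      push_cast
      ring
    rw [this]
    exact key _

theorem E2_SL2 {F : Type*} [Field F] [Fintype F] (hodd : Odd (Fintype.card F)) :
    E2 (Matrix.SpecialLinearGroup (Fin 2) F) := by
  classical
  obtain ⟨k, H, hk, ⟨e⟩, hcard⟩ := Cfsg.Agent.Lib.Helper2.sl2_exists_sylow_quaternion hodd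
  refine E2_of_sylow (Sylow.ofCard H hcard) ?_
  rw [Sylow.coe_ofCard]
  exact sqS_of_mulEquiv e (quaternion_sq_mem _ (Nat.even_pow.mpr ⟨even_two, by omega⟩))

end Cfsg.Agent.Lib.Helper16.SylAb
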