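import Cfsg.Agent.Lib.Helper16.SylAb

/-
helper16 library: `E2 (Perm (Fin n))`: Sylow 2-subgroups of symmetric groups have elementary
abelian abelianisation (via the odd-index subgroups `C_2 wr S_m` and point stabilisers).
-/

set_option autoImplicit false

namespace Cfsg.Agent.Lib.Helper16.SylAb

open Equiv

variable {G : Type*} [Group G]

theorem mem_normalizer_of_conj (N : Subgroup G) (g : G) (h1 : ∀ n ∈ N, g * n * g⁻¹ ∈ N)
    (h2 : ∀ n ∈ N, g⁻¹ * n * g ∈ N) : g ∈ Subgroup.normalizer (N : Set G) := by
  rw [Subgroup.mem_normalizer_iff]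
  intro n
  refine ⟨h1 n, fun h => ?_⟩
  have := h2 _ h
  have e : g⁻¹ * (g * n * g⁻¹) * g = n := by group
  rwa [e] at this

theorem factorization_two_mul_factorial (m : ℕ) :
    (Nat.factorial (2 * m)).factorization 2 = m + (Nat.factorial m).factorization 2 := by
  induction m with
  | zero => simp
  | succ m ih =>
    have e : 2 * (m + 1) = (2 * m + 1) + 1 := by ring
    rw [e, Nat.factorial_succ, Nat.factorial_succ, Nat.factorial_succ m,
      Nat.factorization_mul (by omega) (Nat.mul_ne_zero (by omega) (Nat.factorial_ne_zero _)),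
      Nat.factorization_mul (by omega) (Nat.factorial_ne_zero _),
      Nat.factorization_mul (by omega) (Nat.factorial_ne_zero _)]
    simp only [Finsupp.add_apply]
    rw [ih]
    have h1 : (2 * m + 1).factorization 2 = 0 :=
      Nat.factorization_eq_zero_of_not_dvd (by omega)
    have h2 : (2 * m + 1 + 1).factorization 2 = 1 + (m + 1).factorization 2 := by
      have : 2 * m + 1 + 1 = 2 * (m + 1) := by ring
      rw [this, Nat.factorization_mul (by omega) (by omega), Finsupp.add_apply,
        Nat.Prime.factorization_self Nat.prime_two]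
    rw [h1, h2]
    ring

theorem factorization_factorial_succ_of_even (k : ℕ) (hk : Even k) :
    (Nat.factorial (k + 1)).factorization 2 = (Nat.factorial k).factorization 2 := by
  rw [Nat.factorial_succ, Nat.factorization_mul (by omega) (Nat.factorial_ne_zero _),
    Finsupp.add_apply]
  have : (k + 1).factorization 2 = 0 := by
    apply Nat.factorization_eq_zero_of_not_dvd
    obtain ⟨c, rfl⟩ := hk
    omega
  rw [this, zero_add]

section PermBool

variable (β : Type*)

/-- fibrewise permutations -/
def nuHom : (β → Perm Bool) →* Perm (β × Bool) :=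
  MonoidHom.mk' (fun f => Equiv.prodShear (Equiv.refl β) f) (by
    intro f g
    ext ⟨b, c⟩ <;> simp [Equiv.prodShear])

/-- permutations of the base -/
def kappaHom : Perm β →* Perm (β × Bool) :=
  MonoidHom.mk' (fun τ => Equiv.prodCongr τ (Equiv.refl Bool)) (by
    intro f g
    ext ⟨b, c⟩ <;> simp)

variable {β}

@[simp] theorem nuHom_apply (f : β → Perm Bool) (x : β × Bool) :
    nuHom β f x = (x.1, f x.1 x.2) := rfl

@[simp] theorem kappaHom_apply (τ : Perm β) (x : β × Bool) :
    kappaHom β τ x = (τ x.1, x.2) := rfl

theorem nuHom_injective : Function.Injective (nuHom β) := by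
  intro f g h
  funext b
  ext c
  have := congrArg (fun σ : Perm (β × Bool) => (σ (b, c)).2) h
  simpa using this

theorem kappaHom_injective : Function.Injective (kappaHom β) := by
  intro f g h
  ext b
  have := congrArg (fun σ : Perm (β × Bool) => (σ (b, true)).1) h
  simpa using this

theorem conj_nu (τ : Perm β) (f : β → Perm Bool) :
    kappaHom β τ * nuHom β f * (kappaHom β τ)⁻¹ = nuHom β (fun b => f (τ⁻¹ b)) := by
  have hinv : (kappaHom β τ)⁻¹ = kappaHom β τ⁻¹ := (map_inv _ _).symm
  rw [hinv]
  ext ⟨b, c⟩
  · simp only [Perm.coe_mul, Function.comp_apply, nuHom_apply, kappaHom_apply]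
    rw [Perm.inv_def, Equiv.apply_symm_apply]
  · simp only [Perm.coe_mul, Function.comp_apply, nuHom_apply, kappaHom_apply]

theorem E2_perm_prod_bool [Fintype β] [DecidableEq β] (h : E2 (Perm β)) :
    E2 (Perm (β × Bool)) := by
  classical
  apply E2_of_semidirect' (nuHom β).range (kappaHom β).range
  · rintro _ ⟨τ, rfl⟩
    apply mem_normalizer_of_conj
    · rintro _ ⟨f, rfl⟩
      exact ⟨_, (conj_nu τ f).symm⟩
    · rintro _ ⟨f, rfl⟩
      have := conj_nu τ⁻¹ f
      rw [map_inv, inv_inv] at this
      exact ⟨_, this.symm⟩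
  · ext σ
    rw [Subgroup.mem_inf, Subgroup.mem_bot]
    constructor
    · rintro ⟨⟨f, rfl⟩, ⟨τ, hτ⟩⟩
      have h1 : τ = 1 := by
        ext b
        have := congrArg (fun σ : Perm (β × Bool) => (σ (b, true)).1) hτ
        simpa using this
      rw [← hτ, h1, map_one]
    · rintro rfl
      exact ⟨one_mem _, one_mem _⟩
  · rw [Nat.card_congr (MonoidHom.ofInjective nuHom_injective).toEquiv.symm,
      Nat.card_congr (MonoidHom.ofInjective kappaHom_injective).toEquiv.symm]
    simp only [Nat.card_eq_fintype_card, Fintype.card_perm, Fintype.card_prod, Fintype.card_bool,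
      Fintype.card_pi, Finset.prod_const, Finset.card_univ]
    rw [mul_comm (Fintype.card β) 2, factorization_two_mul_factorial]
    congr 1
    simp [Nat.Prime.factorization_pow Nat.prime_two]
  · apply E2_of_sq_eq_one
    rintro ⟨_, ⟨f, rfl⟩⟩
    apply Subtype.ext
    rw [Subgroup.coe_pow, Subgroup.coe_one, ← map_pow]
    have : f ^ 2 = 1 := by
      funext b
      have : ∀ p : Perm Bool, p ^ 2 = 1 := by decide
      simpa using this (f b)
    rw [this, map_one]
  · exact E2_of_mulEquiv (MonoidHom.ofInjective kappaHom_injective) h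

end PermBool

theorem card_subtype_ne {α : Type*} [Fintype α] [DecidableEq α] (a : α) :
    Fintype.card {x // x ≠ a} + 1 = Fintype.card α := by
  have h1 := Fintype.card_subtype_compl (fun x : α => x = a)
  have h2 : Fintype.card {x : α // x = a} = 1 := Fintype.card_subtype_eq a
  rw [h2] at h1
  have h3 : 0 < Fintype.card α := Fintype.card_pos_iff.mpr ⟨a⟩
  have h4 : Fintype.card {x // x ≠ a} = Fintype.card {x // ¬ x = a} := rfl
  omega

theorem E2_perm_of_subtype {α : Type*} [Fintype α] [DecidableEq α] (a : α)
    (hodd : Odd (Fintype.card α)) (h : E2 (Perm {x // x ≠ a})) : E2 (Perm α) := by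
  apply E2_of_injective' (Equiv.Perm.ofSubtype (p := fun x => x ≠ a))
    Equiv.Perm.ofSubtype_injective _ h
  simp only [Nat.card_eq_fintype_card, Fintype.card_perm]
  rw [← card_subtype_ne a]
  apply factorization_factorial_succ_of_even
  rw [← card_subtype_ne a] at hodd
  rcases Nat.even_or_odd (Fintype.card {x // x ≠ a}) with h1 | h1
  · exact h1
  · exfalso
    have := h1.add_one
    exact (Nat.not_even_iff_odd.mpr hodd) this

theorem E2_perm_aux : ∀ (n : ℕ) (α : Type) [Fintype α] [DecidableEq α],
    Fintype.card α = n → E2 (Perm α) := by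
  intro n
  induction n using Nat.strong_induction_on with
  | _ n ih =>
    intro α _ _ hα
    rcases Nat.even_or_odd n with he | ho
    · obtain ⟨m, hm⟩ := he
      rcases Nat.eq_zero_or_pos m with h0 | hpos
      · -- empty
        subst h0
        have : IsEmpty α := Fintype.card_eq_zero_iff.mp (by omega)
        exact E2_of_sq_eq_one (fun x => Subsingleton.elim _ _)
      · have hc : Fintype.card (Fin m × Bool) = Fintype.card α := by
          simp [hα, hm]; ring
        have e : Fin m × Bool ≃ α := Fintype.equivOfCardEq hc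
        have h1 : E2 (Perm (Fin m × Bool)) :=
          E2_perm_prod_bool (ih m (by omega) (Fin m) (by simp))
        exact E2_of_mulEquiv e.permCongrHom h1
    · have hpos : 0 < Fintype.card α := by rw [hα]; exact ho.pos
      obtain ⟨a⟩ := Fintype.card_pos_iff.mp hpos
      apply E2_perm_of_subtype a (by rw [hα]; exact ho)
      apply ih (n - 1) (by have := ho.pos; omega)
      have := card_subtype_ne a
      omega

theorem E2_perm (n : ℕ) : E2 (Perm (Fin n)) := E2_perm_aux n (Fin n) (by simp)

end Cfsg.Agent.Lib.Helper16.SylAb
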