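import Cfsg.Agent.Lib.Helper16.SylAb
import Cfsg.Agent.Lib.Helper16.SylAb3

/-
helper16 library: further tools for the "squares lie in the derived subgroup" property of
Sylow 2-subgroups: three-term semidirect products, transfer along an injective homomorphism with
normal range, and a wreath-doubling lemma.
-/

set_option autoImplicit false

namespace Cfsg.Agent.Lib.Helper16.SylAb

open scoped commutatorElement

variable {G : Type*} [Group G]

theorem E2_sup_of_normalizer [Finite G] (N K : Subgroup G)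
    (hK : K ≤ Subgroup.normalizer (N : Set G)) (hdisj : N ⊓ K = ⊥) (hN : E2 N) (hK' : E2 K) :
    E2 ↥(K ⊔ N) := by
  have : (N.subgroupOf (K ⊔ N)).Normal := Subgroup.normal_subgroupOf_sup_of_le_normalizer hK
  apply E2_of_complement (N.subgroupOf (K ⊔ N)) (K.subgroupOf (K ⊔ N))
  · ext x
    rw [Subgroup.mem_inf, Subgroup.mem_subgroupOf, Subgroup.mem_subgroupOf, Subgroup.mem_bot]
    constructor
    · rintro ⟨h1, h2⟩
      have : (x : G) ∈ N ⊓ K := ⟨h1, h2⟩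
      rw [hdisj, Subgroup.mem_bot] at this
      exact Subtype.ext this
    · rintro rfl
      exact ⟨one_mem _, one_mem _⟩
  · rw [← Subgroup.subgroupOf_sup le_sup_right le_sup_left, sup_comm, Subgroup.subgroupOf_self]
  · exact E2_of_mulEquiv (Subgroup.subgroupOfEquivOfLe le_sup_right).symm hN
  · exact E2_of_mulEquiv (Subgroup.subgroupOfEquivOfLe le_sup_left).symm hK'

/-- three-term internal semidirect product `N : (D : S)` of odd index -/
theorem E2_of_semidirect3 [Finite G] (N D S : Subgroup G)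
    (hD : D ≤ Subgroup.normalizer (N : Set G)) (hS : S ≤ Subgroup.normalizer (N : Set G))
    (hSD : S ≤ Subgroup.normalizer (D : Set G)) (hdisj1 : D ⊓ S = ⊥)
    (hdisj2 : N ⊓ (S ⊔ D) = ⊥)
    (hv : (Nat.card G).factorization 2 =
      (Nat.card N).factorization 2 + ((Nat.card D).factorization 2 + (Nat.card S).factorization 2))
    (hN : E2 N) (hD' : E2 D) (hS' : E2 S) : E2 G := by
  apply E2_of_semidirect' N (S ⊔ D) (sup_le hS hD) hdisj2 _ hN
    (E2_sup_of_normalizer D S hSD hdisj1 hD' hS')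
  rw [card_sup_of_normalizer D S hSD hdisj1,
    Nat.factorization_mul Nat.card_pos.ne' Nat.card_pos.ne', Finsupp.add_apply, hv]

theorem SqS.of_map_injective {G' : Type*} [Group G'] (f : G →* G') (hf : Function.Injective f)
    {R : Subgroup G} (h : SqS (R.map f)) : SqS R := by
  intro x hx
  have h1 := h (f x) ⟨x, hx, rfl⟩
  rw [← map_pow, ← Subgroup.map_commutator] at h1
  obtain ⟨y, hy, hxy⟩ := h1
  rw [← hf hxy]
  exact hy

section normalrange

variable {H : Type*} [Group H] [Finite H]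

/-- a Sylow 2-subgroup of `H` meeting the normal subgroup `f.range` in a subgroup with `SqS` -/
theorem exists_sylow_inf_range_of_E2 (f : G →* H) (hf : Function.Injective f) (hE : E2 G) :
    ∃ U₀ : Sylow 2 H, SqS ((U₀ : Subgroup H) ⊓ f.range) := by
  have : Finite G := Finite.of_injective f hf
  obtain ⟨Q⟩ : Nonempty (Sylow 2 G) := inferInstance
  have hQ2 : IsPGroup 2 ((Q : Subgroup G).map f) := Q.isPGroup'.map f
  obtain ⟨U₀, hU₀⟩ := hQ2.exists_le_sylow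
  refine ⟨U₀, ?_⟩
  have hT2 : IsPGroup 2 (((U₀ : Subgroup H) ⊓ f.range).comap f) :=
    (U₀.isPGroup'.to_le inf_le_left).comap_of_injective f hf
  have hle : (Q : Subgroup G) ≤ ((U₀ : Subgroup H) ⊓ f.range).comap f := by
    intro x hx
    exact ⟨hU₀ ⟨x, hx, rfl⟩, ⟨x, rfl⟩⟩
  have heq := Q.is_maximal' hT2 hle
  have h1 : (U₀ : Subgroup H) ⊓ f.range = (Q : Subgroup G).map f := by
    rw [← heq, Subgroup.map_comap_eq]
    exact (inf_eq_right.mpr inf_le_right).symm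
  rw [h1]
  exact (hE Q).map f

/-- conversely -/
theorem E2_of_sylow_inf_range (f : G →* H) (hf : Function.Injective f) (hn : f.range.Normal)
    (U₀ : Sylow 2 H) (h : SqS ((U₀ : Subgroup H) ⊓ f.range)) : E2 G := by
  intro Q
  have hQ2 : IsPGroup 2 ((Q : Subgroup G).map f) := Q.isPGroup'.map f
  obtain ⟨P', hP'⟩ := hQ2.exists_le_sylow
  obtain ⟨g, hg⟩ := MulAction.exists_smul_eq H U₀ P'
  have hT₂ : SqS ((P' : Subgroup H) ⊓ f.range) := by
    have h1 := h.map (MulDistribMulAction.toMonoidEnd (MulAut H) H (MulAut.conj g))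
    have h2 : ((U₀ : Subgroup H) ⊓ f.range).map
        (MulDistribMulAction.toMonoidEnd (MulAut H) H (MulAut.conj g)) =
        (P' : Subgroup H) ⊓ f.range := by
      rw [← hg, Sylow.coe_subgroup_smul, Subgroup.pointwise_smul_def]
      ext x
      constructor
      · rintro ⟨t, ⟨ht1, ht2⟩, rfl⟩
        exact ⟨⟨t, ht1, rfl⟩, hn.conj_mem t ht2 g⟩
      · rintro ⟨⟨t, ht1, rfl⟩, hx2⟩
        refine ⟨t, ⟨ht1, ?_⟩, rfl⟩
        have h3 := hn.conj_mem _ hx2 g⁻¹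
        have e : g⁻¹ * (g * t * g⁻¹) * g⁻¹⁻¹ = t := by group
        change g⁻¹ * (g * t * g⁻¹) * g⁻¹⁻¹ ∈ f.range at h3
        rw [e] at h3
        exact h3
    rw [← h2]
    exact h1
  have hT2 : IsPGroup 2 (((P' : Subgroup H) ⊓ f.range).comap f) :=
    (P'.isPGroup'.to_le inf_le_left).comap_of_injective f hf
  have hle : (Q : Subgroup G) ≤ ((P' : Subgroup H) ⊓ f.range).comap f := by
    intro x hx
    exact ⟨hP' ⟨x, hx, rfl⟩, ⟨x, rfl⟩⟩
  have heq := Q.is_maximal' hT2 hle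
  have h1 : (P' : Subgroup H) ⊓ f.range = (Q : Subgroup G).map f := by
    rw [← heq, Subgroup.map_comap_eq]
    exact (inf_eq_right.mpr inf_le_right).symm
  rw [h1] at hT₂
  exact hT₂.of_map_injective f hf

end normalrange

theorem commutatorElement_mul_of_commute (p q X : G) (h1 : Commute X p) (h2 : Commute X q) :
    ⁅p, X * q⁆ = ⁅p, q⁆ := by
  have hc : Commute X ⁅p, q⁆ := by
    rw [commutatorElement_def]
    exact ((h1.mul_right h2).mul_right h1.inv_right).mul_right h2.inv_right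
  have e : ⁅p, X * q⁆ = X * ⁅p, q⁆ * X⁻¹ := by
    rw [commutatorElement_def, commutatorElement_def, mul_inv_rev, ← mul_assoc p X q, ← h1.eq]
    group
  rw [e, hc.eq, mul_inv_cancel_right]

/-- the wreath-doubling lemma -/
theorem sqS_wreath {H U A : Type*} [Group H] [Group U] [CommGroup A]
    (δH : H →* A) (δ : U →* A) (i₁ i₂ : U →* H) (s : H)
    (hc : ∀ a b, Commute (i₁ a) (i₂ b))
    (hs1 : s * s = 1) (hs2 : ∀ a, s * i₁ a * s⁻¹ = i₂ a)
    (hd1 : ∀ a, δH (i₁ a) = δ a) (hd3 : δH s = 1)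
    (U₀ : Subgroup U) (hT : SqS (U₀ ⊓ δ.ker))
    (W : Subgroup H)
    (hW : ∀ w ∈ W, ∃ a ∈ U₀, ∃ b ∈ U₀, w = i₁ a * i₂ b ∨ w = s * (i₁ a * i₂ b))
    (h1 : ∀ a ∈ U₀, i₁ a ∈ W) (hsW : s ∈ W) : SqS (W ⊓ δH.ker) := by
  have sinv : s⁻¹ = s := inv_eq_of_mul_eq_one_right hs1
  have hs3 : ∀ a, s * i₂ a * s⁻¹ = i₁ a := by
    intro a
    rw [← hs2 a]
    calc s * (s * i₁ a * s⁻¹) * s⁻¹ = (s * s) * i₁ a * (s * s)⁻¹ := by group
      _ = i₁ a := by rw [hs1]; simp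
  have hd2 : ∀ a, δH (i₂ a) = δ a := by
    intro a
    rw [← hs2 a, map_mul, map_mul, map_inv, hd3, hd1]
    simp
  have h2 : ∀ a ∈ U₀, i₂ a ∈ W := by
    intro a ha
    rw [← hs2 a]
    exact W.mul_mem (W.mul_mem hsW (h1 a ha)) (W.inv_mem hsW)
  set TW := W ⊓ δH.ker with hTW
  set T := U₀ ⊓ δ.ker with hTdef
  have hsTW : s ∈ TW := ⟨hsW, hd3⟩
  have ht2 : ∀ t ∈ T, i₂ t ∈ TW := by
    intro t ht
    refine ⟨h2 t ht.1, MonoidHom.mem_ker.mpr ?_⟩
    rw [hd2]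
    exact MonoidHom.mem_ker.mp ht.2
  have hy : ∀ a ∈ U₀, i₁ a * i₂ a⁻¹ ∈ TW := by
    intro a ha
    refine ⟨W.mul_mem (h1 a ha) (h2 _ (U₀.inv_mem ha)), MonoidHom.mem_ker.mpr ?_⟩
    rw [map_mul, hd1, hd2, map_inv, mul_inv_cancel]
  -- F1
  have F1 : ∀ t ∈ T, ∀ u ∈ U₀, i₂ ⁅t, u⁆ ∈ ⁅TW, TW⁆ := by
    intro t ht u hu
    have e : i₂ ⁅t, u⁆ = ⁅i₂ t, i₁ u⁻¹ * i₂ u⁆ := by
      rw [commutatorElement_mul_of_commute _ _ _ (hc _ _) (hc _ _), map_commutatorElement]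
    rw [e]
    apply Subgroup.commutator_mem_commutator (ht2 t ht)
    have := hy u⁻¹ (U₀.inv_mem hu)
    rwa [inv_inv] at this
  have F2 : ⁅T, U₀⁆ ≤ (⁅TW, TW⁆).comap i₂ := by
    rw [Subgroup.commutator_le]
    intro t ht u hu
    exact F1 t ht u hu
  have F3 : ∀ a ∈ U₀, ∀ t ∈ T, ⁅a, t⁆ * t ^ 2 ∈ ⁅T, U₀⁆ := by
    intro a ha t ht
    apply Subgroup.mul_mem
    · rw [← commutatorElement_inv]
      exact Subgroup.inv_mem _ (Subgroup.commutator_mem_commutator ht ha)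
    · exact Subgroup.commutator_mono le_rfl inf_le_left (hT t ht)
  have F4 : ∀ a ∈ U₀, i₁ a * i₂ a⁻¹ * (i₁ a * i₂ a⁻¹) ∈ ⁅TW, TW⁆ := by
    intro a ha
    have hyc : s * (i₁ a * i₂ a⁻¹)⁻¹ * s⁻¹ = i₁ a * i₂ a⁻¹ := by
      rw [mul_inv_rev, ← map_inv, ← map_inv, inv_inv]
      calc s * (i₂ a * i₁ a⁻¹) * s⁻¹ = (s * i₂ a * s⁻¹) * (s * i₁ a⁻¹ * s⁻¹) := by group
        _ = i₁ a * i₂ a⁻¹ := by rw [hs3, hs2]
    have e : i₁ a * i₂ a⁻¹ * (i₁ a * i₂ a⁻¹) = ⁅i₁ a * i₂ a⁻¹, s⁆ := by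
      rw [commutatorElement_def]
      nth_rewrite 2 [← hyc]
      group
    rw [e]
    exact Subgroup.commutator_mem_commutator (hy a ha) hsTW
  have F5 : ∀ t ∈ T, i₁ t * (i₂ t)⁻¹ ∈ ⁅TW, TW⁆ := by
    intro t ht
    have e : i₁ t * (i₂ t)⁻¹ = ⁅s, i₂ t⁆ := by
      rw [commutatorElement_def, hs3]
    rw [e]
    exact Subgroup.commutator_mem_commutator hsTW (ht2 t ht)
  intro x hx
  obtain ⟨a, ha, b, hb, hxab⟩ := hW x hx.1
  have hδ : δ a * δ b = 1 := by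
    have h3 : δH x = 1 := hx.2
    rcases hxab with rfl | rfl
    · rwa [map_mul, hd1, hd2] at h3
    · rwa [map_mul, hd3, one_mul, map_mul, hd1, hd2] at h3
  have htT : a * b ∈ T := ⟨U₀.mul_mem ha hb, MonoidHom.mem_ker.mpr (by rw [map_mul]; exact hδ)⟩
  rcases hxab with rfl | rfl
  · have e : (i₁ a * i₂ b) ^ 2 =
        (i₁ a * i₂ a⁻¹ * (i₁ a * i₂ a⁻¹)) * i₂ (⁅a, a * b⁆ * (a * b) ^ 2) := by
      have e1 : ⁅a, a * b⁆ * (a * b) ^ 2 = a ^ 2 * b ^ 2 := by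
        rw [commutatorElement_def, pow_two, pow_two, pow_two]; group
      rw [e1, map_mul, pow_two, map_pow, map_pow, pow_two, pow_two, map_inv]
      have c1 := (hc a a).eq
      have c2 := (hc a b).eq
      have c3 : i₁ a * (i₂ a)⁻¹ = (i₂ a)⁻¹ * i₁ a := ((hc a a).inv_right).eq
      calc i₁ a * i₂ b * (i₁ a * i₂ b) = i₁ a * (i₂ b * i₁ a) * i₂ b := by group
        _ = i₁ a * (i₁ a * i₂ b) * i₂ b := by rw [c2]
        _ = i₁ a * (i₁ a * (i₂ a)⁻¹) * (i₂ a)⁻¹ * (i₂ a * i₂ a * (i₂ b * i₂ b)) := by group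
        _ = i₁ a * ((i₂ a)⁻¹ * i₁ a) * (i₂ a)⁻¹ * (i₂ a * i₂ a * (i₂ b * i₂ b)) := by rw [c3]
        _ = i₁ a * (i₂ a)⁻¹ * (i₁ a * (i₂ a)⁻¹) * (i₂ a * i₂ a * (i₂ b * i₂ b)) := by group
    rw [e]
    exact Subgroup.mul_mem _ (F4 a ha) (F2 (F3 a ha _ htT))
  · have htT' : b * a ∈ T :=
      ⟨U₀.mul_mem hb ha, MonoidHom.mem_ker.mpr (by rw [map_mul, mul_comm]; exact hδ)⟩
    have e : (s * (i₁ a * i₂ b)) ^ 2 =
        (i₁ (b * a) * (i₂ (b * a))⁻¹) * i₂ (⁅b, a * b⁆ * (a * b) ^ 2) := by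
      have e1 : ⁅b, a * b⁆ * (a * b) ^ 2 = (b * a) * (a * b) := by
        rw [commutatorElement_def, pow_two]; group
      rw [e1, map_mul (f := i₂) (b * a) (a * b), mul_assoc (i₁ (b * a)), inv_mul_cancel_left,
        pow_two]
      have e2 : s * (i₁ a * i₂ b) * (s * (i₁ a * i₂ b)) =
          (s * i₁ a * s⁻¹) * (s * i₂ b * s⁻¹) * (i₁ a * i₂ b) := by
        calc s * (i₁ a * i₂ b) * (s * (i₁ a * i₂ b))
            = s * (i₁ a * i₂ b) * s * (i₁ a * i₂ b) := by group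
          _ = s * (i₁ a * i₂ b) * s⁻¹ * (i₁ a * i₂ b) := by rw [sinv]
          _ = (s * i₁ a * s⁻¹) * (s * i₂ b * s⁻¹) * (i₁ a * i₂ b) := by group
      rw [e2, hs2, hs3, map_mul, map_mul]
      have c1 := (hc b a).eq
      calc i₂ a * i₁ b * (i₁ a * i₂ b) = i₂ a * (i₁ b * i₁ a) * i₂ b := by group
        _ = (i₁ b * i₁ a) * i₂ a * i₂ b := by
            rw [← map_mul, ((hc (b * a) a).eq)]
        _ = i₁ b * i₁ a * (i₂ a * i₂ b) := by group
    rw [e]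
    exact Subgroup.mul_mem _ (F5 _ htT') (F2 (F3 b hb _ htT))

end Cfsg.Agent.Lib.Helper16.SylAb
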