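/-
helper16: S2146 market "OM2" (planner helper11), leaf OLE `relIndex_ge_of_ne` (exact statement): `Om2OLEOf.relIndex_ge_of_ne_of`
with the leaves COV (helper12) and OL1 (helper22's `_of` form over QR, COV, GC) plugged in.
-/
import Mathlib
import Cfsg.Agent.Lib.Helper11.Om2Tools
import Cfsg.Agent.Lib.Helper12.Om2QR
import Cfsg.Agent.Lib.Helper12.Om2COV
import Cfsg.Agent.Lib.Helper15.Om2GC
import Cfsg.Agent.Lib.Helper22.Om2OL1Of
import Cfsg.Agent.Lib.Helper16.Om2OLEOf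

set_option autoImplicit false

open Cfsg.Agent.Lib.Helper11.Om2 MulAction
open scoped Pointwise

namespace Cfsg.Agent.Lib.Helper16.Om2Leaf

variable {F V G : Type*} [Field F] [AddCommGroup V] [Module F V] [Group G] [DistribMulAction G V]
  (S : Setting F V G)

/-- OL1 from helper22's `_of` form and the landed leaves QR, COV, GC -/
theorem relIndex_ge_of_small' [Finite V] [Finite G] {m : ℕ} (hV : Nat.card V = 2 ^ (2 * m))
    (hs : Nat.card {v : V // S.Q v = 0} = 2 ^ (2 * m - 1) + 2 ^ (m - 1)) (hm : 4 ≤ m)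
    (H : Subgroup G) {x : V} (hx0 : x ≠ 0) (hx : S.Q x = 0)
    (h1 : 4 ≤ Nat.card (S.Dt H hx)) (h2 : Nat.card (S.Dt H hx) ≤ 2 ^ (m - 1)) :
    2 ^ (m - 1) * (2 ^ m - 1) ≤ H.relIndex (stabilizer G x) := by
  refine Cfsg.Agent.Lib.Helper22.Om2OL1Of.relIndex_ge_of_small_of S ?_ ?_ ?_ hV hm H hx0 hx h1 h2
  · intro H' x' hx0' hx'
    exact Cfsg.Agent.Lib.Helper12.Om2Leaf.relIndex_Qs S H' hx0' hx'
  · intro x' hx0' hx' U hxU hU u0 hu0U hu00 hu0x
    have h := Cfsg.Agent.Lib.Helper12.Om2Leaf.covering S hV hm hx0' hx' U hxU hU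
      (fun _ : Fin 1 => (1 : G)) (fun _ => one_smul G x') (u0 := u0)
      (fun _ => by rw [one_smul]; exact hu0U) hu00 hu0x (Function.injective_of_subsingleton _)
    rw [Nat.card_fin, one_mul] at h
    exact h
  · intro x' hx0' hx' a
    rcases S.h01 a with h | h
    · rw [h, Cfsg.Agent.Lib.Helper15.Om2Leaf.card_type_zero S hV hs (by omega) hx0' hx']
      have : 0 < 2 ^ (m - 1) := Nat.pos_of_ne_zero (by positivity)
      omega
    · rw [h, Cfsg.Agent.Lib.Helper15.Om2Leaf.card_type_one S hV hs (by omega) hx0' hx']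

/-- OLE -/
theorem relIndex_ge_of_ne [Finite V] [Finite G] {m : ℕ} (hV : Nat.card V = 2 ^ (2 * m))
    (hs : Nat.card {v : V // S.Q v = 0} = 2 ^ (2 * m - 1) + 2 ^ (m - 1)) (hm : 4 ≤ m)
    (H : Subgroup G) {x : V} (hx0 : x ≠ 0) (hx : S.Q x = 0)
    (hne : ∃ w, S.B x w = 0 ∧ S.sg x w ∉ H) :
    2 ^ (2 * m - 2) - 2 ^ (m - 1) ≤ H.relIndex (stabilizer G x) :=
  relIndex_ge_of_ne_of S hV hs hm H hx0 hx
    (fun U hxU hU _ g hg _ hu0 hu00 hu0x hinj =>
      Cfsg.Agent.Lib.Helper12.Om2Leaf.covering S hV hm hx0 hx U hxU hU g hg hu0 hu00 hu0x hinj)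
    (fun h1 h2 => relIndex_ge_of_small' S hV hs hm H hx0 hx h1 h2)
    hne

end Cfsg.Agent.Lib.Helper16.Om2Leaf
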