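/-
helper16: S2146 market "OM2" (planner helper11; `notes/S2146_plan.md`, `notes/S2146_leaves.lean`), core of the leaves C2a / C2b:
Siegel elements `sg y w` fixing `x`, `u0` and moving the subspace `U` (`x ∈ U ⊆ x^⊥`, `8 ≤ |U| ≤ 2^m`) to `n + 1` pairwise distinct
translates, as soon as `8 n 2^m < 2^(2m)`.  The affine-quadric leaf GA enters as the hypothesis `hGA`.
-/
import Mathlib
import Cfsg.Agent.Lib.Helper11.Om2Tools

set_option autoImplicit false

open Cfsg.Agent.Lib.Helper11.Om2 MulAction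
open scoped Pointwise

namespace Cfsg.Agent.Lib.Helper16.Om2Leaf

/-- avoiding `k` translates of a small set inside a big subgroup -/
theorem exists_avoid {W : Type*} [AddCommGroup W] [Finite W] (A : AddSubgroup W) (Bad : Set W)
    (k : ℕ) (t : Fin k → W) (h : k * Nat.card Bad < Nat.card A) :
    ∃ w ∈ A, ∀ i, w - t i ∉ Bad := by
  by_contra hcon
  push Not at hcon
  choose f hf using hcon
  have hinj : Function.Injective
      (fun w : A => ((f w.1 w.2, ⟨(w : W) - t (f w.1 w.2), hf w.1 w.2⟩) : Fin k × Bad)) := by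
    intro w w' hww
    have h1 : f w.1 w.2 = f w'.1 w'.2 := congrArg Prod.fst hww
    have h2 : (w : W) - t (f w.1 w.2) = (w' : W) - t (f w'.1 w'.2) :=
      congrArg (fun p : Fin k × Bad => ((p.2 : Bad) : W)) hww
    rw [h1] at h2
    exact Subtype.ext (sub_left_injective h2)
  have h3 := Nat.card_le_card_of_injective _ hinj
  rw [Nat.card_prod, Nat.card_fin] at h3
  omega

/-- a family of `n + 1` elements of a big subgroup whose pairwise differences avoid a small set -/
theorem exists_family {W : Type*} [AddCommGroup W] [Finite W] (A : AddSubgroup W) (Bad : Set W) :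
    ∀ n : ℕ, n * Nat.card Bad < Nat.card A →
      ∃ w : Fin (n + 1) → W, (∀ i, w i ∈ A) ∧ ∀ i j, i < j → w j - w i ∉ Bad := by
  intro n
  induction n with
  | zero =>
    intro _
    refine ⟨fun _ => 0, fun _ => A.zero_mem, ?_⟩
    intro i j hij
    exfalso
    have h1 : i = j := Fin.ext (by have := i.2; have := j.2; omega)
    rw [h1] at hij
    exact lt_irrefl _ hij
  | succ n ih =>
    intro h
    have h' : n * Nat.card Bad < Nat.card A :=
      lt_of_le_of_lt (Nat.mul_le_mul_right _ (Nat.le_succ n)) h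
    obtain ⟨w, hwA, hw⟩ := ih h'
    obtain ⟨w', hw'A, hw'⟩ := exists_avoid A Bad (n + 1) w h
    refine ⟨Fin.snoc (α := fun _ => W) w w', ?_, ?_⟩
    · intro i
      refine Fin.lastCases ?_ (fun i' => ?_) i
      · rw [Fin.snoc_last]; exact hw'A
      · rw [Fin.snoc_castSucc]; exact hwA i'
    · intro i j
      refine Fin.lastCases ?_ (fun j' => ?_) j
      · refine Fin.lastCases ?_ (fun i' => ?_) i
        · intro hij; exact absurd hij (lt_irrefl _)
        · intro _
          rw [Fin.snoc_last, Fin.snoc_castSucc]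
          exact hw' i'
      · refine Fin.lastCases ?_ (fun i' => ?_) i
        · intro hij
          exact absurd hij (not_lt.mpr (Fin.le_last _))
        · intro hij
          rw [Fin.snoc_castSucc, Fin.snoc_castSucc]
          exact hw i' j' (Fin.castSucc_lt_castSucc_iff.mp hij)

variable {F V G : Type*} [Field F] [AddCommGroup V] [Module F V] [Group G] [DistribMulAction G V]
  (S : Setting F V G)

/-- `card_perp_inf` with the perp as a submodule -/
theorem card_le_two_mul_inf_ker [Finite V] (U : Submodule F V) (a : V) :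
    Nat.card U ≤ 2 * Nat.card ↥(U ⊓ LinearMap.ker (S.B a)) := by
  have h := S.card_perp_inf U a
  have e : Nat.card {u : V // u ∈ U ∧ S.B a u = 0} = Nat.card ↥(U ⊓ LinearMap.ker (S.B a)) :=
    Nat.card_congr (Equiv.subtypeEquivRight (fun u => by
      rw [Submodule.mem_inf, LinearMap.mem_ker]))
  rw [e] at h
  exact h

/-- a vector outside `{0, x, u0, x + u0}` has a perpendicular of `x, u0` not perpendicular to it -/
theorem exists_perp_pair_ne [Finite V] {x u0 v : V} (hv0 : v ≠ 0) (hvx : v ≠ x) (hvu : v ≠ u0)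
    (hvxu : v ≠ x + u0) : ∃ y0, S.B y0 x = 0 ∧ S.B y0 u0 = 0 ∧ S.B y0 v = 1 := by
  by_contra hcon
  push Not at hcon
  have hv' : v ∈ S.B.orthogonal (S.B.orthogonal (Submodule.span F {x, u0})) := by
    rw [S.mem_orthogonal]
    intro u hu
    rw [S.mem_orthogonal] at hu
    have h1 : S.B u x = 0 := by
      rw [S.B_symm]; exact hu x (Submodule.subset_span (by simp))
    have h2 : S.B u u0 = 0 := by
      rw [S.B_symm]; exact hu u0 (Submodule.subset_span (by simp))
    exact S.eq_zero_of_ne_one (hcon u h1 h2)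
  rw [S.orthogonal_orthogonal_eq] at hv'
  obtain ⟨a, b, hab⟩ := Submodule.mem_span_pair.mp hv'
  rcases S.h01 a with rfl | rfl <;> rcases S.h01 b with rfl | rfl
  · apply hv0; rw [← hab]; simp
  · apply hvu; rw [← hab]; simp
  · apply hvx; rw [← hab]; simp
  · apply hvxu; rw [← hab]; simp

/-- a subspace with at least 8 elements has a vector outside `{0, x, u0, x + u0}` -/
theorem exists_mem_not_four [Finite V] (U : Submodule F V) (hc1 : 8 ≤ Nat.card U) (x u0 : V) :
    ∃ v ∈ U, v ≠ 0 ∧ v ≠ x ∧ v ≠ u0 ∧ v ≠ x + u0 := by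
  classical
  by_contra hcon
  push Not at hcon
  let T : Finset V := {0, x, u0, x + u0}
  have hsub : (U : Set V) ⊆ (T : Set V) := by
    intro v hv
    have hv' : v ∈ U := hv
    by_cases h0 : v = 0
    · simp [T, h0]
    by_cases h1 : v = x
    · simp [T, h1]
    by_cases h2 : v = u0
    · simp [T, h2]
    have := hcon v hv' h0 h1 h2
    simp [T, this]
  have h1 : (U : Set V).ncard ≤ (T : Set V).ncard := Set.ncard_le_ncard hsub (Finset.finite_toSet T)
  rw [Set.ncard_coe_finset] at h1
  have h2 : T.card ≤ 4 := Finset.card_le_four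
  have h3 : Nat.card U = (U : Set V).ncard := (_root_.Nat.card_coe_set_eq (U : Set V))
  omega

/-- core of C2a / C2b -/
theorem exists_moves_core [Finite V] {m : ℕ} (hV : Nat.card V = 2 ^ (2 * m))
    (hGA : ∀ (v : Fin 3 → V) (y0 : V), ∃ y, S.Q y = 0 ∧ ∀ i, S.B y (v i) = S.B y0 (v i))
    (n : ℕ) (hn : 8 * (n * 2 ^ m) < 2 ^ (2 * m)) {x : V}
    (hx : S.Q x = 0) (U : Submodule F V) (hU : ∀ u ∈ U, S.B x u = 0)
    (hc1 : 8 ≤ Nat.card U) (hc2 : Nat.card U ≤ 2 ^ m) {u0 : V} :
    ∃ g : Fin (n + 1) → G, (∀ i, g i • x = x) ∧ (∀ i, g i • u0 = u0) ∧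
      Function.Injective (fun i => g i • (U : Set V)) := by
  classical
  obtain ⟨v, hvU, hv0, hvx, hvu, hvxu⟩ := exists_mem_not_four U hc1 x u0
  obtain ⟨y0, hy0x, hy0u, hy0v⟩ := exists_perp_pair_ne S hv0 hvx hvu hvxu
  obtain ⟨y, hy, hyi⟩ := hGA ![x, u0, v] y0
  have hyx : S.B y x = 0 := by
    have := hyi 0
    simpa [hy0x] using this
  have hyu : S.B y u0 = 0 := by
    have := hyi 1
    simpa [hy0u] using this
  have hyv : S.B y v = 1 := by
    have := hyi 2
    simpa [hy0v] using this
  have hvy : S.B v y = 1 := by rw [S.B_symm]; exact hyv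
  -- the subspace `A = <x, y, u0>^⊥`
  set A : Submodule F V := (((⊤ : Submodule F V) ⊓ LinearMap.ker (S.B x)) ⊓ LinearMap.ker (S.B y)) ⊓
    LinearMap.ker (S.B u0) with hA
  have hmemA : ∀ w, w ∈ A ↔ S.B x w = 0 ∧ S.B y w = 0 ∧ S.B u0 w = 0 := by
    intro w
    rw [hA]
    simp only [Submodule.mem_inf, LinearMap.mem_ker, Submodule.mem_top, true_and, and_assoc]
  have hcardA : 2 ^ (2 * m) ≤ 8 * Nat.card A := by
    have h1 := card_le_two_mul_inf_ker S (⊤ : Submodule F V) x
    have h2 := card_le_two_mul_inf_ker S ((⊤ : Submodule F V) ⊓ LinearMap.ker (S.B x)) y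
    have h3 : Nat.card ↥(((⊤ : Submodule F V) ⊓ LinearMap.ker (S.B x)) ⊓ LinearMap.ker (S.B y)) ≤
        2 * Nat.card A := card_le_two_mul_inf_ker S
      (((⊤ : Submodule F V) ⊓ LinearMap.ker (S.B x)) ⊓ LinearMap.ker (S.B y)) u0
    have h0 : Nat.card (⊤ : Submodule F V) = Nat.card V :=
      Nat.card_congr (Submodule.topEquiv (R := F) (M := V)).toEquiv
    rw [← hV, ← h0]
    omega
  -- the bad parameters
  set Bad : Set V := {w | w ∈ A ∧ S.sg y w • v ∈ U} with hBad
  have hcardBad : Nat.card Bad ≤ Nat.card U := by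
    have hmem : ∀ w : Bad, (w : V) + (S.B v w + S.Q (w : V)) • (y + v) ∈ U := by
      rintro ⟨w, hwA, hw⟩
      have hyw : S.B y w = 0 := ((hmemA w).mp hwA).2.1
      have e : w + (S.B v w + S.Q w) • y = S.sg y w • v + v := by
        rw [S.sg_smul' hy hyw, hvy, mul_one, one_smul, add_smul]
        have : v + S.B v w • y + w + S.Q w • y + v = (w + (S.B v w • y + S.Q w • y)) + (v + v) := by
          abel
        rw [this, S.vadd_self, add_zero]
      show w + (S.B v w + S.Q w) • (y + v) ∈ U
      rw [smul_add, ← add_assoc, e]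
      exact U.add_mem (U.add_mem hw hvU) (U.smul_mem _ hvU)
    have hinj : Function.Injective
        (fun w : Bad => (⟨(w : V) + (S.B v w + S.Q (w : V)) • (y + v), hmem w⟩ : U)) := by
      rintro ⟨w, hwA, hw⟩ ⟨w', hwA', hw'⟩ hww
      have h1 : w + (S.B v w + S.Q w) • (y + v) = w' + (S.B v w' + S.Q w') • (y + v) :=
        congrArg Subtype.val hww
      have hyw : S.B y w = 0 := ((hmemA w).mp hwA).2.1
      have hyw' : S.B y w' = 0 := ((hmemA w').mp hwA').2.1
      have h2 := congrArg (S.B y) h1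
      rw [S.Badd_right, S.Badd_right, S.Bsmul_right, S.Bsmul_right, S.Badd_right, S.alt, hyv, hyw,
        hyw', zero_add, zero_add, zero_add, mul_one, mul_one] at h2
      rw [h2] at h1
      exact Subtype.ext (add_right_cancel h1)
    exact Nat.card_le_card_of_injective _ hinj
  have hlt : n * Nat.card Bad < Nat.card A := by
    have h1 : n * Nat.card Bad ≤ n * 2 ^ m := Nat.mul_le_mul_left _ (hcardBad.trans hc2)
    have h2 : Nat.card A.toAddSubgroup = Nat.card A := rfl
    omega
  obtain ⟨w, hwA, hw⟩ := exists_family A.toAddSubgroup Bad n hlt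
  have hwA' : ∀ i, S.B x (w i) = 0 ∧ S.B y (w i) = 0 ∧ S.B u0 (w i) = 0 :=
    fun i => (hmemA (w i)).mp (hwA i)
  refine ⟨fun i => S.sg y (w i), ?_, ?_, ?_⟩
  · intro i
    exact S.sg_smul_of_perp_perp hy (hwA' i).2.1 hyx (by rw [S.B_symm]; exact (hwA' i).1)
  · intro i
    exact S.sg_smul_of_perp_perp hy (hwA' i).2.1 hyu (by rw [S.B_symm]; exact (hwA' i).2.2)
  · -- injectivity
    have key : ∀ i j, i < j → S.sg y (w i) • (U : Set V) ≠ S.sg y (w j) • (U : Set V) := by
      intro i j hij heq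
      apply hw i j hij
      have hyi' := (hwA' i).2.1
      have hyj' := (hwA' j).2.1
      have hset : (S.sg y (w i) * S.sg y (w j)) • (U : Set V) = (U : Set V) := by
        rw [mul_smul, ← heq, ← mul_smul, S.sg_mul_self hy hyi', one_smul]
      have hv1 : (S.sg y (w i) * S.sg y (w j)) • v ∈ (S.sg y (w i) * S.sg y (w j)) • (U : Set V) :=
        Set.smul_mem_smul_set hvU
      rw [hset, S.sg_mul hy hyi' hyj'] at hv1
      refine ⟨?_, ?_⟩
      · exact A.sub_mem (hwA j) (hwA i)
      · rw [S.vsub, add_comm]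
        exact hv1
    intro i j hij
    by_contra hne
    rcases lt_or_gt_of_ne hne with h | h
    · exact key i j h hij
    · exact key j i h hij.symm

end Cfsg.Agent.Lib.Helper16.Om2Leaf
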