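import Mathlib
import Cfsg.Agent.Lib.Helper5.TWU.Defs
import Cfsg.Agent.Lib.Helper5.UForm
import Cfsg.Agent.Lib.Helper5.SUGen
import Cfsg.Agent.Lib.Helper1.TWUIUT8
import Cfsg.Agent.Lib.Helper8.TW.Defs
import Cfsg.Agent.Lib.Helper14.TWIIDefs
import Cfsg.Agent.Lib.Helper14.TWUIIDefs
import Cfsg.Agent.Lib.Helper16.TWUIIEta

/-!
S5672 Stage II leaf (helper14's market, `notes/S5672_II_leaves.lean`): T12 `exists_torus`.
-/

set_option autoImplicit false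
set_option linter.unusedSectionVars false
set_option linter.unusedVariables false

namespace Cfsg.Agent.Lib.Helper16.TWUIILeaf
open Matrix Cfsg.Geo Cfsg.Agent.Lib.Helper18.AschA89 Cfsg.Agent.Lib.Helper8.TW Cfsg.Agent.Lib.Helper5.TWU
  Cfsg.Agent.Lib.Helper14.TWII Cfsg.Agent.Lib.Helper14.TWUII
open Cfsg.Agent.Lib.Helper20.UT (hv)

variable {F : Type*} [Field F] [Fintype F] {t k q : ℕ}

/-- an anisotropic vector orthogonal to a hyperbolic pair (`k ≥ 3`) -/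
theorem exists_aniso_perp_hyp (hF : Fintype.card F = q ^ 2) (hk : 3 ≤ k) (y y' : Fin k → F)
    (hy : hv q y y = 0) (hy' : hv q y' y' = 0) (h1 : hv q y y' = 1) :
    ∃ w : Fin k → F, hv q w y = 0 ∧ hv q w y' = 0 ∧ hv q w w ≠ 0 := by
  have hf := Cfsg.Agent.Lib.Helper20.UT.hv_unitary (n := k) hF
  have hND := Cfsg.Agent.Lib.Helper5.UForm.ND_hyp hf (Cfsg.Agent.Lib.Helper5.UForm.ND_top hf)
    (Submodule.mem_top (x := y)) (Submodule.mem_top (x := y')) hy hy' h1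
  have hfr0 : 1 ≤ Module.finrank F ↥((⊤ : Submodule F (Fin k → F)) ⊓
      Cfsg.Agent.Lib.Helper5.UForm.pp hf y ⊓ Cfsg.Agent.Lib.Helper5.UForm.pp hf y') := by
    have h2 := Cfsg.Agent.Lib.Helper5.UForm.finrank_inf_pp hf (⊤ : Submodule F (Fin k → F)) y
    have h3 := Cfsg.Agent.Lib.Helper5.UForm.finrank_inf_pp hf
      ((⊤ : Submodule F (Fin k → F)) ⊓ Cfsg.Agent.Lib.Helper5.UForm.pp hf y) y'
    have h4 : Module.finrank F (⊤ : Submodule F (Fin k → F)) = k := by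
      rw [finrank_top, Module.finrank_fin_fun]
    omega
  obtain ⟨U, hU⟩ : ∃ U : Submodule F (Fin k → F), U = ⊤ ⊓ Cfsg.Agent.Lib.Helper5.UForm.pp hf y ⊓
      Cfsg.Agent.Lib.Helper5.UForm.pp hf y' := ⟨_, rfl⟩
  rw [← hU] at hND hfr0
  have hmemU : ∀ w : Fin k → F, w ∈ U ↔ hv q w y = 0 ∧ hv q w y' = 0 := by
    intro w
    rw [hU, Submodule.mem_inf, Submodule.mem_inf, Cfsg.Agent.Lib.Helper5.UForm.mem_pp,
      Cfsg.Agent.Lib.Helper5.UForm.mem_pp]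
    simp
  obtain ⟨u, huU, hu0⟩ := Cfsg.Agent.Lib.Helper5.UForm.exists_mem_ne_zero hfr0
  obtain ⟨x, hxU, hxu⟩ := hND u huU hu0
  by_contra hcon
  push Not at hcon
  have hall : ∀ w ∈ U, hv q w w = 0 := fun w hw => hcon w ((hmemU w).1 hw).1 ((hmemU w).1 hw).2
  have hexp : ∀ l : F,
      Cfsg.Agent.Lib.Helper5.HermBridge.frobQ hF l * hv q x u + l * hv q u x = 0 := by
    intro l
    have h5 := Cfsg.Agent.Lib.Helper5.UForm.u_expand hf x u l
    rw [hall _ (U.add_mem hxU (U.smul_mem l huU)), hall x hxU, hall u huU] at h5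
    linear_combination -h5
  obtain ⟨θ, hθ⟩ := Cfsg.Agent.Lib.Helper5.UForm.exists_moved hf.ne_refl
  have e1 := hexp 1
  have e2 := hexp θ
  rw [map_one, one_mul, one_mul] at e1
  have e3 : (Cfsg.Agent.Lib.Helper5.HermBridge.frobQ hF θ - θ) * hv q x u = 0 := by
    linear_combination e2 - θ * e1
  rcases mul_eq_zero.mp e3 with h | h
  · exact hθ (sub_eq_zero.mp h)
  · exact hxu h

/-- the torus matrix `1 + s y y'† + r y' y† + κ w₀ w₀†` -/
def torM (q : ℕ) (y y' w₀ : Fin k → F) (s r κ : F) : Matrix (Fin k) (Fin k) F :=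
  1 + s • vecMulVec y (dag q y') + r • vecMulVec y' (dag q y) + κ • vecMulVec w₀ (dag q w₀)

theorem torM_mulVec (y y' w₀ : Fin k → F) (s r κ : F) (a : Fin k → F) :
    torM q y y' w₀ s r κ *ᵥ a =
      a + (s * hv q a y') • y + (r * hv q a y) • y' + (κ * hv q a w₀) • w₀ := by
  unfold torM
  rw [Matrix.add_mulVec, Matrix.add_mulVec, Matrix.add_mulVec, Matrix.one_mulVec, Matrix.smul_mulVec,
    Matrix.smul_mulVec, Matrix.smul_mulVec,
    Matrix.vecMulVec_mulVec, Matrix.vecMulVec_mulVec, Matrix.vecMulVec_mulVec,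
    ← Cfsg.Agent.Lib.Helper20.UT.hv_eq_dot, ← Cfsg.Agent.Lib.Helper20.UT.hv_eq_dot,
    ← Cfsg.Agent.Lib.Helper20.UT.hv_eq_dot]
  ext i
  simp only [Pi.add_apply, Pi.smul_apply, MulOpposite.smul_eq_mul_unop,
    MulOpposite.unop_op, smul_eq_mul]
  ring

theorem torM_isom (hF : Fintype.card F = q ^ 2) (y y' w₀ : Fin k → F) (s r κ : F)
    (hy : hv q y y = 0) (hy' : hv q y' y' = 0) (h1 : hv q y y' = 1)
    (hwy : hv q w₀ y = 0) (hwy' : hv q w₀ y' = 0)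
    (H1 : r ^ q + s + s * r ^ q = 0) (H2 : s ^ q + r + r * s ^ q = 0)
    (H3 : κ ^ q + κ + κ * κ ^ q * hv q w₀ w₀ = 0) (a b : Fin k → F) :
    hv q (torM q y y' w₀ s r κ *ᵥ a) (torM q y y' w₀ s r κ *ᵥ b) = hv q a b := by
  have h1' : hv q y' y = 1 := by
    rw [← Cfsg.Agent.Lib.Helper20.UT.hv_conj hF y y', h1, one_pow]
  have hyw : hv q y w₀ = 0 := Cfsg.Agent.Lib.Helper20.UT.hv_symm_zero hF hwy
  have hy'w : hv q y' w₀ = 0 := Cfsg.Agent.Lib.Helper20.UT.hv_symm_zero hF hwy'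
  have e1 : hv q y b = (hv q b y) ^ q := (Cfsg.Agent.Lib.Helper20.UT.hv_conj hF b y).symm
  have e2 : hv q y' b = (hv q b y') ^ q := (Cfsg.Agent.Lib.Helper20.UT.hv_conj hF b y').symm
  have e3 : hv q w₀ b = (hv q b w₀) ^ q := (Cfsg.Agent.Lib.Helper20.UT.hv_conj hF b w₀).symm
  rw [torM_mulVec, torM_mulVec]
  simp only [Cfsg.Agent.Lib.Helper20.UT.hv_add_left,
    Cfsg.Agent.Lib.Helper20.UT.hv_smul_left, Cfsg.Agent.Lib.Helper20.UT.hv_add_right hF,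
    Cfsg.Agent.Lib.Helper20.UT.hv_smul_right,
    hy, hy', h1, h1', hwy, hwy', hyw, hy'w, e1, e2, e3, mul_pow]
  linear_combination (hv q a y' * (hv q b y) ^ q) * H1 + (hv q a y * (hv q b y') ^ q) * H2 +
    (hv q a w₀ * (hv q b w₀) ^ q) * H3

theorem torM_det (hF : Fintype.card F = q ^ 2) (y y' w₀ : Fin k → F) (s r κ : F)
    (hy' : hv q y' y' = 0) (h1 : hv q y y' = 1)
    (hwy : hv q w₀ y = 0) (hwy' : hv q w₀ y' = 0) :
    (torM q y y' w₀ s r κ).det = (1 + s) * (1 + r) * (1 + κ * hv q w₀ w₀) := by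
  have h1' : hv q y' y = 1 := by
    rw [← Cfsg.Agent.Lib.Helper20.UT.hv_conj hF y y', h1, one_pow]
  have z1 : vecMulVec (s • y) (dag q y') * vecMulVec (r • y') (dag q y) = 0 := by
    rw [vecMulVec_mul_vecMulVec, dotProduct_smul, ← Cfsg.Agent.Lib.Helper20.UT.hv_eq_dot, hy',
      smul_zero, zero_smul, vecMulVec_zero]
  have z2 : vecMulVec (s • y) (dag q y') * vecMulVec (κ • w₀) (dag q w₀) = 0 := by
    rw [vecMulVec_mul_vecMulVec, dotProduct_smul, ← Cfsg.Agent.Lib.Helper20.UT.hv_eq_dot, hwy',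
      smul_zero, zero_smul, vecMulVec_zero]
  have z3 : vecMulVec (r • y') (dag q y) * vecMulVec (κ • w₀) (dag q w₀) = 0 := by
    rw [vecMulVec_mul_vecMulVec, dotProduct_smul, ← Cfsg.Agent.Lib.Helper20.UT.hv_eq_dot, hwy,
      smul_zero, zero_smul, vecMulVec_zero]
  have hfac : torM q y y' w₀ s r κ =
      (1 + vecMulVec (s • y) (dag q y')) * (1 + vecMulVec (r • y') (dag q y)) *
        (1 + vecMulVec (κ • w₀) (dag q w₀)) := by
    simp only [Matrix.add_mul, Matrix.mul_add, Matrix.one_mul, Matrix.mul_one, z1, z2, z3,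
      add_zero]
    unfold torM
    rw [smul_vecMulVec, smul_vecMulVec, smul_vecMulVec]
  rw [hfac, Matrix.det_mul, Matrix.det_mul, det_one_add_vecMulVec16, det_one_add_vecMulVec16,
    det_one_add_vecMulVec16, dotProduct_smul, dotProduct_smul, dotProduct_smul,
    ← Cfsg.Agent.Lib.Helper20.UT.hv_eq_dot, ← Cfsg.Agent.Lib.Helper20.UT.hv_eq_dot,
    ← Cfsg.Agent.Lib.Helper20.UT.hv_eq_dot, h1, h1']
  simp only [smul_eq_mul, mul_one]

/-- **T12** a torus element of `SU(A)` scaling the isotropic `y` by `l` with `N(l) = l^(q+1) ≠ 1` -/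
theorem exists_torus (hF : Fintype.card F = q ^ 2) (hk : 3 ≤ k) (hq : 3 ≤ q) (y : Fin k → F) (hy0 : y ≠ 0)
    (hy : hv q y y = 0) :
    ∃ d : GL (Fin k) F, d ∈ GUA k q F ∧ (d : Matrix (Fin k) (Fin k) F).det = 1 ∧
      ∃ l : F, (d : Matrix (Fin k) (Fin k) F) *ᵥ y = l • y ∧ l ^ (q + 1) ≠ 1 := by
  obtain ⟨y', hy', h1⟩ := Cfsg.Agent.Lib.Helper1.TWULeaf.exists_hyp_partner hF y hy0 hy
  obtain ⟨w₀, hwy, hwy', he⟩ := exists_aniso_perp_hyp hF hk y y' hy hy' h1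
  obtain ⟨l, hl0, hl1⟩ := Cfsg.Agent.Lib.Helper5.SUGen.exists_norm_ne_one hF hq
  rw [Cfsg.Agent.Lib.Helper5.HermBridge.frobQ_apply] at hl1
  have hlq0 : l ^ q ≠ 0 := pow_ne_zero _ hl0
  have hqq : (l ^ q) ^ q = l := Cfsg.Agent.Lib.Helper20.UT.pow_q_pow_q' hF l
  have heq : (hv q w₀ w₀) ^ q = hv q w₀ w₀ := Cfsg.Agent.Lib.Helper20.UT.hv_self_pow hF w₀
  have hone : ((-1 : F)) ^ q = -1 := by
    rw [Cfsg.Agent.Lib.Helper20.UT.neg_pow_q hF, one_pow]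
  -- the three parameters
  set s : F := l - 1 with hs
  set r : F := (l ^ q)⁻¹ - 1 with hr
  set ν : F := l ^ q * l⁻¹ with hν
  set κ : F := (ν - 1) / hv q w₀ w₀ with hκ
  have hsq : s ^ q = l ^ q - 1 := by
    rw [hs, sub_eq_add_neg, Cfsg.Agent.Lib.Helper20.UT.add_pow_q hF, hone, ← sub_eq_add_neg]
  have hrq : r ^ q = l⁻¹ - 1 := by
    rw [hr, sub_eq_add_neg, Cfsg.Agent.Lib.Helper20.UT.add_pow_q hF, hone, inv_pow, hqq,
      ← sub_eq_add_neg]
  have hνq : ν ^ q = l * (l ^ q)⁻¹ := by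
    rw [hν, mul_pow, hqq, inv_pow]
  have hκq : κ ^ q = (l * (l ^ q)⁻¹ - 1) / hv q w₀ w₀ := by
    rw [hκ, div_pow, heq, sub_eq_add_neg, Cfsg.Agent.Lib.Helper20.UT.add_pow_q hF, hone, hνq,
      ← sub_eq_add_neg]
  have H1 : r ^ q + s + s * r ^ q = 0 := by
    rw [hrq, hs]
    field_simp
    ring
  have H2 : s ^ q + r + r * s ^ q = 0 := by
    rw [hsq, hr]
    field_simp
    ring
  have H3 : κ ^ q + κ + κ * κ ^ q * hv q w₀ w₀ = 0 := by
    rw [hκq, hκ, hν]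
    field_simp
    ring
  have hdet : (torM q y y' w₀ s r κ).det = 1 := by
    rw [torM_det hF y y' w₀ s r κ hy' h1 hwy hwy', hs, hr, hκ, hν]
    field_simp
    ring
  refine ⟨Matrix.GeneralLinearGroup.mkOfDetNeZero (torM q y y' w₀ s r κ)
    (by rw [hdet]; exact one_ne_zero), ?_, hdet, l, ?_, ?_⟩
  · intro a b
    exact torM_isom hF y y' w₀ s r κ hy hy' h1 hwy hwy' H1 H2 H3 a b
  · change torM q y y' w₀ s r κ *ᵥ y = l • y
    rw [torM_mulVec, hy, h1, Cfsg.Agent.Lib.Helper20.UT.hv_symm_zero hF hwy, hs]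
    ext i
    simp only [Pi.add_apply, Pi.smul_apply, smul_eq_mul]
    ring
  · rw [pow_succ]
    intro h
    apply hl1
    rw [mul_comm]
    exact h

end Cfsg.Agent.Lib.Helper16.TWUIILeaf
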