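import Mathlib
import Cfsg.Agent.Lib.Helper5.TWS.Defs
import Cfsg.Agent.Lib.Helper22.TWExtBasic
import Cfsg.Agent.Lib.Helper1.TWST2

/-!
S5668-I (owner helper5) toolkit leaf ST10 `sim_of_ext_slot` (helper16), signature of `notes/S5668_I_leaves.lean` PLUS `(hk2 : 2 ≤ k)`
(the statement is false for `k = 0`, `t = 0`), and ST1' `sfT_tens16` (the form splits at position `i`), `JT_ins16`.
-/

set_option autoImplicit false
set_option linter.unusedSectionVars false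
set_option linter.unusedVariables false

namespace Cfsg.Agent.Lib.Helper16.TWSLeaf
open Matrix Cfsg.Geo Cfsg.Agent.Lib.Helper18.AschA89 Cfsg.Agent.Lib.Helper8.TW Cfsg.Agent.Lib.Helper5.TWS
open Cfsg.Agent.Lib.Helper25.SpT (sf Jm sfv)

variable {F : Type*} [Field F] [Fintype F] {t k : ℕ}

/-- the Gram matrix of the tensor power form splits at position `i` -/
lemma JT_ins16 (i : Fin (t + 1)) (a a' : Fin k) (w w' : Idx t k) :
    JT (t + 1) k F (ins i a w) (ins i a' w') = (Jm k : Matrix (Fin k) (Fin k) F) a a' * JT t k F w w' := by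
  rw [JT_apply, JT_apply, Fin.prod_univ_succAbove _ i]
  simp only [ins_same, ins_succAbove]

/-- ST1' (M) the form splits at position `i` -/
theorem sfT_tens16 (i : Fin (t + 1)) (b b' : Idx t k → F) (a a' : Fin k → F) :
    sfT (tens i b a) (tens i b' a') = sfT b b' * sf a a' := by
  rw [sfT_eq_sum, sfT_eq_sum, Cfsg.Agent.Lib.Helper25.SpT.sf_eq_sum, sum_ins i, Finset.sum_comm,
    Finset.sum_mul_sum]
  apply Finset.sum_congr rfl
  intro w _
  apply Finset.sum_congr rfl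
  intro c _
  rw [sum_ins i, Finset.sum_comm, Finset.sum_mul_sum]
  apply Finset.sum_congr rfl
  intro w' _
  apply Finset.sum_congr rfl
  intro c' _
  rw [JT_ins16]
  unfold tens
  simp only [ins_same, ins_succAbove]
  ring

/-- ST10 (M) pure similitude ⟹ factors similitudes (one position) -/
theorem sim_of_ext_slot (hk : Even k) (hk2 : 2 ≤ k) (i : Fin (t + 1)) (γ : Matrix (Idx t k) (Idx t k) F)
    (α : Matrix (Fin k) (Fin k) F) (m : F) (hm : m ≠ 0)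
    (h : ∀ u v : Idx (t + 1) k → F, sfT ((ext i γ * slot k (t + 1) i α) *ᵥ u) ((ext i γ * slot k (t + 1) i α) *ᵥ v) = m * sfT u v) :
    ∃ ν : F, ν ≠ 0 ∧ (∀ b b' : Idx t k → F, sfT (γ *ᵥ b) (γ *ᵥ b') = ν * sfT b b') ∧
      (∀ a a' : Fin k → F, sf (α *ᵥ a) (α *ᵥ a') = (m * ν⁻¹) * sf a a') := by
  classical
  -- the basic equation on pure tensors
  have E : ∀ (b b' : Idx t k → F) (a a' : Fin k → F),
      sfT (γ *ᵥ b) (γ *ᵥ b') * sf (α *ᵥ a) (α *ᵥ a') = m * (sfT b b' * sf a a') := by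
    intro b b' a a'
    have h1 := h (tens i b a) (tens i b' a')
    rw [← Matrix.mulVec_mulVec, ← Matrix.mulVec_mulVec,
      Cfsg.Agent.Lib.Helper22.TWLeaf.slot_mulVec_tens, Cfsg.Agent.Lib.Helper22.TWLeaf.slot_mulVec_tens,
      Cfsg.Agent.Lib.Helper22.TWLeaf.ext_mulVec_tens, Cfsg.Agent.Lib.Helper22.TWLeaf.ext_mulVec_tens,
      sfT_tens16, sfT_tens16] at h1
    exact h1
  -- a hyperbolic pair in `A`
  have hk0 : 0 < k := by omega
  have ha₀ : (Pi.single (⟨0, hk0⟩ : Fin k) (1 : F) : Fin k → F) ≠ 0 := by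
    intro h0
    have := congrFun h0 ⟨0, hk0⟩
    rw [Pi.single_eq_same] at this
    exact one_ne_zero this
  obtain ⟨a₁, ha₁⟩ := Cfsg.Agent.Lib.Helper25.SpT.exists_sf_ne_zero hk ha₀
  set a₀ : Fin k → F := Pi.single (⟨0, hk0⟩ : Fin k) (1 : F) with ha₀def
  -- a pair in `B` with non-zero product
  have hb₀ : (Pi.single (fun _ => (⟨0, hk0⟩ : Fin k)) (1 : F) : Idx t k → F) ≠ 0 := by
    intro h0
    have := congrFun h0 (fun _ => (⟨0, hk0⟩ : Fin k))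
    rw [Pi.single_eq_same] at this
    exact one_ne_zero this
  set b₀ : Idx t k → F := Pi.single (fun _ => (⟨0, hk0⟩ : Fin k)) (1 : F) with hb₀def
  have hb₁ : ∃ b₁ : Idx t k → F, sfT b₀ b₁ ≠ 0 := by
    by_contra hcon
    push Not at hcon
    exact hb₀ (Cfsg.Agent.Lib.Helper1.TWST2.sfT_nondeg_left hk hcon)
  obtain ⟨b₁, hb₁⟩ := hb₁
  have E0 := E b₀ b₁ a₀ a₁
  have hprod : sfT (γ *ᵥ b₀) (γ *ᵥ b₁) * sf (α *ᵥ a₀) (α *ᵥ a₁) ≠ 0 := by
    rw [E0]
    exact mul_ne_zero hm (mul_ne_zero hb₁ ha₁)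
  have hν0 : sfT (γ *ᵥ b₀) (γ *ᵥ b₁) ≠ 0 := left_ne_zero_of_mul hprod
  have hμ0 : sf (α *ᵥ a₀) (α *ᵥ a₁) ≠ 0 := right_ne_zero_of_mul hprod
  -- `ν` normalised by the chosen pairs
  set ν : F := sfT (γ *ᵥ b₀) (γ *ᵥ b₁) * (sfT b₀ b₁)⁻¹ with hν
  have hνne : ν ≠ 0 := mul_ne_zero hν0 (inv_ne_zero hb₁)
  refine ⟨ν, hνne, ?_, ?_⟩
  · intro b b'
    have E1 := E b b' a₀ a₁
    -- `sfT (γ b) (γ b') * μ = m * sfT b b' * sf a₀ a₁` and `ν₀ * μ = m * sfT b₀ b₁ * sf a₀ a₁`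
    have h2 : sfT (γ *ᵥ b) (γ *ᵥ b') * (sfT (γ *ᵥ b₀) (γ *ᵥ b₁) * sf (α *ᵥ a₀) (α *ᵥ a₁)) =
        sfT (γ *ᵥ b₀) (γ *ᵥ b₁) * (m * (sfT b b' * sf a₀ a₁)) := by
      rw [← E1]; ring
    rw [E0] at h2
    have h3 : sfT (γ *ᵥ b) (γ *ᵥ b') * sfT b₀ b₁ = sfT (γ *ᵥ b₀) (γ *ᵥ b₁) * sfT b b' := by
      have hc : m * sf a₀ a₁ ≠ 0 := mul_ne_zero hm ha₁
      apply mul_right_cancel₀ hc
      linear_combination h2
    rw [hν]
    field_simp
    linear_combination h3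
  · intro a a'
    have E2 := E b₀ b₁ a a'
    rw [hν]
    field_simp
    linear_combination E2

end Cfsg.Agent.Lib.Helper16.TWSLeaf
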