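import Cfsg.Agent.Lib.Helper16.PReduced2

set_option autoImplicit false
open Cfsg
open scoped Pointwise commutatorElement

namespace Cfsg.Agent.Lib.Helper16

variable {G : Type*} [Group G] {p : ℕ}

/-- In a finite `p`-group every subgroup is subnormal. -/
theorem isSubnormal_of_isPGroup [Finite G] [Fact p.Prime] (hG : IsPGroup p G) :
    ∀ (n : ℕ) (B : Subgroup G), Nat.card G - Nat.card B = n → B.IsSubnormal := by
  have : Group.IsNilpotent G := hG.isNilpotent
  have hnc : NormalizerCondition G := Group.normalizerCondition_of_isNilpotent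
  intro n
  induction n using Nat.strong_induction_on with
  | _ n ih =>
  intro B hn
  by_cases hB : B = ⊤
  · rw [hB]; exact Subgroup.IsSubnormal.top
  · have hlt : B < Subgroup.normalizer (B : Set G) := hnc B (lt_top_iff_ne_top.mpr hB)
    have hcard : Nat.card B < Nat.card (Subgroup.normalizer (B : Set G)) := by
      by_contra hge
      rw [not_lt] at hge
      exact hlt.ne (Subgroup.eq_of_le_of_card_ge hlt.le hge)
    have hle : Nat.card (Subgroup.normalizer (B : Set G)) ≤ Nat.card G := Subgroup.card_le_card_group _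
    have h1 := ih (Nat.card G - Nat.card (Subgroup.normalizer (B : Set G))) (by omega) _ rfl
    exact Subgroup.IsSubnormal.step B _ hlt.le h1 Subgroup.normal_in_normalizer

theorem isSubnormal_sInf [Finite G] (F : Set (Subgroup G)) (hF : ∀ K ∈ F, K.IsSubnormal) :
    (sInf F).IsSubnormal := by
  have hfin : F.Finite := Set.toFinite F
  induction F, hfin using Set.Finite.induction_on with
  | empty => rw [sInf_empty]; exact Subgroup.IsSubnormal.top
  | insert _ _ ih =>
    rw [sInf_insert]
    exact (hF _ (Set.mem_insert _ _)).inf (ih fun K hK => hF K (Set.mem_insert_of_mem _ hK))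

theorem subnormalClosure_isSubnormal [Finite G] (A : Subgroup G) :
    (subnormalClosure A).IsSubnormal :=
  isSubnormal_sInf _ fun _ hK => hK.2

theorem le_subnormalClosure (A : Subgroup G) : A ≤ subnormalClosure A :=
  le_sInf fun _ hK => hK.1

theorem subnormalClosure_le {A B : Subgroup G} (hAB : A ≤ B) (hB : B.IsSubnormal) :
    subnormalClosure A ≤ B := sInf_le ⟨hAB, hB⟩


theorem pResidual_quotient_isPGroup [Finite G] [Fact p.Prime] :
    IsPGroup p (G ⧸ pResidual p G) := by
  intro q
  obtain ⟨g, rfl⟩ := QuotientGroup.mk_surjective q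
  obtain ⟨b, hb⟩ := exists_pow_mem_OpOf (p := p) (⊤ : Subgroup G) (Subgroup.mem_top g)
  rw [← pResidual_eq_OpOf_top] at hb
  refine ⟨b, ?_⟩
  rw [← QuotientGroup.mk_pow, QuotientGroup.eq_one_iff]
  exact hb

theorem subnormalClosure_facts [Finite G] [Fact p.Prime] (A : Subgroup G) (K : Subgroup G) (hK : K = Cfsg.subnormalClosure A) : (Subgroup.normalClosure ((A.subgroupOf K : Subgroup ↥K) : Set ↥K)).map K.subtype = K ∧ Subgroup.normalizer (A : Set G) ≤ Subgroup.normalizer (K : Set G) ∧ A ⊔ (Cfsg.pResidual p ↥K).map K.subtype = K ∧ (IsPGroup p ↥A → ⁅(Cfsg.pResidual p ↥K).map K.subtype, A⁆ = (Cfsg.pResidual p ↥K).map K.subtype) := by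
  have hKsn : K.IsSubnormal := by rw [hK]; exact subnormalClosure_isSubnormal A
  have hAK : A ≤ K := by rw [hK]; exact le_subnormalClosure A
  have hmin : ∀ B : Subgroup G, A ≤ B → B.IsSubnormal → K ≤ B := by
    intro B hAB hB; rw [hK]; exact subnormalClosure_le hAB hB
  -- subnormal in K ⟹ subnormal in G
  have htrans : ∀ B' : Subgroup K, B'.IsSubnormal → (B'.map K.subtype).IsSubnormal :=
    fun B' hB' => hB'.trans' hKsn
  have h1 : (Subgroup.normalClosure ((A.subgroupOf K : Subgroup ↥K) : Set ↥K)).map K.subtype = K := by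
    apply le_antisymm (Subgroup.map_subtype_le _)
    apply hmin
    · intro a ha
      refine ⟨⟨a, hAK ha⟩, Subgroup.subset_normalClosure ?_, rfl⟩
      show (⟨a, hAK ha⟩ : K) ∈ A.subgroupOf K
      rw [Subgroup.mem_subgroupOf]; exact ha
    · exact htrans _ Subgroup.normalClosure_normal.isSubnormal
  have h2 : Subgroup.normalizer (A : Set G) ≤ Subgroup.normalizer (K : Set G) := by
    intro n hn
    have hAn : A.map (MulAut.conj n).toMonoidHom = A := Subgroup.mem_normalizer_iff_map_conj_eq.mp hn
    have hsn : (K.map (MulAut.conj n).toMonoidHom).IsSubnormal :=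
      hKsn.map (MulAut.conj n).surjective
    have hle : K ≤ K.map (MulAut.conj n).toMonoidHom := by
      apply hmin _ _ hsn
      rw [← hAn]; exact Subgroup.map_mono hAK
    rw [Subgroup.mem_normalizer_iff_map_conj_eq]
    exact (Subgroup.eq_of_le_of_card_ge hle (card_map_conj K n).le).symm
  rw [pResidual_map_subtype]
  set X : Subgroup G := OpOf p K with hX
  have hXK : X ≤ K := OpOf_le K
  have hKX : K ≤ Subgroup.normalizer (X : Set G) := le_normalizer_OpOf K
  have h3 : A ⊔ X = K := by
    apply le_antisymm (sup_le hAK hXK)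
    apply hmin _ le_sup_left
    -- A ⊔ X is subnormal
    have hq : IsPGroup p (↥K ⧸ pResidual p ↥K) := pResidual_quotient_isPGroup
    have hsn1 : ((A.subgroupOf K).map (QuotientGroup.mk' (pResidual p ↥K))).IsSubnormal :=
      isSubnormal_of_isPGroup hq _ _ rfl
    have hsn2 := hsn1.comap (QuotientGroup.mk' (pResidual p ↥K))
    rw [Subgroup.comap_map_eq, QuotientGroup.ker_mk'] at hsn2
    have hsn3 := htrans _ hsn2
    rw [Subgroup.map_sup, Subgroup.map_subgroupOf_eq_of_le hAK, pResidual_map_subtype] at hsn3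
    exact hsn3
  refine ⟨h1, h2, h3, ?_⟩
  intro hAp
  have hAX : A ≤ Subgroup.normalizer (X : Set G) := hAK.trans hKX
  apply le_antisymm (Subgroup.le_normalizer_iff_commutator_le_left.mp hAX)
  set M : Subgroup G := ⁅X, A⁆ with hM
  have hXM : X ≤ Subgroup.normalizer (M : Set G) := Subgroup.normalizer_commutator_ge_left X A
  have hAM : A ≤ Subgroup.normalizer (M : Set G) := Subgroup.normalizer_commutator_ge_right X A
  have hMK : M ≤ K := (Subgroup.le_normalizer_iff_commutator_le_left.mp hAX).trans hXK
  have hXD : X ≤ Subgroup.normalizer ((M ⊔ A : Subgroup G) : Set G) := by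
    intro x hx
    apply mem_normalizer_of_map_conj_le
    rw [Subgroup.map_sup]
    apply sup_le
    · have e : M.map (MulAut.conj x).toMonoidHom = M :=
        Subgroup.mem_normalizer_iff_map_conj_eq.mp (hXM hx)
      rw [e]; exact le_sup_left
    · rintro _ ⟨y, hy, rfl⟩
      simp only [MulEquiv.coe_toMonoidHom, MulAut.conj_apply]
      have e : x * y * x⁻¹ = ⁅x, y⁆ * y := by rw [commutatorElement_def]; group
      rw [e]
      exact Subgroup.mul_mem _ (Subgroup.mem_sup_left (Subgroup.commutator_mem_commutator hx hy))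
        (Subgroup.mem_sup_right hy)
  have hAD : A ≤ Subgroup.normalizer ((M ⊔ A : Subgroup G) : Set G) :=
    sup_le_normalizer_sup hAM Subgroup.le_normalizer
  have hKD : K ≤ Subgroup.normalizer ((M ⊔ A : Subgroup G) : Set G) := by
    rw [← h3]; exact sup_le hAD hXD
  have hDK : M ⊔ A ≤ K := sup_le hMK hAK
  have hDsn : (M ⊔ A).IsSubnormal := by
    have hn : ((M ⊔ A).subgroupOf K).Normal :=
      (Subgroup.normal_subgroupOf_iff_le_normalizer hDK).mpr hKD
    have := htrans _ hn.isSubnormal
    rwa [Subgroup.map_subgroupOf_eq_of_le hDK] at this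
  have hKD' : K ≤ M ⊔ A := hmin _ le_sup_right hDsn
  conv_lhs => rw [hX]
  unfold OpOf
  rw [Subgroup.closure_le]
  intro g hg
  have hg' : g ∈ ((M ⊔ A : Subgroup G) : Set G) := hKD' hg.1
  rw [Subgroup.coe_mul_of_right_le_normalizer_left M A hAM] at hg'
  obtain ⟨b, hb, a, ha, rfl⟩ := hg'
  exact mul_mem_of_coprime hb (hAM ha) (exists_pow_eq_one_of_isPGroup hAp ha) hg.2

end Cfsg.Agent.Lib.Helper16
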