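import Cfsg.Prelude.Def_LocalStructure
import Cfsg.Agent.Lib.Helper9.FStar3
import Cfsg.Agent.Lib.Helper12.Residual
import Cfsg.Agent.Lib.Helper16.StabChain
import Cfsg.Agent.Lib.Helper16.SubnormalClosure

set_option autoImplicit false
open Cfsg

namespace Cfsg.Agent.Lib.Helper16

variable {H : Type*} [Group H] {p : ℕ}

/-- a nilpotent normal subgroup has order prime to `p` when `O_p = 1`. -/
theorem not_dvd_card_of_nilpotent_normal [Finite H] [Fact p.Prime] (hO : Cfsg.pCore p H = ⊥)
    (N : Subgroup H) [hN : N.Normal] (hnil : Group.IsNilpotent ↥N) : ¬ p ∣ Nat.card ↥N := by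
  intro hdvd
  obtain ⟨P⟩ : Nonempty (Sylow p ↥N) := inferInstance
  have hPn : (P : Subgroup ↥N).Normal := inferInstance
  have hPc : (P : Subgroup ↥N).Characteristic := P.characteristic_of_normal hPn
  have hnorm : ((P : Subgroup ↥N).map N.subtype).Normal := by
    constructor
    intro c hc x
    exact conj_mem_map_of_characteristic (P : Subgroup ↥N)
      (by rw [Subgroup.normalizer_eq_top_iff.mpr hN]; exact Subgroup.mem_top x) hc
  have hpg : IsPGroup p ↥((P : Subgroup ↥N).map N.subtype) := P.2.map _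
  have hle : (P : Subgroup ↥N).map N.subtype ≤ Cfsg.pCore p H := le_sSup ⟨hnorm, hpg⟩
  rw [hO, le_bot_iff, Subgroup.map_eq_bot_iff_of_injective _ N.subtype_injective] at hle
  exact P.ne_bot_of_dvd_card hdvd hle

theorem fitting_not_dvd [Finite H] [Fact p.Prime] (hO : Cfsg.pCore p H = ⊥) :
    ¬ p ∣ Nat.card ↥(Cfsg.fittingSubgroup H) :=
  not_dvd_card_of_nilpotent_normal hO _ (Cfsg.Agent.Lib.Helper1.fittingSubgroup_isNilpotent H)

theorem coprime_of_mem_of_not_dvd [Finite H] [Fact p.Prime] {N : Subgroup H}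
    (hN : ¬ p ∣ Nat.card ↥N) {x : H} (hx : x ∈ N) : (orderOf x).Coprime p := by
  have hp : p.Prime := Fact.out
  have h1 : orderOf x ∣ Nat.card ↥N := by
    have := orderOf_dvd_natCard (⟨x, hx⟩ : ↥N)
    rwa [Subgroup.orderOf_mk] at this
  exact ((Nat.Prime.coprime_iff_not_dvd hp).mpr (fun h => hN (h.trans h1))).symm

theorem fitting_le_pResidual [Finite H] [Fact p.Prime] (hO : Cfsg.pCore p H = ⊥) :
    Cfsg.fittingSubgroup H ≤ Cfsg.pResidual p H := by
  intro x hx
  exact Subgroup.subset_closure (coprime_of_mem_of_not_dvd (fitting_not_dvd hO) hx)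

/-- a `p`-subgroup inside a subgroup of order prime to `p` is trivial. -/
theorem eq_bot_of_isPGroup_of_le [Finite H] [Fact p.Prime] {N Y : Subgroup H}
    (hN : ¬ p ∣ Nat.card ↥N) (hY : IsPGroup p ↥Y) (hYN : Y ≤ N) : Y = ⊥ := by
  rw [eq_bot_iff]
  intro y hy
  rw [Subgroup.mem_bot]
  have h1 := coprime_of_mem_of_not_dvd hN (hYN hy)
  obtain ⟨k, hk⟩ := hY ⟨y, hy⟩
  have h2 : y ^ p ^ k = 1 := congrArg Subtype.val hk
  have h3 : orderOf y ∣ p ^ k := orderOf_dvd_of_pow_eq_one h2
  have h4 : orderOf y = 1 := Nat.Coprime.eq_one_of_dvd (Nat.Coprime.pow_right k h1) h3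
  exact orderOf_eq_one_iff.mp h4

/-- a perfect subgroup lies in every normal subgroup with solvable quotient. -/
theorem perfect_le_of_solvable_quotient {P N : Subgroup H} [hN : N.Normal] (hP : ⁅P, P⁆ = P)
    [hs : Group.IsSolvable (H ⧸ N)] : P ≤ N := by
  obtain ⟨n, hn⟩ := Cfsg.Agent.Lib.Helper9.exists_derivedSeries_le_ker (QuotientGroup.mk' N)
  rw [QuotientGroup.ker_mk'] at hn
  have : ∀ m : ℕ, P ≤ derivedSeries H m := by
    intro m
    induction m with
    | zero => rw [derivedSeries_zero]; exact le_top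
    | succ m ih =>
      rw [derivedSeries_succ]
      calc P = ⁅P, P⁆ := hP.symm
        _ ≤ _ := Subgroup.commutator_mono ih ih
  exact (this n).trans hn

theorem quasisimple_residual_eq_fstar [Finite H] [Fact p.Prime] (hO : Cfsg.pCore p H = ⊥)
    (hq : Cfsg.IsQuasisimple ↥(Cfsg.pResidual p H)) :
    Cfsg.pResidual p H = Cfsg.generalizedFittingSubgroup H := by
  have hKn : (Cfsg.pResidual p H).Normal := Cfsg.Agent.Lib.Helper12.pResidual_normal' p H
  have hKcomp : Cfsg.IsComponent (Cfsg.pResidual p H) := ⟨hKn.isSubnormal, hq⟩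
  apply le_antisymm
  · have h1 : Cfsg.pResidual p H ≤ Cfsg.layer H :=
      le_sSup (show Cfsg.pResidual p H ∈ {K : Subgroup H | Cfsg.IsComponent K} from hKcomp)
    exact h1.trans le_sup_left
  · apply sup_le
    · apply sSup_le
      intro K' hK'
      have hperf : ⁅K', K'⁆ = K' := Subgroup.isPerfect_iff.mp hK'.2.1
      have hQp : IsPGroup p (H ⧸ Cfsg.pResidual p H) := pResidual_quotient_isPGroup
      have : Group.IsNilpotent (H ⧸ Cfsg.pResidual p H) := hQp.isNilpotent
      exact perfect_le_of_solvable_quotient hperf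
    · exact fitting_le_pResidual hO

/-- Key lemma: a subgroup `X` with `⁅K, X⁆ ≠ K` lies in `Z(K)` (`K = O^p(H)` quasisimple, `O_p(H)=1`). -/
theorem le_center_of_commutator_ne [Finite H] [Fact p.Prime] (hO : Cfsg.pCore p H = ⊥)
    (hq : Cfsg.IsQuasisimple ↥(Cfsg.pResidual p H)) (X : Subgroup H)
    (hX : ⁅Cfsg.pResidual p H, X⁆ ≠ Cfsg.pResidual p H) :
    X ≤ Cfsg.pResidual p H ⊓ Subgroup.centralizer (Cfsg.pResidual p H : Set H) := by
  have hKF := quasisimple_residual_eq_fstar hO hq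
  set K : Subgroup H := Cfsg.pResidual p H with hK
  haveI hKn : K.Normal := Cfsg.Agent.Lib.Helper12.pResidual_normal' p H
  have hperf : ⁅K, K⁆ = K := Subgroup.isPerfect_iff.mp hq.1
  set D : Subgroup H := ⁅K, X⁆ with hD
  have hDK : D ≤ K := Subgroup.commutator_le_left K X
  have hKD : K ≤ Subgroup.normalizer (D : Set H) :=
    Cfsg.Agent.Lib.Helper9.le_normalizer_commutator_left K X
  haveI : (D.subgroupOf K).Normal := (Subgroup.normal_subgroupOf_iff_le_normalizer hDK).mpr hKD
  have hne : D.subgroupOf K ≠ ⊤ := by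
    intro h
    rw [Subgroup.subgroupOf_eq_top] at h
    exact hX (le_antisymm hDK h)
  have hcen := Cfsg.Agent.Lib.Helper9.IsQuasisimple_normal_le_center hq (D.subgroupOf K) hne
  have hDcK : ⁅D, K⁆ = ⊥ := by
    rw [Subgroup.commutator_eq_bot_iff_le_centralizer]
    intro d hd
    rw [Subgroup.mem_centralizer_iff]
    intro k hk
    have h1 : (⟨d, hDK hd⟩ : ↥K) ∈ Subgroup.center ↥K := hcen (Subgroup.mem_subgroupOf.mpr hd)
    rw [Subgroup.mem_center_iff] at h1
    exact congrArg Subtype.val (h1 ⟨k, hk⟩)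
  have hKX : ⁅K, X⁆ = ⊥ :=
    Cfsg.Agent.Lib.Helper9.commutator_eq_bot_of_perfect_of_commutator_commutator hperf hDcK
  have hXc : X ≤ Subgroup.centralizer (K : Set H) := by
    rw [Subgroup.commutator_comm] at hKX
    exact Subgroup.commutator_eq_bot_iff_le_centralizer.mp hKX
  have hcK : Subgroup.centralizer (K : Set H) ≤ K := by
    have := Cfsg.Agent.Lib.Helper9.centralizer_generalizedFittingSubgroup_le (G := H)
    rw [← hKF] at this
    exact this
  exact le_inf (hXc.trans hcK) hXc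

/-- the centre of `K = O^p(H)` has order prime to `p`. -/
theorem center_residual_not_dvd [Finite H] [Fact p.Prime] (hO : Cfsg.pCore p H = ⊥) :
    ¬ p ∣ Nat.card ↥(Cfsg.pResidual p H ⊓ Subgroup.centralizer (Cfsg.pResidual p H : Set H)) := by
  haveI hKn : (Cfsg.pResidual p H).Normal := Cfsg.Agent.Lib.Helper12.pResidual_normal' p H
  haveI : (Cfsg.pResidual p H ⊓ Subgroup.centralizer (Cfsg.pResidual p H : Set H)).Normal :=
    inferInstance
  apply not_dvd_card_of_nilpotent_normal hO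
  apply Cfsg.Agent.Lib.Helper9.isNilpotent_of_le_centralizer
  intro z hz
  exact Subgroup.centralizer_le inf_le_left (Subgroup.mem_inf.mp hz).2

theorem quasisimple_residual_main [Finite H] [Fact p.Prime] (hp : p ∣ Nat.card H)
    (hO : Cfsg.pCore p H = ⊥) (hq : Cfsg.IsQuasisimple ↥(Cfsg.pResidual p H)) :
    Cfsg.pResidual p H = Cfsg.generalizedFittingSubgroup H ∧
    (∀ Y : Subgroup H, IsPGroup p ↥Y → Y ≠ ⊥ → ⁅Cfsg.pResidual p H, Y⁆ = Cfsg.pResidual p H ∧
      Cfsg.pResidual p H ≤ ⨆ k : ↥(Cfsg.pResidual p H), Y.map (MulAut.conj (k : H)).toMonoidHom) ∧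
    (∀ C : Subgroup H, C.Normal → ¬ Cfsg.pResidual p H ≤ C → (Nat.card ↥C).Coprime p) ∧
    Cfsg.IsPIrreducible p H := by
  have hpp : p.Prime := Fact.out
  have hZ := center_residual_not_dvd (H := H) (p := p) hO
  have h3 : ∀ C : Subgroup H, C.Normal → ¬ Cfsg.pResidual p H ≤ C → (Nat.card ↥C).Coprime p := by
    intro C hC hKC
    have hne : ⁅Cfsg.pResidual p H, C⁆ ≠ Cfsg.pResidual p H := by
      intro h
      apply hKC
      rw [← h]
      haveI := hC
      exact Subgroup.commutator_le_right _ C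
    have hCZ := le_center_of_commutator_ne hO hq C hne
    have : ¬ p ∣ Nat.card ↥C := fun h => hZ (h.trans (Subgroup.card_dvd_of_le hCZ))
    exact ((Nat.Prime.coprime_iff_not_dvd hpp).mpr this).symm
  refine ⟨quasisimple_residual_eq_fstar hO hq, ?_, h3, ?_⟩
  · intro Y hY hY1
    have h1 : ⁅Cfsg.pResidual p H, Y⁆ = Cfsg.pResidual p H := by
      by_contra hne
      exact hY1 (eq_bot_of_isPGroup_of_le hZ hY (le_center_of_commutator_ne hO hq Y hne))
    refine ⟨h1, ?_⟩
    conv_lhs => rw [← h1]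
    rw [Subgroup.commutator_le]
    intro k hk y hy
    rw [commutatorElement_def]
    have hA : k * y * k⁻¹ ∈ ⨆ k : ↥(Cfsg.pResidual p H), Y.map (MulAut.conj (k : H)).toMonoidHom := by
      apply (le_iSup (fun k : ↥(Cfsg.pResidual p H) => Y.map (MulAut.conj (k : H)).toMonoidHom) ⟨k, hk⟩)
      exact ⟨y, hy, by simp⟩
    have hB : y⁻¹ ∈ ⨆ k : ↥(Cfsg.pResidual p H), Y.map (MulAut.conj (k : H)).toMonoidHom := by
      apply (le_iSup (fun k : ↥(Cfsg.pResidual p H) => Y.map (MulAut.conj (k : H)).toMonoidHom) ⟨1, Subgroup.one_mem _⟩)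
      exact ⟨y⁻¹, Y.inv_mem hy, by simp⟩
    exact Subgroup.mul_mem _ hA hB
  · refine ⟨?_, ?_⟩
    · intro hcl
      obtain ⟨P⟩ : Nonempty (Sylow p H) := inferInstance
      have hPn := hcl P
      have hle : (P : Subgroup H) ≤ Cfsg.pCore p H := le_sSup ⟨hPn, P.2⟩
      rw [hO, le_bot_iff] at hle
      exact P.ne_bot_of_dvd_card hp hle
    · intro N hN hNcl
      by_contra hKN
      apply hNcl
      have hcop := h3 N hN hKN
      intro P
      have hcard : Nat.card (P : Subgroup ↥N) = 1 := by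
        rw [P.card_eq_multiplicity]
        have : ¬ p ∣ Nat.card ↥N := fun h => by
          have := Nat.Coprime.eq_one_of_dvd hcop.symm h
          exact hpp.one_lt.ne' this
        rw [Nat.factorization_eq_zero_of_not_dvd this, pow_zero]
      rw [Subgroup.card_eq_one.mp hcard]
      infer_instance

end Cfsg.Agent.Lib.Helper16
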