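import Mathlib.GroupTheory.Frattini
import Cfsg.Prelude.Def_Amalgam
import Cfsg.Prelude.Def_Transfer
import Cfsg.Agent.S0051
import Cfsg.Agent.Lib.Helper16.QuasisimpleResidual
import Cfsg.Agent.Lib.Helper16.PCore
import Cfsg.Agent.Lib.Helper12.Residual

set_option autoImplicit false
set_option linter.style.haveILetI false
open Cfsg
open scoped Pointwise

namespace Cfsg.Agent.Lib.Helper16

variable {G : Type*} [Group G]

/-- membership in the Frattini subgroup of a subgroup, in ambient form. -/
theorem le_frattini_iff [Finite G] (N : Subgroup G) :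
    N ≤ frattini G ↔ ∀ M : Subgroup G, IsCoatom M → N ≤ M := by
  constructor
  · intro h M hM
    exact h.trans (frattini_le_coatom hM)
  · intro h
    unfold frattini Order.radical
    exact le_iInf₂ h

/-- (P2) a normal subgroup of `G` lying in the Frattini subgroup of some subgroup `K` lies in
the Frattini subgroup of `G`. -/
theorem le_frattini_of_le_frattini_subgroup [Finite G] (N K : Subgroup G) [hN : N.Normal]
    (hNK : N ≤ (frattini ↥K).map K.subtype) : N ≤ frattini G := by
  rw [le_frattini_iff]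
  intro M hM
  by_contra hNM
  have hsup : N ⊔ M = ⊤ := by
    rcases eq_or_lt_of_le (le_sup_right : M ≤ N ⊔ M) with h | h
    · exfalso; apply hNM; rw [h]; exact le_sup_left
    · exact hM.2 _ h
  have hNK' : N ≤ K := hNK.trans (Subgroup.map_subtype_le _)
  have h1 : M.subgroupOf K ⊔ frattini ↥K = ⊤ := by
    rw [eq_top_iff]
    intro k _
    have hk : (k : G) ∈ N ⊔ M := by rw [hsup]; exact Subgroup.mem_top _
    rw [Subgroup.mem_sup_of_normal_left] at hk
    obtain ⟨n, hn, m, hm, hnm⟩ := hk
    have hmK : m ∈ K := by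
      have : m = n⁻¹ * (k : G) := by rw [← hnm]; group
      rw [this]; exact K.mul_mem (K.inv_mem (hNK' hn)) k.2
    have hnF : (⟨n, hNK' hn⟩ : ↥K) ∈ frattini ↥K := by
      obtain ⟨n', hn', hn'e⟩ := hNK hn
      have : n' = ⟨n, hNK' hn⟩ := Subtype.ext hn'e
      rw [← this]; exact hn'
    have hmM : (⟨m, hmK⟩ : ↥K) ∈ M.subgroupOf K := Subgroup.mem_subgroupOf.mpr hm
    have e : k = (⟨n, hNK' hn⟩ : ↥K) * ⟨m, hmK⟩ := Subtype.ext hnm.symm
    rw [e, sup_comm]
    exact Subgroup.mul_mem _ (Subgroup.mem_sup_left hnF) (Subgroup.mem_sup_right hmM)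
  have h2 := frattini_nongenerating h1
  rw [Subgroup.subgroupOf_eq_top] at h2
  exact hNM (hNK'.trans h2)

/-- (P1) the Frattini subgroup of a normal subgroup lies in the Frattini subgroup. -/
theorem frattini_normal_le [Finite G] (N : Subgroup G) [hN : N.Normal] :
    (frattini ↥N).map N.subtype ≤ frattini G := by
  haveI : ((frattini ↥N).map N.subtype).Normal :=
    ConjAct.normal_of_characteristic_of_normal
  exact le_frattini_of_le_frattini_subgroup _ N le_rfl

/-- (P3) `Φ(G/Φ(G)) = 1`. -/
theorem frattini_quotient_frattini [Finite G] : frattini (G ⧸ frattini G) = ⊥ := by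
  set π := QuotientGroup.mk' (frattini G) with hπ
  have hπs : Function.Surjective π := QuotientGroup.mk'_surjective _
  rw [eq_bot_iff]
  intro q hq
  obtain ⟨x, rfl⟩ := hπs q
  rw [Subgroup.mem_bot, QuotientGroup.mk'_apply, QuotientGroup.eq_one_iff]
  have hx : Subgroup.zpowers x ≤ frattini G := by
    rw [le_frattini_iff]
    intro M hM
    rw [Subgroup.zpowers_le]
    have hFM : frattini G ≤ M := frattini_le_coatom hM
    have hcm : (M.map π).comap π = M := by
      rw [Subgroup.comap_map_eq, QuotientGroup.ker_mk']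
      exact sup_of_le_left hFM
    have hco : IsCoatom (M.map π) := by
      constructor
      · intro htop
        apply hM.1
        rw [← hcm, htop, Subgroup.comap_top]
      · intro L hL
        have h1 : M ≤ L.comap π := by
          rw [← hcm]; exact Subgroup.comap_mono hL.le
        rcases eq_or_lt_of_le h1 with h | h
        · exfalso
          have : L = M.map π := by
            rw [h, Subgroup.map_comap_eq_self_of_surjective hπs]
          exact hL.ne this.symm
        · have := hM.2 _ h
          rw [← Subgroup.map_comap_eq_self_of_surjective hπs L, this, Subgroup.map_top_of_surjective π hπs]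
    have h2 : π x ∈ M.map π := (frattini_le_coatom hco) hq
    have h3 : x ∈ (M.map π).comap π := h2
    rwa [hcm] at h3
  exact hx (Subgroup.mem_zpowers x)

/-- (P3') the image of `G` under a surjection with kernel `Φ(G)` has trivial Frattini subgroup. -/
theorem frattini_eq_bot_of_ker_eq {G' : Type*} [Group G'] [Finite G] (ψ : G →* G')
    (hψ : Function.Surjective ψ) (hker : ψ.ker = frattini G) : frattini G' = ⊥ := by
  haveI : Finite G' := Finite.of_surjective ψ hψ
  rw [eq_bot_iff]
  intro q hq
  obtain ⟨x, rfl⟩ := hψ q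
  rw [Subgroup.mem_bot, ← MonoidHom.mem_ker, hker]
  have hx : Subgroup.zpowers x ≤ frattini G := by
    rw [le_frattini_iff]
    intro M hM
    rw [Subgroup.zpowers_le]
    have hFM : frattini G ≤ M := frattini_le_coatom hM
    have hcm : (M.map ψ).comap ψ = M := by
      rw [Subgroup.comap_map_eq, hker]
      exact sup_of_le_left hFM
    have hco : IsCoatom (M.map ψ) := by
      constructor
      · intro htop
        apply hM.1
        rw [← hcm, htop, Subgroup.comap_top]
      · intro L hL
        have h1 : M ≤ L.comap ψ := by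
          rw [← hcm]; exact Subgroup.comap_mono hL.le
        rcases eq_or_lt_of_le h1 with h | h
        · exfalso
          have : L = M.map ψ := by
            rw [h, Subgroup.map_comap_eq_self_of_surjective hψ]
          exact hL.ne this.symm
        · have := hM.2 _ h
          rw [← Subgroup.map_comap_eq_self_of_surjective hψ L, this,
            Subgroup.map_top_of_surjective ψ hψ]
    have h2 : ψ x ∈ M.map ψ := (frattini_le_coatom hco) hq
    have h3 : x ∈ (M.map ψ).comap ψ := h2
    rwa [hcm] at h3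
  exact hx (Subgroup.mem_zpowers x)

/-- (P4) an abelian normal subgroup of a group with trivial Frattini subgroup has a complement. -/
theorem exists_complement_of_frattini_eq_bot [Finite G] (hΦ : frattini G = ⊥) (A : Subgroup G)
    [hA : A.Normal] (hAc : ∀ a ∈ A, ∀ b ∈ A, a * b = b * a) :
    ∃ B : Subgroup G, A ⊓ B = ⊥ ∧ A ⊔ B = ⊤ := by
  classical
  let 𝒮 : Set (Subgroup G) := {K | A ⊔ K = ⊤}
  have htop : (⊤ : Subgroup G) ∈ 𝒮 := sup_top_eq A
  haveI : Nonempty 𝒮 := ⟨⟨⊤, htop⟩⟩
  obtain ⟨⟨K, hK⟩, hmin⟩ := Finite.exists_min (fun K : 𝒮 => Nat.card (K : Subgroup G))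
  have hK' : A ⊔ K = ⊤ := hK
  refine ⟨K, ?_, hK'⟩
  set N : Subgroup G := A ⊓ K with hN
  have hdec : ∀ g : G, ∃ a ∈ A, ∃ k ∈ K, g = a * k := by
    intro g
    have hg : g ∈ A ⊔ K := by rw [hK']; exact Subgroup.mem_top g
    rw [Subgroup.mem_sup_of_normal_left] at hg
    obtain ⟨a, ha, k, hk, rfl⟩ := hg
    exact ⟨a, ha, k, hk, rfl⟩
  haveI hNn : N.Normal := by
    constructor
    intro n hn g
    obtain ⟨a, ha, k, hk, rfl⟩ := hdec g
    have h1 : k * n * k⁻¹ ∈ N :=
      Subgroup.mem_inf.mpr ⟨hA.conj_mem n hn.1 k, K.mul_mem (K.mul_mem hk hn.2) (K.inv_mem hk)⟩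
    have h2 : a * (k * n * k⁻¹) = (k * n * k⁻¹) * a := hAc a ha _ h1.1
    have e : a * k * n * (a * k)⁻¹ = (a * (k * n * k⁻¹)) * a⁻¹ := by group
    rw [e, h2]
    have e2 : k * n * k⁻¹ * a * a⁻¹ = k * n * k⁻¹ := by group
    rw [e2]; exact h1
  have hNF : N ≤ (frattini ↥K).map K.subtype := by
    have hsub : N.subgroupOf K ≤ frattini ↥K := by
      rw [le_frattini_iff]
      intro M' hM'
      by_contra hNM
      have hsup : N.subgroupOf K ⊔ M' = ⊤ := by
        rcases eq_or_lt_of_le (le_sup_right : M' ≤ N.subgroupOf K ⊔ M') with h | h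
        · exfalso; apply hNM; rw [h]; exact le_sup_left
        · exact hM'.2 _ h
      set M : Subgroup G := M'.map K.subtype with hM
      have hMK : M ≤ K := Subgroup.map_subtype_le _
      have hAM : A ⊔ M = ⊤ := by
        rw [eq_top_iff]
        intro g _
        obtain ⟨a, ha, k, hk, rfl⟩ := hdec g
        have hk' : (⟨k, hk⟩ : ↥K) ∈ N.subgroupOf K ⊔ M' := by rw [hsup]; exact Subgroup.mem_top _
        haveI : (N.subgroupOf K).Normal := hNn.subgroupOf K
        rw [Subgroup.mem_sup_of_normal_left] at hk'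
        obtain ⟨n, hn, m, hm, hnm⟩ := hk'
        have hnm' : k = (n : G) * (m : G) := by
          have := congrArg Subtype.val hnm
          simpa using this.symm
        rw [hnm']
        have hnA : (n : G) ∈ A := (Subgroup.mem_subgroupOf.mp hn).1
        have e : a * ((n : G) * (m : G)) = (a * (n : G)) * (m : G) := by group
        rw [e]
        exact Subgroup.mul_mem _ (Subgroup.mem_sup_left (A.mul_mem ha hnA))
          (Subgroup.mem_sup_right ⟨m, hm, rfl⟩)
      have hcard : Nat.card K ≤ Nat.card M := hmin ⟨M, hAM⟩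
      have hMK' : M = K := Subgroup.eq_of_le_of_card_ge hMK hcard
      apply hM'.1
      rw [eq_top_iff]
      intro k _
      have : (k : G) ∈ M := by rw [hMK']; exact k.2
      obtain ⟨m, hm, hme⟩ := this
      have : m = k := Subtype.ext hme
      rw [← this]; exact hm
    intro n hn
    exact ⟨⟨n, hn.2⟩, hsub (Subgroup.mem_subgroupOf.mpr hn), rfl⟩
  have := le_frattini_of_le_frattini_subgroup N K hNF
  rw [hΦ] at this
  exact le_bot_iff.mp this

/-- `Φ(H) ≤ Φ(O^p(H))` when `O_p(H) = 1`. -/
theorem frattini_le_frattini_pResidual {H : Type*} [Group H] [Finite H] {p : ℕ} [Fact p.Prime]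
    (hO : pCore p H = ⊥) :
    frattini H ≤ (frattini ↥(pResidual p H)).map (pResidual p H).subtype := by
  have hp : p.Prime := Fact.out
  set R : Subgroup H := pResidual p H with hR
  haveI hRn : R.Normal := pResidual_normal
  set F : Subgroup H := (frattini ↥R).map R.subtype with hF
  haveI hFn : F.Normal := ConjAct.normal_of_characteristic_of_normal
  set D : Subgroup H := frattini H with hD
  haveI hDn : D.Normal := inferInstance
  have hDnil : Group.IsNilpotent ↥D := frattini_nilpotent
  have hDp : ¬ p ∣ Nat.card ↥D := not_dvd_card_of_nilpotent_normal hO D hDnil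
  have hDcop : (Nat.card ↥D).Coprime p := ((Nat.Prime.coprime_iff_not_dvd hp).mpr hDp).symm
  have hDR : D ≤ R := by
    intro d hd
    apply mem_pResidual_of_coprime
    apply Nat.Coprime.coprime_dvd_left _ hDcop
    have := orderOf_dvd_natCard (⟨d, hd⟩ : ↥D)
    rwa [Subgroup.orderOf_mk] at this
  have hFR : F ≤ R := Subgroup.map_subtype_le _
  by_contra hDF
  set π := QuotientGroup.mk' F with hπ
  have hπs : Function.Surjective π := QuotientGroup.mk'_surjective F
  have hker : π.ker = F := QuotientGroup.ker_mk' F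
  set Db : Subgroup (H ⧸ F) := D.map π with hDb
  haveI hDbn : Db.Normal := hDn.map π hπs
  have hDb1 : Db ≠ ⊥ := by
    intro h
    apply hDF
    intro d hd
    have : π d ∈ Db := ⟨d, hd, rfl⟩
    rw [h, Subgroup.mem_bot] at this
    rw [← hker]; exact this
  haveI : Nontrivial ↥Db := (Subgroup.nontrivial_iff_ne_bot _).mpr hDb1
  haveI : Group.IsNilpotent ↥Db :=
    Group.nilpotent_of_surjective (π.subgroupMap D) (π.subgroupMap_surjective D)
  set Z : Subgroup (H ⧸ F) := (Subgroup.center ↥Db).map Db.subtype with hZ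
  haveI hZn : Z.Normal := ConjAct.normal_of_characteristic_of_normal
  have hZcomm : ∀ a ∈ Z, ∀ b ∈ Z, a * b = b * a := by
    rintro _ ⟨a, ha, rfl⟩ _ ⟨b, hb, rfl⟩
    have := (Subgroup.mem_center_iff.mp ha) b
    exact (congrArg Subtype.val this).symm
  haveI hZc : IsMulCommutative ↥Z := ⟨⟨fun a b => Subtype.ext (hZcomm a a.2 b b.2)⟩⟩
  have hZ1 : Z ≠ ⊥ := by
    intro h
    rw [hZ, Subgroup.map_eq_bot_iff_of_injective _ Db.subtype_injective] at h
    exact (Group.IsNilpotent.center_ne_bot (G := ↥Db)) h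
  have hZDb : Z ≤ Db := Subgroup.map_subtype_le _
  set U : Subgroup (H ⧸ F) := R.map π with hU
  have hDbU : Db ≤ U := Subgroup.map_mono hDR
  have hZU : Z ≤ U := hZDb.trans hDbU
  have hcop : (Nat.card ↥Z).Coprime U.index := by
    have h1 : U.index = R.index := Subgroup.index_map_eq (H := R) (f := π) hπs (by rw [hker]; exact hFR)
    obtain ⟨a, ha⟩ := Cfsg.Agent.Lib.Helper12.pResidual_index_eq_pow p H
    rw [h1, ha]
    apply Nat.Coprime.pow_right
    apply Nat.Coprime.coprime_dvd_left _ hDcop
    exact (Subgroup.card_dvd_of_le hZDb).trans (Subgroup.card_map_dvd D π)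
  -- Φ(U) = 1
  have hΦU : frattini ↥U = ⊥ := by
    apply frattini_eq_bot_of_ker_eq (π.subgroupMap R) (π.subgroupMap_surjective R)
    ext x
    rw [MonoidHom.mem_ker]
    constructor
    · intro hx
      have h1 : π (x : H) = 1 := by
        have := congrArg Subtype.val hx
        simpa using this
      have h2 : (x : H) ∈ F := by rw [← hker]; exact h1
      obtain ⟨y, hy, hye⟩ := h2
      have : y = x := Subtype.ext hye
      rw [← this]; exact hy
    · intro hx
      apply Subtype.ext
      have h2 : (x : H) ∈ F := ⟨x, hx, rfl⟩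
      have h1 : π (x : H) = 1 := by rw [← MonoidHom.mem_ker, hker]; exact h2
      simpa using h1
  haveI : (Z.subgroupOf U).Normal := hZn.subgroupOf U
  obtain ⟨B', hB'1, hB'2⟩ := exists_complement_of_frattini_eq_bot hΦU (Z.subgroupOf U) (by
    intro a ha b hb
    apply Subtype.ext
    exact hZcomm _ (Subgroup.mem_subgroupOf.mp ha) _ (Subgroup.mem_subgroupOf.mp hb))
  set B : Subgroup (H ⧸ F) := B'.map U.subtype with hB
  have hBU : B ≤ U := Subgroup.map_subtype_le _
  have hBZ : B ⊓ Z = ⊥ := by
    rw [eq_bot_iff]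
    rintro x ⟨⟨b, hb, rfl⟩, hxZ⟩
    have : b ∈ Z.subgroupOf U ⊓ B' := Subgroup.mem_inf.mpr ⟨Subgroup.mem_subgroupOf.mpr hxZ, hb⟩
    rw [hB'1, Subgroup.mem_bot] at this
    rw [Subgroup.mem_bot, this]; rfl
  have hZB : Z ⊔ B = U := by
    apply le_antisymm (sup_le hZU hBU)
    intro u hu
    have h1 : (⟨u, hu⟩ : ↥U) ∈ Z.subgroupOf U ⊔ B' := by rw [hB'2]; exact Subgroup.mem_top _
    rw [Subgroup.mem_sup_of_normal_left] at h1
    obtain ⟨z, hz, b, hb, hzb⟩ := h1
    have e : u = (z : H ⧸ F) * (b : H ⧸ F) := by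
      have := congrArg Subtype.val hzb
      simpa using this.symm
    rw [e]
    exact Subgroup.mul_mem _ (Subgroup.mem_sup_left (Subgroup.mem_subgroupOf.mp hz))
      (Subgroup.mem_sup_right ⟨b, hb, rfl⟩)
  obtain ⟨H₀, hH₀⟩ := Cfsg.Agent.S0051.result Z U hZU hcop B hBU hBZ hZB
  have hH₀top : H₀ ≠ ⊤ := by
    intro h
    have h1 := hH₀.disjoint
    rw [h, disjoint_top] at h1
    exact hZ1 h1
  set H₁ : Subgroup H := H₀.comap π with hH₁
  have hH₁top : H₁ ≠ ⊤ := by
    intro h
    apply hH₀top
    rw [← Subgroup.map_comap_eq_self_of_surjective hπs H₀, ← hH₁, h,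
      Subgroup.map_top_of_surjective π hπs]
  obtain ⟨M, hM, hH₁M⟩ := (IsCoatomic.eq_top_or_exists_le_coatom H₁).resolve_left hH₁top
  have hDM : D ≤ M := frattini_le_coatom hM
  have hFM : F ≤ M := by
    refine le_trans ?_ hH₁M
    intro f hf
    rw [hH₁, Subgroup.mem_comap]
    have : π f = 1 := by rw [← MonoidHom.mem_ker, hker]; exact hf
    rw [this]; exact one_mem _
  have hMtop : M.map π = ⊤ := by
    rw [eq_top_iff, ← hH₀.sup_eq_top]
    apply sup_le
    · exact hZDb.trans (Subgroup.map_mono hDM)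
    · rw [← Subgroup.map_comap_eq_self_of_surjective hπs H₀]
      exact Subgroup.map_mono hH₁M
  have h1 := Subgroup.comap_map_eq π M
  rw [hMtop, Subgroup.comap_top, hker, sup_of_le_left hFM] at h1
  exact hM.1 h1.symm

/-- `Z(H) ≤ Φ(H)` when `O_p(H) = 1` and `H` is generated by its `p`-elements. -/
theorem center_le_frattini_of_pElementClosure {H : Type*} [Group H] [Finite H] {p : ℕ}
    [Fact p.Prime] (hO : pCore p H = ⊥) (hgen : pElementClosure p (⊤ : Subgroup H) = ⊤) :
    Subgroup.center H ≤ frattini H := by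
  have hp : p.Prime := Fact.out
  have hZnil : Group.IsNilpotent ↥(Subgroup.center H) :=
    ⟨⟨1, Subgroup.upperCentralSeries_one_eq_top_iff.mpr inferInstance⟩⟩
  have hZp : ¬ p ∣ Nat.card ↥(Subgroup.center H) :=
    not_dvd_card_of_nilpotent_normal hO (Subgroup.center H) hZnil
  set n := Nat.card ↥(Subgroup.center H) with hn
  unfold frattini Order.radical
  refine le_iInf₂ ?_
  intro M hM
  by_contra hZM
  have hsup : Subgroup.center H ⊔ M = ⊤ := by
    rcases eq_or_lt_of_le (le_sup_right : M ≤ Subgroup.center H ⊔ M) with h | h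
    · exfalso; apply hZM; rw [h]; exact le_sup_left
    · exact hM.2 _ h
  apply hM.1
  rw [eq_top_iff, ← hgen]
  unfold pElementClosure
  rw [Subgroup.closure_le]
  rintro x ⟨-, k, hk⟩
  have hx : x ∈ Subgroup.center H ⊔ M := by rw [hsup]; exact Subgroup.mem_top x
  rw [Subgroup.mem_sup_of_normal_left] at hx
  obtain ⟨z, hz, m, hm, rfl⟩ := hx
  have hzn : z ^ n = 1 := by
    have h1 : (⟨z, hz⟩ : ↥(Subgroup.center H)) ^ n = 1 := pow_card_eq_one'
    have h2 := congrArg Subtype.val h1
    rwa [Subgroup.coe_pow, Subgroup.coe_one] at h2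
  have hcomm : Commute z m := (Subgroup.mem_center_iff.mp hz m).symm
  have hpow : (z * m) ^ n = m ^ n := by
    rw [hcomm.mul_pow, hzn, one_mul]
  have hcop : n.Coprime (orderOf (z * m)) := by
    rw [hk]
    apply Nat.Coprime.pow_right
    exact ((Nat.Prime.coprime_iff_not_dvd hp).mpr hZp).symm
  obtain ⟨j, hj⟩ := exists_pow_eq_self_of_coprime hcop
  rw [SetLike.mem_coe, ← hj, hpow]
  exact M.pow_mem (M.pow_mem hm n) j

end Cfsg.Agent.Lib.Helper16
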