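/-
helper16 (S4865 market, planner helper12): leaf (M1) `exists_real_constituent`.
A real irreducible character of `X` has a real irreducible constituent on a normal subgroup `Y`
of odd index: the constituents form one orbit of odd size, and complex conjugation is an involution
of it.
-/
import Mathlib
import Cfsg.Prelude.Def_Blocks
import Cfsg.Agent.Lib.Helper6.Clifford
import Cfsg.Agent.Lib.Helper6.CliffordCorr
import Cfsg.Agent.Lib.Helper2.GlaubReal
import Cfsg.Agent.Lib.Helper12.RealPDefs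
import Cfsg.Agent.Lib.Helper12.RealNDefs
import Cfsg.Agent.Lib.Helper12.RealMDefs
import Cfsg.Agent.Lib.Helper25.RealPR1Core
import Cfsg.Agent.Lib.Lead.OddIndexReal

set_option autoImplicit false

namespace Cfsg.Agent.Lib.Helper16.RealM

open Cfsg Cfsg.Agent.CharLib Cfsg.Agent.Lib.Helper6 Cfsg.Agent.Lib.Helper12.RealP
open Cfsg.Agent.Lib.Helper12.RealN
open Cfsg.Agent.Lib.Helper12.RealM Cfsg.Agent.Lib.Helper2.Glaub
open scoped ComplexConjugate

universe u

theorem classInner_cj_cj {K : Type u} [Group K] [Fintype K] (f g : K → ℂ) :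
    classInner (fun x => conj (f x)) (fun x => conj (g x)) = conj (classInner f g) := by
  unfold classInner
  rw [map_mul, map_inv₀, map_natCast, map_sum]
  congr 1
  apply Finset.sum_congr rfl
  intro x _
  rw [map_mul]

/-- the orbit of a class function under a normal subgroup `Y` of odd index has odd size -/
theorem odd_card_conjOrbit {X : Type u} [Group X] [Fintype X] (Y : Subgroup X) [hY : Y.Normal]
    (hodd : Odd Y.index) {θ : ↥Y → ℂ} (hθ : IsClassFunction ↥Y θ) :
    Odd (conjOrbit Y θ).card := by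
  classical
  have h1 := card_conjOrbit_mul Y θ
  have h2 : Nat.card {g : X // Helper6.conjFun Y g θ = θ} =
      Nat.card (Cfsg.Agent.Lib.Helper25.RealP.stabFun Y θ) := rfl
  rw [h2] at h1
  have h3 := Subgroup.index_mul_card (Cfsg.Agent.Lib.Helper25.RealP.stabFun Y θ)
  have hpos : 0 < Nat.card (Cfsg.Agent.Lib.Helper25.RealP.stabFun Y θ) := Nat.card_pos
  have hidx : (conjOrbit Y θ).card = (Cfsg.Agent.Lib.Helper25.RealP.stabFun Y θ).index :=
    Nat.eq_of_mul_eq_mul_right hpos (h1.trans h3.symm)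
  rw [hidx]
  have hle : Y ≤ Cfsg.Agent.Lib.Helper25.RealP.stabFun Y θ := fun g hg => conjFun_of_mem Y hθ hg
  have hdvd := Subgroup.index_dvd_of_le hle
  exact Odd.of_dvd_nat hodd hdvd

/-- **S4865 leaf (M1)** (frozen signature of `notes/S4865_leaves.lean`). -/
theorem exists_real_constituent {X : Type u} [Group X] [Finite X] (Y : Subgroup X) [hY : Y.Normal]
    [Fintype ↥Y] (hodd : Odd Y.index) (χ : IrrCharacter X) (hχ : IsRe (χ : X → ℂ)) :
    ∃ θ : IrrCharacter ↥Y, IsRe (θ : ↥Y → ℂ) ∧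
      classInner (resFun Y (χ : X → ℂ)) (θ : ↥Y → ℂ) ≠ 0 := by
  classical
  let _ := Fintype.ofFinite X
  let _ := Cfsg.Agent.CharLib.fintypeIrr ↥Y
  have hχc : IsCharacter X (χ : X → ℂ) := IsIrrCharacter.isCharacter χ.2
  have hcls : IsClassFunction X (χ : X → ℂ) := IsCharacter.isClassFunction hχc
  have hresc : IsCharacter ↥Y (resFun Y (χ : X → ℂ)) := isCharacter_resFun Y hχc
  have hne : resFun Y (χ : X → ℂ) ≠ 0 := by
    intro h
    have h1 := congrFun h 1
    obtain ⟨d, hd, hd1⟩ := IsIrrCharacter.apply_one_pos χ.2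
    rw [resFun_apply] at h1
    change (χ : X → ℂ) 1 = 0 at h1
    rw [hd1] at h1
    have : d = 0 := by exact_mod_cast h1
    omega
  obtain ⟨θ₀, hθ₀, hθ₀c⟩ := IsCharacter.exists_constituent hresc hne
  set S : Finset (IrrCharacter ↥Y) :=
    Finset.univ.filter (fun θ => classInner (resFun Y (χ : X → ℂ)) (θ : ↥Y → ℂ) ≠ 0) with hS
  have himg : S.image (fun φ : IrrCharacter ↥Y => (φ : ↥Y → ℂ)) = conjOrbit Y θ₀ := by
    ext ψ
    simp only [hS, Finset.mem_image, Finset.mem_filter, Finset.mem_univ, true_and]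
    constructor
    · rintro ⟨φ, hφ, rfl⟩
      obtain ⟨g, hg⟩ := exists_conjFun_eq_of_constituent Y χ.2 hθ₀ φ.2 hθ₀c hφ
      exact (mem_conjOrbit Y).mpr ⟨g, hg⟩
    · intro hψ
      obtain ⟨g, hg⟩ := (mem_conjOrbit Y).mp hψ
      refine ⟨⟨ψ, hg ▸ isIrrCharacter_conjFun Y hθ₀ g⟩, ?_, rfl⟩
      show classInner (resFun Y (χ : X → ℂ)) ψ ≠ 0
      rw [← hg, classInner_resFun_conjFun Y hcls]
      exact hθ₀c
  have hcard : S.card = (conjOrbit Y θ₀).card := by
    rw [← himg, Finset.card_image_of_injective _ Subtype.val_injective]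
  have hoddS : Odd S.card := by
    rw [hcard]
    exact odd_card_conjOrbit Y hodd (IsCharacter.isClassFunction (IsIrrCharacter.isCharacter hθ₀))
  by_contra hcon
  push Not at hcon
  have hreal : ∀ x : X, conj ((χ : X → ℂ) x) = (χ : X → ℂ) x :=
    fun x => Complex.conj_eq_iff_im.mpr (hχ x)
  have hsum := Cfsg.Agent.CharLib.sum_zmod_two_of_involution (fun θ : IrrCharacter ↥Y => conjIrr θ)
    (fun _ => (1 : ZMod 2)) S ?_ ?_ ?_ ?_
  · rw [Finset.sum_const, nsmul_eq_mul, mul_one] at hsum
    have heven : Even S.card := (ZMod.natCast_eq_zero_iff_even).mp hsum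
    exact (Nat.not_even_iff_odd.mpr hoddS) heven
  · intro θ hθ
    simp only [hS, Finset.mem_filter, Finset.mem_univ, true_and] at hθ ⊢
    intro h0
    apply hθ
    have h1 := classInner_cj_cj (resFun Y (χ : X → ℂ))
      ((conjIrr θ : IrrCharacter ↥Y) : ↥Y → ℂ)
    have h2 : (fun x : ↥Y => conj (resFun Y (χ : X → ℂ) x)) = resFun Y (χ : X → ℂ) := by
      funext x
      rw [resFun_apply]
      exact hreal x
    have h3 : (fun x : ↥Y => conj (((conjIrr θ : IrrCharacter ↥Y) : ↥Y → ℂ) x)) = (θ : ↥Y → ℂ) := by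
      funext x
      rw [conjIrr_apply, Complex.conj_conj]
    rw [h2, h3, h0, map_zero] at h1
    exact h1
  · intro θ _
    apply Subtype.ext
    funext x
    rw [conjIrr_apply, conjIrr_apply, Complex.conj_conj]
  · intro θ hθ hfix
    simp only [hS, Finset.mem_filter, Finset.mem_univ, true_and] at hθ
    exact hθ (hcon θ ((conjIrr_eq_iff θ).mp hfix))
  · intro θ _
    rfl

end Cfsg.Agent.Lib.Helper16.RealM
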