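/-
helper16 (S4865 market, planner helper12): leaves (M9a) `rel_exists_real_constituent`,
(M9b) `rel_exists_real_over`, (M9c) `rel_real_unique_over`: the generic odd-index lemmas for
`(↥L, H.subgroupOf L)` transported along `Subgroup.subgroupOfEquivOfLe`.
-/
import Mathlib
import Cfsg.Prelude.Def_Blocks
import Cfsg.Agent.Lib.Helper6.Clifford
import Cfsg.Agent.Lib.Helper6.CliffordCorr
import Cfsg.Agent.Lib.Helper2.GlaubReal
import Cfsg.Agent.Lib.Helper12.RealPDefs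
import Cfsg.Agent.Lib.Helper12.RealNDefs
import Cfsg.Agent.Lib.Helper12.RealMDefs
import Cfsg.Agent.Lib.Helper25.RealNN3
import Cfsg.Agent.Lib.Lead.OddIndexReal
import Cfsg.Agent.Lib.Helper16.RealMM1

set_option autoImplicit false

namespace Cfsg.Agent.Lib.Helper16.RealM

open Cfsg Cfsg.Agent.CharLib Cfsg.Agent.Lib.Helper6 Cfsg.Agent.Lib.Helper12.RealP
open Cfsg.Agent.Lib.Helper12.RealN
open Cfsg.Agent.Lib.Helper12.RealM Cfsg.Agent.Lib.Helper2.Glaub
open scoped ComplexConjugate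

universe u

variable {G : Type u} [Group G] [Finite G]

/-- transport of an irreducible character of `H` to `H.subgroupOf L` -/
noncomputable def toSub {H L : Subgroup G} (hHL : H ≤ L) (η : IrrCharacter ↥H) :
    IrrCharacter ↥(H.subgroupOf L) :=
  ⟨(η : ↥H → ℂ) ∘ (Subgroup.subgroupOfEquivOfLe hHL),
    isIrrCharacter_comp_mulEquiv' (Subgroup.subgroupOfEquivOfLe hHL) η.2⟩

/-- transport of an irreducible character of `H.subgroupOf L` to `H` -/
noncomputable def ofSub {H L : Subgroup G} (hHL : H ≤ L) (θ : IrrCharacter ↥(H.subgroupOf L)) :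
    IrrCharacter ↥H :=
  ⟨(θ : ↥(H.subgroupOf L) → ℂ) ∘ (Subgroup.subgroupOfEquivOfLe hHL).symm,
    isIrrCharacter_comp_mulEquiv' (Subgroup.subgroupOfEquivOfLe hHL).symm θ.2⟩

theorem toSub_ofSub {H L : Subgroup G} (hHL : H ≤ L) (θ : IrrCharacter ↥(H.subgroupOf L)) :
    toSub hHL (ofSub hHL θ) = θ := by
  apply Subtype.ext
  funext x
  show (θ : ↥(H.subgroupOf L) → ℂ) ((Subgroup.subgroupOfEquivOfLe hHL).symm
    ((Subgroup.subgroupOfEquivOfLe hHL) x)) = _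
  rw [MulEquiv.symm_apply_apply]

theorem classInner_toSub {H L : Subgroup G} (hHL : H ≤ L) [Fintype ↥H]
    [Fintype ↥(H.subgroupOf L)] (ξ : ↥L → ℂ) (η : IrrCharacter ↥H) :
    classInner (resFun (H.subgroupOf L) ξ) ((toSub hHL η : IrrCharacter ↥(H.subgroupOf L)) :
      ↥(H.subgroupOf L) → ℂ) = classInner (resLE hHL ξ) (η : ↥H → ℂ) := by
  rw [resFun_subgroupOf hHL ξ]
  exact classInner_comp_mulEquiv (Subgroup.subgroupOfEquivOfLe hHL) _ _

theorem isRe_toSub {H L : Subgroup G} (hHL : H ≤ L) (η : IrrCharacter ↥H)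
    (hη : IsRe (η : ↥H → ℂ)) :
    IsRe ((toSub hHL η : IrrCharacter ↥(H.subgroupOf L)) : ↥(H.subgroupOf L) → ℂ) :=
  fun x => hη _

theorem isRe_ofSub {H L : Subgroup G} (hHL : H ≤ L) (θ : IrrCharacter ↥(H.subgroupOf L))
    (hθ : IsRe (θ : ↥(H.subgroupOf L) → ℂ)) : IsRe ((ofSub hHL θ : IrrCharacter ↥H) : ↥H → ℂ) :=
  fun x => hθ _

/-- **S4865 leaf (M9a)** (frozen signature of `notes/S4865_leaves.lean`). -/
theorem rel_exists_real_constituent (H L : Subgroup G) (hHL : H ≤ L)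
    (hn : L ≤ Subgroup.normalizer (H : Set G)) (hodd : Odd (H.relIndex L)) [Fintype ↥H]
    (ξ : IrrCharacter ↥L) (hξ : IsRe (ξ : ↥L → ℂ)) :
    ∃ η : IrrCharacter ↥H, IsRe (η : ↥H → ℂ) ∧
      classInner (resLE hHL (ξ : ↥L → ℂ)) (η : ↥H → ℂ) ≠ 0 := by
  classical
  have hnorm : (H.subgroupOf L).Normal := (Subgroup.normal_subgroupOf_iff_le_normalizer hHL).mpr hn
  let _ : Fintype ↥(H.subgroupOf L) := Fintype.ofFinite _
  obtain ⟨θ, hθre, hθ⟩ := exists_real_constituent (H.subgroupOf L) hodd ξ hξ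
  refine ⟨ofSub hHL θ, isRe_ofSub hHL θ hθre, ?_⟩
  rw [← classInner_toSub hHL (ξ : ↥L → ℂ) (ofSub hHL θ), toSub_ofSub]
  exact hθ

/-- **S4865 leaf (M9b)** (frozen signature of `notes/S4865_leaves.lean`). -/
theorem rel_exists_real_over (H L : Subgroup G) (hHL : H ≤ L)
    (hn : L ≤ Subgroup.normalizer (H : Set G)) (hodd : Odd (H.relIndex L)) [Fintype ↥H]
    (η : IrrCharacter ↥H) (hη : IsRe (η : ↥H → ℂ)) :
    ∃ ξ : IrrCharacter ↥L, IsRe (ξ : ↥L → ℂ) ∧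
      classInner (resLE hHL (ξ : ↥L → ℂ)) (η : ↥H → ℂ) ≠ 0 := by
  classical
  have hnorm : (H.subgroupOf L).Normal := (Subgroup.normal_subgroupOf_iff_le_normalizer hHL).mpr hn
  let _ : Fintype ↥(H.subgroupOf L) := Fintype.ofFinite _
  obtain ⟨ξ, hξre, hξ⟩ := Cfsg.Agent.Lib.Helper25.RealN.exists_real_over_of_real
    (H.subgroupOf L) hodd (toSub hHL η) (isRe_toSub hHL η hη)
  refine ⟨ξ, hξre, ?_⟩
  rw [← classInner_toSub hHL (ξ : ↥L → ℂ) η]
  exact hξ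

/-- **S4865 leaf (M9c)** (frozen signature of `notes/S4865_leaves.lean`). -/
theorem rel_real_unique_over (H L : Subgroup G) (hHL : H ≤ L)
    (hn : L ≤ Subgroup.normalizer (H : Set G)) (hodd : Odd (H.relIndex L)) [Fintype ↥H]
    (η : IrrCharacter ↥H) (ξ ξ' : IrrCharacter ↥L) (hξ : IsRe (ξ : ↥L → ℂ))
    (hξ' : IsRe (ξ' : ↥L → ℂ))
    (ho : classInner (resLE hHL (ξ : ↥L → ℂ)) (η : ↥H → ℂ) ≠ 0)
    (ho' : classInner (resLE hHL (ξ' : ↥L → ℂ)) (η : ↥H → ℂ) ≠ 0) : ξ = ξ' := by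
  classical
  have hnorm : (H.subgroupOf L).Normal := (Subgroup.normal_subgroupOf_iff_le_normalizer hHL).mpr hn
  let _ : Fintype ↥(H.subgroupOf L) := Fintype.ofFinite _
  let _ : Fintype ↥L := Fintype.ofFinite _
  apply real_unique_over (H.subgroupOf L) hodd (toSub hHL η) ξ ξ' hξ hξ'
  · rw [classInner_toSub hHL (ξ : ↥L → ℂ) η]
    exact ho
  · rw [classInner_toSub hHL (ξ' : ↥L → ℂ) η]
    exact ho'

end Cfsg.Agent.Lib.Helper16.RealM
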