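/-
helper16: S3385 (Sims) market "SIMS", leaf T2C3 (`notes/S3385_leaves.lean`): conjugates of a `Pair` form a `Pair`.
-/
import Mathlib
import Cfsg.Agent.Lib.Helper18.Sims3Defs

set_option autoImplicit false

namespace Cfsg.Agent.Lib.Helper16.SIMST2C3

open Cfsg Cfsg.Agent.Lib.Helper29.TWPair Cfsg.Agent.Lib.Helper18.Sims3 MulAction

variable {G : Type*} [Group G]

/-- `cj u (cj g S) = cj (u * g) S` -/
theorem cj_cj (u g : G) (S : Subgroup G) : cj u (cj g S) = cj (u * g) S := by
  unfold cj
  rw [Subgroup.map_map]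
  congr 1
  ext x
  simp [MulAut.conj_apply, mul_assoc]

/-- LEAF T2C3. -/
theorem pair_cj {A B : Subgroup G} (h : Pair A B) (u : G) : Pair (cj u A) (cj u B) where
  coatomA := isCoatom_map_conj' h.coatomA u
  coreA := normalCore_map_conj_eq_bot h.coreA u
  ne := fun he => h.ne (Subgroup.map_injective (MulAut.conj u).injective he)
  conj := by
    obtain ⟨g, hg⟩ := h.conj
    refine ⟨u * g * u⁻¹, ?_⟩
    change cj u B = cj (u * g * u⁻¹) (cj u A)
    rw [cj_cj, hg]
    change cj u (cj g A) = _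
    rw [cj_cj]
    congr 1
    group

end Cfsg.Agent.Lib.Helper16.SIMST2C3
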