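/-
helper16: S3385 (Sims) market "SIMS", leaf T1 (`notes/S3385_leaves.lean`): the shift element `g` with `B = g A g⁻¹` and
`g (A ⊓ B) g⁻¹ ≠ A ⊓ B`.  If every `g` with `B = g A g⁻¹` normalized `D = A ⊓ B`, then (taking `g = s g₀`, `s ∈ B`) all of `B` would
normalize `D`, so `core_B(D) = D`, of index `1 ≠ 2` in `D`.
-/
import Mathlib
import Cfsg.Agent.Lib.Helper18.Sims3Defs
import Cfsg.Agent.Lib.Helper16.SIMST2C3

set_option autoImplicit false

namespace Cfsg.Agent.Lib.Helper16.SIMST1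

open Cfsg Cfsg.Agent.Lib.Helper29.TWPair Cfsg.Agent.Lib.Helper18.Sims3 MulAction
open Cfsg.Agent.Lib.Helper16.SIMST2C3

variable {G : Type*} [Group G]

theorem mem_cj_iff (g : G) (S : Subgroup G) (x : G) : x ∈ cj g S ↔ g⁻¹ * x * g ∈ S := by
  unfold cj
  constructor
  · rintro ⟨y, hy, rfl⟩
    simpa [MulAut.conj_apply, mul_assoc] using hy
  · intro h
    refine ⟨g⁻¹ * x * g, h, ?_⟩
    simp [MulAut.conj_apply, mul_assoc]

theorem cj_eq_self_of_mem {S : Subgroup G} {s : G} (hs : s ∈ S) : cj s S = S := by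
  ext x
  rw [mem_cj_iff]
  constructor
  · intro h
    have := S.mul_mem (S.mul_mem hs h) (S.inv_mem hs)
    simpa [mul_assoc] using this
  · intro h
    exact S.mul_mem (S.mul_mem (S.inv_mem hs) h) hs

theorem mem_normalizer_of_cj_eq {S : Subgroup G} {s : G} (h : cj s S = S) :
    s ∈ Subgroup.normalizer (S : Set G) := by
  rw [Subgroup.mem_normalizer_iff]
  intro x
  constructor
  · intro hx
    rw [← h, mem_cj_iff]
    simpa [mul_assoc] using hx
  · intro hx
    rw [← h, mem_cj_iff] at hx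
    simpa [mul_assoc] using hx

/-- LEAF T1. -/
theorem exists_shift [Finite G] {A B : Subgroup G} (h : TS A B) :
    ∃ g : G, B = cj g A ∧ cj g (A ⊓ B) ≠ A ⊓ B := by
  by_contra hcon
  push_neg at hcon
  obtain ⟨g0, hg0⟩ := h.pair.conj
  have hg0' : B = cj g0 A := hg0
  have hB : B ≤ Subgroup.normalizer ((A ⊓ B : Subgroup G) : Set G) := by
    intro s hs
    apply mem_normalizer_of_cj_eq
    have h1 : B = cj (s * g0) A := by
      rw [← cj_cj, ← hg0', cj_eq_self_of_mem hs]
    have h2 := hcon (s * g0) h1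
    rw [← cj_cj, hcon g0 hg0'] at h2
    exact h2
  have hle : A ⊓ B ≤ coreIn B (A ⊓ B) := le_coreIn inf_le_right le_rfl hB
  have heq : coreIn B (A ⊓ B) = A ⊓ B := le_antisymm (coreIn_le_right _ _) hle
  have := h.coreB
  rw [heq, Subgroup.relIndex_self] at this
  exact absurd this (by norm_num)

end Cfsg.Agent.Lib.Helper16.SIMST1
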