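import Cfsg.Agent.Lib.Helper27.SpMDefs
import Cfsg.Agent.Lib.Helper27.SpMTools
import Cfsg.Agent.Lib.Helper5.SpMax
import Cfsg.Agent.Lib.Helper14.SpPerfect
import Cfsg.Agent.Lib.Helper14.PSpSimple

/-!
# SpnMax leaves, block T (helper16): T2 `sp_perfect`, T3 `sp_normal_sub`, T4 `scalar_of_commute_sympTransvections`
(exact signatures of notes/SpnMax_leaves.lean).
-/

set_option autoImplicit false
set_option linter.unusedSectionVars false
set_option linter.unusedVariables false

namespace Cfsg.Agent.Lib.Helper16.SpMLeaf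

open Cfsg Cfsg.Geo Matrix Module Cfsg.Agent.Lib.Helper27.SpM
open Cfsg.Agent.Lib.Helper5 Cfsg.Agent.Lib.Helper5.SpMax

variable {m : ℕ} {F : Type*} [Field F] [Fintype F]

/-- a matrix for which every vector is an eigenvector is scalar -/
theorem scalar_of_eigen16 {ι : Type} [Fintype ι] [DecidableEq ι] {K : Type*} [Field K] (X : Matrix ι ι K)
    (h : ∀ v : ι → K, v ≠ 0 → ∃ a : K, X *ᵥ v = a • v) : ∃ c : K, X = c • (1 : Matrix ι ι K) := by
  classical
  rcases isEmpty_or_nonempty ι with he | ⟨⟨i0⟩⟩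
  · exact ⟨0, by ext i; exact he.elim i⟩
  set v0 : ι → K := Pi.single i0 1 with hv0
  have hv0ne : v0 ≠ 0 := by
    intro h0
    have := congrFun h0 i0
    simp [hv0] at this
  obtain ⟨a, ha⟩ := h v0 hv0ne
  refine ⟨a, ?_⟩
  apply mat_eq_of_mulVec
  intro w
  rw [Matrix.smul_mulVec, Matrix.one_mulVec]
  by_cases hdep : ∃ c : K, w = c • v0
  · obtain ⟨c, rfl⟩ := hdep
    rw [Matrix.mulVec_smul, ha, smul_comm]
  · push Not at hdep
    have hw0 : w ≠ 0 := by
      intro h0
      exact hdep 0 (by rw [h0, zero_smul])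
    have hvw0 : v0 + w ≠ 0 := by
      intro h0
      apply hdep (-1)
      rw [neg_one_smul]
      exact eq_neg_of_add_eq_zero_right h0
    obtain ⟨b, hb⟩ := h w hw0
    obtain ⟨d, hd⟩ := h (v0 + w) hvw0
    rw [Matrix.mulVec_add, ha, hb, smul_add] at hd
    have hrel : (a - d) • v0 = (d - b) • w := by
      rw [sub_smul, sub_smul, sub_eq_sub_iff_add_eq_add]
      rw [hd]; abel
    have hbd : d - b = 0 := by
      by_contra hne
      apply hdep ((d - b)⁻¹ * (a - d))
      rw [mul_smul, hrel, smul_smul, inv_mul_cancel₀ hne, one_smul]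
    have had : a - d = 0 := by
      by_contra hne
      apply hv0ne
      have : (a - d) • v0 = 0 := by rw [hrel, hbd, zero_smul]
      exact (smul_eq_zero.mp this).resolve_left hne
    have : a = b := by
      rw [sub_eq_zero] at hbd had
      rw [had, hbd]
    rw [hb, this]

/-- T4.  A matrix commuting with all symplectic transvections `x ↦ x + f(x,a) a` is scalar. -/
theorem scalar_of_commute_sympTransvections (X : Matrix (Fin m ⊕ Fin m) (Fin m ⊕ Fin m) F)
    (h : ∀ a : Fin m ⊕ Fin m → F, X * sympTransvection m a 1 = sympTransvection m a 1 * X) :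
    ∃ c : F, X = c • (1 : Matrix (Fin m ⊕ Fin m) (Fin m ⊕ Fin m) F) := by
  apply scalar_of_eigen16
  intro a ha
  -- choose `x` with `f(x, a) = 1`
  obtain ⟨y, hy⟩ := sympForm_nondeg a ha
  have hy' : sympForm m F y a ≠ 0 := by
    rw [sympForm_swap]; exact neg_ne_zero.mpr hy
  set x : Fin m ⊕ Fin m → F := (sympForm m F y a)⁻¹ • y with hx
  have hxa : sympForm m F x a = 1 := by
    rw [hx, sympForm_smul_left, inv_mul_cancel₀ hy']
  have key := congrArg (fun M => M *ᵥ x) (h a)
  simp only [← Matrix.mulVec_mulVec] at key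
  rw [sympTransvection_mulVec, sympTransvection_mulVec, hxa, mul_one, one_smul, one_mul,
    Matrix.mulVec_add] at key
  refine ⟨sympForm m F (X *ᵥ x) a, ?_⟩
  exact add_left_cancel key

/-- the embedding of Mathlib's symplectic group into `GL` -/
def spToGL16 (m : ℕ) (F : Type*) [Field F] :
    Matrix.symplecticGroup (Fin m) F →* GL (Fin m ⊕ Fin m) F :=
  (Matrix.symplecticGroup (Fin m) F).subtype.toHomUnits

theorem spToGL16_val (A : Matrix.symplecticGroup (Fin m) F) :
    ((spToGL16 m F A : GL (Fin m ⊕ Fin m) F) : Matrix (Fin m ⊕ Fin m) (Fin m ⊕ Fin m) F)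
      = (A : Matrix (Fin m ⊕ Fin m) (Fin m ⊕ Fin m) F) := rfl

theorem spToGL16_range : (spToGL16 m F).range = spGL m F := by
  ext g
  constructor
  · rintro ⟨A, rfl⟩
    rw [mem_spGL]
    intro u v
    rw [spToGL16_val]
    exact sympForm_mulVec_of_mem A.2 u v
  · intro hg
    exact ⟨⟨_, val_mem_symplectic hg⟩, Units.ext rfl⟩

theorem spToGL16_injective : Function.Injective (spToGL16 m F) := by
  intro A B hAB
  apply Subtype.ext
  have := congrArg (fun g : GL (Fin m ⊕ Fin m) F => (g : Matrix (Fin m ⊕ Fin m) (Fin m ⊕ Fin m) F)) hAB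
  simpa [spToGL16_val] using this

/-- T2.  `Sp_2m(q)` is perfect except `Sp_2(2)`, `Sp_2(3)`, `Sp_4(2)`. -/
theorem sp_perfect (h : 3 ≤ m ∨ (m = 2 ∧ 3 ≤ Fintype.card F) ∨ 4 ≤ Fintype.card F) :
    ⁅spGL m F, spGL m F⁆ = spGL m F := by
  have h1 := Cfsg.Agent.Lib.Helper14.SpPerfect.commutator_symplecticGroup_eq_top (m := m) (F := F) h
  rw [commutator_def] at h1
  rw [← spToGL16_range, MonoidHom.range_eq_map, ← Subgroup.map_commutator, h1]

/-- T3.  A subgroup of `Sp` normalised by `Sp` is `Sp` or consists of scalars. -/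
theorem sp_normal_sub (hm : 1 ≤ m) (h : 3 ≤ m ∨ (m = 2 ∧ 3 ≤ Fintype.card F) ∨ 4 ≤ Fintype.card F)
    (N : Subgroup (GL (Fin m ⊕ Fin m) F)) (hN : N ≤ spGL m F)
    (hnorm : ∀ g ∈ spGL m F, ∀ x ∈ N, g * x * g⁻¹ ∈ N) :
    N = spGL m F ∨ N ≤ scalars (Fin m ⊕ Fin m) F := by
  have hperf := Cfsg.Agent.Lib.Helper14.SpPerfect.commutator_symplecticGroup_eq_top (m := m) (F := F) h
  set N' : Subgroup (Matrix.symplecticGroup (Fin m) F) := N.comap (spToGL16 m F) with hN'
  have hnormal : N'.Normal := by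
    constructor
    intro A hA B
    rw [hN', Subgroup.mem_comap] at hA ⊢
    rw [map_mul, map_mul, map_inv]
    apply hnorm _ _ _ hA
    rw [← spToGL16_range]
    exact ⟨B, rfl⟩
  rcases Cfsg.Agent.Lib.Helper14.PSpSimple.normal_le_center_or_eq_top hm hperf N' with hc | ht
  · right
    intro x hx
    obtain ⟨A, rfl⟩ : x ∈ (spToGL16 m F).range := by rw [spToGL16_range]; exact hN hx
    have hA : A ∈ N' := hx
    have hAc := hc hA
    rw [Subgroup.mem_center_iff] at hAc
    have hcomm : ∀ a : Fin m ⊕ Fin m → F,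
        (A : Matrix (Fin m ⊕ Fin m) (Fin m ⊕ Fin m) F) * sympTransvection m a 1
          = sympTransvection m a 1 * (A : Matrix (Fin m ⊕ Fin m) (Fin m ⊕ Fin m) F) := by
      intro a
      have := hAc ⟨sympTransvection m a 1, sympTransvection_mem m a 1⟩
      have h2 := congrArg (fun B : Matrix.symplecticGroup (Fin m) F =>
        (B : Matrix (Fin m ⊕ Fin m) (Fin m ⊕ Fin m) F)) this
      exact h2.symm
    obtain ⟨c, hc'⟩ := scalar_of_commute_sympTransvections _ hcomm
    have hc0 : c ≠ 0 := by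
      intro h0
      have hdet : IsUnit ((spToGL16 m F A : GL (Fin m ⊕ Fin m) F) :
          Matrix (Fin m ⊕ Fin m) (Fin m ⊕ Fin m) F) := (spToGL16 m F A).isUnit
      rw [spToGL16_val, hc', h0, zero_smul] at hdet
      have : Nonempty (Fin m ⊕ Fin m) := ⟨Sum.inl ⟨0, by omega⟩⟩
      exact not_isUnit_zero hdet
    rw [mem_scalars_iff]
    exact ⟨Units.mk0 c hc0, by rw [spToGL16_val, hc']; rfl⟩
  · left
    apply le_antisymm hN
    intro x hx
    obtain ⟨A, rfl⟩ : x ∈ (spToGL16 m F).range := by rw [spToGL16_range]; exact hx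
    have : A ∈ N' := by rw [ht]; trivial
    exact this

end Cfsg.Agent.Lib.Helper16.SpMLeaf
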