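import Mathlib
import Cfsg.Agent.Lib.Helper16.C3uDefs
import Cfsg.Agent.Lib.Helper12.C3uF
import Cfsg.Agent.Lib.Helper12.C3uW0
import Cfsg.Agent.Lib.Helper6.C3uECore
import Cfsg.Agent.Lib.Helper6.C3uE1

/-!
Unitary `C3`, rank one (`GU_2(q^r).r < SU_{2r}(q)`, `n = 2 r`): the FINAL step.  If every vector of
one `E`-isotropic `E`-line `L₀ = E v₀` is a centre of `M` (`M` containing the centraliser of `E` in
`SU`), then `SU ≤ M`.  The centraliser is transitive on the `E`-isotropic `E`-lines (Weyl element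
`kt v₀ a * kt v' (-a⁻¹) * kt v₀ a`), then helper6's `all_mem_Sset` and helper5's
`le_of_forall_mem_Sset`.
-/

set_option autoImplicit false
set_option linter.unusedSectionVars false
set_option linter.unusedVariables false

namespace Cfsg.Agent.Lib.Helper16.C3u2
open Cfsg Matrix Module Cfsg.Agent.Lib.Helper5.SpMax Cfsg.Agent.Lib.Helper5.SUMax
  Cfsg.Agent.Lib.Helper5.HermBridge
  Cfsg.Agent.Lib.Helper22.C3L Cfsg.Agent.Lib.Helper16.C3u

universe u
variable {F : Type u} [Field F] [Fintype F] {n q : ℕ} {E : Type u} [Field E] [Algebra F E]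

local notation "𝕍" => (Fin n → F)
local notation "𝕄" => Matrix (Fin n) (Fin n) F
local notation "ℍ" => (Cfsg.GU n F q ⊓ Cfsg.Geo.specialLinear (Fin n) F)

/-- rank one: the `E`-orthogonal complement of a non-zero `E`-isotropic vector is its `E`-line -/
theorem hyp_eq_line (S : KU n q F E) (hF : Fintype.card F = q ^ 2) [FiniteDimensional F E]
    (hn : n = 2 * finrank F E) {v : 𝕍} (hv : v ≠ 0) (hiso : S.fE v v = 0) :
    S.hyp v = line S.ρ v := by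
  symm
  apply Submodule.eq_of_le_of_finrank_eq (S.line_le_hyp hiso)
  have h1 := Cfsg.Agent.Lib.Helper12.C3uLeaf.finrank_hyp S hF hv
  rw [finrank_line hv]
  omega

/-- a non-zero skew element of `E` -/
theorem exists_skew_ne_zero (S : KU n q F E) (hF : Fintype.card F = q ^ 2) (hn : 0 < n) :
    ∃ a : E, a ≠ 0 ∧ S.st a = -a := by
  obtain ⟨a, ha, hτ⟩ := Cfsg.Agent.Lib.Helper12.C3uLeaf.exists_skew_tau_ne S hF hn
    (one_ne_zero (α := E)) (map_one S.st)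
  refine ⟨a, ?_, ha⟩
  rintro rfl
  apply hτ
  rw [zero_mul, map_zero]

/-- rank one: the centraliser of `E` in `SU` moves every `E`-isotropic vector into a given
`E`-isotropic line -/
theorem exists_cent_into_line (S : KU n q F E) (hF : Fintype.card F = q ^ 2)
    [FiniteDimensional F E] (hn : n = 2 * finrank F E) {v₀ v : 𝕍} (hv₀ : v₀ ≠ 0)
    (hiso : S.fE v₀ v₀ = 0) (hv : S.fE v v = 0) :
    ∃ s ∈ ℍ, (∀ e : E, (s : 𝕄) * S.ρ e = S.ρ e * (s : 𝕄)) ∧ (s : 𝕄) *ᵥ v ∈ line S.ρ v₀ := by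
  have hr : 0 < finrank F E := Module.finrank_pos
  have hn0 : 0 < n := by omega
  by_cases hvL : v ∈ line S.ρ v₀
  · refine ⟨1, one_mem _, fun e => ?_, ?_⟩
    · rw [Units.val_one, one_mul, mul_one]
    · rw [Units.val_one, Matrix.one_mulVec]; exact hvL
  -- `fE v v₀ ≠ 0`
  have hne : S.fE v v₀ ≠ 0 := by
    intro h0
    apply hvL
    rw [← hyp_eq_line S hF hn hv₀ hiso]
    exact S.mem_hyp.mpr h0
  obtain ⟨a, ha0, ha⟩ := exists_skew_ne_zero S hF hn0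
  -- normalise: `v' = λ v` with `fE v' v₀ = 1`
  obtain ⟨v', hv'def⟩ : ∃ v' : 𝕍, v' = act S.ρ (S.fE v v₀)⁻¹ v := ⟨_, rfl⟩
  have hv'v₀ : S.fE v' v₀ = 1 := by
    rw [hv'def, S.fE_act_left, inv_mul_cancel₀ hne]
  have hv₀v' : S.fE v₀ v' = 1 := by
    rw [S.herm v' v₀, hv'v₀, map_one]
  have hv'iso : S.fE v' v' = 0 := by
    rw [hv'def, S.fE_act_left, S.fE_act_right, hv, mul_zero, mul_zero]
  have hb : S.st (-a⁻¹) = -(-a⁻¹) := by
    rw [map_neg, map_inv₀, ha, inv_neg]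
  set s : GL (Fin n) F := S.kt v₀ a hiso * S.kt v' (-a⁻¹) hv'iso * S.kt v₀ a hiso with hs
  have hsH : s ∈ ℍ :=
    mul_mem (mul_mem (S.kt_mem hiso ha) (S.kt_mem hv'iso hb)) (S.kt_mem hiso ha)
  have hsc : ∀ e : E, (s : 𝕄) * S.ρ e = S.ρ e * (s : 𝕄) := by
    intro e
    rw [hs, Units.val_mul, Units.val_mul, mul_assoc, S.kt_comm hiso a e, ← mul_assoc,
      mul_assoc _ _ (S.ρ e), S.kt_comm hv'iso (-a⁻¹) e, ← mul_assoc, S.kt_comm hiso a e]
    simp only [mul_assoc]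
  have hsv' : (s : 𝕄) *ᵥ v' = act S.ρ a v₀ := by
    rw [hs, Units.val_mul, Units.val_mul, ← Matrix.mulVec_mulVec, ← Matrix.mulVec_mulVec,
      S.kt_mulVec hiso a v', hv'v₀, mul_one, Matrix.mulVec_add, S.kt_mulVec hv'iso (-a⁻¹) v',
      hv'iso, mul_zero, act_zero, add_zero]
    change (S.kt v₀ a hiso : 𝕄) *ᵥ (v' + (S.kt v' (-a⁻¹) hv'iso : 𝕄) *ᵥ (act S.ρ a v₀)) = _
    rw [S.kt_mulVec hv'iso (-a⁻¹) (act S.ρ a v₀), S.fE_act_left, hv₀v', mul_one,
      neg_mul, inv_mul_cancel₀ ha0, act_neg, act_one, Matrix.mulVec_add, Matrix.mulVec_add,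
      Matrix.mulVec_neg]
    change (S.kt v₀ a hiso : 𝕄) *ᵥ v' + ((S.kt v₀ a hiso : 𝕄) *ᵥ (act S.ρ a v₀) +
      -((S.kt v₀ a hiso : 𝕄) *ᵥ v')) = _
    rw [S.kt_mulVec hiso a (act S.ρ a v₀), S.fE_act_left, hiso, mul_zero, mul_zero, act_zero,
      add_zero]
    abel
  refine ⟨s, hsH, hsc, ?_⟩
  have hvv' : v = act S.ρ (S.fE v v₀) v' := by
    rw [hv'def, act_act_inv S.ρ hne]
  have hcomm : (s : 𝕄) *ᵥ act S.ρ (S.fE v v₀) v' = act S.ρ (S.fE v v₀) ((s : 𝕄) *ᵥ v') := by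
    unfold act
    rw [Matrix.mulVec_mulVec, Matrix.mulVec_mulVec, hsc]
  rw [hvv', hcomm, hsv']
  exact act_mem_line_of_mem (act_mem_line a v₀) _

/-- rank one, the final step: if every vector of one `E`-isotropic line is a centre of `M`, then
`SU ≤ M` -/
theorem le_of_line_mem_Sset (S : KU n q F E) (hF : Fintype.card F = q ^ 2)
    [FiniteDimensional F E] (hr : 2 ≤ finrank F E) (hn : n = 2 * finrank F E)
    (M : Subgroup (GL (Fin n) F)) (hMS : M ≤ ℍ)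
    (hM : ∀ g ∈ ℍ, (∀ e : E, (g : 𝕄) * S.ρ e = S.ρ e * (g : 𝕄)) → g ∈ M)
    {v₀ : 𝕍} (hv₀ : v₀ ≠ 0) (hiso : S.fE v₀ v₀ = 0)
    (hL : ∀ x ∈ line S.ρ v₀, x ∈ Sset hF M) : ℍ ≤ M := by
  have hall : ∀ v : 𝕍, S.fE v v = 0 → v ∈ Sset hF M := by
    intro v hv
    obtain ⟨s, hsH, hsc, hsv⟩ := exists_cent_into_line S hF hn hv₀ hiso hv
    have hsM := hM s hsH hsc
    have hs'M : s⁻¹ ∈ M := M.inv_mem hsM
    have hs'U : s⁻¹ ∈ Cfsg.GU n F q := (Cfsg.GU n F q).inv_mem hsH.1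
    have h1 := Sset_mulVec_mem hF hs'M hs'U (hL _ hsv)
    rwa [inv_mul_mulVec] at h1
  have hall' := Cfsg.Agent.Lib.Helper6.C3uLeaf.all_mem_Sset S hF (by omega) M hall
  exact le_of_forall_mem_Sset hF (by omega) (by omega) M hall'

end Cfsg.Agent.Lib.Helper16.C3u2
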