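import Mathlib
import Cfsg.Prelude.Def_Classical
import Cfsg.Prelude.Def_ClassicalGeometry
import Cfsg.Prelude.Def_GeometricClasses
import Cfsg.Agent.Lib.Helper5.SUMax
import Cfsg.Agent.Lib.Helper5.UForm
import Cfsg.Agent.Lib.Helper22.C3LDefs
import Cfsg.Agent.Lib.Helper22.C3LTool
import Cfsg.Agent.Lib.Helper16.C3uDefs
import Cfsg.Agent.Lib.Helper13.C3qDefs
import Cfsg.Agent.Lib.Helper20.C3uL0
import Cfsg.Agent.Lib.Helper17.C3uPx
import Cfsg.Agent.Lib.Helper12.C3uF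
import Cfsg.Agent.Lib.Helper12.C3uW0
import Cfsg.Agent.Lib.Helper26.C3uW1
import Cfsg.Agent.Lib.Helper6.C3uE1
import Cfsg.Agent.Lib.Helper16.C3u2Fin

/-!
S5840 C3 rank one (helper13's market C3q, notes/S5840_C3_leaves.lean): leaves CO1 `hyp_eq_line`, CO2 `coords`.
-/

set_option autoImplicit false
set_option linter.unusedSectionVars false
set_option linter.unusedVariables false

namespace Cfsg.Agent.Lib.Helper16.C3qLeaf
open Cfsg Matrix Module Cfsg.Agent.Lib.Helper5.SpMax Cfsg.Agent.Lib.Helper5.SUMax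
  Cfsg.Agent.Lib.Helper22.C3L Cfsg.Agent.Lib.Helper16.C3u Cfsg.Agent.Lib.Helper13.C3q

universe u
variable {F : Type u} [Field F] [Fintype F] {n q : ℕ} {E : Type u} [Field E] [Algebra F E]

local notation "𝕍" => (Fin n → F)
local notation "𝕄" => Matrix (Fin n) (Fin n) F
local notation "ℍ" => (Cfsg.GU n F q ⊓ Cfsg.Geo.specialLinear (Fin n) F)

/-- **CO1** for `d = 2` the `E`-hyperplane of an isotropic vector is its `E`-line -/
theorem hyp_eq_line (S : KU n q F E) (hF : Fintype.card F = q ^ 2) [FiniteDimensional F E]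
    (hd : 2 * finrank F E = n) {v₀ : 𝕍} (hv₀ : v₀ ≠ 0) (hiso : S.fE v₀ v₀ = 0) :
    S.hyp v₀ = line S.ρ v₀ :=
  Cfsg.Agent.Lib.Helper16.C3u2.hyp_eq_line S hF hd.symm hv₀ hiso

/-- **CO2** hyperbolic coordinates -/
theorem coords (S : KU n q F E) (hF : Fintype.card F = q ^ 2) [FiniteDimensional F E]
    (hd : 2 * finrank F E = n) {v₀ v₁ : 𝕍} (h0 : S.fE v₀ v₀ = 0) (h1 : S.fE v₁ v₁ = 0)
    (h01 : S.fE v₀ v₁ = 1) (x : 𝕍) :
    x = act S.ρ (S.fE x v₁) v₀ + act S.ρ (S.fE x v₀) v₁ := by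
  have hv₀ : v₀ ≠ 0 := by
    rintro rfl
    rw [S.fE_zero_left] at h01
    exact zero_ne_one h01
  have h10 : S.fE v₁ v₀ = 1 := by rw [S.herm v₀ v₁, h01, map_one]
  obtain ⟨y, hy⟩ : ∃ y : 𝕍, y = x - act S.ρ (S.fE x v₁) v₀ - act S.ρ (S.fE x v₀) v₁ := ⟨_, rfl⟩
  have hy0 : S.fE y v₀ = 0 := by
    rw [hy, S.fE_sub_left, S.fE_sub_left, S.fE_act_left, S.fE_act_left, h0, h10]
    ring
  have hy1 : S.fE y v₁ = 0 := by
    rw [hy, S.fE_sub_left, S.fE_sub_left, S.fE_act_left, S.fE_act_left, h01, h1]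
    ring
  have hyL : y ∈ line S.ρ v₀ := by
    rw [← hyp_eq_line S hF hd hv₀ h0]
    exact S.mem_hyp.mpr hy0
  obtain ⟨e, he⟩ := mem_line.mp hyL
  have he0 : e = 0 := by
    rw [← he, S.fE_act_left, h01, mul_one] at hy1
    exact hy1
  have hy00 : y = 0 := by rw [← he, he0, act_zero]
  rw [hy00] at hy
  have := sub_eq_zero.mp hy.symm
  rw [sub_eq_iff_eq_add] at this
  rw [add_comm]
  exact this

end Cfsg.Agent.Lib.Helper16.C3qLeaf
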