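import Mathlib
import Cfsg.Prelude.Def_Classical
import Cfsg.Prelude.Def_ClassicalGeometry
import Cfsg.Prelude.Def_GeometricClasses
import Cfsg.Agent.Lib.Helper5.SUMax
import Cfsg.Agent.Lib.Helper5.UForm
import Cfsg.Agent.Lib.Helper22.C3LDefs
import Cfsg.Agent.Lib.Helper22.C3LTool
import Cfsg.Agent.Lib.Helper16.C3uDefs
import Cfsg.Agent.Lib.Helper13.C3qDefs
import Cfsg.Agent.Lib.Helper20.C3uL0
import Cfsg.Agent.Lib.Helper17.C3uPx
import Cfsg.Agent.Lib.Helper12.C3uF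
import Cfsg.Agent.Lib.Helper12.C3uW0
import Cfsg.Agent.Lib.Helper26.C3uW1
import Cfsg.Agent.Lib.Helper6.C3uE1
import Cfsg.Agent.Lib.Helper16.C3qCO

/-!
S5840 C3 rank one (helper13's market C3q, notes/S5840_C3_leaves.lean): the bridge leaves BR1 `finrank_Bset`,
BR2 `finrank_Pset`, BR3 `tau_Bset_Pset`, BR4 `img_ti`.
-/

set_option autoImplicit false
set_option linter.unusedSectionVars false
set_option linter.unusedVariables false

namespace Cfsg.Agent.Lib.Helper16.C3qLeaf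
open Cfsg Matrix Module Cfsg.Agent.Lib.Helper5.SpMax Cfsg.Agent.Lib.Helper5.SUMax
  Cfsg.Agent.Lib.Helper22.C3L Cfsg.Agent.Lib.Helper16.C3u Cfsg.Agent.Lib.Helper13.C3q

universe u
variable {F : Type u} [Field F] [Fintype F] {n q : ℕ} {E : Type u} [Field E] [Algebra F E]

local notation "𝕍" => (Fin n → F)
local notation "𝕄" => Matrix (Fin n) (Fin n) F
local notation "ℍ" => (Cfsg.GU n F q ⊓ Cfsg.Geo.specialLinear (Fin n) F)

/-- **BR1** -/
theorem finrank_Bset (S : KU n q F E) {v₀ : 𝕍} (hv₀ : v₀ ≠ 0) (W : Submodule F 𝕍) :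
    finrank F (Bset S v₀ W) = finrank F ↥(line S.ρ v₀ ⊓ W) := by
  have hinj : Function.Injective (orb S.ρ v₀) := orb_injective hv₀
  have h1 : (Bset S v₀ W).map (orb S.ρ v₀) = line S.ρ v₀ ⊓ W := by
    unfold Bset line
    exact Submodule.map_comap_eq _ _
  rw [← h1]
  exact (LinearEquiv.finrank_eq (Submodule.equivMapOfInjective _ hinj _))

/-- **BR2** (rank–nullity for `x ↦ fE x v₀` on `W`; the kernel is `W ⊓ hyp v₀ = W ⊓ line v₀`) -/
theorem finrank_Pset (S : KU n q F E) (hF : Fintype.card F = q ^ 2) [FiniteDimensional F E]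
    (hd : 2 * finrank F E = n) {v₀ : 𝕍} (hv₀ : v₀ ≠ 0) (hiso : S.fE v₀ v₀ = 0)
    (W : Submodule F 𝕍) :
    finrank F (Pset S v₀ W) + finrank F ↥(line S.ρ v₀ ⊓ W) = finrank F W := by
  have h := LinearMap.finrank_range_add_finrank_ker ((S.phi v₀).domRestrict W)
  have hr : LinearMap.range ((S.phi v₀).domRestrict W) = Pset S v₀ W := by
    rw [LinearMap.range_domRestrict]
    rfl
  have hk : finrank F ↥(LinearMap.ker ((S.phi v₀).domRestrict W)) =
      finrank F ↥(line S.ρ v₀ ⊓ W) := by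
    rw [LinearMap.ker_domRestrict]
    have h2 : (Submodule.comap W.subtype (LinearMap.ker (S.phi v₀))).map W.subtype =
        line S.ρ v₀ ⊓ W := by
      rw [Submodule.map_comap_subtype, inf_comm]
      congr 1
      exact hyp_eq_line S hF hd hv₀ hiso
    rw [← h2]
    exact (Submodule.finrank_map_subtype_eq W _).symm
  rw [hr, hk] at h
  exact h

/-- **BR3** -/
theorem tau_Bset_Pset (S : KU n q F E) {v₀ : 𝕍} (W : Submodule F 𝕍)
    (hW : ∀ w ∈ W, ∀ w' ∈ W, Cfsg.hermForm n F q w w' = 0) {b φ : E} (hb : b ∈ Bset S v₀ W)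
    (hφ : φ ∈ Pset S v₀ W) : S.τ (b * S.st φ) = 0 := by
  obtain ⟨w, hw, rfl⟩ := mem_Pset.mp hφ
  have h1 := hW _ (mem_Bset.mp hb) w hw
  rw [S.form_eq', S.fE_act_left, S.herm w v₀] at h1
  exact h1

/-- **BR4** images of the base line under `GU` are totally isotropic -/
theorem img_ti (S : KU n q F E) {v₀ : 𝕍} (hiso : S.fE v₀ v₀ = 0) {g : GL (Fin n) F}
    (hg : g ∈ Cfsg.GU n F q) :
    ∀ w ∈ img g (line S.ρ v₀), ∀ w' ∈ img g (line S.ρ v₀), Cfsg.hermForm n F q w w' = 0 := by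
  intro w hw w' hw'
  obtain ⟨x, hx, rfl⟩ := mem_img.mp hw
  obtain ⟨x', hx', rfl⟩ := mem_img.mp hw'
  obtain ⟨e, rfl⟩ := mem_line.mp hx
  obtain ⟨e', rfl⟩ := mem_line.mp hx'
  rw [mem_GU.mp hg, S.form_eq', S.fE_act_left, S.fE_act_right, hiso, mul_zero, mul_zero, map_zero]

end Cfsg.Agent.Lib.Helper16.C3qLeaf
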