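import Mathlib
import Cfsg.Prelude.Def_Classical
import Cfsg.Prelude.Def_ClassicalGeometry
import Cfsg.Prelude.Def_GeometricClasses
import Cfsg.Agent.Lib.Helper5.SUMax
import Cfsg.Agent.Lib.Helper5.UForm
import Cfsg.Agent.Lib.Helper22.C3LDefs
import Cfsg.Agent.Lib.Helper22.C3LTool
import Cfsg.Agent.Lib.Helper16.C3uDefs
import Cfsg.Agent.Lib.Helper12.C3uF
import Cfsg.Agent.Lib.Helper12.C3uW0
import Cfsg.Agent.Lib.Helper26.C3uW1
import Cfsg.Agent.Lib.Helper16.C3u2Fin

/-!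
S5840 unitary C3 rank one, stage (A) leaf TR2 (helper6's market, notes/S5840_C3_A_leaves.lean):
the centraliser of `E` in `SU` is transitive on the isotropic `E`-lines (`n = 2 r`).
-/

set_option autoImplicit false
set_option linter.unusedSectionVars false
set_option linter.unusedVariables false

namespace Cfsg.Agent.Lib.Helper16.C3u2Leaf
open Cfsg Matrix Module Cfsg.Agent.Lib.Helper5.SpMax Cfsg.Agent.Lib.Helper5.SUMax
  Cfsg.Agent.Lib.Helper22.C3L Cfsg.Agent.Lib.Helper16.C3u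

universe u
variable {F : Type u} [Field F] [Fintype F] {n q : ℕ} {E : Type u} [Field E] [Algebra F E]

local notation "𝕍" => (Fin n → F)
local notation "𝕄" => Matrix (Fin n) (Fin n) F
local notation "ℍ" => (Cfsg.GU n F q ⊓ Cfsg.Geo.specialLinear (Fin n) F)

/-- **TR2** for `n = 2r` the centraliser of `E` in `SU` maps any isotropic `E`-line onto any other. -/
theorem exists_cent_map_line (S : KU n q F E) (hF : Fintype.card F = q ^ 2) [FiniteDimensional F E]
    (hn : n = 2 * finrank F E) {u u' : 𝕍} (hu0 : u ≠ 0) (hu : S.fE u u = 0) (hu'0 : u' ≠ 0)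
    (hu' : S.fE u' u' = 0) :
    ∃ s ∈ ℍ, (∀ e : E, (s : 𝕄) * S.ρ e = S.ρ e * (s : 𝕄)) ∧ (s : 𝕄) *ᵥ u ∈ line S.ρ u' :=
  Cfsg.Agent.Lib.Helper16.C3u2.exists_cent_into_line S hF hn hu'0 hu' hu

end Cfsg.Agent.Lib.Helper16.C3u2Leaf
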