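import Mathlib
import Cfsg.Prelude.Def_Classical
import Cfsg.Prelude.Def_ClassicalGeometry
import Cfsg.Prelude.Def_GeometricClasses
import Cfsg.Agent.Lib.Helper5.SUMax
import Cfsg.Agent.Lib.Helper5.UForm
import Cfsg.Agent.Lib.Helper22.C3LDefs
import Cfsg.Agent.Lib.Helper22.C3LTool
import Cfsg.Agent.Lib.Helper16.C3uDefs
import Cfsg.Agent.Lib.Helper12.C3uF
import Cfsg.Agent.Lib.Helper12.C3uW0
import Cfsg.Agent.Lib.Helper26.C3uW1

/-!
S5840 unitary C3 rank one, stage (A) leaf N0 (helper6's market, notes/S5840_C3_A_leaves.lean):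
conjugation into `ρ(E)` is enough for the normaliser (tail of helper11's SK core).
-/

set_option autoImplicit false
set_option linter.unusedSectionVars false
set_option linter.unusedVariables false

namespace Cfsg.Agent.Lib.Helper16.C3u2Leaf
open Cfsg Matrix Module Cfsg.Agent.Lib.Helper5.SpMax Cfsg.Agent.Lib.Helper5.SUMax
  Cfsg.Agent.Lib.Helper22.C3L Cfsg.Agent.Lib.Helper16.C3u

universe u
variable {F : Type u} [Field F] [Fintype F] {n q : ℕ} {E : Type u} [Field E] [Algebra F E]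

local notation "𝕍" => (Fin n → F)
local notation "𝕄" => Matrix (Fin n) (Fin n) F
local notation "ℍ" => (Cfsg.GU n F q ⊓ Cfsg.Geo.specialLinear (Fin n) F)

/-- **N0** conjugation into `ρ(E)` is enough for the normaliser. -/
theorem mem_normalizer_of_conj (S : KU n q F E) [FiniteDimensional F E] (hn : 0 < n)
    (g : GL (Fin n) F)
    (h : ∀ e : E, ∃ l : E, (g : 𝕄) * S.ρ e * ((g⁻¹ : GL (Fin n) F) : 𝕄) = S.ρ l) :
    g ∈ Cfsg.Geo.subalgebraNormalizer S.ρ.range := by
  have : Nonempty (Fin n) := ⟨⟨0, hn⟩⟩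
  have hρinj : Function.Injective S.ρ := S.ρ.toRingHom.injective
  choose φ hφ using h
  have hφadd : ∀ a b, φ (a + b) = φ a + φ b := by
    intro a b
    apply hρinj
    rw [← hφ, map_add, map_add, ← hφ, ← hφ, Matrix.mul_add, Matrix.add_mul]
  have hφsmul : ∀ (c : F) a, φ (c • a) = c • φ a := by
    intro c a
    apply hρinj
    rw [← hφ, map_smul, map_smul, ← hφ, Matrix.mul_smul, Matrix.smul_mul]
  let Φ : E →ₗ[F] E :=
    { toFun := φ
      map_add' := hφadd
      map_smul' := by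
        intro c a
        simp only [RingHom.id_apply]
        exact hφsmul c a }
  have hΦinj : Function.Injective Φ := by
    rw [← LinearMap.ker_eq_bot, LinearMap.ker_eq_bot']
    intro a ha
    have h1 : φ a = 0 := ha
    have h2 := hφ a
    rw [h1, map_zero] at h2
    apply hρinj
    rw [map_zero]
    have h3 : S.ρ a = ((g⁻¹ : GL (Fin n) F) : 𝕄) *
        ((g : 𝕄) * S.ρ a * ((g⁻¹ : GL (Fin n) F) : 𝕄)) * (g : 𝕄) := by
      rw [Matrix.mul_assoc, Matrix.mul_assoc, Matrix.mul_assoc, ← Units.val_mul, inv_mul_cancel,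
        Units.val_one, Matrix.mul_one, ← Matrix.mul_assoc, ← Units.val_mul, inv_mul_cancel,
        Units.val_one, Matrix.one_mul]
    rw [h3, h2, Matrix.mul_zero, Matrix.zero_mul]
  have hΦsurj : Function.Surjective Φ := LinearMap.injective_iff_surjective.mp hΦinj
  intro k
  constructor
  · rintro ⟨e, rfl⟩
    exact ⟨φ e, (hφ e).symm⟩
  · rintro ⟨l, hl⟩
    obtain ⟨a, ha⟩ := hΦsurj l
    refine ⟨a, ?_⟩
    have h1 : (g : 𝕄) * S.ρ a * ((g⁻¹ : GL (Fin n) F) : 𝕄) =
        (g : 𝕄) * k * ((g⁻¹ : GL (Fin n) F) : 𝕄) := by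
      have hl' : S.ρ l = (g : 𝕄) * k * ((g⁻¹ : GL (Fin n) F) : 𝕄) := hl
      have ha' : φ a = l := ha
      rw [hφ a, ha', hl']
    have h2 : ∀ X : 𝕄, X = ((g⁻¹ : GL (Fin n) F) : 𝕄) *
        ((g : 𝕄) * X * ((g⁻¹ : GL (Fin n) F) : 𝕄)) * (g : 𝕄) := by
      intro X
      rw [Matrix.mul_assoc, Matrix.mul_assoc, Matrix.mul_assoc, ← Units.val_mul, inv_mul_cancel,
        Units.val_one, Matrix.mul_one, ← Matrix.mul_assoc, ← Units.val_mul, inv_mul_cancel,
        Units.val_one, Matrix.one_mul]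
    change S.ρ a = k
    rw [h2 (S.ρ a), h1, ← h2 k]

end Cfsg.Agent.Lib.Helper16.C3u2Leaf
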