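import Mathlib
import Cfsg.Prelude.Def_Classical
import Cfsg.Prelude.Def_ClassicalGeometry
import Cfsg.Prelude.Def_GeometricClasses
import Cfsg.Agent.Lib.Helper5.SUMax
import Cfsg.Agent.Lib.Helper5.UForm
import Cfsg.Agent.Lib.Helper16.C3uDefs
import Cfsg.Agent.Lib.Helper13.C3qDefs
import Cfsg.Agent.Lib.Helper13.C3qMDefs
import Cfsg.Agent.Lib.Helper12.C3uF

/-!
S5840 C3 rank one, module theorem MOD (helper13's sub-market C3qM, notes/S5840_C3_MOD_leaves.lean):
leaf M7 `gen` = the values `χ e = e^(q+1) * φ^m (st e^(q+1))` generate `E` additively (`m = 1, 2`).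
The image of `χ` is a multiplicative monoid with more than `q^5` elements (the kernel of `χ` lies in the
`(q+1)(q^2-1)`-th roots of unity); its additive closure is a subring `R` of the finite field `E`, hence a
subfield, and `card R ^ 2 > card E` forces `R = E`.
-/

set_option autoImplicit false
set_option linter.unusedSectionVars false
set_option linter.unusedVariables false

namespace Cfsg.Agent.Lib.Helper16.C3qModLeaf
open Cfsg Matrix Module Cfsg.Agent.Lib.Helper16.C3u Cfsg.Agent.Lib.Helper13.C3q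
open Polynomial

universe u
variable {F : Type u} [Field F] [Fintype F] {n q : ℕ} {E : Type u} [Field E] [Algebra F E]

/-- `st` commutes with the powers of the Frobenius -/
lemma fr_st_comm (S : KU n q F E) (j : ℕ) (x : E) :
    (fr F E ^ j) (S.st x) = S.st ((fr F E ^ j) x) := by
  rw [fr_pow_apply, fr_pow_apply, map_pow]

/-- an element fixed by `φ^(2m)` (`m = 1, 2`) is fixed by `φ` (degree `5`) -/
lemma fr_fixed_of_sq (hr5 : finrank F E = 5) (m : ℕ) (hm : m = 1 ∨ m = 2) {k : E}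
    (h : (fr F E ^ m) ((fr F E ^ m) k) = k) : (fr F E) k = k := by
  haveI : FiniteDimensional F E := Module.finite_of_finrank_pos (by omega)
  haveI : Finite E := Module.finite_of_finite F
  have h5 : fr F E ^ 5 = 1 := by
    have := FiniteField.orderOf_frobeniusAlgHom F E
    rw [hr5] at this
    rw [← this]
    exact pow_orderOf_eq_one _
  rcases hm with rfl | rfl
  · -- `φ^2 k = k`, so `φ^6 k = k`, `φ^6 = φ`
    have h2 : (fr F E ^ 2) k = k := by
      rw [pow_succ, pow_one]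
      rw [pow_one] at h
      exact h
    have h6 : (fr F E ^ 6) k = k := by
      have e : fr F E ^ 6 = fr F E ^ 2 * fr F E ^ 2 * fr F E ^ 2 := by
        rw [← pow_add, ← pow_add]
      rw [e, AlgHom.mul_apply, AlgHom.mul_apply, h2, h2, h2]
    have e6 : fr F E ^ 6 = fr F E := by
      rw [pow_succ, h5, one_mul]
    rwa [e6] at h6
  · have h4 : (fr F E ^ 4) k = k := by
      have e : fr F E ^ 4 = fr F E ^ 2 * fr F E ^ 2 := by rw [← pow_add]
      rw [e, AlgHom.mul_apply]
      exact h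
    have h16 : (fr F E ^ 16) k = k := by
      have e : fr F E ^ 16 = fr F E ^ 4 * fr F E ^ 4 * fr F E ^ 4 * fr F E ^ 4 := by
        rw [← pow_add, ← pow_add, ← pow_add]
      rw [e, AlgHom.mul_apply, AlgHom.mul_apply, AlgHom.mul_apply, h4, h4, h4, h4]
    have e16 : fr F E ^ 16 = fr F E := by
      have : fr F E ^ 16 = (fr F E ^ 5) ^ 3 * fr F E := by
        rw [← pow_mul, ← pow_succ]
      rw [this, h5, one_pow, one_mul]
    rwa [e16] at h16

/-- the kernel of `χ` consists of `(q+1)(q^2-1)`-th roots of unity -/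
lemma chi_ker (S : KU n q F E) (hF : Fintype.card F = q ^ 2) (hr5 : finrank F E = 5) (m : ℕ)
    (hm : m = 1 ∨ m = 2) {u : E} (hu : u ≠ 0)
    (h : u ^ (q + 1) * (fr F E ^ m) (S.st u ^ (q + 1)) = 1) :
    u ^ ((q + 1) * (q ^ 2 - 1)) = 1 := by
  obtain ⟨k, hk⟩ : ∃ k : E, k = u ^ (q + 1) := ⟨_, rfl⟩
  have hk0 : k ≠ 0 := by rw [hk]; exact pow_ne_zero _ hu
  rw [← map_pow, ← hk] at h
  have h1 : (fr F E ^ m) (S.st k) = k⁻¹ := eq_inv_of_mul_eq_one_right h
  have h2 : (fr F E ^ m) ((fr F E ^ m) k) = k := by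
    have e1 : (fr F E ^ m) (S.st ((fr F E ^ m) (S.st k))) = k := by
      rw [h1, map_inv₀, map_inv₀, h1, inv_inv]
    rw [← fr_st_comm S m, S.st_st] at e1
    exact e1
  have h3 := fr_fixed_of_sq hr5 m hm h2
  have h4 : k ^ (q ^ 2) = k := by
    have := fr_pow_apply' (E := E) hF 1 k
    rw [pow_one, mul_one] at this
    rw [← this]
    exact h3
  have hq2 : 1 ≤ q ^ 2 := by
    have h1 : 1 < Fintype.card F := Fintype.one_lt_card
    rw [hF] at h1
    omega
  have h5 : k ^ (q ^ 2 - 1) = 1 := by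
    have e : q ^ 2 = (q ^ 2 - 1) + 1 := by omega
    rw [e, pow_succ] at h4
    have : k ^ (q ^ 2 - 1) * k = 1 * k := by rw [one_mul]; exact h4
    exact mul_right_cancel₀ hk0 this
  rw [pow_mul, ← hk, h5]

/-- **M7** generation by cardinality. -/
theorem gen (S : KU n q F E) (hF : Fintype.card F = q ^ 2) (hn : 0 < n) [FiniteDimensional F E]
    (hr5 : finrank F E = 5) (m : ℕ) (hm : m = 1 ∨ m = 2) :
    AddSubgroup.closure {x : E | ∃ e : E, e ≠ 0 ∧
      x = e ^ (q + 1) * (fr F E ^ m) (S.st e ^ (q + 1))} = ⊤ := by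
  classical
  haveI : Finite E := Module.finite_of_finite F
  haveI : Fintype E := Fintype.ofFinite E
  have hq : 2 ≤ q := by
    have h1 : 1 < Fintype.card F := Fintype.one_lt_card
    rw [hF] at h1
    by_contra hlt
    have : q = 0 ∨ q = 1 := by omega
    rcases this with rfl | rfl <;> simp at h1
  have hcardE : Fintype.card E = q ^ 10 := by
    rw [Module.card_eq_pow_finrank (K := F) (V := E), hF, hr5, ← pow_mul]
  obtain ⟨χ, hχ⟩ : ∃ χ : E → E, χ = fun e => e ^ (q + 1) * (fr F E ^ m) (S.st e ^ (q + 1)) :=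
    ⟨_, rfl⟩
  have hχa : ∀ e, χ e = e ^ (q + 1) * (fr F E ^ m) (S.st e ^ (q + 1)) := fun e => by rw [hχ]
  have hχmul : ∀ e e', χ (e * e') = χ e * χ e' := by
    intro e e'
    rw [hχa, hχa, hχa, map_mul, mul_pow, mul_pow, map_mul]
    ring
  have hχone : χ 1 = 1 := by
    rw [hχa, map_one, one_pow, map_one, mul_one]
  have hχne : ∀ e, e ≠ 0 → χ e ≠ 0 := by
    intro e he
    rw [hχa]
    apply mul_ne_zero (pow_ne_zero _ he)
    rw [Ne, map_eq_zero]
    exact pow_ne_zero _ (by rwa [Ne, map_eq_zero])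
  have hχinv : ∀ e, e ≠ 0 → χ e⁻¹ = (χ e)⁻¹ := by
    intro e he
    apply eq_inv_of_mul_eq_one_left
    rw [← hχmul, inv_mul_cancel₀ he, hχone]
  obtain ⟨N, hN⟩ : ∃ N : ℕ, N = (q + 1) * (q ^ 2 - 1) := ⟨_, rfl⟩
  have hq2 : 4 ≤ q ^ 2 := by nlinarith
  have hN0 : 0 < N := by
    rw [hN]
    apply Nat.mul_pos (by omega)
    omega
  have hker : ∀ u : E, u ≠ 0 → χ u = 1 → u ^ N = 1 := by
    intro u hu h
    rw [hN]
    rw [hχa] at h
    exact chi_ker S hF hr5 m hm hu h
  -- the set `T` is the carrier of a submonoid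
  obtain ⟨T, hT⟩ : ∃ T : Set E, T = {x : E | ∃ e : E, e ≠ 0 ∧ x = χ e} := ⟨_, rfl⟩
  have hTset : {x : E | ∃ e : E, e ≠ 0 ∧
      x = e ^ (q + 1) * (fr F E ^ m) (S.st e ^ (q + 1))} = T := by
    rw [hT]
    ext x
    simp only [Set.mem_setOf_eq, hχa]
  rw [hTset]
  let Tm : Submonoid E :=
    { carrier := T
      one_mem' := by rw [hT]; exact ⟨1, one_ne_zero, hχone.symm⟩
      mul_mem' := by
        intro a b ha hb
        rw [hT] at ha hb ⊢
        obtain ⟨e, he, rfl⟩ := ha
        obtain ⟨e', he', rfl⟩ := hb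
        exact ⟨e * e', mul_ne_zero he he', (hχmul e e').symm⟩ }
  have hTm : (Tm : Set E) = T := rfl
  have hclosure : ∀ x : E, x ∈ Subring.closure T → x ∈ AddSubgroup.closure T := by
    intro x hx
    have := Subring.mem_closure_iff.mp hx
    rwa [← hTm, Submonoid.closure_eq] at this
  suffices hR : Subring.closure T = ⊤ by
    rw [eq_top_iff]
    intro x _
    apply hclosure
    rw [hR]
    exact Subring.mem_top x
  by_contra hne
  obtain ⟨x, hx⟩ : ∃ x : E, x ∉ Subring.closure T := by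
    by_contra hall
    push Not at hall
    exact hne (eq_top_iff.mpr (fun x _ => hall x))
  obtain ⟨R, hR⟩ : ∃ R : Subring E, R = Subring.closure T := ⟨_, rfl⟩
  rw [← hR] at hx
  -- inverses in `R`
  have hRinv : ∀ r ∈ R, r ≠ 0 → r⁻¹ ∈ R := by
    intro r hr hr0
    have h1 : r ^ (Fintype.card E - 1) = 1 := FiniteField.pow_card_sub_one_eq_one r hr0
    have hc2 : 2 ≤ Fintype.card E := by
      rw [hcardE]
      calc 2 ≤ q := hq
        _ ≤ q ^ 10 := Nat.le_self_pow (by norm_num) q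
    have h2 : r * r ^ (Fintype.card E - 2) = 1 := by
      rw [← pow_succ', ← h1]
      congr 1
      omega
    have h3 : r⁻¹ = r ^ (Fintype.card E - 2) := (eq_inv_of_mul_eq_one_right h2).symm
    rw [h3]
    exact pow_mem hr _
  -- the finite sets
  obtain ⟨Rf, hRf⟩ : ∃ Rf : Finset E, Rf = Finset.univ.filter (fun y => y ∈ R) := ⟨_, rfl⟩
  have hmemRf : ∀ y, y ∈ Rf ↔ y ∈ R := by
    intro y
    rw [hRf, Finset.mem_filter]
    simp
  obtain ⟨E₁, hE₁⟩ : ∃ E₁ : Finset E, E₁ = Finset.univ.filter (fun y : E => y ≠ 0) := ⟨_, rfl⟩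
  have hmemE₁ : ∀ y, y ∈ E₁ ↔ y ≠ 0 := by
    intro y
    rw [hE₁, Finset.mem_filter]
    simp
  have hE₁card : E₁.card = q ^ 10 - 1 := by
    rw [hE₁, Finset.filter_ne' Finset.univ (0 : E), Finset.card_erase_of_mem (Finset.mem_univ _),
      Finset.card_univ, hcardE]
  -- the image of `χ` lies in `R`
  have hsub : E₁.image χ ⊆ Rf := by
    intro y hy
    obtain ⟨e, he, rfl⟩ := Finset.mem_image.mp hy
    rw [hmemRf, hR]
    apply Subring.subset_closure
    rw [hT]
    exact ⟨e, (hmemE₁ e).mp he, rfl⟩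
  -- the fibres of `χ`
  have hfib : ∀ b ∈ E₁.image χ, (E₁.filter (fun a => χ a = b)).card ≤ N := by
    intro b hb
    obtain ⟨a₀, ha₀, rfl⟩ := Finset.mem_image.mp hb
    have ha₀0 : a₀ ≠ 0 := (hmemE₁ a₀).mp ha₀
    have h1 : (E₁.filter (fun a => χ a = χ a₀)).card ≤ (nthRoots N (1 : E)).toFinset.card := by
      apply Finset.card_le_card_of_injOn (fun a => a * a₀⁻¹)
      · intro a ha
        rw [Finset.mem_coe, Finset.mem_filter] at ha
        rw [Finset.mem_coe, Multiset.mem_toFinset, mem_nthRoots hN0]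
        have ha0 : a ≠ 0 := (hmemE₁ a).mp ha.1
        apply hker _ (mul_ne_zero ha0 (inv_ne_zero ha₀0))
        rw [hχmul, hχinv a₀ ha₀0, ha.2, mul_inv_cancel₀ (hχne a₀ ha₀0)]
      · intro a _ a' _ haa'
        exact mul_right_cancel₀ (inv_ne_zero ha₀0) haa'
    calc (E₁.filter (fun a => χ a = χ a₀)).card ≤ (nthRoots N (1 : E)).toFinset.card := h1
      _ ≤ Multiset.card (nthRoots N (1 : E)) := Multiset.toFinset_card_le _
      _ ≤ N := card_nthRoots N 1
  have hcard1 := Finset.card_le_mul_card_image E₁ N hfib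
  rw [hE₁card] at hcard1
  have hcard2 : (E₁.image χ).card ≤ Rf.card := Finset.card_le_card hsub
  -- arithmetic: `N * q^5 < q^10 - 1`
  have hNle : N ≤ q ^ 4 := by
    rw [hN]
    have h1 : q ^ 2 - 1 ≤ q ^ 2 := Nat.sub_le _ _
    have h2 : q + 1 ≤ q ^ 2 := by nlinarith
    calc (q + 1) * (q ^ 2 - 1) ≤ q ^ 2 * q ^ 2 := Nat.mul_le_mul h2 h1
      _ = q ^ 4 := by ring
  have hq5 : 32 ≤ q ^ 5 := by
    calc 32 = 2 ^ 5 := by norm_num
      _ ≤ q ^ 5 := Nat.pow_le_pow_left hq 5
  have hRf5 : q ^ 5 < Rf.card := by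
    by_contra hle
    push Not at hle
    have h1 : q ^ 10 - 1 ≤ q ^ 4 * q ^ 5 :=
      hcard1.trans (Nat.mul_le_mul hNle (hcard2.trans hle))
    have h2 : q ^ 10 = q * (q ^ 4 * q ^ 5) := by ring
    have h3 : 2 * (q ^ 4 * q ^ 5) ≤ q ^ 10 := by
      rw [h2]
      exact Nat.mul_le_mul_right _ hq
    have h4 : 32 ≤ q ^ 4 * q ^ 5 := by
      calc 32 ≤ q ^ 5 := hq5
        _ = 1 * q ^ 5 := (one_mul _).symm
        _ ≤ q ^ 4 * q ^ 5 := Nat.mul_le_mul_right _ (Nat.one_le_pow _ _ (by omega))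
    omega
  -- the injection `R × R → E`
  have hinj : (Rf ×ˢ Rf).card ≤ (Finset.univ : Finset E).card := by
    apply Finset.card_le_card_of_injOn (fun p : E × E => p.1 + p.2 * x)
    · intro p _
      exact Finset.mem_coe.mpr (Finset.mem_univ _)
    · rintro ⟨r, s⟩ hp ⟨r', s'⟩ hp' heq
      rw [Finset.mem_coe, Finset.mem_product] at hp hp'
      have hr : r ∈ R := (hmemRf r).mp hp.1
      have hs : s ∈ R := (hmemRf s).mp hp.2
      have hr' : r' ∈ R := (hmemRf r').mp hp'.1
      have hs' : s' ∈ R := (hmemRf s').mp hp'.2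
      have heq' : r + s * x = r' + s' * x := heq
      have hss : s = s' := by
        by_contra hss
        have hd : s - s' ≠ 0 := sub_ne_zero.mpr hss
        apply hx
        have hx' : x = (r' - r) * (s - s')⁻¹ := by
          rw [eq_mul_inv_iff_mul_eq₀ hd]
          linear_combination heq'
        rw [hx']
        exact R.mul_mem (R.sub_mem hr' hr) (hRinv _ (R.sub_mem hs hs') hd)
      subst hss
      have hrr : r = r' := add_right_cancel heq'
      rw [hrr]
  rw [Finset.card_product, Finset.card_univ, hcardE] at hinj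
  have h10 : q ^ 10 = q ^ 5 * q ^ 5 := by ring
  have hlt : q ^ 5 * q ^ 5 < Rf.card * Rf.card := Nat.mul_lt_mul_of_lt_of_lt hRf5 hRf5
  omega

end Cfsg.Agent.Lib.Helper16.C3qModLeaf
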