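import Mathlib
import Cfsg.Prelude.Def_Classical
import Cfsg.Prelude.Def_ClassicalGeometry
import Cfsg.Prelude.Def_GeometricClasses
import Cfsg.Agent.Lib.Helper5.SUMax
import Cfsg.Agent.Lib.Helper5.UForm
import Cfsg.Agent.Lib.Helper16.C3uDefs
import Cfsg.Agent.Lib.Helper13.C3qDefs
import Cfsg.Agent.Lib.Helper13.C3qMDefs
import Cfsg.Agent.Lib.Helper12.C3uF

/-!
S5840 C3 rank one, module theorem MOD (helper13's sub-market C3qM, notes/S5840_C3_MOD_leaves.lean):
leaf M6 `proj` = projection of an element `∑ tw (a i) i` of the additive group `𝒳` onto the components in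
`I` by an operator polynomial `g(ρ)`, `ρ X = k₀ X (k₀ ·)`, whose coefficients lie in `F₀ = {s | s ^ q = s}`.
By-products: `exists_frobQ` (`x ↦ x ^ q` is a ring endomorphism of `E`), `exists_of_pow_q_eq`
(`s ^ q = s` in `E` implies `s ∈ F`).
-/

set_option autoImplicit false
set_option linter.unusedSectionVars false
set_option linter.unusedVariables false

namespace Cfsg.Agent.Lib.Helper16.C3qModLeaf
open Cfsg Matrix Module Cfsg.Agent.Lib.Helper16.C3u Cfsg.Agent.Lib.Helper13.C3q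
open Polynomial

universe u
variable {F : Type u} [Field F] [Fintype F] {n q : ℕ} {E : Type u} [Field E] [Algebra F E]

/-- `x ↦ x ^ q` is a ring endomorphism of `E` -/
theorem exists_frobQ (hF : Fintype.card F = q ^ 2) : ∃ σ : E →+* E, ∀ x, σ x = x ^ q := by
  obtain ⟨p, hchar⟩ := CharP.exists F
  obtain ⟨k, hp, hcard⟩ := FiniteField.card F p
  haveI : Fact p.Prime := ⟨hp⟩
  haveI : CharP E p := charP_of_injective_algebraMap (algebraMap F E).injective p
  have hdvd : q ∣ p ^ (k : ℕ) := by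
    rw [← hcard, hF]
    exact dvd_pow_self q two_ne_zero
  obtain ⟨j, -, hj⟩ := (Nat.dvd_prime_pow hp).1 hdvd
  refine ⟨iterateFrobenius E p j, fun x => ?_⟩
  rw [iterateFrobenius_def, hj]

/-- an element of `E` fixed by `x ↦ x ^ q` comes from an element of `F` fixed by `x ↦ x ^ q` -/
theorem exists_of_pow_q_eq (hF : Fintype.card F = q ^ 2) (s : E) (hs : s ^ q = s) :
    ∃ s' : F, s' ^ q = s' ∧ algebraMap F E s' = s := by
  classical
  have hcard1 : 1 < Fintype.card F := Fintype.one_lt_card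
  have hs2 : s ^ Fintype.card F = s := by rw [hF, pow_two, pow_mul, hs, hs]
  have hP0 : (X ^ Fintype.card F - X : E[X]) ≠ 0 := FiniteField.X_pow_card_sub_X_ne_zero E hcard1
  have hdeg : (X ^ Fintype.card F - X : E[X]).natDegree = Fintype.card F :=
    FiniteField.X_pow_card_sub_X_natDegree_eq E hcard1
  have hTcard : (Finset.univ.image (algebraMap F E)).card = Fintype.card F := by
    rw [Finset.card_image_of_injective _ (algebraMap F E).injective, Finset.card_univ]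
  have hroot : ∀ x : E, x ^ Fintype.card F = x →
      x ∈ (X ^ Fintype.card F - X : E[X]).roots.toFinset := by
    intro x hx
    rw [Multiset.mem_toFinset, mem_roots hP0, IsRoot.def, eval_sub, eval_pow, eval_X, hx, sub_self]
  have hsub : Finset.univ.image (algebraMap F E) ⊆
      (X ^ Fintype.card F - X : E[X]).roots.toFinset := by
    intro x hx
    obtain ⟨y, -, rfl⟩ := Finset.mem_image.mp hx
    apply hroot
    rw [← map_pow, FiniteField.pow_card]
  have hle : (X ^ Fintype.card F - X : E[X]).roots.toFinset.card ≤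
      (Finset.univ.image (algebraMap F E)).card := by
    rw [hTcard]
    calc (X ^ Fintype.card F - X : E[X]).roots.toFinset.card
        ≤ Multiset.card (X ^ Fintype.card F - X : E[X]).roots := Multiset.toFinset_card_le _
      _ ≤ (X ^ Fintype.card F - X : E[X]).natDegree := card_roots' _
      _ = Fintype.card F := hdeg
  have heq := Finset.eq_of_subset_of_card_le hsub hle
  have hsT : s ∈ Finset.univ.image (algebraMap F E) := by rw [heq]; exact hroot s hs2
  obtain ⟨s', -, hs'⟩ := Finset.mem_image.mp hsT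
  refine ⟨s', ?_, hs'⟩
  apply (algebraMap F E).injective
  rw [map_pow, hs', hs]

lemma tw_zero_left (i : ℕ) : (tw (0 : E) i : E →ₗ[F] E) = 0 := by
  ext x
  rw [tw_apply, zero_mul, LinearMap.zero_apply]

/-- **M6** projection by an operator polynomial with coefficients in `F₀`. -/
theorem proj (hF : Fintype.card F = q ^ 2) [FiniteDimensional F E] (𝒳 : AddSubgroup (E →ₗ[F] E))
    (hs : ∀ s : F, s ^ q = s → ∀ X ∈ 𝒳, s • X ∈ 𝒳) (k₀ : E) (hk0 : k₀ ^ (q ^ 5) = k₀)
    (hρ : ∀ X ∈ 𝒳, (LinearMap.mulLeft F k₀) ∘ₗ X ∘ₗ (LinearMap.mulLeft F k₀) ∈ 𝒳)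
    (a : ℕ → E) (hX : ∑ i ∈ Finset.range 5, (tw (a i) i : E →ₗ[F] E) ∈ 𝒳) (I : Finset ℕ)
    (hI : I ⊆ Finset.range 5)
    (hsep : ∀ i ∈ I, ∀ i' ∈ Finset.range 5 \ I, ∀ j < 5,
      k₀ * (fr F E ^ i) k₀ ≠ (k₀ * (fr F E ^ i') k₀) ^ (q ^ j)) :
    ∃ γ : ℕ → E, (∀ i ∈ I, γ i ≠ 0) ∧ ∑ i ∈ I, (tw (γ i * a i) i : E →ₗ[F] E) ∈ 𝒳 := by
  classical
  obtain ⟨σ, hσ⟩ := exists_frobQ (E := E) hF
  obtain ⟨c, hc⟩ : ∃ c : ℕ → E, c = fun i => k₀ * (fr F E ^ i) k₀ := ⟨_, rfl⟩
  have hci : ∀ i, c i = k₀ * (fr F E ^ i) k₀ := fun i => by rw [hc]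
  have hc5 : ∀ i, (c i) ^ (q ^ 5) = c i := by
    intro i
    rw [hci, mul_pow, ← map_pow, hk0]
  obtain ⟨g, hg⟩ : ∃ g : E[X], g = ∏ i' ∈ Finset.range 5 \ I, ∏ j ∈ Finset.range 5,
      (X - C ((c i') ^ (q ^ j))) := ⟨_, rfl⟩
  -- invariance of `g` under the coefficientwise Frobenius
  have hinv : g.map σ = g := by
    rw [hg, Polynomial.map_prod]
    apply Finset.prod_congr rfl
    intro i' _
    rw [Polynomial.map_prod]
    have h1 : ∀ j, (X - C ((c i') ^ (q ^ j)) : E[X]).map σ = X - C ((c i') ^ (q ^ (j + 1))) := by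
      intro j
      rw [Polynomial.map_sub, Polynomial.map_X, Polynomial.map_C, hσ, ← pow_mul, ← pow_succ]
    rw [Finset.prod_congr rfl (fun j _ => h1 j)]
    have h5 : (X - C ((c i') ^ (q ^ 5)) : E[X]) = X - C ((c i') ^ (q ^ 0)) := by
      rw [hc5, pow_zero, pow_one]
    have e1 := Finset.prod_range_succ' (fun j => (X - C ((c i') ^ (q ^ j)) : E[X])) 5
    have e2 := Finset.prod_range_succ (fun j => (X - C ((c i') ^ (q ^ j)) : E[X])) 5
    have hf0 : (X - C ((c i') ^ (q ^ 0)) : E[X]) ≠ 0 := X_sub_C_ne_zero _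
    have h3 : (∏ j ∈ Finset.range 5, (X - C ((c i') ^ (q ^ (j + 1))) : E[X])) *
        (X - C ((c i') ^ (q ^ 0))) =
        (∏ j ∈ Finset.range 5, (X - C ((c i') ^ (q ^ j)) : E[X])) *
        (X - C ((c i') ^ (q ^ 0))) := by
      rw [← e1, e2, h5]
    exact mul_right_cancel₀ hf0 h3
  have hcoef : ∀ m, (g.coeff m) ^ q = g.coeff m := by
    intro m
    rw [← hσ, ← Polynomial.coeff_map, hinv]
  choose s' hs'q hs' using fun m => exists_of_pow_q_eq hF (g.coeff m) (hcoef m)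
  -- the operators `ρ^m`
  have hRmem : ∀ m : ℕ, ∀ X ∈ 𝒳,
      LinearMap.mulLeft F (k₀ ^ m) ∘ₗ X ∘ₗ LinearMap.mulLeft F (k₀ ^ m) ∈ 𝒳 := by
    intro m
    induction m with
    | zero =>
      intro X hX
      have h0 : LinearMap.mulLeft F (k₀ ^ 0) ∘ₗ X ∘ₗ LinearMap.mulLeft F (k₀ ^ 0) = X := by
        ext x
        simp only [LinearMap.comp_apply, LinearMap.mulLeft_apply, pow_zero, one_mul]
      rw [h0]
      exact hX
    | succ m ih =>
      intro X hX
      have h1 := hρ _ (ih X hX)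
      have h2 : LinearMap.mulLeft F (k₀ ^ (m + 1)) ∘ₗ X ∘ₗ LinearMap.mulLeft F (k₀ ^ (m + 1)) =
          LinearMap.mulLeft F k₀ ∘ₗ
            (LinearMap.mulLeft F (k₀ ^ m) ∘ₗ X ∘ₗ LinearMap.mulLeft F (k₀ ^ m)) ∘ₗ
            LinearMap.mulLeft F k₀ := by
        ext x
        simp only [LinearMap.comp_apply, LinearMap.mulLeft_apply, pow_succ]
        rw [mul_assoc (k₀ ^ m) k₀ x]
        ring
      rw [h2]
      exact h1
  have hRtw : ∀ (m : ℕ) (b : E) (i : ℕ),
      LinearMap.mulLeft F (k₀ ^ m) ∘ₗ (tw b i : E →ₗ[F] E) ∘ₗ LinearMap.mulLeft F (k₀ ^ m) =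
        tw ((c i) ^ m * b) i := by
    intro m b i
    rw [tw_conj, hci, mul_pow, ← map_pow]
  -- the element `g(ρ) X₀`
  obtain ⟨X₀, hX₀⟩ : ∃ X₀ : E →ₗ[F] E, X₀ = ∑ i ∈ Finset.range 5, (tw (a i) i : E →ₗ[F] E) :=
    ⟨_, rfl⟩
  rw [← hX₀] at hX
  have hYmem : ∑ m ∈ Finset.range (g.natDegree + 1),
      s' m • (LinearMap.mulLeft F (k₀ ^ m) ∘ₗ X₀ ∘ₗ LinearMap.mulLeft F (k₀ ^ m)) ∈ 𝒳 :=
    𝒳.sum_mem (fun m _ => hs _ (hs'q m) _ (hRmem m X₀ hX))
  have hRsum : ∀ m : ℕ, LinearMap.mulLeft F (k₀ ^ m) ∘ₗ X₀ ∘ₗ LinearMap.mulLeft F (k₀ ^ m) =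
      ∑ i ∈ Finset.range 5, (tw ((c i) ^ m * a i) i : E →ₗ[F] E) := by
    intro m
    rw [hX₀]
    ext x
    simp only [LinearMap.comp_apply, LinearMap.sum_apply, LinearMap.mulLeft_apply, tw_apply,
      Finset.mul_sum, map_mul]
    apply Finset.sum_congr rfl
    intro i _
    rw [hci, mul_pow, ← map_pow]
    ring
  have hY : ∑ m ∈ Finset.range (g.natDegree + 1),
      s' m • (LinearMap.mulLeft F (k₀ ^ m) ∘ₗ X₀ ∘ₗ LinearMap.mulLeft F (k₀ ^ m)) =
      ∑ i ∈ Finset.range 5, (tw (g.eval (c i) * a i) i : E →ₗ[F] E) := by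
    ext x
    simp only [hRsum, LinearMap.sum_apply, LinearMap.smul_apply, tw_apply, Finset.smul_sum]
    rw [Finset.sum_comm]
    apply Finset.sum_congr rfl
    intro i _
    rw [Polynomial.eval_eq_sum_range, Finset.sum_mul, Finset.sum_mul]
    apply Finset.sum_congr rfl
    intro m _
    rw [Algebra.smul_def, hs' m]
    ring
  rw [hY] at hYmem
  refine ⟨fun i => g.eval (c i), ?_, ?_⟩
  · intro i hi
    show g.eval (c i) ≠ 0
    rw [hg, Polynomial.eval_prod]
    apply Finset.prod_ne_zero_iff.mpr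
    intro i' hi'
    rw [Polynomial.eval_prod]
    apply Finset.prod_ne_zero_iff.mpr
    intro j hj
    rw [eval_sub, eval_X, eval_C, sub_ne_zero, hci, hci]
    exact hsep i hi i' hi' j (Finset.mem_range.mp hj)
  · have hzero : ∀ i ∈ Finset.range 5 \ I, (tw (g.eval (c i) * a i) i : E →ₗ[F] E) = 0 := by
      intro i hi
      have h0 : g.eval (c i) = 0 := by
        rw [hg, Polynomial.eval_prod]
        apply Finset.prod_eq_zero hi
        rw [Polynomial.eval_prod]
        apply Finset.prod_eq_zero (Finset.mem_range.mpr (by norm_num : 0 < 5))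
        rw [eval_sub, eval_X, eval_C, pow_zero, pow_one, sub_self]
      rw [h0, zero_mul, tw_zero_left]
    rw [← Finset.sum_sdiff hI, Finset.sum_eq_zero hzero, zero_add] at hYmem
    exact hYmem

end Cfsg.Agent.Lib.Helper16.C3qModLeaf
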