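import Mathlib
import Cfsg.Prelude.Def_Classical
import Cfsg.Prelude.Def_ClassicalGeometry
import Cfsg.Prelude.Def_GeometricClasses
import Cfsg.Agent.Lib.Helper5.SUMax
import Cfsg.Agent.Lib.Helper5.UForm
import Cfsg.Agent.Lib.Helper22.C3LDefs
import Cfsg.Agent.Lib.Helper22.C3LTool
import Cfsg.Agent.Lib.Helper16.C3uDefs
import Cfsg.Agent.Lib.Helper13.C3qDefs
import Cfsg.Agent.Lib.Helper20.C3uL0
import Cfsg.Agent.Lib.Helper17.C3uPx
import Cfsg.Agent.Lib.Helper12.C3uF
import Cfsg.Agent.Lib.Helper12.C3uW0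
import Cfsg.Agent.Lib.Helper26.C3uW1
import Cfsg.Agent.Lib.Helper6.C3uE1

/-!
S5840 C3 rank one (helper13's market C3q, notes/S5840_C3_leaves.lean): leaf FIN `line_mem_Sset`.
-/

set_option autoImplicit false
set_option linter.unusedSectionVars false
set_option linter.unusedVariables false

namespace Cfsg.Agent.Lib.Helper16.C3qLeaf
open Cfsg Matrix Module Cfsg.Agent.Lib.Helper5.SpMax Cfsg.Agent.Lib.Helper5.SUMax
  Cfsg.Agent.Lib.Helper22.C3L Cfsg.Agent.Lib.Helper16.C3u Cfsg.Agent.Lib.Helper13.C3q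

universe u
variable {F : Type u} [Field F] [Fintype F] {n q : ℕ} {E : Type u} [Field E] [Algebra F E]

local notation "𝕍" => (Fin n → F)
local notation "𝕄" => Matrix (Fin n) (Fin n) F
local notation "ℍ" => (Cfsg.GU n F q ⊓ Cfsg.Geo.specialLinear (Fin n) F)

/-- **FIN** if all rank-one skew-adjoint maps are in `XX`, every point of the base line is a
centre of `M` -/
theorem line_mem_Sset (S : KU n q F E) (hF : Fintype.card F = q ^ 2) [FiniteDimensional F E]
    (hd : 2 * finrank F E = n) (M : Subgroup (GL (Fin n) F)) {v₀ : 𝕍} (hv₀ : v₀ ≠ 0)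
    (hiso : S.fE v₀ v₀ = 0)
    (hall : ∀ (π : E) (c : F), c ^ q = -c →
      c • rk1 S π ∈ XX S.ρ M (lam S v₀) v₀ (lam_self S hiso))
    (π : E) : act S.ρ π v₀ ∈ Sset hF M := by
  intro c hc g hg
  rw [Cfsg.Agent.Lib.Helper5.HermBridge.frobQ_apply] at hc
  obtain ⟨y, hyM, hy⟩ := mem_XX.mp (hall π c hc)
  have hgy : g = y := by
    apply Units.ext
    apply mat_eq_of_mulVec
    intro x
    rw [hg x, hy, Matrix.add_mulVec, Matrix.one_mulVec, uXMat_mulVec, LinearMap.smul_apply,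
      rk1_apply, lam_apply, S.form_eq', S.fE_act_right, smul_smul, act_smul]
  rw [hgy]
  exact hyM

end Cfsg.Agent.Lib.Helper16.C3qLeaf
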