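import Mathlib
import Cfsg.Prelude.Def_Classical
import Cfsg.Prelude.Def_ClassicalGeometry
import Cfsg.Prelude.Def_GeometricClasses
import Cfsg.Agent.Lib.Helper5.SUMax
import Cfsg.Agent.Lib.Helper5.UForm
import Cfsg.Agent.Lib.Helper22.C3LDefs
import Cfsg.Agent.Lib.Helper22.C3LTool
import Cfsg.Agent.Lib.Helper16.C3uDefs
import Cfsg.Agent.Lib.Helper13.C3qDefs
import Cfsg.Agent.Lib.Helper20.C3uL0
import Cfsg.Agent.Lib.Helper17.C3uPx
import Cfsg.Agent.Lib.Helper12.C3uF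
import Cfsg.Agent.Lib.Helper12.C3uW0
import Cfsg.Agent.Lib.Helper26.C3uW1
import Cfsg.Agent.Lib.Helper6.C3uE1

/-!
S5840 C3 rank one (helper13's market C3q, notes/S5840_C3_leaves.lean): leaf TOR2 `skewAdj_of_mem_XX`.
-/

set_option autoImplicit false
set_option linter.unusedSectionVars false
set_option linter.unusedVariables false

namespace Cfsg.Agent.Lib.Helper16.C3qLeaf
open Cfsg Matrix Module Cfsg.Agent.Lib.Helper5.SpMax Cfsg.Agent.Lib.Helper5.SUMax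
  Cfsg.Agent.Lib.Helper22.C3L Cfsg.Agent.Lib.Helper16.C3u Cfsg.Agent.Lib.Helper13.C3q

universe u
variable {F : Type u} [Field F] [Fintype F] {n q : ℕ} {E : Type u} [Field E] [Algebra F E]

local notation "𝕍" => (Fin n → F)
local notation "𝕄" => Matrix (Fin n) (Fin n) F
local notation "ℍ" => (Cfsg.GU n F q ⊓ Cfsg.Geo.specialLinear (Fin n) F)

/-- **TOR2** the elements of `XX` are skew-adjoint (`M ≤ GU`) -/
theorem skewAdj_of_mem_XX (S : KU n q F E) (hF : Fintype.card F = q ^ 2) [FiniteDimensional F E]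
    (hd : 2 * finrank F E = n) (M : Subgroup (GL (Fin n) F)) (hMS : M ≤ ℍ)
    {v₀ : 𝕍} (hv₀ : v₀ ≠ 0) (hiso : S.fE v₀ v₀ = 0) {X : E →ₗ[F] E}
    (hX : X ∈ XX S.ρ M (lam S v₀) v₀ (lam_self S hiso)) : SkewAdj S X := by
  obtain ⟨y, hyM, hy⟩ := mem_XX.mp hX
  have hyU := mem_GU.mp (hMS hyM).1
  obtain ⟨v₁, h1, h01⟩ := Cfsg.Agent.Lib.Helper26.C3uLeaf.exists_partner S hF hv₀ hiso
  have h10 : S.fE v₁ v₀ = 1 := by rw [S.herm v₀ v₁, h01, map_one]
  have hyx : ∀ x : 𝕍, (y : 𝕄) *ᵥ x = x + act S.ρ (X (S.fE x v₀)) v₀ := by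
    intro x
    rw [hy, Matrix.add_mulVec, Matrix.one_mulVec, uXMat_mulVec, lam_apply]
  intro e e'
  have key := hyU (act S.ρ e v₁) (act S.ρ e' v₁)
  rw [hyx, hyx, S.fE_act_left, S.fE_act_left, h10, mul_one, mul_one] at key
  have hf := Cfsg.Agent.Lib.Helper5.HermBridge.herm_unitary (n := n) hF
  rw [hf.add_left, Cfsg.Agent.Lib.Helper5.UForm.u_add_right hf,
    Cfsg.Agent.Lib.Helper5.UForm.u_add_right hf] at key
  have e1 : Cfsg.hermForm n F q (act S.ρ (X e) v₀) (act S.ρ (X e') v₀) = 0 := by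
    rw [S.form_eq', S.fE_act_left, S.fE_act_right, hiso, mul_zero, mul_zero, map_zero]
  have e2 : Cfsg.hermForm n F q (act S.ρ (X e) v₀) (act S.ρ e' v₁) = S.τ (X e * S.st e') := by
    rw [S.form_eq', S.fE_act_left, S.fE_act_right, h01, mul_one]
  have e3 : Cfsg.hermForm n F q (act S.ρ e v₁) (act S.ρ (X e') v₀) = S.τ (e * S.st (X e')) := by
    rw [S.form_eq', S.fE_act_left, S.fE_act_right, h10, mul_one]
  rw [e1, e2, e3] at key
  linear_combination key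

end Cfsg.Agent.Lib.Helper16.C3qLeaf
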