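/-
helper16: S4637 sub-leaf (SCC) of helper24's (SC): representatives of the conjugacy classes of
`p`-elements.
-/
import Mathlib

set_option autoImplicit false

namespace Cfsg.Agent.Lib.Helper16.KleinSCC

universe u

theorem orderOf_eq_of_isConj {G : Type u} [Group G] {a b : G} (h : IsConj a b) :
    orderOf a = orderOf b := by
  obtain ⟨c, hc⟩ := isConj_iff.mp h
  rw [← hc]
  exact ((MulAut.conj c).orderOf_eq a).symm

/-- (SCC) representatives of the conjugacy classes of `p`-elements. -/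
theorem exists_pElement_reps {G : Type u} [Group G] [Fintype G] (p : ℕ) :
    ∃ X : Finset G, (∀ x ∈ X, ∃ k : ℕ, orderOf x = p ^ k) ∧
      ∀ g : G, (∃ k : ℕ, orderOf g = p ^ k) → ∃! x, x ∈ X ∧ IsConj g x := by
  classical
  have hex : ∀ c : ConjClasses G, ∃ x : G, ConjClasses.mk x = c := fun c =>
    ConjClasses.exists_rep c
  choose r hr using hex
  have hfin : Finite (ConjClasses G) := Finite.of_surjective _ (@ConjClasses.mk_surjective G _)
  let _ : Fintype (ConjClasses G) := Fintype.ofFinite _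
  let Y : Finset G := (Finset.univ : Finset (ConjClasses G)).image r
  let X : Finset G := Y.filter (fun x => ∃ k : ℕ, orderOf x = p ^ k)
  have hXmem : ∀ x : G, x ∈ X ↔ (x ∈ Y ∧ ∃ k : ℕ, orderOf x = p ^ k) := fun x =>
    Finset.mem_filter
  have hYmem : ∀ x : G, x ∈ Y ↔ ∃ c : ConjClasses G, r c = x := by
    intro x
    constructor
    · intro hx
      obtain ⟨c, -, hc⟩ := Finset.mem_image.mp hx
      exact ⟨c, hc⟩
    · rintro ⟨c, hc⟩
      exact Finset.mem_image.mpr ⟨c, Finset.mem_univ _, hc⟩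
  refine ⟨X, fun x hx => ((hXmem x).mp hx).2, ?_⟩
  intro g hg
  have h0 : IsConj g (r (ConjClasses.mk g)) := by
    rw [← ConjClasses.mk_eq_mk_iff_isConj, hr]
  have hmem : r (ConjClasses.mk g) ∈ X := by
    rw [hXmem]
    refine ⟨(hYmem _).mpr ⟨_, rfl⟩, ?_⟩
    obtain ⟨k, hk⟩ := hg
    exact ⟨k, by rw [← orderOf_eq_of_isConj h0, hk]⟩
  refine ⟨r (ConjClasses.mk g), ⟨hmem, h0⟩, ?_⟩
  rintro x ⟨hxX, hgx⟩
  obtain ⟨c, rfl⟩ := (hYmem x).mp ((hXmem x).mp hxX).1
  have h1 : ConjClasses.mk g = c := by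
    rw [← hr c]
    exact ConjClasses.mk_eq_mk_iff_isConj.mpr hgx
  rw [h1]

end Cfsg.Agent.Lib.Helper16.KleinSCC
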