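import Mathlib
import Cfsg.Agent.Lib.Helper16.FusGen

set_option autoImplicit false

/-! Transport of the simplicity criterion `isSimple_of_subgroup_gen` along an isomorphism of
groups. -/

namespace Cfsg.Agent.Lib.Helper16.FusGen

open Cfsg Cfsg.FusionSystem Cfsg.Agent.Lib.Helper26 Cfsg.Agent.Lib.Helper27
  Cfsg.Agent.Lib.Helper3.Fus

variable {G G' : Type*} [Group G] [Group G'] {p : ℕ}

theorem normalizer_map_iso (φ : G ≃* G') (H : Subgroup G) (z : G)
    (hz : z ∈ Subgroup.normalizer (H : Set G)) :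
    φ z ∈ Subgroup.normalizer ((H.map φ.toMonoidHom : Subgroup G') : Set G') := by
  rw [Subgroup.mem_normalizer_iff] at hz ⊢
  intro w
  constructor
  · rintro ⟨v, hv, rfl⟩
    refine ⟨z * v * z⁻¹, (hz v).mp hv, ?_⟩
    show φ (z * v * z⁻¹) = φ z * φ v * (φ z)⁻¹
    rw [map_mul, map_mul, map_inv]
  · rintro ⟨v, hv, hvw⟩
    have hvw' : φ v = φ z * w * (φ z)⁻¹ := hvw
    refine ⟨z⁻¹ * v * z, ?_, ?_⟩
    · apply (hz (z⁻¹ * v * z)).mpr
      have : z * (z⁻¹ * v * z) * z⁻¹ = v := by group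
      rw [this]
      exact hv
    · show φ (z⁻¹ * v * z) = w
      rw [map_mul, map_mul, map_inv, hvw']
      group

/-- `GenSet` is compatible with isomorphisms -/
theorem genSet_map_iso (S : Subgroup G) (φ : G ≃* G') {y : G} (hy : y ∈ GenSet p S) :
    φ y ∈ GenSet p (S.map φ.toMonoidHom) := by
  obtain ⟨hyS, Q, hQS, hN, hC, hyc⟩ := hy
  refine ⟨normalizer_map_iso φ S y hyS, Q.map φ.toMonoidHom, Subgroup.map_mono hQS, ?_, ?_, ?_⟩
  · rintro _ ⟨s, hs, rfl⟩
    exact normalizer_map_iso φ Q s (hN hs)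
  · intro w hw
    rw [mem_centralizerIn_iff] at hw
    obtain ⟨⟨s, hs, rfl⟩, hcomm⟩ := hw
    refine ⟨s, hC ?_, rfl⟩
    rw [mem_centralizerIn_iff]
    refine ⟨hs, fun u hu => ?_⟩
    have h1 := hcomm (φ u) ⟨u, hu, rfl⟩
    apply φ.injective
    rw [map_mul, map_mul]
    exact h1
  · have h1 : φ.toMonoidHom y ∈ (Subgroup.closure
        {y | y ∈ Subgroup.normalizer (Q : Set G) ∧ ∃ k : ℕ, orderOf y = p ^ k}).map
        φ.toMonoidHom := ⟨y, hyc, rfl⟩
    rw [MonoidHom.map_closure] at h1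
    refine Subgroup.closure_mono ?_ h1
    rintro _ ⟨z, ⟨hzQ, k, hk⟩, rfl⟩
    refine ⟨normalizer_map_iso φ Q z hzQ, k, ?_⟩
    rw [← hk]
    exact MulEquiv.orderOf_eq φ z

/-- the simplicity criterion, transported along an isomorphism -/
theorem isSimple_of_iso [Finite G] [Finite G'] [Fact p.Prime] (φ : G ≃* G') (S₀ : Subgroup G)
    (hcard : Nat.card S₀ = p ^ (Nat.card G).factorization p)
    (h1 : S₀ ≠ ⊥)
    (h2 : ∀ g ∈ Subgroup.normalizer (S₀ : Set G), g ∈ Subgroup.closure (GenSet p S₀))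
    (h3 : ∀ T : Subgroup G, T ≤ S₀ → T ≠ ⊥ → FClosed S₀ T → T = S₀)
    (S : Sylow p G') : (groupFusionSystem (S : Subgroup G')).IsSimple p := by
  apply isSimple_of_subgroup_gen (S₀.map φ.toMonoidHom) ?_ ?_ ?_ ?_ S
  · rw [Subgroup.card_map_of_injective φ.injective, hcard, Nat.card_congr φ.toEquiv]
  · intro h
    apply h1
    exact (Subgroup.map_eq_bot_iff_of_injective S₀ φ.injective).mp h
  · intro g' hg'
    have hg : φ.symm g' ∈ Subgroup.normalizer (S₀ : Set G) := by
      have h4 := normalizer_map_iso φ.symm (S₀.map φ.toMonoidHom) g' hg'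
      have h5 : (S₀.map φ.toMonoidHom).map φ.symm.toMonoidHom = S₀ := by
        ext x
        constructor
        · rintro ⟨_, ⟨y, hy, rfl⟩, rfl⟩
          show φ.symm (φ y) ∈ S₀
          rw [φ.symm_apply_apply]
          exact hy
        · intro hx
          exact ⟨φ x, ⟨x, hx, rfl⟩, φ.symm_apply_apply x⟩
      rw [h5] at h4
      exact h4
    have h4 := h2 _ hg
    have h5 : φ.toMonoidHom (φ.symm g') ∈ (Subgroup.closure (GenSet p S₀)).map φ.toMonoidHom :=
      ⟨_, h4, rfl⟩
    have e : φ.toMonoidHom (φ.symm g') = g' := φ.apply_symm_apply g'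
    rw [e, MonoidHom.map_closure] at h5
    refine Subgroup.closure_mono ?_ h5
    rintro _ ⟨z, hz, rfl⟩
    exact genSet_map_iso S₀ φ hz
  · intro T' hT' hne' hcl'
    have hT : T'.comap φ.toMonoidHom ≤ S₀ := by
      intro x hx
      obtain ⟨y, hy, hyx⟩ := hT' (Subgroup.mem_comap.mp hx)
      have : y = x := φ.injective hyx
      rw [← this]
      exact hy
    have hne : T'.comap φ.toMonoidHom ≠ ⊥ := by
      intro h
      apply hne'
      rw [Subgroup.eq_bot_iff_forall] at h ⊢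
      intro x' hx'
      have h4 : φ.symm x' ∈ T'.comap φ.toMonoidHom := by
        rw [Subgroup.mem_comap]
        show φ (φ.symm x') ∈ T'
        rw [φ.apply_symm_apply]
        exact hx'
      have h5 := h _ h4
      have h6 : φ (φ.symm x') = φ 1 := by rw [h5]
      rw [φ.apply_symm_apply, map_one] at h6
      exact h6
    have hcl : FClosed S₀ (T'.comap φ.toMonoidHom) := by
      intro x hx g hg
      rw [Subgroup.mem_comap] at hx ⊢
      have h4 := hcl' _ hx (φ g) (by
        refine ⟨g * x * g⁻¹, hg, ?_⟩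
        show φ (g * x * g⁻¹) = φ g * φ x * (φ g)⁻¹
        rw [map_mul, map_mul, map_inv])
      show φ (g * x * g⁻¹) ∈ T'
      rw [map_mul, map_mul, map_inv]
      exact h4
    have hEq := h3 _ hT hne hcl
    apply le_antisymm hT'
    rintro _ ⟨x, hx, rfl⟩
    rw [← hEq] at hx
    exact hx

end Cfsg.Agent.Lib.Helper16.FusGen
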