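import Mathlib
import Cfsg.Agent.Lib.Helper16.FusSUG

set_option autoImplicit false

/-! The center of the unitriangular subgroup of the unitary group `UJ σ n`. -/

namespace Cfsg.Agent.Lib.Helper16.FusSU

open Matrix

open Cfsg.Agent.Lib.Helper18.PSLnAut (IsUni unitri mem_unitri isPGroup_unitri)

variable {K : Type*} [Field K] {n : ℕ}

/-- existence of the last parameter of a Heisenberg element -/
theorem exists_valid {σ : K →+* K} (hσ : InvOK σ) (v : Fin n → K) :
    ∃ b, b + σ b + v ⬝ᵥ sh σ v = 0 := by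
  have hfix : σ (-(v ⬝ᵥ sh σ v)) = -(v ⬝ᵥ sh σ v) := by rw [map_neg, dot_sh_comm hσ.invol]
  obtain ⟨z, hz⟩ := hσ.tr _ hfix
  exact ⟨z, by rw [hz, neg_add_cancel]⟩

theorem Hq_apply_row (σ : K →+* K) (r : Fin n) (hr : r ≠ r.rev) (v : Fin n → K) (hv : v r = 0)
    (b : K) (y : Fin n) (hy : y ≠ r.rev) :
    ((Hq σ r hr v hv b : SpecialLinearGroup (Fin n) K) : Matrix (Fin n) (Fin n) K) r y =
      (1 : Matrix (Fin n) (Fin n) K) r y + v y := by
  rw [Hq_coe, Matrix.add_apply, hN_apply, if_pos rfl, if_neg hy, if_neg (fun h => hy h.2), sub_zero,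
    add_zero]

theorem Hq_apply_rr (σ : K →+* K) (r : Fin n) (hr : r ≠ r.rev) (v : Fin n → K) (hv : v r = 0)
    (b : K) :
    ((Hq σ r hr v hv b : SpecialLinearGroup (Fin n) K) : Matrix (Fin n) (Fin n) K) r r.rev =
      v r.rev - σ (v r.rev) + b := by
  rw [Hq_coe, Matrix.add_apply, Matrix.one_apply_ne hr, hN_apply, if_pos rfl, if_pos rfl,
    if_pos ⟨rfl, rfl⟩, zero_add]

/-- a Heisenberg element fixes the basis vectors outside of its support -/
theorem Hq_mulVec_single (σ : K →+* K) (r : Fin n) (hr : r ≠ r.rev) (v : Fin n → K) (hv : v r = 0)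
    (b : K) (s : Fin n) (hs : s ≠ r.rev) (hvs : v s = 0) :
    ((Hq σ r hr v hv b : SpecialLinearGroup (Fin n) K) : Matrix (Fin n) (Fin n) K) *ᵥ
      Pi.single s 1 = Pi.single s 1 := by
  funext x
  rw [Matrix.mulVec_single_one, Matrix.col_apply, Hq_coe, Matrix.add_apply, hN_apply, hvs,
    ite_self, if_neg hs, if_neg (fun h : x = r ∧ s = r.rev => hs h.2), sub_zero, add_zero, add_zero,
    Matrix.one_apply, Pi.single_apply]

/-- the first column of a unitriangular matrix -/
theorem isUni_mulVec_single {M : Matrix (Fin n) (Fin n) K} (hM : IsUni M) (r0 : Fin n)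
    (h0 : r0.val = 0) : M *ᵥ Pi.single r0 1 = (1 : K) • Pi.single r0 1 := by
  funext x
  rw [Matrix.mulVec_single_one, Matrix.col_apply, one_smul, Pi.single_apply]
  by_cases hx : x = r0
  · rw [if_pos hx, hx, hM.2]
  · rw [if_neg hx]
    apply hM.1
    rw [Fin.lt_def, h0]
    have : x.val ≠ 0 := fun h => hx (Fin.ext (by rw [h, h0]))
    omega

/-- the central elements of the unitriangular subgroup are the elements of the highest root
subgroup -/
theorem central_eq_Hq [Finite K] {σ : K →+* K} (hσ : InvOK σ)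
    {u : SpecialLinearGroup (Fin n) K} (hu : u ∈ UJ σ n) (huU : u ∈ unitri n K)
    (hc : ∀ w, w ∈ UJ σ n → w ∈ unitri n K → u * w = w * u)
    (r0 : Fin n) (h0 : r0.val = 0) (hr0 : r0 ≠ r0.rev) :
    ∃ b, b + σ b = 0 ∧ u = Hq σ r0 hr0 0 (Pi.zero_apply r0) b := by
  have hrr : r0 < r0.rev := by
    rcases lt_or_gt_of_ne hr0 with h | h
    · exact h
    · rw [Fin.lt_def, h0] at h
      omega
  have hle : ∀ y : Fin n, y ≤ r0 → y = r0 := by
    intro y hy
    apply Fin.ext
    rw [Fin.le_def, h0] at hy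
    omega
  have hUm : ∀ (v : Fin n → K) (hv : v r0 = 0) (β : K), β + σ β + v ⬝ᵥ sh σ v = 0 →
      Hq σ r0 hr0 v hv β ∈ UJ σ n ∧ Hq σ r0 hr0 v hv β ∈ unitri n K := by
    intro v hv β hβ
    refine ⟨Hq_mem hσ.invol r0 hr0 v hv β hβ, ?_⟩
    apply isUni_Hq σ hrr
    intro y hy
    rw [hle y hy, hv]
  have hfix := isUni_mulVec_single (mem_unitri.mp huU) r0 h0
  -- step 1
  have step1 : ∀ i y : Fin n, i ≠ r0 → y ≠ r0.rev →
      adj σ (u : Matrix (Fin n) (Fin n) K) i y = (1 : Matrix (Fin n) (Fin n) K) i y := by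
    intro i y hi hy
    have hv : (Pi.single i 1 : Fin n → K) r0 = 0 := Pi.single_eq_of_ne (Ne.symm hi) 1
    obtain ⟨β, hβ⟩ := exists_valid hσ (Pi.single i 1 : Fin n → K)
    obtain ⟨hX, hXU⟩ := hUm _ hv β hβ
    have hcomm := hc _ hX hXU
    have hw : ((1 : K) • ((Pi.single i 1 : Fin n → K) ᵥ*
        adj σ (u : Matrix (Fin n) (Fin n) K))) r0 = 0 := by
      rw [one_smul, Matrix.single_one_vecMul, Matrix.row_apply, adj_apply]
      have : (u : Matrix (Fin n) (Fin n) K) r0.rev i.rev = 0 := by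
        apply (mem_unitri.mp huU).1
        rw [Fin.rev_lt_rev]
        rcases lt_or_gt_of_ne hi with h | h
        · rw [Fin.lt_def, h0] at h
          omega
        · exact h
      rw [this, map_zero]
    have hconj := conj_Hq hσ.invol hu hr0 hr0 1 hfix _ hv β hw
    rw [hcomm, mul_inv_cancel_right] at hconj
    have h1 := congrArg (fun M : SpecialLinearGroup (Fin n) K =>
      (M : Matrix (Fin n) (Fin n) K) r0 y) hconj
    beta_reduce at h1
    rw [Hq_apply_row σ r0 hr0 _ _ _ y hy, Hq_apply_row σ r0 hr0 _ _ _ y hy] at h1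
    have h2 := add_left_cancel h1
    rw [one_smul, Matrix.single_one_vecMul, Matrix.row_apply] at h2
    rw [← h2, Pi.single_apply, Matrix.one_apply]
    by_cases h : i = y
    · rw [if_pos h, if_pos h.symm]
    · rw [if_neg h, if_neg (fun h' => h h'.symm)]
  have step1' : ∀ a b : Fin n, a ≠ r0 → b ≠ r0.rev →
      (u : Matrix (Fin n) (Fin n) K) a b = (1 : Matrix (Fin n) (Fin n) K) a b := by
    intro a b ha hb
    have h1 := step1 b.rev a.rev (fun h => hb (by rw [← h, Fin.rev_rev]))
      (fun h => ha (Fin.rev_injective h))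
    rw [adj_apply, Fin.rev_rev, Fin.rev_rev] at h1
    have h2 : (u : Matrix (Fin n) (Fin n) K) a b = σ ((1 : Matrix (Fin n) (Fin n) K) b.rev a.rev) := by
      rw [← h1, hσ.invol]
    rw [h2, Matrix.one_apply, Matrix.one_apply]
    by_cases h : a = b
    · rw [if_pos h, if_pos (by rw [h]), map_one]
    · rw [if_neg h, if_neg (fun h' => h (Fin.rev_injective h').symm), map_zero]
  -- step 2
  have step2 : ∀ x : Fin n, x ≠ r0 → x ≠ r0.rev →
      (u : Matrix (Fin n) (Fin n) K) x r0.rev = -σ ((u : Matrix (Fin n) (Fin n) K) r0 x.rev) := by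
    intro x hx hx'
    have h1 := congrFun (congrFun (mem_UJ.1 hu) x) r0.rev
    rw [Matrix.one_apply_ne hx', Matrix.mul_apply, Finset.sum_eq_add x r0.rev hx'] at h1
    · rw [adj_apply, adj_apply, Fin.rev_rev, (mem_unitri.mp huU).2, (mem_unitri.mp huU).2, map_one,
        one_mul, mul_one] at h1
      exact eq_neg_of_add_eq_zero_right h1
    · intro k _ hk
      rw [step1' x k hx hk.2, Matrix.one_apply_ne (Ne.symm hk.1), zero_mul]
    · intro h
      exact absurd (Finset.mem_univ x) h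
    · intro h
      exact absurd (Finset.mem_univ r0.rev) h
  -- step 3
  obtain ⟨a, hadef⟩ : ∃ a : Fin n → K, a = fun y =>
      if y = r0 ∨ y = r0.rev then 0 else (u : Matrix (Fin n) (Fin n) K) r0 y := ⟨_, rfl⟩
  have ha0 : a r0 = 0 := by rw [hadef]; exact if_pos (Or.inl rfl)
  have ha0' : a r0.rev = 0 := by rw [hadef]; exact if_pos (Or.inr rfl)
  have hane : ∀ y, y ≠ r0 → y ≠ r0.rev → a y = (u : Matrix (Fin n) (Fin n) K) r0 y := by
    intro y h1 h2
    rw [hadef]
    exact if_neg (fun h => h.elim h1 h2)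
  obtain ⟨b, hbdef⟩ : ∃ b : K, b = (u : Matrix (Fin n) (Fin n) K) r0 r0.rev := ⟨_, rfl⟩
  have step3 : u = Hq σ r0 hr0 a ha0 b := by
    apply Subtype.ext
    ext x y
    rw [Hq_coe, Matrix.add_apply, hN_apply]
    by_cases hx : x = r0
    · rw [hx, if_pos rfl]
      by_cases hy : y = r0.rev
      · rw [hy, if_pos rfl, if_pos ⟨rfl, rfl⟩, ha0', map_zero,
          Matrix.one_apply_ne hr0, hbdef]
        ring
      · rw [if_neg hy, if_neg (fun h => hy h.2), sub_zero, add_zero]
        by_cases hy0 : y = r0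
        · rw [hy0, ha0, add_zero, Matrix.one_apply_eq, (mem_unitri.mp huU).2]
        · rw [hane y hy0 hy, Matrix.one_apply_ne (Ne.symm hy0), zero_add]
    · rw [if_neg hx, if_neg (fun h : x = r0 ∧ y = r0.rev => hx h.1), add_zero, zero_sub]
      by_cases hy : y = r0.rev
      · rw [hy, if_pos rfl]
        by_cases hx' : x = r0.rev
        · rw [hx', Fin.rev_rev, ha0, map_zero, neg_zero, add_zero, Matrix.one_apply_eq,
            (mem_unitri.mp huU).2]
        · rw [step2 x hx hx', Matrix.one_apply_ne hx', zero_add,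
            hane x.rev (fun h => hx' (by rw [← h, Fin.rev_rev])) (fun h => hx (Fin.rev_injective h))]
      · rw [if_neg hy, neg_zero, add_zero]
        exact step1' x y hx hy
  -- step 4
  have step4 : ∀ (v : Fin n → K) (hv : v r0 = 0), a ⬝ᵥ sh σ v = v ⬝ᵥ sh σ a := by
    intro v hv
    obtain ⟨β, hβ⟩ := exists_valid hσ v
    obtain ⟨hX, hXU⟩ := hUm v hv β hβ
    have hcomm := hc _ hX hXU
    rw [step3, Hq_mul, Hq_mul] at hcomm
    have h1 := congrArg (fun M : SpecialLinearGroup (Fin n) K =>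
      (M : Matrix (Fin n) (Fin n) K) r0 r0.rev) hcomm
    beta_reduce at h1
    rw [Hq_apply_rr, Hq_apply_rr, Pi.add_apply, Pi.add_apply, add_comm (v r0.rev) (a r0.rev)] at h1
    linear_combination (-1 : K) * h1
  have hazero : a = 0 := by
    funext j
    rw [Pi.zero_apply]
    by_cases hj : j = r0.rev
    · rw [hj, ha0']
    · have hk : j.rev ≠ r0 := fun h => hj (by rw [← h, Fin.rev_rev])
      have key : ∀ θ : K, a j * σ θ = θ * σ (a j) := by
        intro θ
        have hv : (Pi.single j.rev θ : Fin n → K) r0 = 0 :=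
          Pi.single_eq_of_ne (M := fun _ => K) (Ne.symm hk) θ
        have h1 := step4 (Pi.single j.rev θ) hv
        rw [sh_single, Fin.rev_rev, dotProduct_single, single_dotProduct, sh_apply, Fin.rev_rev]
          at h1
        exact h1
      have h1 := key 1
      rw [map_one, mul_one, one_mul] at h1
      obtain ⟨θ, hθ⟩ := hσ.nt
      have h2 := key θ
      rw [← h1] at h2
      have h3 : a j * (σ θ - θ) = 0 := by linear_combination h2
      rcases mul_eq_zero.mp h3 with h | h
      · exact h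
      · exact absurd (sub_eq_zero.mp h) hθ
  have step5 : u = Hq σ r0 hr0 0 (Pi.zero_apply r0) b := by
    rw [step3]
    exact Hq_congr σ r0 hr0 _ _ hazero rfl
  refine ⟨b, ?_, step5⟩
  have h1 := UJ_inv_coe hu
  have h2 := congrFun (congrFun h1 r0) r0.rev
  rw [adj_apply, Fin.rev_rev] at h2
  have h3 : ((u⁻¹ : SpecialLinearGroup (Fin n) K) : Matrix (Fin n) (Fin n) K) r0 r0.rev = -b := by
    rw [step5, Hq_inv, Hq_apply_rr, Pi.neg_apply, Pi.zero_apply, zero_dotProduct, neg_zero,
      map_zero]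
    ring
  rw [h3, ← hbdef] at h2
  rw [← h2]
  ring

end Cfsg.Agent.Lib.Helper16.FusSU
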