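import Mathlib
import Cfsg.Agent.Lib.Helper16.FusSUH

set_option autoImplicit false

/-! Conjugation formulas in the unitary group `UJ σ n`: Weyl group elements, torus elements,
commutators of root elements, and elements of the stabilizer of the first basis vector. -/

namespace Cfsg.Agent.Lib.Helper16.FusSU

open Matrix

open Cfsg.Agent.Lib.Helper18.PSLnAut (IsUni unitri mem_unitri isPGroup_unitri)

open Cfsg Cfsg.FusionSystem Cfsg.Agent.Lib.Helper16.FusGen Cfsg.Agent.Lib.Helper3.Fus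
  Cfsg.Agent.Lib.Helper26

variable {K : Type*} [Field K] {n : ℕ}

/-! ### preimages -/

/-- the preimage in `SL_n` of a subgroup of the projective group -/
def preJ (σ : K →+* K) (T : Subgroup (PGJ σ n)) : Subgroup (SpecialLinearGroup (Fin n) K) :=
  (T.comap (piJ σ n)).map (UJ σ n).subtype

theorem mem_preJ {σ : K →+* K} {T : Subgroup (PGJ σ n)} {g : SpecialLinearGroup (Fin n) K} :
    g ∈ preJ σ T ↔ ∃ hg : g ∈ UJ σ n, piJ σ n ⟨g, hg⟩ ∈ T := by
  constructor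
  · rintro ⟨a, ha, rfl⟩
    exact ⟨a.2, ha⟩
  · rintro ⟨hg, h⟩
    exact ⟨⟨g, hg⟩, h, rfl⟩

theorem preJ_conj [Fintype K] {σ : K →+* K} {T : Subgroup (PGJ σ n)}
    (hcl : FClosed (UbJ σ n) T) {x g : SpecialLinearGroup (Fin n) K} (hx : x ∈ preJ σ T)
    (hg : g ∈ UJ σ n) (hU : g * x * g⁻¹ ∈ unitri n K) : g * x * g⁻¹ ∈ preJ σ T := by
  obtain ⟨hxJ, hxT⟩ := mem_preJ.mp hx
  have h1 := hcl _ hxT (piJ σ n ⟨g, hg⟩) (by
    rw [piJ_conj hg hxJ]
    exact mem_imJ.mpr ⟨_, _, hU, rfl⟩)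
  rw [piJ_conj hg hxJ] at h1
  exact mem_preJ.mpr ⟨_, h1⟩

/-! ### permutation matrices -/

theorem permMatrix_apply' (τ : Equiv.Perm (Fin n)) (i j : Fin n) :
    (τ.permMatrix K) i j = if τ i = j then 1 else 0 := by
  simp [Equiv.Perm.permMatrix, PEquiv.toMatrix_apply, Equiv.toPEquiv_apply]

theorem adj_permMatrix (σ : K →+* K) (τ : Equiv.Perm (Fin n)) (hτ : ∀ j, τ j.rev = (τ j).rev) :
    adj σ (τ.permMatrix K) = (τ⁻¹).permMatrix K := by
  ext i j
  rw [adj_apply, permMatrix_apply', permMatrix_apply', hτ]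
  by_cases h : τ j = i
  · rw [if_pos (by rw [h]), if_pos (by rw [← h]; simp), map_one]
  · rw [if_neg (fun h' => h (Fin.rev_injective h')), if_neg (fun h' => h (by rw [← h']; simp)),
      map_zero]

/-- permutation matrices of even permutations -/
def wP (K : Type*) [Field K] (τ : Equiv.Perm (Fin n)) (hs : Equiv.Perm.sign τ = 1) :
    SpecialLinearGroup (Fin n) K :=
  ⟨τ.permMatrix K, by rw [Matrix.det_permutation, hs]; simp⟩

theorem wP_coe (τ : Equiv.Perm (Fin n)) (hs : Equiv.Perm.sign τ = 1) :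
    ((wP K τ hs : SpecialLinearGroup (Fin n) K) : Matrix (Fin n) (Fin n) K) = τ.permMatrix K := rfl

theorem wP_mem (σ : K →+* K) (τ : Equiv.Perm (Fin n)) (hs : Equiv.Perm.sign τ = 1)
    (hτ : ∀ j, τ j.rev = (τ j).rev) : wP K τ hs ∈ UJ σ n := by
  rw [mem_UJ, wP_coe, adj_permMatrix σ τ hτ, ← Matrix.permMatrix_mul, inv_mul_cancel,
    Matrix.permMatrix_one]

theorem wP_mulVec_single (τ : Equiv.Perm (Fin n)) (hs : Equiv.Perm.sign τ = 1) (r : Fin n) :
    ((wP K τ hs : SpecialLinearGroup (Fin n) K) : Matrix (Fin n) (Fin n) K) *ᵥ Pi.single r 1 =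
      (1 : K) • Pi.single (τ⁻¹ r) 1 := by
  rw [wP_coe, Matrix.permMatrix_mulVec, one_smul]
  funext i
  rw [Function.comp_apply, Pi.single_apply, Pi.single_apply]
  by_cases h : τ i = r
  · rw [if_pos h, if_pos (by rw [← h]; simp)]
  · rw [if_neg h, if_neg (fun h' => h (by rw [h']; simp))]

theorem vecMul_adj_wP (σ : K →+* K) (τ : Equiv.Perm (Fin n)) (hs : Equiv.Perm.sign τ = 1)
    (hτ : ∀ j, τ j.rev = (τ j).rev) (v : Fin n → K) :
    v ᵥ* adj σ ((wP K τ hs : SpecialLinearGroup (Fin n) K) : Matrix (Fin n) (Fin n) K) = v ∘ τ := by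
  rw [wP_coe, adj_permMatrix σ τ hτ, Matrix.vecMul_permMatrix]
  rfl

theorem dswap_apply {a b : Fin n} (h1 : a ≠ b) (h2 : a ≠ a.rev) (h3 : a ≠ b.rev) (h4 : b ≠ b.rev)
    (j : Fin n) :
    (Equiv.swap a b * Equiv.swap a.rev b.rev) j =
      if j = a then b else if j = b then a else if j = a.rev then b.rev else
        if j = b.rev then a.rev else j := by
  have := a.2
  have := b.2
  have := j.2
  have := h1
  rw [Equiv.Perm.mul_apply, Equiv.swap_apply_def, Equiv.swap_apply_def]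
  split_ifs <;> first | rfl | (exfalso; simp only [ne_eq, Fin.ext_iff, Fin.val_rev] at *; omega)

theorem dswap_rev {a b : Fin n} (h1 : a ≠ b) (h2 : a ≠ a.rev) (h3 : a ≠ b.rev) (h4 : b ≠ b.rev)
    (j : Fin n) :
    (Equiv.swap a b * Equiv.swap a.rev b.rev) j.rev =
      ((Equiv.swap a b * Equiv.swap a.rev b.rev) j).rev := by
  have := a.2
  have := b.2
  have := j.2
  rw [dswap_apply h1 h2 h3 h4, dswap_apply h1 h2 h3 h4]
  split_ifs <;> first | rfl | (exfalso; simp only [ne_eq, Fin.ext_iff, Fin.val_rev] at *; omega) |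
    (simp only [Fin.rev_rev])

theorem dswap_sign {a b : Fin n} (h1 : a ≠ b) :
    Equiv.Perm.sign (Equiv.swap a b * Equiv.swap a.rev b.rev) = 1 := by
  rw [Equiv.Perm.sign_mul, Equiv.Perm.sign_swap h1,
    Equiv.Perm.sign_swap (fun h => h1 (Fin.rev_injective h))]
  rfl

/-- conjugation of a Heisenberg element by a Weyl group element -/
theorem weyl_conj {σ : K →+* K} (hσ : ∀ x, σ (σ x) = x) {r0 r : Fin n} (hr0 : r0 ≠ r0.rev)
    (hr : r ≠ r.rev) (h1 : r0 ≠ r) (h3 : r0 ≠ r.rev) (v : Fin n → K) (hv0 : v r0 = 0)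
    (hvr : v r = 0) (hv0' : v r0.rev = 0) (hvr' : v r.rev = 0) (b : K) :
    ∃ g ∈ UJ σ n, g * Hq σ r0 hr0 v hv0 b * g⁻¹ = Hq σ r hr v hvr b := by
  obtain ⟨τ, hτdef⟩ : ∃ τ, τ = Equiv.swap r0 r * Equiv.swap r0.rev r.rev := ⟨_, rfl⟩
  have hs : Equiv.Perm.sign τ = 1 := by rw [hτdef]; exact dswap_sign h1
  have hτ : ∀ j, τ j.rev = (τ j).rev := by rw [hτdef]; exact dswap_rev h1 hr0 h3 hr
  have hτr : τ⁻¹ r0 = r := by
    rw [Equiv.Perm.inv_eq_iff_eq, hτdef, dswap_apply h1 hr0 h3 hr, if_neg (Ne.symm h1), if_pos rfl]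
  have hcomp : v ∘ τ = v := by
    funext j
    rw [Function.comp_apply, hτdef, dswap_apply h1 hr0 h3 hr]
    split_ifs with e1 e2 e3 e4
    · rw [e1, hv0, hvr]
    · rw [e2, hv0, hvr]
    · rw [e3, hv0', hvr']
    · rw [e4, hv0', hvr']
    · rfl
  have hmem := wP_mem (K := K) σ τ hs hτ
  have hfix := wP_mulVec_single (K := K) τ hs r0
  rw [hτr] at hfix
  have hw : ((1 : K) • (v ᵥ* adj σ ((wP K τ hs : SpecialLinearGroup (Fin n) K) :
      Matrix (Fin n) (Fin n) K))) r = 0 := by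
    rw [one_smul, vecMul_adj_wP σ τ hs hτ, hcomp, hvr]
  refine ⟨wP K τ hs, hmem, ?_⟩
  rw [conj_Hq hσ hmem hr0 hr 1 hfix v hv0 b hw]
  apply Hq_congr
  · rw [one_smul, vecMul_adj_wP σ τ hs hτ, hcomp]
  · rw [map_one, one_mul, one_mul]

/-! ### torus elements -/

theorem torus_conj {σ : K →+* K} (hσ : ∀ x, σ (σ x) = x) {r0 r1 : Fin n} (hr0 : r0 ≠ r0.rev)
    (h01 : r0 ≠ r1) (h01' : r0 ≠ r1.rev) (z : K) (hz : z ≠ 0) (b : K) :
    cor σ r0 r1 z hz * Hq σ r0 hr0 0 (Pi.zero_apply r0) b * (cor σ r0 r1 z hz)⁻¹ =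
      Hq σ r0 hr0 0 (Pi.zero_apply r0) (z * σ z * b) := by
  have hfix : ((cor σ r0 r1 z hz : SpecialLinearGroup (Fin n) K) : Matrix (Fin n) (Fin n) K) *ᵥ
      Pi.single r0 1 = z • Pi.single r0 1 := by
    show diagonal (corf σ r0 r1 z) *ᵥ Pi.single r0 1 = _
    rw [Matrix.diagonal_mulVec_single, mul_one]
    have : corf σ r0 r1 z r0 = z := by
      unfold corf
      rw [if_pos rfl, if_neg h01, if_neg h01', if_neg hr0, mul_one, mul_one, mul_one]
    rw [this]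
    funext x
    rw [Pi.smul_apply, Pi.single_apply, Pi.single_apply, smul_eq_mul, mul_ite, mul_one, mul_zero]
  have hw : (z • ((0 : Fin n → K) ᵥ* adj σ ((cor σ r0 r1 z hz : SpecialLinearGroup (Fin n) K) :
      Matrix (Fin n) (Fin n) K))) r0 = 0 := by
    rw [Matrix.zero_vecMul, smul_zero, Pi.zero_apply]
  rw [conj_Hq hσ (cor_mem hσ r0 r1 z hz) hr0 hr0 z hfix 0 (Pi.zero_apply r0) b hw]
  apply Hq_congr
  · rw [Matrix.zero_vecMul, smul_zero]
  · rfl

/-! ### commutators -/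

/-- the parameters of a Heisenberg element of the group are related -/
theorem valid_of_mem {σ : K →+* K} (hσ : ∀ x, σ (σ x) = x) {r : Fin n} (hr : r ≠ r.rev)
    {v : Fin n → K} (hv : v r = 0) {b : K} (h : Hq σ r hr v hv b ∈ UJ σ n) :
    b + σ b + v ⬝ᵥ sh σ v = 0 := by
  have h1 := UJ_inv_coe h
  have h2 := congrFun (congrFun h1 r) r.rev
  rw [adj_apply, Fin.rev_rev, Hq_inv, Hq_apply_rr, Hq_apply_rr, Pi.neg_apply, map_add, map_sub,
    hσ, map_neg] at h2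
  linear_combination (-1 : K) * h2

theorem comm_Hq {σ : K →+* K} (hσ : ∀ x, σ (σ x) = x) {r0 r1 : Fin n} (hr0 : r0 ≠ r0.rev)
    (hr1 : r1 ≠ r1.rev) (h01 : r0 ≠ r1) (h01' : r0 ≠ r1.rev) (a c : K) (hc : c + σ c = 0) :
    ∃ (β : K) (hv' : (Pi.single r1.rev (a * σ c) : Fin n → K) r0 = 0),
      Hq σ r1 hr1 0 (Pi.zero_apply r1) c *
        Hq σ r0 hr0 (Pi.single r1 a) (Pi.single_eq_of_ne (M := fun _ => K) h01 a) 0 *
        (Hq σ r1 hr1 0 (Pi.zero_apply r1) c)⁻¹ *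
        (Hq σ r0 hr0 (Pi.single r1 a) (Pi.single_eq_of_ne (M := fun _ => K) h01 a) 0)⁻¹ =
      Hq σ r0 hr0 (Pi.single r1.rev (a * σ c)) hv' β := by
  have htm : Hq σ r1 hr1 0 (Pi.zero_apply r1) c ∈ UJ σ n := by
    apply Hq_mem hσ
    rw [zero_dotProduct, add_zero]
    exact hc
  have hfix : ((Hq σ r1 hr1 0 (Pi.zero_apply r1) c : SpecialLinearGroup (Fin n) K) :
      Matrix (Fin n) (Fin n) K) *ᵥ Pi.single r0 1 = (1 : K) • Pi.single r0 1 := by
    rw [one_smul]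
    exact Hq_mulVec_single σ r1 hr1 0 _ c r0 h01' rfl
  have hrow : (Pi.single r1 a : Fin n → K) ᵥ* adj σ ((Hq σ r1 hr1 0 (Pi.zero_apply r1) c :
      SpecialLinearGroup (Fin n) K) : Matrix (Fin n) (Fin n) K) =
      Pi.single r1 a + Pi.single r1.rev (a * σ c) := by
    rw [Hq_coe, adj_add, adj_one, adj_hN hσ, Matrix.single_vecMul]
    funext y
    rw [Pi.smul_apply, Matrix.row_apply, Matrix.add_apply, hN_apply, if_pos rfl, Pi.add_apply,
      Pi.single_apply, Pi.single_apply, Matrix.one_apply, Pi.neg_apply, Pi.neg_apply,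
      Pi.zero_apply, Pi.zero_apply, neg_zero, map_zero, ite_self, sub_zero, zero_add, smul_eq_mul]
    by_cases hy1 : y = r1
    · rw [if_pos hy1.symm, if_pos hy1, if_neg (fun h : r1 = r1 ∧ y = r1.rev => hr1 (hy1 ▸ h.2)),
        if_neg (fun h : y = r1.rev => hr1 (hy1 ▸ h))]
      ring
    · rw [if_neg (fun h => hy1 h.symm), if_neg hy1]
      by_cases hy2 : y = r1.rev
      · rw [if_pos ⟨rfl, hy2⟩, if_pos hy2]
        ring
      · rw [if_neg (fun h : r1 = r1 ∧ y = r1.rev => hy2 h.2), if_neg hy2]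
        ring
  have hv1 : (Pi.single r1 a : Fin n → K) r0 = 0 := Pi.single_eq_of_ne (M := fun _ => K) h01 a
  have hv' : (Pi.single r1.rev (a * σ c) : Fin n → K) r0 = 0 :=
    Pi.single_eq_of_ne (M := fun _ => K) h01' _
  have hw : ((1 : K) • ((Pi.single r1 a : Fin n → K) ᵥ* adj σ
      ((Hq σ r1 hr1 0 (Pi.zero_apply r1) c : SpecialLinearGroup (Fin n) K) :
        Matrix (Fin n) (Fin n) K))) r0 = 0 := by
    rw [one_smul, hrow, Pi.add_apply, hv1, hv', add_zero]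
  have h1 := conj_Hq hσ htm hr0 hr0 1 hfix (Pi.single r1 a) hv1 0 hw
  refine ⟨?_, hv', ?_⟩
  rotate_left
  · rw [h1, Hq_inv, Hq_mul]
    apply Hq_congr
    · rw [one_smul, hrow]
      abel
    · rfl

/-! ### elements of the stabilizer of the first basis vector -/

theorem stab_conj {σ : K →+* K} (hσ : ∀ x, σ (σ x) = x) {r0 r1 : Fin n} (hr0 : r0 ≠ r0.rev)
    (hr1 : r1 ≠ r1.rev) (h01 : r0 ≠ r1) (h01' : r0 ≠ r1.rev) (w : Fin n → K)
    (hw1' : w r1.rev = 0) (hw0 : w r0 = 0) (hw1 : w r1 = 0) (d : K)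
    (hd : d + σ d + w ⬝ᵥ sh σ w = 0) (a β : K) :
    ∃ (g : SpecialLinearGroup (Fin n) K) (hv' : (Pi.single r1.rev a + a • w + Pi.single r1 (a * d) :
        Fin n → K) r0 = 0), g ∈ UJ σ n ∧
      g * Hq σ r0 hr0 (Pi.single r1.rev a) (Pi.single_eq_of_ne (M := fun _ => K) h01' a) β * g⁻¹ =
        Hq σ r0 hr0 (Pi.single r1.rev a + a • w + Pi.single r1 (a * d)) hv' β := by
  have hr1' : r1.rev ≠ r1.rev.rev := by
    rw [Fin.rev_rev]
    exact hr1.symm
  obtain ⟨h, hhdef⟩ : ∃ h, h = Hq σ r1.rev hr1' w hw1' d := ⟨_, rfl⟩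
  have hhm : h ∈ UJ σ n := by
    rw [hhdef]
    exact Hq_mem hσ _ hr1' w hw1' d hd
  have hgm : h⁻¹ ∈ UJ σ n := (UJ σ n).inv_mem hhm
  have hfix : ((h⁻¹ : SpecialLinearGroup (Fin n) K) : Matrix (Fin n) (Fin n) K) *ᵥ
      Pi.single r0 1 = (1 : K) • Pi.single r0 1 := by
    rw [one_smul, hhdef, Hq_inv]
    apply Hq_mulVec_single
    · rw [Fin.rev_rev]
      exact h01
    · rw [Pi.neg_apply, hw0, neg_zero]
  have hadj : adj σ ((h⁻¹ : SpecialLinearGroup (Fin n) K) : Matrix (Fin n) (Fin n) K) =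
      (h : Matrix (Fin n) (Fin n) K) := by
    rw [← UJ_inv_coe hgm, inv_inv]
  have hrow : (Pi.single r1.rev a : Fin n → K) ᵥ*
      adj σ ((h⁻¹ : SpecialLinearGroup (Fin n) K) : Matrix (Fin n) (Fin n) K) =
      Pi.single r1.rev a + a • w + Pi.single r1 (a * d) := by
    rw [hadj, hhdef, Hq_coe, Matrix.single_vecMul]
    funext y
    rw [Pi.smul_apply, Matrix.row_apply, Matrix.add_apply, hN_apply, if_pos rfl, Fin.rev_rev, hw1,
      map_zero, ite_self, sub_zero, Pi.add_apply, Pi.add_apply, Pi.smul_apply, Pi.single_apply,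
      Pi.single_apply, Matrix.one_apply, smul_eq_mul, smul_eq_mul]
    by_cases hy1 : y = r1.rev
    · rw [if_pos hy1.symm, if_pos hy1,
        if_neg (fun h : r1.rev = r1.rev ∧ y = r1 => hr1 (h.2.symm.trans hy1)),
        if_neg (fun h : y = r1 => hr1 (h.symm.trans hy1))]
      ring
    · rw [if_neg (fun h => hy1 h.symm), if_neg hy1]
      by_cases hy2 : y = r1
      · rw [if_pos ⟨rfl, hy2⟩, if_pos hy2]
        ring
      · rw [if_neg (fun h : r1.rev = r1.rev ∧ y = r1 => hy2 h.2), if_neg hy2]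
        ring
  have hv1 : (Pi.single r1.rev a : Fin n → K) r0 = 0 :=
    Pi.single_eq_of_ne (M := fun _ => K) h01' a
  have hv' : (Pi.single r1.rev a + a • w + Pi.single r1 (a * d) : Fin n → K) r0 = 0 := by
    rw [Pi.add_apply, Pi.add_apply, Pi.smul_apply, hv1, hw0,
      Pi.single_eq_of_ne (M := fun _ => K) h01 _, smul_zero, add_zero, add_zero]
  have hw : ((1 : K) • ((Pi.single r1.rev a : Fin n → K) ᵥ* adj σ
      ((h⁻¹ : SpecialLinearGroup (Fin n) K) : Matrix (Fin n) (Fin n) K))) r0 = 0 := by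
    rw [one_smul, hrow]
    exact hv'
  refine ⟨h⁻¹, hv', hgm, ?_⟩
  rw [conj_Hq hσ hgm hr0 hr0 1 hfix (Pi.single r1.rev a) hv1 β hw]
  apply Hq_congr
  · rw [one_smul, hrow]
  · rw [map_one, one_mul, one_mul]

end Cfsg.Agent.Lib.Helper16.FusSU
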