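import Mathlib
import Cfsg.Agent.Lib.Helper16.FusSUI

set_option autoImplicit false

/-! Subgroups containing Heisenberg elements, and generation of the unitriangular subgroup of the
unitary group `UJ σ n` by Heisenberg elements. -/

namespace Cfsg.Agent.Lib.Helper16.FusSU

open Matrix

open Cfsg.Agent.Lib.Helper18.PSLnAut (IsUni unitri mem_unitri isPGroup_unitri)

variable {K : Type*} [Field K] {n : ℕ}

/-- all Heisenberg elements of the first row with the given vector lie in `H` -/
def InH (σ : K →+* K) (H : Subgroup (SpecialLinearGroup (Fin n) K)) (r0 : Fin n)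
    (hr0 : r0 ≠ r0.rev) (v : Fin n → K) : Prop :=
  ∃ hv : v r0 = 0, ∀ β : K, β + σ β + v ⬝ᵥ sh σ v = 0 → Hq σ r0 hr0 v hv β ∈ H

section inH

variable {σ : K →+* K} {H : Subgroup (SpecialLinearGroup (Fin n) K)} {r0 : Fin n}
  {hr0 : r0 ≠ r0.rev}

theorem inH_of_mem
    (hZ : ∀ b, b + σ b = 0 → Hq σ r0 hr0 0 (Pi.zero_apply r0) b ∈ H)
    {v : Fin n → K} (hv : v r0 = 0) {β₀ : K} (hβ₀ : β₀ + σ β₀ + v ⬝ᵥ sh σ v = 0)
    (hmem : Hq σ r0 hr0 v hv β₀ ∈ H) : InH σ H r0 hr0 v := by
  refine ⟨hv, fun β hβ => ?_⟩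
  have h1 : Hq σ r0 hr0 v hv β₀ * Hq σ r0 hr0 0 (Pi.zero_apply r0) (β - β₀) =
      Hq σ r0 hr0 v hv β := by
    rw [Hq_mul]
    apply Hq_congr
    · rw [add_zero]
    · rw [sh_zero, dotProduct_zero, sub_zero]
      ring
  rw [← h1]
  refine H.mul_mem hmem (hZ _ ?_)
  rw [map_sub]
  linear_combination hβ - hβ₀

theorem inH_zero (hZ : ∀ b, b + σ b = 0 → Hq σ r0 hr0 0 (Pi.zero_apply r0) b ∈ H) :
    InH σ H r0 hr0 0 := by
  refine ⟨Pi.zero_apply r0, fun β hβ => ?_⟩
  rw [zero_dotProduct, add_zero] at hβ
  exact hZ β hβ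

theorem inH_add (hσ : InvOK σ) {v w : Fin n → K} (hv : InH σ H r0 hr0 v)
    (hw : InH σ H r0 hr0 w) : InH σ H r0 hr0 (v + w) := by
  obtain ⟨hv0, h1⟩ := hv
  obtain ⟨hw0, h2⟩ := hw
  refine ⟨by rw [Pi.add_apply, hv0, hw0, add_zero], fun β hβ => ?_⟩
  obtain ⟨β₁, hβ₁⟩ := exists_valid hσ v
  have hβ₂ : (β - β₁ + v ⬝ᵥ sh σ w) + σ (β - β₁ + v ⬝ᵥ sh σ w) + w ⬝ᵥ sh σ w = 0 := by
    rw [map_add, map_sub, dot_sh_comm hσ.invol]
    rw [sh_add, dotProduct_add, add_dotProduct, add_dotProduct] at hβ
    linear_combination hβ - hβ₁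
  have h3 := H.mul_mem (h1 β₁ hβ₁) (h2 _ hβ₂)
  rw [Hq_mul] at h3
  have h4 : Hq σ r0 hr0 (v + w) (by rw [Pi.add_apply, hv0, hw0, add_zero])
      (β₁ + (β - β₁ + v ⬝ᵥ sh σ w) - v ⬝ᵥ sh σ w) =
      Hq σ r0 hr0 (v + w) (by rw [Pi.add_apply, hv0, hw0, add_zero]) β :=
    Hq_congr σ r0 hr0 _ _ rfl (by ring)
  rw [← h4]
  exact h3

theorem inH_sum (hσ : InvOK σ)
    (hZ : ∀ b, b + σ b = 0 → Hq σ r0 hr0 0 (Pi.zero_apply r0) b ∈ H) {ι : Type*} (s : Finset ι)
    (f : ι → Fin n → K) (h : ∀ i ∈ s, InH σ H r0 hr0 (f i)) : InH σ H r0 hr0 (∑ i ∈ s, f i) :=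
  Finset.sum_induction f (InH σ H r0 hr0) (fun _ _ => inH_add hσ) (inH_zero hZ) h

theorem inH_of_single (hσ : InvOK σ)
    (hZ : ∀ b, b + σ b = 0 → Hq σ r0 hr0 0 (Pi.zero_apply r0) b ∈ H)
    (hs : ∀ j, j ≠ r0 → j ≠ r0.rev → ∀ a : K, InH σ H r0 hr0 (Pi.single j a))
    (v : Fin n → K) (hv0 : v r0 = 0) (hv0' : v r0.rev = 0) : InH σ H r0 hr0 v := by
  have h1 : v = ∑ j, Pi.single j (v j) := (Finset.univ_sum_single v).symm
  rw [h1]
  apply inH_sum hσ hZ
  intro j _
  by_cases h2 : j = r0
  · rw [h2, hv0, Pi.single_zero]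
    exact inH_zero hZ
  by_cases h3 : j = r0.rev
  · rw [h3, hv0', Pi.single_zero]
    exact inH_zero hZ
  exact hs j h2 h3 (v j)

end inH

/-- if the first rows of an element of the group are trivial then so are the last columns -/
theorem cols_of_rows {σ : K →+* K} (hσ : ∀ x, σ (σ x) = x) {u : SpecialLinearGroup (Fin n) K}
    (hu : u ∈ UJ σ n) (k : ℕ)
    (hrows : ∀ x : Fin n, x.val < k → ∀ y,
      (u : Matrix (Fin n) (Fin n) K) x y = (1 : Matrix (Fin n) (Fin n) K) x y) :
    ∀ y : Fin n, y.rev.val < k → ∀ x,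
      (u : Matrix (Fin n) (Fin n) K) x y = (1 : Matrix (Fin n) (Fin n) K) x y := by
  have hinv : ∀ x : Fin n, x.val < k → ∀ y,
      adj σ (u : Matrix (Fin n) (Fin n) K) x y = (1 : Matrix (Fin n) (Fin n) K) x y := by
    intro x hx y
    have h1 := congrFun (congrFun (mem_UJ.1 hu) x) y
    rw [Matrix.mul_apply, Finset.sum_eq_single x] at h1
    · rw [hrows x hx x, Matrix.one_apply_eq, one_mul] at h1
      exact h1
    · intro j _ hj
      rw [hrows x hx j, Matrix.one_apply_ne (Ne.symm hj), zero_mul]
    · intro h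
      exact absurd (Finset.mem_univ x) h
  intro y hy x
  have h1 := hinv y.rev hy x.rev
  rw [adj_apply, Fin.rev_rev, Fin.rev_rev] at h1
  have h2 : (u : Matrix (Fin n) (Fin n) K) x y =
      σ ((1 : Matrix (Fin n) (Fin n) K) y.rev x.rev) := by
    rw [← h1, hσ]
  rw [h2, Matrix.one_apply, Matrix.one_apply]
  by_cases h : x = y
  · rw [if_pos (by rw [h]), if_pos h, map_one]
  · rw [if_neg (fun h' => h (Fin.rev_injective h').symm), if_neg h, map_zero]

/-- the unitriangular subgroup of the group is generated by Heisenberg elements -/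
theorem unitri_mem_of_Hq [Finite K] {σ : K →+* K} (hσ : ∀ x, σ (σ x) = x)
    (H : Subgroup (SpecialLinearGroup (Fin n) K))
    (hH : ∀ (r : Fin n) (hr : r ≠ r.rev) (v : Fin n → K) (hv : v r = 0) (β : K), r < r.rev →
      (∀ y, y ≤ r → v y = 0) → (∀ y, r.rev ≤ y → v y = 0) → β + σ β + v ⬝ᵥ sh σ v = 0 →
      Hq σ r hr v hv β ∈ H)
    (u : SpecialLinearGroup (Fin n) K) (hu : u ∈ UJ σ n) (huU : u ∈ unitri n K) : u ∈ H := by
  have key : ∀ d k : ℕ, k + d = n → ∀ u : SpecialLinearGroup (Fin n) K, u ∈ UJ σ n →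
      u ∈ unitri n K →
      (∀ x : Fin n, x.val < k → ∀ y,
        (u : Matrix (Fin n) (Fin n) K) x y = (1 : Matrix (Fin n) (Fin n) K) x y) → u ∈ H := by
    intro d
    induction d with
    | zero =>
      intro k hk u _ _ hrows
      have : u = 1 := by
        apply Subtype.ext
        ext x y
        rw [hrows x (by have := x.2; omega)]
        rfl
      rw [this]
      exact H.one_mem
    | succ d ih =>
      intro k hk u hu huU hrows
      have hkn : k < n := by omega
      obtain ⟨r, hrdef⟩ : ∃ r : Fin n, r = ⟨k, hkn⟩ := ⟨_, rfl⟩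
      have hrv : r.val = k := by rw [hrdef]
      have hcols := cols_of_rows hσ hu k hrows
      have hUni := mem_unitri.mp huU
      by_cases hlt : r < r.rev
      · have hr : r ≠ r.rev := ne_of_lt hlt
        obtain ⟨w, hwdef⟩ : ∃ w : Fin n → K, w = fun y =>
            if r < y ∧ y < r.rev then (u : Matrix (Fin n) (Fin n) K) r y else 0 := ⟨_, rfl⟩
        have hw_lo : ∀ y, y ≤ r → w y = 0 := by
          intro y hy
          rw [hwdef]
          exact if_neg (fun h => absurd h.1 (not_lt.mpr hy))
        have hw_hi : ∀ y, r.rev ≤ y → w y = 0 := by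
          intro y hy
          rw [hwdef]
          exact if_neg (fun h => absurd h.2 (not_lt.mpr hy))
        have hw_mid : ∀ y, r < y → y < r.rev → w y = (u : Matrix (Fin n) (Fin n) K) r y := by
          intro y h1 h2
          rw [hwdef]
          exact if_pos ⟨h1, h2⟩
        have hwr : w r = 0 := hw_lo r le_rfl
        have hwr' : w r.rev = 0 := hw_hi r.rev le_rfl
        obtain ⟨β, hβdef⟩ : ∃ β : K, β = (u : Matrix (Fin n) (Fin n) K) r r.rev := ⟨_, rfl⟩
        have hρ : (u : Matrix (Fin n) (Fin n) K) r = Pi.single r 1 + w + Pi.single r.rev β := by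
          funext y
          rw [Pi.add_apply, Pi.add_apply, Pi.single_apply, Pi.single_apply]
          rcases lt_trichotomy y r with h | h | h
          · rw [hUni.1 r y h, if_neg (ne_of_lt h), hw_lo y (le_of_lt h),
              if_neg (ne_of_lt (lt_trans h hlt)), add_zero, add_zero]
          · rw [h, hUni.2, if_pos rfl, hwr, if_neg hr, add_zero, add_zero]
          · rcases lt_trichotomy y r.rev with h' | h' | h'
            · rw [if_neg (ne_of_gt h), hw_mid y h h', if_neg (ne_of_lt h'), zero_add, add_zero]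
            · rw [h', if_neg hr.symm, hwr', if_pos rfl, hβdef, zero_add, zero_add]
            · have hy : y.rev.val < k := by
                have := Fin.rev_lt_rev.mpr h'
                rw [Fin.rev_rev, Fin.lt_def, hrv] at this
                exact this
              rw [hcols y hy r, Matrix.one_apply_ne (ne_of_lt h), if_neg (ne_of_gt h),
                hw_hi y (le_of_lt h'), if_neg (ne_of_gt h'), add_zero, add_zero]
        have hiso : (u : Matrix (Fin n) (Fin n) K) r ⬝ᵥ
            sh σ ((u : Matrix (Fin n) (Fin n) K) r) = 0 := by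
          have h1 := congrFun (congrFun (mem_UJ.1 hu) r) r.rev
          rw [Matrix.one_apply_ne hr, Matrix.mul_apply] at h1
          rw [← h1]
          unfold dotProduct
          apply Finset.sum_congr rfl
          intro j _
          rw [sh_apply, adj_apply, Fin.rev_rev]
        have hdot : (u : Matrix (Fin n) (Fin n) K) r ⬝ᵥ sh σ w = w ⬝ᵥ sh σ w := by
          rw [hρ, add_dotProduct, add_dotProduct, single_dotProduct, single_dotProduct, sh_apply,
            sh_apply, Fin.rev_rev, hwr, hwr', map_zero, mul_zero, mul_zero, zero_add, add_zero]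
        have hval : β + σ β + w ⬝ᵥ sh σ w = 0 := by
          have h1 := hiso
          nth_rewrite 2 [hρ] at h1
          rw [sh_add, sh_add, sh_single, sh_single, map_one, Fin.rev_rev, dotProduct_add,
            dotProduct_add, hdot, dotProduct_single, dotProduct_single, mul_one, hUni.2, one_mul,
            ← hβdef] at h1
          linear_combination h1
        obtain ⟨h, hhdef⟩ : ∃ h, h = Hq σ r hr w hwr β := ⟨_, rfl⟩
        have hhH : h ∈ H := by
          rw [hhdef]
          exact hH r hr w hwr β hlt hw_lo hw_hi hval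
        have hhJ : h ∈ UJ σ n := by
          rw [hhdef]
          exact Hq_mem hσ r hr w hwr β hval
        have hhU : h ∈ unitri n K := by
          rw [hhdef]
          exact isUni_Hq σ hlt hw_lo β
        have hu'J : u * h⁻¹ ∈ UJ σ n := (UJ σ n).mul_mem hu ((UJ σ n).inv_mem hhJ)
        have hu'U : u * h⁻¹ ∈ unitri n K := (unitri n K).mul_mem huU ((unitri n K).inv_mem hhU)
        have hrow : (u : Matrix (Fin n) (Fin n) K) r ᵥ*
            ((h⁻¹ : SpecialLinearGroup (Fin n) K) : Matrix (Fin n) (Fin n) K) = Pi.single r 1 := by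
          rw [hhdef, Hq_inv, Hq_coe, Matrix.vecMul_add, Matrix.vecMul_one]
          unfold hN
          rw [Matrix.vecMul_add, Matrix.vecMul_sub, Matrix.vecMul_smul, Matrix.vecMul_vecMulVec,
            Matrix.vecMul_vecMulVec, Matrix.vecMul_vecMulVec, dotProduct_single_one, sh_neg,
            dotProduct_neg, hdot, hUni.2]
          nth_rewrite 1 [hρ]
          funext y
          simp only [Pi.add_apply, Pi.sub_apply, Pi.smul_apply, Pi.neg_apply, smul_eq_mul,
            Pi.single_apply]
          split_ifs <;> ring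
        have hrows' : ∀ x : Fin n, x.val < k + 1 → ∀ y,
            ((u * h⁻¹ : SpecialLinearGroup (Fin n) K) : Matrix (Fin n) (Fin n) K) x y =
              (1 : Matrix (Fin n) (Fin n) K) x y := by
          intro x hx y
          rw [Matrix.SpecialLinearGroup.coe_mul, Matrix.mul_apply_eq_vecMul]
          by_cases hxk : x.val < k
          · have hux : (u : Matrix (Fin n) (Fin n) K) x = Pi.single x 1 := by
              funext j
              rw [hrows x hxk j, Matrix.one_apply, Pi.single_apply]
              by_cases hj : x = j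
              · rw [if_pos hj, if_pos hj.symm]
              · rw [if_neg hj, if_neg (fun h' => hj h'.symm)]
            have hxr : x ≠ r := fun h' => by rw [h', hrv] at hxk; omega
            have hxrev : r.rev ≤ x.rev := by
              rw [Fin.rev_le_rev, Fin.le_def, hrv]
              omega
            rw [hux, Matrix.single_one_vecMul, Matrix.row_apply, hhdef, Hq_inv, Hq_coe,
              Matrix.add_apply, hN_apply, if_neg hxr, if_neg (fun h' : x = r ∧ y = r.rev => hxr h'.1),
              Pi.neg_apply, hw_hi x.rev hxrev, neg_zero, map_zero, ite_self, sub_zero, add_zero,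
              add_zero]
          · have hxr : x = r := Fin.ext (by rw [hrv]; omega)
            rw [hxr, hrow, Pi.single_apply, Matrix.one_apply]
            by_cases hj : r = y
            · rw [if_pos hj, if_pos hj.symm]
            · rw [if_neg hj, if_neg (fun h' => hj h'.symm)]
        have h5 := ih (k + 1) (by omega) (u * h⁻¹) hu'J hu'U hrows'
        have h6 := H.mul_mem h5 hhH
        rwa [inv_mul_cancel_right] at h6
      · apply ih (k + 1) (by omega) u hu huU
        intro x hx y
        by_cases hxk : x.val < k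
        · exact hrows x hxk y
        · have hxr : x = r := Fin.ext (by rw [hrv]; omega)
          rw [hxr]
          rcases lt_trichotomy y r with h | h | h
          · rw [hUni.1 r y h, Matrix.one_apply_ne (ne_of_gt h)]
          · rw [h, hUni.2, Matrix.one_apply_eq]
          · apply hcols y
            have h1 : y.rev < r.rev := Fin.rev_lt_rev.mpr h
            have h2 : r.rev ≤ r := not_lt.mp hlt
            have h3 := lt_of_lt_of_le h1 h2
            rw [Fin.lt_def, hrv] at h3
            exact h3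
  exact key n 0 (by omega) u hu huU (fun x hx => absurd hx (by omega))

end Cfsg.Agent.Lib.Helper16.FusSU
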