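import Mathlib
import Cfsg.Agent.Lib.Helper16.FusSUJ
import Cfsg.Agent.Lib.Helper10.PGroupBasic

set_option autoImplicit false

/-! Fusion-closed subgroups of the unitriangular subgroup of the projective unitary group. -/

namespace Cfsg.Agent.Lib.Helper16.FusSU

open Matrix

open Cfsg.Agent.Lib.Helper18.PSLnAut (IsUni unitri mem_unitri isPGroup_unitri)

open Cfsg Cfsg.FusionSystem Cfsg.Agent.Lib.Helper16.FusGen Cfsg.Agent.Lib.Helper3.Fus
  Cfsg.Agent.Lib.Helper26 Cfsg.Agent.Lib.Helper10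

variable {K : Type*} [Field K] [Fintype K] {n : ℕ} (p : ℕ) [Fact p.Prime] [CharP K p]

include p in
/-- a nontrivial fusion-closed subgroup of `UbJ` is all of `UbJ` -/
theorem fclosed_eq_UbJ {σ : K →+* K} (hσ : InvOK σ) (hn : 4 ≤ n) (T : Subgroup (PGJ σ n))
    (hT : T ≤ UbJ σ n) (hne : T ≠ ⊥) (hcl : FClosed (UbJ σ n) T) : T = UbJ σ n := by
  have hP : IsPGroup p (UbJ σ n) := isPGroup_UbJ p σ
  obtain ⟨r0, hr0def⟩ : ∃ r0 : Fin n, r0 = ⟨0, by omega⟩ := ⟨_, rfl⟩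
  obtain ⟨r1, hr1def⟩ : ∃ r1 : Fin n, r1 = ⟨1, by omega⟩ := ⟨_, rfl⟩
  have h0v : r0.val = 0 := by rw [hr0def]
  have h1v : r1.val = 1 := by rw [hr1def]
  have h0r : r0.rev.val = n - 1 := by rw [Fin.val_rev, h0v]
  have h1r : r1.rev.val = n - 2 := by rw [Fin.val_rev, h1v]
  have hr0 : r0 ≠ r0.rev := fun h => by have := congrArg Fin.val h; omega
  have hr1 : r1 ≠ r1.rev := fun h => by have := congrArg Fin.val h; omega
  have hr1' : r1.rev ≠ r1.rev.rev := by rw [Fin.rev_rev]; exact hr1.symm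
  have h01 : r0 ≠ r1 := fun h => by have := congrArg Fin.val h; omega
  have h01' : r0 ≠ r1.rev := fun h => by have := congrArg Fin.val h; omega
  have hlt0 : r0 < r0.rev := by rw [Fin.lt_def]; omega
  have hlt1 : r1 < r1.rev := by rw [Fin.lt_def]; omega
  have hle0 : ∀ y : Fin n, y ≤ r0 → y = r0 := by
    intro y hy
    apply Fin.ext
    rw [Fin.le_def, h0v] at hy
    omega
  obtain ⟨H, hHdef⟩ : ∃ H, H = preJ σ T := ⟨_, rfl⟩
  have hHconj : ∀ {x g : SpecialLinearGroup (Fin n) K}, x ∈ H → g ∈ UJ σ n →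
      g * x * g⁻¹ ∈ unitri n K → g * x * g⁻¹ ∈ H := by
    intro x g hx hg hU
    rw [hHdef] at hx ⊢
    exact preJ_conj hcl hx hg hU
  have hHJ : ∀ {x : SpecialLinearGroup (Fin n) K}, x ∈ H → x ∈ UJ σ n := by
    intro x hx
    rw [hHdef] at hx
    exact (mem_preJ.mp hx).1
  -- step 1: a nontrivial central element
  haveI : (T.subgroupOf (UbJ σ n)).Normal := by
    constructor
    intro x hx g
    rw [Subgroup.mem_subgroupOf] at hx ⊢
    exact hcl _ hx g (g * x * g⁻¹).2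
  have hne' : T.subgroupOf (UbJ σ n) ≠ ⊥ := by
    intro h
    apply hne
    rw [Subgroup.eq_bot_iff_forall] at h ⊢
    intro x hx
    have := h ⟨x, hT hx⟩ (Subgroup.mem_subgroupOf.mpr hx)
    exact congrArg Subtype.val this
  obtain ⟨x, hxT, hxZ, hx1⟩ :=
    exists_mem_center_of_normal_ne_bot p hP (T.subgroupOf (UbJ σ n)) hne'
  obtain ⟨u, hu, huU, hux⟩ := mem_imJ.mp x.2
  have hcent : ∀ w, w ∈ UJ σ n → w ∈ unitri n K → u * w = w * u := by
    intro w hw hwU
    apply commute_of_piJ_commute (by omega) hu hw huU hwU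
    rw [hux]
    have := Subgroup.mem_center_iff.mp hxZ ⟨piJ σ n ⟨w, hw⟩, mem_imJ.mpr ⟨w, hw, hwU, rfl⟩⟩
    exact (congrArg Subtype.val this).symm
  obtain ⟨b₀, hb₀, hub⟩ := central_eq_Hq hσ hu huU hcent r0 h0v hr0
  have hb₀ne : b₀ ≠ 0 := by
    intro hb
    rw [hb, Hq_zero] at hub
    apply hx1
    apply Subtype.ext
    rw [← hux]
    have : (⟨u, hu⟩ : UJ σ n) = 1 := Subtype.ext hub
    rw [this, map_one]
    rfl
  have hxH : Hq σ r0 hr0 0 (Pi.zero_apply r0) b₀ ∈ H := by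
    rw [← hub, hHdef]
    exact mem_preJ.mpr ⟨hu, by rw [hux]; exact Subgroup.mem_subgroupOf.mp hxT⟩
  -- step 2: the highest root subgroup
  have hZ : ∀ b, b + σ b = 0 → Hq σ r0 hr0 0 (Pi.zero_apply r0) b ∈ H := by
    intro b hb
    by_cases hb0 : b = 0
    · rw [hb0, Hq_zero]
      exact H.one_mem
    have hρfix : σ (b / b₀) = b / b₀ := by
      have e1 : σ b = -b := by linear_combination hb
      have e2 : σ b₀ = -b₀ := by linear_combination hb₀
      rw [map_div₀, e1, e2, neg_div_neg_eq]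
    obtain ⟨z, hz⟩ := hσ.nm (b / b₀) (div_ne_zero hb0 hb₀ne) hρfix
    have hz0 : z ≠ 0 := by
      intro h
      rw [h, zero_mul] at hz
      exact div_ne_zero hb0 hb₀ne hz.symm
    have h1 := torus_conj hσ.invol hr0 h01 h01' z hz0 b₀
    have e : z * σ z * b₀ = b := by rw [hz, div_mul_cancel₀ _ hb₀ne]
    rw [e] at h1
    rw [← h1]
    apply hHconj hxH (cor_mem hσ.invol r0 r1 z hz0)
    rw [h1]
    exact isUni_Hq σ hlt0 (fun _ _ => rfl) b
  -- step 3: the long root subgroup of the second row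
  have ht : ∀ c, c + σ c = 0 → Hq σ r1 hr1 0 (Pi.zero_apply r1) c ∈ H := by
    intro c hc
    obtain ⟨g, hg, hconj⟩ := weyl_conj hσ.invol hr0 hr1 h01 h01' (0 : Fin n → K) rfl rfl rfl rfl c
    rw [← hconj]
    apply hHconj (hZ c hc) hg
    rw [hconj]
    exact isUni_Hq σ hlt1 (fun _ _ => rfl) c
  have hsingle_dot : ∀ (j : Fin n) (_ : j ≠ j.rev) (a : K),
      (Pi.single j a : Fin n → K) ⬝ᵥ sh σ (Pi.single j a) = 0 := by
    intro j hj a
    rw [sh_single, single_dotProduct, Pi.single_apply, if_neg hj, mul_zero]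
  -- step 4
  obtain ⟨c₀, hc₀ne, hc₀⟩ := hσ.sk
  have hσc : σ c₀ ≠ 0 := fun h => hc₀ne ((map_eq_zero σ).mp h)
  have h4 : ∀ x : K, InH σ H r0 hr0 (Pi.single r1.rev x) := by
    intro x
    obtain ⟨β, hv', hcomm⟩ := comm_Hq hσ.invol hr0 hr1 h01 h01' (x / σ c₀) c₀ hc₀
    have e : x / σ c₀ * σ c₀ = x := div_mul_cancel₀ _ hσc
    have htH : Hq σ r1 hr1 0 (Pi.zero_apply r1) c₀ ∈ H := ht c₀ hc₀
    have htU : Hq σ r1 hr1 0 (Pi.zero_apply r1) c₀ ∈ unitri n K :=
      isUni_Hq σ hlt1 (fun _ _ => rfl) c₀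
    have hv1 : (Pi.single r1 (x / σ c₀) : Fin n → K) r0 = 0 :=
      Pi.single_eq_of_ne (M := fun _ => K) h01 _
    have huJ : Hq σ r0 hr0 (Pi.single r1 (x / σ c₀)) hv1 0 ∈ UJ σ n := by
      apply Hq_mem hσ.invol
      rw [hsingle_dot r1 hr1, map_zero, add_zero, add_zero]
    have huU' : Hq σ r0 hr0 (Pi.single r1 (x / σ c₀)) hv1 0 ∈ unitri n K := by
      apply isUni_Hq σ hlt0
      intro y hy
      rw [hle0 y hy]
      exact hv1
    generalize Hq σ r1 hr1 0 (Pi.zero_apply r1) c₀ = t at hcomm htH htU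
    generalize Hq σ r0 hr0 (Pi.single r1 (x / σ c₀)) hv1 0 = uu at hcomm huJ huU'
    have h2 : uu * t⁻¹ * uu⁻¹ ∈ H := hHconj (H.inv_mem htH) huJ
      ((unitri n K).mul_mem ((unitri n K).mul_mem huU' ((unitri n K).inv_mem htU))
        ((unitri n K).inv_mem huU'))
    have h3 : t * uu * t⁻¹ * uu⁻¹ ∈ H := by
      have : t * uu * t⁻¹ * uu⁻¹ = t * (uu * t⁻¹ * uu⁻¹) := by group
      rw [this]
      exact H.mul_mem htH h2
    rw [hcomm] at h3
    have hvalid := valid_of_mem hσ.invol hr0 hv' (hHJ h3)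
    have h5 := inH_of_mem hZ hv' hvalid h3
    rw [e] at h5
    exact h5
  have hβ0 : ∀ a : K, (0 : K) + σ 0 + (Pi.single r1.rev a : Fin n → K) ⬝ᵥ
      sh σ (Pi.single r1.rev a) = 0 := by
    intro a
    rw [hsingle_dot r1.rev hr1', map_zero, add_zero, add_zero]
  -- step 5
  have h5 : ∀ x : K, InH σ H r0 hr0 (Pi.single r1 x) := by
    intro x
    have hd : c₀ + σ c₀ + (0 : Fin n → K) ⬝ᵥ sh σ 0 = 0 := by
      rw [zero_dotProduct, add_zero]
      exact hc₀
    obtain ⟨g, hv', hg, hconj⟩ := stab_conj hσ.invol hr0 hr1 h01 h01' (0 : Fin n → K) rfl rfl rfl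
      c₀ hd (x / c₀) 0
    obtain ⟨hv1, hsrc⟩ := h4 (x / c₀)
    have hsrcH := hsrc 0 (hβ0 _)
    have hres : Hq σ r0 hr0 (Pi.single r1.rev (x / c₀) + (x / c₀) • (0 : Fin n → K) +
        Pi.single r1 (x / c₀ * c₀)) hv' 0 ∈ H := by
      rw [← hconj]
      apply hHconj hsrcH hg
      rw [hconj]
      apply isUni_Hq σ hlt0
      intro y hy
      rw [hle0 y hy]
      exact hv'
    have hvalid := valid_of_mem hσ.invol hr0 hv' (hHJ hres)
    have h6 := inH_of_mem hZ hv' hvalid hres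
    have h7 := inH_add hσ (h4 (-(x / c₀))) h6
    have e : (Pi.single r1.rev (-(x / c₀)) : Fin n → K) + (Pi.single r1.rev (x / c₀) +
        (x / c₀) • (0 : Fin n → K) + Pi.single r1 (x / c₀ * c₀)) = Pi.single r1 x := by
      rw [smul_zero, add_zero, ← add_assoc, ← Pi.single_add, neg_add_cancel, Pi.single_zero,
        zero_add, div_mul_cancel₀ _ hc₀ne]
    rw [e] at h7
    exact h7
  -- step 6
  have h6 : ∀ j : Fin n, j ≠ r0 → j ≠ r1 → j ≠ r1.rev → ∀ x : K,
      InH σ H r0 hr0 (Pi.single j x) := by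
    intro j hj0 hj1 hj1' x
    obtain ⟨d, hd⟩ := exists_valid hσ (Pi.single j 1 : Fin n → K)
    have hw1' : (Pi.single j 1 : Fin n → K) r1.rev = 0 :=
      Pi.single_eq_of_ne (M := fun _ => K) (Ne.symm hj1') 1
    have hw0 : (Pi.single j 1 : Fin n → K) r0 = 0 :=
      Pi.single_eq_of_ne (M := fun _ => K) (Ne.symm hj0) 1
    have hw1 : (Pi.single j 1 : Fin n → K) r1 = 0 :=
      Pi.single_eq_of_ne (M := fun _ => K) (Ne.symm hj1) 1
    obtain ⟨g, hv', hg, hconj⟩ := stab_conj hσ.invol hr0 hr1 h01 h01' _ hw1' hw0 hw1 d hd x 0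
    obtain ⟨hv1, hsrc⟩ := h4 x
    have hsrcH := hsrc 0 (hβ0 _)
    have hres : Hq σ r0 hr0 (Pi.single r1.rev x + x • (Pi.single j 1 : Fin n → K) +
        Pi.single r1 (x * d)) hv' 0 ∈ H := by
      rw [← hconj]
      apply hHconj hsrcH hg
      rw [hconj]
      apply isUni_Hq σ hlt0
      intro y hy
      rw [hle0 y hy]
      exact hv'
    have hvalid := valid_of_mem hσ.invol hr0 hv' (hHJ hres)
    have h7 := inH_of_mem hZ hv' hvalid hres
    have h8 := inH_add hσ (inH_add hσ (h4 (-x)) h7) (h5 (-(x * d)))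
    have e : (Pi.single r1.rev (-x) : Fin n → K) + (Pi.single r1.rev x +
        x • (Pi.single j 1 : Fin n → K) + Pi.single r1 (x * d)) + Pi.single r1 (-(x * d)) =
        Pi.single j x := by
      funext y
      simp only [Pi.add_apply, Pi.smul_apply, Pi.single_apply, smul_eq_mul]
      split_ifs <;> ring
    rw [e] at h8
    exact h8
  -- step 7
  have h7 : ∀ v : Fin n → K, v r0 = 0 → v r0.rev = 0 → InH σ H r0 hr0 v := by
    intro v hv0 hv0'
    apply inH_of_single hσ hZ _ v hv0 hv0'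
    intro j hj0 _ a
    by_cases hj1 : j = r1
    · rw [hj1]
      exact h5 a
    by_cases hj1' : j = r1.rev
    · rw [hj1']
      exact h4 a
    exact h6 j hj0 hj1 hj1' a
  -- step 8
  have h8 : ∀ (r : Fin n) (hr : r ≠ r.rev) (v : Fin n → K) (hv : v r = 0) (β : K), r < r.rev →
      (∀ y, y ≤ r → v y = 0) → (∀ y, r.rev ≤ y → v y = 0) → β + σ β + v ⬝ᵥ sh σ v = 0 →
      Hq σ r hr v hv β ∈ H := by
    intro r hr v hv β hlt hlo hhi hval
    have h0le : r0 ≤ r := by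
      rw [Fin.le_def, h0v]
      omega
    have hv0 : v r0 = 0 := hlo r0 h0le
    have hv0' : v r0.rev = 0 := hhi r0.rev (Fin.rev_le_rev.mpr h0le)
    obtain ⟨_, hall⟩ := h7 v hv0 hv0'
    have hsrc := hall β hval
    by_cases hrr0 : r = r0
    · subst hrr0
      exact hsrc
    · have h3 : r0 ≠ r.rev := by
        intro h
        rw [Fin.lt_def, ← h, h0v] at hlt
        omega
      obtain ⟨g, hg, hconj⟩ := weyl_conj hσ.invol hr0 hr (Ne.symm hrr0) h3 v hv0 hv hv0'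
        (hhi r.rev le_rfl) β
      rw [← hconj]
      apply hHconj hsrc hg
      rw [hconj]
      exact isUni_Hq σ hlt hlo β
  -- step 9
  apply le_antisymm hT
  intro y hy
  obtain ⟨u', hu', hu'U, rfl⟩ := mem_imJ.mp hy
  have h9 := unitri_mem_of_Hq hσ.invol H h8 u' hu' hu'U
  rw [hHdef] at h9
  obtain ⟨_, h⟩ := mem_preJ.mp h9
  exact h

end Cfsg.Agent.Lib.Helper16.FusSU
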