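import Mathlib
import Cfsg.Agent.Lib.Helper16.FusSUK
import Cfsg.Agent.Lib.Helper16.FusSUL
import Cfsg.Agent.Lib.Helper16.FusGenIso
import Cfsg.Agent.Lib.Helper16.PSU32
import Cfsg.Agent.Lib.Helper18.PSUModX
import Cfsg.Agent.Lib.Helper14.Unitary3

set_option autoImplicit false

/-! The `p`-fusion system of `PSU_n(q)`, `n ≥ 4`, in characteristic `p`, is simple. -/

namespace Cfsg.Agent.Lib.Helper16.FusSU

open Matrix

open Cfsg.Agent.Lib.Helper5.HermBridge (frobHom)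

open Cfsg.Agent.Lib.Helper16.PSU32 (isUni_of_mul_eq_one mul_eq_one_of_isUni su_ext su_coe_mul)

variable {K : Type*} [Field K] [Fintype K] {q n : ℕ}

theorem frob_invol (hK : Fintype.card K = q ^ 2) (x : K) : frobHom hK (frobHom hK x) = x :=
  (Cfsg.Agent.Lib.Helper18.PSUMod.barOK_frob hK).invol x

theorem invOK_frob (hK : Fintype.card K = q ^ 2) : InvOK (frobHom hK) := by
  have hB := Cfsg.Agent.Lib.Helper18.PSUMod.barOK_frob hK
  exact ⟨hB.invol, hB.tr, hB.sk, hB.nm, hB.nt⟩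

theorem st_mul_self_of_mem_SU (hK : Fintype.card K = q ^ 2) (g : Cfsg.SU n K q) :
    (g.1 : Matrix (Fin n) (Fin n) K) * st (frobHom hK) (g.1 : Matrix (Fin n) (Fin n) K) = 1 := by
  have h1 := mul_eq_one_of_isUni hK _ ((Cfsg.Agent.Lib.Helper14.mem_SU_iff g.1).mp g.2)
  have h2 : st (frobHom hK) (g.1 : Matrix (Fin n) (Fin n) K) *
      (g.1 : Matrix (Fin n) (Fin n) K) = 1 := by
    have h3 := congrArg Matrix.transpose h1
    rw [Matrix.transpose_mul, Matrix.transpose_transpose, Matrix.transpose_one] at h3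
    exact h3
  exact _root_.mul_eq_one_comm.mp h2

theorem uni_of_st (hK : Fintype.card K = q ^ 2) (M : Matrix (Fin n) (Fin n) K)
    (h : M * st (frobHom hK) M = 1) : M.transpose * M.map (fun x => x ^ q) = 1 := by
  have h2 : st (frobHom hK) M * M = 1 := _root_.mul_eq_one_comm.mp h
  have h3 := congrArg Matrix.transpose h2
  rw [Matrix.transpose_mul, Matrix.transpose_one] at h3
  unfold st at h3
  rw [Matrix.transpose_transpose] at h3
  exact h3

omit [Fintype K] in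
theorem det_conj {P Q g : Matrix (Fin n) (Fin n) K} (hPQ : P * Q = 1) (hg : g.det = 1) :
    (P * g * Q).det = 1 := by
  rw [Matrix.det_mul, Matrix.det_mul, mul_right_comm, ← Matrix.det_mul, hPQ, Matrix.det_one,
    one_mul, hg]

omit [Fintype K] in
theorem conj_conj {P Q M : Matrix (Fin n) (Fin n) K} (hQP : Q * P = 1) :
    Q * (P * M * Q) * P = M := by
  calc Q * (P * M * Q) * P = (Q * P) * M * (Q * P) := by simp only [Matrix.mul_assoc]
    _ = M := by rw [hQP, Matrix.one_mul, Matrix.mul_one]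

omit [Fintype K] in
theorem conj_mul {P Q A B : Matrix (Fin n) (Fin n) K} (hQP : Q * P = 1) :
    P * (A * B) * Q = (P * A * Q) * (P * B * Q) := by
  symm
  calc (P * A * Q) * (P * B * Q) = P * A * (Q * P) * B * Q := by simp only [Matrix.mul_assoc]
    _ = P * (A * B) * Q := by
      rw [hQP, Matrix.mul_one]
      simp only [Matrix.mul_assoc]

/-- the isomorphism from the special unitary group of the standard form to that of the
antidiagonal form -/
noncomputable def suIso (hK : Fintype.card K = q ^ 2) (n : ℕ) {ζ τ : K}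
    (hζ : ζ * frobHom hK ζ = -1) (hτ : τ + frobHom hK τ = 1) :
    Cfsg.SU n K q ≃* UJ (frobHom hK) n where
  toFun g := ⟨⟨Pmat (frobHom hK) ζ τ * (g.1 : Matrix (Fin n) (Fin n) K) * Qmat (frobHom hK) ζ τ,
      det_conj (Pmat_mul_Qmat (frob_invol hK) hζ hτ) g.1.2⟩,
    mem_UJ.2 (conj_mem_UJ (frob_invol hK) (Pmat_mul_Qmat (frob_invol hK) hζ hτ) rfl
      (st_mul_self_of_mem_SU hK g))⟩
  invFun h := ⟨⟨Qmat (frobHom hK) ζ τ * ((h.1 : SpecialLinearGroup (Fin n) K) :
      Matrix (Fin n) (Fin n) K) * Pmat (frobHom hK) ζ τ,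
      det_conj (Qmat_mul_Pmat (frob_invol hK) hζ hτ) h.1.2⟩,
    (Cfsg.Agent.Lib.Helper14.mem_SU_iff _).mpr (isUni_of_mul_eq_one hK _ (uni_of_st hK _
      (conj_mem_st (frob_invol hK) (Pmat_mul_Qmat (frob_invol hK) hζ hτ)
        (Pmat_mul_st (frob_invol hK) hζ hτ) rfl (mem_UJ.1 h.2))))⟩
  left_inv g := by
    apply su_ext
    exact conj_conj (Qmat_mul_Pmat (frob_invol hK) hζ hτ)
  right_inv h := by
    apply Subtype.ext
    apply Subtype.ext
    exact conj_conj (Pmat_mul_Qmat (frob_invol hK) hζ hτ)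
  map_mul' a b := by
    apply Subtype.ext
    apply Subtype.ext
    exact conj_mul (Qmat_mul_Pmat (frob_invol hK) hζ hτ)

theorem suIso_coe (hK : Fintype.card K = q ^ 2) (n : ℕ) {ζ τ : K}
    (hζ : ζ * frobHom hK ζ = -1) (hτ : τ + frobHom hK τ = 1) (g : Cfsg.SU n K q) :
    (((suIso hK n hζ hτ g : UJ (frobHom hK) n) : SpecialLinearGroup (Fin n) K) :
      Matrix (Fin n) (Fin n) K) =
      Pmat (frobHom hK) ζ τ * (g.1 : Matrix (Fin n) (Fin n) K) * Qmat (frobHom hK) ζ τ := rfl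

theorem suIso_symm_coe (hK : Fintype.card K = q ^ 2) (n : ℕ) {ζ τ : K}
    (hζ : ζ * frobHom hK ζ = -1) (hτ : τ + frobHom hK τ = 1) (h : UJ (frobHom hK) n) :
    (((suIso hK n hζ hτ).symm h).1 : Matrix (Fin n) (Fin n) K) =
      Qmat (frobHom hK) ζ τ * ((h.1 : SpecialLinearGroup (Fin n) K) :
        Matrix (Fin n) (Fin n) K) * Pmat (frobHom hK) ζ τ := rfl

theorem map_center_suIso (hK : Fintype.card K = q ^ 2) (m : ℕ) {ζ τ : K}
    (hζ : ζ * frobHom hK ζ = -1) (hτ : τ + frobHom hK τ = 1) :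
    (Subgroup.center (Cfsg.SU (m + 2) K q)).map (suIso hK (m + 2) hζ hτ).toMonoidHom =
      ZJ (frobHom hK) (m + 2) := by
  classical
  have hPQ := Pmat_mul_Qmat (n := m + 2) (frob_invol hK) hζ hτ
  have hQP := Qmat_mul_Pmat (n := m + 2) (frob_invol hK) hζ hτ
  ext h
  constructor
  · rintro ⟨z, hz, rfl⟩
    have h1 := Cfsg.Agent.Lib.Helper14.center_eq_scalar hK z hz
    obtain ⟨c, hc⟩ : ∃ c, c = (z.1 : Matrix (Fin (m + 2)) (Fin (m + 2)) K) 0 0 := ⟨_, rfl⟩
    rw [← hc] at h1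
    refine ⟨c, ?_⟩
    show (((suIso hK (m + 2) hζ hτ z : UJ (frobHom hK) (m + 2)) :
      SpecialLinearGroup (Fin (m + 2)) K) : Matrix (Fin (m + 2)) (Fin (m + 2)) K) = _
    rw [suIso_coe, h1, ← Matrix.smul_one_eq_diagonal, Matrix.mul_smul, Matrix.mul_one,
      Matrix.smul_mul, hPQ]
  · rintro ⟨c, hc⟩
    refine ⟨(suIso hK (m + 2) hζ hτ).symm h, ?_, (suIso hK (m + 2) hζ hτ).apply_symm_apply h⟩
    rw [SetLike.mem_coe, Subgroup.mem_center_iff]
    intro y
    apply su_ext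
    rw [su_coe_mul, su_coe_mul, suIso_symm_coe, hc, Matrix.mul_smul, Matrix.mul_one,
      Matrix.smul_mul, hQP, Matrix.mul_smul, Matrix.smul_mul, Matrix.mul_one, Matrix.one_mul]

/-- **S5172**: the `p`-fusion system of `PSU_n(q)` (`n ≥ 4`, characteristic `p`) on a Sylow
`p`-subgroup is simple. -/
theorem isSimple_PSU (p q : ℕ) [Fact p.Prime] [CharP K p] (hK : Fintype.card K = q ^ 2) (n : ℕ)
    (hn : 4 ≤ n) (S : Sylow p (Cfsg.PSU n K q)) :
    (Cfsg.groupFusionSystem (S : Subgroup (Cfsg.PSU n K q))).IsSimple p := by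
  obtain ⟨m, rfl⟩ : ∃ m, n = m + 2 := ⟨n - 2, by omega⟩
  obtain ⟨ζ, τ, -, hτ, hζ⟩ := Cfsg.Agent.Lib.Helper18.PSUMod.exists_consts hK
  have hσ : InvOK (frobHom hK) := invOK_frob hK
  have e : PGJ (frobHom hK) (m + 2) ≃* Cfsg.PSU (m + 2) K q :=
    (QuotientGroup.congr (Subgroup.center (Cfsg.SU (m + 2) K q)) (ZJ (frobHom hK) (m + 2))
      (suIso hK (m + 2) hζ hτ) (map_center_suIso hK m hζ hτ)).symm
  exact FusGen.isSimple_of_iso e (UbJ (frobHom hK) (m + 2)) (card_UbJ p hσ (by omega))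
    (UbJ_ne_bot hσ (by omega)) (normalizer_le_closure_genSetJ p hσ hn)
    (fun T hT hne hcl => fclosed_eq_UbJ p hσ hn T hT hne hcl) S

end Cfsg.Agent.Lib.Helper16.FusSU
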