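import Mathlib
import Cfsg.Prelude.Def_Classical
import Cfsg.Agent.Lib.Helper16.SLMinDefs

/-!
# S2344 endgame (Part III (b),(c); planner helper16): definitions

`V' = F^{2m+1}` (index type `Ix m = Unit ⊕ (Fin m ⊕ Fin m)`, quadratic form `Cfsg.quadFormOdd m F`) is
`⟨e_0, f_0⟩^⊥` inside the space of `Ω_{2n+1}(F)`, `n = m + 1`; a vector is `mk z₀ x y`.

* `OEnd F m H` : the *endgame datum* of a group `H`: the opposite radical `ubar z`
  (`f_0 ↦ f_0`, `u ↦ u - B(u,z) f_0` for `u ∈ V'`, `e_0 ↦ e_0 + z - Q'(z) f_0`), the elements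
  `lv g = levi (1 ⊕ g)`, `rd R = rad (0 ⊕ R)`, `sh c = sho (0, c)`, `ng a t = X_{-e_a}(t)`,
  `sc i s = levi (diag (s⁻¹, .., s at i, ..))` of the Levi factor `L_1`, with their action on `ubar`, and the
  rank-one identity `ubar (b e_i - f_i) = pp i b * wd i * qq i b` (inside `Ω⁺_4 = SL_2 ∘ SL_2` on
  `⟨e_0, f_0, e_i, f_i⟩`).
* `actL, actR, actS, actN, actC` : the maps of `V'` induced by these elements; `actC'` the dual of `actC`.
* `Step`, `Reach` : the orbit relation of the first four; `std i b = b e_i - f_i`.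
* `J w` : the weight label of `w`: `J w ⬝ᵥ r = polar w r`; `occ ρ E w` : the weight `J w` of `ubar` occurs.
-/

set_option autoImplicit false
set_option linter.unusedSectionVars false
set_option linter.unusedVariables false

namespace Cfsg.Agent.Lib.Helper16.OOEnd

open Matrix

/-- the index type of `V'` -/
abbrev Ix (m : ℕ) : Type := Unit ⊕ (Fin m ⊕ Fin m)

section coords

variable {F : Type*} [Field F] {m : ℕ}

/-- the vector `(z₀; x; y)` -/
def mk (z₀ : F) (x y : Fin m → F) : Ix m → F := Sum.elim (fun _ => z₀) (Sum.elim x y)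

/-- the `x₀`-coordinate -/
def c0 (z : Ix m → F) : F := z (.inl ())

/-- the `x`-coordinates -/
def cx (z : Ix m → F) : Fin m → F := fun i => z (.inr (.inl i))

/-- the `y`-coordinates -/
def cy (z : Ix m → F) : Fin m → F := fun i => z (.inr (.inr i))

@[simp] theorem c0_mk (z₀ : F) (x y : Fin m → F) : c0 (mk z₀ x y) = z₀ := rfl

@[simp] theorem cx_mk (z₀ : F) (x y : Fin m → F) : cx (mk z₀ x y) = x := rfl

@[simp] theorem cy_mk (z₀ : F) (x y : Fin m → F) : cy (mk z₀ x y) = y := rfl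

theorem mk_eta (z : Ix m → F) : mk (c0 z) (cx z) (cy z) = z := by
  funext k
  rcases k with u | k | k <;> rfl

theorem ext_coords {z z' : Ix m → F} (h0 : c0 z = c0 z') (hx : cx z = cx z') (hy : cy z = cy z') :
    z = z' := by
  rw [← mk_eta z, ← mk_eta z', h0, hx, hy]

theorem mk_add (z₀ z₀' : F) (x y x' y' : Fin m → F) :
    mk z₀ x y + mk z₀' x' y' = mk (z₀ + z₀') (x + x') (y + y') := by
  funext k
  rcases k with u | k | k <;> rfl

/-- the quadratic form of `V'` -/
abbrev Qp (z : Ix m → F) : F := Cfsg.quadFormOdd m F z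

theorem Qp_eq (z : Ix m → F) : Qp z = c0 z ^ 2 + cx z ⬝ᵥ cy z := rfl

/-- the weight label: `J w ⬝ᵥ r = Qp (w + r) - Qp w - Qp r` -/
def J (w : Ix m → F) : Ix m → F := mk (2 * c0 w) (cy w) (cx w)

/-- `b e_i - f_i` -/
def std (i : Fin m) (b : F) : Ix m → F :=
  mk 0 (Pi.single i b : Fin m → F) (Pi.single i (-1) : Fin m → F)

/-- the action of `lv g = levi (1 ⊕ g)` -/
def actL (g : SpecialLinearGroup (Fin m) F) (z : Ix m → F) : Ix m → F :=
  mk (c0 z) ((g : Matrix (Fin m) (Fin m) F) *ᵥ cx z)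
    (((g⁻¹ : SpecialLinearGroup (Fin m) F) : Matrix (Fin m) (Fin m) F)ᵀ *ᵥ cy z)

/-- the action of `rd R = rad (0 ⊕ R)` -/
def actR (R : Matrix (Fin m) (Fin m) F) (z : Ix m → F) : Ix m → F :=
  mk (c0 z) (cx z + (R - Rᵀ) *ᵥ cy z) (cy z)

/-- the action of `sh c = sho (0, c)` -/
def actS (c : Fin m → F) (z : Ix m → F) : Ix m → F :=
  mk (c0 z - c ⬝ᵥ cy z) (cx z + (2 * c0 z - c ⬝ᵥ cy z) • c) (cy z)

/-- the action of `ng a t = X_{-e_a}(t)` -/
def actN (a : Fin m) (t : F) (z : Ix m → F) : Ix m → F :=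
  mk (c0 z - t * cx z a) (cx z)
    (cy z + (Pi.single a (2 * c0 z * t - t ^ 2 * cx z a) : Fin m → F))

/-- the action of `sc i s = levi (diag (s⁻¹, 1, .., s at i, .., 1))` -/
def actC (i : Fin m) (s : F) (z : Ix m → F) : Ix m → F :=
  mk (s * c0 z) (fun j => if j = i then s ^ 2 * cx z j else s * cx z j)
    (fun j => if j = i then cy z j else s * cy z j)

/-- the dual of `actC`: `J w ⬝ᵥ r = J (actC' i s⁻¹ w) ⬝ᵥ actC i s r` -/
def actC' (i : Fin m) (s : F) (w : Ix m → F) : Ix m → F :=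
  mk (s * c0 w) (fun j => if j = i then cx w j else s * cx w j)
    (fun j => if j = i then s ^ 2 * cy w j else s * cy w j)

/-- one move of the controlled part of `L_1` -/
inductive Step : (Ix m → F) → (Ix m → F) → Prop
  | L (g : SpecialLinearGroup (Fin m) F) (z : Ix m → F) : Step z (actL g z)
  | R (R : Matrix (Fin m) (Fin m) F) (z : Ix m → F) : Step z (actR R z)
  | S (c : Fin m → F) (z : Ix m → F) : Step z (actS c z)
  | N (a : Fin m) (t : F) (z : Ix m → F) : Step z (actN a t z)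

/-- the orbit relation -/
def Reach (z z' : Ix m → F) : Prop := Relation.ReflTransGen Step z z'

end coords

/-- The endgame datum of a group `H` (see the header). -/
structure OEnd (F : Type*) [Field F] (m : ℕ) (H : Type*) [Group H] where
  /-- the opposite radical `Q_1^-` -/
  ubar : (Ix m → F) → H
  /-- `levi (1 ⊕ g)` -/
  lv : SpecialLinearGroup (Fin m) F → H
  /-- `rad (0 ⊕ R)` -/
  rd : Matrix (Fin m) (Fin m) F → H
  /-- `sho (0, c)` -/
  sh : (Fin m → F) → H
  /-- `X_{-e_a}(t)` -/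
  ng : Fin m → F → H
  /-- `levi (diag (s⁻¹, 1, .., s at i, .., 1))` -/
  sc : Fin m → Fˣ → H
  /-- the double swap `e_0 ↔ f_0`, `e_i ↔ f_i` -/
  wd : Fin m → H
  /-- left factor of the rank-one identity -/
  pp : Fin m → Fˣ → H
  /-- right factor of the rank-one identity -/
  qq : Fin m → Fˣ → H
  ubar_add : ∀ z z', ubar (z + z') = ubar z * ubar z'
  lv_ubar : ∀ g z, lv g * ubar z * (lv g)⁻¹ = ubar (actL g z)
  rd_ubar : ∀ R z, rd R * ubar z * (rd R)⁻¹ = ubar (actR R z)
  sh_ubar : ∀ c z, sh c * ubar z * (sh c)⁻¹ = ubar (actS c z)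
  ng_ubar : ∀ a t z, ng a t * ubar z * (ng a t)⁻¹ = ubar (actN a t z)
  sc_ubar : ∀ i (s : Fˣ) z, sc i s * ubar z * (sc i s)⁻¹ = ubar (actC i (s : F) z)
  ident : ∀ i (b : Fˣ), ubar (std i (b : F)) = pp i b * wd i * qq i b

namespace OEnd

variable {F : Type*} [Field F] {m : ℕ} {H : Type*} [Group H]

theorem ubar_zero (E : OEnd F m H) : E.ubar 0 = 1 := by
  have h := E.ubar_add 0 0
  rw [add_zero] at h
  exact (mul_eq_left (a := E.ubar 0)).mp h.symm

/-- `ubar` as a homomorphism -/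
def ubarHom (E : OEnd F m H) : Multiplicative (Ix m → F) →* H where
  toFun z := E.ubar (Multiplicative.toAdd z)
  map_one' := E.ubar_zero
  map_mul' z z' := E.ubar_add _ _

@[simp] theorem ubarHom_apply (E : OEnd F m H) (z : Ix m → F) :
    E.ubarHom (Multiplicative.ofAdd z) = E.ubar z := rfl

end OEnd

/-- the hypotheses on the `P_1`-fixed vector `v` that the endgame uses -/
structure Fixes {F : Type*} [Field F] {m : ℕ} {H : Type*} [Group H] {M : Type*} [AddCommGroup M]
    [Module ℂ M] (ρ : Representation ℂ H M) (E : OEnd F m H) (v : M) : Prop where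
  lv : ∀ g, ρ (E.lv g) v = v
  rd : ∀ R, ρ (E.rd R) v = v
  sh : ∀ c, ρ (E.sh c) v = v
  ng : ∀ a t, ρ (E.ng a t) v = v
  pp : ∀ i b, ρ (E.pp i b) v = v
  qq : ∀ i b, ρ (E.qq i b) v = v

section occ

variable {F : Type*} [Field F] [Finite F] {m : ℕ} {H : Type*} [Group H] {M : Type*}
  [AddCommGroup M] [Module ℂ M]

/-- the weight `J w` of `ubar` occurs in `M` -/
def occ (ρ : Representation ℂ H M) (E : OEnd F m H) (w : Ix m → F) : Prop :=
  Cfsg.Agent.Lib.Helper16.SLMin.wt ρ E.ubar (J w) ≠ ⊥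

end occ

end Cfsg.Agent.Lib.Helper16.OOEnd
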