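/-
helper16: S4503 PART H leaf TRIVX (`notes/S4503_H_leaves.lean`): the trivial character is a non-exceptional character of
the principal block (as `f < p - 1`, there are at least two exceptional characters, and they would all equal `1_G`).
-/
import Mathlib
import Cfsg.Prelude.Def_BlockRank
import Cfsg.Agent.Lib.Helper6.BRHDefs
import Cfsg.Agent.Lib.Helper7.DOS4441
import Cfsg.Agent.Lib.Helper8.DOMFinal
import Cfsg.Agent.Lib.Helper8.DOFULL
import Cfsg.Agent.Lib.Helper26.DODEFP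
import Cfsg.Agent.Lib.Lead.CharDecomp
import Cfsg.Agent.Lib.Helper29.DOSECTION

set_option autoImplicit false

namespace Cfsg.Agent.Lib.Helper16.BRHTRIVX

open Cfsg Cfsg.Agent.Lib.Helper8.DOM Cfsg.Agent.Lib.Helper27.DO Cfsg.Agent.CharLib
open Cfsg.Agent.Lib.Helper6.BRH Cfsg.Agent.Lib.Helper7.DOS4441
open scoped ComplexConjugate

universe u

variable {G : Type u} [Group G] [Finite G] {p : ℕ} [Fact p.Prime] {M : Ideal AlgInt}

/-- TRIVX : the trivial character is non-exceptional (as `f < p - 1`). -/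
theorem triv_mem_X (hM : IsPModular p M) (P : Subgroup G) (hP : Nat.card P = p)
    (hSyl : ¬ p ∣ P.index) (hf : (Cz P).relIndex (Nz P) < p - 1) (X Y : Set (IrrCharacter G))
    (hB : principalBlock M G = X ∪ Y) (hdvd : (Cz P).relIndex (Nz P) ∣ p - 1)
    (hcardY : Nat.card Y = (p - 1) / (Cz P).relIndex (Nz P))
    (hYreg : ∀ ψ ∈ Y, ∀ ψ' ∈ Y, ∀ g : G, ¬ p ∣ orderOf g → (ψ : G → ℂ) g = (ψ' : G → ℂ) g)
    (hgal : ∀ ψ ∈ Y, ∀ ψ' ∈ Y, ∃ k : ℕ, ¬ p ∣ k ∧ ∀ x ∈ P, x ≠ 1 → ∀ y ∈ Cz P, ¬ p ∣ orderOf y →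
      (ψ' : G → ℂ) (x * y) = (ψ : G → ℂ) (x ^ k * y)) :
    trivIrr G ∈ X := by
  have hmem : trivIrr G ∈ principalBlock M G := trivIrr_mem_principal M hM
  rw [hB] at hmem
  rcases hmem with h | h
  · exact h
  · exfalso
    -- every member of `Y` is the trivial character
    have hall : ∀ ψ' ∈ Y, ψ' = trivIrr G := by
      intro ψ' hψ'
      apply Subtype.ext
      funext g
      show (ψ' : G → ℂ) g = 1
      by_cases hg : p ∣ orderOf g
      · obtain ⟨t, x, y, hxP, hx1, hyC, hyreg, hconj⟩ :=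
          Cfsg.Agent.Lib.Helper29.DOSECTION.exists_section P hP hSyl g hg
        have hcf : IsClassFunction G (ψ' : G → ℂ) :=
          IsCharacter.isClassFunction (IsIrrCharacter.isCharacter ψ'.2)
        have h1 : (ψ' : G → ℂ) g = (ψ' : G → ℂ) (t * g * t⁻¹) := (hcf g t).symm
        obtain ⟨k, -, hk⟩ := hgal (trivIrr G) h ψ' hψ'
        rw [h1, hconj, hk x hxP hx1 y hyC hyreg]
        rfl
      · rw [hYreg ψ' hψ' (trivIrr G) h g hg]
        rfl
    have hsub : Y ⊆ {trivIrr G} := fun ψ' hψ' => Set.mem_singleton_iff.mpr (hall ψ' hψ')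
    have hle : Nat.card Y ≤ 1 := by
      have h1 := Nat.card_mono (Set.finite_singleton (trivIrr G)) hsub
      have h2 : Nat.card ({trivIrr G} : Set (IrrCharacter G)) = 1 := by simp
      rw [h2] at h1
      exact h1
    rw [hcardY] at hle
    obtain ⟨m, hm⟩ := hdvd
    have hfpos : 0 < (Cz P).relIndex (Nz P) := by
      rcases Nat.eq_zero_or_pos ((Cz P).relIndex (Nz P)) with h0 | h0
      · rw [h0, zero_mul] at hm
        omega
      · exact h0
    rw [hm, Nat.mul_div_cancel_left m hfpos] at hle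
    have hm2 : m = 0 ∨ m = 1 := by omega
    rcases hm2 with h0 | h0
    · rw [h0, mul_zero] at hm
      omega
    · rw [h0, mul_one] at hm
      omega

end Cfsg.Agent.Lib.Helper16.BRHTRIVX
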