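/-
helper16: BRW-B0T1 (S4700 + S0996 market, part S v2, `notes/S4700_S_leaves.lean`): the principal block of a group with a Sylow
`p`-subgroup `P` of order `p` when `f = |N_G(P) : C_G(P)| = p - 1`: `Helper6.BRHB0X.exists_B0_full` with `f = p - 1` instead of
`f < p - 1`.  Same proof up to `triv_mem_X`; if `1_G` is the unique exceptional character `ξ`, swap it with some `η₀ ∈ X`.
-/
import Mathlib
import Cfsg.Prelude.Def_BlockRank
import Cfsg.Prelude.Def_CaseTheorems
import Cfsg.Agent.Lib.Helper6.BRHDefs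
import Cfsg.Agent.Lib.Helper6.BRHB0X
import Cfsg.Agent.Lib.Helper24.BRCDefs
import Cfsg.Agent.Lib.Helper27.BRWDefs

set_option autoImplicit false

namespace Cfsg.Agent.Lib.Helper16.BRWB0T1

open Cfsg Cfsg.Agent.Lib.Helper8.DOM Cfsg.Agent.Lib.Helper27.DO Cfsg.Agent.CharLib
open Cfsg.Agent.Lib.Helper6.BRH Cfsg.Agent.Lib.Helper27.BRW Cfsg.Agent.Lib.Helper24.BRC
open Cfsg.Agent.Lib.Helper7.DOS4441
open Cfsg.Agent.Lib.Helper16.BRHVALS Cfsg.Agent.Lib.Helper7.BRHSUMY
open Cfsg.Agent.Lib.Helper7.BRHPSUMY Cfsg.Agent.Lib.Helper6.BRHDEGREL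
open scoped ComplexConjugate

universe u

variable {G : Type u} [Group G] [Finite G] {p : ℕ} [Fact p.Prime]

/-- exchanging one index of a finite sum -/
theorem swap_finsum {ι A : Type*} [AddCommGroup A] (X : Set ι) (hX : X.Finite) (ξ η₀ : ι)
    (hη₀ : η₀ ∈ X) (hξ : ξ ∉ X) (F F' : ι → A) (hF : ∀ η ∈ X, η ≠ η₀ → F' η = F η) :
    ∑ᶠ η ∈ insert ξ (X \ {η₀}), F' η = F' ξ + ((∑ᶠ η ∈ X, F η) - F η₀) := by
  have hfin : (X \ {η₀}).Finite := hX.subset Set.diff_subset
  have hξ' : ξ ∉ X \ {η₀} := fun h => hξ h.1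
  rw [finsum_mem_insert _ hξ' hfin]
  have h1 : ∑ᶠ η ∈ X \ {η₀}, F' η = ∑ᶠ η ∈ X \ {η₀}, F η :=
    finsum_mem_congr rfl (fun η hη => hF η hη.1 (fun h => hη.2 h))
  have h2 : ∑ᶠ η ∈ X, F η = F η₀ + ∑ᶠ η ∈ X \ {η₀}, F η := by
    have h3 : X = insert η₀ (X \ {η₀}) := by
      rw [Set.insert_diff_singleton, Set.insert_eq_of_mem hη₀]
    conv_lhs => rw [h3]
    exact finsum_mem_insert _ (fun h => h.2 rfl) hfin
  rw [h1, h2]
  abel

/-- B0T1 : the principal block when `f = p - 1`. -/
theorem exists_B0_full_eq {M : Ideal AlgInt} (hM : IsPModular p M) (P : Subgroup G) (hP : Nat.card P = p)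
    (hSyl : ¬ p ∣ P.index) (hf : (Cz P).relIndex (Nz P) = p - 1) :
    ∃ (X Y : Set (IrrCharacter G)) (v : IrrCharacter G → ℤ) (ε : ℤ), B0 p P X Y v ε ∧
      principalBlock M G = X ∪ Y ∧
      (∀ η ∈ X, (charDegree (η : G → ℂ) : ℤ) ≡ v η [ZMOD p]) ∧
      (∀ ξ ∈ Y, (charDegree (ξ : G → ℂ) : ℤ) ≡ ε * ((Cz P).relIndex (Nz P) : ℤ) [ZMOD p]) ∧
      (∀ ξ ∈ Y, ∀ ξ' ∈ Y, ∀ g : G, ¬ p ∣ orderOf g → (ξ : G → ℂ) g = (ξ' : G → ℂ) g) ∧
      (∀ ξ ∈ Y, ∀ g : G, ¬ p ∣ orderOf g →
        (ε : ℂ) * (ξ : G → ℂ) g = ∑ᶠ χ ∈ X, (v χ : ℂ) * (χ : G → ℂ) g) := by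
  classical
  let _ : Fintype G := Fintype.ofFinite G
  let _ : Fintype (IrrCharacter G) := Fintype.ofFinite _
  have : M.IsMaximal := hM.2.1
  have hpp : p.Prime := Fact.out
  have hp2 := hpp.two_le
  have hidx : ¬ p ∣ P.relIndex (Nz P) :=
    fun h => hSyl (dvd_trans h (Subgroup.relIndex_dvd_index_of_le Subgroup.le_normalizer))
  have hfinal := Cfsg.Agent.Lib.Helper8.DOMFinal.card_conjClasses_le_sum_blockRank M hM P hP hidx
  have hdvd : p ∣ Nat.card G := by
    rw [← hP]
    exact Subgroup.card_subgroup_dvd_card P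
  have hd := blockDefect_principal_pos M hM hdvd
  have hB := isPBlock_principal (G := G) M
  have hBP := Cfsg.Agent.Lib.Helper26.DODEFP.isDefectGroup_of_pos hM P hP hSyl
    (principalBlock M G) hB hd
  obtain ⟨x0, hx0⟩ := exists_gen P hP
  obtain ⟨hfd, -, X, Y, v, ε, hXY, hdisj, hcX, hcY, hsX, hsε, hYreg, hrel, hdX, hdY, hvX, -, hgal⟩ :=
    Cfsg.Agent.Lib.Helper8.DOFULL.struct_full_of hM P hP hSyl hfinal (principalBlock M G) hB hBP
      (triv P) (pTriv_triv P) (isInducedBlock_triv M hM P hP x0 hx0) (Nz P) (isInertia_triv P)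
  have hf0 : (Cz P).relIndex (Nz P) ≠ 0 := by
    intro h0
    rw [h0, zero_dvd_iff] at hfd
    omega
  have hvalX : ∀ η ∈ X, ∀ g : G, p ∣ orderOf g → (η : G → ℂ) g = (v η : ℂ) :=
    fun η hη => valX_singular P hP hSyl η (v η) (hvX η hη)
  have hYne : Y.Nonempty := by
    have h1 : 0 < Nat.card Y := by
      rw [hcY]
      apply Nat.div_pos
      · exact Nat.le_of_dvd (Nat.sub_pos_of_lt hpp.one_lt) hfd
      · exact Nat.pos_of_ne_zero hf0
    have : Nonempty Y := (Nat.card_pos_iff.mp h1).1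
    exact Set.nonempty_coe_sort.mp this
  have hsumY := sumY_singular hM X Y v ε hXY hdisj hsε hYne hvalX hYreg hrel
  have hdX' : ∀ η ∈ X, (charDegree (η : G → ℂ) : ℤ) ≡ v η [ZMOD p] := by
    intro η hη
    have h1 := hdX η hη
    rw [charDegree_triv, Nat.div_self (Nat.pos_of_ne_zero hf0)] at h1
    simpa using h1
  have hdY' : ∀ ξ ∈ Y, (charDegree (ξ : G → ℂ) : ℤ) ≡ ε * ((Cz P).relIndex (Nz P) : ℤ) [ZMOD p] := by
    intro ξ hξ
    have h1 := hdY ξ hξ
    rw [charDegree_triv, mul_one] at h1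
    exact h1
  have hdegY := degY_rel (p := p) X Y v ε hrel
  by_cases htX : trivIrr G ∈ X
  · exact ⟨X, Y, v, ε,
      { dvd := hfd
        disj := hdisj
        cardX := hcX
        cardY := hcY
        sgnX := hsX
        sgn := hsε
        trivX := htX
        valX := hvalX
        sumY := hsumY
        psumY := psumY_eq P hP Y ε hfd hcY hsumY hgal
        degY := hdegY }, hXY, hdX', hdY', hYreg, hrel⟩
  · -- the trivial character is the unique exceptional character: swap it with some `η₀ ∈ X`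
    have hmem : trivIrr G ∈ principalBlock M G := trivIrr_mem_principal M hM
    rw [hXY] at hmem
    have htY : trivIrr G ∈ Y := hmem.resolve_left htX
    have hp1 : 0 < p - 1 := by omega
    have hcY1 : Nat.card Y = 1 := by rw [hcY, hf]; exact Nat.div_self hp1
    set ξ : IrrCharacter G := trivIrr G with hξdef
    have hYeq : Y = {ξ} := by
      obtain ⟨a, ha⟩ := Set.ncard_eq_one.mp (by rw [← _root_.Nat.card_coe_set_eq]; exact hcY1)
      rw [ha] at htY ⊢
      rw [Set.mem_singleton_iff.mp htY]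
    have hξY : ξ ∈ Y := htY
    have hXfin : X.Finite := Set.toFinite _
    have hXne : X.Nonempty := by
      have h1 : 0 < Nat.card X := by rw [hcX, hf]; exact hp1
      have : Nonempty X := (Nat.card_pos_iff.mp h1).1
      exact Set.nonempty_coe_sort.mp this
    obtain ⟨η₀, hη₀⟩ := hXne
    have hne : η₀ ≠ ξ := fun h => htX (by rw [← h]; exact hη₀)
    have hv' : ∀ η ∈ X, Function.update v ξ (-ε) η = v η := by
      intro η hη
      exact Function.update_of_ne (fun h => htX (by rw [← h]; exact hη)) _ _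
    have hv'ξ : Function.update v ξ (-ε) ξ = -ε := Function.update_self _ _ _
    have hfZ : (((Cz P).relIndex (Nz P) : ℕ) : ℤ) = (p : ℤ) - 1 := by
      rw [hf]
      have : ((p - 1 : ℕ) : ℤ) = (p : ℤ) - 1 := by
        rw [Nat.cast_sub (by omega)]
        simp
      exact this
    -- the values of `η₀` and `ξ` on the `p`-singular elements
    have hsumY' : ∀ g : G, p ∣ orderOf g →
        ∑ᶠ ψ0 ∈ ({η₀} : Set (IrrCharacter G)), (ψ0 : G → ℂ) g = -((-v η₀ : ℤ) : ℂ) := by
      intro g hg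
      rw [finsum_mem_singleton, hvalX η₀ hη₀ g hg]
      push_cast
      ring
    have hcY' : Nat.card ({η₀} : Set (IrrCharacter G)) = (p - 1) / (Cz P).relIndex (Nz P) := by
      rw [hf, Nat.div_self hp1, _root_.Nat.card_coe_set_eq, Set.ncard_singleton]
    have hgal' : ∀ ψ ∈ ({η₀} : Set (IrrCharacter G)), ∀ ψ' ∈ ({η₀} : Set (IrrCharacter G)),
        ∃ k : ℕ, ¬ p ∣ k ∧ ∀ x ∈ P, x ≠ 1 → ∀ y ∈ Cz P, ¬ p ∣ orderOf y →
          (ψ' : G → ℂ) (x * y) = (ψ : G → ℂ) (x ^ k * y) := by
      intro ψ hψ ψ' hψ'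
      rw [Set.mem_singleton_iff.mp hψ, Set.mem_singleton_iff.mp hψ']
      refine ⟨1, ?_, ?_⟩
      · intro h
        have := Nat.le_of_dvd one_pos h
        omega
      · intro x _ _ y _ _
        rw [pow_one]
    refine ⟨insert ξ (X \ {η₀}), {η₀}, Function.update v ξ (-ε), -v η₀,
      { dvd := hfd
        disj := ?_
        cardX := ?_
        cardY := hcY'
        sgnX := ?_
        sgn := ?_
        trivX := Set.mem_insert ξ _
        valX := ?_
        sumY := hsumY'
        psumY := psumY_eq P hP {η₀} (-v η₀) hfd hcY' hsumY' hgal'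
        degY := ?_ }, ?_, ?_, ?_, ?_, ?_⟩
    · -- disj
      rw [Set.disjoint_singleton_right]
      intro h
      rcases h with h | h
      · exact hne h
      · exact h.2 rfl
    · -- cardX
      rw [_root_.Nat.card_coe_set_eq, Set.ncard_insert_of_notMem (fun h => htX h.1)
        (hXfin.subset Set.diff_subset), Set.ncard_sdiff_singleton_of_mem hη₀,
        ← _root_.Nat.card_coe_set_eq, hcX, hf]
      omega
    · -- sgnX
      intro η hη
      rcases hη with h | h
      · rw [h, hv'ξ]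
        rcases hsε with h1 | h1
        · right; rw [h1]
        · left; rw [h1]; norm_num
      · rw [hv' η h.1]
        exact hsX η h.1
    · -- sgn
      rcases hsX η₀ hη₀ with h1 | h1
      · right; rw [h1]
      · left; rw [h1]; norm_num
    · -- valX
      intro η hη g hg
      rcases hη with h | h
      · rw [h, hv'ξ]
        have h1 := hsumY g hg
        rw [hYeq, finsum_mem_singleton] at h1
        rw [h1]
        push_cast
        ring
      · rw [hv' η h.1]
        exact hvalX η h.1 g hg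
    · -- degY
      intro ψ0 hψ0
      rw [Set.mem_singleton_iff.mp hψ0]
      rw [swap_finsum X hXfin ξ η₀ hη₀ htX
        (fun η => v η * (charDegree (η : G → ℂ) : ℤ))
        (fun η => Function.update v ξ (-ε) η * (charDegree (η : G → ℂ) : ℤ))
        (fun η hη _ => by beta_reduce; rw [hv' η hη])]
      beta_reduce
      rw [hv'ξ, ← hdegY ξ hξY]
      ring
    · -- the principal block
      rw [hXY, hYeq]
      ext χ
      simp only [Set.mem_union, Set.mem_insert_iff, Set.mem_diff, Set.mem_singleton_iff]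
      by_cases h : χ = η₀
      · subst h
        simp [hη₀]
      · tauto
    · -- degrees of `X'`
      intro η hη
      rcases hη with h | h
      · rw [h, hv'ξ]
        refine (hdY' ξ hξY).trans ?_
        rw [Int.modEq_iff_dvd, hfZ]
        exact ⟨-ε, by ring⟩
      · rw [hv' η h.1]
        exact hdX' η h.1
    · -- degrees of `Y'`
      intro ψ0 hψ0
      rw [Set.mem_singleton_iff.mp hψ0]
      refine (hdX' η₀ hη₀).trans ?_
      rw [Int.modEq_iff_dvd, hfZ]
      exact ⟨-v η₀, by ring⟩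
    · -- `Y'` on the `p`-regular elements
      intro ψ1 h1 ψ2 h2 g _
      rw [Set.mem_singleton_iff.mp h1, Set.mem_singleton_iff.mp h2]
    · -- the relation on the `p`-regular elements
      intro ψ0 hψ0 g hg
      rw [Set.mem_singleton_iff.mp hψ0]
      rw [swap_finsum X hXfin ξ η₀ hη₀ htX
        (fun η => (v η : ℂ) * (η : G → ℂ) g)
        (fun η => (Function.update v ξ (-ε) η : ℂ) * (η : G → ℂ) g)
        (fun η hη _ => by beta_reduce; rw [hv' η hη])]
      beta_reduce
      rw [hv'ξ, ← hrel ξ hξY g hg]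
      push_cast
      ring

end Cfsg.Agent.Lib.Helper16.BRWB0T1
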