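/-
helper16: S4503 PART E leaf FONE (`notes/S4503_E_leaves.lean`): if `|F| = 1`, the values `ε c ζ^(i j)` of the faithful
irreducible character `χ` of degree `c` on `P = ⟨x0⟩` have norm `χ(1)`, so `P` is central (ZCHAR), hence normal.
-/
import Mathlib
import Cfsg.Prelude.Def_BlockRank
import Cfsg.Agent.Lib.Helper27.DODefs
import Cfsg.Agent.Lib.Helper27.BlkAlgDefs2
import Cfsg.Agent.Lib.Helper14.BREData
import Cfsg.Agent.Lib.Helper16.DOSETUP
import Cfsg.Agent.Lib.Helper16.BREZCHAR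

set_option autoImplicit false

namespace Cfsg.Agent.Lib.Helper16.BREFONE

open Cfsg Cfsg.Agent.Lib.Helper8.DOM Cfsg.Agent.Lib.Helper27.DO Cfsg.Agent.Lib.Helper27.BlkAlg
open scoped ComplexConjugate

universe u

section gen

variable {G : Type u} [Group G] [Finite G] {p : ℕ} [Fact p.Prime] {M : Ideal AlgInt}

/-- FONE : if `N_G(P) = C_G(P)` acts trivially (`|F| = 1`), `P` acts by scalars, so `P` is central, hence normal. -/
theorem normal_of_card_eq_one (χ : IrrCharacter G) (P : Subgroup G) (x0 : G)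
    (hx0 : P = Subgroup.zpowers x0) (hord : orderOf x0 = p)
    (F : Subgroup (ZMod p)ˣ) (hF1 : Nat.card F = 1) (i : (ZMod p)ˣ) (ε : ℤ) (hε : ε = 1 ∨ ε = -1)
    (c : ℕ)
    (hval : ∀ j : ℕ, ¬ p ∣ j → (χ : G → ℂ) (x0 ^ j) = (ε : ℂ) * (c : ℂ) *
      ∑ᶠ w ∈ (F : Set (ZMod p)ˣ), zetaP p ^ (((w : ZMod p) * (i : ZMod p)).val * j))
    (hdeg : charDegree (χ : G → ℂ) = Nat.card F * c)
    (hfaith : ∀ g : G, (χ : G → ℂ) g = (χ : G → ℂ) 1 → g = 1) : P.Normal := by
  have hp : p.Prime := Fact.out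
  have hFbot : F = ⊥ := Subgroup.card_eq_one.mp hF1
  have hFset : (F : Set (ZMod p)ˣ) = {1} := by
    rw [hFbot]
    exact Subgroup.coe_bot
  have h1 : ¬ p ∣ 1 := fun h => hp.one_lt.ne' (Nat.dvd_one.mp h)
  have hv := hval 1 h1
  rw [hFset, finsum_mem_singleton, pow_one] at hv
  have hz : zetaP p ^ p = 1 := (Complex.isPrimitiveRoot_exp p hp.ne_zero).pow_eq_one
  have hzn : ‖zetaP p‖ = 1 := Complex.norm_eq_one_of_pow_eq_one hz hp.ne_zero
  have hεn : ‖(ε : ℂ)‖ = 1 := by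
    rcases hε with h | h <;> rw [h] <;> simp
  have hnorm : ‖(χ : G → ℂ) x0‖ = (charDegree (χ : G → ℂ) : ℝ) := by
    rw [hv, norm_mul, norm_mul, norm_pow, hzn, one_pow, hεn, hdeg, hF1]
    simp
  have hcen : x0 ∈ Subgroup.center G :=
    Cfsg.Agent.Lib.Helper16.BREZCHAR.mem_center_of_norm_eq χ hfaith x0 hnorm
  have hle : P ≤ Subgroup.center G := by
    rw [hx0, Subgroup.zpowers_le]
    exact hcen
  constructor
  intro n hn g
  have hnc : n ∈ Subgroup.center G := hle hn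
  have hcomm : g * n = n * g := (Subgroup.mem_center_iff.mp hnc) g
  rw [hcomm, mul_inv_cancel_right]
  exact hn

end gen

end Cfsg.Agent.Lib.Helper16.BREFONE
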