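/-
helper16 (S1632 market, planner helper7): leaves (B2a) `Qd_grad`, (B2b) `grad_eq_mulVec`.
-/
import Cfsg.Agent.Lib.Helper7.ThetaDefs

set_option autoImplicit false

noncomputable section

namespace Cfsg.Agent.Lib.Helper16.ThetaB2

open Cfsg.Agent.Lib.Helper7.Theta

/-- **S1632 leaf (B2a)**: the dual form at the gradient. -/
theorem Qd_grad {n : ℕ} (d : GData n) (hd : d.Pos) (x : Fin n → ℝ) :
    d.Qd (d.grad x) = d.Q x := by
  induction d with
  | nil => rfl
  | cons c u r ih =>
    obtain ⟨hc, hr⟩ := hd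
    rw [GData.Qd_cons, GData.Q_cons, GData.grad_cons_zero]
    have h1 : (fun j => (GData.cons c u r).grad x (Fin.succ j) -
        c * (x 0 + ∑ j, u j * x (Fin.succ j)) * u j) = r.grad (fun j => x (Fin.succ j)) := by
      funext j
      rw [GData.grad_cons_succ]
      ring
    rw [h1, ih hr]
    congr 1
    field_simp

/-- the polar form of `Q` is given by the gradient -/
theorem Q_add {n : ℕ} (d : GData n) (x y : Fin n → ℝ) :
    d.Q (x + y) = d.Q x + d.Q y + 2 * (y ⬝ᵥ d.grad x) := by
  induction d with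
  | nil => simp [dotProduct]
  | cons c u r ih =>
    rw [GData.Q_cons, GData.Q_cons, GData.Q_cons]
    have h1 : (fun j => (x + y) (Fin.succ j)) =
        (fun j => x (Fin.succ j)) + (fun j => y (Fin.succ j)) := rfl
    rw [h1, ih]
    have h2 : y ⬝ᵥ (GData.cons c u r).grad x =
        c * (x 0 + ∑ j, u j * x (Fin.succ j)) * (y 0 + ∑ j, u j * y (Fin.succ j)) +
          (fun j => y (Fin.succ j)) ⬝ᵥ r.grad (fun j => x (Fin.succ j)) := by
      simp only [dotProduct]
      rw [Fin.sum_univ_succ, GData.grad_cons_zero]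
      simp only [GData.grad_cons_succ]
      generalize x 0 + ∑ j, u j * x (Fin.succ j) = L
      have e1 : ∑ j, y (Fin.succ j) * (c * L * u j + r.grad (fun j => x (Fin.succ j)) j) =
          c * L * ∑ j, u j * y (Fin.succ j) +
            ∑ j, y (Fin.succ j) * r.grad (fun j => x (Fin.succ j)) j := by
        rw [Finset.mul_sum, ← Finset.sum_add_distrib]
        apply Finset.sum_congr rfl
        intro j _
        ring
      rw [e1]
      ring
    rw [h2]
    have h3 : ∑ j, u j * (x + y) (Fin.succ j) =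
        ∑ j, u j * x (Fin.succ j) + ∑ j, u j * y (Fin.succ j) := by
      rw [← Finset.sum_add_distrib]
      apply Finset.sum_congr rfl
      intro j _
      rw [Pi.add_apply]
      ring
    rw [h3, Pi.add_apply]
    ring

/-- **S1632 leaf (B2b)**: the gradient is multiplication by the Gram matrix. -/
theorem grad_eq_mulVec {n : ℕ} (d : GData n) (A : Matrix (Fin n) (Fin n) ℝ) (hA : A.IsSymm)
    (h : ∀ x : Fin n → ℝ, d.Q x = x ⬝ᵥ (A.mulVec x)) (x : Fin n → ℝ) :
    d.grad x = A.mulVec x := by
  have hsym : ∀ a b : Fin n → ℝ, a ⬝ᵥ A.mulVec b = b ⬝ᵥ A.mulVec a := by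
    intro a b
    rw [Matrix.dotProduct_mulVec, ← Matrix.mulVec_transpose, hA.eq, dotProduct_comm]
  have key : ∀ y : Fin n → ℝ, y ⬝ᵥ d.grad x = y ⬝ᵥ A.mulVec x := by
    intro y
    have h1 := Q_add d x y
    rw [h (x + y), h x, h y, Matrix.mulVec_add, add_dotProduct, dotProduct_add, dotProduct_add,
      hsym x y] at h1
    linarith
  funext i
  have := key (Pi.single i 1)
  rw [single_dotProduct, single_dotProduct, one_mul, one_mul] at this
  exact this

end Cfsg.Agent.Lib.Helper16.ThetaB2

end
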