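/-
helper16: S4503 PART H leaf VALS (`notes/S4503_H_leaves.lean`): the non-exceptional characters of the principal block
are constant on ALL `p`-singular elements (SECTION + `thetaSum_triv`).
-/
import Mathlib
import Cfsg.Prelude.Def_BlockRank
import Cfsg.Agent.Lib.Helper6.BRHDefs
import Cfsg.Agent.Lib.Helper7.DOS4441
import Cfsg.Agent.Lib.Helper8.DOMFinal
import Cfsg.Agent.Lib.Helper8.DOFULL
import Cfsg.Agent.Lib.Helper26.DODEFP
import Cfsg.Agent.Lib.Lead.CharDecomp
import Cfsg.Agent.Lib.Helper29.DOSECTION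

set_option autoImplicit false

namespace Cfsg.Agent.Lib.Helper16.BRHVALS

open Cfsg Cfsg.Agent.Lib.Helper8.DOM Cfsg.Agent.Lib.Helper27.DO Cfsg.Agent.CharLib
open Cfsg.Agent.Lib.Helper6.BRH Cfsg.Agent.Lib.Helper7.DOS4441
open scoped ComplexConjugate

universe u

variable {G : Type u} [Group G] [Finite G] {p : ℕ} [Fact p.Prime] {M : Ideal AlgInt}

/-- VALS : the non-exceptional characters are constant on ALL `p`-singular elements. -/
theorem valX_singular (P : Subgroup G) (hP : Nat.card P = p) (hSyl : ¬ p ∣ P.index)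
    (η : IrrCharacter G) (v : ℤ)
    (h : ∀ x ∈ P, x ≠ 1 → ∀ y ∈ Cz P, ¬ p ∣ orderOf y →
      (η : G → ℂ) (x * y) = (v : ℂ) * thetaSum P (triv P : Cz P → ℂ) (Nz P) y) :
    ∀ g : G, p ∣ orderOf g → (η : G → ℂ) g = (v : ℂ) := by
  intro g hg
  obtain ⟨t, x, y, hxP, hx1, hyC, hyreg, hconj⟩ :=
    Cfsg.Agent.Lib.Helper29.DOSECTION.exists_section P hP hSyl g hg
  have hcf : IsClassFunction G (η : G → ℂ) :=
    IsCharacter.isClassFunction (IsIrrCharacter.isCharacter η.2)
  have h1 : (η : G → ℂ) g = (η : G → ℂ) (t * g * t⁻¹) := (hcf g t).symm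
  rw [h1, hconj, h x hxP hx1 y hyC hyreg, thetaSum_triv P y hyC, mul_one]

end Cfsg.Agent.Lib.Helper16.BRHVALS
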