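import Mathlib
import Cfsg.Prelude.Def_Transfer
import Cfsg.Agent.Lib.Helper11.ElemAb2
import Cfsg.Agent.Lib.Helper16.Extraspecial

/-!
# Extraspecial 2-groups in elementwise form; the group `D₈ ∗ Q₈` of order 32 (helper16)

`ESData P z` packages an extraspecial 2-group elementwise; `cc`/`qq` are the commutator and squaring
indicators with values in `ZMod 2` (bilinear / quadratic calculus); Gauss sum count of involutions;
frames of five singular points in the minus-type group of order 32; `Aut P → S₅` with kernel `Inn P`.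
-/

set_option autoImplicit false
set_option linter.unusedSectionVars false

namespace Cfsg.Agent.Lib.Helper16.ES32

/-- the data of an extraspecial 2-group in elementwise form: `z` is the central involution generating
the centre, and all squares and commutators lie in `{1, z}`. -/
structure ESData (P : Type*) [Group P] (z : P) : Prop where
  z_ne : z ≠ 1
  z_sq : z * z = 1
  z_comm : ∀ g : P, g * z = z * g
  center : ∀ w : P, (∀ g : P, w * g = g * w) → w = 1 ∨ w = z
  comm : ∀ x y : P, x * y = y * x ∨ x * y = y * x * z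
  sq : ∀ x : P, x * x = 1 ∨ x * x = z

theorem zmod2_cases (a : ZMod 2) : a = 0 ∨ a = 1 := by
  revert a; decide

theorem zmod2_add_self (a : ZMod 2) : a + a = 0 := by
  revert a; decide

section calculus

variable {P : Type*} [Group P]

open Classical in
/-- commutator indicator: `0` iff `x` and `y` commute. -/
noncomputable def cc (x y : P) : ZMod 2 := if x * y = y * x then 0 else 1

open Classical in
/-- squaring indicator: `0` iff `x * x = 1`. -/
noncomputable def qq (x : P) : ZMod 2 := if x * x = 1 then 0 else 1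

/-- `z ^ e` for `e : ZMod 2`. -/
def pz (z : P) (e : ZMod 2) : P := if e = 0 then 1 else z

@[simp] theorem pz_zero (z : P) : pz z 0 = 1 := rfl
@[simp] theorem pz_one (z : P) : pz z 1 = z := rfl

theorem cc_eq_zero_iff (x y : P) : cc x y = 0 ↔ x * y = y * x := by
  unfold cc
  split_ifs with h
  · simp [h]
  · simp [h]

theorem qq_eq_zero_iff (x : P) : qq x = 0 ↔ x * x = 1 := by
  unfold qq
  split_ifs with h
  · simp [h]
  · simp [h]

theorem cc_symm (x y : P) : cc x y = cc y x := by
  unfold cc
  by_cases h : x * y = y * x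
  · rw [if_pos h, if_pos h.symm]
  · rw [if_neg h, if_neg (fun h' => h h'.symm)]

@[simp] theorem cc_self (x : P) : cc x x = 0 := (cc_eq_zero_iff x x).mpr rfl
@[simp] theorem cc_one_right (x : P) : cc x 1 = 0 := (cc_eq_zero_iff x 1).mpr (by simp)
@[simp] theorem cc_one_left (x : P) : cc 1 x = 0 := (cc_eq_zero_iff 1 x).mpr (by simp)
@[simp] theorem qq_one : qq (1 : P) = 0 := (qq_eq_zero_iff 1).mpr (by simp)
@[simp] theorem cc_inv_self (x : P) : cc x x⁻¹ = 0 := (cc_eq_zero_iff x x⁻¹).mpr (by simp)

variable {z : P} (h : ESData P z)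
include h

theorem pz_mul_pz (a b : ZMod 2) : pz z a * pz z b = pz z (a + b) := by
  rcases zmod2_cases a with rfl | rfl <;> rcases zmod2_cases b with rfl | rfl
  · simp
  · simp
  · simp
  · have : (1 : ZMod 2) + 1 = 0 := by decide
    rw [this]; simp [h.z_sq]

theorem pz_comm (e : ZMod 2) (g : P) : g * pz z e = pz z e * g := by
  rcases zmod2_cases e with rfl | rfl
  · simp
  · simp [h.z_comm g]

theorem comm_eq (x y : P) : x * y = y * x * pz z (cc x y) := by
  by_cases hc : x * y = y * x
  · rw [(cc_eq_zero_iff x y).mpr hc]; simp [hc]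
  · have h1 : cc x y = 1 := by
      rcases zmod2_cases (cc x y) with h0 | h1
      · exact absurd ((cc_eq_zero_iff x y).mp h0) hc
      · exact h1
    rw [h1]
    rcases h.comm x y with h2 | h2
    · exact absurd h2 hc
    · simpa using h2

theorem sq_eq (x : P) : x * x = pz z (qq x) := by
  by_cases hc : x * x = 1
  · rw [(qq_eq_zero_iff x).mpr hc]; simp [hc]
  · have h1 : qq x = 1 := by
      rcases zmod2_cases (qq x) with h0 | h1
      · exact absurd ((qq_eq_zero_iff x).mp h0) hc
      · exact h1
    rw [h1]
    rcases h.sq x with h2 | h2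
    · exact absurd h2 hc
    · simpa using h2

theorem pz_eq_one_iff (e : ZMod 2) : pz z e = 1 ↔ e = 0 := by
  rcases zmod2_cases e with rfl | rfl
  · simp
  · simp [h.z_ne]

theorem pz_injective {a b : ZMod 2} (hab : pz z a = pz z b) : a = b := by
  rcases zmod2_cases a with rfl | rfl <;> rcases zmod2_cases b with rfl | rfl
  · rfl
  · exfalso; simp at hab; exact h.z_ne hab.symm
  · exfalso; simp at hab; exact h.z_ne hab
  · rfl

theorem cc_of_eq {x y : P} {e : ZMod 2} (he : x * y = y * x * pz z e) : cc x y = e := by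
  have h1 := comm_eq h x y
  rw [he] at h1
  exact (pz_injective h (mul_left_cancel h1)).symm

theorem qq_of_eq {x : P} {e : ZMod 2} (he : x * x = pz z e) : qq x = e := by
  have h1 := sq_eq h x
  rw [he] at h1
  exact (pz_injective h h1).symm

theorem cc_mul_left (x y w : P) : cc (x * y) w = cc x w + cc y w := by
  apply cc_of_eq h
  have h1 := comm_eq h x w
  have h2 := comm_eq h y w
  calc x * y * w = x * (y * w) := mul_assoc _ _ _
    _ = x * (w * y * pz z (cc y w)) := by rw [h2]
    _ = (x * w) * y * pz z (cc y w) := by group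
    _ = (w * x * pz z (cc x w)) * y * pz z (cc y w) := by rw [h1]
    _ = w * x * (pz z (cc x w) * y) * pz z (cc y w) := by group
    _ = w * x * (y * pz z (cc x w)) * pz z (cc y w) := by rw [pz_comm h (cc x w) y]
    _ = w * (x * y) * (pz z (cc x w) * pz z (cc y w)) := by group
    _ = w * (x * y) * pz z (cc x w + cc y w) := by rw [pz_mul_pz h]

theorem cc_mul_right (w x y : P) : cc w (x * y) = cc w x + cc w y := by
  rw [cc_symm, cc_mul_left h, cc_symm x, cc_symm y]

theorem qq_mul (x y : P) : qq (x * y) = qq x + qq y + cc x y := by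
  apply qq_of_eq h
  have h1 := comm_eq h y x
  calc x * y * (x * y) = x * (y * x) * y := by group
    _ = x * (x * y * pz z (cc y x)) * y := by rw [h1]
    _ = x * x * y * (pz z (cc y x) * y) := by group
    _ = x * x * y * (y * pz z (cc y x)) := by rw [pz_comm h (cc y x) y]
    _ = (x * x) * (y * y) * pz z (cc y x) := by group
    _ = pz z (qq x) * pz z (qq y) * pz z (cc y x) := by rw [sq_eq h x, sq_eq h y]
    _ = pz z (qq x + qq y + cc x y) := by rw [pz_mul_pz h, pz_mul_pz h, cc_symm y x]

theorem cc_pz_right (x : P) (e : ZMod 2) : cc x (pz z e) = 0 :=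
  (cc_eq_zero_iff _ _).mpr (pz_comm h e x)

theorem cc_pz_left (x : P) (e : ZMod 2) : cc (pz z e) x = 0 := by
  rw [cc_symm]; exact cc_pz_right h x e

theorem cc_z_right (x : P) : cc x z = 0 := (cc_eq_zero_iff _ _).mpr (h.z_comm x)
theorem cc_z_left (x : P) : cc z x = 0 := by rw [cc_symm]; exact cc_z_right h x

theorem qq_pz (e : ZMod 2) : qq (pz z e) = 0 := by
  rw [qq_eq_zero_iff, pz_mul_pz h, zmod2_add_self]; rfl

theorem qq_z : qq z = 0 := (qq_eq_zero_iff z).mpr h.z_sq

theorem cc_inv_left (x w : P) : cc x⁻¹ w = cc x w := by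
  have h1 := cc_mul_left h x x⁻¹ w
  rw [mul_inv_cancel, cc_one_left] at h1
  have h2 : cc x⁻¹ w = cc x w + (cc x w + cc x⁻¹ w) := by
    rw [← add_assoc, zmod2_add_self, zero_add]
  rw [h2, ← h1, add_zero]

theorem center_iff (w : P) : (∀ g : P, cc w g = 0) ↔ (w = 1 ∨ w = z) := by
  constructor
  · intro hw
    apply h.center
    intro g
    exact (cc_eq_zero_iff w g).mp (hw g)
  · rintro (rfl | rfl) g
    · simp
    · exact cc_z_left h g

end calculus

/-- the sign character of `ZMod 2`. -/
def sgn (a : ZMod 2) : ℤ := if a = 0 then 1 else -1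

theorem sgn_add (a b : ZMod 2) : sgn (a + b) = sgn a * sgn b := by
  revert a b; decide

@[simp] theorem sgn_zero : sgn 0 = 1 := rfl
@[simp] theorem sgn_one : sgn 1 = -1 := rfl

section gauss

variable {P : Type*} [Group P] [Fintype P] {z : P} (h : ESData P z)
include h

/-- a noncentral element commutes with exactly half of the group: the signed sum vanishes. -/
theorem sum_sgn_cc_eq_zero (w : P) (hw : ¬ (w = 1 ∨ w = z)) : ∑ x : P, sgn (cc x w) = 0 := by
  have hex : ∃ g : P, cc w g ≠ 0 := by
    by_contra hcon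
    apply hw
    rw [← center_iff h]
    intro g
    by_contra hg
    exact hcon ⟨g, hg⟩
  obtain ⟨g, hg⟩ := hex
  have hg1 : cc g w = 1 := by
    rw [cc_symm]
    rcases zmod2_cases (cc w g) with h0 | h1
    · exact absurd h0 hg
    · exact h1
  have h1 : ∑ x : P, sgn (cc x w) = ∑ x : P, sgn (cc (g * x) w) :=
    (Equiv.sum_comp (Equiv.mulLeft g) (fun x => sgn (cc x w))).symm
  have h2 : ∑ x : P, sgn (cc (g * x) w) = - ∑ x : P, sgn (cc x w) := by
    rw [← Finset.sum_neg_distrib]
    apply Finset.sum_congr rfl
    intro x _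
    rw [cc_mul_left h, sgn_add, hg1]
    simp
  rw [h2] at h1
  omega

theorem sum_sgn_cc_center (w : P) (hw : w = 1 ∨ w = z) :
    ∑ x : P, sgn (cc x w) = (Fintype.card P : ℤ) := by
  have : ∀ x : P, sgn (cc x w) = 1 := by
    intro x
    rw [cc_symm, ((center_iff h w).mpr hw x)]; rfl
  simp [this]

/-- the Gauss sum identity: the square of `∑ (-1)^{q(x)}` is `2 |P|`. -/
theorem gauss_sum_sq :
    (∑ x : P, sgn (qq x)) * (∑ x : P, sgn (qq x)) = 2 * (Fintype.card P : ℤ) := by
  classical
  have hkey : ∀ x y : P, sgn (qq x) * sgn (qq y) = sgn (qq (x * y)) * sgn (cc x y) := by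
    intro x y
    rw [qq_mul h, sgn_add, sgn_add]
    have : sgn (cc x y) * sgn (cc x y) = 1 := by
      rcases zmod2_cases (cc x y) with h0 | h0 <;> rw [h0] <;> rfl
    rw [mul_assoc, this, mul_one]
  calc (∑ x : P, sgn (qq x)) * (∑ x : P, sgn (qq x))
      = ∑ x : P, ∑ y : P, sgn (qq x) * sgn (qq y) := by
        rw [Finset.sum_mul_sum]
    _ = ∑ x : P, ∑ y : P, sgn (qq (x * y)) * sgn (cc x y) := by
        apply Finset.sum_congr rfl; intro x _
        apply Finset.sum_congr rfl; intro y _
        exact hkey x y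
    _ = ∑ x : P, ∑ w : P, sgn (qq w) * sgn (cc x w) := by
        apply Finset.sum_congr rfl; intro x _
        have := Equiv.sum_comp (Equiv.mulLeft x) (fun w => sgn (qq w) * sgn (cc x w))
        rw [← this]
        apply Finset.sum_congr rfl; intro y _
        simp only [Equiv.coe_mulLeft]
        rw [cc_mul_right h, cc_self, zero_add]
    _ = ∑ w : P, ∑ x : P, sgn (qq w) * sgn (cc x w) := Finset.sum_comm
    _ = ∑ w : P, sgn (qq w) * ∑ x : P, sgn (cc x w) := by
        apply Finset.sum_congr rfl; intro w _
        rw [Finset.mul_sum]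
    _ = ∑ w : P, (if w = 1 ∨ w = z then (Fintype.card P : ℤ) else 0) := by
        apply Finset.sum_congr rfl; intro w _
        by_cases hw : w = 1 ∨ w = z
        · rw [if_pos hw, sum_sgn_cc_center h w hw]
          rcases hw with rfl | rfl
          · simp
          · rw [qq_z h]; simp
        · rw [if_neg hw, sum_sgn_cc_eq_zero h w hw, mul_zero]
    _ = 2 * (Fintype.card P : ℤ) := by
        rw [Finset.sum_ite, Finset.sum_const_zero, add_zero, Finset.sum_const]
        have : (Finset.univ.filter (fun w : P => w = 1 ∨ w = z)) = {1, z} := by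
          ext w; simp
        rw [this, Finset.card_pair (Ne.symm h.z_ne)]
        simp

end gauss

section count

variable {P : Type*} [Group P] [Fintype P] {z : P} (h : ESData P z)
include h

open Classical in
/-- in an extraspecial group of order 32, the number of elements of square 1 is 12 or 20. -/
theorem card_qq_zero (hcard : Fintype.card P = 32) :
    (Finset.univ.filter (fun x : P => qq x = 0)).card = 12 ∨
      (Finset.univ.filter (fun x : P => qq x = 0)).card = 20 := by
  have hG := gauss_sum_sq h
  rw [hcard] at hG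
  set N := (Finset.univ.filter (fun x : P => qq x = 0)).card with hN
  have hsum : ∑ x : P, sgn (qq x) = 2 * (N : ℤ) - 32 := by
    have h1 : ∀ x : P, sgn (qq x) = if qq x = 0 then 1 else -1 := fun x => rfl
    simp_rw [h1]
    rw [Finset.sum_ite, Finset.sum_const, Finset.sum_const]
    simp only [nsmul_eq_mul, mul_one, mul_neg]
    have h2 := Finset.card_filter_add_card_filter_not (s := (Finset.univ : Finset P)) (fun x : P => qq x = 0)
    rw [Finset.card_univ, hcard] at h2
    have h3 : ((Finset.univ.filter (fun x : P => ¬ qq x = 0)).card : ℤ) = 32 - N := by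
      have : (Finset.univ.filter (fun x : P => ¬ qq x = 0)).card = 32 - N := by omega
      rw [this]
      have hle : N ≤ 32 := by omega
      push_cast [Nat.cast_sub hle]
      ring
    rw [h3]
    ring
  rw [hsum] at hG
  norm_num at hG
  have h8 : (2 * (N : ℤ) - 32 - 8) * (2 * (N : ℤ) - 32 + 8) = 0 := by nlinarith
  rcases mul_eq_zero.mp h8 with h1 | h1
  · right; omega
  · left; omega

end count

section noE8

variable {P : Type*} [Group P] {z : P} (h : ESData P z)
include h

/-- elements of `D ⊔ ⟨a⟩` for an involution `a` centralizing `D`. -/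
theorem mem_sup_zpowers_involution {D : Subgroup P} {a : P} (ha : a * a = 1)
    (hc : ∀ d ∈ D, a * d = d * a) {x : P} (hx : x ∈ D ⊔ Subgroup.zpowers a) :
    ∃ d ∈ D, x = d ∨ x = d * a := by
  let S : Subgroup P :=
    { carrier := {x | ∃ d ∈ D, x = d ∨ x = d * a}
      one_mem' := ⟨1, D.one_mem, Or.inl rfl⟩
      mul_mem' := by
        rintro x y ⟨d, hd, hx⟩ ⟨e, he, hy⟩
        rcases hx with hx | hx <;> rcases hy with hy | hy <;> rw [hx, hy]
        · exact ⟨d * e, D.mul_mem hd he, Or.inl rfl⟩
        · exact ⟨d * e, D.mul_mem hd he, Or.inr (by group)⟩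
        · refine ⟨d * e, D.mul_mem hd he, Or.inr ?_⟩
          rw [mul_assoc, hc e he]; group
        · refine ⟨d * e, D.mul_mem hd he, Or.inl ?_⟩
          calc d * a * (e * a) = d * (a * e) * a := by group
            _ = d * (e * a) * a := by rw [hc e he]
            _ = d * e * (a * a) := by group
            _ = d * e := by rw [ha, mul_one]
      inv_mem' := by
        rintro x ⟨d, hd, hx⟩
        rcases hx with hx | hx <;> rw [hx]
        · exact ⟨d⁻¹, D.inv_mem hd, Or.inl rfl⟩
        · refine ⟨d⁻¹, D.inv_mem hd, Or.inr ?_⟩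
          have hainv : a⁻¹ = a := inv_eq_of_mul_eq_one_left ha
          have hc' := hc d⁻¹ (D.inv_mem hd)
          rw [mul_inv_rev, hainv, hc'] }
  have hle : D ⊔ Subgroup.zpowers a ≤ S := by
    apply sup_le
    · intro d hd; exact ⟨d, hd, Or.inl rfl⟩
    · rw [Subgroup.zpowers_le]
      exact ⟨1, D.one_mem, Or.inr (by simp)⟩
  exact hle hx

/-- the "no `E₈`" condition in elementwise form: commuting involutions `a`, `b` are dependent modulo `z`. -/
theorem no_E8 [Finite P]
    (hminus : ∀ A : Subgroup P, Cfsg.IsElementaryAbelian 2 A → Nat.card ↥A ≤ 4)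
    (a b : P) (ha : qq a = 0) (hb : qq b = 0) (hab : cc a b = 0) :
    (a = 1 ∨ a = z) ∨ (b = 1 ∨ b = z) ∨ b = a ∨ b = a * z := by
  by_contra hcon
  have hza : ¬ (a = 1 ∨ a = z) := fun h' => hcon (Or.inl h')
  have hzb : ¬ (b = 1 ∨ b = z) := fun h' => hcon (Or.inr (Or.inl h'))
  have hba : ¬ (b = a ∨ b = a * z) := fun h' => hcon (Or.inr (Or.inr h'))
  have ha2 : a * a = 1 := (qq_eq_zero_iff a).mp ha
  have hb2 : b * b = 1 := (qq_eq_zero_iff b).mp hb
  have hz2 : z ^ 2 = 1 := by rw [pow_two]; exact h.z_sq
  have ha2' : a ^ 2 = 1 := by rw [pow_two]; exact ha2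
  have hb2' : b ^ 2 = 1 := by rw [pow_two]; exact hb2
  have hD0 : Cfsg.IsElementaryAbelian 2 (Subgroup.zpowers z) := Cfsg.Agent.Lib.Helper4.elemAb_zpowers hz2
  have hmem0 : ∀ d ∈ Subgroup.zpowers z, d = 1 ∨ d = z := fun d hd =>
    Cfsg.Agent.Lib.Helper11.mem_zpowers_of_sq_eq_one hz2 hd
  have hc0 : ∀ d ∈ Subgroup.zpowers z, a * d = d * a := by
    intro d hd
    rcases hmem0 d hd with rfl | rfl
    · simp
    · exact h.z_comm a
  have hD1 := Cfsg.Agent.Lib.Helper11.elemAb_sup_zpowers hD0 ha2' hc0
  have hmem1 : ∀ d ∈ Subgroup.zpowers z ⊔ Subgroup.zpowers a, d = 1 ∨ d = z ∨ d = a ∨ d = z * a := by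
    intro d hd
    obtain ⟨e, he, hde⟩ := mem_sup_zpowers_involution h ha2 hc0 hd
    rcases hmem0 e he with he1 | he1
    · rcases hde with hde | hde
      · left; rw [hde, he1]
      · right; right; left; rw [hde, he1, one_mul]
    · rcases hde with hde | hde
      · right; left; rw [hde, he1]
      · right; right; right; rw [hde, he1]
  have hab' : a * b = b * a := (cc_eq_zero_iff a b).mp hab
  have hc1 : ∀ d ∈ Subgroup.zpowers z ⊔ Subgroup.zpowers a, b * d = d * b := by
    intro d hd
    rcases hmem1 d hd with rfl | rfl | rfl | rfl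
    · simp
    · exact h.z_comm b
    · exact hab'.symm
    · rw [← mul_assoc, h.z_comm b, mul_assoc, ← hab', mul_assoc]
  have hD2 := Cfsg.Agent.Lib.Helper11.elemAb_sup_zpowers hD1 hb2' hc1
  have haD0 : a ∉ Subgroup.zpowers z := fun h' => hza (hmem0 a h')
  have hbD1 : b ∉ Subgroup.zpowers z ⊔ Subgroup.zpowers a := by
    intro h'
    rcases hmem1 b h' with h1 | h1 | h1 | h1
    · exact hzb (Or.inl h1)
    · exact hzb (Or.inr h1)
    · exact hba (Or.inl h1)
    · exact hba (Or.inr (by rw [h1, h.z_comm a]))
  have hcard0 : Nat.card (Subgroup.zpowers z) = 2 := by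
    have : Fact (Nat.Prime 2) := ⟨Nat.prime_two⟩
    rw [Nat.card_zpowers]
    exact orderOf_eq_prime hz2 h.z_ne
  have hcard1 := Cfsg.Agent.Lib.Helper11.card_sup_zpowers ha2' haD0 hc0
  have hcard2 := Cfsg.Agent.Lib.Helper11.card_sup_zpowers hb2' hbD1 hc1
  have := hminus _ hD2
  rw [hcard2, hcard1, hcard0] at this
  omega

end noE8

section frame

variable {P : Type*} [Group P] {z : P} (h : ESData P z)
include h

/-- the elementwise "no `E₈`" property. -/
def NoE8 (P : Type*) [Group P] (z : P) : Prop :=
  ∀ a b : P, qq a = 0 → qq b = 0 → cc a b = 0 → (a = 1 ∨ a = z) ∨ (b = 1 ∨ b = z) ∨ b = a ∨ b = a * z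

/-- there are no six pairwise non-commuting involutions when there is no `E₈`. -/
theorem no_six (hne : NoE8 P z) (x : Fin 6 → P) (hq : ∀ i, qq (x i) = 0)
    (hc : ∀ i j, i ≠ j → cc (x i) (x j) = 1) : False := by
  have hc' : ∀ i j, cc (x i) (x j) = if i = j then 0 else 1 := by
    intro i j
    by_cases hij : i = j
    · rw [if_pos hij, hij]; exact cc_self _
    · rw [if_neg hij]; exact hc i j hij
  have one_add_one : (1 : ZMod 2) + 1 = 0 := by decide
  set a := x 0 * x 1 * x 2 * x 3 with ha
  set b := x 0 * x 1 * x 4 * x 5 with hb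
  have ev : ∀ k, cc a (x k) = cc (x 0) (x k) + cc (x 1) (x k) + cc (x 2) (x k) + cc (x 3) (x k) := by
    intro k; rw [ha, cc_mul_left h, cc_mul_left h, cc_mul_left h]
  have evb : ∀ k, cc b (x k) = cc (x 0) (x k) + cc (x 1) (x k) + cc (x 4) (x k) + cc (x 5) (x k) := by
    intro k; rw [hb, cc_mul_left h, cc_mul_left h, cc_mul_left h]
  have ca0 : cc a (x 0) = 1 := by rw [ev, hc', hc', hc', hc']; decide
  have ca2 : cc a (x 2) = 1 := by rw [ev, hc', hc', hc', hc']; decide
  have cb0 : cc b (x 0) = 1 := by rw [evb, hc', hc', hc', hc']; decide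
  have cb2 : cc b (x 2) = 0 := by rw [evb, hc', hc', hc', hc']; decide
  have ca1 : cc a (x 1) = 1 := by rw [ev, hc', hc', hc', hc']; decide
  have ca3 : cc a (x 3) = 1 := by rw [ev, hc', hc', hc', hc']; decide
  have ca4 : cc a (x 4) = 0 := by rw [ev, hc', hc', hc', hc']; decide
  have ca5 : cc a (x 5) = 0 := by rw [ev, hc', hc', hc', hc']; decide
  have qa : qq a = 0 := by
    rw [ha, qq_mul h, qq_mul h, qq_mul h, hq, hq, hq, hq, cc_mul_left h, cc_mul_left h, cc_mul_left h,
      hc', hc', hc', hc', hc', hc']
    decide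
  have qb : qq b = 0 := by
    rw [hb, qq_mul h, qq_mul h, qq_mul h, hq, hq, hq, hq, cc_mul_left h, cc_mul_left h, cc_mul_left h,
      hc', hc', hc', hc', hc', hc']
    decide
  have cab : cc a b = 0 := by
    rw [hb, cc_mul_right h, cc_mul_right h, cc_mul_right h, ca0, ca1, ca4, ca5]
    decide
  rcases hne a b qa qb cab with (h1 | h1) | (h1 | h1) | h1 | h1
  · rw [h1, cc_one_left] at ca0; exact absurd ca0 (by decide)
  · rw [h1, cc_z_left h] at ca0; exact absurd ca0 (by decide)
  · rw [h1, cc_one_left] at cb0; exact absurd cb0 (by decide)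
  · rw [h1, cc_z_left h] at cb0; exact absurd cb0 (by decide)
  · rw [h1, ca2] at cb2; exact absurd cb2 (by decide)
  · rw [h1, cc_mul_left h, ca2, cc_z_left h] at cb2; exact absurd cb2 (by decide)

/-- a frame: five pairwise non-commuting involutions representing all non-central involutions modulo `z`. -/
structure Frame (z : P) (x : Fin 5 → P) : Prop where
  qx : ∀ i, qq (x i) = 0
  cx : ∀ i j, cc (x i) (x j) = if i = j then 0 else 1
  cover : ∀ y : P, qq y = 0 → y ≠ 1 → y ≠ z → ∃ i, y = x i ∨ y = x i * z

open Classical in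
theorem exists_frame [Fintype P] (hcard : Fintype.card P = 32) (hne : NoE8 P z) :
    ∃ x : Fin 5 → P, Frame z x := by
  -- the set of non-central involutions
  set I : Finset P := Finset.univ.filter (fun y : P => qq y = 0 ∧ y ≠ 1 ∧ y ≠ z) with hI
  have hIcard : 10 ≤ I.card := by
    have h1 := card_qq_zero h hcard
    have h2 : (Finset.univ.filter (fun x : P => qq x = 0)) = insert 1 (insert z I) := by
      ext y
      simp only [Finset.mem_filter, Finset.mem_univ, true_and, Finset.mem_insert, hI]
      constructor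
      · intro hy
        by_cases hy1 : y = 1
        · left; exact hy1
        · by_cases hyz : y = z
          · right; left; exact hyz
          · right; right; exact ⟨hy, hy1, hyz⟩
      · rintro (rfl | rfl | ⟨hy, _, _⟩)
        · exact qq_one
        · exact qq_z h
        · exact hy
    have h3 : (1 : P) ∉ insert z I := by
      simp only [Finset.mem_insert, hI, Finset.mem_filter, Finset.mem_univ, true_and, not_or]
      exact ⟨Ne.symm h.z_ne, fun h' => h'.2.1 rfl⟩
    have h4 : z ∉ I := by
      simp only [hI, Finset.mem_filter, Finset.mem_univ, true_and]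
      exact fun h' => h'.2.2 rfl
    rw [h2, Finset.card_insert_of_notMem h3, Finset.card_insert_of_notMem h4] at h1
    omega
  -- good sets
  let good : Finset P → Prop := fun T => T ⊆ I ∧ ∀ a ∈ T, ∀ b ∈ T, a ≠ b → cc a b = 1
  have hne_good : ((Finset.univ : Finset (Finset P)).filter good).Nonempty :=
    ⟨∅, by simp [good]⟩
  obtain ⟨T, hT, hTmax⟩ := Finset.exists_max_image _ Finset.card hne_good
  rw [Finset.mem_filter] at hT
  obtain ⟨hTI, hTc⟩ := hT.2
  -- covering
  have hcover : ∀ y ∈ I, ∃ a ∈ T, y = a ∨ y = a * z := by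
    intro y hy
    by_cases hyT : y ∈ T
    · exact ⟨y, hyT, Or.inl rfl⟩
    · by_contra hcon
      have hall : ∀ a ∈ T, cc a y = 1 := by
        intro a ha
        rcases zmod2_cases (cc a y) with h0 | h1
        · exfalso
          have haI := hTI ha
          rw [hI, Finset.mem_filter] at haI hy
          rcases hne a y haI.2.1 hy.2.1 h0 with (h1 | h1) | (h1 | h1) | h1 | h1
          · exact haI.2.2.1 h1
          · exact haI.2.2.2 h1
          · exact hy.2.2.1 h1
          · exact hy.2.2.2 h1
          · exact hcon ⟨a, ha, Or.inl h1⟩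
          · exact hcon ⟨a, ha, Or.inr h1⟩
        · exact h1
      have hgood : good (insert y T) := by
        refine ⟨Finset.insert_subset hy hTI, ?_⟩
        intro a ha b hb hab
        rw [Finset.mem_insert] at ha hb
        rcases ha with rfl | ha <;> rcases hb with rfl | hb
        · exact absurd rfl hab
        · rw [cc_symm]; exact hall b hb
        · exact hall a ha
        · exact hTc a ha b hb hab
      have := hTmax (insert y T) (by rw [Finset.mem_filter]; exact ⟨Finset.mem_univ _, hgood⟩)
      rw [Finset.card_insert_of_notMem hyT] at this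
      omega
  -- lower bound
  have hT5 : 5 ≤ T.card := by
    have hsub : I ⊆ T ∪ T.image (fun a => a * z) := by
      intro y hy
      obtain ⟨a, ha, hya⟩ := hcover y hy
      rcases hya with rfl | rfl
      · exact Finset.mem_union_left _ ha
      · exact Finset.mem_union_right _ (Finset.mem_image_of_mem _ ha)
    have h1 := Finset.card_le_card hsub
    have h2 := Finset.card_union_le T (T.image (fun a => a * z))
    have h3 : (T.image (fun a => a * z)).card ≤ T.card := Finset.card_image_le
    omega
  -- upper bound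
  have hT5' : T.card ≤ 5 := by
    by_contra hcon
    have h6 : 6 ≤ T.card := by omega
    have : Fintype.card (Fin 6) ≤ Fintype.card {a // a ∈ T} := by
      rw [Fintype.card_fin, Fintype.card_coe]; exact h6
    obtain ⟨e⟩ := Function.Embedding.nonempty_of_card_le this
    apply no_six h hne (fun i => (e i : P))
    · intro i
      have := hTI (e i).2
      rw [hI, Finset.mem_filter] at this
      exact this.2.1
    · intro i j hij
      apply hTc _ (e i).2 _ (e j).2
      intro h'
      apply hij
      exact e.injective (Subtype.ext h')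
  have hTcard : T.card = 5 := le_antisymm hT5' hT5
  let e : {a // a ∈ T} ≃ Fin 5 := Fintype.equivFinOfCardEq (by rw [Fintype.card_coe]; exact hTcard)
  refine ⟨fun i => (e.symm i : P), ?_, ?_, ?_⟩
  · intro i
    have := hTI (e.symm i).2
    rw [hI, Finset.mem_filter] at this
    exact this.2.1
  · intro i j
    by_cases hij : i = j
    · rw [if_pos hij, hij]; exact cc_self _
    · rw [if_neg hij]
      apply hTc _ (e.symm i).2 _ (e.symm j).2
      intro h'
      apply hij
      exact e.symm.injective (Subtype.ext h')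
  · intro y hy hy1 hyz
    have hyI : y ∈ I := by
      rw [hI, Finset.mem_filter]; exact ⟨Finset.mem_univ _, hy, hy1, hyz⟩
    obtain ⟨a, ha, hya⟩ := hcover y hyI
    refine ⟨e ⟨a, ha⟩, ?_⟩
    simp only [Equiv.symm_apply_apply]
    exact hya

end frame

section normalform

variable {P : Type*} [Group P] {z : P} (h : ESData P z)
include h

theorem cc_pz_gen_left (y w : P) (e : ZMod 2) : cc (pz y e) w = e * cc y w := by
  rcases zmod2_cases e with rfl | rfl
  · simp
  · simp

omit h in
theorem map_pz {Q : Type*} [Group Q] (φ : P →* Q) (y : P) (e : ZMod 2) : φ (pz y e) = pz (φ y) e := by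
  rcases zmod2_cases e with rfl | rfl
  · simp
  · simp

variable {x : Fin 5 → P} (hx : Frame z x)
include hx

/-- the normal form map. -/
def theta (z : P) (x : Fin 5 → P) (p : (Fin 4 → ZMod 2) × ZMod 2) : P :=
  pz (x 0) (p.1 0) * pz (x 1) (p.1 1) * pz (x 2) (p.1 2) * pz (x 3) (p.1 3) * pz z p.2

theorem cc_theta (p : (Fin 4 → ZMod 2) × ZMod 2) (j : Fin 5) :
    cc (theta z x p) (x j) =
      p.1 0 * cc (x 0) (x j) + p.1 1 * cc (x 1) (x j) + p.1 2 * cc (x 2) (x j) + p.1 3 * cc (x 3) (x j) := by
  unfold theta
  rw [cc_mul_left h, cc_mul_left h, cc_mul_left h, cc_mul_left h, cc_pz_left h, add_zero,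
    cc_pz_gen_left h, cc_pz_gen_left h, cc_pz_gen_left h, cc_pz_gen_left h]

theorem theta_injective : Function.Injective (theta z x) := by
  intro p p' hpp
  have e0 := congrArg (fun w => cc w (x 0)) hpp
  have e1 := congrArg (fun w => cc w (x 1)) hpp
  have e2 := congrArg (fun w => cc w (x 2)) hpp
  have e3 := congrArg (fun w => cc w (x 3)) hpp
  have e4 := congrArg (fun w => cc w (x 4)) hpp
  simp only [cc_theta h hx, hx.cx] at e0 e1 e2 e3 e4
  have key : ∀ a0 a1 a2 a3 b0 b1 b2 b3 : ZMod 2,
      a1 + a2 + a3 = b1 + b2 + b3 → a0 + a2 + a3 = b0 + b2 + b3 → a0 + a1 + a3 = b0 + b1 + b3 →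
      a0 + a1 + a2 = b0 + b1 + b2 → a0 + a1 + a2 + a3 = b0 + b1 + b2 + b3 →
      a0 = b0 ∧ a1 = b1 ∧ a2 = b2 ∧ a3 = b3 := by decide
  have hk := key (p.1 0) (p.1 1) (p.1 2) (p.1 3) (p'.1 0) (p'.1 1) (p'.1 2) (p'.1 3)
    (by simpa using e0) (by simpa using e1) (by simpa using e2) (by simpa using e3) (by simpa using e4)
  have h1 : p.1 = p'.1 := by
    funext i
    fin_cases i
    · exact hk.1
    · exact hk.2.1
    · exact hk.2.2.1
    · exact hk.2.2.2
  have h2 : p.2 = p'.2 := by
    unfold theta at hpp
    rw [h1] at hpp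
    exact pz_injective h (mul_left_cancel hpp)
  exact Prod.ext h1 h2

theorem theta_surjective [Fintype P] (hcard : Fintype.card P = 32) : Function.Surjective (theta z x) := by
  have hbij : Function.Bijective (theta z x) := by
    rw [Fintype.bijective_iff_injective_and_card]
    refine ⟨theta_injective h hx, ?_⟩
    rw [hcard, Fintype.card_prod, Fintype.card_fun, ZMod.card, Fintype.card_fin]
    norm_num
  exact hbij.2

/-- `z` is the square of `x 0 * x 1`. -/
theorem z_eq_sq : z = (x 0 * x 1) * (x 0 * x 1) := by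
  rw [sq_eq h, qq_mul h, hx.qx, hx.qx, hx.cx]
  simp

/-- an endomorphism fixing the first four frame elements is the identity. -/
theorem eq_id_of_fix [Fintype P] (hcard : Fintype.card P = 32) (φ : P →* P)
    (hφ : ∀ i : Fin 5, i ≠ 4 → φ (x i) = x i) (w : P) : φ w = w := by
  have hz : φ z = z := by
    have h0 := hφ 0 (by decide)
    have h1 := hφ 1 (by decide)
    conv_lhs => rw [z_eq_sq h hx]
    rw [map_mul, map_mul, h0, h1, ← z_eq_sq h hx]
  obtain ⟨p, rfl⟩ := theta_surjective h hx hcard w
  unfold theta
  rw [map_mul, map_mul, map_mul, map_mul, map_pz, map_pz, map_pz, map_pz, map_pz, hz,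
    hφ 0 (by decide), hφ 1 (by decide), hφ 2 (by decide), hφ 3 (by decide)]

end normalform

section action

variable {P : Type*} [Group P] {z : P} (h : ESData P z)
include h

omit h in
theorem cc_map (φ : P ≃* P) (a b : P) : cc (φ a) (φ b) = cc a b := by
  unfold cc
  by_cases hc : a * b = b * a
  · rw [if_pos hc, if_pos]
    rw [← map_mul, ← map_mul, hc]
  · rw [if_neg hc, if_neg]
    intro h'
    rw [← map_mul, ← map_mul] at h'
    exact hc (φ.injective h')

omit h in
theorem qq_map (φ : P ≃* P) (a : P) : qq (φ a) = qq a := by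
  unfold qq
  by_cases hc : a * a = 1
  · rw [if_pos hc, if_pos]
    rw [← map_mul, hc, map_one]
  · rw [if_neg hc, if_neg]
    intro h'
    rw [← map_mul] at h'
    apply hc
    apply φ.injective
    rw [h', map_one]

theorem map_z (φ : P ≃* P) : φ z = z := by
  have h1 : ∀ g : P, cc (φ z) g = 0 := by
    intro g
    have := cc_map φ z (φ.symm g)
    rw [MulEquiv.apply_symm_apply] at this
    rw [this]; exact cc_z_left h _
  rcases (center_iff h (φ z)).mp h1 with h2 | h2
  · exfalso
    apply h.z_ne
    apply φ.injective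
    rw [h2, map_one]
  · exact h2

variable {x : Fin 5 → P} (hx : Frame z x)
include hx

theorem frame_ne_one (i : Fin 5) : x i ≠ 1 := by
  intro h'
  have := hx.cx i (i + 1)
  rw [h', cc_one_left] at this
  revert this
  fin_cases i <;> decide

theorem frame_ne_z (i : Fin 5) : x i ≠ z := by
  intro h'
  have := hx.cx i (i + 1)
  rw [h', cc_z_left h] at this
  revert this
  fin_cases i <;> decide

/-- the image of a frame element under an automorphism is a frame element up to `z`. -/
theorem exists_rep (φ : P ≃* P) (i : Fin 5) : ∃ j : Fin 5, φ (x i) = x j ∨ φ (x i) = x j * z := by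
  apply hx.cover
  · rw [qq_map]; exact hx.qx i
  · intro h'
    apply frame_ne_one h hx i
    apply φ.injective
    rw [h', map_one]
  · intro h'
    apply frame_ne_z h hx i
    apply φ.injective
    rw [h', map_z h]

theorem cc_rep {w : P} {j : Fin 5} (hw : w = x j ∨ w = x j * z) (k : Fin 5) :
    cc w (x k) = if j = k then 0 else 1 := by
  rcases hw with rfl | rfl
  · exact hx.cx j k
  · rw [cc_mul_left h, cc_z_left h, add_zero]; exact hx.cx j k

theorem existsUnique_rep (φ : P ≃* P) (i : Fin 5) : ∃! j : Fin 5, cc (φ (x i)) (x j) = 0 := by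
  obtain ⟨j, hj⟩ := exists_rep h hx φ i
  refine ⟨j, ?_, ?_⟩
  · show cc (φ (x i)) (x j) = 0
    rw [cc_rep h hx hj j, if_pos rfl]
  · intro k hk
    have hk' : cc (φ (x i)) (x k) = 0 := hk
    rw [cc_rep h hx hj k] at hk'
    by_contra hne
    rw [if_neg (fun h' => hne h'.symm)] at hk'
    exact absurd hk' (by decide)

/-- the induced map on indices. -/
noncomputable def idx (x : Fin 5 → P) (φ : P ≃* P) (i : Fin 5) : Fin 5 :=
  Classical.epsilon (fun j => cc (φ (x i)) (x j) = 0)

theorem idx_spec (φ : P ≃* P) (i : Fin 5) : cc (φ (x i)) (x (idx x φ i)) = 0 := by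
  unfold idx
  exact Classical.epsilon_spec (existsUnique_rep h hx φ i).exists

theorem idx_eq (φ : P ≃* P) (i j : Fin 5) (hj : cc (φ (x i)) (x j) = 0) : idx x φ i = j :=
  (existsUnique_rep h hx φ i).unique (idx_spec h hx φ i) hj

theorem idx_rep (φ : P ≃* P) (i : Fin 5) :
    φ (x i) = x (idx x φ i) ∨ φ (x i) = x (idx x φ i) * z := by
  obtain ⟨j, hj⟩ := exists_rep h hx φ i
  have : idx x φ i = j := by
    apply idx_eq h hx
    rw [cc_rep h hx hj j, if_pos rfl]
  rw [this]; exact hj

theorem idx_one (i : Fin 5) : idx x (1 : P ≃* P) i = i := by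
  apply idx_eq h hx
  show cc (x i) (x i) = 0
  exact cc_self _

theorem idx_mul (φ ψ : P ≃* P) (i : Fin 5) : idx x (φ * ψ) i = idx x φ (idx x ψ i) := by
  apply idx_eq h hx
  show cc (φ (ψ (x i))) (x (idx x φ (idx x ψ i))) = 0
  rcases idx_rep h hx ψ i with h1 | h1
  · rw [h1]; exact idx_spec h hx φ _
  · rw [h1, map_mul, map_z h, cc_mul_left h, cc_z_left h, add_zero]; exact idx_spec h hx φ _

/-- the permutation representation of `Aut P` on the five singular points. -/
noncomputable def rho (h : ESData P z) (hx : Frame z x) : MulAut P →* Equiv.Perm (Fin 5) where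
  toFun φ :=
    { toFun := idx x φ
      invFun := idx x φ⁻¹
      left_inv := fun i => by
        rw [← idx_mul h hx, inv_mul_cancel, idx_one h hx]
      right_inv := fun i => by
        rw [← idx_mul h hx, mul_inv_cancel, idx_one h hx] }
  map_one' := by
    ext i
    simp only [Equiv.coe_fn_mk, Equiv.Perm.coe_one, id_eq]
    rw [idx_one h hx]
  map_mul' φ ψ := by
    ext i
    simp only [Equiv.coe_fn_mk, Equiv.Perm.coe_mul, Function.comp_apply]
    rw [idx_mul h hx]

theorem rho_apply (φ : MulAut P) (i : Fin 5) : rho h hx φ i = idx x φ i := rfl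

end action

section kernel

variable {P : Type*} [Group P] {z : P} (h : ESData P z) {x : Fin 5 → P} (hx : Frame z x)
include h

/-- conjugation in terms of the commutator indicator. -/
theorem conj_eq (g w : P) : g * w * g⁻¹ = w * pz z (cc g w) := by
  have h1 := comm_eq h g w
  rw [h1]
  have h2 := pz_comm h (cc g w) g
  calc w * g * pz z (cc g w) * g⁻¹ = w * (g * pz z (cc g w)) * g⁻¹ := by group
    _ = w * (pz z (cc g w) * g) * g⁻¹ := by rw [h2]
    _ = w * pz z (cc g w) := by group

include hx

/-- inner automorphisms act trivially on the five points. -/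
theorem rho_conj (g : P) : rho h hx (MulAut.conj g) = 1 := by
  ext i
  rw [rho_apply, Equiv.Perm.coe_one, id_eq]
  congr 1
  apply idx_eq h hx
  show cc (g * x i * g⁻¹) (x i) = 0
  rw [conj_eq h, cc_mul_left h, cc_self, cc_pz_left h, add_zero]

/-- an automorphism acting trivially on the five points is inner. -/
theorem mem_range_conj_of_rho_eq_one [Fintype P] (hcard : Fintype.card P = 32) (φ : MulAut P)
    (hφ : rho h hx φ = 1) : φ ∈ (MulAut.conj : P →* MulAut P).range := by
  -- the sign vector
  have hrep : ∀ i : Fin 5, ∃ e : ZMod 2, φ (x i) = x i * pz z e := by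
    intro i
    have hi : idx x φ i = i := by
      have := congrArg (fun σ : Equiv.Perm (Fin 5) => σ i) hφ
      simpa [rho_apply] using this
    have := idx_rep h hx φ i
    rw [hi] at this
    rcases this with h1 | h1
    · exact ⟨0, by rw [h1]; simp⟩
    · exact ⟨1, by rw [h1]; simp⟩
  choose e he using hrep
  set E : ZMod 2 := e 0 + e 1 + e 2 + e 3 with hE
  set g : P := theta z x (fun i : Fin 4 => E + e (Fin.castSucc i), 0) with hg
  refine ⟨g, ?_⟩
  -- compare on the frame
  have hcg : ∀ j : Fin 5, j ≠ 4 → cc g (x j) = e j := by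
    intro j hj
    rw [hg, cc_theta h hx]
    simp only [hx.cx]
    have key : ∀ a0 a1 a2 a3 : ZMod 2,
        ((a0 + a1 + a2 + a3) + a1) + ((a0 + a1 + a2 + a3) + a2) + ((a0 + a1 + a2 + a3) + a3) = a0 ∧
        ((a0 + a1 + a2 + a3) + a0) + ((a0 + a1 + a2 + a3) + a2) + ((a0 + a1 + a2 + a3) + a3) = a1 ∧
        ((a0 + a1 + a2 + a3) + a0) + ((a0 + a1 + a2 + a3) + a1) + ((a0 + a1 + a2 + a3) + a3) = a2 ∧
        ((a0 + a1 + a2 + a3) + a0) + ((a0 + a1 + a2 + a3) + a1) + ((a0 + a1 + a2 + a3) + a2) = a3 := by
      decide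
    have hk := key (e 0) (e 1) (e 2) (e 3)
    fin_cases j
    · simpa [hE] using hk.1
    · simpa [hE] using hk.2.1
    · simpa [hE] using hk.2.2.1
    · simpa [hE] using hk.2.2.2
    · exact absurd rfl hj
  have hfix : ∀ w : P, ((MulAut.conj g)⁻¹ * φ : MulAut P) w = w := by
    apply eq_id_of_fix h hx hcard (((MulAut.conj g)⁻¹ * φ : MulAut P) : P ≃* P).toMonoidHom
    intro i hi
    show (MulAut.conj g)⁻¹ (φ (x i)) = x i
    rw [he i, ← hcg i hi, ← conj_eq h g (x i)]
    show (MulAut.conj g)⁻¹ (MulAut.conj g (x i)) = x i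
    rw [← MulAut.mul_apply, inv_mul_cancel, MulAut.one_apply]
  have : (MulAut.conj g)⁻¹ * φ = 1 := by
    ext w
    exact hfix w
  rw [inv_mul_eq_one] at this
  exact this

end kernel

section reflection

variable {P : Type*} [Group P] {z : P} (h : ESData P z)
include h

/-- the "reflection" endomorphism `w ↦ w * y ^ [w, y]` for `y` of order 4. -/
noncomputable def reflHom (h : ESData P z) (y : P) (hy : qq y = 1) : P →* P where
  toFun w := w * pz y (cc w y)
  map_one' := by simp
  map_mul' w w' := by
    rw [cc_mul_left h]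
    have hyy : y * y = z := by
      have := sq_eq h y
      rw [hy] at this
      simpa using this
    rcases zmod2_cases (cc w y) with h1 | h1 <;> rcases zmod2_cases (cc w' y) with h2 | h2
    · rw [h1, h2]; simp
    · rw [h1, h2]; simp [mul_assoc]
    · rw [h1, h2]
      have hc : w' * y = y * w' := (cc_eq_zero_iff w' y).mp h2
      simp only [add_zero, pz_one, pz_zero, mul_one]
      rw [mul_assoc w w' y, hc]; group
    · rw [h1, h2]
      have hc : y * w' = w' * y * z := by
        have := comm_eq h y w'
        rw [cc_symm, h2] at this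
        simpa using this
      have : (1 : ZMod 2) + 1 = 0 := by decide
      rw [this]
      simp only [pz_one, pz_zero, mul_one]
      symm
      calc w * y * (w' * y) = w * (y * w') * y := by group
        _ = w * (w' * y * z) * y := by rw [hc]
        _ = w * w' * (y * (z * y)) := by group
        _ = w * w' * (y * (y * z)) := by rw [← h.z_comm y]
        _ = w * w' * ((y * y) * z) := by group
        _ = w * w' := by rw [hyy, h.z_sq, mul_one]

theorem reflHom_apply (y : P) (hy : qq y = 1) (w : P) : reflHom h y hy w = w * pz y (cc w y) := rfl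

theorem reflHom_injective (y : P) (hy : qq y = 1) : Function.Injective (reflHom h y hy) := by
  rw [injective_iff_map_eq_one]
  intro w hw
  rw [reflHom_apply] at hw
  rcases zmod2_cases (cc w y) with h1 | h1
  · rw [h1] at hw; simpa using hw
  · exfalso
    rw [h1] at hw
    simp only [pz_one] at hw
    have hwy : w = y⁻¹ := eq_inv_of_mul_eq_one_left hw
    rw [hwy, cc_symm, cc_inv_self] at h1
    exact absurd h1 (by decide)

/-- the reflection as an automorphism. -/
noncomputable def refl [Finite P] (h : ESData P z) (y : P) (hy : qq y = 1) : MulAut P :=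
  MulEquiv.ofBijective (reflHom h y hy)
    (Finite.injective_iff_bijective.mp (reflHom_injective h y hy))

theorem refl_apply [Finite P] (y : P) (hy : qq y = 1) (w : P) : refl h y hy w = w * pz y (cc w y) := rfl

variable {x : Fin 5 → P} (hx : Frame z x)
include hx

theorem qq_frame_mul (i j : Fin 5) (hij : i ≠ j) : qq (x i * x j) = 1 := by
  rw [qq_mul h, hx.qx, hx.qx, hx.cx, if_neg hij]; simp

/-- the reflection in `x i * x j` induces the transposition `(i j)`. -/
theorem rho_refl [Finite P] (i j : Fin 5) (hij : i ≠ j) :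
    rho h hx (refl h (x i * x j) (qq_frame_mul h hx i j hij)) = Equiv.swap i j := by
  have hxi : x i * x i = 1 := (qq_eq_zero_iff _).mp (hx.qx i)
  have hxj : x j * x j = 1 := (qq_eq_zero_iff _).mp (hx.qx j)
  ext k
  rw [rho_apply]
  congr 1
  apply idx_eq h hx
  rw [refl_apply, cc_mul_right h, hx.cx, hx.cx]
  by_cases hki : k = i
  · subst hki
    rw [Equiv.swap_apply_left, if_pos rfl, if_neg hij]
    simp only [zero_add, pz_one]
    rw [← mul_assoc, hxi, one_mul]
    exact cc_self _
  · by_cases hkj : k = j
    · subst hkj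
      rw [Equiv.swap_apply_right, if_neg hki, if_pos rfl]
      simp only [add_zero, pz_one]
      rw [cc_mul_left h, cc_mul_left h]
      simp only [hx.cx, if_neg hki, if_true]
      decide
    · rw [Equiv.swap_apply_of_ne_of_ne hki hkj, if_neg hki, if_neg hkj]
      have : (1 : ZMod 2) + 1 = 0 := by decide
      rw [this]
      simp only [pz_zero, mul_one]
      exact cc_self _

theorem rho_surjective [Finite P] : Function.Surjective (rho h hx) := by
  rw [← MonoidHom.range_eq_top, eq_top_iff, ← Equiv.Perm.closure_isSwap, Subgroup.closure_le]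
  rintro σ ⟨i, j, hij, rfl⟩
  exact ⟨_, rho_refl h hx i j hij⟩

end reflection

section main

open scoped commutatorElement

/-- elementwise data from the Prelude definition of an extraspecial 2-group. -/
theorem exists_esData {P : Type*} [Group P] [Finite P] (hex : Cfsg.IsExtraspecial 2 P) :
    ∃ z : P, ESData P z := by
  obtain ⟨z, hz1, hzZ, hzz, hZ, hcomm, hsq⟩ := Cfsg.Agent.Lib.Helper16.extraspecial_basic hex
  have hzc : ∀ g : P, g * z = z * g := fun g => Subgroup.mem_center_iff.mp hzZ g
  refine ⟨z, hz1, hzz, hzc, ?_, ?_, ?_⟩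
  · intro w hw
    apply hZ
    rw [Subgroup.mem_center_iff]
    intro g
    exact (hw g).symm
  · intro x y
    rcases hZ _ (hcomm x y) with h1 | h1
    · left
      rw [commutatorElement_def] at h1
      calc x * y = (x * y * x⁻¹ * y⁻¹) * (y * x) := by group
        _ = y * x := by rw [h1, one_mul]
    · right
      rw [commutatorElement_def] at h1
      calc x * y = (x * y * x⁻¹ * y⁻¹) * (y * x) := by group
        _ = z * (y * x) := by rw [h1]
        _ = y * x * z := (hzc (y * x)).symm
  · intro x
    rcases hZ _ (hsq x) with h1 | h1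
    · left; rw [← pow_two]; exact h1
    · right; rw [← pow_two]; exact h1

theorem ker_conj_eq_center (P : Type*) [Group P] :
    (MulAut.conj : P →* MulAut P).ker = Subgroup.center P := by
  ext g
  rw [MonoidHom.mem_ker, Subgroup.mem_center_iff]
  constructor
  · intro hg w
    have := congrArg (fun φ : MulAut P => φ w) hg
    simp only [MulAut.conj_apply, MulAut.one_apply] at this
    calc w * g = (g * w * g⁻¹) * g := by rw [this]
      _ = g * w := by group
  · intro hg
    ext w
    simp only [MulAut.conj_apply, MulAut.one_apply]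
    rw [← hg w]; group

/-- automorphisms of the extraspecial group `D₈ ∗ Q₈`. -/
theorem aut_minus32 {P : Type*} [Group P] [Finite P]
    (hex : Cfsg.IsExtraspecial 2 P) (h32 : Nat.card P = 32)
    (hminus : ∀ A : Subgroup P, Cfsg.IsElementaryAbelian 2 A → Nat.card ↥A ≤ 4)
    [(MulAut.conj : P →* MulAut P).range.Normal] :
    Nat.card ↥(MulAut.conj : P →* MulAut P).range = 16 ∧ Nat.card (MulAut P) = 1920 ∧
      Nonempty ((MulAut P ⧸ (MulAut.conj : P →* MulAut P).range) ≃* Equiv.Perm (Fin 5)) := by
  classical
  have : Fintype P := Fintype.ofFinite P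
  have hcard : Fintype.card P = 32 := by rw [← Nat.card_eq_fintype_card]; exact h32
  obtain ⟨z, h⟩ := exists_esData hex
  have hne : NoE8 P z := no_E8 h hminus
  obtain ⟨x, hx⟩ := exists_frame h hcard hne
  -- the inner automorphism group
  have hinn : Nat.card ↥(MulAut.conj : P →* MulAut P).range = 16 := by
    have h1 := Subgroup.card_eq_card_quotient_mul_card_subgroup (MulAut.conj : P →* MulAut P).ker
    rw [Nat.card_congr (QuotientGroup.quotientKerEquivRange (MulAut.conj : P →* MulAut P)).toEquiv,
      ker_conj_eq_center, hex.2, h32] at h1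
    omega
  -- kernel of rho
  have hker : (MulAut.conj : P →* MulAut P).range = (rho h hx).ker := by
    apply le_antisymm
    · rintro _ ⟨g, rfl⟩
      rw [MonoidHom.mem_ker]
      exact rho_conj h hx g
    · intro φ hφ
      rw [MonoidHom.mem_ker] at hφ
      exact mem_range_conj_of_rho_eq_one h hx hcard φ hφ
  have e1 := QuotientGroup.quotientKerEquivOfSurjective (rho h hx) (rho_surjective h hx)
  have e2 := QuotientGroup.quotientMulEquivOfEq hker
  have e := e2.trans e1
  refine ⟨hinn, ?_, ⟨e⟩⟩
  have h1 := Subgroup.card_eq_card_quotient_mul_card_subgroup (MulAut.conj : P →* MulAut P).range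
  have h2 : Nat.card (Equiv.Perm (Fin 5)) = 120 := by
    rw [Nat.card_eq_fintype_card, Fintype.card_perm, Fintype.card_fin]
    rfl
  rw [Nat.card_congr e.toEquiv, hinn, h2] at h1
  rw [h1]

end main

end Cfsg.Agent.Lib.Helper16.ES32
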