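import Mathlib
import Cfsg.Prelude.Def_Transfer
import Cfsg.Prelude.Def_Classical
import Cfsg.Agent.Lib.Helper16.ES32

/-!
# Extraspecial 2-groups with coordinates (helper16)

A hyperplane lemma for groups that are elementary abelian modulo a subgroup; `Coord P Qs`: a coordinate
homomorphism `κ : P → (ι → ZMod 2)` with kernel the centre, under which the squaring indicator becomes
the quadratic function `Qs`; the induced action of `MulAut P` on the coordinate space by matrices.
-/

set_option autoImplicit false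
set_option linter.unusedSectionVars false

namespace Cfsg.Agent.Lib.Helper16.ESQuad

open Cfsg.Agent.Lib.Helper16.ES32

/-- In a finite group all of whose squares and commutators lie in a subgroup `D`, every element outside
`D` is avoided by some subgroup `Δ ≥ D` with `G = Δ ∪ Δ w`. -/
theorem exists_hyperplane {G : Type*} [Group G] [Finite G] (D : Subgroup G)
    (hsq : ∀ a : G, a * a ∈ D) (hc : ∀ a b : G, a * b * a⁻¹ * b⁻¹ ∈ D) (w : G) (hw : w ∉ D) :
    ∃ Δ : Subgroup G, D ≤ Δ ∧ w ∉ Δ ∧ ∀ a : G, a ∈ Δ ∨ a * w ∈ Δ := by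
  classical
  let S : Set (Subgroup G) := {L | D ≤ L ∧ w ∉ L}
  have hSfin : S.Finite := Set.toFinite S
  have hSne : S.Nonempty := ⟨D, le_refl _, hw⟩
  obtain ⟨L, hL⟩ := hSfin.exists_maximal hSne
  have hDL : D ≤ L := hL.prop.1
  have hwL : w ∉ L := hL.prop.2
  have hnorm : ∀ g l : G, l ∈ L → g * l * g⁻¹ ∈ L := by
    intro g l hl
    have h1 : g * l * g⁻¹ = (g * l * g⁻¹ * l⁻¹) * l := by group
    rw [h1]
    exact L.mul_mem (hDL (hc g l)) hl
  refine ⟨L, hDL, hwL, ?_⟩
  intro a
  by_contra hcon
  obtain ⟨ha, haw⟩ := not_or.mp hcon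
  let M : Subgroup G :=
    { carrier := {x | x ∈ L ∨ x * a ∈ L}
      one_mem' := Or.inl L.one_mem
      mul_mem' := by
        rintro x y (hx | hx) (hy | hy)
        · exact Or.inl (L.mul_mem hx hy)
        · right
          have : x * y * a = x * (y * a) := by group
          rw [this]
          exact L.mul_mem hx hy
        · right
          have h1 : x * y * a = (x * a) * (a⁻¹ * y * a⁻¹⁻¹) := by group
          rw [h1]
          exact L.mul_mem hx (hnorm a⁻¹ y hy)
        · left
          have h1 : x * y = (x * a) * (a⁻¹ * (y * a) * a⁻¹⁻¹) * (a * a)⁻¹ := by group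
          rw [h1]
          exact L.mul_mem (L.mul_mem hx (hnorm a⁻¹ (y * a) hy)) (L.inv_mem (hDL (hsq a)))
      inv_mem' := by
        rintro x (hx | hx)
        · exact Or.inl (L.inv_mem hx)
        · right
          have h1 : x⁻¹ * a = (a * (x * a)⁻¹ * a⁻¹) * (a * a) := by group
          rw [h1]
          exact L.mul_mem (hnorm a _ (L.inv_mem hx)) (hDL (hsq a)) }
  have hLM : L ≤ M := fun x hx => Or.inl hx
  have haM : a ∈ M := Or.inr (hDL (hsq a))
  have hMS : M ∉ S := by
    intro hMS
    have := hL.le_of_ge hMS hLM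
    exact ha (this haM)
  have hwM : w ∈ M := by
    by_contra hwM
    exact hMS ⟨hDL.trans hLM, hwM⟩
  rcases hwM with h | h
  · exact hwL h
  · apply haw
    have := hnorm a (w * a) h
    have h2 : a * (w * a) * a⁻¹ = a * w := by group
    rwa [h2] at this

theorem fun_add_self {ι : Type*} (v : ι → ZMod 2) : v + v = 0 := by
  funext i
  exact zmod2_add_self (v i)

theorem fun_eq_of_add_eq_zero {ι : Type*} {u v : ι → ZMod 2} (huv : u + v = 0) : u = v := by
  have : u = u + (v + v) := by rw [fun_add_self, add_zero]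
  rw [this, ← add_assoc, huv, zero_add]

/-- coordinates on an extraspecial 2-group. -/
structure Coord (P : Type*) [Group P] {ι : Type} (Qs : (ι → ZMod 2) → ZMod 2) where
  κ : P → (ι → ZMod 2)
  map_mul : ∀ x y, κ (x * y) = κ x + κ y
  surj : Function.Surjective κ
  ker : ∀ x, κ x = 0 ↔ x ∈ Subgroup.center P
  quad : ∀ x, qq x = Qs (κ x)

section basic

variable {P : Type*} [Group P] {z : P} (h : ESData P z)
include h

theorem mem_center_iff' (w : P) : w ∈ Subgroup.center P ↔ (w = 1 ∨ w = z) := by
  rw [Subgroup.mem_center_iff]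
  constructor
  · intro hw
    exact h.center w (fun g => (hw g).symm)
  · rintro (rfl | rfl) g
    · simp
    · exact h.z_comm g

variable {ι : Type} {Qs : (ι → ZMod 2) → ZMod 2} (C : Coord P Qs)

omit h in
theorem Coord.map_one : C.κ 1 = 0 := (C.ker 1).mpr (Subgroup.one_mem _)

omit h in
theorem Coord.map_inv (x : P) : C.κ x⁻¹ = C.κ x := by
  apply fun_eq_of_add_eq_zero
  rw [← C.map_mul, inv_mul_cancel, C.map_one]

theorem Coord.map_z : C.κ z = 0 := (C.ker z).mpr ((mem_center_iff' h z).mpr (Or.inr rfl))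

theorem Coord.map_pz (e : ZMod 2) : C.κ (pz z e) = 0 := by
  rcases zmod2_cases e with rfl | rfl
  · simpa using C.map_one
  · simpa using C.map_z h

theorem Coord.eq_iff (x y : P) : C.κ x = C.κ y ↔ ∃ e : ZMod 2, y = x * pz z e := by
  constructor
  · intro hxy
    have h1 : C.κ (x⁻¹ * y) = 0 := by
      rw [C.map_mul, C.map_inv, hxy, fun_add_self]
    rcases (mem_center_iff' h _).mp ((C.ker _).mp h1) with h2 | h2
    · refine ⟨0, ?_⟩
      rw [pz_zero, mul_one]
      exact (inv_mul_eq_one.mp h2).symm
    · refine ⟨1, ?_⟩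
      rw [pz_one, ← h2]; group
  · rintro ⟨e, rfl⟩
    rw [C.map_mul, C.map_pz h, add_zero]

/-- the polar form of `Qs` is the commutator indicator. -/
theorem Coord.polar (x y : P) : cc x y = Qs (C.κ x + C.κ y) + Qs (C.κ x) + Qs (C.κ y) := by
  rw [← C.map_mul, ← C.quad, ← C.quad, ← C.quad, qq_mul h]
  have h1 := zmod2_add_self (qq x)
  have h2 := zmod2_add_self (qq y)
  calc cc x y = cc x y + (qq x + qq x) + (qq y + qq y) := by rw [h1, h2, add_zero, add_zero]
    _ = _ := by ring

end basic

end Cfsg.Agent.Lib.Helper16.ESQuad
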