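import Mathlib
import Cfsg.Agent.Lib.Helper16.ESQuad1

/-!
# Elementary abelian 2-groups: hyperplanes and automorphisms built from them (helper16)

For a group `A` (all of whose elements commute and square to `1`) a *hyperplane datum* `Hyp D a` is a
subgroup `D` with an element `a ∉ D` such that `A = D ∪ D a`.  Homomorphisms `A →* A` can be defined
by prescribing them on `D` and at `a`; this gives transvections, projections and extensions of
automorphisms of a complement.
-/

set_option autoImplicit false
set_option linter.unusedSectionVars false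

namespace Cfsg.Agent.Lib.Helper16.EA2

variable {A : Type*} [Group A]

/-- hyperplane datum in an elementary abelian `2`-group -/
structure Hyp (D : Subgroup A) (a : A) : Prop where
  comm : ∀ x y : A, x * y = y * x
  sq : ∀ x : A, x * x = 1
  nmem : a ∉ D
  cov : ∀ x : A, x ∈ D ∨ x * a ∈ D

namespace Hyp

variable {D : Subgroup A} {a : A}

theorem inv_eq (h : Hyp D a) (x : A) : x⁻¹ = x := by
  have := h.sq x
  exact inv_eq_of_mul_eq_one_left this

theorem mul_a_mem (h : Hyp D a) {x : A} (hx : x ∉ D) : x * a ∈ D := (h.cov x).resolve_left hx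

theorem mul_a_nmem (h : Hyp D a) {x : A} (hx : x ∈ D) : x * a ∉ D := by
  intro h1
  apply h.nmem
  have : a = x⁻¹ * (x * a) := by group
  rw [this]
  exact D.mul_mem (D.inv_mem hx) h1

theorem mul_mem_of_nmem (h : Hyp D a) {x y : A} (hx : x ∉ D) (hy : y ∉ D) : x * y ∈ D := by
  have h1 := D.mul_mem (h.mul_a_mem hx) (h.mul_a_mem hy)
  have : x * a * (y * a) = x * y := by
    calc x * a * (y * a) = x * (a * y) * a := by group
      _ = x * (y * a) * a := by rw [h.comm a y]
      _ = x * y * (a * a) := by group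
      _ = x * y := by rw [h.sq a, mul_one]
  rwa [this] at h1

theorem mul_nmem_left (h : Hyp D a) {x y : A} (hx : x ∉ D) (hy : y ∈ D) : x * y ∉ D := by
  intro h1
  apply hx
  have : x = x * y * y⁻¹ := by group
  rw [this]
  exact D.mul_mem h1 (D.inv_mem hy)

theorem mul_nmem_right (h : Hyp D a) {x y : A} (hx : x ∈ D) (hy : y ∉ D) : x * y ∉ D := by
  intro h1
  apply hy
  have : y = x⁻¹ * (x * y) := by group
  rw [this]
  exact D.mul_mem (D.inv_mem hx) h1

open Classical in
/-- the homomorphism extending `f` on `D` and sending `a` to `b` -/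
noncomputable def ext (h : Hyp D a) (f : D →* A) (b : A) (hb : b * b = 1) : A →* A where
  toFun x := if hx : x ∈ D then f ⟨x, hx⟩ else f ⟨x * a, h.mul_a_mem hx⟩ * b
  map_one' := by
    rw [dif_pos D.one_mem]
    exact map_one f
  map_mul' x y := by
    by_cases hx : x ∈ D
    · by_cases hy : y ∈ D
      · rw [dif_pos hx, dif_pos hy, dif_pos (D.mul_mem hx hy), ← map_mul]
        rfl
      · rw [dif_pos hx, dif_neg hy, dif_neg (h.mul_nmem_right hx hy), ← mul_assoc, ← map_mul]
        congr 2
        apply Subtype.ext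
        change x * y * a = x * (y * a)
        group
    · by_cases hy : y ∈ D
      · rw [dif_neg hx, dif_pos hy, dif_neg (h.mul_nmem_left hx hy)]
        have key : (⟨x * y * a, h.mul_a_mem (h.mul_nmem_left hx hy)⟩ : D)
            = ⟨x * a, h.mul_a_mem hx⟩ * ⟨y, hy⟩ := by
          apply Subtype.ext
          change x * y * a = x * a * y
          rw [mul_assoc, h.comm y a, mul_assoc]
        rw [key, map_mul, mul_assoc, mul_assoc, h.comm (f ⟨y, hy⟩) b]
      · rw [dif_neg hx, dif_neg hy, dif_pos (h.mul_mem_of_nmem hx hy)]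
        have key : (⟨x * y, h.mul_mem_of_nmem hx hy⟩ : D)
            = ⟨x * a, h.mul_a_mem hx⟩ * ⟨y * a, h.mul_a_mem hy⟩ := by
          apply Subtype.ext
          change x * y = x * a * (y * a)
          calc x * y = x * y * (a * a) := by rw [h.sq a, mul_one]
            _ = x * (y * a) * a := by group
            _ = x * (a * y) * a := by rw [h.comm y a]
            _ = x * a * (y * a) := by group
        rw [key, map_mul]
        generalize f ⟨x * a, h.mul_a_mem hx⟩ = P
        generalize f ⟨y * a, h.mul_a_mem hy⟩ = R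
        calc P * R = P * R * (b * b) := by rw [hb, mul_one]
          _ = P * (R * b) * b := by group
          _ = P * (b * R) * b := by rw [h.comm R b]
          _ = P * b * (R * b) := by group

open Classical in
theorem ext_mem (h : Hyp D a) (f : D →* A) (b : A) (hb : b * b = 1) {x : A} (hx : x ∈ D) :
    h.ext f b hb x = f ⟨x, hx⟩ := by
  change (if hx : x ∈ D then f ⟨x, hx⟩ else f ⟨x * a, h.mul_a_mem hx⟩ * b) = _
  rw [dif_pos hx]

open Classical in
theorem ext_nmem (h : Hyp D a) (f : D →* A) (b : A) (hb : b * b = 1) {x : A} (hx : x ∉ D) :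
    h.ext f b hb x = f ⟨x * a, h.mul_a_mem hx⟩ * b := by
  change (if hx : x ∈ D then f ⟨x, hx⟩ else f ⟨x * a, h.mul_a_mem hx⟩ * b) = _
  rw [dif_neg hx]

theorem ext_a (h : Hyp D a) (f : D →* A) (b : A) (hb : b * b = 1) : h.ext f b hb a = b := by
  rw [h.ext_nmem f b hb h.nmem]
  have : (⟨a * a, h.mul_a_mem h.nmem⟩ : D) = 1 := Subtype.ext (h.sq a)
  rw [this, map_one, one_mul]

/-- homomorphisms agreeing on `D` and at `a` agree -/
theorem hom_ext (h : Hyp D a) {B : Type*} [Group B] (F F' : A →* B) (hD : ∀ x ∈ D, F x = F' x)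
    (ha : F a = F' a) : F = F' := by
  ext x
  by_cases hx : x ∈ D
  · exact hD x hx
  · have e : x = x * a * a := by rw [mul_assoc, h.sq a, mul_one]
    calc F x = F (x * a * a) := by rw [← e]
      _ = F (x * a) * F a := map_mul _ _ _
      _ = F' (x * a) * F' a := by rw [hD _ (h.mul_a_mem hx), ha]
      _ = F' (x * a * a) := (map_mul _ _ _).symm
      _ = F' x := by rw [← e]

/-- the transvection fixing `D` pointwise and sending `a` to `a * w` -/
noncomputable def tauHom (h : Hyp D a) (w : A) : A →* A :=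
  h.ext D.subtype (a * w) (by
    calc a * w * (a * w) = a * (w * a) * w := by group
      _ = a * (a * w) * w := by rw [h.comm w a]
      _ = (a * a) * (w * w) := by group
      _ = 1 := by rw [h.sq, h.sq, mul_one])

theorem tauHom_mem (h : Hyp D a) (w : A) {x : A} (hx : x ∈ D) : h.tauHom w x = x :=
  h.ext_mem _ _ _ hx

theorem tauHom_a (h : Hyp D a) (w : A) : h.tauHom w a = a * w := h.ext_a _ _ _

theorem tauHom_nmem (h : Hyp D a) (w : A) {x : A} (hx : x ∉ D) : h.tauHom w x = x * w := by
  have e : x = x * a * a := by rw [mul_assoc, h.sq a, mul_one]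
  conv_lhs => rw [e]
  rw [map_mul, h.tauHom_mem w (h.mul_a_mem hx), h.tauHom_a]
  rw [← mul_assoc, mul_assoc x, h.sq a, mul_one]

theorem tauHom_tauHom (h : Hyp D a) {w : A} (hw : w ∈ D) (x : A) :
    h.tauHom w (h.tauHom w x) = x := by
  by_cases hx : x ∈ D
  · rw [h.tauHom_mem w hx, h.tauHom_mem w hx]
  · rw [h.tauHom_nmem w hx, h.tauHom_nmem w (h.mul_nmem_left hx hw), mul_assoc, h.sq w, mul_one]

/-- the transvection as an automorphism -/
noncomputable def tau (h : Hyp D a) {w : A} (hw : w ∈ D) : A ≃* A where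
  toFun := h.tauHom w
  invFun := h.tauHom w
  left_inv := h.tauHom_tauHom hw
  right_inv := h.tauHom_tauHom hw
  map_mul' := map_mul _

theorem tau_mem (h : Hyp D a) {w : A} (hw : w ∈ D) {x : A} (hx : x ∈ D) : h.tau hw x = x :=
  h.tauHom_mem w hx

theorem tau_nmem (h : Hyp D a) {w : A} (hw : w ∈ D) {x : A} (hx : x ∉ D) : h.tau hw x = x * w :=
  h.tauHom_nmem w hx

/-- every value of a transvection differs from the argument by `1` or `w` -/
theorem tau_mul_inv (h : Hyp D a) {w : A} (hw : w ∈ D) (x : A) :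
    h.tau hw x * x⁻¹ = 1 ∨ h.tau hw x * x⁻¹ = w := by
  by_cases hx : x ∈ D
  · left; rw [h.tau_mem hw hx, mul_inv_cancel]
  · right
    rw [h.tau_nmem hw hx, h.comm x w, mul_assoc, mul_inv_cancel, mul_one]

/-- the projection onto `D` killing `a` -/
noncomputable def proj (h : Hyp D a) : A →* A := h.ext D.subtype 1 (one_mul 1)

theorem proj_mem (h : Hyp D a) {x : A} (hx : x ∈ D) : h.proj x = x := h.ext_mem _ _ _ hx

theorem proj_a (h : Hyp D a) : h.proj a = 1 := h.ext_a _ _ _

theorem proj_nmem (h : Hyp D a) {x : A} (hx : x ∉ D) : h.proj x = x * a := by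
  have e : x = x * a * a := by rw [mul_assoc, h.sq a, mul_one]
  conv_lhs => rw [e]
  rw [map_mul, h.proj_mem (h.mul_a_mem hx), h.proj_a, mul_one]

theorem proj_mem' (h : Hyp D a) (x : A) : h.proj x ∈ D := by
  by_cases hx : x ∈ D
  · rw [h.proj_mem hx]; exact hx
  · rw [h.proj_nmem hx]; exact h.mul_a_mem hx

theorem proj_eq_or (h : Hyp D a) (x : A) : h.proj x = x ∨ h.proj x = x * a := by
  by_cases hx : x ∈ D
  · left; exact h.proj_mem hx
  · right; exact h.proj_nmem hx

/-- the extension of an endomorphism `α` of `D` fixing `a` -/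
noncomputable def extHom (h : Hyp D a) (α : D →* D) : A →* A :=
  h.ext (D.subtype.comp α) a (h.sq a)

theorem extHom_mem (h : Hyp D a) (α : D →* D) {x : A} (hx : x ∈ D) :
    h.extHom α x = (α ⟨x, hx⟩ : A) := h.ext_mem _ _ _ hx

theorem extHom_a (h : Hyp D a) (α : D →* D) : h.extHom α a = a := h.ext_a _ _ _

theorem extHom_comp (h : Hyp D a) (α β : D →* D) (x : A) :
    h.extHom α (h.extHom β x) = h.extHom (α.comp β) x := by
  have : (h.extHom α).comp (h.extHom β) = h.extHom (α.comp β) := by
    apply h.hom_ext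
    · intro x hx
      rw [MonoidHom.comp_apply, h.extHom_mem β hx, h.extHom_mem α (β ⟨x, hx⟩).2,
        h.extHom_mem _ hx]
      rfl
    · rw [MonoidHom.comp_apply, h.extHom_a, h.extHom_a, h.extHom_a]
  exact DFunLike.congr_fun this x

theorem extHom_id (h : Hyp D a) (x : A) : h.extHom (MonoidHom.id D) x = x := by
  have : h.extHom (MonoidHom.id D) = MonoidHom.id A := by
    apply h.hom_ext
    · intro x hx
      rw [h.extHom_mem _ hx]; rfl
    · rw [h.extHom_a]; rfl
  exact DFunLike.congr_fun this x

/-- the extension of an automorphism of `D` to an automorphism of `A` fixing `a` -/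
noncomputable def extAut (h : Hyp D a) (α : D ≃* D) : A ≃* A where
  toFun := h.extHom α.toMonoidHom
  invFun := h.extHom α.symm.toMonoidHom
  left_inv x := by
    rw [h.extHom_comp]
    have : α.symm.toMonoidHom.comp α.toMonoidHom = MonoidHom.id D := by
      ext y; simp
    rw [this, h.extHom_id]
  right_inv x := by
    rw [h.extHom_comp]
    have : α.toMonoidHom.comp α.symm.toMonoidHom = MonoidHom.id D := by
      ext y; simp
    rw [this, h.extHom_id]
  map_mul' := map_mul _

theorem extAut_mem (h : Hyp D a) (α : D ≃* D) {x : A} (hx : x ∈ D) :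
    h.extAut α x = (α ⟨x, hx⟩ : A) := h.extHom_mem _ hx

theorem extAut_a (h : Hyp D a) (α : D ≃* D) : h.extAut α a = a := h.extHom_a _

end Hyp

/-- existence of hyperplanes avoiding a given element and containing a given subgroup -/
theorem exists_hyp [Finite A] (hc : ∀ x y : A, x * y = y * x) (hs : ∀ x : A, x * x = 1)
    (B : Subgroup A) (a : A) (ha : a ∉ B) : ∃ D : Subgroup A, B ≤ D ∧ Hyp D a := by
  obtain ⟨D, hBD, haD, hcov⟩ := Cfsg.Agent.Lib.Helper16.ESQuad.exists_hyperplane B
    (fun x => by rw [hs x]; exact B.one_mem)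
    (fun x y => by
      have : x * y * x⁻¹ * y⁻¹ = 1 := by
        rw [hc x y, mul_assoc y, mul_inv_cancel, mul_one, mul_inv_cancel]
      rw [this]; exact B.one_mem) a ha
  exact ⟨D, hBD, ⟨hc, hs, haD, hcov⟩⟩

/-- a hyperplane has index `2` -/
theorem Hyp.card_eq {D : Subgroup A} {a : A} [Finite A] (h : Hyp D a) :
    Nat.card A = 2 * Nat.card D := by
  have hidx : D.index = 2 := by
    rw [Subgroup.index_eq_two_iff]
    refine ⟨a, fun b => ?_⟩
    by_cases hb : b ∈ D
    · right; exact ⟨hb, h.mul_a_nmem hb⟩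
    · left; exact ⟨h.mul_a_mem hb, hb⟩
  rw [← Subgroup.card_mul_index D, hidx, mul_comm]

end Cfsg.Agent.Lib.Helper16.EA2
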