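import Mathlib
import Cfsg.Agent.Lib.Helper16.EA2

/-!
# The affine group `2^(n+1) : GL_(n+1)(2)` : the centralizer of a vector (helper16)

`Setup U M z`: `U` is a normal elementary abelian `2`-subgroup of `G` with complement `M` acting
faithfully and inducing all automorphisms of `U`; `z ∈ U` is an involution; `U` has more than two
elements.  `Q0` is the subgroup of elements centralizing `z` and acting trivially on `U / ⟨z⟩`.
-/

set_option autoImplicit false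
set_option linter.unusedSectionVars false

namespace Cfsg.Agent.Lib.Helper16.AGL

variable {G : Type*} [Group G]

/-- `x = 1 ∨ x = z` -/
def InZ (z x : G) : Prop := x = 1 ∨ x = z

theorem InZ.mul {z x y : G} (hz : z * z = 1) (hx : InZ z x) (hy : InZ z y) : InZ z (x * y) := by
  rcases hx with rfl | rfl <;> rcases hy with rfl | rfl
  · left; rw [mul_one]
  · right; rw [one_mul]
  · right; rw [mul_one]
  · left; exact hz

theorem InZ.inv {z x : G} (hz : z * z = 1) (hx : InZ z x) : InZ z x⁻¹ := by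
  rcases hx with rfl | rfl
  · left; rw [inv_one]
  · right; exact inv_eq_of_mul_eq_one_left hz

structure Setup (U M : Subgroup G) (z : G) : Prop where
  normal : U.Normal
  comm : ∀ a ∈ U, ∀ b ∈ U, a * b = b * a
  sq : ∀ a ∈ U, a * a = 1
  inf : ∀ g, g ∈ U → g ∈ M → g = 1
  sup : ∀ g : G, ∃ u ∈ U, ∃ m ∈ M, g = u * m
  faith : ∀ m ∈ M, (∀ u ∈ U, m * u * m⁻¹ = u) → m = 1
  full : ∀ φ : ↥U ≃* ↥U, ∃ m ∈ M, ∀ u : ↥U, ((φ u : ↥U) : G) = m * u * m⁻¹
  zU : z ∈ U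
  z1 : z ≠ 1
  big : ∃ u ∈ U, u ≠ 1 ∧ u ≠ z

namespace Setup

variable {U M : Subgroup G} {z : G}

theorem conj_mem (h : Setup U M z) (g : G) {u : G} (hu : u ∈ U) : g * u * g⁻¹ ∈ U :=
  h.normal.conj_mem u hu g

theorem conj_mem' (h : Setup U M z) (g : G) {u : G} (hu : u ∈ U) : g⁻¹ * u * g ∈ U := by
  have := h.conj_mem g⁻¹ hu
  rwa [inv_inv] at this

theorem zz (h : Setup U M z) : z * z = 1 := h.sq z h.zU

theorem inv_eq (h : Setup U M z) {u : G} (hu : u ∈ U) : u⁻¹ = u :=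
  inv_eq_of_mul_eq_one_left (h.sq u hu)

theorem inZ_mem (h : Setup U M z) {x : G} (hx : InZ z x) : x ∈ U := by
  rcases hx with rfl | rfl
  · exact U.one_mem
  · exact h.zU

/-- `C_G(U) = U` -/
theorem cent_U (h : Setup U M z) (g : G) (hg : ∀ u ∈ U, g * u = u * g) : g ∈ U := by
  obtain ⟨u, hu, m, hm, rfl⟩ := h.sup g
  have hm1 : m = 1 := by
    apply h.faith m hm
    intro x hx
    have h1 := hg x hx
    have h2 : u * (m * x) = u * (x * m) := by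
      rw [← mul_assoc, h1, ← mul_assoc, h.comm x hx u hu, mul_assoc]
    have h3 := mul_left_cancel h2
    rw [h3, mul_assoc, mul_inv_cancel, mul_one]
  rw [hm1, mul_one]; exact hu

theorem hcA (h : Setup U M z) : ∀ x y : ↥U, x * y = y * x :=
  fun x y => Subtype.ext (h.comm x x.2 y y.2)

theorem hsA (h : Setup U M z) : ∀ x : ↥U, x * x = 1 :=
  fun x => Subtype.ext (h.sq x x.2)

/-- realization of automorphisms -/
theorem realize (h : Setup U M z) (φ : ↥U ≃* ↥U) :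
    ∃ m ∈ M, ∀ u (hu : u ∈ U), m * u * m⁻¹ = (φ ⟨u, hu⟩ : G) := by
  obtain ⟨m, hm, hφ⟩ := h.full φ
  exact ⟨m, hm, fun u hu => (hφ ⟨u, hu⟩).symm⟩

/-- the candidate for `O₂(C_G(z))` -/
def Q0 (h : Setup U M z) : Subgroup G where
  carrier := {g | g * z = z * g ∧ ∀ u ∈ U, InZ z (g * u * g⁻¹ * u⁻¹)}
  one_mem' := by
    refine ⟨by rw [one_mul, mul_one], fun u _ => ?_⟩
    left; group
  mul_mem' := by
    rintro g k ⟨hg1, hg2⟩ ⟨hk1, hk2⟩
    refine ⟨by rw [mul_assoc, hk1, ← mul_assoc, hg1, mul_assoc], fun u hu => ?_⟩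
    have e : g * k * u * (g * k)⁻¹ * u⁻¹
        = g * (k * u * k⁻¹ * u⁻¹) * g⁻¹ * (g * u * g⁻¹ * u⁻¹) := by group
    rw [e]
    apply InZ.mul h.zz _ (hg2 u hu)
    rcases hk2 u hu with h1 | h1
    · rw [h1]; left; group
    · rw [h1]; right
      rw [hg1, mul_assoc, mul_inv_cancel, mul_one]
  inv_mem' := by
    rintro g ⟨hg1, hg2⟩
    have hg1' : g⁻¹ * z = z * g⁻¹ := by
      have : g⁻¹ * (g * z) * g⁻¹ = g⁻¹ * (z * g) * g⁻¹ := by rw [hg1]
      have e1 : g⁻¹ * (g * z) * g⁻¹ = z * g⁻¹ := by group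
      have e2 : g⁻¹ * (z * g) * g⁻¹ = g⁻¹ * z := by group
      rw [e1, e2] at this
      exact this.symm
    refine ⟨hg1', fun u hu => ?_⟩
    have e : g⁻¹ * u * g⁻¹⁻¹ * u⁻¹
        = (g * (g⁻¹ * u * g) * g⁻¹ * (g⁻¹ * u * g)⁻¹)⁻¹ := by group
    rw [e]
    exact InZ.inv h.zz (hg2 _ (h.conj_mem' g hu))

theorem mem_Q0 (h : Setup U M z) (g : G) :
    g ∈ h.Q0 ↔ g * z = z * g ∧ ∀ u ∈ U, InZ z (g * u * g⁻¹ * u⁻¹) := Iff.rfl

theorem U_le_Q0 (h : Setup U M z) : U ≤ h.Q0 := by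
  intro x hx
  refine ⟨h.comm x hx z h.zU, fun u hu => ?_⟩
  left
  rw [h.comm x hx u hu, mul_assoc u, mul_inv_cancel, mul_one, mul_inv_cancel]

theorem z_mem_Q0 (h : Setup U M z) : z ∈ h.Q0 := h.U_le_Q0 h.zU

/-- the commutator `ζ(g,u)` -/
theorem conj_eq (g u : G) : g * u * g⁻¹ = (g * u * g⁻¹ * u⁻¹) * u := by group

/-- elements of `Q0` commute with the elements `1`, `z` -/
theorem comm_inZ (h : Setup U M z) {g x : G} (hg : g ∈ h.Q0) (hx : InZ z x) : g * x = x * g := by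
  rcases hx with rfl | rfl
  · rw [one_mul, mul_one]
  · exact hg.1

theorem conj_inZ (h : Setup U M z) {g x : G} (hg : g ∈ h.Q0) (hx : InZ z x) : g * x * g⁻¹ = x := by
  rw [h.comm_inZ hg hx, mul_assoc, mul_inv_cancel, mul_one]

theorem Q0_decomp (h : Setup U M z) {g : G} (hg : g ∈ h.Q0) :
    ∃ u ∈ U, ∃ m ∈ M, m ∈ h.Q0 ∧ g = u * m := by
  obtain ⟨u, hu, m, hm, rfl⟩ := h.sup g
  refine ⟨u, hu, m, hm, ?_, rfl⟩
  have : m = u⁻¹ * (u * m) := by group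
  rw [this]
  exact h.Q0.mul_mem (h.Q0.inv_mem (h.U_le_Q0 hu)) hg

theorem act (h : Setup U M z) {g u : G} (hg : g ∈ h.Q0) (hu : u ∈ U) :
    ∃ ζ, InZ z ζ ∧ g * u * g⁻¹ = ζ * u :=
  ⟨_, hg.2 u hu, conj_eq g u⟩

/-- elements of `R = Q0 ∩ M` are involutions -/
theorem R_sq (h : Setup U M z) {m : G} (hm : m ∈ M) (hq : m ∈ h.Q0) : m * m = 1 := by
  apply h.faith _ (M.mul_mem hm hm)
  intro u hu
  obtain ⟨ζ, hζ, e1⟩ := h.act hq hu
  have e : m * m * u * (m * m)⁻¹ = m * (m * u * m⁻¹) * m⁻¹ := by group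
  rw [e, e1]
  have e2 : m * (ζ * u) * m⁻¹ = (m * ζ * m⁻¹) * (m * u * m⁻¹) := by group
  rw [e2, h.conj_inZ hq hζ, e1, ← mul_assoc]
  rcases hζ with h1 | h1
  · rw [h1, one_mul, one_mul]
  · rw [h1, h.zz, one_mul]

/-- `R = Q0 ∩ M` is abelian -/
theorem R_comm (h : Setup U M z) {m m' : G} (hm : m ∈ M) (hq : m ∈ h.Q0) (hm' : m' ∈ M)
    (hq' : m' ∈ h.Q0) : m * m' = m' * m := by
  have key : (m' * m)⁻¹ * (m * m') = 1 := by
    apply h.faith _ (M.mul_mem (M.inv_mem (M.mul_mem hm' hm)) (M.mul_mem hm hm'))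
    intro u hu
    obtain ⟨ζ, hζ, e1⟩ := h.act hq hu
    obtain ⟨ζ', hζ', e1'⟩ := h.act hq' hu
    have a1 : m * m' * u * (m * m')⁻¹ = ζ' * ζ * u := by
      have e : m * m' * u * (m * m')⁻¹ = m * (m' * u * m'⁻¹) * m⁻¹ := by group
      rw [e, e1']
      have e2 : m * (ζ' * u) * m⁻¹ = (m * ζ' * m⁻¹) * (m * u * m⁻¹) := by group
      rw [e2, h.conj_inZ hq hζ', e1, mul_assoc]
    have a2 : m' * m * u * (m' * m)⁻¹ = ζ * ζ' * u := by
      have e : m' * m * u * (m' * m)⁻¹ = m' * (m * u * m⁻¹) * m'⁻¹ := by group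
      rw [e, e1]
      have e2 : m' * (ζ * u) * m'⁻¹ = (m' * ζ * m'⁻¹) * (m' * u * m'⁻¹) := by group
      rw [e2, h.conj_inZ hq' hζ, e1', mul_assoc]
    have hc : ζ' * ζ = ζ * ζ' := h.comm _ (h.inZ_mem hζ') _ (h.inZ_mem hζ)
    have a3 : m * m' * u * (m * m')⁻¹ = m' * m * u * (m' * m)⁻¹ := by rw [a1, a2, hc]
    have e3 : (m' * m)⁻¹ * (m * m') * u * ((m' * m)⁻¹ * (m * m'))⁻¹
        = (m' * m)⁻¹ * (m * m' * u * (m * m')⁻¹) * (m' * m) := by group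
    rw [e3, a3]
    group
  have : m * m' = (m' * m) * ((m' * m)⁻¹ * (m * m')) := by group
  rw [this, key, mul_one]

end Setup

end Cfsg.Agent.Lib.Helper16.AGL
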