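import Mathlib
import Cfsg.Agent.Lib.Helper16.AGL1
import Cfsg.Agent.Lib.Helper20.ESCriterion

/-!
# `Q0` is extraspecial (helper16)
-/

set_option autoImplicit false
set_option linter.unusedSectionVars false

namespace Cfsg.Agent.Lib.Helper16.AGL

open Cfsg.Agent.Lib.Helper16.EA2

variable {G : Type*} [Group G]

namespace Setup

variable {U M : Subgroup G} {z : G}

/-- membership in the subgroup generated by an involution -/
theorem mem_zpowers_invol {A : Type*} [Group A] {a x : A} (ha : a * a = 1) :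
    x ∈ Subgroup.zpowers a ↔ x = 1 ∨ x = a := by
  constructor
  · intro hx
    obtain ⟨k, rfl⟩ := Subgroup.mem_zpowers_iff.mp hx
    have ha2 : a ^ (2 : ℤ) = 1 := by
      rw [zpow_ofNat, pow_two]; exact ha
    rcases Int.emod_two_eq_zero_or_one k with h0 | h1
    · left
      have : k = 2 * (k / 2) := by omega
      rw [this, zpow_mul, ha2, one_zpow]
    · right
      have : k = 2 * (k / 2) + 1 := by omega
      rw [this, zpow_add, zpow_mul, ha2, one_zpow, one_mul, zpow_one]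
  · rintro (rfl | rfl)
    · exact Subgroup.one_mem _
    · exact Subgroup.mem_zpowers _

/-- realization of transvections fixing `z` -/
theorem exists_transv_gen (h : Setup U M z) {D : Subgroup ↥U} {a : ↥U} (hy : Hyp D a)
    (hz : (⟨z, h.zU⟩ : ↥U) ∈ D) {w : ↥U} (hw : w ∈ D) :
    ∃ r ∈ M, r * z = z * r ∧ ∀ x (hx : x ∈ U), r * x * r⁻¹ = (hy.tau hw ⟨x, hx⟩ : G) := by
  obtain ⟨r, hr, hφ⟩ := h.realize (hy.tau hw)
  refine ⟨r, hr, ?_, hφ⟩
  have h1 := hφ z h.zU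
  rw [hy.tau_mem hw hz] at h1
  have : r * z = r * z * r⁻¹ * r := by group
  rw [this, h1]

variable [Finite G]

/-- a transvection in `Q0 ∩ M` moving a given `u ∉ {1, z}` -/
theorem exists_transv (h : Setup U M z) {u : G} (hu : u ∈ U) (hnz : ¬ InZ z u) :
    ∃ r ∈ M, r ∈ h.Q0 ∧ r * u * r⁻¹ = u * z := by
  have hzz' : (⟨z, h.zU⟩ : ↥U) * ⟨z, h.zU⟩ = 1 := Subtype.ext h.zz
  have hu' : (⟨u, hu⟩ : ↥U) ∉ Subgroup.zpowers (⟨z, h.zU⟩ : ↥U) := by
    rw [mem_zpowers_invol hzz']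
    rintro (h1 | h1)
    · exact hnz (Or.inl (congrArg Subtype.val h1))
    · exact hnz (Or.inr (congrArg Subtype.val h1))
  obtain ⟨D, hBD, hy⟩ := exists_hyp h.hcA h.hsA _ _ hu'
  have hz : (⟨z, h.zU⟩ : ↥U) ∈ D := hBD (Subgroup.mem_zpowers _)
  obtain ⟨r, hr, hrz, hφ⟩ := h.exists_transv_gen hy hz hz
  refine ⟨r, hr, ⟨hrz, fun x hx => ?_⟩, ?_⟩
  · rw [hφ x hx]
    have h1 := hy.tau_mul_inv hz ⟨x, hx⟩
    rcases h1 with h1 | h1
    · left; exact congrArg Subtype.val h1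
    · right; exact congrArg Subtype.val h1
  · rw [hφ u hu, hy.tau_nmem hz hy.nmem]
    rfl

/-- squares in `Q0` -/
theorem Q0_sq (h : Setup U M z) {g : G} (hg : g ∈ h.Q0) : InZ z (g * g) := by
  obtain ⟨u, hu, m, hm, hq, rfl⟩ := h.Q0_decomp hg
  obtain ⟨ζ, hζ, e1⟩ := h.act hq hu
  have e : u * m * (u * m) = u * (m * u * m⁻¹) * (m * m) := by group
  rw [e, e1, h.R_sq hm hq, mul_one, h.comm ζ (h.inZ_mem hζ) u hu, ← mul_assoc, h.sq u hu, one_mul]
  exact hζ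

/-- commutators in `Q0` -/
theorem Q0_comm (h : Setup U M z) {g k : G} (hg : g ∈ h.Q0) (hk : k ∈ h.Q0) :
    InZ z (g * k * g⁻¹ * k⁻¹) := by
  obtain ⟨u, hu, m, hm, hq, rfl⟩ := h.Q0_decomp hg
  obtain ⟨u', hu', m', hm', hq', rfl⟩ := h.Q0_decomp hk
  obtain ⟨ζ₁, hζ₁, e1⟩ := h.act hq hu'
  obtain ⟨ζ₂, hζ₂, e2⟩ := h.act hq' hu
  have a1 : u * m * (u' * m') = ζ₁ * (u * u' * (m * m')) := by
    have e : u * m * (u' * m') = u * (m * u' * m⁻¹) * (m * m') := by group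
    rw [e, e1, ← mul_assoc u, h.comm u hu ζ₁ (h.inZ_mem hζ₁)]
    group
  have a2 : u' * m' * (u * m) = ζ₂ * (u * u' * (m * m')) := by
    have e : u' * m' * (u * m) = u' * (m' * u * m'⁻¹) * (m' * m) := by group
    rw [e, e2, ← mul_assoc u', h.comm u' hu' ζ₂ (h.inZ_mem hζ₂), h.R_comm hm' hq' hm hq,
      mul_assoc ζ₂, h.comm u' hu' u hu]
    group
  have e3 : u * m * (u' * m') * (u * m)⁻¹ * (u' * m')⁻¹
      = (u * m * (u' * m')) * (u' * m' * (u * m))⁻¹ := by group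
  rw [e3, a1, a2]
  have e4 : ζ₁ * (u * u' * (m * m')) * (ζ₂ * (u * u' * (m * m')))⁻¹ = ζ₁ * ζ₂⁻¹ := by group
  rw [e4]
  exact InZ.mul h.zz hζ₁ (InZ.inv h.zz hζ₂)

/-- the centre of `Q0` -/
theorem Q0_center (h : Setup U M z) {g : G} (hg : g ∈ h.Q0)
    (hc : ∀ k ∈ h.Q0, g * k = k * g) : InZ z g := by
  obtain ⟨u, hu, m, hm, hq, rfl⟩ := h.Q0_decomp hg
  have hm1 : m = 1 := by
    apply h.faith m hm
    intro x hx
    have h1 := hc x (h.U_le_Q0 hx)
    have h2 : u * (m * x) = u * (x * m) := by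
      rw [← mul_assoc, h1, ← mul_assoc, h.comm x hx u hu, mul_assoc]
    rw [mul_left_cancel h2, mul_assoc, mul_inv_cancel, mul_one]
  subst hm1
  rw [mul_one] at hc ⊢
  by_contra hnz
  obtain ⟨r, hr, hrq, hru⟩ := h.exists_transv hu hnz
  have h1 := hc r hrq
  have h2 : r * u * r⁻¹ = u := by rw [← h1, mul_assoc, mul_inv_cancel, mul_one]
  rw [hru] at h2
  have : z = 1 := by
    have := mul_left_cancel (a := u) (b := z) (c := 1) (by rw [mul_one]; exact h2)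
    exact this
  exact h.z1 this

/-- `Q0` is not abelian -/
theorem Q0_nonabelian (h : Setup U M z) : ∃ g ∈ h.Q0, ∃ k ∈ h.Q0, g * k ≠ k * g := by
  obtain ⟨u, hu, hu1, huz⟩ := h.big
  have hnz : ¬ InZ z u := by
    rintro (h1 | h1)
    · exact hu1 h1
    · exact huz h1
  obtain ⟨r, hr, hrq, hru⟩ := h.exists_transv hu hnz
  refine ⟨r, hrq, u, h.U_le_Q0 hu, fun hcomm => ?_⟩
  have h2 : r * u * r⁻¹ = u := by rw [hcomm, mul_assoc, mul_inv_cancel, mul_one]
  rw [hru] at h2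
  have := mul_left_cancel (a := u) (b := z) (c := 1) (by rw [mul_one]; exact h2)
  exact h.z1 this

open Cfsg.Agent.Lib.Helper20.ES in
/-- the extraspecial data of `Q0` -/
theorem esData (h : Setup U M z) : ESData 2 ↥h.Q0 (⟨z, h.z_mem_Q0⟩ : ↥h.Q0) := by
  have hzz : (⟨z, h.z_mem_Q0⟩ : ↥h.Q0) * ⟨z, h.z_mem_Q0⟩ = 1 := Subtype.ext h.zz
  have hmem : ∀ x : ↥h.Q0, InZ z (x : G) → x ∈ Subgroup.zpowers (⟨z, h.z_mem_Q0⟩ : ↥h.Q0) := by
    intro x hx
    rw [mem_zpowers_invol hzz]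
    rcases hx with h1 | h1
    · left; exact Subtype.ext h1
    · right; exact Subtype.ext h1
  refine ⟨fun h1 => h.z1 (congrArg Subtype.val h1), ?_, ?_, ?_, ?_, ?_⟩
  · rw [pow_two]; exact hzz
  · rw [Subgroup.mem_center_iff]
    intro g
    apply Subtype.ext
    exact g.2.1
  · intro w hw
    apply hmem
    apply h.Q0_center w.2
    intro k hk
    have := Subgroup.mem_center_iff.mp hw ⟨k, hk⟩
    exact (congrArg Subtype.val this).symm
  · intro x y
    apply hmem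
    rw [commutatorElement_def]
    exact h.Q0_comm x.2 y.2
  · intro x
    apply hmem
    rw [pow_two]
    exact h.Q0_sq x.2

theorem isExtraspecial (h : Setup U M z) : Cfsg.IsExtraspecial 2 ↥h.Q0 := by
  haveI : Fact (Nat.Prime 2) := ⟨Nat.prime_two⟩
  apply h.esData.isExtraspecial
  obtain ⟨g, hg, k, hk, hgk⟩ := h.Q0_nonabelian
  refine ⟨⟨g, hg⟩, ⟨k, hk⟩, fun hc => hgk ?_⟩
  have h1 := congrArg Subtype.val hc
  rw [commutatorElement_def] at h1
  have h2 : g * k * g⁻¹ * k⁻¹ = 1 := h1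
  have : g * k = (g * k * g⁻¹ * k⁻¹) * (k * g) := by group
  rw [this, h2, one_mul]

end Setup

end Cfsg.Agent.Lib.Helper16.AGL
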