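import Mathlib
import Cfsg.Prelude.Def_Solvable
import Cfsg.Agent.Lib.Helper16.AGL2
import Cfsg.Agent.Lib.Helper1.Fitting
import Cfsg.Agent.Lib.Helper1.NilpotentAction
import Cfsg.Agent.Lib.Helper11.ExtraspecialCent

/-!
# `Q0 = O₂(C_G(z))`, its order, and largeness (helper16)
-/

set_option autoImplicit false
set_option linter.unusedSectionVars false
open scoped commutatorElement

namespace Cfsg.Agent.Lib.Helper16.AGL

open Cfsg.Agent.Lib.Helper16.EA2

variable {G : Type*} [Group G]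

namespace Setup

variable {U M : Subgroup G} {z : G}

theorem mem_cent_iff (g : G) : g ∈ Subgroup.centralizer ({z} : Set G) ↔ g * z = z * g := by
  rw [Subgroup.mem_centralizer_iff]
  constructor
  · intro h1; exact (h1 z rfl).symm
  · intro h1 y hy
    rw [Set.mem_singleton_iff] at hy
    rw [hy]; exact h1.symm

theorem Q0_le_cent (h : Setup U M z) : h.Q0 ≤ Subgroup.centralizer ({z} : Set G) :=
  fun g hg => (mem_cent_iff g).mpr hg.1

theorem comm_inv {c : G} (hc : c * z = z * c) : c⁻¹ * z = z * c⁻¹ := by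
  have : c⁻¹ * (c * z) * c⁻¹ = c⁻¹ * (z * c) * c⁻¹ := by rw [hc]
  have e1 : c⁻¹ * (c * z) * c⁻¹ = z * c⁻¹ := by group
  have e2 : c⁻¹ * (z * c) * c⁻¹ = c⁻¹ * z := by group
  rw [e1, e2] at this
  exact this.symm

/-- `Q0` is normalized by `C_G(z)` -/
theorem conj_mem_Q0 (h : Setup U M z) {c g : G} (hc : c * z = z * c) (hg : g ∈ h.Q0) :
    c * g * c⁻¹ ∈ h.Q0 := by
  have hc' := comm_inv hc
  have hcz : ∀ x, InZ z x → c * x * c⁻¹ = x := by
    intro x hx
    rcases hx with rfl | rfl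
    · group
    · rw [hc, mul_assoc, mul_inv_cancel, mul_one]
  refine ⟨?_, fun u hu => ?_⟩
  · have e : c * g * c⁻¹ * z = c * g * (c⁻¹ * z) := by group
    rw [e, hc', ← mul_assoc, mul_assoc c, hg.1, ← mul_assoc, hc]
    group
  · have e : c * g * c⁻¹ * u * (c * g * c⁻¹)⁻¹ * u⁻¹
        = c * (g * (c⁻¹ * u * c) * g⁻¹ * (c⁻¹ * u * c)⁻¹) * c⁻¹ := by group
    rw [e, hcz _ (hg.2 _ (h.conj_mem' c hu))]
    exact hg.2 _ (h.conj_mem' c hu)

variable [Finite G]

theorem Q0_isPGroup (h : Setup U M z) : IsPGroup 2 ↥h.Q0 := h.esData.isPGroup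

/-- `Q0 ≤ O₂(C_G(z))` -/
theorem Q0_le_core (h : Setup U M z) :
    h.Q0 ≤ (Cfsg.pCore 2 ↥(Subgroup.centralizer ({z} : Set G))).map
      (Subgroup.centralizer ({z} : Set G)).subtype := by
  set C := Subgroup.centralizer ({z} : Set G) with hC
  have hn : (h.Q0.subgroupOf C).Normal := by
    constructor
    intro n hn g
    rw [Subgroup.mem_subgroupOf] at hn ⊢
    exact h.conj_mem_Q0 ((mem_cent_iff _).mp g.2) hn
  have hp : IsPGroup 2 ↥(h.Q0.subgroupOf C) :=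
    h.Q0_isPGroup.of_equiv (Subgroup.subgroupOfEquivOfLe h.Q0_le_cent).symm
  have hle := Cfsg.Agent.Lib.Helper1.le_pCore hn hp
  intro x hx
  refine ⟨⟨x, h.Q0_le_cent hx⟩, hle ?_, rfl⟩
  rw [Subgroup.mem_subgroupOf]
  exact hx

/-- invariant subgroups of `U` not inside `{1, z}` are everything -/
theorem invariant_eq (h : Setup U M z) (D : Subgroup G)
    (hinv : ∀ c, c * z = z * c → ∀ d ∈ D, c * d * c⁻¹ ∈ D) {d : G} (hdU : d ∈ U) (hd : d ∈ D)
    (hdz : ¬ InZ z d) : U ≤ D := by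
  have hzz' : (⟨z, h.zU⟩ : ↥U) * ⟨z, h.zU⟩ = 1 := Subtype.ext h.zz
  have hd' : (⟨d, hdU⟩ : ↥U) ∉ Subgroup.zpowers (⟨z, h.zU⟩ : ↥U) := by
    rw [mem_zpowers_invol hzz']
    rintro (h1 | h1)
    · exact hdz (Or.inl (congrArg Subtype.val h1))
    · exact hdz (Or.inr (congrArg Subtype.val h1))
  obtain ⟨H, hBH, hy⟩ := exists_hyp h.hcA h.hsA _ _ hd'
  have hz : (⟨z, h.zU⟩ : ↥U) ∈ H := hBH (Subgroup.mem_zpowers _)
  have key : ∀ u (hu : u ∈ U), (⟨u, hu⟩ : ↥U) ∉ H → u ∈ D := by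
    intro u hu huH
    have hw : (⟨u, hu⟩ : ↥U) * ⟨d, hdU⟩ ∈ H := hy.mul_a_mem huH
    obtain ⟨r, hr, hrz, hφ⟩ := h.exists_transv_gen hy hz hw
    have h1 := hφ d hdU
    rw [hy.tau_nmem hw hy.nmem] at h1
    have h2 : ((⟨d, hdU⟩ * (⟨u, hu⟩ * ⟨d, hdU⟩) : ↥U) : G) = u := by
      change d * (u * d) = u
      rw [h.comm u hu d hdU, ← mul_assoc, h.sq d hdU, one_mul]
    rw [h2] at h1
    rw [← h1]
    exact hinv r hrz d hd
  intro u hu
  by_cases huH : (⟨u, hu⟩ : ↥U) ∈ H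
  · have h1 : (⟨u * d, U.mul_mem hu hdU⟩ : ↥U) ∉ H := hy.mul_a_nmem huH
    have h2 := key (u * d) (U.mul_mem hu hdU) h1
    have : u = u * d * d⁻¹ := by group
    rw [this]
    exact D.mul_mem h2 (D.inv_mem hd)
  · exact key u hu huH

/-- `O₂(C_G(z)) ≤ Q0` -/
theorem core_le_Q0 (h : Setup U M z) :
    (Cfsg.pCore 2 ↥(Subgroup.centralizer ({z} : Set G))).map
      (Subgroup.centralizer ({z} : Set G)).subtype ≤ h.Q0 := by
  haveI : Fact (Nat.Prime 2) := ⟨Nat.prime_two⟩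
  set C := Subgroup.centralizer ({z} : Set G) with hC
  set N := (Cfsg.pCore 2 ↥C).map C.subtype with hN
  have hNC : N ≤ C := by
    rintro _ ⟨x, _, rfl⟩
    exact x.2
  have hNp : IsPGroup 2 ↥N := (Cfsg.Agent.Lib.Helper1.pCore_isPGroup 2 ↥C).map C.subtype
  have hUN : U ≤ N := h.U_le_Q0.trans h.Q0_le_core
  have hCN : ∀ c, c * z = z * c → ∀ x ∈ N, c * x * c⁻¹ ∈ N := by
    rintro c hc _ ⟨x, hx, rfl⟩
    have hcC : c ∈ C := (mem_cent_iff c).mpr hc
    haveI := Cfsg.Agent.Lib.Helper1.pCore_normal 2 ↥C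
    have := (Cfsg.Agent.Lib.Helper1.pCore_normal 2 ↥C).conj_mem x hx ⟨c, hcC⟩
    exact ⟨_, this, rfl⟩
  have hUp : IsPGroup 2 ↥U := by
    intro x
    refine ⟨1, ?_⟩
    rw [pow_one, pow_two]
    exact h.hsA x
  have hUne : U ≠ ⊥ := by
    intro hbot
    have := h.zU
    rw [hbot, Subgroup.mem_bot] at this
    exact h.z1 this
  haveI := h.normal
  have hNU : N ≤ Subgroup.normalizer (U : Set G) := by
    rw [Subgroup.normalizer_eq_top]; exact le_top
  have hlt : ⁅U, N⁆ < U := Cfsg.Agent.Lib.Helper1.IsPGroup.commutator_lt hUp hNp hNU hUne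
  have hDinv : ∀ c, c * z = z * c → ∀ d ∈ ⁅U, N⁆, c * d * c⁻¹ ∈ ⁅U, N⁆ := by
    intro c hc d hd
    have hcn : c ∈ Subgroup.normalizer (U : Set G) ⊓ Subgroup.normalizer (N : Set G) := by
      refine ⟨by rw [Subgroup.normalizer_eq_top]; trivial, ?_⟩
      change c ∈ Subgroup.normalizer (N : Set G)
      rw [Subgroup.mem_normalizer_iff]
      intro x
      constructor
      · exact hCN c hc x
      · intro hx
        have := hCN c⁻¹ (comm_inv hc) _ hx
        have e : c⁻¹ * (c * x * c⁻¹) * c⁻¹⁻¹ = x := by group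
        rwa [e] at this
    have := Cfsg.Agent.Lib.Helper1.inf_normalizer_le_normalizer_commutator U N hcn
    exact (Subgroup.mem_normalizer_iff.mp this d).mp hd
  have hDZ : ∀ d ∈ ⁅U, N⁆, InZ z d := by
    intro d hd
    by_contra hdz
    have := h.invariant_eq ⁅U, N⁆ hDinv (hlt.le hd) hd hdz
    exact absurd hlt (not_lt_of_ge this)
  intro g hg
  refine ⟨(mem_cent_iff g).mp (hNC hg), fun u hu => ?_⟩
  apply hDZ
  have : g * u * g⁻¹ * u⁻¹ = ⁅g, u⁆ := (commutatorElement_def g u).symm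
  rw [this, Subgroup.commutator_comm]
  exact Subgroup.commutator_mem_commutator hg hu

theorem core_eq_Q0 (h : Setup U M z) :
    (Cfsg.pCore 2 ↥(Subgroup.centralizer ({z} : Set G))).map
      (Subgroup.centralizer ({z} : Set G)).subtype = h.Q0 :=
  le_antisymm h.core_le_Q0 h.Q0_le_core

end Setup

end Cfsg.Agent.Lib.Helper16.AGL
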