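import Mathlib
import Cfsg.Prelude.Def_MonsterType
import Cfsg.Agent.Lib.Helper16.AGL3

/-!
# Order and largeness of `Q0` (helper16)
-/

set_option autoImplicit false
set_option linter.unusedSectionVars false
open scoped commutatorElement

namespace Cfsg.Agent.Lib.Helper16.AGL

open Cfsg.Agent.Lib.Helper16.EA2

variable {G : Type*} [Group G]

/-- an element of square one in a subgroup of odd order is trivial -/
theorem eq_one_of_sq_of_odd [Finite G] (K : Subgroup G) (hK : Odd (Nat.card K)) {x : G}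
    (hx : x ∈ K) (h2 : x * x = 1) : x = 1 := by
  have h1 : orderOf (⟨x, hx⟩ : K) ∣ Nat.card K := orderOf_dvd_natCard _
  have h3 : orderOf (⟨x, hx⟩ : K) ∣ 2 := by
    apply orderOf_dvd_of_pow_eq_one
    rw [pow_two]
    exact Subtype.ext h2
  have h4 : orderOf (⟨x, hx⟩ : K) ∣ Nat.gcd (Nat.card K) 2 := Nat.dvd_gcd h1 h3
  have h5 : Nat.gcd (Nat.card K) 2 = 1 := hK.coprime_two_right
  rw [h5, Nat.dvd_one, orderOf_eq_one_iff] at h4
  exact congrArg Subtype.val h4

namespace Setup

variable {U M : Subgroup G} {z : G} [Finite G]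

/-- the centre of `Q0` consists of `1` and `z` -/
theorem center_inZ (h : Setup U M z) {w : ↥h.Q0} (hw : w ∈ Subgroup.center ↥h.Q0) :
    InZ z (w : G) := by
  apply h.Q0_center w.2
  intro k hk
  have := Subgroup.mem_center_iff.mp hw ⟨k, hk⟩
  exact (congrArg Subtype.val this).symm

theorem z_mem_center (h : Setup U M z) :
    (⟨z, h.z_mem_Q0⟩ : ↥h.Q0) ∈ Subgroup.center ↥h.Q0 := h.esData.z_central

/-- the order of `Q0` -/
theorem card_Q0 (h : Setup U M z) (n : ℕ) (hcard : Nat.card ↥U = 2 ^ (n + 1)) :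
    Nat.card ↥h.Q0 = 2 ^ (2 * n + 1) := by
  have hES := h.isExtraspecial
  have hZ : Nat.card (Subgroup.center ↥h.Q0) = 2 := hES.2
  have hcomm : ∀ a b : ↥h.Q0, a * b * a⁻¹ * b⁻¹ ∈ Subgroup.center ↥h.Q0 := by
    intro a b
    have h1 := h.esData.comm_mem a b
    rw [← h.esData.center_eq, commutatorElement_def] at h1
    exact h1
  have key := Cfsg.Agent.Lib.Helper11.card_mul_card_centralizer hZ hcomm (U.subgroupOf h.Q0)
  have c1 : Nat.card ↥(U.subgroupOf h.Q0) = 2 ^ (n + 1) := by
    rw [← hcard]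
    exact Nat.card_congr (Subgroup.subgroupOfEquivOfLe h.U_le_Q0).toEquiv
  have c2 : Subgroup.centralizer ((U.subgroupOf h.Q0 : Subgroup ↥h.Q0) : Set ↥h.Q0)
      = U.subgroupOf h.Q0 := by
    ext x
    rw [Subgroup.mem_centralizer_iff, Subgroup.mem_subgroupOf]
    constructor
    · intro hx
      apply h.cent_U
      intro u hu
      have := hx ⟨u, h.U_le_Q0 hu⟩ (by rw [SetLike.mem_coe, Subgroup.mem_subgroupOf]; exact hu)
      exact (congrArg Subtype.val this).symm
    · intro hx y hy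
      rw [SetLike.mem_coe, Subgroup.mem_subgroupOf] at hy
      apply Subtype.ext
      exact h.comm _ hy _ hx
  have hle : Subgroup.center ↥h.Q0 ≤ U.subgroupOf h.Q0 := by
    intro w hw
    rw [Subgroup.mem_subgroupOf]
    exact h.inZ_mem (h.center_inZ hw)
  have c3 : Nat.card ↥((Subgroup.center ↥h.Q0).subgroupOf (U.subgroupOf h.Q0)) = 2 := by
    rw [← hZ]
    exact Nat.card_congr (Subgroup.subgroupOfEquivOfLe hle).toEquiv
  rw [c2, c1, c3] at key
  have e : 2 ^ (n + 1) * 2 ^ (n + 1) = 2 ^ (2 * n + 1) * 2 := by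
    rw [← pow_add, ← pow_succ]
    congr 1
    omega
  rw [e] at key
  exact (Nat.eq_of_mul_eq_mul_right (by norm_num) key).symm

/-- `Q0` is a large extraspecial subgroup -/
theorem isLarge (h : Setup U M z) : Cfsg.IsLargeExtraspecial h.Q0 := by
  refine ⟨h.isExtraspecial, ?_, ?_, ?_⟩
  · ext x
    rw [Subgroup.mem_centralizer_iff, Subgroup.mem_map]
    constructor
    · intro hx
      have hxU : x ∈ U := by
        apply h.cent_U
        intro u hu
        exact (hx u (h.U_le_Q0 hu)).symm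
      refine ⟨⟨x, h.U_le_Q0 hxU⟩, ?_, rfl⟩
      rw [Subgroup.mem_center_iff]
      intro g
      apply Subtype.ext
      exact hx g g.2
    · rintro ⟨y, hy, rfl⟩ g hg
      have := Subgroup.mem_center_iff.mp hy ⟨g, hg⟩
      exact congrArg Subtype.val this
  · intro g hg
    have hgz : g * z = z * g := by
      have := Subgroup.mem_centralizer_iff.mp hg z ⟨⟨z, h.z_mem_Q0⟩, h.z_mem_center, rfl⟩
      exact this.symm
    rw [Subgroup.mem_normalizer_iff]
    intro x
    constructor
    · exact fun hx => h.conj_mem_Q0 hgz hx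
    · intro hx
      have := h.conj_mem_Q0 (comm_inv hgz) hx
      have e : g⁻¹ * (g * x * g⁻¹) * g⁻¹⁻¹ = x := by group
      rwa [e] at this
  · intro K hK hQK
    rw [Subgroup.eq_bot_iff_forall]
    intro k hk
    have hkU : k ∈ U := by
      apply h.cent_U
      intro u hu
      have hun := hQK (h.U_le_Q0 hu)
      have h1 : u * k * u⁻¹ ∈ K := (Subgroup.mem_normalizer_iff.mp hun k).mp hk
      have hcK : u * k * u⁻¹ * k⁻¹ ∈ K := K.mul_mem h1 (K.inv_mem hk)
      have hcU : u * k * u⁻¹ * k⁻¹ ∈ U := by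
        have e : u * k * u⁻¹ * k⁻¹ = u * (k * u⁻¹ * k⁻¹) := by group
        rw [e]
        exact U.mul_mem hu (h.conj_mem k (U.inv_mem hu))
      have h2 := eq_one_of_sq_of_odd K hK hcK (h.sq _ hcU)
      have e : k * u = (u * k * u⁻¹ * k⁻¹)⁻¹ * (u * k) := by group
      rw [e, h2, inv_one, one_mul]
    exact eq_one_of_sq_of_odd K hK hk (h.sq k hkU)

end Setup

end Cfsg.Agent.Lib.Helper16.AGL
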