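import Mathlib
import Cfsg.Agent.Lib.Helper16.AGL4
import Cfsg.Agent.Lib.Helper17.Basic

/-!
# The complement `K ≅ Aut(W)` of `Q0` in `C_G(z)` (helper16)
-/

set_option autoImplicit false
set_option linter.unusedSectionVars false
open scoped commutatorElement

namespace Cfsg.Agent.Lib.Helper16.AGL

open Cfsg.Agent.Lib.Helper16.EA2

variable {G : Type*} [Group G]

namespace Setup

variable {U M : Subgroup G} {z : G}

/-- conjugation by `g` on the normal subgroup `U` -/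
def cj (h : Setup U M z) (g : G) : ↥U ≃* ↥U := @MulAut.conjNormal _ _ U h.normal g

theorem cj_apply (h : Setup U M z) (g : G) (x : ↥U) : ((h.cj g x : ↥U) : G) = g * x * g⁻¹ :=
  @MulAut.conjNormal_apply _ _ U h.normal g x

theorem cj_z (h : Setup U M z) {g : G} (hg : g * z = z * g) :
    h.cj g ⟨z, h.zU⟩ = ⟨z, h.zU⟩ := by
  apply Subtype.ext
  rw [cj_apply]
  change g * z * g⁻¹ = z
  rw [hg, mul_assoc, mul_inv_cancel, mul_one]

/-- the complement -/
def Kc (_h : Setup U M z) (W : Subgroup ↥U) : Subgroup G :=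
  M ⊓ Subgroup.centralizer ({z} : Set G) ⊓
    Subgroup.normalizer ((W.map U.subtype : Subgroup G) : Set G)

theorem mem_WG (W : Subgroup ↥U) {x : G} (hx : x ∈ U) :
    x ∈ W.map U.subtype ↔ (⟨x, hx⟩ : ↥U) ∈ W := by
  constructor
  · rintro ⟨y, hy, hyx⟩
    have : y = ⟨x, hx⟩ := Subtype.ext hyx
    rwa [← this]
  · intro h1
    exact ⟨⟨x, hx⟩, h1, rfl⟩

theorem Kc_mem_M (h : Setup U M z) {W : Subgroup ↥U} {k : G} (hk : k ∈ h.Kc W) : k ∈ M := hk.1.1

theorem Kc_comm (h : Setup U M z) {W : Subgroup ↥U} {k : G} (hk : k ∈ h.Kc W) : k * z = z * k :=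
  (mem_cent_iff k).mp hk.1.2

theorem Kc_conj (h : Setup U M z) {W : Subgroup ↥U} {k : G} (hk : k ∈ h.Kc W) (w : ↥U)
    (hw : w ∈ W) : h.cj k w ∈ W := by
  have h1 : (w : G) ∈ W.map U.subtype := (mem_WG W w.2).mpr hw
  have h2 := (Subgroup.mem_normalizer_iff.mp hk.2 _).mp h1
  have h3 := (mem_WG W (h.conj_mem k w.2)).mp h2
  have : h.cj k w = ⟨k * w * k⁻¹, h.conj_mem k w.2⟩ := Subtype.ext (h.cj_apply k w)
  rw [this]; exact h3

theorem cj_mul (h : Setup U M z) (g k : G) (x : ↥U) : h.cj (g * k) x = h.cj g (h.cj k x) := by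
  apply Subtype.ext
  rw [cj_apply, cj_apply, cj_apply]
  group

theorem cj_one (h : Setup U M z) (x : ↥U) : h.cj 1 x = x := by
  apply Subtype.ext
  rw [cj_apply]
  group

/-- the action of `K` on `W` -/
def kappaFun (h : Setup U M z) (W : Subgroup ↥U) (k : ↥(h.Kc W)) : ↥W → ↥W :=
  fun w => ⟨h.cj k w, h.Kc_conj k.2 w w.2⟩

theorem kappaFun_mul (h : Setup U M z) (W : Subgroup ↥U) (k k' : ↥(h.Kc W)) (w : ↥W) :
    h.kappaFun W (k * k') w = h.kappaFun W k (h.kappaFun W k' w) := by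
  apply Subtype.ext
  exact h.cj_mul k k' w

theorem kappaFun_one (h : Setup U M z) (W : Subgroup ↥U) (w : ↥W) :
    h.kappaFun W 1 w = w := by
  apply Subtype.ext
  exact h.cj_one w

/-- the action of `K` on `W` as a homomorphism into `MulAut W` -/
def kappa (h : Setup U M z) (W : Subgroup ↥U) : ↥(h.Kc W) →* MulAut ↥W where
  toFun k :=
    { toFun := h.kappaFun W k
      invFun := h.kappaFun W k⁻¹
      left_inv := fun w => by rw [← kappaFun_mul, inv_mul_cancel, kappaFun_one]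
      right_inv := fun w => by rw [← kappaFun_mul, mul_inv_cancel, kappaFun_one]
      map_mul' := fun w w' => by
        apply Subtype.ext
        exact map_mul (h.cj k) (w : ↥U) (w' : ↥U) }
  map_one' := by
    ext w
    exact congrArg (fun t : ↥W => ((t : ↥U) : G)) (h.kappaFun_one W w)
  map_mul' k k' := by
    ext w
    exact congrArg (fun t : ↥W => ((t : ↥U) : G)) (h.kappaFun_mul W k k' w)

theorem kappa_apply (h : Setup U M z) (W : Subgroup ↥U) (k : ↥(h.Kc W)) (w : ↥W) :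
    ((h.kappa W k w : ↥W) : ↥U) = h.cj k w := rfl

/-- an element centralizing `z` and `W` centralizes `U` -/
theorem cent_of_W (h : Setup U M z) {W : Subgroup ↥U} (hy : Hyp W (⟨z, h.zU⟩ : ↥U)) {k : G}
    (hkz : k * z = z * k) (hkW : ∀ w ∈ W, h.cj k w = w) : ∀ u ∈ U, k * u * k⁻¹ = u := by
  intro u hu
  have key : h.cj k ⟨u, hu⟩ = ⟨u, hu⟩ := by
    by_cases huW : (⟨u, hu⟩ : ↥U) ∈ W
    · exact hkW _ huW
    · have h1 := hkW _ (hy.mul_a_mem huW)
      rw [map_mul, h.cj_z hkz] at h1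
      exact mul_right_cancel h1
  have := congrArg Subtype.val key
  rwa [cj_apply] at this

theorem kappa_injective (h : Setup U M z) {W : Subgroup ↥U} (hy : Hyp W (⟨z, h.zU⟩ : ↥U)) :
    Function.Injective (h.kappa W) := by
  rw [injective_iff_map_eq_one]
  intro k hk
  apply Subtype.ext
  apply h.faith _ (h.Kc_mem_M k.2)
  apply h.cent_of_W hy (h.Kc_comm k.2)
  intro w hw
  have := DFunLike.congr_fun hk ⟨w, hw⟩
  exact congrArg Subtype.val this

variable [Finite G]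

/-- every automorphism of `W` is induced by an element of `K` -/
theorem exists_Kc (h : Setup U M z) {W : Subgroup ↥U} (hy : Hyp W (⟨z, h.zU⟩ : ↥U))
    (α : ↥W ≃* ↥W) :
    ∃ k, k ∈ h.Kc W ∧ (∀ x : ↥U, h.cj k x = hy.extAut α x) := by
  obtain ⟨k, hkM, hφ⟩ := h.realize (hy.extAut α)
  have hcj : ∀ x : ↥U, h.cj k x = hy.extAut α x := by
    intro x
    apply Subtype.ext
    rw [cj_apply]
    exact hφ x x.2
  have hkz : k * z = z * k := by
    have h1 := hφ z h.zU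
    rw [hy.extAut_a] at h1
    have : k * z = k * z * k⁻¹ * k := by group
    rw [this, h1]
  refine ⟨k, ⟨⟨hkM, (mem_cent_iff k).mpr hkz⟩, ?_⟩, hcj⟩
  apply Cfsg.Agent.Lib.Helper17.mem_normalizer_of_forall_conj_mem
  rintro _ ⟨w, hw, rfl⟩
  have h1 := hφ w w.2
  rw [hy.extAut_mem α hw] at h1
  change k * (w : G) * k⁻¹ ∈ _
  rw [h1]
  exact ⟨(α ⟨w, hw⟩ : ↥U), (α ⟨w, hw⟩).2, rfl⟩

theorem kappa_surjective (h : Setup U M z) {W : Subgroup ↥U} (hy : Hyp W (⟨z, h.zU⟩ : ↥U)) :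
    Function.Surjective (h.kappa W) := by
  intro α
  obtain ⟨k, hk, hcj⟩ := h.exists_Kc hy α
  refine ⟨⟨k, hk⟩, ?_⟩
  ext w
  have h1 : ((h.kappa W ⟨k, hk⟩ w : ↥W) : ↥U) = h.cj k w := rfl
  have h2 := hcj w
  rw [hy.extAut_mem α w.2] at h2
  rw [h1, h2]

/-- `K ≃* Aut(W)` -/
noncomputable def kappaEquiv (h : Setup U M z) {W : Subgroup ↥U}
    (hy : Hyp W (⟨z, h.zU⟩ : ↥U)) : ↥(h.Kc W) ≃* MulAut ↥W :=
  MulEquiv.ofBijective (h.kappa W) ⟨h.kappa_injective hy, h.kappa_surjective hy⟩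

theorem Kc_le_cent (h : Setup U M z) (W : Subgroup ↥U) :
    h.Kc W ≤ Subgroup.centralizer ({z} : Set G) := fun _ hk => hk.1.2

/-- `Q0 ∩ K = 1` -/
theorem Q0_inf_Kc (h : Setup U M z) {W : Subgroup ↥U} (hy : Hyp W (⟨z, h.zU⟩ : ↥U)) :
    h.Q0 ⊓ h.Kc W = ⊥ := by
  rw [Subgroup.eq_bot_iff_forall]
  rintro x ⟨hxQ, hxK⟩
  apply h.faith _ (h.Kc_mem_M hxK)
  apply h.cent_of_W hy (h.Kc_comm hxK)
  intro w hw
  have h1 := h.Kc_conj hxK w hw
  have h2 := hxQ.2 w w.2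
  have h3 : h.cj x w * w⁻¹ ∈ W := W.mul_mem h1 (W.inv_mem hw)
  have h4 : ((h.cj x w * w⁻¹ : ↥U) : G) = x * w * x⁻¹ * (w : G)⁻¹ := by
    change ((h.cj x w : ↥U) : G) * ((w : G))⁻¹ = _
    rw [cj_apply]
  rcases h2 with h2 | h2
  · have : h.cj x w * w⁻¹ = 1 := Subtype.ext (by rw [h4, h2]; rfl)
    exact mul_inv_eq_one.mp this
  · exfalso
    apply hy.nmem
    have : h.cj x w * w⁻¹ = ⟨z, h.zU⟩ := Subtype.ext (by rw [h4, h2])
    rwa [this] at h3

/-- the automorphism of `W` induced by `m ∈ C(z)` via the projection -/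
noncomputable def aHom (h : Setup U M z) {W : Subgroup ↥U} (hy : Hyp W (⟨z, h.zU⟩ : ↥U)) (m : G) :
    ↥W →* ↥W :=
  ((hy.proj.comp (h.cj m).toMonoidHom).comp W.subtype).codRestrict W (fun _ => hy.proj_mem' _)

theorem aHom_apply (h : Setup U M z) {W : Subgroup ↥U} (hy : Hyp W (⟨z, h.zU⟩ : ↥U)) (m : G)
    (w : ↥W) : ((h.aHom hy m w : ↥W) : ↥U) = hy.proj (h.cj m w) := rfl

theorem proj_cj (h : Setup U M z) {W : Subgroup ↥U} (hy : Hyp W (⟨z, h.zU⟩ : ↥U)) {m : G}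
    (hm : m * z = z * m) (x : ↥U) : hy.proj (h.cj m (hy.proj x)) = hy.proj (h.cj m x) := by
  rcases hy.proj_eq_or x with h1 | h1
  · rw [h1]
  · rw [h1, map_mul, map_mul, h.cj_z hm, hy.proj_a, mul_one]

theorem aHom_inv (h : Setup U M z) {W : Subgroup ↥U} (hy : Hyp W (⟨z, h.zU⟩ : ↥U)) {m m' : G}
    (hm : m * z = z * m) (hm' : m' * z = z * m') (hmm : m' * m = 1) (w : ↥W) :
    h.aHom hy m' (h.aHom hy m w) = w := by
  apply Subtype.ext
  rw [aHom_apply, aHom_apply, h.proj_cj hy hm', ← cj_mul, hmm, cj_one, hy.proj_mem w.2]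

/-- the automorphism of `W` induced by `m ∈ C(z)` -/
noncomputable def aAut (h : Setup U M z) {W : Subgroup ↥U} (hy : Hyp W (⟨z, h.zU⟩ : ↥U)) {m : G}
    (hm : m * z = z * m) : ↥W ≃* ↥W where
  toFun := h.aHom hy m
  invFun := h.aHom hy m⁻¹
  left_inv := h.aHom_inv hy hm (comm_inv hm) (inv_mul_cancel m)
  right_inv := h.aHom_inv hy (comm_inv hm) hm (mul_inv_cancel m)
  map_mul' := map_mul _

theorem proj_eq_imp (h : Setup U M z) {W : Subgroup ↥U} (hy : Hyp W (⟨z, h.zU⟩ : ↥U))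
    {y y' : ↥U} (hyy : hy.proj y = hy.proj y') : y = y' ∨ y = y' * ⟨z, h.zU⟩ := by
  have hzz : (⟨z, h.zU⟩ : ↥U) * ⟨z, h.zU⟩ = 1 := Subtype.ext h.zz
  rcases hy.proj_eq_or y with h1 | h1 <;> rcases hy.proj_eq_or y' with h2 | h2
  · left; rw [← h1, ← h2, hyy]
  · right; rw [← h1, ← h2, hyy]
  · right
    rw [h1, h2] at hyy
    rw [← hyy, mul_assoc, hzz, mul_one]
  · left
    rw [h1, h2] at hyy
    exact mul_right_cancel hyy

/-- `C_G(z) ≤ Q0 K` -/
theorem cent_le_sup (h : Setup U M z) {W : Subgroup ↥U} (hy : Hyp W (⟨z, h.zU⟩ : ↥U)) :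
    Subgroup.centralizer ({z} : Set G) ≤ h.Q0 ⊔ h.Kc W := by
  intro c hc
  rw [mem_cent_iff] at hc
  obtain ⟨u, hu, m, hm, rfl⟩ := h.sup c
  have hmz : m * z = z * m := by
    have huz : u⁻¹ * z = z * u⁻¹ := comm_inv (h.comm u hu z h.zU)
    have e : m = u⁻¹ * (u * m) := by group
    rw [e, mul_assoc, hc, ← mul_assoc, huz, mul_assoc]
  obtain ⟨k, hk, hcj⟩ := h.exists_Kc hy (h.aAut hy hmz)
  have hkz := h.Kc_comm hk
  have hkM := h.Kc_mem_M hk
  -- the two automorphisms agree after projection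
  have hproj : hy.proj.comp (h.cj m).toMonoidHom
      = hy.proj.comp (hy.extAut (h.aAut hy hmz)).toMonoidHom := by
    apply hy.hom_ext
    · intro x hx
      change hy.proj (h.cj m x) = hy.proj (hy.extAut (h.aAut hy hmz) x)
      rw [hy.extAut_mem _ hx, hy.proj_mem (Subtype.mem _)]
      rfl
    · change hy.proj (h.cj m _) = hy.proj (hy.extAut (h.aAut hy hmz) _)
      rw [h.cj_z hmz, hy.extAut_a]
  have hr : k⁻¹ * m ∈ h.Q0 := by
    refine ⟨?_, fun x hx => ?_⟩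
    · rw [mul_assoc, hmz, ← mul_assoc, comm_inv hkz, mul_assoc]
    · have h1 : hy.proj (h.cj m ⟨x, hx⟩) = hy.proj (h.cj k ⟨x, hx⟩) := by
        rw [hcj]
        exact DFunLike.congr_fun hproj ⟨x, hx⟩
      have e : k⁻¹ * m * x * (k⁻¹ * m)⁻¹ * x⁻¹
          = k⁻¹ * ((m * x * m⁻¹) * (k * x * k⁻¹)⁻¹) * k := by group
      rcases h.proj_eq_imp hy h1 with h2 | h2
      · left
        have h3 := congrArg Subtype.val h2
        rw [cj_apply, cj_apply] at h3
        change m * x * m⁻¹ = k * x * k⁻¹ at h3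
        rw [e, h3, mul_inv_cancel, mul_one, inv_mul_cancel]
      · right
        have h3 := congrArg Subtype.val h2
        rw [cj_apply] at h3
        change m * x * m⁻¹ = ((h.cj k ⟨x, hx⟩ : ↥U) : G) * z at h3
        rw [cj_apply] at h3
        change m * x * m⁻¹ = k * x * k⁻¹ * z at h3
        rw [e, h3, h.comm _ (h.conj_mem k hx) z h.zU, mul_assoc z, mul_inv_cancel, mul_one,
          comm_inv hkz, mul_assoc, inv_mul_cancel, mul_one]
  have e : u * m = u * k * (k⁻¹ * m) := by group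
  rw [e]
  exact Subgroup.mul_mem _ (Subgroup.mul_mem _ (Subgroup.mem_sup_left (h.U_le_Q0 hu))
    (Subgroup.mem_sup_right hk)) (Subgroup.mem_sup_left hr)

theorem sup_eq_cent (h : Setup U M z) {W : Subgroup ↥U} (hy : Hyp W (⟨z, h.zU⟩ : ↥U)) :
    h.Q0 ⊔ h.Kc W = Subgroup.centralizer ({z} : Set G) :=
  le_antisymm (sup_le h.Q0_le_cent (h.Kc_le_cent W)) (h.cent_le_sup hy)

/-- existence of a complement to `⟨z⟩` in `U` -/
theorem exists_compl (h : Setup U M z) : ∃ W : Subgroup ↥U, Hyp W (⟨z, h.zU⟩ : ↥U) := by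
  have hz : (⟨z, h.zU⟩ : ↥U) ∉ (⊥ : Subgroup ↥U) := by
    rw [Subgroup.mem_bot]
    intro h1
    exact h.z1 (congrArg Subtype.val h1)
  obtain ⟨W, _, hy⟩ := exists_hyp h.hcA h.hsA _ _ hz
  exact ⟨W, hy⟩

end Setup

end Cfsg.Agent.Lib.Helper16.AGL
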