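import Mathlib

/-!
# Automorphisms of an elementary abelian `2`-group of order `2^n` form `GL_n(2)` (helper16)
-/

set_option autoImplicit false
set_option linter.style.haveILetI false

namespace Cfsg.Agent.Lib.Helper16.AGL

/-- automorphisms of a commutative group of exponent two are the linear automorphisms of its
additive version -/
def mulAutLinear (A : Type*) [CommGroup A] [Module (ZMod 2) (Additive A)] :
    MulAut A ≃* (Additive A ≃ₗ[ZMod 2] Additive A) where
  toFun f :=
    { toLinearMap := (MonoidHom.toAdditive f.toMonoidHom).toZModLinearMap 2
      invFun := fun v => Additive.ofMul (f.symm (Additive.toMul v))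
      left_inv := fun v => by
        change Additive.ofMul (f.symm (f (Additive.toMul v))) = v
        rw [MulEquiv.symm_apply_apply]; rfl
      right_inv := fun v => by
        change Additive.ofMul (f (f.symm (Additive.toMul v))) = v
        rw [MulEquiv.apply_symm_apply]; rfl }
  invFun g :=
    { toFun := fun a => Additive.toMul (g (Additive.ofMul a))
      invFun := fun a => Additive.toMul (g.symm (Additive.ofMul a))
      left_inv := fun a => by
        change Additive.toMul (g.symm (g (Additive.ofMul a))) = a
        rw [LinearEquiv.symm_apply_apply]; rfl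
      right_inv := fun a => by
        change Additive.toMul (g (g.symm (Additive.ofMul a))) = a
        rw [LinearEquiv.apply_symm_apply]; rfl
      map_mul' := fun a b => by
        change Additive.toMul (g (Additive.ofMul a + Additive.ofMul b)) = _
        rw [map_add]; rfl }
  left_inv f := by ext x; rfl
  right_inv g := by ext x; rfl
  map_mul' f g := by ext x; rfl

theorem mulAut_equiv_GL {A : Type*} [Group A] [Finite A] (hc : ∀ a b : A, a * b = b * a)
    (hs : ∀ a : A, a * a = 1) (n : ℕ) (hcard : Nat.card A = 2 ^ n) :
    Nonempty (MulAut A ≃* Matrix.GeneralLinearGroup (Fin n) (ZMod 2)) := by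
  letI : CommGroup A := { ‹Group A› with mul_comm := hc }
  letI : Module (ZMod 2) (Additive A) :=
    AddCommGroup.zmodModule (n := 2) (fun v => by
      rw [two_nsmul]
      exact congrArg Additive.ofMul (hs (Additive.toMul v)))
  haveI : Finite (Additive A) := inferInstanceAs (Finite A)
  have hfr : Module.finrank (ZMod 2) (Additive A) = n := by
    have h3 := Module.natCard_eq_pow_finrank (K := ZMod 2) (V := Additive A)
    have h4 : Nat.card (Additive A) = 2 ^ n := hcard
    rw [h4, Nat.card_zmod] at h3
    exact (Nat.pow_right_injective (le_refl 2) h3).symm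
  let b : Module.Basis (Fin n) (ZMod 2) (Additive A) := Module.finBasisOfFinrankEq (ZMod 2) _ hfr
  let e2 := mulAutLinear A
  let e3 := (LinearMap.GeneralLinearGroup.generalLinearEquiv (ZMod 2) (Additive A)).symm
  let e4 := Matrix.GeneralLinearGroup.toLin' b
  exact ⟨e2.trans (e3.trans e4.symm)⟩

end Cfsg.Agent.Lib.Helper16.AGL
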