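import Mathlib
import Cfsg.Agent.Lib.Helper16.AGL5
import Cfsg.Agent.Lib.Helper16.AGL6
import Cfsg.Agent.Lib.Helper16.PCore

/-!
# The affine configuration inside an ambient group (helper16)

`ASetup P U M z`: inside a group `S`, the subgroup `P = U M` is an affine group as in `AGL.Setup`, and
`C_S(z) ≤ P`.  The conclusions of the `AGL` files are transported to `S`.
-/

set_option autoImplicit false
set_option linter.unusedSectionVars false
set_option linter.style.haveILetI false
open scoped commutatorElement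

namespace Cfsg.Agent.Lib.Helper16.AGL

open Cfsg.Agent.Lib.Helper20.ES in
/-- extraspecial groups are preserved by isomorphisms -/
theorem isExtraspecial_of_mulEquiv {A B : Type*} [Group A] [Group B] [Finite A] [Finite B]
    (e : A ≃* B) (h : Cfsg.IsExtraspecial 2 A) : Cfsg.IsExtraspecial 2 B := by
  haveI : Fact (Nat.Prime 2) := ⟨Nat.prime_two⟩
  obtain ⟨z, hz⟩ := exists_esData h
  have hzp : ∀ w : A, w ∈ Subgroup.zpowers z → e w ∈ Subgroup.zpowers (e z) := by
    intro w hw
    obtain ⟨k, rfl⟩ := Subgroup.mem_zpowers_iff.mp hw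
    rw [map_zpow]
    exact Subgroup.zpow_mem_zpowers _ _
  have hd : ESData 2 B (e z) := by
    refine ⟨?_, ?_, ?_, ?_, ?_, ?_⟩
    · intro h1
      exact hz.z_ne ((e.map_eq_one_iff).mp h1)
    · rw [← map_pow, hz.z_pow, map_one]
    · rw [Subgroup.mem_center_iff]
      intro b
      have := Subgroup.mem_center_iff.mp hz.z_central (e.symm b)
      have h2 := congrArg e this
      rwa [map_mul, map_mul, e.apply_symm_apply] at h2
    · intro w hw
      have h1 : e.symm w ∈ Subgroup.center A := by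
        rw [Subgroup.mem_center_iff]
        intro a
        have := Subgroup.mem_center_iff.mp hw (e a)
        have h2 := congrArg e.symm this
        rwa [map_mul, map_mul, e.symm_apply_apply] at h2
      have := hzp _ (hz.center_le _ h1)
      rwa [e.apply_symm_apply] at this
    · intro x y
      have := hzp _ (hz.comm_mem (e.symm x) (e.symm y))
      rwa [map_commutatorElement, e.apply_symm_apply, e.apply_symm_apply] at this
    · intro x
      have := hzp _ (hz.pow_mem (e.symm x))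
      rwa [map_pow, e.apply_symm_apply] at this
  apply hd.isExtraspecial
  obtain ⟨x, y, hxy⟩ := exists_comm_ne_one h
  refine ⟨e x, e y, fun hc => hxy ?_⟩
  rw [← map_commutatorElement] at hc
  exact (e.map_eq_one_iff).mp hc

variable {S : Type*} [Group S]

/-- the affine configuration inside an ambient group -/
structure ASetup (P U M : Subgroup S) (z : S) : Prop where
  UP : U ≤ P
  MP : M ≤ P
  normal : ∀ p ∈ P, ∀ u ∈ U, p * u * p⁻¹ ∈ U
  comm : ∀ a ∈ U, ∀ b ∈ U, a * b = b * a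
  sq : ∀ a ∈ U, a * a = 1
  inf : ∀ g, g ∈ U → g ∈ M → g = 1
  sup : ∀ g ∈ P, ∃ u ∈ U, ∃ m ∈ M, g = u * m
  faith : ∀ m ∈ M, (∀ u ∈ U, m * u * m⁻¹ = u) → m = 1
  full : ∀ φ : ↥U ≃* ↥U, ∃ m ∈ M, ∀ u : ↥U, ((φ u : ↥U) : S) = m * u * m⁻¹
  zU : z ∈ U
  z1 : z ≠ 1
  big : ∃ u ∈ U, u ≠ 1 ∧ u ≠ z
  cent : ∀ g, g * z = z * g → g ∈ P

namespace ASetup

variable {P U M : Subgroup S} {z : S}

theorem zP (a : ASetup P U M z) : z ∈ P := a.UP a.zU

/-- the configuration inside `↥P` -/
theorem toSetup (a : ASetup P U M z) :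
    Setup (U.subgroupOf P) (M.subgroupOf P) (⟨z, a.zP⟩ : ↥P) where
  normal := by
    constructor
    intro n hn g
    rw [Subgroup.mem_subgroupOf] at hn ⊢
    exact a.normal g g.2 n hn
  comm := fun x hx y hy => Subtype.ext (a.comm x hx y hy)
  sq := fun x hx => Subtype.ext (a.sq x hx)
  inf := fun g hg hm => Subtype.ext (a.inf g hg hm)
  sup := fun g => by
    obtain ⟨u, hu, m, hm, hg⟩ := a.sup g g.2
    exact ⟨⟨u, a.UP hu⟩, hu, ⟨m, a.MP hm⟩, hm, Subtype.ext hg⟩
  faith := fun m hm hc => by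
    apply Subtype.ext
    apply a.faith m hm
    intro u hu
    have := hc ⟨u, a.UP hu⟩ hu
    exact congrArg Subtype.val this
  full := fun φ => by
    let e := Subgroup.subgroupOfEquivOfLe a.UP
    obtain ⟨m, hm, hφ⟩ := a.full (e.symm.trans (φ.trans e))
    refine ⟨⟨m, a.MP hm⟩, hm, fun u => ?_⟩
    apply Subtype.ext
    have h1 := hφ (e u)
    rw [MulEquiv.trans_apply, MulEquiv.trans_apply, MulEquiv.symm_apply_apply] at h1
    exact h1
  zU := a.zU
  z1 := fun h1 => a.z1 (congrArg Subtype.val h1)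
  big := by
    obtain ⟨u, hu, hu1, huz⟩ := a.big
    exact ⟨⟨u, a.UP hu⟩, hu, fun h1 => hu1 (congrArg Subtype.val h1),
      fun h1 => huz (congrArg Subtype.val h1)⟩

/-- the subgroup `Q0` seen in the ambient group -/
def Q1 (a : ASetup P U M z) : Subgroup S := a.toSetup.Q0.map P.subtype

theorem mem_Q1 (a : ASetup P U M z) (g : S) :
    g ∈ a.Q1 ↔ g ∈ P ∧ g * z = z * g ∧ ∀ u ∈ U, InZ z (g * u * g⁻¹ * u⁻¹) := by
  constructor
  · rintro ⟨x, hx, rfl⟩
    refine ⟨x.2, congrArg Subtype.val hx.1, fun u hu => ?_⟩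
    have h1 := hx.2 ⟨u, a.UP hu⟩ hu
    rcases h1 with h1 | h1
    · left; exact congrArg Subtype.val h1
    · right; exact congrArg Subtype.val h1
  · rintro ⟨hgP, hgz, hgu⟩
    refine ⟨⟨g, hgP⟩, ⟨Subtype.ext hgz, fun u hu => ?_⟩, rfl⟩
    rcases hgu u hu with h1 | h1
    · left; exact Subtype.ext h1
    · right; exact Subtype.ext h1

theorem U_le_Q1 (a : ASetup P U M z) : U ≤ a.Q1 := by
  intro u hu
  exact ⟨⟨u, a.UP hu⟩, a.toSetup.U_le_Q0 hu, rfl⟩

theorem cent_le_P (a : ASetup P U M z) : Subgroup.centralizer ({z} : Set S) ≤ P :=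
  fun g hg => a.cent g ((Setup.mem_cent_iff g).mp hg)

/-- the centralizer of `z` in `S` is the image of the centralizer in `P` -/
theorem map_cent (a : ASetup P U M z) :
    (Subgroup.centralizer ({(⟨z, a.zP⟩ : ↥P)} : Set ↥P)).map P.subtype
      = Subgroup.centralizer ({z} : Set S) := by
  ext g
  constructor
  · rintro ⟨x, hx, rfl⟩
    rw [SetLike.mem_coe, Setup.mem_cent_iff] at hx
    rw [Setup.mem_cent_iff]
    exact congrArg Subtype.val hx
  · intro hg
    refine ⟨⟨g, a.cent_le_P hg⟩, ?_, rfl⟩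
    rw [Setup.mem_cent_iff] at hg
    rw [SetLike.mem_coe, Setup.mem_cent_iff]
    exact Subtype.ext hg

/-- the isomorphism between the two centralizers -/
def centEquiv (a : ASetup P U M z) :
    ↥(Subgroup.centralizer ({(⟨z, a.zP⟩ : ↥P)} : Set ↥P)) ≃*
      ↥(Subgroup.centralizer ({z} : Set S)) where
  toFun x := ⟨x.1.1, by
    have := x.2
    rw [Setup.mem_cent_iff] at this ⊢
    exact congrArg Subtype.val this⟩
  invFun y := ⟨⟨y.1, a.cent_le_P y.2⟩, by
    have := y.2
    rw [Setup.mem_cent_iff] at this ⊢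
    exact Subtype.ext this⟩
  left_inv x := rfl
  right_inv y := rfl
  map_mul' x y := rfl

variable [Finite S]

/-- `O₂(C_S(z)) = Q1` -/
theorem core_eq_Q1 (a : ASetup P U M z) :
    (Cfsg.pCore 2 ↥(Subgroup.centralizer ({z} : Set S))).map
      (Subgroup.centralizer ({z} : Set S)).subtype = a.Q1 := by
  haveI : Fact (Nat.Prime 2) := ⟨Nat.prime_two⟩
  rw [Q1, ← a.toSetup.core_eq_Q0, ← Cfsg.Agent.Lib.Helper16.pCore_map_equiv a.centEquiv,
    Subgroup.map_map, Subgroup.map_map]
  rfl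

theorem isExtraspecial_Q1 (a : ASetup P U M z) : Cfsg.IsExtraspecial 2 ↥a.Q1 :=
  isExtraspecial_of_mulEquiv
    (Subgroup.equivMapOfInjective _ P.subtype P.subtype_injective) a.toSetup.isExtraspecial

theorem card_U' (a : ASetup P U M z) : Nat.card ↥(U.subgroupOf P) = Nat.card ↥U :=
  Nat.card_congr (Subgroup.subgroupOfEquivOfLe a.UP).toEquiv

theorem card_Q1 (a : ASetup P U M z) (n : ℕ) (hcard : Nat.card ↥U = 2 ^ (n + 1)) :
    Nat.card ↥a.Q1 = 2 ^ (2 * n + 1) := by
  rw [Q1, Subgroup.card_map_of_injective P.subtype_injective]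
  exact a.toSetup.card_Q0 n (by rw [a.card_U', hcard])

theorem z_mem_Q1 (a : ASetup P U M z) : z ∈ a.Q1 := a.U_le_Q1 a.zU

/-- `C_S(z)` normalizes `Q1` -/
theorem conj_mem_Q1 (a : ASetup P U M z) {c g : S} (hc : c * z = z * c) (hg : g ∈ a.Q1) :
    c * g * c⁻¹ ∈ a.Q1 := by
  obtain ⟨x, hx, rfl⟩ := hg
  have hcP := a.cent c hc
  have := a.toSetup.conj_mem_Q0 (c := ⟨c, hcP⟩) (Subtype.ext hc) hx
  exact ⟨_, this, rfl⟩

/-- the centre of `Q1` -/
theorem center_Q1 (a : ASetup P U M z) {w : ↥a.Q1} (hw : w ∈ Subgroup.center ↥a.Q1) :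
    InZ z (w : S) := by
  obtain ⟨x, hx, hxw⟩ := w.2
  have h1 : InZ (⟨z, a.zP⟩ : ↥P) x := by
    apply a.toSetup.Q0_center hx
    intro k hk
    have := Subgroup.mem_center_iff.mp hw ⟨k, ⟨k, hk, rfl⟩⟩
    have h2 := congrArg Subtype.val this
    apply Subtype.ext
    change (x : S) * k = k * x
    rw [show (x : S) = (w : S) from hxw]
    exact h2.symm
  rcases h1 with h1 | h1
  · left; rw [← hxw, h1]; rfl
  · right; rw [← hxw, h1]; rfl

/-- the first two largeness conditions for `Q1` -/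
theorem large_Q1 (a : ASetup P U M z) :
    Subgroup.centralizer (a.Q1 : Set S) = (Subgroup.center ↥a.Q1).map a.Q1.subtype ∧
    Subgroup.centralizer (((Subgroup.center ↥a.Q1).map a.Q1.subtype : Subgroup S) : Set S)
      ≤ Subgroup.normalizer (a.Q1 : Set S) := by
  constructor
  · ext x
    rw [Subgroup.mem_centralizer_iff, Subgroup.mem_map]
    constructor
    · intro hx
      have hxz : x * z = z * x := (hx z a.z_mem_Q1).symm
      have hxP : x ∈ P := a.cent x hxz
      have hxU : (⟨x, hxP⟩ : ↥P) ∈ U.subgroupOf P := by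
        apply a.toSetup.cent_U
        intro u hu
        apply Subtype.ext
        exact (hx u (a.U_le_Q1 hu)).symm
      refine ⟨⟨x, a.U_le_Q1 hxU⟩, ?_, rfl⟩
      rw [Subgroup.mem_center_iff]
      intro g
      apply Subtype.ext
      exact hx g g.2
    · rintro ⟨y, hy, rfl⟩ g hg
      have := Subgroup.mem_center_iff.mp hy ⟨g, hg⟩
      exact congrArg Subtype.val this
  · intro g hg
    have hzc : (⟨z, a.z_mem_Q1⟩ : ↥a.Q1) ∈ Subgroup.center ↥a.Q1 := by
      rw [Subgroup.mem_center_iff]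
      intro q
      apply Subtype.ext
      exact (((a.mem_Q1 q).mp q.2).2.1)
    have hgz : g * z = z * g := by
      have := Subgroup.mem_centralizer_iff.mp hg z ⟨⟨z, a.z_mem_Q1⟩, hzc, rfl⟩
      exact this.symm
    rw [Subgroup.mem_normalizer_iff]
    intro x
    constructor
    · exact fun hx => a.conj_mem_Q1 hgz hx
    · intro hx
      have := a.conj_mem_Q1 (Setup.comm_inv hgz) hx
      have e : g⁻¹ * (g * x * g⁻¹) * g⁻¹⁻¹ = x := by group
      rwa [e] at this

/-- the complement in the ambient group -/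
theorem exists_K (a : ASetup P U M z) (n : ℕ) (hcard : Nat.card ↥U = 2 ^ (n + 1)) :
    ∃ K : Subgroup S, K ≤ Subgroup.centralizer ({z} : Set S) ∧ a.Q1 ⊓ K = ⊥ ∧
      a.Q1 ⊔ K = Subgroup.centralizer ({z} : Set S) ∧
      Nonempty (↥K ≃* Matrix.GeneralLinearGroup (Fin n) (ZMod 2)) := by
  have hS := a.toSetup
  obtain ⟨W, hy⟩ := hS.exists_compl
  have hWcard : Nat.card ↥W = 2 ^ n := by
    have h1 := hy.card_eq
    rw [a.card_U', hcard, pow_succ, mul_comm] at h1
    exact (Nat.eq_of_mul_eq_mul_left (by norm_num) h1).symm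
  obtain ⟨eGL⟩ := mulAut_equiv_GL (A := ↥W)
    (fun x y => Subtype.ext (hS.hcA x y)) (fun x => Subtype.ext (hS.hsA x)) n hWcard
  refine ⟨(hS.Kc W).map P.subtype, ?_, ?_, ?_, ?_⟩
  · rw [← a.map_cent]
    exact Subgroup.map_mono (hS.Kc_le_cent W)
  · rw [Q1, ← Subgroup.map_inf _ _ _ P.subtype_injective, hS.Q0_inf_Kc hy, Subgroup.map_bot]
  · rw [Q1, ← Subgroup.map_sup, hS.sup_eq_cent hy, a.map_cent]
  · exact ⟨((Subgroup.equivMapOfInjective _ P.subtype P.subtype_injective).symm.trans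
      (hS.kappaEquiv hy)).trans eGL⟩

end ASetup

end Cfsg.Agent.Lib.Helper16.AGL
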