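import Mathlib
import Cfsg.Prelude.Def_Classical
import Cfsg.Agent.Lib.Helper26.OOMinDefs
import Cfsg.Agent.Lib.Helper16.OOEndDefs

/-!
# S2344 endgame: the concrete side, definitions (helper16)

`n = m + 1`; the space of `Ω_{2n+1}(F)` has index type `Ix (m + 1) = Unit ⊕ (Fin (m+1) ⊕ Fin (m+1))`;
`e_0 = e0`, `f_0 = f0`; `V' = ⟨e_0, f_0⟩^⊥` is embedded by `hat`.

* `hat z` : `z ∈ V'` as a vector of the big space; `hatJ z` : the functional `u ↦ B(u, ẑ)`;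
* `ubarMat z = 1 + ẑ ⊗ e_0^* - f_0 ⊗ B(·, ẑ) - Q'(z) f_0 ⊗ e_0^*` : the matrix of `ubar z`
  (`e_0 ↦ e_0 + ẑ - Q'(z) f_0`, `u ↦ u - B(u, ẑ) f_0` on `V'`, `f_0 ↦ f_0`);
* `embMat a A = a ⊕ A` on `Fin (m+1)`, `embSL g = 1 ⊕ g`, `dg2 i b = diag (b, 1, .., b⁻¹ at i+1, .., 1)`.
-/

set_option autoImplicit false
set_option linter.unusedSectionVars false

namespace Cfsg.Agent.Lib.Helper16.OOEnd

open Matrix Cfsg.Agent.Lib.Helper26.OOMin Cfsg.Agent.Lib.Helper27.OPMin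

variable {F : Type*} [Field F] {m : ℕ}

/-- `z ∈ V'` as a vector of the big space -/
def hat (z : Ix m → F) : Ix (m + 1) → F :=
  Sum.elim (fun _ => c0 z) (Sum.elim (Fin.cons 0 (cx z)) (Fin.cons 0 (cy z)))

/-- the functional `u ↦ B(u, ẑ)` -/
def hatJ (z : Ix m → F) : Ix (m + 1) → F :=
  Sum.elim (fun _ => 2 * c0 z) (Sum.elim (Fin.cons 0 (cy z)) (Fin.cons 0 (cx z)))

/-- `e_0` -/
def e0 : Ix (m + 1) → F := Pi.single (Sum.inr (Sum.inl 0)) 1

/-- `f_0` -/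
def f0 : Ix (m + 1) → F := Pi.single (Sum.inr (Sum.inr 0)) 1

/-- the matrix of `ubar z` -/
def ubarMat (z : Ix m → F) : Matrix (Ix (m + 1)) (Ix (m + 1)) F :=
  1 + vecMulVec (hat z) e0 - vecMulVec f0 (hatJ z) - Qp z • vecMulVec f0 e0

/-- `a ⊕ A` on `Fin (m+1)` -/
def embMat (a : F) (A : Matrix (Fin m) (Fin m) F) : Matrix (Fin (m + 1)) (Fin (m + 1)) F :=
  Matrix.of fun i j =>
    Fin.cases (Fin.cases a (fun _ => 0) j) (fun i' => Fin.cases 0 (fun j' => A i' j') j) i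

@[simp] theorem embMat_zero_zero (a : F) (A : Matrix (Fin m) (Fin m) F) : embMat a A 0 0 = a := rfl

@[simp] theorem embMat_zero_succ (a : F) (A : Matrix (Fin m) (Fin m) F) (j : Fin m) :
    embMat a A 0 j.succ = 0 := rfl

@[simp] theorem embMat_succ_zero (a : F) (A : Matrix (Fin m) (Fin m) F) (i : Fin m) :
    embMat a A i.succ 0 = 0 := rfl

@[simp] theorem embMat_succ_succ (a : F) (A : Matrix (Fin m) (Fin m) F) (i j : Fin m) :
    embMat a A i.succ j.succ = A i j := rfl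

theorem det_embMat (a : F) (A : Matrix (Fin m) (Fin m) F) : (embMat a A).det = a * A.det := by
  rw [Matrix.det_succ_row_zero, Fin.sum_univ_succ]
  have h0 : ∀ j : Fin m, embMat a A 0 j.succ = 0 := fun j => rfl
  simp only [h0, mul_zero, zero_mul, Finset.sum_const_zero, add_zero, Fin.val_zero, pow_zero,
    one_mul, embMat_zero_zero]
  congr 1

/-- `1 ⊕ g` -/
def embSL (g : SpecialLinearGroup (Fin m) F) : SpecialLinearGroup (Fin (m + 1)) F :=
  ⟨embMat 1 (g : Matrix (Fin m) (Fin m) F), by rw [det_embMat, one_mul, g.det_coe]⟩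

/-- `diag (b, 1, .., b⁻¹ at i+1, .., 1)` -/
def dg2 (i : Fin m) (b : Fˣ) : SpecialLinearGroup (Fin (m + 1)) F :=
  ⟨Matrix.diagonal (Fin.cons (b : F) (fun k => if k = i then ((b⁻¹ : Fˣ) : F) else 1)), by
    classical
    rw [Matrix.det_diagonal, Fin.prod_univ_succ]
    simp only [Fin.cons_zero, Fin.cons_succ]
    rw [Finset.prod_ite_eq' Finset.univ i (fun _ => ((b⁻¹ : Fˣ) : F))]
    simp⟩

theorem zero_ne_succ (i : Fin m) : (0 : Fin (m + 1)) ≠ i.succ := (Fin.succ_ne_zero i).symm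

end Cfsg.Agent.Lib.Helper16.OOEnd
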