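import Mathlib
import Cfsg.Prelude.Def_CaseTheorems
import Cfsg.Prelude.Def_Sz

/-!
# S2752 / S2796 (market "SF"): shared vocabulary (helper16)

`ConfD A` and `ConfS A` are the two local configurations that an elementary abelian `2`-subgroup
`A ≠ 1` of a finite `S₃`-free group `H` with `O₂(H) = 1`, all of whose non-abelian composition factors are
`Sz(2^(2m+1))` or `PSL₂(3^(2n+1))`, must exhibit (leaf `struct`).  Each of them forces
`|C_V(A₂) : C_V(A)| ≥ |A : A₂|²` on every faithful `F₂`-module `V` for a suitable `A₂ < A`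
(leaves `modD`, `modS`), which gives `|V : C_V(A)| ≥ |A|²` by induction on `|A|`.
-/

set_option autoImplicit false

namespace Cfsg.Agent.Lib.Helper16.SF

/-- **Dihedral configuration**: a hyperplane `B` of `A`, an element `a ∈ A ∖ B` and an element `x ≠ 1` of odd
order centralized by `B` and inverted by `a`. -/
def ConfD {H : Type*} [Group H] (A : Subgroup H) : Prop :=
  ∃ (B : Subgroup H) (a x : H), B ≤ A ∧ a ∈ A ∧ a ∉ B ∧ A ≤ B ⊔ Subgroup.zpowers a ∧
    x ≠ 1 ∧ Odd (orderOf x) ∧ (∀ b ∈ B, b * x = x * b) ∧ a * x * a⁻¹ = x⁻¹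

/-- **Suzuki configuration**: a subgroup `A₂ < A` with `|A : A₂| ≤ q = 2^(2m+1)`, a quasisimple subgroup `K`
centralizing `A₂` with `K / Z(K) ≅ Sz(q)` and `Z(K)` of odd order, and an element `a ∈ A ∖ A₂` which acts on
`K` as the non-central involution `t ∈ K` (that is, `a t⁻¹` centralizes `K`). -/
def ConfS {H : Type*} [Group H] (A : Subgroup H) : Prop :=
  ∃ (A₂ K : Subgroup H) (a t : H) (F : Type) (_ : Field F) (_ : Fintype F) (m : ℕ),
    A₂ ≤ A ∧ a ∈ A ∧ a ∉ A₂ ∧ 1 ≤ m ∧ Fintype.card F = 2 ^ (2 * m + 1) ∧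
    Nat.card A ≤ 2 ^ (2 * m + 1) * Nat.card A₂ ∧
    (∀ k ∈ K, ∀ b ∈ A₂, k * b = b * k) ∧
    Cfsg.IsQuasisimple ↥K ∧ Odd (Nat.card ↥(Subgroup.center ↥K)) ∧
    Nonempty (↥K ⧸ Subgroup.center ↥K ≃* ↥(Cfsg.Lie.Sz F (2 ^ (m + 1)))) ∧
    t ∈ K ∧ t * t = 1 ∧ (∃ k ∈ K, k * t ≠ t * k) ∧ (∀ k ∈ K, k * (a * t⁻¹) = (a * t⁻¹) * k)

/-- The conjugation action of a subgroup `G ≤ N_L(M)` on `M`, as a `MulDistribMulAction`. -/
@[reducible] def conjMDMA {L : Type*} [Group L] (M G : Subgroup L)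
    (hGM : G ≤ Subgroup.normalizer (M : Set L)) : MulDistribMulAction ↥G ↥M :=
  MulDistribMulAction.compHom ↥M (M.normalizerMonoidHom.comp (Subgroup.inclusion hGM))

theorem conjMDMA_smul_coe {L : Type*} [Group L] (M G : Subgroup L)
    (hGM : G ≤ Subgroup.normalizer (M : Set L)) (g : ↥G) (v : ↥M) :
    letI := conjMDMA M G hGM
    ((g • v : ↥M) : L) = (g : L) * (v : L) * (g : L)⁻¹ := rfl

end Cfsg.Agent.Lib.Helper16.SF
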