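import Mathlib
import Cfsg.Agent.Lib.Helper5.TWU.Defs
import Cfsg.Agent.Lib.Helper8.TW.Defs
import Cfsg.Agent.Lib.Helper16.TWImg
import Cfsg.Agent.Lib.Helper23.TWUT
import Cfsg.Agent.Lib.Helper14.TWIIDefs
import Cfsg.Agent.Lib.Helper14.TWUIIDefs

/-!
S5672 Stage II leaf (helper14's market, `notes/S5672_II_leaves.lean`): R2 `InU_conj`.
-/

set_option autoImplicit false
set_option linter.unusedSectionVars false
set_option linter.unusedVariables false

namespace Cfsg.Agent.Lib.Helper16.TWUIILeaf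
open Matrix Cfsg.Geo Cfsg.Agent.Lib.Helper18.AschA89 Cfsg.Agent.Lib.Helper8.TW Cfsg.Agent.Lib.Helper5.TWU
  Cfsg.Agent.Lib.Helper14.TWII Cfsg.Agent.Lib.Helper14.TWUII
open Cfsg.Agent.Lib.Helper20.UT (hv)

variable {F : Type*} [Field F] [Fintype F] {t k q : ℕ}

theorem mv_mul16 {ι : Type} [Fintype ι] [DecidableEq ι] (g h : GL ι F) (v : ι → F) :
    mv (g * h) v = mv g (mv h v) := by
  unfold mv
  rw [Units.val_mul, Matrix.mulVec_mulVec]

theorem mv_sub16 {ι : Type} [Fintype ι] [DecidableEq ι] (g : GL ι F) (v w : ι → F) :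
    mv g (v - w) = mv g v - mv g w := by
  unfold mv
  rw [Matrix.mulVec_sub]

theorem mv_zero16 {ι : Type} [Fintype ι] [DecidableEq ι] (g : GL ι F) : mv g (0 : ι → F) = 0 := by
  unfold mv
  rw [Matrix.mulVec_zero]

theorem mv_inv_mv16 {ι : Type} [Fintype ι] [DecidableEq ι] (g : GL ι F) (v : ι → F) :
    mv g⁻¹ (mv g v) = v := by
  rw [← mv_mul16, inv_mul_cancel]
  unfold mv
  rw [Units.val_one, Matrix.one_mulVec]

theorem mv_mv_inv16 {ι : Type} [Fintype ι] [DecidableEq ι] (g : GL ι F) (v : ι → F) :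
    mv g (mv g⁻¹ v) = v := by
  rw [← mv_mul16, mul_inv_cancel]
  unfold mv
  rw [Units.val_one, Matrix.one_mulVec]

/-- a stabilised subspace: `mv g` and `mv g⁻¹` preserve it -/
theorem mv_mem_of_img_eq {ι : Type} [Fintype ι] [DecidableEq ι] {g : GL ι F} {S : Submodule F (ι → F)}
    (h : img g S = S) {v : ι → F} (hv' : v ∈ S) : mv g v ∈ S := by
  rw [← h, Cfsg.Agent.Lib.Helper16.TWLeaf.mem_img_iff, mv_inv_mv16]
  exact hv'

theorem mv_inv_mem_of_img_eq {ι : Type} [Fintype ι] [DecidableEq ι] {g : GL ι F} {S : Submodule F (ι → F)}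
    (h : img g S = S) {v : ι → F} (hv' : v ∈ S) : mv g⁻¹ v ∈ S := by
  rw [← Cfsg.Agent.Lib.Helper16.TWLeaf.mem_img_iff, h]
  exact hv'

/-- **R2** `U^W` is normalised by the similitudes stabilising `W` -/
theorem InU_conj (hF : Fintype.card F = q ^ 2) (i : Fin t) (y : Fin k → F) (hy0 : y ≠ 0) (g u : GL (Idx t k) F)
    (hg : g ∈ DUV t k q F) (hstab : img g (Wf i y) = Wf i y) (hu : InU q i y u) : InU q i y (g * u * g⁻¹) := by
  have hC : img g (Cf i (dag q y)) = Cf i (dag q y) := by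
    rw [← Cfsg.Agent.Lib.Helper23.TWUT.perpU_Wf hF i y hy0, Cfsg.Agent.Lib.Helper23.TWUT.img_perpU hg, hstab]
  obtain ⟨h1, h2, h3⟩ := hu
  have key : ∀ v, mv (g * u * g⁻¹) v - v = mv g (mv u (mv g⁻¹ v) - mv g⁻¹ v) := by
    intro v
    rw [mv_mul16, mv_mul16,
      mv_sub16, mv_mv_inv16]
  refine ⟨?_, ?_, ?_⟩
  · intro v hv'
    have := key v
    rw [h1 _ (mv_inv_mem_of_img_eq hstab hv'), sub_self, mv_zero16] at this
    exact sub_eq_zero.mp this
  · intro v hv'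
    rw [key v]
    exact mv_mem_of_img_eq hstab (h2 _ (mv_inv_mem_of_img_eq hC hv'))
  · intro v
    rw [key v]
    exact mv_mem_of_img_eq hC (h3 _)

end Cfsg.Agent.Lib.Helper16.TWUIILeaf
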