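import Mathlib
import Cfsg.Prelude.Def_Characters
import Cfsg.Agent.Lib.Helper24.BSWDefs

/-!
# S3282 leaf T1 (`small_case`, `|K| = 2`): shared vocabulary of its sub-leaves
-/

set_option autoImplicit false

namespace Cfsg.Agent.Lib.Helper16.BSWT1

variable {G : Type*} [Group G]

/-- the class of `y`: the nonidentity elements conjugate into `C(y)` -/
def cls (y : G) : Set G :=
  {z | z ≠ 1 ∧ ∃ g : G, g * z * g⁻¹ ∈ Subgroup.centralizer ({y} : Set G)}

end Cfsg.Agent.Lib.Helper16.BSWT1
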