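import Mathlib

/-!
# Helper16: basic facts about `ZMod (2^k)` and explicit `2 x 2` matrices, for S2874
(conjugacy of `A4`-subgroups of `GL 2 (ZMod (2^k))`).
-/

set_option autoImplicit false

namespace Cfsg.Agent.Lib.Helper16.A4GL2

/-- Reduction mod 2 on `ZMod (2^k)`. -/
noncomputable def red (k : ℕ) (hk : 1 ≤ k) : ZMod (2 ^ k) →+* ZMod 2 :=
  ZMod.castHom (dvd_pow_self 2 (by omega)) (ZMod 2)

theorem zmod2_cases (x : ZMod 2) : x = 0 ∨ x = 1 := by
  revert x; decide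

theorem red_eq_natCast_val (k : ℕ) (hk : 1 ≤ k) (x : ZMod (2 ^ k)) :
    red k hk x = ((x.val : ℕ) : ZMod 2) := by
  have : NeZero (2 ^ k) := ⟨by positivity⟩
  unfold red
  rw [ZMod.castHom_apply, ZMod.natCast_val]

theorem exists_two_mul_of_red_eq_zero (k : ℕ) (hk : 1 ≤ k) (x : ZMod (2 ^ k))
    (h : red k hk x = 0) : ∃ y, x = 2 * y := by
  have : NeZero (2 ^ k) := ⟨by positivity⟩
  rw [red_eq_natCast_val, ZMod.natCast_eq_zero_iff] at h
  obtain ⟨m, hm⟩ := h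
  refine ⟨(m : ZMod (2 ^ k)), ?_⟩
  have : x = ((x.val : ℕ) : ZMod (2 ^ k)) := (ZMod.natCast_zmod_val x).symm
  rw [this, hm]; push_cast; ring

theorem isUnit_of_red_eq_one (k : ℕ) (hk : 1 ≤ k) (x : ZMod (2 ^ k))
    (h : red k hk x = 1) : IsUnit x := by
  have : NeZero (2 ^ k) := ⟨by positivity⟩
  rw [red_eq_natCast_val] at h
  have hx : x = ((x.val : ℕ) : ZMod (2 ^ k)) := (ZMod.natCast_zmod_val x).symm
  rw [hx, ZMod.isUnit_iff_coprime]
  apply Nat.Coprime.pow_right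
  rw [Nat.coprime_comm, Nat.Prime.coprime_iff_not_dvd Nat.prime_two]
  intro hd
  rw [← ZMod.natCast_eq_zero_iff] at hd
  rw [hd] at h
  exact absurd h (by decide)

theorem red_eq_zero_of_pow_mul (k : ℕ) (hk : 1 ≤ k) (j : ℕ) (hj : j < k) (x : ZMod (2 ^ k))
    (h : (2 : ZMod (2 ^ k)) ^ j * x = 0) : red k hk x = 0 := by
  rcases zmod2_cases (red k hk x) with h0 | h1
  · exact h0
  · exfalso
    have hu := isUnit_of_red_eq_one k hk x h1
    have h2 : (2 : ZMod (2 ^ k)) ^ j = 0 := by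
      have := hu.mul_left_eq_zero.mp h
      exact this
    have h3 : (((2 ^ j : ℕ)) : ZMod (2 ^ k)) = 0 := by push_cast; exact h2
    rw [ZMod.natCast_eq_zero_iff] at h3
    have := (Nat.pow_dvd_pow_iff_le_right (by norm_num : 1 < 2)).mp h3
    omega

/-- the element `2^(k-1)`. -/
def cc (k : ℕ) : ZMod (2 ^ k) := 2 ^ (k - 1)

theorem cc_add_cc (k : ℕ) (hk : 1 ≤ k) : cc k + cc k = 0 := by
  unfold cc
  have e : (2 : ZMod (2 ^ k)) ^ (k - 1) + 2 ^ (k - 1) = 2 ^ (k - 1 + 1) := by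
    rw [pow_succ]; ring
  rw [e, Nat.sub_add_cancel hk]
  have h3 : (((2 ^ k : ℕ)) : ZMod (2 ^ k)) = 0 := ZMod.natCast_self _
  push_cast at h3; exact h3

theorem cc_mul_cc (k : ℕ) (hk : 2 ≤ k) : cc k * cc k = 0 := by
  unfold cc
  rw [← pow_add]
  have : k - 1 + (k - 1) = k + (k - 2) := by omega
  rw [this, pow_add]
  have h3 : (((2 ^ k : ℕ)) : ZMod (2 ^ k)) = 0 := ZMod.natCast_self _
  push_cast at h3; rw [h3, zero_mul]

theorem cc_ne_zero (k : ℕ) (hk : 1 ≤ k) : cc k ≠ 0 := by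
  unfold cc
  intro h
  have h3 : (((2 ^ (k - 1) : ℕ)) : ZMod (2 ^ k)) = 0 := by push_cast; exact h
  rw [ZMod.natCast_eq_zero_iff] at h3
  have := (Nat.pow_dvd_pow_iff_le_right (by norm_num : 1 < 2)).mp h3
  omega

theorem eq_zero_or_cc_of_two_mul (k : ℕ) (hk : 1 ≤ k) (x : ZMod (2 ^ k))
    (h : 2 * x = 0) : x = 0 ∨ x = cc k := by
  have : NeZero (2 ^ k) := ⟨by positivity⟩
  have hx : x = ((x.val : ℕ) : ZMod (2 ^ k)) := (ZMod.natCast_zmod_val x).symm
  have h2 : (((2 * x.val : ℕ)) : ZMod (2 ^ k)) = 0 := by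
    push_cast; rw [← hx]; exact h
  rw [ZMod.natCast_eq_zero_iff] at h2
  have hk' : 2 ^ k = 2 * 2 ^ (k - 1) := by
    have e : 2 * 2 ^ (k - 1) = 2 ^ (k - 1 + 1) := by rw [pow_succ]; ring
    rw [e, Nat.sub_add_cancel hk]
  have h2' : 2 * 2 ^ (k - 1) ∣ 2 * x.val := by rw [← hk']; exact h2
  have h3 : 2 ^ (k - 1) ∣ x.val := Nat.dvd_of_mul_dvd_mul_left (by norm_num) h2'
  obtain ⟨m, hm⟩ := h3
  have hlt0 : x.val < 2 ^ k := ZMod.val_lt x
  have hlt : 2 ^ (k - 1) * m < 2 * 2 ^ (k - 1) := by rw [← hk', ← hm]; exact hlt0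
  have hpos : 0 < 2 ^ (k - 1) := by positivity
  have hm2 : m < 2 := by
    by_contra hcon
    have : 2 ≤ m := by omega
    have : 2 ^ (k - 1) * 2 ≤ 2 ^ (k - 1) * m := Nat.mul_le_mul_left _ this
    omega
  interval_cases m
  · left; rw [hx, hm]; simp
  · right; rw [hx, hm]; unfold cc; push_cast; ring

section Mat
variable {R : Type*} [CommRing R]

/-- companion matrix of `x^2+x+1`. -/
def Cm (R : Type*) [CommRing R] : Matrix (Fin 2) (Fin 2) R := !![0, -1; 1, -1]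
/-- its square (= inverse). -/
def C2m (R : Type*) [CommRing R] : Matrix (Fin 2) (Fin 2) R := !![-1, 1; -1, 0]

theorem Cm_mul_C2m : Cm R * C2m R = 1 := by
  ext i j; fin_cases i <;> fin_cases j <;> simp [Cm, C2m, Matrix.mul_apply, Fin.sum_univ_two]

theorem C2m_mul_Cm : C2m R * Cm R = 1 := by
  ext i j; fin_cases i <;> fin_cases j <;> simp [Cm, C2m, Matrix.mul_apply, Fin.sum_univ_two]

theorem Cm_mul_Cm : Cm R * Cm R = C2m R := by
  ext i j; fin_cases i <;> fin_cases j <;> simp [Cm, C2m, Matrix.mul_apply, Fin.sum_univ_two]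

theorem C2m_mul_C2m : C2m R * C2m R = Cm R := by
  ext i j; fin_cases i <;> fin_cases j <;> simp [Cm, C2m, Matrix.mul_apply, Fin.sum_univ_two]

/-- the candidate involutions. -/
def Amat (p r : R) : Matrix (Fin 2) (Fin 2) R := !![1 + p, p + r; r, 1 + p]

theorem Amat_conj (p r : R) (hp : p + p = 0) (hr : r + r = 0) :
    Cm R * Amat p r * C2m R = Amat (p + r) p := by
  ext i j; fin_cases i <;> fin_cases j <;>
    simp [Cm, C2m, Amat, Matrix.mul_apply, Fin.sum_univ_two]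
  · ring
  · linear_combination (-1 : R) * hr - hp
  · linear_combination (-1 : R) * hp
  · linear_combination (-1 : R) * hr

theorem Amat_sq (c : R) (h2 : c + c = 0) (hc : c * c = 0) :
    Amat c 0 * Amat c 0 = 1 := by
  ext i j; fin_cases i <;> fin_cases j <;>
    simp [Amat, Matrix.mul_apply, Fin.sum_univ_two]
  · linear_combination h2 + hc
  · linear_combination h2 + 2 * hc
  · linear_combination h2 + hc

end Mat

end Cfsg.Agent.Lib.Helper16.A4GL2
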