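import Cfsg.Agent.Lib.Helper16.A4GL2Key

/-!
# Helper16: elements of order 3 of `GL 2 (ZMod (2^k))` are conjugate to the companion matrix of
`x^2+x+1`; generators and relations of `A4` (for S2874).
-/

set_option autoImplicit false

namespace Cfsg.Agent.Lib.Helper16.A4GL2

open Matrix

/-- `C` as an element of `GL 2 R`. -/
def CU (R : Type*) [CommRing R] : GL (Fin 2) R := ⟨Cm R, C2m R, Cm_mul_C2m, C2m_mul_Cm⟩

theorem CU_val (R : Type*) [CommRing R] : ((CU R : GL (Fin 2) R) : Matrix (Fin 2) (Fin 2) R) = Cm R := rfl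
theorem CU_inv_val (R : Type*) [CommRing R] :
    (((CU R)⁻¹ : GL (Fin 2) R) : Matrix (Fin 2) (Fin 2) R) = C2m R := rfl

theorem dec3 : ∀ p q r s : ZMod 2,
    (!![p, q; r, s] : Matrix (Fin 2) (Fin 2) (ZMod 2)) * !![p, q; r, s] * !![p, q; r, s] = 1 →
    (!![p, q; r, s] : Matrix (Fin 2) (Fin 2) (ZMod 2)) ≠ 1 →
    r = 1 ∧ (p - 1) * (s - 1) - q * r = 1 := by decide

theorem isUnit_of_redM_det_eq_one (k : ℕ) (hk : 1 ≤ k)
    (X : Matrix (Fin 2) (Fin 2) (ZMod (2 ^ k))) (h : (redM k hk X).det = 1) : IsUnit X := by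
  rw [Matrix.isUnit_iff_isUnit_det]
  apply isUnit_of_red_eq_one k hk
  rw [RingHom.map_det]
  exact h

/-- An element of order 3 is not congruent to `1` mod 2. -/
theorem redM_ne_one_of_cube (k : ℕ) (hk : 1 ≤ k) (T : Matrix (Fin 2) (Fin 2) (ZMod (2 ^ k)))
    (h3 : T * T * T = 1) (hne : T ≠ 1) : redM k hk T ≠ 1 := by
  intro h
  obtain ⟨X, hX⟩ := exists_two_smul_of_redM_eq_zero k hk (T - 1)
    (by rw [map_sub, h, map_one, sub_self])
  have hT : T = 1 + 2 • X := by rw [← hX]; abel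
  have e : (2 • X) * (1 + 2 • (1 + 3 • X + 2 • (X * X))) = 0 := by
    have : T * T * T = 1 + (2 • X) * (1 + 2 • (1 + 3 • X + 2 • (X * X))) := by
      rw [hT]; noncomm_ring
    rw [h3] at this
    exact left_eq_add.mp this
  have hu : IsUnit (1 + 2 • (1 + 3 • X + 2 • (X * X))) := by
    apply isUnit_of_redM_eq_one k hk
    rw [map_add, map_one, redM_two_smul, add_zero]
  have := hu.mul_left_eq_zero.mp e
  apply hne
  rw [hT, this, add_zero]

/-- Every element of order 3 of `GL 2 (ZMod (2^k))` is conjugate to `C`. -/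
theorem exists_conj_eq_CU (k : ℕ) (hk : 1 ≤ k) (t : GL (Fin 2) (ZMod (2 ^ k)))
    (h3 : t * t * t = 1) (hne : t ≠ 1) :
    ∃ g : GL (Fin 2) (ZMod (2 ^ k)), g * t * g⁻¹ = CU _ := by
  set T : Matrix (Fin 2) (Fin 2) (ZMod (2 ^ k)) := (t : Matrix (Fin 2) (Fin 2) (ZMod (2 ^ k))) with hT
  have hT3 : T * T * T = 1 := by
    have := congrArg (fun u : GL (Fin 2) (ZMod (2 ^ k)) => (u : Matrix (Fin 2) (Fin 2) (ZMod (2 ^ k)))) h3
    simpa using this
  have hTne : T ≠ 1 := by
    intro h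
    apply hne
    apply Units.ext
    rw [Units.val_one]; exact h
  have hbar := redM_ne_one_of_cube k hk T hT3 hTne
  have hbar3 : redM k hk T * redM k hk T * redM k hk T = 1 := by
    rw [← map_mul, ← map_mul, hT3, map_one]
  rw [Matrix.eta_fin_two (redM k hk T)] at hbar hbar3
  obtain ⟨hr, hdet⟩ := dec3 _ _ _ _ hbar3 hbar
  -- `T - 1` is a unit
  have hu : IsUnit (T - 1) := by
    apply isUnit_of_redM_det_eq_one k hk
    rw [Matrix.det_fin_two]
    simp only [map_sub, map_one, Matrix.sub_apply, Matrix.one_apply_eq, Matrix.one_apply_ne,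
      ne_eq, zero_ne_one, one_ne_zero, not_false_eq_true, sub_zero, Fin.isValue]
    simpa using hdet
  have hpoly : T * T + T + 1 = 0 := by
    have : (T - 1) * (T * T + T + 1) = 0 := by
      have : (T - 1) * (T * T + T + 1) = T * T * T - 1 := by noncomm_ring
      rw [this, hT3, sub_self]
    exact hu.mul_right_eq_zero.mp this
  -- the conjugating matrix
  have hr' : red k hk (T 1 0) = 1 := by rw [← redM_apply]; exact hr
  have hdetg : IsUnit (!![1, T 0 0; 0, T 1 0] : Matrix (Fin 2) (Fin 2) (ZMod (2 ^ k))).det := by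
    rw [Matrix.det_fin_two_of]
    simp only [one_mul, mul_zero, sub_zero]
    exact isUnit_of_red_eq_one k hk _ hr'
  set gU : GL (Fin 2) (ZMod (2 ^ k)) := Matrix.GeneralLinearGroup.mk'' _ hdetg with hgU
  have hgval : (gU : Matrix (Fin 2) (Fin 2) (ZMod (2 ^ k))) = !![1, T 0 0; 0, T 1 0] := rfl
  have p00 := congrFun (congrFun hpoly 0) 0
  have p10 := congrFun (congrFun hpoly 1) 0
  simp [Matrix.mul_apply, Fin.sum_univ_two] at p00 p10
  have hcomm : T * !![1, T 0 0; 0, T 1 0] = !![1, T 0 0; 0, T 1 0] * Cm _ := by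
    ext i j; fin_cases i <;> fin_cases j <;>
      simp [Cm, Matrix.mul_apply, Fin.sum_univ_two]
    · linear_combination p00
    · linear_combination p10
  have hcommU : t * gU = gU * CU _ := by
    apply Units.ext
    rw [Units.val_mul, Units.val_mul, hgval, CU_val]
    exact hcomm
  refine ⟨gU⁻¹, ?_⟩
  rw [inv_inv, mul_assoc, hcommU, ← mul_assoc, inv_mul_cancel, one_mul]

/-- a 3-cycle in `A4`. -/
def tau : alternatingGroup (Fin 4) := ⟨Equiv.swap 0 1 * Equiv.swap 1 2, by rw [Equiv.Perm.mem_alternatingGroup]; decide⟩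
/-- a double transposition in `A4`. -/
def nu : alternatingGroup (Fin 4) := ⟨Equiv.swap 0 1 * Equiv.swap 2 3, by rw [Equiv.Perm.mem_alternatingGroup]; decide⟩

set_option maxRecDepth 100000 in
theorem a4_rel : tau * tau * tau = 1 ∧ tau ≠ 1 ∧ nu ≠ 1 ∧ nu * nu = 1 ∧
    nu * (tau * nu * tau⁻¹) = tau⁻¹ * nu * tau := by decide

set_option maxRecDepth 100000 in
theorem a4_decomp : ∀ x : alternatingGroup (Fin 4), ∃ i j : Fin 3,
    x = tau ^ (i : ℕ) ∨ x = tau ^ (i : ℕ) * (tau ^ (j : ℕ) * nu * tau⁻¹ ^ (j : ℕ)) := by decide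

end Cfsg.Agent.Lib.Helper16.A4GL2
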