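import Cfsg.Agent.Lib.Helper16.A4GL2Base

/-!
# Helper16: the key matrix computation for S2874: an involution `A` of `GL 2 (ZMod (2^k))`
with `A * (C A C⁻¹) = C⁻¹ A C` (`C` the companion matrix of `x^2+x+1`) is `1 + 2^(k-1) * X`
with `X` in an explicit four element set.
-/

set_option autoImplicit false

namespace Cfsg.Agent.Lib.Helper16.A4GL2

open Matrix

theorem dec1 : ∀ p q r s : ZMod 2,
    (!![p, q; r, s] : Matrix (Fin 2) (Fin 2) (ZMod 2)) * !![p, q; r, s] = 1 →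
    (!![p, q; r, s] : Matrix (Fin 2) (Fin 2) (ZMod 2)) * (Cm (ZMod 2) * !![p, q; r, s] * C2m (ZMod 2))
      = C2m (ZMod 2) * !![p, q; r, s] * Cm (ZMod 2) →
    (!![p, q; r, s] : Matrix (Fin 2) (Fin 2) (ZMod 2)) = 1 := by decide

theorem dec2 : ∀ p q r s : ZMod 2,
    (!![p, q; r, s] : Matrix (Fin 2) (Fin 2) (ZMod 2)) + !![p, q; r, s] * !![p, q; r, s] = 0 →
    (!![p, q; r, s] : Matrix (Fin 2) (Fin 2) (ZMod 2)) + Cm (ZMod 2) * !![p, q; r, s] * C2m (ZMod 2)
      - C2m (ZMod 2) * !![p, q; r, s] * Cm (ZMod 2) = 0 →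
    (!![p, q; r, s] : Matrix (Fin 2) (Fin 2) (ZMod 2)) = 0 := by decide

theorem dec1' (A : Matrix (Fin 2) (Fin 2) (ZMod 2)) (h1 : A * A = 1)
    (h2 : A * (Cm (ZMod 2) * A * C2m (ZMod 2)) = C2m (ZMod 2) * A * Cm (ZMod 2)) : A = 1 := by
  rw [Matrix.eta_fin_two A] at h1 h2 ⊢
  exact dec1 _ _ _ _ h1 h2

theorem dec2' (M : Matrix (Fin 2) (Fin 2) (ZMod 2)) (h1 : M + M * M = 0)
    (h2 : M + Cm (ZMod 2) * M * C2m (ZMod 2) - C2m (ZMod 2) * M * Cm (ZMod 2) = 0) : M = 0 := by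
  rw [Matrix.eta_fin_two M] at h1 h2 ⊢
  exact dec2 _ _ _ _ h1 h2

/-- reduction mod 2 on matrices. -/
noncomputable def redM (k : ℕ) (hk : 1 ≤ k) :
    Matrix (Fin 2) (Fin 2) (ZMod (2 ^ k)) →+* Matrix (Fin 2) (Fin 2) (ZMod 2) :=
  (red k hk).mapMatrix

theorem redM_apply (k : ℕ) (hk : 1 ≤ k) (X : Matrix (Fin 2) (Fin 2) (ZMod (2 ^ k))) (i j : Fin 2) :
    redM k hk X i j = red k hk (X i j) := rfl

theorem redM_Cm (k : ℕ) (hk : 1 ≤ k) : redM k hk (Cm _) = Cm (ZMod 2) := by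
  ext i j; fin_cases i <;> fin_cases j <;> simp [redM_apply, Cm]

theorem redM_C2m (k : ℕ) (hk : 1 ≤ k) : redM k hk (C2m _) = C2m (ZMod 2) := by
  ext i j; fin_cases i <;> fin_cases j <;> simp [redM_apply, C2m]

theorem exists_two_smul_of_redM_eq_zero (k : ℕ) (hk : 1 ≤ k)
    (X : Matrix (Fin 2) (Fin 2) (ZMod (2 ^ k))) (h : redM k hk X = 0) :
    ∃ M : Matrix (Fin 2) (Fin 2) (ZMod (2 ^ k)), X = 2 • M := by
  have h' : ∀ i j, ∃ y, X i j = 2 * y := by
    intro i j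
    apply exists_two_mul_of_red_eq_zero k hk
    rw [← redM_apply, h]; rfl
  choose f hf using h'
  refine ⟨Matrix.of f, ?_⟩
  ext i j
  rw [hf i j]
  simp [two_mul, two_smul]

theorem redM_eq_zero_of_pow_smul (k : ℕ) (hk : 1 ≤ k) (j : ℕ) (hj : j < k)
    (X : Matrix (Fin 2) (Fin 2) (ZMod (2 ^ k))) (h : (2 ^ j : ℕ) • X = 0) :
    redM k hk X = 0 := by
  ext a b
  rw [redM_apply]
  apply red_eq_zero_of_pow_mul k hk j hj
  have := congrFun (congrFun h a) b
  simpa [Matrix.smul_apply, nsmul_eq_mul] using this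

theorem isUnit_of_redM_eq_one (k : ℕ) (hk : 1 ≤ k)
    (X : Matrix (Fin 2) (Fin 2) (ZMod (2 ^ k))) (h : redM k hk X = 1) : IsUnit X := by
  rw [Matrix.isUnit_iff_isUnit_det]
  apply isUnit_of_red_eq_one k hk
  rw [RingHom.map_det]
  change (redM k hk X).det = 1
  rw [h, Matrix.det_one]

theorem redM_two_smul (k : ℕ) (hk : 1 ≤ k) (X : Matrix (Fin 2) (Fin 2) (ZMod (2 ^ k))) :
    redM k hk (2 • X) = 0 := by
  rw [map_nsmul]
  ext a b
  simp only [Matrix.smul_apply, Matrix.zero_apply]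
  generalize (redM k hk X) a b = y
  revert y; decide

theorem pow_smul_eq_zero (k : ℕ) (X : Matrix (Fin 2) (Fin 2) (ZMod (2 ^ k))) :
    (2 ^ k : ℕ) • X = 0 := by
  ext a b
  simp only [Matrix.smul_apply, Matrix.zero_apply, nsmul_eq_mul]
  rw [ZMod.natCast_self, zero_mul]

/-- Step A: `A ≡ 1 mod 2`. -/
theorem key_stepA (k : ℕ) (hk : 1 ≤ k) (A : Matrix (Fin 2) (Fin 2) (ZMod (2 ^ k)))
    (h1 : A * A = 1) (h2 : A * (Cm _ * A * C2m _) = C2m _ * A * Cm _) :
    ∃ M : Matrix (Fin 2) (Fin 2) (ZMod (2 ^ k)), A = 1 + 2 • M := by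
  have hA1 : redM k hk A = 1 := by
    apply dec1'
    · rw [← map_mul, h1, map_one]
    · rw [← redM_Cm k hk, ← redM_C2m k hk, ← map_mul, ← map_mul, ← map_mul, h2, map_mul, map_mul]
  obtain ⟨M, hM⟩ := exists_two_smul_of_redM_eq_zero k hk (A - 1) (by rw [map_sub, hA1, map_one, sub_self])
  exact ⟨M, by rw [← hM]; abel⟩

/-- Step B: `2 (A - 1) = 0`. -/
theorem key_stepB (k : ℕ) (hk : 2 ≤ k) (A : Matrix (Fin 2) (Fin 2) (ZMod (2 ^ k)))
    (h1 : A * A = 1) (h2 : A * (Cm _ * A * C2m _) = C2m _ * A * Cm _) :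
    2 • (A - 1) = 0 := by
  have hk1 : 1 ≤ k := by omega
  obtain ⟨M, hM⟩ := key_stepA k hk1 A h1 h2
  have hAM : A - 1 = 2 • M := by rw [hM]; abel
  rcases Nat.lt_or_ge k 3 with hk3 | hk3
  · obtain rfl : k = 2 := by omega
    rw [hAM, ← mul_nsmul]
    have := pow_smul_eq_zero 2 M
    norm_num at this ⊢
    exact this
  · -- `k ≥ 3`
    have e1 : 4 • (M + M * M) = 0 := by
      have : A * A = 1 + 4 • (M + M * M) := by
        rw [hM]; noncomm_ring
      rw [h1] at this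
      exact (left_eq_add.mp this)
    have r1 : redM k hk1 M + redM k hk1 M * redM k hk1 M = 0 := by
      have := redM_eq_zero_of_pow_smul k hk1 2 (by omega) _ (show (2 ^ 2 : ℕ) • _ = 0 from e1)
      rwa [map_add, map_mul] at this
    have hC1 : Cm (ZMod (2 ^ k)) * C2m _ = 1 := Cm_mul_C2m
    have hC2 : C2m (ZMod (2 ^ k)) * Cm _ = 1 := C2m_mul_Cm
    have e2 : 2 • (M + Cm _ * M * C2m _ - C2m _ * M * Cm _
        + 2 • (M * (Cm _ * M * C2m _))) = 0 := by
      have l1 : A * (Cm _ * A * C2m _) = 1 + 2 • M + 2 • (Cm _ * M * C2m _)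
          + 4 • (M * (Cm _ * M * C2m _)) := by
        have : Cm _ * A * C2m _ = 1 + 2 • (Cm _ * M * C2m _) := by
          rw [hM, mul_add, add_mul, mul_one, hC1, mul_smul_comm, smul_mul_assoc]
        rw [this, hM]; noncomm_ring
      have l2 : C2m _ * A * Cm _ = 1 + 2 • (C2m _ * M * Cm _) := by
        rw [hM, mul_add, add_mul, mul_one, hC2, mul_smul_comm, smul_mul_assoc]
      rw [l1, l2] at h2
      have : 2 • (M + Cm _ * M * C2m _ - C2m _ * M * Cm _
        + 2 • (M * (Cm _ * M * C2m _))) = (1 + 2 • M + 2 • (Cm _ * M * C2m _)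
          + 4 • (M * (Cm _ * M * C2m _))) - (1 + 2 • (C2m _ * M * Cm _)) := by
        noncomm_ring
      rw [this, h2, sub_self]
    have r2 : redM k hk1 M + Cm (ZMod 2) * redM k hk1 M * C2m (ZMod 2)
        - C2m (ZMod 2) * redM k hk1 M * Cm (ZMod 2) = 0 := by
      have := redM_eq_zero_of_pow_smul k hk1 1 (by omega) _ (show (2 ^ 1 : ℕ) • _ = 0 from e2)
      rw [map_add, redM_two_smul, add_zero, map_sub, map_add, map_mul, map_mul, map_mul, map_mul,
        redM_Cm, redM_C2m] at this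
      exact this
    have hM0 := dec2' _ r1 r2
    obtain ⟨P, hP⟩ := exists_two_smul_of_redM_eq_zero k hk1 M hM0
    have e3 : (8 • P) * (1 + 2 • P) = 0 := by
      have : A * A = 1 + (8 • P) * (1 + 2 • P) := by
        rw [hM, hP]; noncomm_ring
      rw [h1] at this
      exact (left_eq_add.mp this)
    have hu : IsUnit (1 + 2 • P) := by
      apply isUnit_of_redM_eq_one k hk1
      rw [map_add, map_one, redM_two_smul, add_zero]
    have e4 : 8 • P = 0 := hu.mul_left_eq_zero.mp e3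
    rw [hAM, hP, ← mul_nsmul, ← mul_nsmul]
    exact e4

theorem conj_Cm_eta {R : Type*} [CommRing R] (p q r s : R) :
    Cm R * !![p, q; r, s] * C2m R = !![r + s, -r; -p - q + r + s, p - r] := by
  ext i j; fin_cases i <;> fin_cases j <;>
    simp [Cm, C2m, Matrix.mul_apply, Fin.sum_univ_two] <;> ring

theorem conj_C2m_eta {R : Type*} [CommRing R] (p q r s : R) :
    C2m R * !![p, q; r, s] * Cm R = !![s - q, p + q - r - s; -q, p + q] := by
  ext i j; fin_cases i <;> fin_cases j <;>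
    simp [Cm, C2m, Matrix.mul_apply, Fin.sum_univ_two] <;> ring

/-- The key computation: an involution `A` with `A * (C A C⁻¹) = C⁻¹ A C` is one of four explicit
matrices. -/
theorem key (k : ℕ) (hk : 2 ≤ k) (A : Matrix (Fin 2) (Fin 2) (ZMod (2 ^ k)))
    (h1 : A * A = 1) (h2 : A * (Cm _ * A * C2m _) = C2m _ * A * Cm _) :
    ∃ p r : ZMod (2 ^ k), (p = 0 ∨ p = cc k) ∧ (r = 0 ∨ r = cc k) ∧ A = Amat p r := by
  have hk1 : 1 ≤ k := by omega
  obtain ⟨M, hM⟩ := key_stepA k hk1 A h1 h2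
  have hB := key_stepB k hk A h1 h2
  set N := A - 1 with hN
  have hAN : A = 1 + N := by rw [hN]; abel
  have hNM : N = 2 • M := by rw [hN, hM]; abel
  have hC1 : Cm (ZMod (2 ^ k)) * C2m _ = 1 := Cm_mul_C2m
  have hC2 : C2m (ZMod (2 ^ k)) * Cm _ = 1 := C2m_mul_Cm
  have hNN : N * (Cm _ * N * C2m _) = 0 := by
    have : N * (Cm _ * N * C2m _) = M * (Cm _ * (2 • N) * C2m _) := by
      rw [hNM]
      simp only [smul_mul_assoc, mul_smul_comm]
    rw [this, hB, mul_zero, zero_mul, mul_zero]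
  have hlin : N + Cm _ * N * C2m _ = C2m _ * N * Cm _ := by
    have l1 : A * (Cm _ * A * C2m _) = 1 + N + Cm _ * N * C2m _ + N * (Cm _ * N * C2m _) := by
      have : Cm _ * A * C2m _ = 1 + Cm _ * N * C2m _ := by
        rw [hAN, mul_add, add_mul, mul_one, hC1]
      rw [this, hAN]; noncomm_ring
    have l2 : C2m _ * A * Cm _ = 1 + C2m _ * N * Cm _ := by
      rw [hAN, mul_add, add_mul, mul_one, hC2]
    rw [l1, l2, hNN, add_zero, add_assoc] at h2
    exact add_left_cancel h2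
  -- entries
  have t00 : 2 * N 0 0 = 0 := by
    have := congrFun (congrFun hB 0) 0
    simpa [Matrix.smul_apply, nsmul_eq_mul] using this
  have t10 : 2 * N 1 0 = 0 := by
    have := congrFun (congrFun hB 1) 0
    simpa [Matrix.smul_apply, nsmul_eq_mul] using this
  have t01 : 2 * N 0 1 = 0 := by
    have := congrFun (congrFun hB 0) 1
    simpa [Matrix.smul_apply, nsmul_eq_mul] using this
  have t11 : 2 * N 1 1 = 0 := by
    have := congrFun (congrFun hB 1) 1
    simpa [Matrix.smul_apply, nsmul_eq_mul] using this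
  rw [Matrix.eta_fin_two N, conj_Cm_eta, conj_C2m_eta] at hlin
  have l00 := congrFun (congrFun hlin 0) 0
  have l01 := congrFun (congrFun hlin 0) 1
  simp at l00 l01
  have hs : N 1 1 = N 0 0 := by
    linear_combination l01
  have hq : N 0 1 = N 0 0 + N 1 0 := by
    linear_combination l00 - t00 - t10
  refine ⟨N 0 0, N 1 0, eq_zero_or_cc_of_two_mul k hk1 _ t00, eq_zero_or_cc_of_two_mul k hk1 _ t10, ?_⟩
  rw [hAN]
  ext i j; fin_cases i <;> fin_cases j <;> simp [Amat, hs, hq]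

end Cfsg.Agent.Lib.Helper16.A4GL2
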