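import Cfsg.Agent.Lib.Helper16.A4GL2Conj

/-!
# Helper16: every subgroup of `GL 2 (ZMod (2^k))`, `k ≥ 2`, isomorphic to `A4` is conjugate to a
fixed standard copy (for S2874).
-/

set_option autoImplicit false

namespace Cfsg.Agent.Lib.Helper16.A4GL2

open Matrix

/-- the involution `a₀ = 1 + 2^(k-1) σ` as an element of `GL 2`. -/
def a0U (k : ℕ) (hk : 2 ≤ k) : GL (Fin 2) (ZMod (2 ^ k)) :=
  ⟨Amat (cc k) 0, Amat (cc k) 0, Amat_sq _ (cc_add_cc k (by omega)) (cc_mul_cc k hk),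
    Amat_sq _ (cc_add_cc k (by omega)) (cc_mul_cc k hk)⟩

theorem a0U_val (k : ℕ) (hk : 2 ≤ k) :
    ((a0U k hk : GL (Fin 2) (ZMod (2 ^ k))) : Matrix (Fin 2) (Fin 2) (ZMod (2 ^ k))) = Amat (cc k) 0 := rfl

/-- the standard copy of `A4`, as a set. -/
def S0 (k : ℕ) (hk : 2 ≤ k) : Set (GL (Fin 2) (ZMod (2 ^ k))) :=
  {x | ∃ i j : ℕ, x = CU _ ^ i ∨ x = CU _ ^ i * (CU _ ^ j * a0U k hk * (CU _)⁻¹ ^ j)}

/-- A nontrivial involution related to `C` as in `A4` is a `C`-conjugate of `a₀`. -/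
theorem exists_pow_conj (k : ℕ) (hk : 2 ≤ k) (a : GL (Fin 2) (ZMod (2 ^ k))) (hne : a ≠ 1)
    (h1 : a * a = 1) (h2 : a * (CU _ * a * (CU _)⁻¹) = (CU _)⁻¹ * a * CU _) :
    ∃ m : ℕ, a = CU _ ^ m * a0U k hk * (CU _)⁻¹ ^ m := by
  have hk1 : 1 ≤ k := by omega
  set A : Matrix (Fin 2) (Fin 2) (ZMod (2 ^ k)) := (a : Matrix (Fin 2) (Fin 2) (ZMod (2 ^ k))) with hA
  have hA1 : A * A = 1 := by
    have := congrArg (fun u : GL (Fin 2) (ZMod (2 ^ k)) => (u : Matrix (Fin 2) (Fin 2) (ZMod (2 ^ k)))) h1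
    simpa using this
  have hA2 : A * (Cm _ * A * C2m _) = C2m _ * A * Cm _ := by
    have := congrArg (fun u : GL (Fin 2) (ZMod (2 ^ k)) => (u : Matrix (Fin 2) (Fin 2) (ZMod (2 ^ k)))) h2
    simp only [Units.val_mul, CU_val, CU_inv_val] at this
    exact this
  obtain ⟨p, r, hp, hr, hpr⟩ := key k hk A hA1 hA2
  have hcc := cc_add_cc k hk1
  have e1 : Cm (ZMod (2 ^ k)) * Amat (cc k) 0 * C2m _ = Amat (cc k) (cc k) := by
    rw [Amat_conj _ _ hcc (by simp), add_zero]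
  have e2 : Cm (ZMod (2 ^ k)) * Amat (cc k) (cc k) * C2m _ = Amat 0 (cc k) := by
    rw [Amat_conj _ _ hcc hcc, hcc]
  rcases hp with hp | hp <;> rcases hr with hr | hr
  · exfalso
    apply hne
    apply Units.ext
    rw [Units.val_one]
    change A = 1
    rw [hpr, hp, hr]
    ext i j; fin_cases i <;> fin_cases j <;> simp [Amat]
  · refine ⟨2, ?_⟩
    apply Units.ext
    change A = _
    rw [hpr, hp, hr]
    simp only [pow_two, Units.val_mul, CU_val, CU_inv_val, a0U_val]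
    rw [← e2, ← e1]
    simp only [Matrix.mul_assoc]
  · refine ⟨0, ?_⟩
    apply Units.ext
    change A = _
    rw [hpr, hp, hr]
    simp [a0U_val]
  · refine ⟨1, ?_⟩
    apply Units.ext
    change A = _
    rw [hpr, hp, hr]
    simp only [pow_one, Units.val_mul, CU_val, CU_inv_val, a0U_val]
    rw [e1]

/-- Every `A4`-subgroup is conjugate to the standard one. -/
theorem exists_conj_eq_S0 (k : ℕ) (hk : 2 ≤ k) (H : Subgroup (GL (Fin 2) (ZMod (2 ^ k))))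
    (h : Nonempty (↥H ≃* ↥(alternatingGroup (Fin 4)))) :
    ∃ g : GL (Fin 2) (ZMod (2 ^ k)), ∀ x, x ∈ H ↔ g * x * g⁻¹ ∈ S0 k hk := by
  have hk1 : 1 ≤ k := by omega
  obtain ⟨e⟩ := h
  set ψ : ↥(alternatingGroup (Fin 4)) →* GL (Fin 2) (ZMod (2 ^ k)) :=
    H.subtype.comp e.symm.toMonoidHom with hψ
  have hψinj : Function.Injective ψ := by
    intro x y hxy
    have : (e.symm x : GL (Fin 2) (ZMod (2 ^ k))) = e.symm y := hxy
    exact e.symm.injective (Subtype.ext this)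
  have hψmem : ∀ y, ψ y ∈ H := fun y => (e.symm y).2
  have hψsurj : ∀ x ∈ H, ∃ y, ψ y = x := by
    intro x hx
    refine ⟨e ⟨x, hx⟩, ?_⟩
    change ((e.symm (e ⟨x, hx⟩) : ↥H) : GL (Fin 2) (ZMod (2 ^ k))) = x
    rw [e.symm_apply_apply]
  obtain ⟨r1, r2, r3, r4, r5⟩ := a4_rel
  have ht3 : ψ tau * ψ tau * ψ tau = 1 := by rw [← map_mul, ← map_mul, r1, map_one]
  have htne : ψ tau ≠ 1 := by
    intro h; apply r2; apply hψinj; rw [h, map_one]
  obtain ⟨g, hg⟩ := exists_conj_eq_CU k hk1 (ψ tau) ht3 htne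
  set θ : ↥(alternatingGroup (Fin 4)) →* GL (Fin 2) (ZMod (2 ^ k)) :=
    (MulAut.conj g).toMonoidHom.comp ψ with hθ
  have hθapp : ∀ y, θ y = g * ψ y * g⁻¹ := fun y => rfl
  have hθinj : Function.Injective θ := by
    intro x y hxy
    apply hψinj
    rw [hθapp, hθapp] at hxy
    exact mul_left_cancel (mul_right_cancel hxy)
  have hθtau : θ tau = CU _ := by rw [hθapp]; exact hg
  have hθne : θ nu ≠ 1 := by
    intro h; apply r3; apply hθinj; rw [h, map_one]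
  have hθ1 : θ nu * θ nu = 1 := by rw [← map_mul, r4, map_one]
  have hθ2 : θ nu * (CU _ * θ nu * (CU _)⁻¹) = (CU _)⁻¹ * θ nu * CU _ := by
    rw [← hθtau, ← map_inv, ← map_mul, ← map_mul, ← map_mul, ← map_mul, ← map_mul, r5]
  obtain ⟨m, hm⟩ := exists_pow_conj k hk (θ nu) hθne hθ1 hθ2
  have hm' : a0U k hk = (CU _)⁻¹ ^ m * θ nu * CU _ ^ m := by
    rw [hm]; group
  refine ⟨g, fun x => ⟨fun hx => ?_, fun hx => ?_⟩⟩
  · obtain ⟨y, rfl⟩ := hψsurj x hx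
    change θ y ∈ S0 k hk
    obtain ⟨i, j, hy | hy⟩ := a4_decomp y
    · refine ⟨(i : ℕ), 0, Or.inl ?_⟩
      rw [hy, map_pow, hθtau]
    · refine ⟨(i : ℕ), (j : ℕ) + m, Or.inr ?_⟩
      rw [hy, map_mul, map_mul, map_mul, map_pow, map_pow, map_pow, map_inv, hθtau, hm]
      rw [pow_add, pow_add]
      have : Commute ((CU (ZMod (2 ^ k)))⁻¹ ^ (j : ℕ)) ((CU (ZMod (2 ^ k)))⁻¹ ^ m) :=
        (Commute.refl _).pow_pow _ _
      rw [this.eq]
      simp only [mul_assoc]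
  · suffices hsuff : ∃ y, θ y = g * x * g⁻¹ by
      obtain ⟨y, hy⟩ := hsuff
      rw [hθapp] at hy
      have : ψ y = x := mul_left_cancel (mul_right_cancel hy)
      rw [← this]; exact hψmem y
    obtain ⟨i, j, hx | hx⟩ := hx
    · refine ⟨tau ^ i, ?_⟩
      rw [map_pow, hθtau, hx]
    · refine ⟨tau ^ i * (tau ^ j * (tau⁻¹ ^ m * nu * tau ^ m) * tau⁻¹ ^ j), ?_⟩
      rw [hx, hm']
      simp only [map_mul, map_pow, map_inv, hθtau]

end Cfsg.Agent.Lib.Helper16.A4GL2
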