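import Mathlib
import Cfsg.Prelude.Def_Solvable
import Cfsg.Prelude.Def_Local
import Cfsg.Prelude.Def_Transfer
import Cfsg.Prelude.Def_PLocal
import Cfsg.Agent.Lib.Helper26.AUTQDefs
import Cfsg.Agent.Lib.Helper24.PSolvable

/-!
helper16: S4411 leaf CG (`cg`): the extraction at the level of `G`, in `_of` form over the leaves S1 and CM
(both instantiated at `M = ↥(N_G(H₀))`).
-/

set_option autoImplicit false

namespace Cfsg.Agent.Lib.Helper16.AUTQCG

open Cfsg Cfsg.Agent.Lib.Helper26.AUTQ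

universe u

/-- A `q`-element `y = c * h` with `c`, `h` commuting, `h` a `p`-element (`p ≠ q`) and `c ∈ K` lies in `K`. -/
theorem mem_of_qElt_mul {M : Type*} [Group M] (p q : ℕ) [hp : Fact p.Prime] [hq : Fact q.Prime] (hpq : p ≠ q)
    (K : Subgroup M) (y c h : M) (hy : QElt q y) (hych : y = c * h) (hcomm : Commute c h)
    (hh : ∃ j : ℕ, orderOf h = p ^ j) (hc : c ∈ K) : y ∈ K := by
  obtain ⟨k, hk⟩ := hy
  obtain ⟨j, hj⟩ := hh
  have h1 : y ^ (p ^ j) = c ^ (p ^ j) := by
    rw [hych, hcomm.mul_pow, ← hj, pow_orderOf_eq_one, mul_one]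
  have hcop : Nat.Coprime (p ^ j) (orderOf y) := by
    rw [hk]
    exact Nat.Coprime.pow _ _ ((Nat.coprime_primes hp.out hq.out).mpr hpq)
  have hmem : y ^ (p ^ j) ∈ K := by rw [h1]; exact K.pow_mem hc _
  obtain ⟨m, hm⟩ := exists_pow_eq_self_of_coprime hcop
  rw [← hm]
  exact K.pow_mem hmem m

theorem cg_of {G : Type u} [Group G] [Finite G] (p q : ℕ) [Fact p.Prime] [Fact q.Prime] (hpq : p ≠ q)
    (H₀ : Subgroup G) (hH₀ : IsPGroup p H₀)
    (hs1 : ∀ (R : Sylow p ↥(Subgroup.normalizer (H₀ : Set G))),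
      (∀ y ∈ Subgroup.normalizer
          (((H₀.subgroupOf (Subgroup.normalizer (H₀ : Set G))) ⊔
            ((R : Subgroup ↥(Subgroup.normalizer (H₀ : Set G))) ⊓
              Subgroup.centralizer ((H₀.subgroupOf (Subgroup.normalizer (H₀ : Set G)) :
                Subgroup ↥(Subgroup.normalizer (H₀ : Set G))) : Set ↥(Subgroup.normalizer (H₀ : Set G)))) :
            Subgroup ↥(Subgroup.normalizer (H₀ : Set G))) : Set ↥(Subgroup.normalizer (H₀ : Set G))),
        QElt q y → y ∈ Subgroup.centralizer ((H₀.subgroupOf (Subgroup.normalizer (H₀ : Set G)) :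
                Subgroup ↥(Subgroup.normalizer (H₀ : Set G))) : Set ↥(Subgroup.normalizer (H₀ : Set G)))) →
      ∀ y : ↥(Subgroup.normalizer (H₀ : Set G)), QElt q y →
        y ∈ Subgroup.centralizer ((H₀.subgroupOf (Subgroup.normalizer (H₀ : Set G)) :
                Subgroup ↥(Subgroup.normalizer (H₀ : Set G))) : Set ↥(Subgroup.normalizer (H₀ : Set G))))
    (hcm : ∀ (L : Subgroup ↥(Subgroup.normalizer (H₀ : Set G))) [L.Normal],
        H₀.subgroupOf (Subgroup.normalizer (H₀ : Set G)) ≤ L →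
        ¬ p ∣ (H₀.subgroupOf (Subgroup.normalizer (H₀ : Set G))).relIndex L →
        Cfsg.IsPSolvable p (↥(Subgroup.normalizer (H₀ : Set G)) ⧸ L) →
        (∃ y : ↥(Subgroup.normalizer (H₀ : Set G)), QElt q y ∧ y ∉ L) →
        (∀ (R : Sylow p ↥(Subgroup.normalizer (H₀ : Set G))) (T : Subgroup ↥(Subgroup.normalizer (H₀ : Set G))),
            T ≤ R → (R : Subgroup ↥(Subgroup.normalizer (H₀ : Set G))) ≤
              Subgroup.normalizer (T : Set ↥(Subgroup.normalizer (H₀ : Set G))) → ¬ T ≤ L →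
            ∀ y ∈ Subgroup.normalizer (T : Set ↥(Subgroup.normalizer (H₀ : Set G))), QElt q y → y ∈ L) →
        ∃ (R : Sylow p ↥(Subgroup.normalizer (H₀ : Set G))) (X : Subgroup ↥(Subgroup.normalizer (H₀ : Set G))),
          (R : Subgroup ↥(Subgroup.normalizer (H₀ : Set G))) ≤ X ∧ (∃ a b : ℕ, Nat.card X = p ^ a * q ^ b) ∧
          ∃ y ∈ X, QElt q y ∧ y ∉ L)
    (hsol : Cfsg.IsPSolvable p (↥(Subgroup.normalizer (H₀ : Set G)) ⧸
      (Subgroup.centralizer (H₀ : Set G)).subgroupOf (Subgroup.normalizer (H₀ : Set G))))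
    (hA : Aq q H₀)
    (hF2 : ∀ R : Subgroup G, R ≤ Subgroup.normalizer (H₀ : Set G) → IsPGroup p R →
        ¬ p ∣ R.relIndex (Subgroup.normalizer (H₀ : Set G)) →
        ∀ T : Subgroup G, H₀ < T → T ≤ R → R ≤ Subgroup.normalizer (T : Set G) →
          ∀ y ∈ Subgroup.normalizer (T : Set G), QElt q y → y ∈ Subgroup.centralizer (T : Set G)) :
    ∃ X R : Subgroup G, R ≤ X ∧ H₀ ≤ R ∧ X ≤ Subgroup.normalizer (H₀ : Set G) ∧ IsPGroup p R ∧
      (¬ p ∣ R.relIndex (Subgroup.normalizer (H₀ : Set G))) ∧ (∃ a b : ℕ, Nat.card X = p ^ a * q ^ b) ∧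
      ∃ y ∈ X, QElt q y ∧ y ∉ Subgroup.centralizer (H₀ : Set G) := by
  classical
  set N : Subgroup G := Subgroup.normalizer (H₀ : Set G) with hN
  set C : Subgroup G := Subgroup.centralizer (H₀ : Set G) with hC
  have hH₀N : H₀ ≤ N := Subgroup.le_normalizer
  have hCN : C ≤ N := Subgroup.centralizer_le_normalizer _
  set H : Subgroup N := H₀.subgroupOf N with hH
  have hHn : H.Normal := Subgroup.normal_in_normalizer
  have hHp : IsPGroup p H := hH₀.comap_subtype
  have hmemH : ∀ x : N, x ∈ H ↔ (x : G) ∈ H₀ := fun x => Subgroup.mem_subgroupOf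
  -- the centralizer of `H` in `N`
  have hCH : Subgroup.centralizer (H : Set N) = C.subgroupOf N := by
    ext x
    rw [Subgroup.mem_subgroupOf, Subgroup.mem_centralizer_iff, Subgroup.mem_centralizer_iff]
    constructor
    · intro h g hg
      have := h ⟨g, hH₀N hg⟩ ((hmemH _).mpr hg)
      exact congrArg Subtype.val this
    · intro h g hg
      exact Subtype.ext (h g.1 ((hmemH _).mp hg))
  -- Sylow data transported to `G`
  have hRdata : ∀ R : Sylow p N, (R : Subgroup N).map N.subtype ≤ N ∧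
      IsPGroup p ((R : Subgroup N).map N.subtype) ∧
      ¬ p ∣ ((R : Subgroup N).map N.subtype).relIndex N := by
    intro R
    refine ⟨Subgroup.map_subtype_le _, R.isPGroup'.map _, ?_⟩
    have : ((R : Subgroup N).map N.subtype).subgroupOf N = (R : Subgroup N) :=
      Subgroup.comap_map_eq_self_of_injective N.subtype_injective _
    rw [Subgroup.relIndex, this]
    exact R.not_dvd_index
  have hHR : ∀ R : Sylow p N, H ≤ R := fun R => hHp.le_sylow_of_normal R
  -- transport of `hF2` to `N`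
  have hF2' : ∀ (R : Sylow p N) (T : Subgroup N), H < T → T ≤ R →
      (R : Subgroup N) ≤ Subgroup.normalizer (T : Set N) →
      ∀ y ∈ Subgroup.normalizer (T : Set N), QElt q y → y ∈ Subgroup.centralizer (H : Set N) := by
    intro R T hHT hTR hRT y hyT hyq
    obtain ⟨h1, h2, h3⟩ := hRdata R
    have hlt : H₀ < T.map N.subtype := by
      have h0 : H.map N.subtype = H₀ := by
        rw [hH, Subgroup.map_subgroupOf_eq_of_le hH₀N]
      rw [← h0]
      exact (Subgroup.map_lt_map_iff_of_injective N.subtype_injective).mpr hHT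
    have hTR' : T.map N.subtype ≤ (R : Subgroup N).map N.subtype := Subgroup.map_mono hTR
    have hnorm : ∀ z : N, z ∈ Subgroup.normalizer (T : Set N) →
        (z : G) ∈ Subgroup.normalizer ((T.map N.subtype : Subgroup G) : Set G) := by
      intro z hz
      have := Subgroup.le_normalizer_map N.subtype (Subgroup.mem_map_of_mem N.subtype hz)
      simpa using this
    have hRT' : (R : Subgroup N).map N.subtype ≤ Subgroup.normalizer ((T.map N.subtype : Subgroup G) : Set G) := by
      rintro _ ⟨z, hz, rfl⟩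
      exact hnorm z (hRT hz)
    have hy' := hF2 _ h1 h2 h3 _ hlt hTR' hRT' (y : G) (hnorm y hyT) ((qElt_coe_iff y).mpr hyq)
    rw [hCH, Subgroup.mem_subgroupOf]
    exact Subgroup.centralizer_le (by exact_mod_cast hlt.le) hy'
  -- `q`-elements not centralizing `H`
  have hAq : ∃ y : N, QElt q y ∧ y ∉ Subgroup.centralizer (H : Set N) := by
    obtain ⟨y, hyN, hyq, hyC⟩ := hA
    refine ⟨⟨y, hyN⟩, (qElt_coe_iff (⟨y, hyN⟩ : N)).mp hyq, ?_⟩
    rw [hCH, Subgroup.mem_subgroupOf]
    exact hyC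
  have hCHn : (Subgroup.centralizer (H : Set N)).Normal := Subgroup.normal_centralizer
  -- (i) `R ⊓ C_N(H) ≤ H` for every Sylow `R`
  have hi : ∀ R : Sylow p N, (R : Subgroup N) ⊓ Subgroup.centralizer (H : Set N) ≤ H := by
    intro R
    by_contra hcon
    obtain ⟨y, hyq, hyC⟩ := hAq
    refine hyC (hs1 R ?_ y hyq)
    intro z hz hzq
    have hHT : H < H ⊔ ((R : Subgroup N) ⊓ Subgroup.centralizer (H : Set N)) := by
      refine lt_of_le_of_ne le_sup_left ?_
      intro heq
      exact hcon (le_sup_right.trans heq.ge)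
    have hTR : H ⊔ ((R : Subgroup N) ⊓ Subgroup.centralizer (H : Set N)) ≤ R := sup_le (hHR R) inf_le_left
    have hRT : (R : Subgroup N) ≤ Subgroup.normalizer
        ((H ⊔ ((R : Subgroup N) ⊓ Subgroup.centralizer (H : Set N)) : Subgroup N) : Set N) := by
      intro r hr
      have h1 : r ∈ Subgroup.normalizer (H : Set N) :=
        Subgroup.mem_normalizer_iff.mpr (fun h => ⟨fun hh => hHn.conj_mem h hh r,
          fun hh => by simpa [mul_assoc] using hHn.conj_mem _ hh r⁻¹⟩)
      have h2 : r ∈ Subgroup.normalizer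
          (((R : Subgroup N) ⊓ Subgroup.centralizer (H : Set N) : Subgroup N) : Set N) := by
        rw [Subgroup.mem_normalizer_iff]
        intro h
        rw [Subgroup.mem_inf, Subgroup.mem_inf]
        constructor
        · rintro ⟨h1, h2⟩
          exact ⟨(R : Subgroup N).mul_mem ((R : Subgroup N).mul_mem hr h1) ((R : Subgroup N).inv_mem hr),
            hCHn.conj_mem h h2 r⟩
        · rintro ⟨h1, h2⟩
          have e : h = r⁻¹ * (r * h * r⁻¹) * r := by group
          rw [e]
          refine ⟨(R : Subgroup N).mul_mem ((R : Subgroup N).mul_mem ((R : Subgroup N).inv_mem hr) h1) hr, ?_⟩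
          have := hCHn.conj_mem _ h2 r⁻¹
          simpa [mul_assoc] using this
      exact Subgroup.normalizer_inf_normalizer_le_normalizer_sup _ _ (Subgroup.mem_inf.mpr ⟨h1, h2⟩)
    exact hF2' R _ hHT hTR hRT z hz hzq
  -- the subgroup `L`
  set L : Subgroup N := (C ⊔ H₀).subgroupOf N with hL
  have hLeq : L = Subgroup.centralizer (H : Set N) ⊔ H := by
    rw [hL, hCH, hH, Subgroup.subgroupOf_sup hCN hH₀N]
  have hLn : L.Normal := by rw [hLeq]; infer_instance
  have hHL : H ≤ L := by rw [hLeq]; exact le_sup_right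
  have hCL : Subgroup.centralizer (H : Set N) ≤ L := by rw [hLeq]; exact le_sup_left
  have hRL : ∀ R : Sylow p N, (R : Subgroup N) ⊓ L ≤ H := by
    intro R x hx
    obtain ⟨hxR, hxL⟩ := Subgroup.mem_inf.mp hx
    rw [hLeq] at hxL
    obtain ⟨c, hc, h, hh, rfl⟩ := Subgroup.mem_sup_of_normal_right.mp hxL
    have hcR : c ∈ (R : Subgroup N) := by
      have : c = c * h * h⁻¹ := by group
      rw [this]
      exact (R : Subgroup N).mul_mem hxR ((R : Subgroup N).inv_mem (hHR R hh))
    exact H.mul_mem (hi R (Subgroup.mem_inf.mpr ⟨hcR, hc⟩)) hh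
  -- (i') `H` is a Sylow `p`-subgroup of `L`
  have hsyl : ¬ p ∣ H.relIndex L := by
    obtain ⟨P, hP⟩ := (hHp.comap_subtype (K := L)).exists_le_sylow
    obtain ⟨R, hR⟩ := (P.isPGroup'.map L.subtype).exists_le_sylow
    have hPH : (P : Subgroup L) = H.subgroupOf L := by
      refine le_antisymm ?_ hP
      intro x hx
      rw [Subgroup.mem_subgroupOf]
      refine hRL R (Subgroup.mem_inf.mpr ⟨hR ⟨x, hx, rfl⟩, x.2⟩)
    rw [Subgroup.relIndex, ← hPH]
    exact P.not_dvd_index
  -- (ii) `N ⧸ L` is `p`-solvable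
  have hsolL : Cfsg.IsPSolvable p (N ⧸ L) := by
    have hle : C.subgroupOf N ≤ L := by rw [← hCH]; exact hCL
    refine Cfsg.Agent.Lib.Helper24.isPSolvable_of_surjective p
      (QuotientGroup.map (C.subgroupOf N) L (MonoidHom.id N) hle) ?_ hsol
    intro x
    induction x using QuotientGroup.induction_on with
    | H y => exact ⟨QuotientGroup.mk y, rfl⟩
  -- (iii) a `q`-element outside `L`
  have hq : ∃ y : N, QElt q y ∧ y ∉ L := by
    obtain ⟨y, hyq, hyC⟩ := hAq
    refine ⟨y, hyq, fun hyL => hyC ?_⟩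
    rw [hLeq] at hyL
    obtain ⟨c, hc, h, hh, hch⟩ := Subgroup.mem_sup_of_normal_right.mp hyL
    refine mem_of_qElt_mul p q hpq _ y c h hyq hch.symm ?_ ?_ hc
    · exact (Subgroup.mem_centralizer_iff.mp hc h hh).symm
    · obtain ⟨j, hj⟩ := (IsPGroup.iff_orderOf.mp hHp) ⟨h, hh⟩
      exact ⟨j, (Subgroup.orderOf_mk h hh).symm.trans hj⟩
  -- (iv) hypothesis (F) of (CM)
  have hF : ∀ (R : Sylow p N) (T : Subgroup N), T ≤ R →
      (R : Subgroup N) ≤ Subgroup.normalizer (T : Set N) → ¬ T ≤ L →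
      ∀ y ∈ Subgroup.normalizer (T : Set N), QElt q y → y ∈ L := by
    intro R T hTR hRT hTL y hyT hyq
    have hHT : H < H ⊔ T := by
      refine lt_of_le_of_ne le_sup_left ?_
      intro heq
      exact hTL ((le_sup_right.trans heq.ge).trans hHL)
    have hnH : ∀ r : N, r ∈ Subgroup.normalizer (H : Set N) := fun r =>
      Subgroup.mem_normalizer_iff.mpr (fun h => ⟨fun hh => hHn.conj_mem h hh r,
          fun hh => by simpa [mul_assoc] using hHn.conj_mem _ hh r⁻¹⟩)
    have hRT' : (R : Subgroup N) ≤ Subgroup.normalizer ((H ⊔ T : Subgroup N) : Set N) := fun r hr =>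
      Subgroup.normalizer_inf_normalizer_le_normalizer_sup _ _ (Subgroup.mem_inf.mpr ⟨hnH r, hRT hr⟩)
    have hyT' : y ∈ Subgroup.normalizer ((H ⊔ T : Subgroup N) : Set N) :=
      Subgroup.normalizer_inf_normalizer_le_normalizer_sup _ _ (Subgroup.mem_inf.mpr ⟨hnH y, hyT⟩)
    exact hCL (hF2' R (H ⊔ T) hHT (sup_le (hHR R) hTR) hRT' y hyT' hyq)
  -- (v) apply (CM) and map back to `G`
  obtain ⟨R, X, hRX, hXcard, y, hyX, hyq, hyL⟩ := hcm L hHL hsyl hsolL hq hF
  obtain ⟨h1, h2, h3⟩ := hRdata R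
  refine ⟨X.map N.subtype, (R : Subgroup N).map N.subtype, Subgroup.map_mono hRX, ?_,
    Subgroup.map_subtype_le _, h2, h3, ?_, (y : G), Subgroup.mem_map_of_mem _ hyX,
    (qElt_coe_iff y).mpr hyq, ?_⟩
  · intro x hx
    exact ⟨⟨x, hH₀N hx⟩, hHR R ((hmemH _).mpr hx), rfl⟩
  · obtain ⟨a, b, hab⟩ := hXcard
    refine ⟨a, b, ?_⟩
    rw [← hab]
    exact Nat.card_congr (X.equivMapOfInjective N.subtype N.subtype_injective).symm.toEquiv
  · intro hyC
    apply hyL
    apply hCL
    rw [hCH, Subgroup.mem_subgroupOf]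
    exact hyC

end Cfsg.Agent.Lib.Helper16.AUTQCG
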