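/- helper16: B and G section 13, pieces for S1428 (13.4), last case: 13.2(c1) (`p ∈ σ(H)` when
`[M_σ ∩ H, M ∩ H] ≠ 1`) and (D2) (no prime of `τ₂(H)` in the bad configuration). -/
import Mathlib
import Cfsg.Agent.Lib.Helper16.BGPrimE
import Cfsg.Agent.Lib.Helper24.BGRegD
import Cfsg.Agent.Lib.Helper24.BGRegE

set_option autoImplicit false
set_option linter.style.haveILetI false
open scoped commutatorElement

namespace Cfsg.Agent.Lib.Helper16.BGPrim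

open Cfsg.Agent.Lib.Helper2.BGCor (sigmaCore_le primes_card_sigmaCore conj_mem_sigmaCore)
open Cfsg.Agent.Lib.Helper24.BGReg (h17n h18a h23 h24 h16 h17 h18e g1_setup g1_not_centralize
  mem_kappa_of_fixed eq_one_of_pow_coprime exists_elemAb_le_compl normalizer_le_of_unique)

variable {G : Type*} [Group G]

/-- In a group of odd order, a commutator `g⁻¹ h⁻¹ g h` of two elements of `N_G(A)`, `A` elementary
abelian of order `p ^ 2`, whose order is prime to `p` centralizes `A`. -/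
theorem comm_of_commutator_coprime [Finite G] (hodd : Odd (Nat.card G)) {p : ℕ} [Fact p.Prime]
    {A : Subgroup G} (hAe : Cfsg.IsElementaryAbelian p A) (hA2 : Nat.card A = p ^ 2) {g h : G}
    (hg : g ∈ Subgroup.normalizer (A : Set G)) (hh : h ∈ Subgroup.normalizer (A : Set G))
    (hcop : (orderOf (g⁻¹ * h⁻¹ * g * h)).Coprime p) :
    ∀ a ∈ A, (g⁻¹ * h⁻¹ * g * h) * a = a * (g⁻¹ * h⁻¹ * g * h) := by
  have hpp : p.Prime := Fact.out
  have hp2 : p ≠ 2 := by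
    rintro rfl
    have h2 : 2 ∣ Nat.card G :=
      (dvd_pow_self 2 (by norm_num)).trans (hA2 ▸ Subgroup.card_subgroup_dvd_card A)
    exact (Nat.not_even_iff_odd.mpr hodd) (even_iff_two_dvd.mpr h2)
  set φ := A.normalizerMonoidHom with hφ
  have hΛodd : Odd (Nat.card φ.range) := by
    have h1 : Nat.card φ.range ∣ Nat.card (Subgroup.normalizer (A : Set G)) :=
      Subgroup.card_range_dvd φ
    have h2 : Nat.card (Subgroup.normalizer (A : Set G)) ∣ Nat.card G :=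
      Subgroup.card_subgroup_dvd_card _
    exact Odd.of_dvd_nat hodd (h1.trans h2)
  have hcomm : ∀ a b : A, a * b = b * a := fun a b => hAe.1.is_comm.comm a b
  have hexp : ∀ a : A, a ^ p = 1 := fun a => Subtype.ext (by simpa using hAe.2 a a.2)
  have key := Cfsg.Agent.Lib.Helper17.commutator_pow_of_odd_elemAb p hp2 hcomm hexp
    (by rw [hA2]) φ.range hΛodd
  obtain ⟨g', hg'def⟩ : ∃ g' : Subgroup.normalizer (A : Set G), g' = ⟨g, hg⟩ := ⟨_, rfl⟩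
  obtain ⟨h', hh'def⟩ : ∃ h' : Subgroup.normalizer (A : Set G), h' = ⟨h, hh⟩ := ⟨_, rfl⟩
  obtain ⟨c, hcdef⟩ : ∃ c : Subgroup.normalizer (A : Set G), c = ⁅g'⁻¹, h'⁻¹⁆ := ⟨_, rfl⟩
  have hcval : (c : G) = g⁻¹ * h⁻¹ * g * h := by
    rw [hcdef, hg'def, hh'def, commutatorElement_def]
    simp
  have h1 : φ c ∈ ⁅φ.range, φ.range⁆ := by
    rw [hcdef, map_commutatorElement]
    exact Subgroup.commutator_mem_commutator ⟨_, rfl⟩ ⟨_, rfl⟩
  have h2 : φ c ^ p = 1 := key _ h1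
  have h3 : φ c ^ orderOf (c : G) = 1 := by
    rw [← map_pow]
    have : c ^ orderOf (c : G) = 1 := by
      apply Subtype.ext
      rw [Subgroup.coe_pow, pow_orderOf_eq_one, Subgroup.coe_one]
    rw [this, map_one]
  have h4 : φ c = 1 := eq_one_of_pow_coprime (hcval ▸ hcop) h3 h2
  intro a ha
  have e1 := congrArg (fun f : MulAut A => ((f ⟨a, ha⟩ : A) : G)) h4
  simp only [hφ, Subgroup.normalizerMonoidHom_apply_apply_coe, MulAut.one_apply] at e1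
  rw [hcval] at e1
  calc (g⁻¹ * h⁻¹ * g * h) * a
      = (g⁻¹ * h⁻¹ * g * h) * a * (g⁻¹ * h⁻¹ * g * h)⁻¹ * (g⁻¹ * h⁻¹ * g * h) := by group
    _ = a * (g⁻¹ * h⁻¹ * g * h) := by rw [e1]

/-- **B & G 13.2(c), first half** (for `|P| = p`): `p ∉ σ(M)`, `M` of `p`-rank one, `P ≤ M` of order
`p`, `H` maximal containing `N_G(P)`; if `M ∩ H` does not centralize `M_σ ∩ H` then `p ∈ σ(H)`. -/
theorem thm13_2_c1 [Finite G] (hG : Cfsg.IsMinSimpleOddOrder G)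
    {M H : Subgroup G} (hM : IsCoatom M) (hH : IsCoatom H) {p : ℕ} [Fact p.Prime]
    (hp : p ∉ Cfsg.sigma M) (hrk : Cfsg.PRankLE p 1 ↥M) {P : Subgroup G} (hPM : P ≤ M)
    (hPc : Nat.card P = p) (hNH : Subgroup.normalizer (P : Set G) ≤ H)
    {x y : G} (hx : x ∈ Cfsg.sigmaCore M ⊓ H) (hy : y ∈ M ⊓ H) (hxy : x * y ≠ y * x) :
    p ∈ Cfsg.sigma H := by
  have hpp : p.Prime := Fact.out
  haveI := hG.2.1
  have hPp : IsPGroup p P := IsPGroup.of_card (n := 1) (by rw [hPc, pow_one])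
  have hP1 : P ≠ ⊥ := by
    intro h
    rw [h, Subgroup.card_bot] at hPc
    exact hpp.ne_one hPc.symm
  obtain ⟨hnc, hor, -⟩ := thm13_2_zero hG hH hp hrk hPp hP1 hNH
  rcases hor with h | hτ
  · exact h
  exfalso
  have hTeq := thm13_2_c hG (h17n hG) (h18a hG) (h23 hG) (h24 hG) hM hH hp hrk hPp hP1 hPM hNH
  have hx1 : x ≠ 1 := by
    rintro rfl
    exact hxy (by rw [one_mul, mul_one])
  -- `p ∈ κ(M)`
  obtain ⟨t, htP, hto⟩ : ∃ t ∈ P, orderOf t = p := by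
    haveI : Fact (Nat.card P).Prime := ⟨hPc ▸ hpp⟩
    obtain ⟨t, ht⟩ := exists_prime_orderOf_dvd_card' (G := ↥P) (Nat.card P) dvd_rfl
    exact ⟨t, t.2, by rw [← Subgroup.orderOf_coe] at ht; rw [ht, hPc]⟩
  have hxT : x ∈ Cfsg.sigmaCore M ⊓ Subgroup.centralizer (P : Set G) := hTeq ▸ hx
  have htx : t * x = x * t := Subgroup.mem_centralizer_iff.mp hxT.2 t htP
  have hpκ : p ∈ Cfsg.kappa M := mem_kappa_of_fixed hG hpp hp hrk (hPM htP) hto hxT.1 hx1 htx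
  obtain ⟨-, -, E, A, hE, hTE, hPA, hAE, hAe, hA2⟩ := g1_setup hG hM hH hpκ hPc hNH hτ
  obtain ⟨⟨hEA, -⟩, -, -⟩ := Cfsg.Agent.S1418.result hG H hH E hE p hτ A ⟨hAE, hAe, hA2⟩
  -- decompose `y = e * s`
  obtain ⟨e, heE, s, hs, hyes⟩ := hE.2.2.2 y hy.2
  have hxE : x ∈ E := hTE hxT
  -- `y⁻¹ x y ∈ T`
  have hconjT : y⁻¹ * x * y ∈ Cfsg.sigmaCore M ⊓ H := by
    refine Subgroup.mem_inf.mpr ⟨?_, H.mul_mem (H.mul_mem (H.inv_mem hy.2) hx.2) hy.2⟩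
    have := conj_mem_sigmaCore (M.inv_mem hy.1) hx.1
    simpa using this
  have hconjE : y⁻¹ * x * y ∈ E := hTE (hTeq ▸ hconjT)
  -- `x' = e⁻¹ x e`
  have hx'E : e⁻¹ * x * e ∈ E := E.mul_mem (E.mul_mem (E.inv_mem heE) hxE) heE
  have hyconj : y⁻¹ * x * y = s⁻¹ * (e⁻¹ * x * e) * s := by
    rw [hyes]; group
  have hmemσ : (e⁻¹ * x * e)⁻¹ * (s⁻¹ * (e⁻¹ * x * e) * s) ∈ Cfsg.sigmaCore H := by
    have h1 : (e⁻¹ * x * e)⁻¹ * s⁻¹ * (e⁻¹ * x * e) ∈ Cfsg.sigmaCore H := by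
      have := conj_mem_sigmaCore (hE.1 (E.inv_mem hx'E)) ((Cfsg.sigmaCore H).inv_mem hs)
      simpa [mul_assoc] using this
    have h2 := (Cfsg.sigmaCore H).mul_mem h1 hs
    have e2 : (e⁻¹ * x * e)⁻¹ * s⁻¹ * (e⁻¹ * x * e) * s =
        (e⁻¹ * x * e)⁻¹ * (s⁻¹ * (e⁻¹ * x * e) * s) := by group
    rw [e2] at h2
    exact h2
  have hmemE : (e⁻¹ * x * e)⁻¹ * (s⁻¹ * (e⁻¹ * x * e) * s) ∈ E :=
    E.mul_mem (E.inv_mem hx'E) (hyconj ▸ hconjE)
  have hone : (e⁻¹ * x * e)⁻¹ * (s⁻¹ * (e⁻¹ * x * e) * s) = 1 := by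
    have : (e⁻¹ * x * e)⁻¹ * (s⁻¹ * (e⁻¹ * x * e) * s) ∈ E ⊓ Cfsg.sigmaCore H :=
      Subgroup.mem_inf.mpr ⟨hmemE, hmemσ⟩
    rw [hE.2.2.1, Subgroup.mem_bot] at this
    exact this
  have hyconj' : y⁻¹ * x * y = e⁻¹ * x * e := by
    rw [hyconj]
    have := inv_mul_eq_one.mp hone
    exact this.symm
  -- the commutator `c = x⁻¹ e⁻¹ x e`
  obtain ⟨c, hcdef⟩ : ∃ c : G, c = x⁻¹ * e⁻¹ * x * e := ⟨_, rfl⟩
  have hc1 : c ≠ 1 := by
    intro h
    apply hxy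
    have h1 : e⁻¹ * x * e = x := by
      have : x⁻¹ * (e⁻¹ * x * e) = 1 := by rw [← h, hcdef]; group
      exact (inv_mul_eq_one.mp this).symm
    rw [← hyconj'] at h1
    calc x * y = y * (y⁻¹ * x * y) := by group
      _ = y * x := by rw [h1]
  have hcT : c ∈ Cfsg.sigmaCore M ⊓ Subgroup.centralizer (P : Set G) := by
    have h1 : c = x⁻¹ * (y⁻¹ * x * y) := by rw [hyconj', hcdef]; group
    rw [h1]
    exact Subgroup.mul_mem _ (Subgroup.inv_mem _ hxT) (hTeq ▸ hconjT)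
  have hccop : (orderOf c).Coprime p := by
    rw [Nat.coprime_comm, Nat.Prime.coprime_iff_not_dvd hpp]
    intro hd
    apply hp
    apply primes_card_sigmaCore M p hpp
    have h1 := orderOf_dvd_natCard (⟨c, hcT.1⟩ : ↥(Cfsg.sigmaCore M))
    rw [Subgroup.orderOf_mk] at h1
    exact hd.trans h1
  have hcA : ∀ a ∈ A, c * a = a * c := by
    rw [hcdef]
    exact comm_of_commutator_coprime hG.1 hAe hA2 (hEA hxE) (hEA heE) (hcdef ▸ hccop)
  obtain ⟨q, k, hq, -, hqk⟩ := exists_pow_orderOf_prime hc1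
  obtain ⟨Y, hYdef⟩ : ∃ Y : Subgroup G, Y = Subgroup.zpowers (c ^ k) := ⟨_, rfl⟩
  have hYc : Nat.card Y = q := by rw [hYdef, Nat.card_zpowers, hqk]
  have hYT : Y ≤ Cfsg.sigmaCore M ⊓ Subgroup.centralizer (P : Set G) := by
    rw [hYdef]
    exact Subgroup.zpowers_le.mpr (Subgroup.pow_mem _ hcT k)
  have hYA : ∀ z ∈ Y, ∀ a ∈ A, z * a = a * z := by
    intro z hz a ha
    rw [hYdef] at hz
    obtain ⟨i, rfl⟩ := Subgroup.mem_zpowers_iff.mp hz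
    have h1 : Commute c a := hcA a ha
    exact ((h1.pow_left k).zpow_left i).eq
  exact g1_not_centralize hG hM hH hpκ hPM hPc hτ hE hTE hPA hAE hAe hA2 hYT hq hYc hYA

/-- **(D2)**: `M ≠ H` maximal, `q ∈ σ(M) ∩ τ₂(H)`, `X ≤ M ∩ H` of order `q` centralizing a
non-identity element of `H_σ`.  Then `H_σ ∩ M = 1`. -/
theorem d2 [Finite G] (hG : Cfsg.IsMinSimpleOddOrder G)
    {M H : Subgroup G} (hM : IsCoatom M) (hH : IsCoatom H) (hHM : H ≠ M) {q : ℕ} [Fact q.Prime]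
    (hqM : q ∈ Cfsg.sigma M) (hqH : q ∈ Cfsg.tau2 H) {X : Subgroup G} (hXM : X ≤ M) (hXH : X ≤ H)
    (hXc : Nat.card X = q) {z : G} (hz : z ∈ Cfsg.sigmaCore H) (hz1 : z ≠ 1)
    (hzX : ∀ u ∈ X, u * z = z * u) : Cfsg.sigmaCore H ⊓ M = ⊥ := by
  have hqp : q.Prime := Fact.out
  haveI := hG.2.1
  have hXq : IsPGroup q X := IsPGroup.of_card (n := 1) (by rw [hXc, pow_one])
  have hX1 : X ≠ ⊥ := by
    intro h
    rw [h, Subgroup.card_bot] at hXc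
    exact hqp.ne_one hXc.symm
  obtain ⟨hHall, -, -⟩ := Cfsg.Agent.S1350.result hG H hH
  obtain ⟨E0, hE0⟩ := Cfsg.Agent.Lib.Helper2.BGCor.exists_compl_sigmaCore hHall
  obtain ⟨g, hg, hgE⟩ := Cfsg.Agent.Lib.Helper2.BGCor.exists_conj_le_compl hG hH hHall hE0 hXH (by
    intro r hr hd
    rw [hXc] at hd
    rw [(Nat.prime_dvd_prime_iff_eq hr hqp).mp hd]
    exact hqH.2.1)
  obtain ⟨E, hEdef⟩ : ∃ E : Subgroup G, E = E0.map (MulAut.conj g⁻¹).toMonoidHom := ⟨_, rfl⟩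
  have hE : Cfsg.IsComplIn E (Cfsg.sigmaCore H) H :=
    hEdef ▸ Cfsg.Agent.Lib.Helper23.BGY.isComplIn_conj
      (Cfsg.Agent.Lib.Helper23.BGY.le_normalizer_sigmaCore H) hE0 (H.inv_mem hg)
  have hXE : X ≤ E := hEdef ▸ Cfsg.Agent.Lib.Helper8.map_conj_le_iff.mp hgE
  obtain ⟨A, hAE, hAe, hA2⟩ := exists_elemAb_le_compl hG hH hE hqH
  obtain ⟨⟨-, hXA⟩, -, huniq⟩ := Cfsg.Agent.S1418.result hG H hH E hE q hqH A ⟨hAE, hAe, hA2⟩
  have hne : Cfsg.sigmaCore H ⊓ Subgroup.centralizer (X : Set G) ≠ ⊥ := by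
    intro h
    apply hz1
    have hmem : z ∈ Cfsg.sigmaCore H ⊓ Subgroup.centralizer (X : Set G) := by
      refine Subgroup.mem_inf.mpr ⟨hz, ?_⟩
      rw [Subgroup.mem_centralizer_iff]
      intro u hu
      exact hzX u hu
    rw [h, Subgroup.mem_bot] at hmem
    exact hmem
  obtain ⟨-, hu⟩ := huniq X (hXA X hXE hXc) hXc hne
  have hNX : Subgroup.normalizer (X : Set G) ≤ H := normalizer_le_of_unique hX1 hXH hH hu
  exact (Cfsg.Agent.Lib.Helper2.BGCor.thm12_14fg hG (h16 hG) (h17 hG) (h17n hG) (h18e hG) (h24 hG)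
    hM hH hHM hqM hqH.2.1 hXq hX1 hXM hNX).2.2.1

end Cfsg.Agent.Lib.Helper16.BGPrim
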