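/- helper16: B and G section 13, S1428 (13.4), last case: the reduction "in the bad configuration
with `p ∈ β(H)`, every prime `q` of `[C_{M_σ}(P), R]` lies in `σ(H)`" ((D2) + (D3β)). -/
import Mathlib
import Cfsg.Agent.Lib.Helper16.BGPrimF
import Cfsg.Agent.Lib.Helper27.BG134F

set_option autoImplicit false
set_option linter.style.haveILetI false
open scoped commutatorElement

namespace Cfsg.Agent.Lib.Helper16.BGPrim

open Cfsg.Agent.Lib.Helper2.BGCor (sigmaCore_le primes_card_sigmaCore conj_mem_sigmaCore)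
open Cfsg.Agent.Lib.Helper24.BGReg (h17n h18a h23 h24 h16 h17 h18e)

variable {G : Type*} [Group G]

/-- **bc_reduction** ((D2) + (D3β)): `M ≠ H` maximal, `P ≤ M` of prime order `p` with
`N_G(P) ≤ H` and `p ∈ β(H)`; `R ≤ C_G(P)` of prime order `r ∈ τ₁(H)`; `Y ≠ 1` a `q`-subgroup of
`C_{M_σ}(P)` normalized by `R` with `C_Y(R) = 1`.  Then `q ∈ σ(H)`. -/
theorem bc_reduction [Finite G] (hG : Cfsg.IsMinSimpleOddOrder G)
    {M H : Subgroup G} (hM : IsCoatom M) (hH : IsCoatom H) (hHM : H ≠ M)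
    {P R Y : Subgroup G} {q : ℕ} [Fact q.Prime]
    (hPM : P ≤ M) (hPp : (Nat.card P).Prime) (hNP : Subgroup.normalizer (P : Set G) ≤ H)
    (hpβ : Nat.card P ∈ Cfsg.beta H)
    (hRp : (Nat.card R).Prime) (hrH : Nat.card R ∈ Cfsg.tau1 H)
    (hYσ : Y ≤ Cfsg.sigmaCore M) (hYq : IsPGroup q Y) (hY1 : Y ≠ ⊥)
    (hPY : Y ≤ Subgroup.centralizer (P : Set G)) (hPR : R ≤ Subgroup.centralizer (P : Set G))
    (hRY : R ≤ Subgroup.normalizer (Y : Set G))
    (hYR : Y ⊓ Subgroup.centralizer (R : Set G) = ⊥) :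
    q ∈ Cfsg.sigma H := by
  classical
  by_contra hqH
  have hq : q.Prime := Fact.out
  haveI : IsSimpleGroup G := hG.2.1
  have hU : Cfsg.Agent.Lib.Helper1.BGX.UT G :=
    fun K hK h2 h3 => Cfsg.Agent.S1403.result hG K hK h2 h3
  have hCPH : Subgroup.centralizer (P : Set G) ≤ H :=
    (Subgroup.centralizer_le_normalizer _).trans hNP
  have hYH : Y ≤ H := hPY.trans hCPH
  have hRH : R ≤ H := hPR.trans hCPH
  have hPH : P ≤ H := Subgroup.le_normalizer.trans hNP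
  have hYM : Y ≤ M := hYσ.trans (sigmaCore_le M)
  obtain ⟨p, hpdef⟩ : ∃ p : ℕ, p = Nat.card P := ⟨_, rfl⟩
  haveI : Fact p.Prime := ⟨hpdef ▸ hPp⟩
  have hPpg : IsPGroup p P := IsPGroup.of_card (n := 1) (by rw [pow_one, hpdef])
  have hpα : Nat.card P ∈ Cfsg.alpha H := hpβ.1
  have hpσ : p ∈ Cfsg.sigma H :=
    hpdef ▸ Cfsg.Agent.Lib.Helper1.BGX.alpha_subset_sigma hG hU hH hpα
  have hPσ : P ≤ Cfsg.sigmaCore H := le_sigmaCore_of_isPGroup hG hH hpσ hPpg hPH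
  have hP1 : P ≠ ⊥ := by
    intro h
    rw [h, Subgroup.card_bot] at hPp
    exact Nat.not_prime_one hPp
  -- `H_σ ∩ M ≠ 1`
  have hne : Cfsg.sigmaCore H ⊓ M ≠ ⊥ := by
    intro h
    apply hP1
    rw [eq_bot_iff, ← h]
    exact le_inf hPσ hPM
  -- `q ∈ σ(M)`, `q ∣ |Y|`
  obtain ⟨y, hy⟩ : ∃ y : ↥Y, orderOf y = q := by
    obtain ⟨k, hk⟩ := IsPGroup.iff_card.mp hYq
    have hk0 : k ≠ 0 := by
      rintro rfl
      rw [pow_zero] at hk
      exact hY1 (Subgroup.card_eq_one.mp hk)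
    exact exists_prime_orderOf_dvd_card' q (hk ▸ dvd_pow_self q hk0)
  have hqdY : q ∣ Nat.card Y := hy ▸ orderOf_dvd_natCard y
  have hqM : q ∈ Cfsg.sigma M :=
    primes_card_sigmaCore M q hq (hqdY.trans (Subgroup.card_dvd_of_le hYσ))
  -- rank
  by_cases hr1 : Cfsg.PRankLE q 1 ↥H
  swap
  · -- `q ∈ τ₂(H)`: (D2)
    have hτ := Cfsg.Agent.Lib.Helper23.BGY.mem_tau2_of_not_rank_one hG hH hq hqH hr1
    obtain ⟨X, hXdef⟩ : ∃ X : Subgroup G, X = Subgroup.zpowers (y : G) := ⟨_, rfl⟩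
    have hXc : Nat.card X = q := by
      rw [hXdef, Nat.card_zpowers, Subgroup.orderOf_coe, hy]
    have hXY : X ≤ Y := by
      rw [hXdef]; exact Subgroup.zpowers_le.mpr y.2
    obtain ⟨z, hz⟩ : ∃ z : ↥P, orderOf z = Nat.card P := by
      haveI : Fact (Nat.card P).Prime := ⟨hPp⟩
      exact exists_prime_orderOf_dvd_card' (Nat.card P) dvd_rfl
    have hz1 : (z : G) ≠ 1 := by
      intro h
      have h2 : z = 1 := Subtype.ext h
      rw [h2, orderOf_one] at hz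
      exact Nat.not_prime_one (hz ▸ hPp)
    have hzX : ∀ u ∈ X, u * (z : G) = (z : G) * u := by
      intro u hu
      exact (Subgroup.mem_centralizer_iff.mp (hPY (hXY hu)) z z.2).symm
    exact hne (d2 hG hM hH hHM hqM hτ (hXY.trans hYM) (hXY.trans hYH) hXc (hPσ z.2) hz1 hzX)
  -- `q ∈ τ₁(H) ∪ τ₃(H)`: (D3β)
  have hqα : q ∉ Cfsg.alpha H := by
    intro h
    exact hqH (Cfsg.Agent.Lib.Helper1.BGX.alpha_subset_sigma hG hU hH h)
  have hrα : Nat.card R ∉ Cfsg.alpha H := fun h =>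
    hrH.2.1 (Cfsg.Agent.Lib.Helper1.BGX.alpha_subset_sigma hG hU hH h)
  have hnuY : ¬ Cfsg.InUniqueMaximal (H ⊓ Subgroup.centralizer (Y : Set G)) := by
    rintro ⟨N, ⟨-, -⟩, hNu⟩
    have hNH : N = H := (hNu H ⟨hH, inf_le_left⟩).symm
    have hYtop : Y ≠ ⊤ := fun h => hM.1 (top_le_iff.mp (h ▸ hYM))
    obtain ⟨L, hL, hNL⟩ := Cfsg.Agent.Lib.Helper17.BGU.exists_coatom_ge
      (Cfsg.Agent.Lib.Helper17.BGU.normalizer_ne_top hY1 hYtop)
    have hLH : L = H := by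
      rw [← hNH]
      exact hNu L ⟨hL, inf_le_right.trans ((Subgroup.centralizer_le_normalizer _).trans hNL)⟩
    rw [hLH] at hNL
    exact hne (Cfsg.Agent.Lib.Helper2.BGCor.thm12_14fg hG (h16 hG) (h17 hG) (h17n hG) (h18e hG)
      (h24 hG) hM hH hHM hqM hqH hYq hY1 hYM hNL).2.2.1
  have hR1 : R ≠ ⊥ := by
    intro h
    rw [h, Subgroup.card_bot] at hRp
    exact Nat.not_prime_one hRp
  have hRtop : R ≠ ⊤ := by
    intro h
    rw [h] at hRH
    exact hH.1 (eq_top_iff.mpr hRH)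
  obtain ⟨L, hL, hNL⟩ := Cfsg.Agent.Lib.Helper17.BGU.exists_coatom_ge
    (Cfsg.Agent.Lib.Helper17.BGU.normalizer_ne_top hR1 hRtop)
  haveI : Fact (Nat.card R).Prime := ⟨hRp⟩
  have hRpg : IsPGroup (Nat.card R) R := IsPGroup.of_card (n := 1) (by rw [pow_one])
  have h0 := thm13_2_zero hG (M := H) (H := L) hL hrH.2.1 hrH.2.2.2.2 hRpg hR1 hNL
  have hLH : L ≠ H := by
    intro h
    apply h0.1 1
    rw [Cfsg.Agent.Lib.Helper8.map_conj_one]
    exact h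
  have hnuR : ¬ Cfsg.InUniqueMaximal (H ⊓ Subgroup.centralizer (R : Set G)) :=
    Cfsg.Agent.Lib.Helper27.BG134.not_inUniqueMaximal_of_le hH hL hLH inf_le_left
      (inf_le_right.trans ((Subgroup.centralizer_le_normalizer _).trans hNL))
  exact Cfsg.Agent.Lib.Helper27.BG134.hside hG hH hPH hRH hYH hq hPp hRp hpα hrα hYq hqα hPY hPR
    hRY hYR hY1 hnuY hnuR

end Cfsg.Agent.Lib.Helper16.BGPrim
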