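/-
helper16: B&G section 16 (types I-V), part A.  Basic consequences of the type-P data
`Cfsg.IsTypePWith M W₁ U W₂` for a maximal subgroup `M` of a minimal simple group of odd order:
`π(W₁) ⊆ κ(M)`, hence `K ≠ 1` in every standard factorisation of `M`; conjugates of standard
factorisations; `M_F` is a Hall subgroup of `G`.
-/
import Mathlib
import Cfsg.Agent.Lib.Helper16.BGPrimD
import Cfsg.Agent.Lib.Helper16.StabChain
import Cfsg.Agent.Lib.Helper8.BGEx1
import Cfsg.Agent.Lib.Helper9.TypeP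
import Cfsg.Agent.Lib.Helper9.BG144B
import Cfsg.Agent.Lib.Helper24.BGBeta4
import Cfsg.Agent.Lib.Helper24.BGRegE
import Cfsg.Agent.Lib.Helper27.BGConjA
import Cfsg.Agent.S1350
import Cfsg.Agent.S1351
import Cfsg.Agent.S1352

set_option autoImplicit false
set_option linter.unusedSectionVars false
set_option linter.unusedVariables false
set_option linter.style.haveILetI false

namespace Cfsg.Agent.Lib.Helper16.BGTy

open Cfsg Subgroup
open Cfsg.Agent.Lib.Helper8 (mem_map_conj conj_mem_map_conj card_map_conj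
  mem_normalizer_iff_map_conj)
open Cfsg.Agent.Lib.Helper8.BGEx (cj cj_eq_self_of_mem cj_mono cj_inf normalizer_cj)

universe u

variable {G : Type u} [Group G]

/-- complements inside `M` are symmetric. -/
theorem isComplIn_symm {A B M : Subgroup G} (h : Cfsg.IsComplIn A B M) : Cfsg.IsComplIn B A M := by
  obtain ⟨hA, hB, hinf, hprod⟩ := h
  refine ⟨hB, hA, by rw [inf_comm]; exact hinf, fun m hm => ?_⟩
  obtain ⟨a, ha, b, hb, e⟩ := hprod m⁻¹ (M.inv_mem hm)
  refine ⟨b⁻¹, B.inv_mem hb, a⁻¹, A.inv_mem ha, ?_⟩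
  rw [← mul_inv_rev, ← e, inv_inv]

/-- `M = A ⊔ B` for complements. -/
theorem isComplIn_sup_eq {A B M : Subgroup G} (h : Cfsg.IsComplIn A B M) : A ⊔ B = M := by
  obtain ⟨hA, hB, hinf, hprod⟩ := h
  apply le_antisymm (sup_le hA hB)
  intro m hm
  obtain ⟨a, ha, b, hb, rfl⟩ := hprod m hm
  exact Subgroup.mul_mem _ (Subgroup.mem_sup_left ha) (Subgroup.mem_sup_right hb)

theorem cj_sup (g : G) (Y Z : Subgroup G) : cj g (Y ⊔ Z) = cj g Y ⊔ cj g Z :=
  Subgroup.map_sup _ _ _

theorem cj_bot (g : G) : cj g (⊥ : Subgroup G) = ⊥ := Subgroup.map_bot _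

variable [Finite G] {M W₁ U W₂ : Subgroup G}

/-- In type-P data, `|W₁|` is coprime to `|M'|`. -/
theorem typeP_coprime_W1 (hP : Cfsg.IsTypePWith M W₁ U W₂) :
    (Nat.card W₁).Coprime (Nat.card ↥⁅M, M⁆) := by
  have h1 := Cfsg.Agent.Lib.Helper9.isComplIn_card_mul_card hP.W₁_compl
  have h2 := Cfsg.Agent.Lib.Helper9.card_eq_card_mul_relIndex hP.W₁_compl.2.1
  have h3 : Nat.card ↥⁅M, M⁆ = W₁.relIndex M := by
    have hpos : 0 < Nat.card W₁ := Nat.card_pos
    apply Nat.eq_of_mul_eq_mul_left hpos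
    rw [← h2, ← h1, mul_comm]
  rw [h3]
  exact hP.W₁_hall

/-- In type-P data, every prime divisor of `|W₁|` lies in `κ(M)`. -/
theorem typeP_mem_kappa (hG : Cfsg.IsMinSimpleOddOrder G) (hM : IsCoatom M)
    (hP : Cfsg.IsTypePWith M W₁ U W₂) {p : ℕ} (hp : p.Prime) (hpW : p ∣ Nat.card W₁) :
    p ∈ Cfsg.kappa M := by
  haveI : Fact p.Prime := ⟨hp⟩
  have hcop := typeP_coprime_W1 hP
  have hW₁M : W₁ ≤ M := hP.W₁_compl.2.1
  have hpM : p ∣ Nat.card M := hpW.trans (Subgroup.card_dvd_of_le hW₁M)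
  have hσM' : Cfsg.sigmaCore M ≤ ⁅M, M⁆ :=
    Cfsg.Agent.Lib.Helper24.BGBeta.sigmaCore_le_commutator hG (Cfsg.Agent.Lib.Helper16.BGPrim.ut hG) hM
  obtain ⟨⟨hσle, hσpr, hσidx⟩, -, -⟩ := Cfsg.Agent.S1350.result hG M hM
  -- `p ∉ σ(M)`
  have hpσ : p ∉ Cfsg.sigma M := by
    intro hmem
    have h1 : p ∣ Nat.card (Cfsg.sigmaCore M) := by
      have h2 := Cfsg.Agent.Lib.Helper9.card_eq_card_mul_relIndex hσle
      rw [h2] at hpM
      rcases (Nat.Prime.dvd_mul hp).mp hpM with h | h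
      · exact h
      · exact absurd h (hσidx p hp hmem)
    have h3 : p ∣ Nat.card ↥⁅M, M⁆ := h1.trans (Subgroup.card_dvd_of_le hσM')
    exact hp.one_lt.ne' (Nat.eq_one_of_dvd_coprimes hcop hpW h3)
  -- `p`-rank at most one
  have hsolv : Group.IsSolvable ↥M := hG.2.2.2 M hM.1
  have hrk : Cfsg.PRankLE p 1 ↥M := by
    intro A hAc hAp
    obtain ⟨m, hm, hle⟩ := Cfsg.Agent.Lib.Helper27.BGConj.exists_conj_le_of_pi
      {q | q ∣ Nat.card W₁} (L := M) (H := W₁) (Y := A.map M.subtype) hsolv hW₁M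
      (Subgroup.map_subtype_le A)
      (by
        intro q hq hqd
        have hAP : IsPGroup p ↥(A.map M.subtype) := by
          intro x
          refine ⟨1, ?_⟩
          obtain ⟨a, ha, hax⟩ := x.2
          apply Subtype.ext
          rw [pow_one, Subgroup.coe_pow, ← hax, Subgroup.coe_one, ← map_pow, hAp a ha, map_one]
        obtain ⟨k, hk⟩ := IsPGroup.iff_card.mp hAP
        rw [hk] at hqd
        have := (Nat.prime_dvd_prime_iff_eq hq hp).mp (hq.dvd_of_dvd_pow hqd)
        rw [this]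
        exact hpW)
      (by
        intro q hq hqd hqr
        exact hq.one_lt.ne' (Nat.eq_one_of_dvd_coprimes hP.W₁_hall hqd hqr))
    -- the conjugate is a subgroup of the cyclic group `W₁` of exponent `p`
    have hcard : Nat.card A = Nat.card ↥((A.map M.subtype).map (MulAut.conj m).toMonoidHom) := by
      rw [card_map_conj, Subgroup.card_map_of_injective M.subtype_injective]
    rw [hcard, pow_one]
    haveI : IsCyclic ↥W₁ := hP.W₁_cyclic
    haveI : IsCyclic ↥(((A.map M.subtype).map (MulAut.conj m).toMonoidHom).subgroupOf W₁) :=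
      Subgroup.isCyclic _
    have hc2 : Nat.card ↥(((A.map M.subtype).map (MulAut.conj m).toMonoidHom).subgroupOf W₁) =
        Nat.card ↥((A.map M.subtype).map (MulAut.conj m).toMonoidHom) :=
      Cfsg.Agent.Lib.Helper1.card_subgroupOf_of_le hle
    rw [← hc2]
    have hexp : ∀ x : ↥(((A.map M.subtype).map (MulAut.conj m).toMonoidHom).subgroupOf W₁),
        x ^ p = 1 := by
      intro x
      have hx : ((x : ↥W₁) : G) ∈ (A.map M.subtype).map (MulAut.conj m).toMonoidHom :=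
        Subgroup.mem_subgroupOf.mp x.2
      obtain ⟨y, ⟨a, ha, hay⟩, hyx⟩ := hx
      apply Subtype.ext
      apply Subtype.ext
      rw [Subgroup.coe_pow, Subgroup.coe_pow, ← hyx, ← map_pow, ← hay, ← map_pow, hAp a ha]
      simp
    classical
    haveI : Fintype ↥(((A.map M.subtype).map (MulAut.conj m).toMonoidHom).subgroupOf W₁) :=
      Fintype.ofFinite _
    have h5 := IsCyclic.card_pow_eq_one_le
      (α := ↥(((A.map M.subtype).map (MulAut.conj m).toMonoidHom).subgroupOf W₁)) hp.pos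
    have h6 : (Finset.univ.filter (fun a :
        ↥(((A.map M.subtype).map (MulAut.conj m).toMonoidHom).subgroupOf W₁) => a ^ p = 1)) =
        Finset.univ := by
      apply Finset.filter_true_of_mem
      intro x _
      exact hexp x
    rw [h6, Finset.card_univ, ← Nat.card_eq_fintype_card] at h5
    exact h5
  -- an element of order `p` of `W₁` centralizing a non-identity element of `W₂ ≤ M_σ`
  obtain ⟨x₀, hx₀⟩ := exists_prime_orderOf_dvd_card' (G := ↥W₁) p hpW
  obtain ⟨hW₁ne, hW₂ne, hW12, hcomm, -, -⟩ := hP.selfNormalizing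
  obtain ⟨y₀, hy₀W, hy₀1⟩ := (Subgroup.ne_bot_iff_exists_ne_one (H := W₂)).mp hW₂ne |>.imp
    (fun y hy => hy) |> fun ⟨y, hy⟩ => (⟨(y : G), y.2, fun h => hy (Subtype.ext h)⟩ :
      ∃ y₀ : G, y₀ ∈ W₂ ∧ y₀ ≠ 1)
  have hW₂σ : W₂ ≤ Cfsg.sigmaCore M :=
    (hP.W₂_le.trans inf_le_left).trans (Cfsg.Agent.Lib.Helper9.BG144.fittingHallOf_le_sigmaCore hG hM)
  exact Cfsg.Agent.Lib.Helper24.BGReg.mem_kappa_of_fixed hG hp hpσ hrk (hW₁M x₀.2)
    (by rw [← hx₀, Subgroup.orderOf_coe]) (hW₂σ hy₀W) hy₀1 (hcomm _ x₀.2 _ hy₀W)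

/-- In type-P data for a maximal subgroup, `κ(M)` is nonempty. -/
theorem typeP_kappa_nonempty (hG : Cfsg.IsMinSimpleOddOrder G) (hM : IsCoatom M)
    (hP : Cfsg.IsTypePWith M W₁ U W₂) : (Cfsg.kappa M).Nonempty := by
  have h1 : Nat.card W₁ ≠ 1 := fun h => hP.W₁_ne (Subgroup.card_eq_one.mp h)
  obtain ⟨p, hp, hpd⟩ := Nat.exists_prime_and_dvd h1
  exact ⟨p, typeP_mem_kappa hG hM hP hp hpd⟩

/-- a Hall `κ(M)`-subgroup of a maximal subgroup `M` of type P is nontrivial. -/
theorem typeP_K_ne_bot (hG : Cfsg.IsMinSimpleOddOrder G) (hM : IsCoatom M)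
    (hP : Cfsg.IsTypePWith M W₁ U W₂) {K : Subgroup G} (hK : Cfsg.IsPiHallOf (Cfsg.kappa M) K M) :
    K ≠ ⊥ := by
  intro hK0
  obtain ⟨p, hp⟩ := typeP_kappa_nonempty hG hM hP
  apply hK.2.2 p hp.1 hp
  rw [hK0, Subgroup.relIndex_bot_left]
  exact hp.2.1

/-- every maximal subgroup has a standard factorisation. -/
theorem exists_sigmaDecomposition (hG : Cfsg.IsMinSimpleOddOrder G) (hM : IsCoatom M) :
    ∃ K U : Subgroup G, Cfsg.IsSigmaDecomposition M K U := by
  obtain ⟨⟨K, hK⟩, hcyc⟩ := Cfsg.Agent.S1351.result hG M hM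
  obtain ⟨⟨U, hU⟩, -⟩ := Cfsg.Agent.S1352.result hG M hM K (hcyc K hK) hK
  exact ⟨K, U, hU⟩

/-- the conjugate of a standard factorisation of `M` by an element of `M` is a standard
factorisation of `M`. -/
theorem sigmaDecomposition_cj {K U₀ : Subgroup G} (hKU : Cfsg.IsSigmaDecomposition M K U₀) {m : G}
    (hm : m ∈ M) : Cfsg.IsSigmaDecomposition M (cj m K) (cj m U₀) := by
  have hMm : cj m M = M := cj_eq_self_of_mem hm
  have hσm : cj m (Cfsg.sigmaCore M) = Cfsg.sigmaCore M :=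
    mem_normalizer_iff_map_conj.mp (Cfsg.Agent.Lib.Helper8.BGEx.le_normalizer_sigmaCore M hm)
  obtain ⟨hUM, hKσM, hinf, hprod⟩ := hKU.compl
  refine ⟨?_, ⟨?_, ?_, ?_⟩, ⟨?_, ?_, ?_, ?_⟩, ?_⟩
  · haveI := hKU.cyclic
    exact isCyclic_of_surjective
      (K.equivMapOfInjective (MulAut.conj m).toMonoidHom (MulAut.conj m).injective)
      (K.equivMapOfInjective (MulAut.conj m).toMonoidHom (MulAut.conj m).injective).surjective
  · rw [← hMm]; exact cj_mono hKU.hall.1
  · intro p hp hpd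
    rw [card_map_conj] at hpd
    exact hKU.hall.2.1 p hp hpd
  · intro p hp hpκ hpd
    apply hKU.hall.2.2 p hp hpκ
    have h1 := Cfsg.Agent.Lib.Helper9.card_eq_card_mul_relIndex hKU.hall.1
    have h2 : cj m K ≤ M := by rw [← hMm]; exact cj_mono hKU.hall.1
    have h3 := Cfsg.Agent.Lib.Helper9.card_eq_card_mul_relIndex h2
    rw [card_map_conj, h1] at h3
    have hpos : 0 < Nat.card K := Nat.card_pos
    rw [Nat.eq_of_mul_eq_mul_left hpos h3]
    exact hpd
  · rw [← hMm]; exact cj_mono hUM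
  · have h1 : cj m (K ⊔ Cfsg.sigmaCore M) ≤ cj m M := cj_mono hKσM
    rw [cj_sup, hσm, hMm] at h1
    exact h1
  · rw [← hσm, ← cj_sup, ← cj_inf, hinf]
    exact cj_bot m
  · intro x hx
    have hx' : m⁻¹ * x * m ∈ M := M.mul_mem (M.mul_mem (M.inv_mem hm) hx) hm
    obtain ⟨a, ha, b, hb, hab⟩ := hprod _ hx'
    refine ⟨m * a * m⁻¹, conj_mem_map_conj ha, m * b * m⁻¹, ?_, ?_⟩
    · rw [← hσm, ← cj_sup]
      exact conj_mem_map_conj hb
    · calc x = m * (m⁻¹ * x * m) * m⁻¹ := by group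
        _ = m * (a * b) * m⁻¹ := by rw [hab]
        _ = m * a * m⁻¹ * (m * b * m⁻¹) := by group
  · rw [normalizer_cj]
    exact cj_mono hKU.normal

/-! ### `M_F` -/

theorem fittingHallOf_le (M : Subgroup G) : Cfsg.fittingHallOf M ≤ M := Subgroup.map_subtype_le _

theorem fittingHallOf_isNilpotent (M : Subgroup G) : Group.IsNilpotent ↥(Cfsg.fittingHallOf M) := by
  haveI := Cfsg.Agent.Lib.Helper9.fittingHall_isNilpotent ↥M
  exact Group.nilpotent_of_mulEquiv
    ((Cfsg.fittingHall ↥M).equivMapOfInjective M.subtype M.subtype_injective)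

/-- `|M_F|` is coprime to `|M : M_F|`. -/
theorem fittingHallOf_coprime_relIndex (M : Subgroup G) :
    (Nat.card (Cfsg.fittingHallOf M)).Coprime ((Cfsg.fittingHallOf M).relIndex M) := by
  have h := Cfsg.Agent.Lib.Helper9.fittingHall_coprime ↥M
  rw [Cfsg.Agent.Lib.Helper9.card_fittingHallOf]
  have h2 : (Cfsg.fittingHallOf M).relIndex M = (Cfsg.fittingHall ↥M).index := by
    unfold Subgroup.relIndex Cfsg.fittingHallOf Subgroup.subgroupOf
    rw [Subgroup.comap_map_eq_self_of_injective M.subtype_injective]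
  rw [h2]
  exact h

/-- `M_F` is a Hall subgroup of `G`. -/
theorem fittingHallOf_coprime_index (hG : Cfsg.IsMinSimpleOddOrder G) (hM : IsCoatom M) :
    (Nat.card (Cfsg.fittingHallOf M)).Coprime (Cfsg.fittingHallOf M).index := by
  apply Nat.coprime_of_dvd
  intro p hp h1 h2
  have hpσ : p ∈ Cfsg.sigma M := by
    apply Cfsg.Agent.Lib.Helper9.BG144.mem_sigma_of_dvd_card_fittingHall hG hM hp
    rw [← Cfsg.Agent.Lib.Helper9.card_fittingHallOf]
    exact h1
  rw [← Subgroup.relIndex_mul_index (fittingHallOf_le M)] at h2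
  rcases (Nat.Prime.dvd_mul hp).mp h2 with h3 | h3
  · exact hp.one_lt.ne' (Nat.eq_one_of_dvd_coprimes (fittingHallOf_coprime_relIndex M) h1 h3)
  · have h4 := Cfsg.Agent.Lib.Helper8.BGEx.sigmaCore_not_dvd_index hG hM hpσ
    apply h4
    rw [← Subgroup.relIndex_mul_index (Cfsg.Agent.Lib.Helper8.BGEx.sigmaCore_le M)]
    exact Dvd.dvd.mul_left h3 _

/-- a subgroup `H ≤ M` normalized by `M`: the image in `G` of a characteristic subgroup of `H` is
normalized by `M`. -/
theorem le_normalizer_map_of_characteristic {H : Subgroup G}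
    (hn : M ≤ Subgroup.normalizer (H : Set G)) (P : Subgroup ↥H) [P.Characteristic] :
    M ≤ Subgroup.normalizer ((P.map H.subtype : Subgroup G) : Set G) := by
  intro m hm
  apply Cfsg.Agent.Lib.Helper1.mem_normalizer_of_forall_conj_mem
  intro x hx
  exact Cfsg.Agent.Lib.Helper16.conj_mem_map_of_characteristic P (hn hm) hx

/-- the normalizer in `G` of a nontrivial Sylow subgroup of `M_F` is `M`. -/
theorem normalizer_sylow_fittingHallOf (hG : Cfsg.IsMinSimpleOddOrder G) (hM : IsCoatom M)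
    {p : ℕ} (hp : p.Prime) (P : Sylow p ↥(Cfsg.fittingHallOf M))
    (hP1 : (P : Subgroup ↥(Cfsg.fittingHallOf M)) ≠ ⊥) :
    Subgroup.normalizer ((((P : Subgroup ↥(Cfsg.fittingHallOf M)).map
      (Cfsg.fittingHallOf M).subtype : Subgroup G)) : Set G) = M := by
  haveI : Fact p.Prime := ⟨hp⟩
  haveI := hG.2.1
  haveI := fittingHallOf_isNilpotent M
  have hPn : (P : Subgroup ↥(Cfsg.fittingHallOf M)).Normal := inferInstance
  haveI : (P : Subgroup ↥(Cfsg.fittingHallOf M)).Characteristic :=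
    Sylow.characteristic_of_normal _ hPn
  apply Cfsg.Agent.Lib.Helper17.BGU.normalizer_eq_of_coatom hM
  · exact (Subgroup.map_subtype_le _).trans (fittingHallOf_le M)
  · intro h
    exact hP1 ((Subgroup.map_eq_bot_iff_of_injective _ (Subgroup.subtype_injective _)).mp h)
  · exact le_normalizer_map_of_characteristic
      (Cfsg.Agent.Lib.Helper9.le_normalizer_fittingHallOf M) _

end Cfsg.Agent.Lib.Helper16.BGTy
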