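/-
helper16: B&G section 16 (types I-V), part B.  The "only if" directions of the characterisation
of the types by a standard factorisation `M = K U₀ M_σ`:
* type P data  ⟹ `K ≠ 1`, `M' = U₀ M_σ`;
* type-P data with `U' ≠ 1`, `N_G(U') ≰ M` (Type II) ⟹ `U₀ ≠ 1`;
* type-P data with `U' ≠ 1`, `N_G(U') ≤ M` (Types III, IV) ⟹ `U₀ = 1`  [uses frozen S1363 as a hypothesis];
* `M` of Frobenius type (Type I) ⟹ `K = 1`, `U₀ ≠ 1`  [uses frozen S1364 as a hypothesis].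
-/
import Mathlib
import Cfsg.Agent.Lib.Helper16.BGTyA
import Cfsg.Agent.Lib.Helper20.BGAlpha
import Cfsg.Agent.Lib.Helper1.Coprime
import Cfsg.Agent.S1354
import Cfsg.Agent.S1365

set_option autoImplicit false
set_option linter.unusedSectionVars false
set_option linter.unusedVariables false
set_option linter.style.haveILetI false

namespace Cfsg.Agent.Lib.Helper16.BGTy

open Cfsg Subgroup
open scoped Pointwise
open Cfsg.Agent.Lib.Helper8 (mem_map_conj conj_mem_map_conj card_map_conj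
  mem_normalizer_iff_map_conj)
open Cfsg.Agent.Lib.Helper8.BGEx (cj cj_eq_self_of_mem cj_mono cj_inf normalizer_cj)

universe u

variable {G : Type u} [Group G]

/-- the part of frozen S1363 that is used: `N_G(U) ≰ M` when `K ≠ 1`. -/
def HNU (G : Type u) [Group G] : Prop :=
  ∀ (M K U : Subgroup G), IsCoatom M → Cfsg.IsSigmaDecomposition M K U → K ≠ ⊥ →
    ¬ Subgroup.normalizer (U : Set G) ≤ M

/-- the part of frozen S1364 that is used: `K* ≤ M_F` when `K ≠ 1`. -/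
def HKF (G : Type u) [Group G] : Prop :=
  ∀ (M K U : Subgroup G), IsCoatom M → Cfsg.IsSigmaDecomposition M K U → K ≠ ⊥ →
    Cfsg.sigmaCore M ⊓ Subgroup.centralizer (K : Set G) ≤ Cfsg.fittingHallOf M

theorem commutator_lt_of_solvable {H : Subgroup G} (hs : Group.IsSolvable ↥H) (hH : H ≠ ⊥) :
    ⁅H, H⁆ < H := by
  haveI := hs
  rw [← Subgroup.nontrivial_iff_ne_bot] at hH
  rw [← H.range_subtype, MonoidHom.range_eq_map, ← Subgroup.map_commutator,
    Subgroup.map_subtype_lt_map_subtype]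
  exact Group.IsSolvable.commutator_lt_top_of_nontrivial H

variable [Finite G] {M W₁ U W₂ K U₀ : Subgroup G}

/-- in a standard factorisation `U₀ ∩ M_σ = 1`. -/
theorem sigmaDecomposition_inf_sigmaCore (hKU : Cfsg.IsSigmaDecomposition M K U₀) :
    U₀ ⊓ Cfsg.sigmaCore M = ⊥ := by
  apply le_antisymm _ bot_le
  rw [← hKU.compl.2.2.1]
  exact inf_le_inf_left _ le_sup_right

/-- `U₀ ≠ 1` ⟹ `M_σ = M_F`. -/
theorem sigmaCore_eq_fittingHallOf_of_U_ne_bot (hG : Cfsg.IsMinSimpleOddOrder G) (hM : IsCoatom M)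
    (hKU : Cfsg.IsSigmaDecomposition M K U₀) (hU₀ : U₀ ≠ ⊥) :
    Cfsg.sigmaCore M = Cfsg.fittingHallOf M :=
  Cfsg.Agent.Lib.Helper9.BG144.sigmaCore_eq_fittingHallOf hG hM
    (Cfsg.Agent.Lib.Helper20.BGAlpha.cent_U_eq_bot hG hM hKU hU₀).2

/-- type P: `M' = U₀ M_σ`. -/
theorem typeP_commutator_eq (hG : Cfsg.IsMinSimpleOddOrder G) (hM : IsCoatom M)
    (hP : Cfsg.IsTypePWith M W₁ U W₂) (hKU : Cfsg.IsSigmaDecomposition M K U₀) :
    ⁅M, M⁆ = U₀ ⊔ Cfsg.sigmaCore M :=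
  (Cfsg.Agent.S1365.result hG M hM K U₀ hKU (typeP_K_ne_bot hG hM hP hKU.hall)).1

/-- Type II ⟹ `U₀ ≠ 1`. -/
theorem typeII_U_ne_bot (hG : Cfsg.IsMinSimpleOddOrder G) (hM : IsCoatom M)
    (hP : Cfsg.IsTypePWith M W₁ U W₂) (hU1 : U ≠ ⊥)
    (hN : ¬ Subgroup.normalizer (U : Set G) ≤ M) (hKU : Cfsg.IsSigmaDecomposition M K U₀) :
    U₀ ≠ ⊥ := by
  intro hU₀
  apply hN
  have hM' : ⁅M, M⁆ = Cfsg.sigmaCore M := by
    rw [typeP_commutator_eq hG hM hP hKU, hU₀, bot_sup_eq]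
  have hUσ : U ≤ Cfsg.sigmaCore M := by rw [← hM']; exact hP.U_compl.2.1
  have h1 : Nat.card U ≠ 1 := fun h => hU1 (Subgroup.card_eq_one.mp h)
  obtain ⟨r, hr, hrd⟩ := Nat.exists_prime_and_dvd h1
  haveI : Fact r.Prime := ⟨hr⟩
  haveI := hP.U_nilpotent
  obtain ⟨R⟩ : Nonempty (Sylow r ↥U) := inferInstance
  have hRn : (R : Subgroup ↥U).Normal := inferInstance
  haveI : (R : Subgroup ↥U).Characteristic := Sylow.characteristic_of_normal _ hRn
  have h2 : Subgroup.normalizer (U : Set G) ≤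
      Subgroup.normalizer ((((R : Subgroup ↥U).map U.subtype : Subgroup G)) : Set G) :=
    le_normalizer_map_of_characteristic (le_refl _) _
  refine h2.trans ?_
  have hrσ : r ∈ Cfsg.sigma M :=
    Cfsg.Agent.Lib.Helper8.BGEx.mem_sigma_of_dvd_card_sigmaCore hG hM hr
      (hrd.trans (Subgroup.card_dvd_of_le hUσ))
  apply Cfsg.Agent.Lib.Helper8.BGEx.normalizer_le_of_isSylIn_sigmaCore hG hM hrσ
  refine ⟨(Subgroup.map_subtype_le _).trans hUσ, ?_⟩
  rw [Subgroup.card_map_of_injective U.subtype_injective, R.card_eq_multiplicity]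
  congr 1
  -- the `r`-parts of `|U|` and `|M_σ|` agree
  have h3 := Cfsg.Agent.Lib.Helper9.isComplIn_card_mul_card hP.U_compl
  rw [hM'] at h3
  have h4 : ¬ r ∣ Nat.card (Cfsg.fittingHallOf M) := by
    intro h
    exact hr.one_lt.ne' (Nat.eq_one_of_dvd_coprimes
      (Cfsg.Agent.Lib.Helper9.typeP_coprime_card_U hP) hrd h)
  rw [← h3, Nat.factorization_mul Nat.card_pos.ne' Nat.card_pos.ne', Finsupp.add_apply,
    Nat.factorization_eq_zero_of_not_dvd h4, zero_add]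

/-- conversion of complements to helper1's internal notion. -/
theorem isComplIn_helper1 {A B L : Subgroup G} (h : Cfsg.IsComplIn A B L) :
    Cfsg.Agent.Lib.Helper1.IsComplIn A B L :=
  ⟨h.1, h.2.1, disjoint_iff.mpr h.2.2.1, fun γ hγ => by
    obtain ⟨a, ha, b, hb, e⟩ := h.2.2.2 γ hγ
    exact ⟨a, ha, b, hb, e.symm⟩⟩

/-- two complements of `M_F` in a subgroup `L` with `M_F ≤ L ≤ M` are conjugate under `M_F`. -/
theorem exists_cj_eq_of_isComplIn_fittingHallOf {L A A₁ : Subgroup G} (hLM : L ≤ M)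
    (hA : Cfsg.IsComplIn (Cfsg.fittingHallOf M) A L)
    (hA₁ : Cfsg.IsComplIn (Cfsg.fittingHallOf M) A₁ L) :
    ∃ k ∈ Cfsg.fittingHallOf M, cj k A₁ = A := by
  have hnorm : L ≤ Subgroup.normalizer (Cfsg.fittingHallOf M : Set G) :=
    hLM.trans (Cfsg.Agent.Lib.Helper9.le_normalizer_fittingHallOf M)
  have hcop : Nat.Coprime (Nat.card (Cfsg.fittingHallOf M)) (Nat.card A) := by
    have h1 := Cfsg.Agent.Lib.Helper9.card_dvd_index_fittingHall M A (hA.2.1.trans hLM) hA.2.2.1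
    have h2 := Cfsg.Agent.Lib.Helper9.fittingHall_coprime ↥M
    rw [Cfsg.Agent.Lib.Helper9.card_fittingHallOf]
    exact Nat.Coprime.coprime_dvd_right h1 h2
  haveI := fittingHallOf_isNilpotent M
  have hsolv : Group.IsSolvable ↥(Cfsg.fittingHallOf M) := inferInstance
  obtain ⟨k, hk, hkA⟩ := Cfsg.Agent.Lib.Helper1.internal_sz_conj hnorm (isComplIn_helper1 hA)
    (isComplIn_helper1 hA₁) hcop (Or.inl hsolv)
  refine ⟨k, hk, ?_⟩
  rw [← hkA]
  ext x
  rw [mem_map_conj, Cfsg.Agent.Lib.Helper1.mem_conj_smul_iff]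

/-- `U₀` is a complement of `M_F` in `U₀ M_σ` when `M_σ = M_F`. -/
theorem isComplIn_fittingHallOf_U (hKU : Cfsg.IsSigmaDecomposition M K U₀)
    (hσF : Cfsg.sigmaCore M = Cfsg.fittingHallOf M) :
    Cfsg.IsComplIn (Cfsg.fittingHallOf M) U₀ (U₀ ⊔ Cfsg.sigmaCore M) := by
  have hUM : U₀ ≤ M := hKU.compl.1
  have hnorm : U₀ ≤ Subgroup.normalizer (Cfsg.fittingHallOf M : Set G) :=
    hUM.trans (Cfsg.Agent.Lib.Helper9.le_normalizer_fittingHallOf M)
  have hd : Disjoint (Cfsg.fittingHallOf M) U₀ := by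
    rw [disjoint_iff, inf_comm, ← hσF]
    exact sigmaDecomposition_inf_sigmaCore hKU
  have h := Cfsg.Agent.Lib.Helper1.isComplIn_sup hnorm hd
  rw [hσF, sup_comm]
  exact ⟨h.1, h.2.1, disjoint_iff.mp h.2.2.1, fun γ hγ => by
    obtain ⟨a, ha, b, hb, e⟩ := h.2.2.2 γ hγ
    exact ⟨a, ha, b, hb, e.symm⟩⟩

/-- Types III, IV ⟹ `U₀ = 1` (given the relevant part of S1363). -/
theorem typeIII_IV_U_eq_bot (hG : Cfsg.IsMinSimpleOddOrder G) (h63 : HNU G) (hM : IsCoatom M)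
    (hP : Cfsg.IsTypePWith M W₁ U W₂) (hN : Subgroup.normalizer (U : Set G) ≤ M)
    (hKU : Cfsg.IsSigmaDecomposition M K U₀) : U₀ = ⊥ := by
  by_contra hU₀
  have hK1 := typeP_K_ne_bot hG hM hP hKU.hall
  apply h63 M K U₀ hM hKU hK1
  have hσF := sigmaCore_eq_fittingHallOf_of_U_ne_bot hG hM hKU hU₀
  have hM' := typeP_commutator_eq hG hM hP hKU
  have hA₁ := isComplIn_fittingHallOf_U hKU hσF
  rw [← hM'] at hA₁
  obtain ⟨k, hk, hkU⟩ := exists_cj_eq_of_isComplIn_fittingHallOf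
    (Subgroup.commutator_le_self M) hP.U_compl hA₁
  have hkM : k ∈ M := fittingHallOf_le M hk
  have h1 : cj k (Subgroup.normalizer (U₀ : Set G)) ≤ M := by
    rw [← normalizer_cj, hkU]; exact hN
  have h2 : cj k⁻¹ (cj k (Subgroup.normalizer (U₀ : Set G))) ≤ cj k⁻¹ M := cj_mono h1
  rw [Cfsg.Agent.Lib.Helper8.BGEx.cj_inv_cj, cj_eq_self_of_mem (M.inv_mem hkM)] at h2
  exact h2

/-- a maximal subgroup of Frobenius type has `K = 1` (given the relevant part of S1364). -/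
theorem typeF_K_eq_bot (hG : Cfsg.IsMinSimpleOddOrder G) (h64 : HKF G) (hM : IsCoatom M)
    (hF : Cfsg.IsOfTypeF ↥M) (hKU : Cfsg.IsSigmaDecomposition M K U₀) : K = ⊥ := by
  by_contra hK
  have hsolv : Group.IsSolvable ↥M := hG.2.2.2 M hM.1
  have h1 : Nat.card K ≠ 1 := fun h => hK (Subgroup.card_eq_one.mp h)
  obtain ⟨p, hp, hpd⟩ := Nat.exists_prime_and_dvd h1
  haveI : Fact p.Prime := ⟨hp⟩
  have hpκ : p ∈ Cfsg.kappa M := hKU.hall.2.1 p hp hpd
  have hpσ : p ∉ Cfsg.sigma M := hpκ.2.2.1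
  have hpM : p ∣ Nat.card M := hpκ.2.1
  have hpF : ¬ p ∣ Nat.card (Cfsg.fittingHall ↥M) := fun h =>
    hpσ (Cfsg.Agent.Lib.Helper9.BG144.mem_sigma_of_dvd_card_fittingHall hG hM hp h)
  obtain ⟨-, -, -, -, E, hE1, hcompl, -, E₀, hE₀E, hexp, hreg⟩ := hF
  have hpE : p ∣ Nat.card E := by
    have h2 := hcompl.card_mul_card
    rw [← h2] at hpM
    rcases (Nat.Prime.dvd_mul hp).mp hpM with h | h
    · exact absurd h hpF
    · exact h
  have hpexp : p ∣ Monoid.exponent ↥E := by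
    obtain ⟨e, he⟩ := exists_prime_orderOf_dvd_card' (G := ↥E) p hpE
    rw [← he]
    exact Monoid.order_dvd_exponent e
  rw [← hexp] at hpexp
  have hpE₀ : p ∣ Nat.card E₀ := hpexp.trans Group.exponent_dvd_nat_card
  obtain ⟨u, hu⟩ := exists_prime_orderOf_dvd_card' (G := ↥E₀) p hpE₀
  -- `u' = u` as an element of `G`
  have hu1 : (u : ↥M) ≠ 1 := by
    intro h
    have h3 : u = 1 := Subtype.ext h
    rw [h3, orderOf_one] at hu
    exact hp.ne_one hu.symm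
  have huo : orderOf (((u : ↥M) : G)) = p := by
    rw [Subgroup.orderOf_coe, Subgroup.orderOf_coe]; exact hu
  obtain ⟨m, hm, hle⟩ := Cfsg.Agent.Lib.Helper27.BGConj.exists_conj_le_of_pi
    (Cfsg.kappa M) (L := M) (H := K) (Y := Subgroup.zpowers (((u : ↥M) : G))) hsolv hKU.hall.1
    (Subgroup.zpowers_le.mpr (u : ↥M).2)
    (by
      intro q hq hqd
      rw [Nat.card_zpowers, huo] at hqd
      rw [(Nat.prime_dvd_prime_iff_eq hq hp).mp hqd]
      exact hpκ)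
    hKU.hall.2.2
  have hkK : m * ((u : ↥M) : G) * m⁻¹ ∈ K :=
    hle (conj_mem_map_conj (Subgroup.mem_zpowers _))
  -- a non-identity element of `K*`
  have hKs1 := (Cfsg.Agent.S1354.result hG M hM K hKU.cyclic hKU.hall).1
  obtain ⟨z, hz, hz1⟩ := (Subgroup.ne_bot_iff_exists_ne_one).mp hKs1 |> fun ⟨y, hy⟩ =>
    (⟨(y : G), y.2, fun h => hy (Subtype.ext h)⟩ : ∃ z : G,
      z ∈ Cfsg.sigmaCore M ⊓ Subgroup.centralizer (K : Set G) ∧ z ≠ 1)
  have hzF : z ∈ Cfsg.fittingHallOf M := h64 M K U₀ hM hKU hK hz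
  have hzc : z ∈ Subgroup.centralizer (K : Set G) := (Subgroup.mem_inf.mp hz).2
  have hcomm : (m * ((u : ↥M) : G) * m⁻¹) * z = z * (m * ((u : ↥M) : G) * m⁻¹) :=
    (Subgroup.mem_centralizer_iff.mp hzc _ hkK)
  -- pull back: `x = m⁻¹ z m ∈ M_F` commutes with `u`
  have hxF : m⁻¹ * z * m ∈ Cfsg.fittingHallOf M := by
    have hn := Cfsg.Agent.Lib.Helper9.le_normalizer_fittingHallOf M (M.inv_mem hm)
    have := (Subgroup.mem_normalizer_iff.mp hn z).mp hzF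
    simpa using this
  obtain ⟨x, hx, hxe⟩ := hxF
  have hcomm2 : (u : ↥M) * x = x * (u : ↥M) := by
    apply Subtype.ext
    rw [Subgroup.coe_mul, Subgroup.coe_mul]
    have hxe' : (x : G) = m⁻¹ * z * m := hxe
    rw [hxe']
    calc ((u : ↥M) : G) * (m⁻¹ * z * m)
        = m⁻¹ * ((m * ((u : ↥M) : G) * m⁻¹) * z) * m := by group
      _ = m⁻¹ * (z * (m * ((u : ↥M) : G) * m⁻¹)) * m := by rw [hcomm]
      _ = m⁻¹ * z * m * ((u : ↥M) : G) := by group
  have hx1 := hreg (u : ↥M) u.2 hu1 x hx hcomm2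
  apply hz1
  have hxe' : (x : G) = m⁻¹ * z * m := hxe
  rw [hx1, Subgroup.coe_one] at hxe'
  calc z = m * (m⁻¹ * z * m) * m⁻¹ := by group
    _ = 1 := by rw [← hxe']; group

/-- `K = 1` ⟹ `U₀ ≠ 1`. -/
theorem U_ne_bot_of_K_eq_bot (hG : Cfsg.IsMinSimpleOddOrder G) (hM : IsCoatom M)
    (hKU : Cfsg.IsSigmaDecomposition M K U₀) (hK : K = ⊥) : U₀ ≠ ⊥ := by
  intro hU₀
  have hsolv : Group.IsSolvable ↥M := hG.2.2.2 M hM.1
  haveI := hG.2.1
  have hM1 : M ≠ ⊥ := by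
    intro h
    have h2 := Cfsg.Agent.Lib.Helper9.BG144.fittingHallOf_le_sigmaCore hG hM
    have hKs1 := (Cfsg.Agent.S1354.result hG M hM K hKU.cyclic hKU.hall).1
    apply hKs1
    apply le_antisymm _ bot_le
    rw [← h]
    exact inf_le_left.trans (Cfsg.Agent.Lib.Helper8.BGEx.sigmaCore_le M)
  have h1 := commutator_lt_of_solvable hsolv hM1
  have h2 : Cfsg.sigmaCore M ≤ ⁅M, M⁆ :=
    Cfsg.Agent.Lib.Helper24.BGBeta.sigmaCore_le_commutator hG
      (Cfsg.Agent.Lib.Helper16.BGPrim.ut hG) hM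
  have h3 : M ≤ Cfsg.sigmaCore M := by
    intro x hx
    obtain ⟨a, ha, b, hb, rfl⟩ := hKU.compl.2.2.2 x hx
    rw [hU₀, Subgroup.mem_bot] at ha
    rw [hK, bot_sup_eq] at hb
    rw [ha, one_mul]
    exact hb
  exact absurd (h3.trans h2) (not_le_of_gt h1)

end Cfsg.Agent.Lib.Helper16.BGTy
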