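/-
helper16: B&G section 16 (types I-V), part C.  Frozen S1389 in hypothesis form (the only
not-yet-proved input is the clause `N_G(U) ≰ M` of frozen S1363):
`M_s = M'` or `M_F`; normalizers of Sylow subgroups of `M_s` lie in `M`; `M_F`, `M_s` are Hall
subgroups of `G`.
-/
import Mathlib
import Cfsg.Agent.Lib.Helper16.BGTyB

set_option autoImplicit false
set_option linter.unusedSectionVars false
set_option linter.unusedVariables false
set_option linter.style.haveILetI false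

namespace Cfsg.Agent.Lib.Helper16.BGTy

open Cfsg Subgroup
open Cfsg.Agent.Lib.Helper8 (mem_map_conj conj_mem_map_conj card_map_conj
  mem_normalizer_iff_map_conj)
open Cfsg.Agent.Lib.Helper8.BGEx (cj cj_eq_self_of_mem cj_mono cj_inf normalizer_cj)

universe u

variable {G : Type u} [Group G] [Finite G] {M : Subgroup G}

/-- the common data of Types III and IV. -/
theorem typeIII_IV_data (h : Cfsg.IsOfTypeIII M ∨ Cfsg.IsOfTypeIV M) :
    ∃ W₁ U W₂ : Subgroup G, Cfsg.IsTypePWith M W₁ U W₂ ∧ U ≠ ⊥ ∧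
      Subgroup.normalizer (U : Set G) ≤ M := by
  rcases h with ⟨W₁, U, W₂, hP, hU1, -, -, -, hN⟩ | ⟨W₁, U, W₂, hP, hU1, -, -, -, hN⟩
  · exact ⟨W₁, U, W₂, hP, hU1, hN⟩
  · exact ⟨W₁, U, W₂, hP, hU1, hN⟩

/-- Types III, IV: `M' = M_σ`. -/
theorem typeIII_IV_commutator_eq (hG : Cfsg.IsMinSimpleOddOrder G) (h63 : HNU G) (hM : IsCoatom M)
    (h : Cfsg.IsOfTypeIII M ∨ Cfsg.IsOfTypeIV M) : ⁅M, M⁆ = Cfsg.sigmaCore M := by
  obtain ⟨W₁, U, W₂, hP, hU1, hN⟩ := typeIII_IV_data h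
  obtain ⟨K, U₀, hKU⟩ := exists_sigmaDecomposition hG hM
  have hU₀ := typeIII_IV_U_eq_bot hG h63 hM hP hN hKU
  rw [typeP_commutator_eq hG hM hP hKU, hU₀, bot_sup_eq]

/-- `M_σ` is a Hall subgroup of `G`. -/
theorem sigmaCore_coprime_index (hG : Cfsg.IsMinSimpleOddOrder G) (hM : IsCoatom M) :
    (Nat.card (Cfsg.sigmaCore M)).Coprime (Cfsg.sigmaCore M).index := by
  obtain ⟨-, ⟨h1, h2⟩, -⟩ := Cfsg.Agent.S1350.result hG M hM
  apply Nat.coprime_of_dvd
  intro p hp h3 h4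
  exact h2 p hp (h1 p hp h3) h4

/-- normalizers of nontrivial Sylow subgroups of `M_σ` lie in `M` (in the dependent form of S1389). -/
theorem normalizer_sylow_le_of_eq_sigmaCore (hG : Cfsg.IsMinSimpleOddOrder G) (hM : IsCoatom M)
    (H : Subgroup G) (hH : H = Cfsg.sigmaCore M) (p : ℕ) (hp : p.Prime) (P : Sylow p ↥H)
    (hP1 : (P : Subgroup ↥H) ≠ ⊥) :
    Subgroup.normalizer ((((P : Subgroup ↥H).map H.subtype : Subgroup G)) : Set G) ≤ M := by
  subst hH
  haveI : Fact p.Prime := ⟨hp⟩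
  have hpσ : p ∈ Cfsg.sigma M := by
    apply Cfsg.Agent.Lib.Helper8.BGEx.mem_sigma_of_dvd_card_sigmaCore hG hM hp
    have h1 : Nat.card (P : Subgroup ↥(Cfsg.sigmaCore M)) ≠ 1 :=
      fun h => hP1 (Subgroup.card_eq_one.mp h)
    obtain ⟨k, hk⟩ := IsPGroup.iff_card.mp P.isPGroup'
    have hk0 : k ≠ 0 := by
      intro h0
      rw [h0, pow_zero] at hk
      exact h1 hk
    have h2 : p ∣ Nat.card (P : Subgroup ↥(Cfsg.sigmaCore M)) := by
      rw [hk]; exact dvd_pow_self p hk0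
    exact h2.trans (Subgroup.card_subgroup_dvd_card _)
  exact Cfsg.Agent.Lib.Helper8.BGEx.normalizer_le_of_isSylIn_sigmaCore hG hM hpσ
    (Cfsg.Agent.Lib.Helper8.sylow_map_subtype_isSylIn P)

/-- normalizers of nontrivial Sylow subgroups of `M_F` lie in `M` (dependent form). -/
theorem normalizer_sylow_le_of_eq_fittingHallOf (hG : Cfsg.IsMinSimpleOddOrder G) (hM : IsCoatom M)
    (H : Subgroup G) (hH : H = Cfsg.fittingHallOf M) (p : ℕ) (hp : p.Prime) (P : Sylow p ↥H)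
    (hP1 : (P : Subgroup ↥H) ≠ ⊥) :
    Subgroup.normalizer ((((P : Subgroup ↥H).map H.subtype : Subgroup G)) : Set G) ≤ M := by
  subst hH
  exact (normalizer_sylow_fittingHallOf hG hM hp P hP1).le

theorem typeCore_eq_of_III_IV (h : Cfsg.IsOfTypeIII M ∨ Cfsg.IsOfTypeIV M) :
    Cfsg.typeCore M = ⁅M, M⁆ := by
  unfold Cfsg.typeCore
  rw [if_pos h]

theorem typeCore_eq_of_not_III_IV (h : ¬ (Cfsg.IsOfTypeIII M ∨ Cfsg.IsOfTypeIV M)) :
    Cfsg.typeCore M = Cfsg.fittingHallOf M := by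
  unfold Cfsg.typeCore
  rw [if_neg h]

/-- frozen S1389, given the relevant part of S1363. -/
theorem s1389_of (hG : Cfsg.IsMinSimpleOddOrder G) (h63 : HNU G) (M : Subgroup G)
    (hM : IsCoatom M) :
    (∀ (p : ℕ), p.Prime → ∀ (P : Sylow p ↥(Cfsg.typeCore M)),
        (P : Subgroup ↥(Cfsg.typeCore M)) ≠ ⊥ →
        Subgroup.normalizer ((((P : Subgroup ↥(Cfsg.typeCore M)).map (Cfsg.typeCore M).subtype :
          Subgroup G)) : Set G) ≤ M) ∧
      (Nat.card (Cfsg.fittingHallOf M)).Coprime (Cfsg.fittingHallOf M).index ∧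
      (Nat.card (Cfsg.typeCore M)).Coprime (Cfsg.typeCore M).index := by
  by_cases h : Cfsg.IsOfTypeIII M ∨ Cfsg.IsOfTypeIV M
  · have hc : Cfsg.typeCore M = Cfsg.sigmaCore M := by
      rw [typeCore_eq_of_III_IV h, typeIII_IV_commutator_eq hG h63 hM h]
    refine ⟨fun p hp P hP1 => normalizer_sylow_le_of_eq_sigmaCore hG hM _ hc p hp P hP1,
      fittingHallOf_coprime_index hG hM, ?_⟩
    rw [hc]
    exact sigmaCore_coprime_index hG hM
  · have hc : Cfsg.typeCore M = Cfsg.fittingHallOf M := typeCore_eq_of_not_III_IV h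
    refine ⟨fun p hp P hP1 => normalizer_sylow_le_of_eq_fittingHallOf hG hM _ hc p hp P hP1,
      fittingHallOf_coprime_index hG hM, ?_⟩
    rw [hc]
    exact fittingHallOf_coprime_index hG hM

end Cfsg.Agent.Lib.Helper16.BGTy
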