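/-
helper16: B&G section 16 (types I-V), part D.  Frozen S1390 in hypothesis form (the not-yet-proved
inputs are the clause `N_G(U) ≰ M` of frozen S1363 and the clause `K* ≤ M_F` of frozen S1364):
for `M` of Type I or II the complement `U` of `M_F` (in `M`, resp. `M'`) is part of a standard
factorisation of `M`, so that S1358, S1361, S1362 apply to it.
-/
import Mathlib
import Cfsg.Agent.Lib.Helper16.BGTyC
import Cfsg.Agent.Lib.Helper19.BGTypeF5
import Cfsg.Agent.S1358
import Cfsg.Agent.S1361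
import Cfsg.Agent.S1362

set_option autoImplicit false
set_option linter.unusedSectionVars false
set_option linter.unusedVariables false
set_option linter.style.haveILetI false

namespace Cfsg.Agent.Lib.Helper16.BGTy

open Cfsg Subgroup
open Cfsg.Agent.Lib.Helper8 (mem_map_conj conj_mem_map_conj card_map_conj
  mem_normalizer_iff_map_conj)
open Cfsg.Agent.Lib.Helper8.BGEx (cj cj_eq_self_of_mem cj_mono cj_inf normalizer_cj)

universe u

variable {G : Type u} [Group G]

theorem centralizer_closure_eq (X : Set G) :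
    Subgroup.centralizer ((Subgroup.closure X : Subgroup G) : Set G) = Subgroup.centralizer X := by
  apply le_antisymm
  · exact Subgroup.centralizer_le Subgroup.subset_closure
  · rw [Subgroup.le_centralizer_iff, Subgroup.closure_le]
    exact Set.subset_centralizer_centralizer

variable [Finite G] {M K U : Subgroup G}

/-- the common core of the two cases of S1390. -/
theorem s1390_core (hG : Cfsg.IsMinSimpleOddOrder G) (hM : IsCoatom M)
    (hKU : Cfsg.IsSigmaDecomposition M K U)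
    (hσF : Cfsg.sigmaCore M = Cfsg.fittingHallOf M) (L : Subgroup G)
    (hL : U ⊔ Cfsg.sigmaCore M = L) (hLM : L ≤ M)
    (hA : Cfsg.typeA M =
      {a | a ∈ L ∧ a ≠ 1 ∧ ∃ x ∈ Cfsg.fittingHallOf M, x ≠ 1 ∧ a * x = x * a})
    (hA1 : Cfsg.typeCore M = Cfsg.fittingHallOf M) :
    (∀ (p : ℕ), p.Prime → ∀ P : Sylow p U,
        IsMulCommutative (P : Subgroup U) ∧ Cfsg.PRankLE p 2 (P : Subgroup U)) ∧
      (∀ X : Set G, X ⊆ (U : Set G) \ {1} → X.Nonempty →
        Cfsg.fittingHallOf M ⊓ Subgroup.centralizer X ≠ ⊥ →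
        Subgroup.centralizer X ≤ M ∧
          ∀ L : Subgroup G, IsCoatom L → Subgroup.centralizer X ≤ L → L = M) ∧
      Cfsg.IsTISubset (Cfsg.typeA M \ Cfsg.typeA1 M) := by
  refine ⟨Cfsg.Agent.S1358.result hG M hM K U hKU, ?_, ?_⟩
  · intro X hXU hXne hXc
    have hYU : Subgroup.closure X ≤ U := by
      rw [Subgroup.closure_le]
      exact fun x hx => (hXU hx).1
    have hY1 : Subgroup.closure X ≠ ⊥ := by
      obtain ⟨x, hx⟩ := hXne
      intro h
      have h1 : x ∈ Subgroup.closure X := Subgroup.subset_closure hx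
      rw [h, Subgroup.mem_bot] at h1
      exact (hXU hx).2 h1
    have hYc : Cfsg.sigmaCore M ⊓
        Subgroup.centralizer ((Subgroup.closure X : Subgroup G) : Set G) ≠ ⊥ := by
      rw [centralizer_closure_eq, hσF]
      exact hXc
    have h := Cfsg.Agent.S1361.result hG M hM K U hKU (Subgroup.closure X) hYU hY1 hYc
    rw [centralizer_closure_eq] at h
    exact h
  · have h := Cfsg.Agent.S1362.result hG M hM K U hKU
    have heq : Cfsg.typeA M \ Cfsg.typeA1 M =
        Cfsg.sigmaA M U \ (Cfsg.sigmaCore M : Set G) := by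
      unfold Cfsg.typeA1 Cfsg.sigmaA Cfsg.sigmaHat
      rw [hA, hA1, hL, hσF]
      ext a
      constructor
      · rintro ⟨⟨haL, ha1, x, hx, hx1, hax⟩, hna⟩
        refine ⟨⟨⟨hLM haL, x, hx, hx1, hax⟩, haL⟩, ?_⟩
        intro haF
        exact hna ⟨haF, ha1⟩
      · rintro ⟨⟨⟨haM, x, hx, hx1, hax⟩, haL⟩, hna⟩
        refine ⟨⟨haL, ?_, x, hx, hx1, hax⟩, ?_⟩
        · intro h1
          apply hna
          rw [h1]
          exact Subgroup.one_mem _
        · intro h2
          exact hna h2.1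
    rw [heq]
    exact h

/-- frozen S1390, given the relevant parts of S1363 and S1364. -/
theorem s1390_of (hG : Cfsg.IsMinSimpleOddOrder G) (h63 : HNU G) (h64 : HKF G)
    (M : Subgroup G) (hM : IsCoatom M) (U : Subgroup G)
    (hU : (Cfsg.IsOfTypeI M ∧ Cfsg.IsComplIn (Cfsg.fittingHallOf M) U M) ∨
      (Cfsg.IsOfTypeII M ∧ Cfsg.IsComplIn (Cfsg.fittingHallOf M) U ⁅M, M⁆)) :
    (∀ (p : ℕ), p.Prime → ∀ P : Sylow p U,
        IsMulCommutative (P : Subgroup U) ∧ Cfsg.PRankLE p 2 (P : Subgroup U)) ∧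
      (∀ X : Set G, X ⊆ (U : Set G) \ {1} → X.Nonempty →
        Cfsg.fittingHallOf M ⊓ Subgroup.centralizer X ≠ ⊥ →
        Subgroup.centralizer X ≤ M ∧
          ∀ L : Subgroup G, IsCoatom L → Subgroup.centralizer X ≤ L → L = M) ∧
      Cfsg.IsTISubset (Cfsg.typeA M \ Cfsg.typeA1 M) := by
  obtain ⟨K, U₀, hKU⟩ := exists_sigmaDecomposition hG hM
  rcases hU with ⟨hI, hc⟩ | ⟨hII, hc⟩
  · -- Type I
    have hK : K = ⊥ := typeF_K_eq_bot hG h64 hM hI.1 hKU
    have hU₀ : U₀ ≠ ⊥ := U_ne_bot_of_K_eq_bot hG hM hKU hK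
    have hσF := sigmaCore_eq_fittingHallOf_of_U_ne_bot hG hM hKU hU₀
    have hκ : Cfsg.kappa M = ∅ := by
      subst hK
      exact Cfsg.Agent.Lib.Helper19.BGTypeF.kappa_eq_empty_of_bot hKU
    have hKU' : Cfsg.IsSigmaDecomposition M ⊥ U := by
      refine ⟨inferInstance, ⟨bot_le, ?_, ?_⟩, ?_, bot_le⟩
      · intro p hp hpd
        rw [Subgroup.card_bot] at hpd
        exact absurd (Nat.dvd_one.mp hpd) hp.ne_one
      · intro p hp hpκ
        rw [hκ] at hpκ
        exact hpκ.elim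
      · rw [bot_sup_eq, hσF]
        exact isComplIn_symm hc
    have hnot : ¬ (Cfsg.IsOfTypeIII M ∨ Cfsg.IsOfTypeIV M) := by
      intro h
      obtain ⟨W₁, U', W₂, hP, -, -⟩ := typeIII_IV_data h
      exact typeP_K_ne_bot hG hM hP hKU.hall hK
    apply s1390_core hG hM hKU' hσF M ?_ (le_refl _) ?_ (typeCore_eq_of_not_III_IV hnot)
    · rw [hσF, sup_comm]
      exact isComplIn_sup_eq hc
    · unfold Cfsg.typeA
      rw [if_pos hI]
  · -- Type II
    obtain ⟨W₁, U', W₂, hP, hU'1, -, -, -, hN, -, -⟩ := hII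
    have hK1 : K ≠ ⊥ := typeP_K_ne_bot hG hM hP hKU.hall
    have hU₀ : U₀ ≠ ⊥ := typeII_U_ne_bot hG hM hP hU'1 hN hKU
    have hσF := sigmaCore_eq_fittingHallOf_of_U_ne_bot hG hM hKU hU₀
    have hM' := typeP_commutator_eq hG hM hP hKU
    have hA₁ := isComplIn_fittingHallOf_U hKU hσF
    rw [← hM'] at hA₁
    obtain ⟨k, hk, hkU⟩ := exists_cj_eq_of_isComplIn_fittingHallOf
      (Subgroup.commutator_le_self M) hc hA₁
    have hkM : k ∈ M := fittingHallOf_le M hk
    have hKU' : Cfsg.IsSigmaDecomposition M (cj k K) U := by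
      rw [← hkU]
      exact sigmaDecomposition_cj hKU hkM
    have hnotI : ¬ Cfsg.IsOfTypeI M := by
      intro hI
      exact hK1 (typeF_K_eq_bot hG h64 hM hI.1 hKU)
    have hnot : ¬ (Cfsg.IsOfTypeIII M ∨ Cfsg.IsOfTypeIV M) := by
      intro h
      obtain ⟨W₁', U'', W₂', hP', -, hN'⟩ := typeIII_IV_data h
      exact hU₀ (typeIII_IV_U_eq_bot hG h63 hM hP' hN' hKU)
    have hcore := typeCore_eq_of_not_III_IV hnot
    apply s1390_core hG hM hKU' hσF ⁅M, M⁆ ?_ (Subgroup.commutator_le_self M) ?_ hcore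
    · rw [hσF, sup_comm]
      exact isComplIn_sup_eq hc
    · unfold Cfsg.typeA
      rw [if_neg hnotI, hcore]

end Cfsg.Agent.Lib.Helper16.BGTy
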