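/-
helper16: B&G section 16 (types I-V), part E.  The "only if" directions of frozen S1380-S1383,
verbatim, for a fixed standard factorisation `M = K U M_σ`
(`HNU G`, `HKF G` = the used clauses of frozen S1363, S1364).
-/
import Mathlib
import Cfsg.Agent.Lib.Helper16.BGTyC

set_option autoImplicit false
set_option linter.unusedSectionVars false
set_option linter.unusedVariables false
set_option linter.style.haveILetI false

namespace Cfsg.Agent.Lib.Helper16.BGTy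

open Cfsg Subgroup

universe u

variable {G : Type u} [Group G] [Finite G] {M K U : Subgroup G}

/-- S1380 (⟹): Type I ⟹ `K = 1`, `U ≠ 1`. -/
theorem typeI_imp (hG : Cfsg.IsMinSimpleOddOrder G) (h64 : HKF G) (hM : IsCoatom M)
    (hKU : Cfsg.IsSigmaDecomposition M K U) (h : Cfsg.IsOfTypeI M) : K = ⊥ ∧ U ≠ ⊥ := by
  have hK := typeF_K_eq_bot hG h64 hM h.1 hKU
  exact ⟨hK, U_ne_bot_of_K_eq_bot hG hM hKU hK⟩

/-- S1381 (⟹): Type II ⟹ `K ≠ 1`, `U ≠ 1`. -/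
theorem typeII_imp (hG : Cfsg.IsMinSimpleOddOrder G) (hM : IsCoatom M)
    (hKU : Cfsg.IsSigmaDecomposition M K U) (h : Cfsg.IsOfTypeII M) : K ≠ ⊥ ∧ U ≠ ⊥ := by
  obtain ⟨W₁, U', W₂, hP, hU'1, -, -, -, hN, -, -⟩ := h
  exact ⟨typeP_K_ne_bot hG hM hP hKU.hall, typeII_U_ne_bot hG hM hP hU'1 hN hKU⟩

/-- S1382 (⟹): Type III or IV ⟹ `K ≠ 1`, `U = 1`, `M_F ≠ M_σ`. -/
theorem typeIII_IV_imp (hG : Cfsg.IsMinSimpleOddOrder G) (h63 : HNU G) (hM : IsCoatom M)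
    (hKU : Cfsg.IsSigmaDecomposition M K U) (h : Cfsg.IsOfTypeIII M ∨ Cfsg.IsOfTypeIV M) :
    K ≠ ⊥ ∧ U = ⊥ ∧ Cfsg.fittingHallOf M ≠ Cfsg.sigmaCore M := by
  obtain ⟨W₁, U', W₂, hP, hU'1, hN⟩ := typeIII_IV_data h
  refine ⟨typeP_K_ne_bot hG hM hP hKU.hall, typeIII_IV_U_eq_bot hG h63 hM hP hN hKU, ?_⟩
  intro heq
  apply hU'1
  have hM' := typeIII_IV_commutator_eq hG h63 hM h
  obtain ⟨-, hU'M', hinf, -⟩ := hP.U_compl
  apply le_antisymm _ bot_le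
  rw [← hinf]
  refine le_inf ?_ (le_refl _)
  rw [heq, ← hM']
  exact hU'M'

/-- S1383 (⟹): Type V ⟹ `K ≠ 1`, `U = 1`, `M_F = M_σ`. -/
theorem typeV_imp (hG : Cfsg.IsMinSimpleOddOrder G) (hM : IsCoatom M)
    (hKU : Cfsg.IsSigmaDecomposition M K U) (h : Cfsg.IsOfTypeV M) :
    K ≠ ⊥ ∧ U = ⊥ ∧ Cfsg.fittingHallOf M = Cfsg.sigmaCore M := by
  obtain ⟨W₁, U', W₂, hP, hU'0, -⟩ := h
  have hK1 := typeP_K_ne_bot hG hM hP hKU.hall
  have hM' := typeP_commutator_eq hG hM hP hKU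
  -- `M' = M_F` as `U' = 1`
  have hFM' : Cfsg.fittingHallOf M = ⁅M, M⁆ := by
    have h1 := isComplIn_sup_eq hP.U_compl
    rw [hU'0, sup_bot_eq] at h1
    exact h1
  have hσF : Cfsg.fittingHallOf M = Cfsg.sigmaCore M := by
    apply le_antisymm (Cfsg.Agent.Lib.Helper9.BG144.fittingHallOf_le_sigmaCore hG hM)
    rw [hFM', hM']
    exact le_sup_right
  refine ⟨hK1, ?_, hσF⟩
  apply le_antisymm _ bot_le
  rw [← sigmaDecomposition_inf_sigmaCore hKU]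
  refine le_inf (le_refl _) ?_
  rw [← hσF, hFM', hM']
  exact le_sup_left

end Cfsg.Agent.Lib.Helper16.BGTy
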