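/-
helper16: S4482-LOC sub-leaf CNT `card_type_mul` (planner helper20, notes/S4482_LOC_leaves.lean);
via lead's `Cfsg.Agent.CharLib.ko_invol_coset_count`.
-/
import Mathlib
import Cfsg.Agent.Lib.Lead.KleinOrder1

set_option autoImplicit false

namespace Cfsg.Agent.Lib.Helper16.BOFLCNT

universe u

open DihedralGroup

/-- (LOC-CNT) the involutions of the type of `s` are the involutions of the coset `s N`. -/
theorem card_type_mul {X : Type u} [Group X] [Finite X] (n : ℕ)
    (N : Subgroup X) [N.Normal] (hNodd : Odd (Nat.card N))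
    (κ : X →* DihedralGroup (2 ^ (n - 1))) (hker : κ.ker = N)
    (s : X) (hs : orderOf s = 2) (i : ZMod (2 ^ (n - 1))) (hκs : κ s = sr i) :
    Nat.card {x : X // orderOf x = 2 ∧ κ x = sr i} *
      Nat.card (N ⊓ Subgroup.centralizer ({s} : Set X) : Subgroup X) = Nat.card N := by
  classical
  haveI : Fintype X := Fintype.ofFinite X
  have hss : s * s = 1 := by
    rw [← pow_two, ← hs]
    exact pow_orderOf_eq_one s
  have hnorm : ∀ k ∈ N, s * k * s⁻¹ ∈ N := fun k hk => ‹N.Normal›.conj_mem k hk s
  have key := Cfsg.Agent.CharLib.ko_invol_coset_count N hNodd s hss hnorm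
  rw [← key]
  congr 1
  rw [Nat.card_eq_fintype_card, Fintype.card_subtype]
  congr 1
  ext x
  simp only [Finset.mem_filter, Finset.mem_univ, true_and]
  constructor
  · rintro ⟨hx, hκx⟩
    refine ⟨?_, s⁻¹ * x, ?_, ?_⟩
    · rw [← pow_two, ← hx]
      exact pow_orderOf_eq_one x
    · rw [← hker, MonoidHom.mem_ker, map_mul, map_inv, hκs, hκx, inv_mul_cancel]
    · rw [mul_inv_cancel_left]
  · rintro ⟨hxx, k, hk, rfl⟩
    have hκ : κ (s * k) = sr i := by
      rw [map_mul, hκs]
      have : κ k = 1 := by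
        rw [← MonoidHom.mem_ker, hker]
        exact hk
      rw [this, mul_one]
    refine ⟨?_, hκ⟩
    apply orderOf_eq_prime
    · rw [pow_two]
      exact hxx
    · intro h1
      rw [h1, map_one, one_def] at hκ
      cases hκ

end Cfsg.Agent.Lib.Helper16.BOFLCNT
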