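/-
helper16: S4482-LOC sub-leaf INV `invol_type` (planner helper20, notes/S4482_LOC_leaves.lean).
-/
import Mathlib

set_option autoImplicit false

namespace Cfsg.Agent.Lib.Helper16.BOFLINV

universe u

open DihedralGroup

theorem eq_one_of_sq_of_odd {X : Type u} [Group X] [Finite X] (N : Subgroup X)
    (hNodd : Odd (Nat.card N)) (y : X) (hy : y ∈ N) (hy2 : y ^ 2 = 1) : y = 1 := by
  have h1 : orderOf y ∣ 2 := orderOf_dvd_of_pow_eq_one hy2
  have h2 : orderOf y ∣ Nat.card N := by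
    have := orderOf_dvd_natCard (⟨y, hy⟩ : N)
    rwa [Subgroup.orderOf_mk] at this
  have h3 : orderOf y ∣ Nat.gcd 2 (Nat.card N) := Nat.dvd_gcd h1 h2
  have h4 : Nat.gcd 2 (Nat.card N) = 1 := Nat.coprime_two_left.mpr hNodd
  rw [h4, Nat.dvd_one, orderOf_eq_one_iff] at h3
  exact h3

/-- (LOC-INV) an involution is `J` or maps to a reflection. -/
theorem invol_type {X : Type u} [Group X] [Finite X] (n : ℕ) (hn : 2 ≤ n)
    (N : Subgroup X) [N.Normal] (hNodd : Odd (Nat.card N))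
    (σ : X) (hσo : orderOf σ = 2 ^ (n - 1)) (hJc : ∀ g : X, Commute (σ ^ (2 ^ (n - 2))) g)
    (κ : X →* DihedralGroup (2 ^ (n - 1))) (hker : κ.ker = N) (hκσ : κ σ = r 1)
    (x : X) (hx : orderOf x = 2) :
    x = σ ^ (2 ^ (n - 2)) ∨ ∃ i : ZMod (2 ^ (n - 1)), κ x = sr i := by
  have hx2 : x ^ 2 = 1 := by rw [← hx]; exact pow_orderOf_eq_one x
  have hmm : 2 ^ (n - 1) = 2 * 2 ^ (n - 2) := by
    rw [← pow_succ']
    congr 1
    omega
  set J := σ ^ (2 ^ (n - 2)) with hJ
  have hJ2 : J ^ 2 = 1 := by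
    rw [hJ, ← pow_mul, mul_comm, ← hmm, ← hσo]
    exact pow_orderOf_eq_one σ
  have hκJ : κ J = r ((2 ^ (n - 2) : ℕ) : ZMod (2 ^ (n - 1))) := by
    rw [hJ, map_pow, hκσ, r_one_pow]
  rcases hκx : κ x with a | i
  · left
    have h1 : (κ x) ^ 2 = 1 := by rw [← map_pow, hx2, map_one]
    rw [hκx, pow_two, r_mul_r, one_def] at h1
    have h2 : a + a = 0 := by
      injection h1
    -- a = 0 or a = 2^(n-2)
    have h3 : ((a.val + a.val : ℕ) : ZMod (2 ^ (n - 1))) = 0 := by
      push_cast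
      rw [ZMod.natCast_zmod_val]
      exact h2
    rw [ZMod.natCast_eq_zero_iff] at h3
    haveI : NeZero (2 ^ (n - 1)) := ⟨by positivity⟩
    have h4 : a.val < 2 ^ (n - 1) := ZMod.val_lt a
    have h5 : 2 ^ (n - 2) ∣ a.val := by
      have : 2 * 2 ^ (n - 2) ∣ 2 * a.val := by
        rw [two_mul a.val, ← hmm]
        exact h3
      exact (Nat.mul_dvd_mul_iff_left (by norm_num)).mp this
    obtain ⟨k, hk⟩ := h5
    have hk2 : k < 2 := by
      by_contra hcon
      push Not at hcon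
      have : 2 ^ (n - 2) * 2 ≤ 2 ^ (n - 2) * k := Nat.mul_le_mul_left _ hcon
      rw [← hk] at this
      omega
    have ha : a = ((a.val : ℕ) : ZMod (2 ^ (n - 1))) := (ZMod.natCast_zmod_val a).symm
    interval_cases k
    · -- a = 0 : impossible
      exfalso
      rw [mul_zero] at hk
      rw [hk, Nat.cast_zero] at ha
      have hxN : x ∈ N := by
        rw [← hker, MonoidHom.mem_ker, hκx, ha, one_def]
      have := eq_one_of_sq_of_odd N hNodd x hxN hx2
      rw [this, orderOf_one] at hx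
      omega
    · rw [mul_one] at hk
      rw [hk] at ha
      have hxJ : x * J⁻¹ ∈ N := by
        rw [← hker, MonoidHom.mem_ker, map_mul, map_inv, hκx, hκJ, ha, mul_inv_cancel]
      have hcomm : Commute x J⁻¹ := ((hJc x).symm).inv_right
      have h6 : (x * J⁻¹) ^ 2 = 1 := by
        rw [hcomm.mul_pow, hx2, inv_pow, hJ2, inv_one, one_mul]
      have := eq_one_of_sq_of_odd N hNodd _ hxJ h6
      exact mul_inv_eq_one.mp this
  · right
    exact ⟨i, rfl⟩

end Cfsg.Agent.Lib.Helper16.BOFLINV
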