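/-
helper16: S4482-LOC sub-leaf KAPPA `exists_kappa` (planner helper20, notes/S4482_LOC_leaves.lean);
via helper3's `dihLift`.
-/
import Mathlib
import Cfsg.Agent.Lib.Helper3.Dihedral

set_option autoImplicit false

namespace Cfsg.Agent.Lib.Helper16.BOFLKAPPA

universe u

open DihedralGroup

/-- the order of an element of order prime to `|N|` is preserved in `X ⧸ N` -/
theorem orderOf_mk_of_coprime {X : Type u} [Group X] [Finite X] (N : Subgroup X) [N.Normal] (y : X)
    (hc : (orderOf y).Coprime (Nat.card N)) :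
    orderOf (QuotientGroup.mk' N y) = orderOf y := by
  apply Nat.dvd_antisymm (orderOf_map_dvd _ y)
  set j := orderOf (QuotientGroup.mk' N y) with hj
  have h1 : (QuotientGroup.mk' N y) ^ j = 1 := pow_orderOf_eq_one _
  rw [← map_pow] at h1
  have h2 : y ^ j ∈ N := by
    rw [← QuotientGroup.ker_mk' N, MonoidHom.mem_ker]
    exact h1
  have h3 : orderOf (y ^ j) ∣ Nat.card N := by
    have := orderOf_dvd_natCard (⟨y ^ j, h2⟩ : N)
    rwa [Subgroup.orderOf_mk] at this
  have h4 : orderOf (y ^ j) ∣ orderOf y := orderOf_pow_dvd j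
  have h5 : orderOf (y ^ j) ∣ Nat.gcd (orderOf y) (Nat.card N) := Nat.dvd_gcd h4 h3
  rw [hc, Nat.dvd_one, orderOf_eq_one_iff] at h5
  exact orderOf_dvd_of_pow_eq_one h5

/-- (LOC-KAPPA) the projection onto the dihedral quotient. -/
theorem exists_kappa {X : Type u} [Group X] [Finite X] (n : ℕ) (hn : 3 ≤ n)
    (N : Subgroup X) [N.Normal] (hNodd : Odd (Nat.card N)) (hidx : N.index = 2 ^ n)
    (σ τ : X) (hσo : orderOf σ = 2 ^ (n - 1)) (hτo : orderOf τ = 2) (hrel : τ * σ * τ⁻¹ = σ⁻¹) :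
    ∃ κ : X →* DihedralGroup (2 ^ (n - 1)), Function.Surjective κ ∧ κ.ker = N ∧
      κ σ = r 1 ∧ κ τ = sr 0 := by
  have hm4 : 4 ≤ 2 ^ (n - 1) := by
    have : 2 ^ 2 ≤ 2 ^ (n - 1) := Nat.pow_le_pow_right (by norm_num) (by omega)
    simpa using this
  have hmn : 2 * 2 ^ (n - 1) = 2 ^ n := by
    rw [← pow_succ']
    congr 1
    omega
  let q := QuotientGroup.mk' N
  have hττ : τ * τ = 1 := by
    rw [← pow_two, ← hτo]
    exact pow_orderOf_eq_one τ
  have hτinv : τ⁻¹ = τ := inv_eq_of_mul_eq_one_left hττ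
  have hx : (q σ) ^ (2 ^ (n - 1)) = 1 := by
    rw [← map_pow, ← hσo, pow_orderOf_eq_one, map_one]
  have hs : q τ * q τ = 1 := by rw [← map_mul, hττ, map_one]
  have hsx : q τ * q σ * q τ = (q σ)⁻¹ := by
    rw [← map_mul, ← map_mul, ← map_inv]
    congr 1
    rw [← hrel, hτinv]
  have hcop : (orderOf σ).Coprime (Nat.card N) := by
    rw [hσo]
    exact Nat.Coprime.pow_left _ (Nat.coprime_two_left.mpr hNodd)
  have hord : orderOf (q σ) = 2 ^ (n - 1) := by
    rw [orderOf_mk_of_coprime N σ hcop, hσo]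
  have hs' : q τ ∉ Subgroup.zpowers (q σ) := by
    intro hmem
    obtain ⟨k, hk⟩ := Subgroup.mem_zpowers_iff.mp hmem
    have hcomm : q τ * q σ = q σ * q τ := by
      rw [← hk]
      exact ((Commute.refl (q σ)).zpow_left k).eq
    have h1 : q σ = (q σ)⁻¹ := by
      rw [← hsx, hcomm, mul_assoc, hs, mul_one]
    have h2 : (q σ) ^ 2 = 1 := by
      rw [pow_two]
      nth_rewrite 2 [h1]
      exact mul_inv_cancel _
    have h3 := orderOf_dvd_of_pow_eq_one h2
    rw [hord] at h3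
    have := Nat.le_of_dvd (by norm_num) h3
    omega
  let L : DihedralGroup (2 ^ (n - 1)) →* X ⧸ N := Cfsg.Agent.Lib.Helper3.dihLift (q σ) (q τ) hx hs hsx
  have hLinj : Function.Injective L :=
    Cfsg.Agent.Lib.Helper3.dihLift_injective (q σ) (q τ) hx hs hsx hord hs'
  have hcard : Nat.card (X ⧸ N) ≤ Nat.card (DihedralGroup (2 ^ (n - 1))) := by
    rw [DihedralGroup.nat_card, hmn, ← hidx, Subgroup.index]
  have hLbij : Function.Bijective L := hLinj.bijective_of_nat_card_le hcard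
  let E : DihedralGroup (2 ^ (n - 1)) ≃* X ⧸ N := MulEquiv.ofBijective L hLbij
  have hE : ∀ d, E d = L d := fun d => rfl
  refine ⟨E.symm.toMonoidHom.comp q, ?_, ?_, ?_, ?_⟩
  · exact E.symm.surjective.comp (QuotientGroup.mk'_surjective N)
  · ext g
    rw [MonoidHom.mem_ker]
    show E.symm (q g) = 1 ↔ g ∈ N
    rw [MulEquiv.map_eq_one_iff]
    exact QuotientGroup.eq_one_iff g
  · show E.symm (q σ) = r 1
    rw [MulEquiv.symm_apply_eq, hE]
    exact (Cfsg.Agent.Lib.Helper3.dihLift_r_one (q σ) (q τ) hx hs hsx).symm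
  · show E.symm (q τ) = sr 0
    rw [MulEquiv.symm_apply_eq, hE]
    exact (Cfsg.Agent.Lib.Helper3.dihLift_sr_zero (q σ) (q τ) hx hs hsx).symm

end Cfsg.Agent.Lib.Helper16.BOFLKAPPA
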