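/-
helper16: BQ-B3 (S4501 market "BQ", `notes/S4501_leaves.lean`): a simple non-abelian group whose Sylow 3-subgroup has order 3
has two non-trivial irreducible characters of consecutive degrees prime to 3 (the principal 3-block with `f = 2 = p - 1`).
-/
import Mathlib
import Cfsg.Prelude.Def_BlockRank
import Cfsg.Agent.Lib.Helper6.BRHDefs
import Cfsg.Agent.Lib.Helper6.Knoerr
import Cfsg.Agent.Lib.Helper24.BRCDefs
import Cfsg.Agent.Lib.Helper24.IrrFacts
import Cfsg.Agent.Lib.Helper16.BRWB0T1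
import Cfsg.Agent.Lib.Helper8.BRWBURN
import Cfsg.Agent.Lib.Helper22.BRCFDVD
import Cfsg.Agent.Lib.Helper5.BRWLIN
import Cfsg.Agent.Lib.Helper12.BTSETUP

set_option autoImplicit false

namespace Cfsg.Agent.Lib.Helper16.BQB3

open Cfsg Cfsg.Agent.Lib.Helper8.DOM Cfsg.Agent.Lib.Helper27.DO Cfsg.Agent.CharLib
open Cfsg.Agent.Lib.Helper6.BRH Cfsg.Agent.Lib.Helper24.BRC
open scoped ComplexConjugate

universe u

variable {G : Type u} [Group G] [Finite G]

theorem charDegree_trivIrr' : charDegree ((trivIrr G : IrrCharacter G) : G → ℂ) = 1 := by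
  apply charDegree_eq_of_apply_one
  show (1 : G → ℂ) 1 = ((1 : ℕ) : ℂ)
  simp

/-- a two-element set containing `a` is `{a, b}` with `b ≠ a` -/
theorem eq_pair_of_card_two {α : Type*} (X : Set α) (a : α) (ha : a ∈ X) (h2 : Nat.card X = 2) :
    ∃ b, b ≠ a ∧ X = {a, b} := by
  rw [_root_.Nat.card_coe_set_eq] at h2
  obtain ⟨x, y, hxy, hX⟩ := Set.ncard_eq_two.mp h2
  rw [hX] at ha ⊢
  rcases ha with h | h
  · exact ⟨y, fun h' => hxy (by rw [← h, h']), by rw [h]⟩
  · rw [Set.mem_singleton_iff] at h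
    exact ⟨x, fun h' => hxy (by rw [h', h]), by rw [h, Set.pair_comm]⟩

theorem consecutive_degrees [IsSimpleGroup G] (hna : ∃ x y : G, x * y ≠ y * x) (P : Subgroup G) (hP : Nat.card P = 3)
    (hSyl : ¬ 3 ∣ P.index) :
    ∃ χ χ' : IrrCharacter G, χ ≠ trivIrr G ∧ χ' ≠ trivIrr G ∧
      charDegree (χ' : G → ℂ) = charDegree (χ : G → ℂ) + 1 ∧
      ¬ 3 ∣ charDegree (χ : G → ℂ) ∧ ¬ 3 ∣ charDegree (χ' : G → ℂ) := by
  classical
  haveI : Fact (Nat.Prime 3) := ⟨Nat.prime_three⟩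
  have hnc : ¬ IsMulCommutative G := by
    intro h
    obtain ⟨x, y, hxy⟩ := hna
    exact hxy (h.is_comm.comm x y)
  have hperf : commutator G = ⊤ := Cfsg.Agent.Lib.Helper12.BTSETUP.commutator_eq_top hnc
  have h2le := Cfsg.Agent.Lib.Helper8.BRWBURN.two_le_relIndex (p := 3) hperf P hP hSyl
  have hdvd : (Cz P).relIndex (Nz P) ∣ 3 - 1 := Cfsg.Agent.Lib.Helper22.BRCFDVD.fI_dvd (p := 3) P hP
  have hf : (Cz P).relIndex (Nz P) = 3 - 1 := by
    have h1 : (Cz P).relIndex (Nz P) ≤ 2 := Nat.le_of_dvd (by norm_num) hdvd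
    omega
  obtain ⟨M, hM⟩ := Cfsg.Agent.Lib.Helper6.exists_isPModular 3
  obtain ⟨X, Y, v, ε, b0, -, hdX, hdY, -, -⟩ :=
    Cfsg.Agent.Lib.Helper16.BRWB0T1.exists_B0_full_eq (p := 3) hM P hP hSyl hf
  have hcX : Nat.card X = 2 := by rw [b0.cardX, hf]
  have hcY : Nat.card Y = 1 := by rw [b0.cardY, hf]
  obtain ⟨η, hηne, hXeq⟩ := eq_pair_of_card_two X (trivIrr G) b0.trivX hcX
  have hηX : η ∈ X := by rw [hXeq]; simp
  obtain ⟨ψ, hYeq⟩ := Set.ncard_eq_one.mp (by rw [← _root_.Nat.card_coe_set_eq]; exact hcY)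
  have hψY : ψ ∈ Y := by rw [hYeq]; simp
  have hψne : ψ ≠ trivIrr G := by
    intro h
    exact (Set.disjoint_left.mp b0.disj b0.trivX) (h ▸ hψY)
  -- `v 1 = 1`
  have hv1 : v (trivIrr G) = 1 := by
    have hP1 : 1 < Nat.card P := by rw [hP]; norm_num
    rw [Subgroup.one_lt_card_iff_ne_bot] at hP1
    obtain ⟨x, hx1⟩ := (Subgroup.ne_bot_iff_exists_ne_one).mp hP1
    have hord : orderOf (x : G) ∣ 3 := by
      rw [← hP, Subgroup.orderOf_coe]
      exact orderOf_dvd_natCard x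
    have hord3 : orderOf (x : G) = 3 := by
      rcases (Nat.dvd_prime Nat.prime_three).mp hord with h | h
      · exfalso
        apply hx1
        have := orderOf_eq_one_iff.mp h
        exact Subtype.ext this
      · exact h
    have h1 := b0.valX (trivIrr G) b0.trivX (x : G) (by rw [hord3])
    have h2 : ((trivIrr G : IrrCharacter G) : G → ℂ) (x : G) = 1 := rfl
    rw [h2] at h1
    have : ((v (trivIrr G) : ℤ) : ℂ) = ((1 : ℤ) : ℂ) := by rw [← h1]; simp
    exact (Int.cast_injective this)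
  -- degrees
  have hdegη1 : charDegree (η : G → ℂ) ≠ 1 := fun h =>
    hηne (Cfsg.Agent.Lib.Helper5.BRWLIN.eq_triv_of_degree_one hperf η h)
  have hdegψ1 : charDegree (ψ : G → ℂ) ≠ 1 := fun h =>
    hψne (Cfsg.Agent.Lib.Helper5.BRWLIN.eq_triv_of_degree_one hperf ψ h)
  have hposη := Cfsg.Agent.Lib.Helper6.BRH.charDegree_pos η
  have hposψ := Cfsg.Agent.Lib.Helper6.BRH.charDegree_pos ψ
  have hdeg := b0.degY ψ hψY
  rw [hXeq, finsum_mem_pair (fun h => hηne h.symm), hv1, charDegree_trivIrr'] at hdeg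
  have hmodη := hdX η hηX
  have hmodψ := hdY ψ hψY
  rw [hf] at hmodψ
  have hsη := b0.sgnX η hηX
  have hsε := b0.sgn
  set dη : ℕ := charDegree (η : G → ℂ) with hdη
  set dψ : ℕ := charDegree (ψ : G → ℂ) with hdψ
  have hmodη' := hmodη.dvd
  have hmodψ' := hmodψ.dvd
  rcases hsη with hv | hv <;> rcases hsε with he | he <;> rw [hv] at hdeg hmodη' <;> rw [he] at hdeg hmodψ'
  · refine ⟨η, ψ, hηne, hψne, ?_, ?_, ?_⟩
    · omega
    · omega
    · omega
  · exfalso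
    omega
  · exfalso
    omega
  · refine ⟨ψ, η, hψne, hηne, ?_, ?_, ?_⟩
    · omega
    · omega
    · omega

end Cfsg.Agent.Lib.Helper16.BQB3
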