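/-
helper16: BRC-ARITHB (S0999 + S4701 market, `notes/S0999_leaves.lean`).
-/
import Mathlib

set_option autoImplicit false

namespace Cfsg.Agent.Lib.Helper16.BRCARITHB

/-- **BRC-ARITHB**. -/
theorem arithB (p f t n r : ℕ) (hp : p = 1 + t * f) (ht : 2 ≤ t) (hf : 2 ≤ f) (hn : 1 ≤ n)
    (hr : r * (n + 1) + 1 = f) (hB : 1 + r * (1 + n * p) ≤ f ^ 2) : n = 1 ∧ t = 2 := by
  subst hp
  have hr1 : 1 ≤ r := by
    rcases Nat.eq_zero_or_pos r with h | h
    · subst h
      omega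
    · exact h
  subst hr
  have h2 : (r * (n + 1) + 1) * (1 + r * n * t) ≤ (r * (n + 1) + 1) * (r * (n + 1) + 1) := by
    calc (r * (n + 1) + 1) * (1 + r * n * t)
        = 1 + r * (1 + n * (1 + t * (r * (n + 1) + 1))) := by ring
      _ ≤ (r * (n + 1) + 1) ^ 2 := hB
      _ = (r * (n + 1) + 1) * (r * (n + 1) + 1) := by ring
  have h3 : 1 + r * n * t ≤ r * (n + 1) + 1 := Nat.le_of_mul_le_mul_left h2 (by positivity)
  have h4 : r * (n * t) ≤ r * (n + 1) := by
    have : r * n * t = r * (n * t) := by ring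
    omega
  have h5 : n * t ≤ n + 1 := Nat.le_of_mul_le_mul_left h4 hr1
  have h6 : n * 2 ≤ n * t := Nat.mul_le_mul_left n ht
  have hn1 : n = 1 := by omega
  subst hn1
  exact ⟨rfl, by omega⟩

end Cfsg.Agent.Lib.Helper16.BRCARITHB
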