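/-
helper16: BRC-ARITHC (S0999 + S4701 market, `notes/S0999_leaves.lean`).
-/
import Mathlib

set_option autoImplicit false

namespace Cfsg.Agent.Lib.Helper16.BRCARITHC

/-- **BRC-ARITHC**.  (`n = t`: `p - f ∣ f (1 + t p) ≡ f p`, `gcd (p - f) (f p) = 1`.) -/
theorem arithC (p f t n w : ℕ) (hp : p = 1 + t * f) (ht : 2 ≤ t) (hf : 2 ≤ f) (hn : 1 ≤ n) (hnt : n ≤ t)
    (hw : 1 ≤ w) (hfree : t * (w * p - f) ≤ 1 + n * p) (hdvd : w = 1 → (p - f) ∣ f * (1 + n * p)) :
    w = 1 ∧ n + 1 = t := by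
  obtain ⟨s, rfl⟩ : ∃ s, t = s + 2 := ⟨t - 2, by omega⟩
  obtain ⟨w', rfl⟩ : ∃ w', w = w' + 1 := ⟨w - 1, by omega⟩
  -- `m = p - f`
  set m : ℕ := 1 + (s + 1) * f with hm
  have hpm : p = m + f := by rw [hp, hm]; ring
  have hm3 : 3 ≤ m := by
    have : 1 * 2 ≤ (s + 1) * f := Nat.mul_le_mul (by omega) hf
    omega
  have hsub : (w' + 1) * p - f = w' * p + m := by
    apply Nat.sub_eq_of_eq_add
    rw [hpm]; ring
  rw [hsub] at hfree
  have hnp : n * p ≤ (s + 2) * p := Nat.mul_le_mul_right p hnt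
  -- `w = 1`
  have hw0 : w' = 0 := by
    by_contra h
    have h1 : 1 ≤ w' := Nat.one_le_iff_ne_zero.mpr h
    have h2 : 1 * p ≤ w' * p := Nat.mul_le_mul_right p h1
    have h3 : (s + 2) * (1 * p + m) ≤ (s + 2) * (w' * p + m) :=
      Nat.mul_le_mul_left _ (by omega)
    have h4 : (s + 2) * (1 * p + m) = (s + 2) * p + (s + 2) * m := by ring
    have h5 : 2 * 3 ≤ (s + 2) * m := Nat.mul_le_mul (by omega) hm3
    omega
  subst hw0
  refine ⟨rfl, ?_⟩
  rw [zero_mul, zero_add] at hfree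
  have hpf : p - f = m := by omega
  have hd := hdvd rfl
  rw [hpf] at hd
  -- `n ≠ t`
  have hne : n ≠ s + 2 := by
    intro h
    subst h
    have hcop : Nat.Coprime m f := by
      rw [hm, Nat.coprime_add_mul_right_left]
      exact Nat.coprime_one_left f
    have h1 : m ∣ 1 + (s + 2) * p := (Nat.Coprime.dvd_mul_left hcop).mp hd
    have h2 : 1 + (s + 2) * p = (s + 3) * m + f := by
      rw [hpm, hm]; ring
    rw [h2] at h1
    have h3 : m ∣ f := (Nat.dvd_add_right (Dvd.intro_left _ rfl)).mp h1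
    have h4 := Nat.Coprime.eq_one_of_dvd hcop h3
    omega
  -- `t ≤ n + 1`
  by_contra hcon
  have hns : n ≤ s := by omega
  have h1 : n * p ≤ s * p := Nat.mul_le_mul_right p hns
  have h2 : (s + 2) * m = s * m + 2 * m := by ring
  have h3 : s * p = s * m + s * f := by rw [hpm]; ring
  have h4 : (s + 1) * f = s * f + f := by ring
  omega

end Cfsg.Agent.Lib.Helper16.BRCARITHC
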