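/-
helper16: BRC-ARITHD (S0999 + S4701 market, `notes/S0999_leaves.lean`).
-/
import Mathlib

set_option autoImplicit false

namespace Cfsg.Agent.Lib.Helper16.BRCARITHD

/-- **BRC-ARITHD**.  (`I` = the number of involutions, `Zs = ∑_{out} aP²`, `Za = ∑_{out} aP`;
the hypotheses give `0 ≥ (t - 2) ((t - 1) f² - (2 t - 3) f - 2)`.) -/
theorem arithD (p f t n r s I Zs Za : ℕ) (hp : p = 1 + t * f) (ht : 2 ≤ t) (hf : 2 ≤ f) (hn : n + 1 = t)
    (hr : r * t + 2 = f) (hs : r + s + 1 = f) (hZ : Zs + 1 + r * t ^ 2 + t = f * t) (hZa : Za ≤ Zs)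
    (hI : p * f * (1 + n * p) ≤ I * (f * t))
    (hdeg : 1 + I ≤ 1 + r * (1 + n * p) + s * (p - 1) + t * (p - f) + p * Za) : t = 2 ∨ f = 2 := by
  by_contra hcon
  rw [not_or] at hcon
  obtain ⟨ht2, hf2⟩ := hcon
  -- `t = k + 3`, `n = k + 2`, `r = j + 1`
  obtain ⟨k, rfl⟩ : ∃ k, n = k + 2 := ⟨n - 2, by omega⟩
  have htk : t = k + 3 := by omega
  subst htk
  have hr1 : 1 ≤ r := by
    rcases Nat.eq_zero_or_pos r with h | h
    · subst h
      omega
    · exact h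
  obtain ⟨j, rfl⟩ : ∃ j, r = j + 1 := ⟨r - 1, by omega⟩
  -- `s`
  have hsv : s = (j + 1) * (k + 2) + 1 := by
    have h1 : (j + 1) * (k + 3) = (j + 1) * (k + 2) + (j + 1) := by ring
    omega
  -- `Zs = k + 2`
  have hZs : Zs = k + 2 := by
    have h1 : f * (k + 3) = (j + 1) * (k + 3) ^ 2 + 2 * (k + 3) := by rw [← hr]; ring
    omega
  have hZa' : Za ≤ k + 2 := by omega
  -- `m = p - f`
  set m : ℕ := 1 + (k + 2) * f with hm
  have hpm : p = m + f := by rw [hp, hm]; ring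
  have hpf : p - f = m := by omega
  have hp1 : p - 1 = (k + 3) * f := by omega
  have hnp : 1 + (k + 2) * p = (k + 3) * m := by rw [hp, hm]; ring
  rw [hpf, hp1, hnp] at hdeg
  rw [hnp] at hI
  -- `p m ≤ I`
  have hI2 : p * m ≤ I := by
    have h1 : (f * (k + 3)) * (p * m) ≤ (f * (k + 3)) * I := by
      calc (f * (k + 3)) * (p * m) = p * f * ((k + 3) * m) := by ring
        _ ≤ I * (f * (k + 3)) := hI
        _ = (f * (k + 3)) * I := by ring
    exact Nat.le_of_mul_le_mul_left h1 (by positivity)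
  have hpZa : p * Za ≤ p * (k + 2) := Nat.mul_le_mul_left p hZa'
  have hfin : p * m ≤ (j + 1) * ((k + 3) * m) + s * ((k + 3) * f) + (k + 3) * m + p * (k + 2) := by
    omega
  -- the polynomial inequality
  obtain ⟨h, hh⟩ : ∃ h, (j + 1) * (k + 3) = h + 3 := by
    refine ⟨(j + 1) * (k + 3) - 3, ?_⟩
    have : 1 * 3 ≤ (j + 1) * (k + 3) := Nat.mul_le_mul (by omega) (by omega)
    omega
  have hfh : f = h + 5 := by omega
  have h1 : (j + 1) * ((k + 3) * m) = (h + 3) * m := by rw [← mul_assoc, hh]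
  have h2 : s * ((k + 3) * f) = ((h + 3) * (k + 2) + (k + 3)) * f := by
    rw [hsv, ← hh]; ring
  rw [h1, h2] at hfin
  have hmv : m = 1 + (k + 2) * (h + 5) := by rw [hm, hfh]
  have key : p * m = (h + 3) * m + ((h + 3) * (k + 2) + (k + 3)) * f + (k + 3) * m + p * (k + 2) +
      (k + 1) * (k * h ^ 2 + 2 * h ^ 2 + 8 * k * h + 17 * h + 15 * k + 33) := by
    rw [hpm, hmv, hfh]; ring
  have h3 : 1 * 33 ≤ (k + 1) * (k * h ^ 2 + 2 * h ^ 2 + 8 * k * h + 17 * h + 15 * k + 33) :=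
    Nat.mul_le_mul (by omega) (by omega)
  omega

end Cfsg.Agent.Lib.Helper16.BRCARITHD
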