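/-
helper16: BRC-PSLN1 (S0999 + S4701 market, `notes/S0999_leaves.lean`): a perfect group `G` with `O_{p'}(G) = 1`, a subgroup `P`
of order `p` with `|G : N_G(P)| = 1 + p`, `|N_G(P)| < p²`, `2 ≤ f ∣ p - 1` is `PSL₂(p)`, `p > 3` (S0732 on the `p + 1` Sylow
`p`-subgroups; `PGL₂(p)` and the semi-affine groups are not perfect).
-/
import Mathlib
import Cfsg.Prelude.Def_BlockRank
import Cfsg.Prelude.Def_Perm
import Cfsg.Agent.Lib.Helper24.BRCDefs
import Cfsg.Agent.S0732
import Cfsg.Agent.Lib.Helper16.BRS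

set_option autoImplicit false

namespace Cfsg.Agent.Lib.Helper16.BRCPSLN1

open Cfsg Cfsg.Agent.Lib.Helper8.DOM Cfsg.Agent.Lib.Helper27.DO Cfsg.Agent.CharLib
open Cfsg.Agent.Lib.Helper6.BRH Cfsg.Agent.Lib.Helper24.BRC
open scoped ComplexConjugate

universe u

variable {G : Type u} [Group G] [Finite G] {p : ℕ} [Fact p.Prime]

/-- surjective images of perfect groups are perfect -/
theorem commutator_eq_top_of_surj {A : Type*} {B : Type*} [Group A] [Group B] (hperf : commutator A = ⊤)
    (f : A →* B) (hf : Function.Surjective f) : commutator B = ⊤ := by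
  rw [commutator_def] at hperf ⊢
  have h := Subgroup.map_commutator (⊤ : Subgroup A) ⊤ f
  rw [hperf, Subgroup.map_top_of_surjective f hf] at h
  exact h.symm

/-- **BRC-PSLN1**. -/
theorem psl_of_index (hperf : commutator G = ⊤)
    (hcore : ∀ K : Subgroup G, K.Normal → (Nat.card K).Coprime p → K = ⊥)
    (P : Subgroup G) (hP : Nat.card P = p) (hidx : (Nz P).index = 1 + p) (hf2 : 2 ≤ fI P)
    (hfp : fI P ∣ p - 1) (hd : Nat.card (Nz P) < p * p)
    (hpgl : p ≠ 2 → commutator (Matrix.ProjGenLinGroup (Fin 2) (ZMod p)) ≠ ⊤)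
    (hsemi : ∀ {F : Type} [Field F] [Finite F] (H : Subgroup (Equiv.Perm F)),
      H ≤ Cfsg.semiaffineGroup F → commutator H = ⊤ → H = ⊥) :
    3 < p ∧ Nonempty (G ≃* Matrix.ProjectiveSpecialLinearGroup (Fin 2) (ZMod p)) := by
  classical
  have hp : p.Prime := Fact.out
  have hp2 := hp.two_le
  have hPp : IsPGroup p P := IsPGroup.of_card (n := 1) (by rw [hP, pow_one])
  have hPN : P ≤ Nz P := Subgroup.le_normalizer
  -- `|N| = p d`, `0 < d < p`
  obtain ⟨d, hNd⟩ : p ∣ Nat.card (Nz P) := by
    rw [← hP]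
    exact Subgroup.card_dvd_of_le hPN
  have hdp : d < p := by
    rw [hNd] at hd
    exact lt_of_mul_lt_mul_left hd (Nat.zero_le p)
  have hd0 : 0 < d := by
    rcases Nat.eq_zero_or_pos d with h | h
    · rw [h, mul_zero] at hNd
      exact absurd hNd (Nat.card_pos).ne'
    · exact h
  -- `p ≥ 3`
  have hp1 : 2 ≤ p - 1 := le_trans hf2 (Nat.le_of_dvd (by omega) hfp)
  have hpne2 : p ≠ 2 := by omega
  -- `f ∣ d`
  have hfd : fI P ∣ d := by
    have h1 : fI P ∣ Nat.card (Nz P) := Subgroup.relIndex_dvd_card (Cz P) (Nz P)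
    rw [hNd] at h1
    have h2 : Nat.Coprime (p - 1) p := by
      rw [Nat.coprime_comm, Nat.Prime.coprime_iff_not_dvd hp]
      intro h3
      have := Nat.le_of_dvd (by omega) h3
      omega
    have h3 : Nat.Coprime (fI P) p := Nat.Coprime.coprime_dvd_left hfp h2
    exact h3.dvd_of_dvd_mul_left h1
  have hd2 : 2 ≤ d := le_trans hf2 (Nat.le_of_dvd hd0 hfd)
  -- `P` is a Sylow subgroup
  have hcardG : Nat.card G = (p + 1) * p * d := by
    rw [← Subgroup.card_mul_index (Nz P), hNd, hidx]
    ring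
  have hPidx : P.index = (p + 1) * d := by
    have h1 := Subgroup.card_mul_index P
    rw [hP, hcardG] at h1
    have h2 : p * P.index = p * ((p + 1) * d) := by rw [h1]; ring
    exact Nat.eq_of_mul_eq_mul_left hp.pos h2
  have hSyl : ¬ p ∣ P.index := by
    rw [hPidx]
    intro h
    rcases (Nat.Prime.dvd_mul hp).mp h with h1 | h1
    · have h2 : p ∣ 1 := (Nat.dvd_add_right (dvd_refl p)).mp h1
      have := Nat.le_of_dvd one_pos h2
      omega
    · have := Nat.le_of_dvd hd0 h1
      omega
  have hidx' : (Subgroup.normalizer (P : Set G)).index = p + 1 := by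
    have h1 : (Nz P).index = 1 + p := hidx
    rw [add_comm] at h1
    exact h1
  have hnn : ¬ P.Normal := Cfsg.Agent.Lib.Helper16.BRS.not_normal_of_index hp P hidx'
  set Q : Sylow p G := hPp.toSylow hSyl with hQ
  have hQP : (Q : Subgroup G) = P := IsPGroup.toSylow_coe hPp hSyl
  haveI : Fintype (Sylow p G) := Fintype.ofFinite _
  have hα : Fintype.card (Sylow p G) = p + 1 := by
    rw [← Nat.card_eq_fintype_card, Sylow.card_eq_index_normalizer Q]
    exact hidx'
  -- the permutation representation on the Sylow subgroups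
  set ψ : G →* Equiv.Perm (Sylow p G) := MulAction.toPermHom G (Sylow p G) with hψ
  have hker : ψ.ker = ⊥ := by
    apply hcore ψ.ker (MonoidHom.normal_ker ψ)
    have hle : ψ.ker ≤ Subgroup.normalizer (P : Set G) := by
      intro h hh
      rw [MonoidHom.mem_ker] at hh
      have h1 : h • Q = Q := by
        have h2 := congrArg (fun σ : Equiv.Perm (Sylow p G) => σ Q) hh
        exact h2
      have h2 : h ∈ MulAction.stabilizer G Q := h1
      rw [Sylow.stabilizer_eq_normalizer] at h2
      exact h2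
    have hnd := Cfsg.Agent.Lib.Helper16.BRS.not_dvd_card_of_le_normalizer hp P hP hSyl hnn ψ.ker
      (MonoidHom.normal_ker ψ) hle
    rw [Nat.coprime_comm, Nat.Prime.coprime_iff_not_dvd hp]
    exact hnd
  have hinj : Function.Injective ψ := (MonoidHom.ker_eq_bot_iff ψ).mp hker
  set G' : Subgroup (Equiv.Perm (Sylow p G)) := ψ.range with hG'
  have hiso : G ≃* G' := MonoidHom.ofInjective hinj
  have : MulAction.IsPretransitive G' (Sylow p G) := by
    constructor
    intro a b
    obtain ⟨h, hh⟩ := MulAction.exists_smul_eq G a b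
    exact ⟨⟨ψ h, h, rfl⟩, hh⟩
  have hcardG' : Nat.card G' = (p + 1) * p * d := by
    rw [← Nat.card_congr hiso.toEquiv, hcardG]
  have hperf' : commutator G' = ⊤ :=
    commutator_eq_top_of_surj hperf hiso.toMonoidHom hiso.surjective
  rcases Cfsg.Agent.S0732.result hp hα G' hcardG' hdp with h | h | h
  · exfalso
    obtain ⟨-, ⟨e⟩⟩ := h
    exact hpgl hpne2 (commutator_eq_top_of_surj hperf' e.toMonoidHom e.surjective)
  · obtain ⟨h1, ⟨e⟩⟩ := h
    refine ⟨by omega, ⟨hiso.trans e⟩⟩
  · exfalso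
    obtain ⟨q, hq, hpq, -, e, he⟩ := h
    let c : Equiv.Perm (Sylow p G) →* Equiv.Perm (GaloisField 2 q) :=
      (e.permCongrHom : Equiv.Perm (Sylow p G) ≃* Equiv.Perm (GaloisField 2 q)).toMonoidHom
    have hc : ∀ σ : Equiv.Perm (Sylow p G), c σ = e.symm.trans (σ.trans e) := by
      intro σ
      apply Equiv.ext
      intro x
      rfl
    have hcinj : Function.Injective c :=
      (e.permCongrHom : Equiv.Perm (Sylow p G) ≃* Equiv.Perm (GaloisField 2 q)).injective
    have hle : G'.map c ≤ Cfsg.semiaffineGroup (GaloisField 2 q) := by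
      rintro τ ⟨σ, hσ, rfl⟩
      rw [hc]
      exact he ⟨σ, hσ⟩
    have hiso2 : G' ≃* G'.map c := G'.equivMapOfInjective c hcinj
    have hperf2 : commutator (G'.map c) = ⊤ :=
      commutator_eq_top_of_surj hperf' hiso2.toMonoidHom hiso2.surjective
    have hbot := hsemi (G'.map c) hle hperf2
    have h1 : Nat.card (G'.map c) = 1 := by rw [hbot]; exact Subgroup.card_bot
    rw [← Nat.card_congr hiso2.toEquiv, hcardG'] at h1
    have h2 : 0 < (p + 1) * p := by positivity
    nlinarith

end Cfsg.Agent.Lib.Helper16.BRCPSLN1
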