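/-
helper16: S4504 step (VII) ("PART S"): a finite group `H` with a Sylow `p`-subgroup `P` of order `p`, `|N_H(P)| = p f`,
`2 f = p - 1`, `|H : N_H(P)| = p + 1`, generated by the conjugates of `P`, and acting faithfully on `Syl_p(H)`
(the normal subgroups inside `N_H(P)` are trivial) is isomorphic to `PSL₂(p)` (S0732 on the `p + 1` Sylow subgroups;
`PGL₂(p)` is excluded by the order, the semi-affine case by `BRSAff.card_le_of_semiaffine`).
-/
import Mathlib
import Cfsg.Agent.S0732
import Cfsg.Agent.Lib.Helper16.BRSAff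

set_option autoImplicit false

namespace Cfsg.Agent.Lib.Helper16.BRS

open Cfsg
open scoped Pointwise

universe u

variable {H : Type u} [Group H] [Finite H]

/-- the elements of the conjugates of a subgroup of order `p` have `p`-th power `1` -/
theorem pow_eq_one_of_mem_conjugatesOfSet {p : ℕ} (P : Subgroup H) (hP : Nat.card P = p) {x : H}
    (hx : x ∈ Group.conjugatesOfSet (P : Set H)) : x ^ p = 1 := by
  obtain ⟨y, hy, hyx⟩ := Group.mem_conjugatesOfSet_iff.mp hx
  obtain ⟨c, hc⟩ := isConj_iff.mp hyx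
  have hyp : y ^ p = 1 := by
    have h1 : (⟨y, hy⟩ : P) ^ Nat.card P = 1 := pow_card_eq_one'
    rw [hP] at h1
    exact congrArg Subtype.val h1
  rw [← hc, conj_pow, hyp, mul_one, mul_inv_cancel]

/-- an element of `p`-power order normalizing a Sylow `p`-subgroup lies in it -/
theorem mem_of_mem_normalizer {p : ℕ} [Fact p.Prime] (P : Subgroup H) (hPp : IsPGroup p P)
    (hSyl : ¬ p ∣ P.index) {x : H} (hx : x ∈ Subgroup.normalizer (P : Set H))
    (hz : IsPGroup p (Subgroup.zpowers x)) : x ∈ P := by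
  have h1 := hz.inf_normalizer_sylow (hPp.toSylow hSyl)
  have h2 : x ∈ Subgroup.zpowers x ⊓ Subgroup.normalizer ((hPp.toSylow hSyl : Sylow p H) : Set H) :=
    ⟨Subgroup.mem_zpowers x, hx⟩
  rw [h1] at h2
  exact h2.2

/-- PART S -/
theorem psl2_of_sylow {p : ℕ} (hp : p.Prime) (hp5 : 5 ≤ p) (P : Subgroup H) (hP : Nat.card P = p)
    (hSyl : ¬ p ∣ P.index) (f : ℕ) (h2f : 2 * f = p - 1)
    (hN : Nat.card (Subgroup.normalizer (P : Set H)) = p * f)
    (hidx : (Subgroup.normalizer (P : Set H)).index = p + 1)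
    (hcl : Subgroup.normalClosure (P : Set H) = ⊤)
    (hcore : ∀ N : Subgroup H, N.Normal → N ≤ Subgroup.normalizer (P : Set H) → N = ⊥) :
    Nonempty (H ≃* Matrix.ProjectiveSpecialLinearGroup (Fin 2) (ZMod p)) := by
  classical
  haveI : Fact p.Prime := ⟨hp⟩
  have hPp : IsPGroup p P := IsPGroup.of_card (n := 1) (by rw [hP, pow_one])
  set Q : Sylow p H := hPp.toSylow hSyl with hQ
  have hQP : (Q : Subgroup H) = P := IsPGroup.toSylow_coe hPp hSyl
  haveI : Fintype (Sylow p H) := Fintype.ofFinite _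
  have hα : Fintype.card (Sylow p H) = p + 1 := by
    rw [← Nat.card_eq_fintype_card, Sylow.card_eq_index_normalizer Q]
    exact hidx
  -- the permutation representation on the Sylow subgroups
  set ψ : H →* Equiv.Perm (Sylow p H) := MulAction.toPermHom H (Sylow p H) with hψ
  have hker : ψ.ker = ⊥ := by
    apply hcore ψ.ker (MonoidHom.normal_ker ψ)
    intro h hh
    rw [MonoidHom.mem_ker] at hh
    have h1 : h • Q = Q := by
      have h2 := congrArg (fun σ : Equiv.Perm (Sylow p H) => σ Q) hh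
      exact h2
    have h2 : h ∈ MulAction.stabilizer H Q := h1
    rw [Sylow.stabilizer_eq_normalizer] at h2
    exact h2
  have hinj : Function.Injective ψ := (MonoidHom.ker_eq_bot_iff ψ).mp hker
  set G' : Subgroup (Equiv.Perm (Sylow p H)) := ψ.range with hG'
  have hiso : H ≃* G' := MonoidHom.ofInjective hinj
  haveI : MulAction.IsPretransitive G' (Sylow p H) := by
    constructor
    intro a b
    obtain ⟨h, hh⟩ := MulAction.exists_smul_eq H a b
    exact ⟨⟨ψ h, h, rfl⟩, hh⟩
  have hcardH : Nat.card H = (p + 1) * p * f := by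
    rw [← Subgroup.card_mul_index (Subgroup.normalizer (P : Set H)), hN, hidx]
    ring
  have hcardG' : Nat.card G' = (p + 1) * p * f := by
    rw [← Nat.card_congr hiso.toEquiv, hcardH]
  have hfp : f < p := by omega
  rcases Cfsg.Agent.S0732.result hp hα G' hcardG' hfp with h | h | h
  · exfalso
    obtain ⟨h1, -⟩ := h
    omega
  · obtain ⟨-, ⟨e⟩⟩ := h
    exact ⟨hiso.trans e⟩
  · exfalso
    obtain ⟨q, hq, hpq, -, e, he⟩ := h
    haveI : Fintype (GaloisField 2 q) := Fintype.ofFinite _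
    have hFcard : Fintype.card (GaloisField 2 q) = p + 1 := by
      rw [hpq, ← Nat.card_eq_fintype_card]
      exact GaloisField.card 2 q hq.ne_zero
    have hgen : G' ≤ Subgroup.closure (ψ '' Group.conjugatesOfSet (P : Set H)) := by
      rw [← MonoidHom.map_closure, hG', MonoidHom.range_eq_map]
      apply Subgroup.map_mono
      have h1 : Subgroup.closure (Group.conjugatesOfSet (P : Set H)) = ⊤ := hcl
      rw [h1]
    have hS : ∀ σ ∈ ψ '' Group.conjugatesOfSet (P : Set H), σ ∈ G' ∧ σ ^ p = 1 := by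
      rintro σ ⟨x, hx, rfl⟩
      refine ⟨⟨x, rfl⟩, ?_⟩
      rw [← map_pow, pow_eq_one_of_mem_conjugatesOfSet P hP hx, map_one]
    have hle := Cfsg.Agent.Lib.Helper16.BRSAff.card_le_of_semiaffine hp hFcard G' e he _ hS hgen
    rw [hcardG'] at hle
    have hf2 : 2 ≤ f := by omega
    have hpos : 0 < (p + 1) * p := by positivity
    nlinarith

/-- the normal subgroups inside `N_H(P)` are `p'`-groups when `P` is not normal -/
theorem not_dvd_card_of_le_normalizer {p : ℕ} (hp : p.Prime) (P : Subgroup H) (hP : Nat.card P = p)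
    (hSyl : ¬ p ∣ P.index) (hnn : ¬ P.Normal) (N : Subgroup H) (hN : N.Normal)
    (hle : N ≤ Subgroup.normalizer (P : Set H)) : ¬ p ∣ Nat.card N := by
  classical
  haveI : Fact p.Prime := ⟨hp⟩
  intro hdvd
  apply hnn
  -- an element of order `p` of `N` generates a subgroup of order `p` of `N_H(P)`, which is `P`
  obtain ⟨x, hx⟩ := exists_prime_orderOf_dvd_card' p hdvd
  have hxN : (x : H) ∈ Subgroup.normalizer (P : Set H) := hle x.2
  have hox : orderOf (x : H) = p := by rw [Subgroup.orderOf_coe]; exact hx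
  -- `P` is the unique Sylow `p`-subgroup of its normalizer, so `x ∈ P`
  have hPp : IsPGroup p P := IsPGroup.of_card (n := 1) (by rw [hP, pow_one])
  have hxP : (x : H) ∈ P := by
    have hz : IsPGroup p (Subgroup.zpowers (x : H)) :=
      IsPGroup.of_card (n := 1) (by rw [Nat.card_zpowers, hox, pow_one])
    exact mem_of_mem_normalizer P hPp hSyl hxN hz
  -- `P = zpowers x ≤ N`, and `P` is characteristic in ... : conjugates of `P` lie in `N ∩ N_H(P)`
  have hPle : P ≤ N := by
    have h1 : Subgroup.zpowers (x : H) = P := by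
      apply Subgroup.eq_of_le_of_card_ge
      · rw [Subgroup.zpowers_le]
        exact hxP
      · rw [Nat.card_zpowers, hox, hP]
    rw [← h1, Subgroup.zpowers_le]
    exact x.2
  constructor
  intro y hy g
  -- `g y g⁻¹ ∈ N ≤ N_H(P)` has order dividing `p`, so it lies in `P`
  have h1 : g * y * g⁻¹ ∈ N := hN.conj_mem y (hPle hy) g
  have h2 : g * y * g⁻¹ ∈ Subgroup.normalizer (P : Set H) := hle h1
  have hz : IsPGroup p (Subgroup.zpowers (g * y * g⁻¹)) := by
    have hyp : y ^ p = 1 := by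
      have h3 : (⟨y, hy⟩ : P) ^ Nat.card P = 1 := pow_card_eq_one'
      rw [hP] at h3
      exact congrArg Subtype.val h3
    have h4 : (g * y * g⁻¹) ^ p = 1 := by rw [conj_pow, hyp, mul_one, mul_inv_cancel]
    have h5 : orderOf (g * y * g⁻¹) ∣ p := orderOf_dvd_of_pow_eq_one h4
    rcases (Nat.dvd_prime hp).mp h5 with h6 | h6
    · exact IsPGroup.of_card (n := 0) (by rw [Nat.card_zpowers, h6, pow_zero])
    · exact IsPGroup.of_card (n := 1) (by rw [Nat.card_zpowers, h6, pow_one])
  exact mem_of_mem_normalizer P hPp hSyl h2 hz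

/-- `P` is not normal when its normalizer has index `p + 1` -/
theorem not_normal_of_index {p : ℕ} (hp : p.Prime) (P : Subgroup H)
    (hidx : (Subgroup.normalizer (P : Set H)).index = p + 1) : ¬ P.Normal := by
  intro h
  have h1 : Subgroup.normalizer (P : Set H) = ⊤ := Subgroup.normalizer_eq_top_iff.mpr h
  rw [h1, Subgroup.index_top] at hidx
  have := hp.two_le
  omega

/-- `hcore` from `O_{p'}(H) = 1` -/
theorem core_of_pPrime {p : ℕ} (hp : p.Prime) (P : Subgroup H) (hP : Nat.card P = p)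
    (hSyl : ¬ p ∣ P.index) (hnn : ¬ P.Normal)
    (hO : ∀ N : Subgroup H, N.Normal → ¬ p ∣ Nat.card N → N = ⊥) :
    ∀ N : Subgroup H, N.Normal → N ≤ Subgroup.normalizer (P : Set H) → N = ⊥ :=
  fun N hN hle => hO N hN (not_dvd_card_of_le_normalizer hp P hP hSyl hnn N hN hle)

/-- `hcore` from `C_H(P) ≤ P` -/
theorem core_of_centralizer {p : ℕ} (hp : p.Prime) (P : Subgroup H) (hP : Nat.card P = p)
    (hSyl : ¬ p ∣ P.index) (hnn : ¬ P.Normal) (hC : Subgroup.centralizer (P : Set H) ≤ P) :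
    ∀ N : Subgroup H, N.Normal → N ≤ Subgroup.normalizer (P : Set H) → N = ⊥ := by
  intro N hN hle
  have hnd := not_dvd_card_of_le_normalizer hp P hP hSyl hnn N hN hle
  -- `N ∩ P = 1`
  have hint : ∀ z : H, z ∈ N → z ∈ P → z = 1 := by
    intro z hzN hzP
    have h1 : orderOf z ∣ p := by
      rw [← hP]
      have := orderOf_dvd_natCard (⟨z, hzP⟩ : P)
      rwa [Subgroup.orderOf_mk] at this
    have h2 : orderOf z ∣ Nat.card N := by
      have := orderOf_dvd_natCard (⟨z, hzN⟩ : N)
      rwa [Subgroup.orderOf_mk] at this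
    rcases (Nat.dvd_prime hp).mp h1 with h3 | h3
    · exact orderOf_eq_one_iff.mp h3
    · rw [h3] at h2
      exact absurd h2 hnd
  rw [Subgroup.eq_bot_iff_forall]
  intro n hn
  have hnN : n ∈ Subgroup.normalizer (P : Set H) := hle hn
  have hcen : n ∈ Subgroup.centralizer (P : Set H) := by
    rw [Subgroup.mem_centralizer_iff]
    intro y hy
    -- `[n, y] ∈ N ∩ P`
    have h1 : n * y * n⁻¹ ∈ P := (Subgroup.mem_normalizer_iff.mp hnN y).mp hy
    have h2 : n * y * n⁻¹ * y⁻¹ ∈ P := P.mul_mem h1 (P.inv_mem hy)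
    have h3 : n * y * n⁻¹ * y⁻¹ ∈ N := by
      have h4 : y * n⁻¹ * y⁻¹ ∈ N := hN.conj_mem n⁻¹ (N.inv_mem hn) y
      have h5 : n * (y * n⁻¹ * y⁻¹) ∈ N := N.mul_mem hn h4
      have h6 : n * (y * n⁻¹ * y⁻¹) = n * y * n⁻¹ * y⁻¹ := by group
      rwa [h6] at h5
    have h7 := hint _ h3 h2
    -- `y * n = n * y`
    have h8 : n * y = y * n := by
      have h9 : n * y * n⁻¹ * y⁻¹ * (y * n) = n * y := by group
      rw [← h9, h7, one_mul]
    exact h8.symm
  exact hint n hn (hC hcen)

/-- PART S with `C_H(P) ≤ P` -/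
theorem psl2_of_sylow_of_centralizer {p : ℕ} (hp : p.Prime) (hp5 : 5 ≤ p) (P : Subgroup H)
    (hP : Nat.card P = p) (hSyl : ¬ p ∣ P.index) (f : ℕ) (h2f : 2 * f = p - 1)
    (hN : Nat.card (Subgroup.normalizer (P : Set H)) = p * f)
    (hidx : (Subgroup.normalizer (P : Set H)).index = p + 1)
    (hcl : Subgroup.normalClosure (P : Set H) = ⊤)
    (hC : Subgroup.centralizer (P : Set H) ≤ P) :
    Nonempty (H ≃* Matrix.ProjectiveSpecialLinearGroup (Fin 2) (ZMod p)) :=
  psl2_of_sylow hp hp5 P hP hSyl f h2f hN hidx hcl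
    (core_of_centralizer hp P hP hSyl (not_normal_of_index hp P hidx) hC)

/-- PART S with `O_{p'}(H) = 1` -/
theorem psl2_of_sylow_of_pPrime {p : ℕ} (hp : p.Prime) (hp5 : 5 ≤ p) (P : Subgroup H)
    (hP : Nat.card P = p) (hSyl : ¬ p ∣ P.index) (f : ℕ) (h2f : 2 * f = p - 1)
    (hN : Nat.card (Subgroup.normalizer (P : Set H)) = p * f)
    (hidx : (Subgroup.normalizer (P : Set H)).index = p + 1)
    (hcl : Subgroup.normalClosure (P : Set H) = ⊤)
    (hO : ∀ N : Subgroup H, N.Normal → ¬ p ∣ Nat.card N → N = ⊥) :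
    Nonempty (H ≃* Matrix.ProjectiveSpecialLinearGroup (Fin 2) (ZMod p)) :=
  psl2_of_sylow hp hp5 P hP hSyl f h2f hN hidx hcl
    (core_of_pPrime hp P hP hSyl (not_normal_of_index hp P hidx) hO)

end Cfsg.Agent.Lib.Helper16.BRS
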