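/-
helper16: S4504 step (VII) ("PART S"), the semi-affine case of S0732: a group of semi-affine maps
`x ↦ a φ(x) + b` of a field with `p + 1` elements (`p` prime) which is generated by elements `σ` with `σ ^ p = 1`
consists of affine maps, hence has order at most `(p + 1) p`.
-/
import Mathlib
import Cfsg.Prelude.Def_Perm

set_option autoImplicit false

namespace Cfsg.Agent.Lib.Helper16.BRSAff

open Cfsg

/-- the affine maps `x ↦ a x + b` of a field -/
def affSub (F : Type*) [Field F] : Subgroup (Equiv.Perm F) where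
  carrier := {σ | ∃ a : Fˣ, ∃ b : F, ∀ x, σ x = (a : F) * x + b}
  one_mem' := ⟨1, 0, fun x => by simp⟩
  mul_mem' := by
    rintro σ τ ⟨a, b, hσ⟩ ⟨c, d, hτ⟩
    refine ⟨a * c, (a : F) * d + b, fun x => ?_⟩
    simp only [Equiv.Perm.coe_mul, Function.comp_apply, hτ, hσ, Units.val_mul]
    ring
  inv_mem' := by
    rintro σ ⟨a, b, hσ⟩
    refine ⟨a⁻¹, -(((a⁻¹ : Fˣ) : F) * b), fun x => ?_⟩
    apply σ.injective
    rw [Equiv.Perm.inv_def, Equiv.apply_symm_apply, hσ]
    have h1 : (a : F) * ((a⁻¹ : Fˣ) : F) = 1 := Units.mul_inv a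
    linear_combination (-(x - b)) * h1

variable {F : Type*} [Field F]

/-- the affine group has at most `|F| (|F| - 1)` elements -/
theorem card_affSub_le [Fintype F] :
    Nat.card (affSub F) ≤ (Fintype.card F - 1) * Fintype.card F := by
  classical
  let g : Fˣ × F → affSub F := fun ab =>
    ⟨(Units.mulLeft ab.1).trans (Equiv.addRight ab.2), ab.1, ab.2, fun x => rfl⟩
  have hg : Function.Surjective g := by
    rintro ⟨σ, a, b, hσ⟩
    refine ⟨(a, b), ?_⟩
    apply Subtype.ext
    apply Equiv.ext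
    intro x
    exact (hσ x).symm
  have h1 := Nat.card_le_card_of_surjective g hg
  have h2 : Nat.card (Fˣ × F) = (Fintype.card F - 1) * Fintype.card F := by
    rw [Nat.card_prod, Nat.card_eq_fintype_card, Nat.card_eq_fintype_card, Fintype.card_units]
  rw [h2] at h1
  exact h1

/-- the powers of a semi-affine map -/
theorem pow_apply_of_semiaffine {σ : Equiv.Perm F} (a : Fˣ) (b : F) (φ : F ≃+* F)
    (hσ : ∀ x, σ x = (a : F) * φ x + b) (k : ℕ) :
    ∃ c : Fˣ, ∃ d : F, ∀ x, (σ ^ k) x = (c : F) * ((φ ^ k : RingAut F) x) + d := by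
  induction k with
  | zero => exact ⟨1, 0, fun x => by simp⟩
  | succ k ih =>
    obtain ⟨c, d, hk⟩ := ih
    refine ⟨c * Units.map ((φ ^ k : RingAut F) : F →* F) a, (c : F) * ((φ ^ k : RingAut F) b) + d,
      fun x => ?_⟩
    rw [pow_succ, pow_succ, Equiv.Perm.coe_mul, Function.comp_apply, hk, hσ, RingAut.mul_apply,
      map_add, map_mul, Units.val_mul, Units.coe_map]
    simp only [MonoidHom.coe_coe]
    ring

/-- a semi-affine map of a field with `p + 1` elements whose `p`-th power is `1` is affine -/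
theorem mem_affSub_of_pow_eq_one [Fintype F] {p : ℕ} (hp : p.Prime) (hF : Fintype.card F = p + 1)
    {σ : Equiv.Perm F} (hσ : σ ∈ semiaffineGroup F) (hpow : σ ^ p = 1) : σ ∈ affSub F := by
  classical
  haveI : Fact p.Prime := ⟨hp⟩
  obtain ⟨a, b, φ, hφ⟩ := hσ
  obtain ⟨c, d, hcd⟩ := pow_apply_of_semiaffine a b φ hφ p
  rw [hpow] at hcd
  have e0 : ((φ ^ p : RingAut F) 0) = 0 := map_zero _
  have e1 : ((φ ^ p : RingAut F) 1) = 1 := map_one _
  have h0 := hcd 0
  rw [Equiv.Perm.one_apply, e0, mul_zero, zero_add] at h0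
  have h1 := hcd 1
  rw [Equiv.Perm.one_apply, e1, mul_one, ← h0, add_zero] at h1
  have hφp : ∀ x, (φ ^ p : RingAut F) x = x := by
    intro x
    have h2 := hcd x
    rw [Equiv.Perm.one_apply, ← h0, add_zero, ← h1, one_mul] at h2
    exact h2.symm
  -- the permutation `π` of `F` given by `φ`
  set π : Equiv.Perm F := RingAut.toPerm F φ with hπ
  have hπp : π ^ p ^ 1 = 1 := by
    rw [pow_one, hπ, ← map_pow]
    apply Equiv.ext
    intro x
    exact hφp x
  have hmod := Equiv.Perm.card_compl_support_modEq hπp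
  rw [hF] at hmod
  have h0mem : (0 : F) ∈ π.supportᶜ := by
    rw [Finset.mem_compl, Equiv.Perm.notMem_support]
    exact map_zero φ
  have h1mem : (1 : F) ∈ π.supportᶜ := by
    rw [Finset.mem_compl, Equiv.Perm.notMem_support]
    exact map_one φ
  have hge : 2 ≤ π.supportᶜ.card := by
    have hsub : ({0, 1} : Finset F) ⊆ π.supportᶜ := by
      intro x hx
      rw [Finset.mem_insert, Finset.mem_singleton] at hx
      rcases hx with rfl | rfl
      · exact h0mem
      · exact h1mem
    have h2 : ({0, 1} : Finset F).card = 2 := Finset.card_pair zero_ne_one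
    rw [← h2]
    exact Finset.card_le_card hsub
  have hle : π.supportᶜ.card ≤ p + 1 := by
    rw [← hF]
    exact Finset.card_le_univ _
  have hcard : π.supportᶜ.card = p + 1 := by
    have hp2 := hp.two_le
    have h3 : π.supportᶜ.card % p = (p + 1) % p := hmod
    rw [Nat.add_mod_left, Nat.mod_eq_of_lt (by omega : 1 < p)] at h3
    -- `card ≡ 1`, `2 ≤ card ≤ p + 1`
    rcases Nat.lt_or_ge π.supportᶜ.card p with h4 | h4
    · rw [Nat.mod_eq_of_lt h4] at h3
      omega
    · rcases Nat.eq_or_lt_of_le h4 with h5 | h5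
      · rw [← h5, Nat.mod_self] at h3
        omega
      · omega
  have hπ1 : π = 1 := by
    rw [← Equiv.Perm.support_eq_empty_iff, ← Finset.compl_eq_univ_iff,
      ← Finset.card_eq_iff_eq_univ, hcard, hF]
  refine ⟨a, b, fun x => ?_⟩
  rw [hφ x]
  have h2 : π x = x := by rw [hπ1, Equiv.Perm.coe_one, id_eq]
  have h3 : φ x = x := h2
  rw [h3]

/-- PART S, semi-affine case: a group of semi-affine permutations of a field with `p + 1` elements generated by
elements of order dividing `p` has at most `(p + 1) p` elements -/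
theorem card_le_of_semiaffine {α : Type*} [Fintype α] [DecidableEq α] {p : ℕ} (hp : p.Prime)
    [Fintype F] (hF : Fintype.card F = p + 1) (G : Subgroup (Equiv.Perm α)) (e : α ≃ F)
    (hsa : ∀ g : G, e.symm.trans ((g : Equiv.Perm α).trans e) ∈ semiaffineGroup F)
    (S : Set (Equiv.Perm α)) (hS : ∀ σ ∈ S, σ ∈ G ∧ σ ^ p = 1) (hgen : G ≤ Subgroup.closure S) :
    Nat.card G ≤ (p + 1) * p := by
  classical
  -- transport along `e`
  let c : Equiv.Perm α →* Equiv.Perm F := (e.permCongrHom : Equiv.Perm α ≃* Equiv.Perm F).toMonoidHom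
  have hc : ∀ σ : Equiv.Perm α, c σ = e.symm.trans (σ.trans e) := by
    intro σ
    apply Equiv.ext
    intro x
    rfl
  have hcinj : Function.Injective c := (e.permCongrHom : Equiv.Perm α ≃* Equiv.Perm F).injective
  have hle : G.map c ≤ affSub F := by
    have h1 : G ≤ (affSub F).comap c := by
      refine le_trans hgen ?_
      rw [Subgroup.closure_le]
      intro σ hσ
      obtain ⟨hσG, hσp⟩ := hS σ hσ
      show c σ ∈ affSub F
      apply mem_affSub_of_pow_eq_one hp hF
      · rw [hc]
        exact hsa ⟨σ, hσG⟩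
      · rw [← map_pow, hσp, map_one]
    exact Subgroup.map_le_iff_le_comap.mpr h1
  have h2 : Nat.card G = Nat.card (G.map c) :=
    Nat.card_congr (G.equivMapOfInjective c hcinj).toEquiv
  have h3 : Nat.card (G.map c) ≤ Nat.card (affSub F) := Subgroup.card_le_of_le hle
  have h4 := card_affSub_le (F := F)
  rw [hF] at h4
  have h5 : p + 1 - 1 = p := by omega
  rw [h5, mul_comm] at h4
  rw [h2]
  exact le_trans h3 h4

end Cfsg.Agent.Lib.Helper16.BRSAff
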