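/-
helper16: BRW-ARITHR (S4700 + S0996 market, part S, `notes/S4700_S_leaves.lean`).
-/
import Mathlib

set_option autoImplicit false

namespace Cfsg.Agent.Lib.Helper16.BRWARITHR

variable {p : ℕ} [Fact p.Prime]

/-- ARITHR (F3). -/
theorem arith_rank (f t w n r : ℕ) (hft : f * t = p - 1) (hw : 1 ≤ w) (hnt : n + 1 = t * w)
    (hr : r * (n + 1) + w + 1 = f) (hrank : (n + 1) ∣ p * (p - 1)) : w = 1 := by
  have hp : p.Prime := Fact.out
  have hp2 := hp.two_le
  have ht0 : 0 < t := by
    rcases Nat.eq_zero_or_pos t with h | h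
    · rw [h, mul_zero] at hft; omega
    · exact h
  have hf0 : 0 < f := by
    rcases Nat.eq_zero_or_pos f with h | h
    · rw [h, zero_mul] at hft; omega
    · exact h
  have hfle : f ≤ p - 1 := by rw [← hft]; exact Nat.le_mul_of_pos_right f ht0
  have htle : t ≤ p - 1 := by rw [← hft]; exact Nat.le_mul_of_pos_left t hf0
  have hwlt : w < p := by omega
  have hcop_t : Nat.Coprime p t := (Nat.Prime.coprime_iff_not_dvd hp).mpr (fun h => by
    have := Nat.le_of_dvd ht0 h; omega)
  have hcop_w : Nat.Coprime p w := (Nat.Prime.coprime_iff_not_dvd hp).mpr (fun h => by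
    have := Nat.le_of_dvd (by omega) h; omega)
  have hcop : Nat.Coprime (t * w) p := (Nat.Coprime.mul_right hcop_t hcop_w).symm
  rw [hnt] at hrank hr
  have h1 : t * w ∣ p - 1 := hcop.dvd_of_dvd_mul_left hrank
  rw [← hft] at h1
  have h2 : w ∣ f := by
    have h3 : t * w ∣ t * f := by rwa [mul_comm f t] at h1
    exact (Nat.mul_dvd_mul_iff_left ht0).mp h3
  have h3 : w ∣ r * (t * w) + w :=
    Dvd.dvd.add (Dvd.dvd.mul_left (Dvd.intro_left t rfl) r) (dvd_refl w)
  have h4 : w ∣ 1 := by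
    have h5 : w ∣ (r * (t * w) + w) + 1 := by rw [hr]; exact h2
    exact (Nat.dvd_add_right h3).mp h5
  exact Nat.dvd_one.mp h4

end Cfsg.Agent.Lib.Helper16.BRWARITHR
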