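/-
helper16: BRW-ARITHS (S4700 + S0996 market, part S, `notes/S4700_S_leaves.lean`).
-/
import Mathlib
import Cfsg.Agent.Lib.Helper27.BRWDefs

set_option autoImplicit false

namespace Cfsg.Agent.Lib.Helper16.BRWARITHS

open Cfsg.Agent.Lib.Helper27.BRW

variable {p : ℕ} [Fact p.Prime]

/-- ARITHS (F1). -/
theorem arith_special (f t w n A : ℕ) (hft : f * t = p - 1) (hw : 1 ≤ w) (hn : 1 ≤ n) (htw : 2 ≤ t * w)
    (hA : A + f = w * p) (hdvd : A ∣ f * (1 + n * p)) : n + 1 = t * w ∨ Alt p n := by
  have hp : p.Prime := Fact.out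
  have hp2 := hp.two_le
  have hpft : p = f * t + 1 := by omega
  obtain ⟨u, hu⟩ : ∃ u, t * w = u + 1 := ⟨t * w - 1, by omega⟩
  have hu1 : 1 ≤ u := by omega
  have hf0 : 0 < f := by
    rcases Nat.eq_zero_or_pos f with h | h
    · rw [h, zero_mul] at hft; omega
    · exact h
  -- `t A = u p + 1`
  have htA : t * A = u * p + 1 := by
    have h1 : t * A + f * t = u * p + p := by
      calc t * A + f * t = t * (A + f) := by ring
        _ = t * (w * p) := by rw [hA]
        _ = (t * w) * p := by ring
        _ = (u + 1) * p := by rw [hu]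
        _ = u * p + p := by ring
    omega
  -- `A = f u + w`
  have hAv : A = f * u + w := by
    have h1 : A + f = f * u + w + f := by
      calc A + f = w * p := hA
        _ = w * (f * t + 1) := by rw [← hpft]
        _ = f * (t * w) + w := by ring
        _ = f * (u + 1) + w := by rw [hu]
        _ = f * u + w + f := by ring
    omega
  have hA0 : 0 < A := by omega
  rcases lt_trichotomy n u with hlt | heq | hgt
  · -- `n < u`: impossible
    exfalso
    obtain ⟨g, hg⟩ : ∃ g, u = n + g := ⟨u - n, by omega⟩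
    have hg0 : 0 < g := by omega
    have h1 : u * (f * (1 + n * p)) = f * g + (f * n) * (t * A) := by
      rw [htA, hg]; ring
    have h2 : A ∣ f * g + (f * n) * (t * A) := by
      rw [← h1]; exact Dvd.dvd.mul_left hdvd u
    have h3 : A ∣ f * g :=
      (Nat.dvd_add_left (Dvd.dvd.mul_left (Dvd.intro_left t rfl) (f * n))).mp h2
    have h4 : A ≤ f * g := Nat.le_of_dvd (Nat.mul_pos hf0 hg0) h3
    have h5 : f * g ≤ f * u := Nat.mul_le_mul_left f (by omega)
    have h6 : f * g + f * n = f * u := by rw [hg]; ring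
    have h7 : 1 * 1 ≤ f * n := Nat.mul_le_mul hf0 hn
    omega
  · left
    omega
  · -- `n > u`
    right
    obtain ⟨g, hg⟩ : ∃ g, n = u + g := ⟨n - u, by omega⟩
    have hg0 : 0 < g := by omega
    have h1 : u * (f * (1 + n * p)) + f * g = (f * n) * (t * A) := by
      rw [htA, hg]; ring
    have h2 : A ∣ u * (f * (1 + n * p)) + f * g := by
      rw [h1]; exact Dvd.dvd.mul_left (Dvd.intro_left t rfl) (f * n)
    have h3 : A ∣ f * g := (Nat.dvd_add_right (Dvd.dvd.mul_left hdvd u)).mp h2
    -- `gcd A f ∣ w`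
    have h4 : A ∣ Nat.gcd A f * g := Nat.dvd_gcd_mul_iff_dvd_mul.mpr h3
    have hcopf : Nat.Coprime f p := by
      have h5 : Nat.Coprime (p - 1) p := by
        rw [Nat.coprime_comm, Nat.Prime.coprime_iff_not_dvd hp]
        intro h6
        have := Nat.le_of_dvd (by omega) h6
        omega
      exact Nat.Coprime.coprime_dvd_left (Dvd.intro t hft) h5
    have h5 : Nat.gcd A f ∣ w := by
      have h6 : Nat.gcd A f ∣ w * p := by
        rw [← hA]
        exact Dvd.dvd.add (Nat.gcd_dvd_left A f) (Nat.gcd_dvd_right A f)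
      have h7 : Nat.Coprime (Nat.gcd A f) p :=
        Nat.Coprime.coprime_dvd_left (Nat.gcd_dvd_right A f) hcopf
      exact h7.dvd_of_dvd_mul_right h6
    have h6 : A ∣ w * g := dvd_trans h4 (Nat.mul_dvd_mul_right h5 g)
    obtain ⟨h, hh⟩ := h6
    have hh0 : 0 < h := by
      rcases Nat.eq_zero_or_pos h with h7 | h7
      · rw [h7, mul_zero] at hh
        have : 0 < w * g := Nat.mul_pos hw hg0
        omega
      · exact h7
    refine ⟨h, u, hh0, hu1, ?_⟩
    have key : (u + 1) * g = (u * p + 1) * h := by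
      calc (u + 1) * g = (t * w) * g := by rw [hu]
        _ = t * (w * g) := by ring
        _ = t * (A * h) := by rw [hh]
        _ = (t * A) * h := by ring
        _ = (u * p + 1) * h := by rw [htA]
    calc n * (u + 1) = (u + g) * (u + 1) := by rw [hg]
      _ = u ^ 2 + u + (u + 1) * g := by ring
      _ = u ^ 2 + u + (u * p + 1) * h := by rw [key]
      _ = h * u * p + u ^ 2 + u + h := by ring

end Cfsg.Agent.Lib.Helper16.BRWARITHS
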