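/-
helper16: BRW-RKSUM (S4700 + S0996 market, part S, `notes/S4700_S_leaves.lean`): abstract finsum lemma.
-/
import Mathlib
import Cfsg.Prelude.Def_BlockRank
import Cfsg.Agent.Lib.Helper6.BRHDefs
import Cfsg.Agent.Lib.Helper24.BRCDefs

set_option autoImplicit false

namespace Cfsg.Agent.Lib.Helper16.BRWRKSUM

open Cfsg Cfsg.Agent.Lib.Helper8.DOM Cfsg.Agent.Lib.Helper27.DO Cfsg.Agent.CharLib
open Cfsg.Agent.Lib.Helper6.BRH Cfsg.Agent.Lib.Helper24.BRC
open scoped ComplexConjugate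

universe u

variable {G : Type u} [Group G] [Finite G] {p : ℕ} [Fact p.Prime]

omit [Finite G] in
theorem charDegree_trivIrr_eq : charDegree ((trivIrr G : IrrCharacter G) : G → ℂ) = 1 := by
  apply charDegree_eq_of_apply_one
  show (1 : G → ℂ) 1 = ((1 : ℕ) : ℂ)
  simp

/-- RKSUM (F2), abstract form: `B = B_0`, `c χ = ⟨χ|_N, 1_N⟩`, `a χ = ⟨χ|_P, 1_P⟩`. -/
theorem sum_sq_of_rank_data (B : Set (IrrCharacter G)) (c a : IrrCharacter G → ℕ) (n : ℕ)
    (htriv : trivIrr G ∈ B) (hc1 : c (trivIrr G) = 1)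
    (hB0 : ∀ χ ∈ B, χ ≠ trivIrr G → c χ = 0)
    (hle : ∀ χ : IrrCharacter G, χ ∉ B → c χ ≤ a χ)
    (hdeg : ∀ χ : IrrCharacter G, χ ∉ B → charDegree (χ : G → ℂ) = p * a χ)
    (hsum : ∑ᶠ χ : IrrCharacter G, c χ * charDegree (χ : G → ℂ) = 1 + n * p)
    (hsq : ∑ᶠ χ ∈ (Bᶜ : Set (IrrCharacter G)), (a χ) ^ 2 = n) :
    ∑ᶠ χ : IrrCharacter G, (c χ) ^ 2 = n + 1 := by
  classical
  have hp : p.Prime := Fact.out
  haveI : Fintype (IrrCharacter G) := Fintype.ofFinite _
  rw [finsum_eq_sum_of_fintype] at hsum ⊢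
  rw [finsum_mem_def, finsum_eq_sum_of_fintype] at hsq
  -- termwise decomposition of `c χ * χ(1)`
  have hterm : ∀ χ : IrrCharacter G, c χ * charDegree (χ : G → ℂ) =
      (if χ = trivIrr G then 1 else 0) + p * (if χ ∈ B then 0 else c χ * a χ) := by
    intro χ
    by_cases h1 : χ = trivIrr G
    · subst h1
      rw [if_pos rfl, if_pos htriv, hc1, charDegree_trivIrr_eq]
      simp
    · by_cases h2 : χ ∈ B
      · rw [if_neg h1, if_pos h2, hB0 χ h2 h1]
        simp
      · rw [if_neg h1, if_neg h2, hdeg χ h2]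
        ring
  have hsum2 : 1 + n * p = 1 + p * ∑ χ : IrrCharacter G, (if χ ∈ B then 0 else c χ * a χ) := by
    rw [← hsum, Finset.sum_congr rfl (fun χ _ => hterm χ), Finset.sum_add_distrib,
      Finset.sum_ite_eq' Finset.univ (trivIrr G) (fun _ => (1 : ℕ)), if_pos (Finset.mem_univ _),
      Finset.mul_sum]
  have hca : ∑ χ : IrrCharacter G, (if χ ∈ B then 0 else c χ * a χ) = n := by
    have h1 : p * ∑ χ : IrrCharacter G, (if χ ∈ B then 0 else c χ * a χ) = p * n := by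
      rw [mul_comm p n]; omega
    exact Nat.eq_of_mul_eq_mul_left hp.pos h1
  have hsq2 : ∑ χ : IrrCharacter G, (if χ ∈ B then 0 else (a χ) ^ 2) = n := by
    rw [← hsq]
    apply Finset.sum_congr rfl
    intro χ _
    rw [Set.indicator_apply]
    by_cases h2 : χ ∈ B
    · rw [if_pos h2, if_neg (by simpa using h2)]
    · rw [if_neg h2, if_pos (by simpa using h2)]
  -- termwise equality
  have hle2 : ∀ χ ∈ (Finset.univ : Finset (IrrCharacter G)),
      (if χ ∈ B then 0 else c χ * a χ) ≤ (if χ ∈ B then 0 else (a χ) ^ 2) := by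
    intro χ _
    by_cases h2 : χ ∈ B
    · rw [if_pos h2, if_pos h2]
    · rw [if_neg h2, if_neg h2, sq]
      exact Nat.mul_le_mul_right _ (hle χ h2)
  have heq := (Finset.sum_eq_sum_iff_of_le hle2).mp (by rw [hca, hsq2])
  have hcaeq : ∀ χ : IrrCharacter G, χ ∉ B → c χ = a χ := by
    intro χ h2
    have h3 := heq χ (Finset.mem_univ _)
    rw [if_neg h2, if_neg h2, sq] at h3
    rcases Nat.eq_zero_or_pos (a χ) with h4 | h4
    · have := hle χ h2
      omega
    · exact Nat.eq_of_mul_eq_mul_right h4 h3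
  have hterm2 : ∀ χ : IrrCharacter G, (c χ) ^ 2 =
      (if χ = trivIrr G then 1 else 0) + (if χ ∈ B then 0 else (a χ) ^ 2) := by
    intro χ
    by_cases h1 : χ = trivIrr G
    · subst h1
      rw [if_pos rfl, if_pos htriv, hc1]
      simp
    · by_cases h2 : χ ∈ B
      · rw [if_neg h1, if_pos h2, hB0 χ h2 h1]
        simp
      · rw [if_neg h1, if_neg h2, hcaeq χ h2, zero_add]
  rw [Finset.sum_congr rfl (fun χ _ => hterm2 χ), Finset.sum_add_distrib,
    Finset.sum_ite_eq' Finset.univ (trivIrr G) (fun _ => (1 : ℕ)), if_pos (Finset.mem_univ _), hsq2]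
  omega

end Cfsg.Agent.Lib.Helper16.BRWRKSUM
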