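import Mathlib
import Cfsg.Prelude.Def_Characters
import Cfsg.Agent.Lib.Helper24.BSWDefs

set_option autoImplicit false
open Cfsg Cfsg.Agent.Lib.Helper24.BSW

namespace Cfsg.Agent.Lib.Helper16.BSWB2

variable {G : Type*} [Group G] [Finite G]

/-- **B2** `t` is the only involution of `K` (an involution `x ∈ K` has `s x s⁻¹ = x⁻¹ = x`, so
`x ∈ K ⊓ C(s) = <t>`). -/
theorem eq_t_of_mem {t s : G} {K : Subgroup G} (h : Hyp t s K) :
    ∀ x ∈ K, orderOf x = 2 → x = t := by
  intro x hx hox
  have hxx : x * x = 1 := by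
    have := pow_orderOf_eq_one x
    rwa [hox, pow_two] at this
  have hxinv : x⁻¹ = x := inv_eq_of_mul_eq_one_left hxx
  have hx1 : x ≠ 1 := by
    intro h1
    rw [h1, orderOf_one] at hox
    exact absurd hox (by norm_num)
  have h1 := h.hinv x hx
  rw [hxinv] at h1
  have hmem : x ∈ K ⊓ Subgroup.centralizer ({s} : Set G) := by
    refine Subgroup.mem_inf.mpr ⟨hx, ?_⟩
    rw [Subgroup.mem_centralizer_iff]
    intro y hy
    rw [Set.mem_singleton_iff] at hy
    subst hy
    -- y * x = x * y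
    have : y * x = x * y := by
      calc y * x = (y * x * y⁻¹) * y := by group
        _ = x * y := by rw [h1]
    exact this
  rw [h.hCK] at hmem
  obtain ⟨n, hn⟩ := Subgroup.mem_zpowers_iff.mp hmem
  have htt : t ^ 2 = 1 := by
    have := pow_orderOf_eq_one t
    rwa [h.ht] at this
  rcases Int.even_or_odd' n with ⟨m, hm | hm⟩
  · exfalso
    apply hx1
    rw [← hn, hm, zpow_mul, zpow_ofNat, htt, one_zpow]
  · rw [← hn, hm, zpow_add, zpow_mul, zpow_ofNat, htt, one_zpow, one_mul, zpow_one]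

end Cfsg.Agent.Lib.Helper16.BSWB2
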