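import Mathlib
import Cfsg.Prelude.Def_Characters
import Cfsg.Agent.Lib.Helper24.BSWDefs
import Cfsg.Agent.Lib.Helper16.BSWT1Defs
import Cfsg.Agent.Lib.Helper14.BSWB0a
import Cfsg.Agent.Lib.Helper12.BSWB7

set_option autoImplicit false
open Cfsg Cfsg.Agent.Lib.Helper24.BSW Cfsg.Agent.Lib.Helper16.BSWT1

namespace Cfsg.Agent.Lib.Helper16.BSWT1TB

variable {G : Type*} [Group G] [Finite G]

/-- for `|K| = 2`: `K = {1, t}`. -/
theorem mem_K_cases {t s : G} {K : Subgroup G} (h : Hyp t s K) (hk : Nat.card K = 2) :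
    ∀ a ∈ K, a = 1 ∨ a = t := by
  intro a ha
  have hle : Subgroup.zpowers t ≤ K := (Subgroup.zpowers_le).mpr h.htK
  have hcard : Nat.card K ≤ Nat.card (Subgroup.zpowers t) := by
    rw [Nat.card_zpowers, h.ht, hk]
  have heq : Subgroup.zpowers t = K := Subgroup.eq_of_le_of_card_ge hle hcard
  rw [← heq] at ha
  obtain ⟨n, hn⟩ := Subgroup.mem_zpowers_iff.mp ha
  have htt : t ^ 2 = 1 := by
    have := pow_orderOf_eq_one t
    rwa [h.ht] at this
  rcases Int.even_or_odd' n with ⟨m, hm | hm⟩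
  · left
    rw [← hn, hm, zpow_mul, zpow_ofNat, htt, one_zpow]
  · right
    rw [← hn, hm, zpow_add, zpow_mul, zpow_ofNat, htt, one_zpow, one_mul, zpow_one]

/-- **TB** for `|K| = 2` (`K = {1, t}`): `KK` = involutions. -/
theorem mem_KK_iff {t s : G} {K : Subgroup G} (h : Hyp t s K) (hk : Nat.card K = 2) (g : G) :
    g ∈ KK K ↔ orderOf g = 2 := by
  constructor
  · rintro ⟨hg1, x, hx⟩
    rcases mem_K_cases h hk _ hx with h1 | h1
    · exfalso
      apply hg1
      have : g = x⁻¹ * (x * g * x⁻¹) * x := by group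
      rw [this, h1]
      group
    · rw [← Cfsg.Agent.Lib.Helper14.BSWB0a.orderOf_conj' x g, h1, h.ht]
  · intro hg
    have hg1 : g ≠ 1 := by
      intro h1
      rw [h1, orderOf_one] at hg
      exact absurd hg (by norm_num)
    obtain ⟨c, hc⟩ := isConj_iff.mp (h.hconj g t hg h.ht)
    exact ⟨hg1, c, by rw [hc]; exact h.htK⟩

theorem mem_RR_iff {t s : G} {K : Subgroup G} (h : Hyp t s K) (hk : Nat.card K = 2) (g : G) :
    g ∈ RR K ↔ g ≠ 1 ∧ orderOf g ≠ 2 := by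
  constructor
  · intro hg
    refine ⟨hg.1, fun ho => ?_⟩
    exact Cfsg.Agent.Lib.Helper14.BSWB0a.not_mem_RR_of_mem_KK K g
      ((mem_KK_iff h hk g).mpr ho) hg
  · rintro ⟨hg1, ho⟩
    rcases Cfsg.Agent.Lib.Helper14.BSWB0a.mem_KK_or_mem_RR K g hg1 with hK | hR
    · exact absurd ((mem_KK_iff h hk g).mp hK) ho
    · exact hR

theorem odd_of_mem_RR {t s : G} {K : Subgroup G} (h : Hyp t s K) (hk : Nat.card K = 2) (g : G)
    (hg : g ∈ RR K) : Odd (orderOf g) := by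
  by_contra hodd
  rw [Nat.not_odd_iff_even] at hodd
  exact Cfsg.Agent.Lib.Helper14.BSWB0a.not_mem_RR_of_mem_KK K g
    (Cfsg.Agent.Lib.Helper12.BSWB7.even_mem_KK h g hodd) hg

end Cfsg.Agent.Lib.Helper16.BSWT1TB
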