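import Mathlib
import Cfsg.Prelude.Def_Characters
import Cfsg.Agent.Lib.Helper24.BSWDefs
import Cfsg.Agent.Lib.Helper16.BSWT1Defs
import Cfsg.Agent.Lib.Helper16.BSWT1TB
import Cfsg.Agent.Lib.Helper16.BSWB3
import Cfsg.Agent.Lib.Helper14.BSWB0b

set_option autoImplicit false
open Cfsg Cfsg.Agent.Lib.Helper24.BSW Cfsg.Agent.Lib.Helper16.BSWT1

namespace Cfsg.Agent.Lib.Helper16.BSWT1TC

variable {G : Type*} [Group G] [Finite G]

/-- the case `g = t` of TC. -/
theorem pairCount_t {t s : G} {K : Subgroup G} (h : Hyp t s K) (hk : Nat.card K = 2) :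
    pairCount t = 2 := by
  unfold pairCount
  rw [Nat.card_eq_two_iff]
  have hss := BSWB3.s_mul_self h
  have hsinv := BSWB3.s_inv_eq h
  have htt : t * t = 1 := by
    have := pow_orderOf_eq_one t
    rwa [h.ht, pow_two] at this
  have hst : t * s = s * t := by
    have := h.hsH
    rw [Subgroup.mem_centralizer_iff] at this
    exact this t rfl
  have ht1 : t ≠ 1 := by
    intro h1
    have := h.ht
    rw [h1, orderOf_one] at this
    exact absurd this (by norm_num)
  have hstne : s * t ≠ 1 := by
    intro h1
    apply h.hsK
    have : s = t := by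
      calc s = s * t * t := by rw [mul_assoc, htt, mul_one]
        _ = t := by rw [h1, one_mul]
    rw [this]
    exact h.htK
  have host : orderOf (s * t) = 2 := by
    refine orderOf_eq_prime ?_ hstne
    rw [pow_two]
    calc s * t * (s * t) = s * (t * s) * t := by group
      _ = s * (s * t) * t := by rw [hst]
      _ = (s * s) * (t * t) := by group
      _ = 1 := by rw [hss, htt, one_mul]
  have hots : orderOf (t * s) = 2 := by rw [hst]; exact host
  refine ⟨⟨(s, s * t), h.hs, host, by rw [← mul_assoc, hss, one_mul]⟩,
    ⟨(t * s, s), hots, h.hs, by rw [mul_assoc, hss, mul_one]⟩, ?_, ?_⟩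
  · intro heq
    have h2 : s * t = s := congrArg (fun p => p.1.2) heq
    apply ht1
    calc t = s⁻¹ * (s * t) := by group
      _ = 1 := by rw [h2, inv_mul_cancel]
  · ext ⟨⟨u, v⟩, hu, hv, huv⟩
    simp only [Set.mem_insert_iff, Set.mem_singleton_iff, Set.mem_univ, iff_true]
    have huv' : u * v = t := huv
    have hu' : orderOf u = 2 := hu
    have hv' : orderOf v = 2 := hv
    have huu : u * u = 1 := by
      have := pow_orderOf_eq_one u
      rwa [hu', pow_two] at this
    have hvv : v * v = 1 := by
      have := pow_orderOf_eq_one v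
      rwa [hv', pow_two] at this
    have hcomm : v * u = u * v := by
      have h1 : u * v * (u * v) = 1 := by rw [huv', htt]
      calc v * u = (u * u) * (v * u) * (v * v) := by rw [huu, hvv, one_mul, mul_one]
        _ = u * (u * v * (u * v)) * v := by group
        _ = u * v := by rw [h1, mul_one]
    have huC : u ∈ Subgroup.centralizer ({t} : Set G) := by
      rw [Subgroup.mem_centralizer_iff]
      intro x hx
      rw [Set.mem_singleton_iff] at hx
      subst hx
      rw [← huv', mul_assoc, hcomm]
    rw [← h.hH] at huC
    rcases BSWB3.mem_sup_cases h u huC with huK | ⟨k, hkK, hku⟩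
    · exfalso
      rcases BSWT1TB.mem_K_cases h hk u huK with h1 | h1
      · rw [h1, orderOf_one] at hu'
        exact absurd hu' (by norm_num)
      · rw [h1] at huv'
        have : v = 1 := by
          calc v = t⁻¹ * (t * v) := by group
            _ = 1 := by rw [huv', inv_mul_cancel]
        rw [this, orderOf_one] at hv'
        exact absurd hv' (by norm_num)
    · rcases BSWT1TB.mem_K_cases h hk k hkK with h1 | h1
      · left
        rw [h1, one_mul] at hku
        have hv2 : v = s * t := by
          calc v = u⁻¹ * (u * v) := by group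
            _ = s * t := by rw [huv', hku, hsinv]
        apply Subtype.ext
        exact Prod.ext hku hv2
      · right
        rw [h1] at hku
        have hv2 : v = s := by
          calc v = u⁻¹ * (u * v) := by group
            _ = (t * s)⁻¹ * t := by rw [huv', hku]
            _ = s⁻¹ * (t⁻¹ * t) := by group
            _ = s := by rw [inv_mul_cancel, mul_one, hsinv]
        apply Subtype.ext
        exact Prod.ext hku hv2

/-- **TC** an involution `g` is a product of two involutions in exactly 2 ways. -/
theorem pairCount_involution {t s : G} {K : Subgroup G} (h : Hyp t s K) (hk : Nat.card K = 2)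
    (g : G) (hg : orderOf g = 2) : pairCount g = 2 := by
  obtain ⟨c, hc⟩ := isConj_iff.mp (h.hconj t g h.ht hg)
  have h' := Cfsg.Agent.Lib.Helper14.BSWB0b.hyp_conj h c
  have hk' : Nat.card (K.map (MulAut.conj c).toMonoidHom) = 2 := by
    rw [Subgroup.card_map_of_injective (MulAut.conj c).injective, hk]
  have := pairCount_t h' hk'
  rwa [hc] at this

end Cfsg.Agent.Lib.Helper16.BSWT1TC
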