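import Mathlib
import Cfsg.Prelude.Def_Characters
import Cfsg.Agent.Lib.Helper24.BSWDefs
import Cfsg.Agent.Lib.Helper16.BSWT1Defs
import Cfsg.Agent.Lib.Helper16.BSWT1TB
import Cfsg.Agent.Lib.Helper16.BSWT1TC
import Cfsg.Agent.Lib.Helper2.BSWT1TA
import Cfsg.Agent.Lib.Helper15.BSWT1TI

set_option autoImplicit false
open Cfsg Cfsg.Agent.Lib.Helper24.BSW Cfsg.Agent.Lib.Helper16.BSWT1

namespace Cfsg.Agent.Lib.Helper16.BSWT1TD

variable {G : Type*} [Group G] [Finite G]

/-- `u` and `u⁻¹ g` are involutions -/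
def rel (u g : G) : Prop := orderOf u = 2 ∧ orderOf (u⁻¹ * g) = 2

/-- all pairs: `j * j`. -/
theorem card_rel {t s : G} {K : Subgroup G} (h : Hyp t s K) :
    Nat.card {p : G × G // rel p.1 p.2} =
      (Subgroup.centralizer ({t} : Set G)).index * (Subgroup.centralizer ({t} : Set G)).index := by
  have hTA := Cfsg.Agent.Lib.Helper2.BSWT1TA.card_involutions h
  let e : G × G ≃ G × G := Equiv.prodShear (Equiv.refl G) (fun u => Equiv.mulLeft u⁻¹)
  have e1 : {p : G × G // rel p.1 p.2} ≃ {c : G × G // orderOf c.1 = 2 ∧ orderOf c.2 = 2} :=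
    Equiv.subtypeEquiv e (fun a => Iff.rfl)
  rw [Nat.card_congr e1, Nat.card_congr (Equiv.subtypeProdEquivProd (p := fun a : G => orderOf a = 2)
    (q := fun b : G => orderOf b = 2)), Nat.card_prod, hTA]

/-- for an involution `u` and `y` not an involution: `u⁻¹ y` is an involution iff `u` inverts
`y`. -/
theorem rel_iff (u y : G) (hy : orderOf y ≠ 2) :
    rel u y ↔ orderOf u = 2 ∧ u * y * u⁻¹ = y⁻¹ := by
  unfold rel
  constructor
  · rintro ⟨hu, huy⟩
    refine ⟨hu, ?_⟩
    have h1 : (u⁻¹ * y) * (u⁻¹ * y) = 1 := by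
      have := pow_orderOf_eq_one (u⁻¹ * y)
      rwa [huy, pow_two] at this
    have huu : u * u = 1 := by
      have := pow_orderOf_eq_one u
      rwa [hu, pow_two] at this
    have hui : u⁻¹ = u := inv_eq_of_mul_eq_one_left huu
    rw [hui] at h1 ⊢
    calc u * y * u = (u * y * (u * y)) * y⁻¹ := by group
      _ = y⁻¹ := by rw [h1, one_mul]
  · rintro ⟨hu, huy⟩
    refine ⟨hu, ?_⟩
    have huu : u * u = 1 := by
      have := pow_orderOf_eq_one u
      rwa [hu, pow_two] at this
    have hui : u⁻¹ = u := inv_eq_of_mul_eq_one_left huu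
    rw [hui] at huy ⊢
    refine orderOf_eq_prime ?_ ?_
    · rw [pow_two]
      calc u * y * (u * y) = (u * y * u) * y := by group
        _ = 1 := by rw [huy, inv_mul_cancel]
    · intro h1
      apply hy
      have : y = u := by
        calc y = u⁻¹ * (u * y) := by group
          _ = u := by rw [h1, mul_one, hui]
      rw [this, hu]

/-- **TD** the pairs (involution `u`, `y ∈ RR` inverted by `u`) number `j^2 - 3j`. -/
theorem card_pairs {t s : G} {K : Subgroup G} (h : Hyp t s K) (hk : Nat.card K = 2) :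
    Nat.card {p : G × G // p.2 ∈ RR K ∧ orderOf p.1 = 2 ∧ p.1 * p.2 * p.1⁻¹ = p.2⁻¹} +
        3 * (Subgroup.centralizer ({t} : Set G)).index =
      (Subgroup.centralizer ({t} : Set G)).index * (Subgroup.centralizer ({t} : Set G)).index := by
  have hTA := Cfsg.Agent.Lib.Helper2.BSWT1TA.card_involutions h
  rw [← card_rel h]
  -- the `RR` part
  have hRRpart : Nat.card {p : G × G // p.2 ∈ RR K ∧ orderOf p.1 = 2 ∧
      p.1 * p.2 * p.1⁻¹ = p.2⁻¹} = Nat.card {p : G × G // p.2 ∈ RR K ∧ rel p.1 p.2} := by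
    apply Nat.card_congr
    apply Equiv.subtypeEquivRight
    intro p
    constructor
    · rintro ⟨hp, hr⟩
      exact ⟨hp, (rel_iff p.1 p.2 ((BSWT1TB.mem_RR_iff h hk p.2).mp hp).2).mpr hr⟩
    · rintro ⟨hp, hr⟩
      exact ⟨hp, (rel_iff p.1 p.2 ((BSWT1TB.mem_RR_iff h hk p.2).mp hp).2).mp hr⟩
  -- the other part
  have hother : Nat.card {p : G × G // p.2 ∈ (RR K)ᶜ ∧ rel p.1 p.2} =
      3 * (Subgroup.centralizer ({t} : Set G)).index := by
    have h1 : ({1} : Set G) ⊆ (RR K)ᶜ := by
      intro g hg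
      rw [Set.mem_singleton_iff] at hg
      rw [Set.mem_compl_iff, BSWT1TB.mem_RR_iff h hk g]
      exact fun hh => hh.1 hg
    have h2 : {g : G | orderOf g = 2} ⊆ (RR K)ᶜ := by
      intro g hg
      rw [Set.mem_compl_iff, BSWT1TB.mem_RR_iff h hk g]
      exact fun hh => hh.2 hg
    have hd : Disjoint ({1} : Set G) {g : G | orderOf g = 2} := by
      rw [Set.disjoint_left]
      intro g hg hg2
      rw [Set.mem_singleton_iff] at hg
      rw [Set.mem_setOf_eq, hg, orderOf_one] at hg2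
      exact absurd hg2 (by norm_num)
    have := Cfsg.Agent.Lib.Helper15.BSWT1TI.card_pairs_two (RR K)ᶜ ({1} : Set G)
      {g : G | orderOf g = 2} (rel (G := G)) (Subgroup.centralizer ({t} : Set G)).index 2
      h1 h2 hd ?_ ?_ ?_
    · rw [this, Set.coe_setOf, hTA]
      have : Nat.card (({1} : Set G)) = 1 := by
        rw [Nat.card_coe_set_eq, Set.ncard_singleton]
      rw [this]
      ring
    · intro y hy
      rw [Set.mem_singleton_iff] at hy
      subst hy
      rw [← hTA]
      apply Nat.card_congr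
      apply Equiv.subtypeEquivRight
      intro u
      unfold rel
      rw [mul_one, orderOf_inv]
      exact and_self_iff
    · intro y hy
      rw [← BSWT1TC.pairCount_involution h hk y hy]
      unfold pairCount
      refine Nat.card_congr ?_
      refine ⟨fun u => ⟨(u.1, u.1⁻¹ * y), u.2.1, u.2.2, by simp⟩,
        fun p => ⟨p.1.1, p.2.1, by
          have h3 : p.1.1⁻¹ * y = p.1.2 := by
            have hab : p.1.1 * p.1.2 = y := p.2.2.2
            calc p.1.1⁻¹ * y = p.1.1⁻¹ * (p.1.1 * p.1.2) := by rw [hab]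
              _ = p.1.2 := by group
          show orderOf (p.1.1⁻¹ * y) = 2
          rw [h3]
          exact p.2.2.1⟩, ?_, ?_⟩
      · intro u
        rfl
      · rintro ⟨⟨a, b⟩, ha, hb, hab⟩
        apply Subtype.ext
        have hab' : a * b = y := hab
        show (a, a⁻¹ * y) = (a, b)
        rw [← hab']
        congr 1
        group
    · intro y hy hy1 hy2
      exfalso
      apply hy
      rw [BSWT1TB.mem_RR_iff h hk y]
      exact ⟨fun h1 => hy1 (Set.mem_singleton_iff.mpr h1), hy2⟩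
  -- split
  rw [hRRpart, ← hother]
  have hsplit := Set.ncard_inter_add_ncard_diff_eq_ncard {p : G × G | rel p.1 p.2}
    {p : G × G | p.2 ∈ RR K} (Set.toFinite _)
  rw [← Nat.card_coe_set_eq, ← Nat.card_coe_set_eq, ← Nat.card_coe_set_eq] at hsplit
  rw [Set.coe_setOf] at hsplit
  rw [← hsplit]
  congr 1
  · apply Nat.card_congr
    apply Equiv.subtypeEquivRight
    intro p
    exact ⟨fun ⟨a, b⟩ => ⟨b, a⟩, fun ⟨a, b⟩ => ⟨b, a⟩⟩
  · apply Nat.card_congr
    apply Equiv.subtypeEquivRight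
    intro p
    exact ⟨fun ⟨a, b⟩ => ⟨b, a⟩, fun ⟨a, b⟩ => ⟨b, a⟩⟩

end Cfsg.Agent.Lib.Helper16.BSWT1TD
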