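import Mathlib
import Cfsg.Prelude.Def_Characters
import Cfsg.Agent.Lib.Helper24.BSWDefs
import Cfsg.Agent.Lib.Helper16.BSWT1Defs
import Cfsg.Agent.Lib.Helper16.BSWT1TB
import Cfsg.Agent.Lib.Helper16.BSWB1
import Cfsg.Agent.Lib.Helper2.BSWT1TA

set_option autoImplicit false
open Cfsg Cfsg.Agent.Lib.Helper24.BSW Cfsg.Agent.Lib.Helper16.BSWT1

namespace Cfsg.Agent.Lib.Helper16.BSWT1TE

variable {G : Type*} [Group G] [Finite G]

theorem card_G {t s : G} {K : Subgroup G} (h : Hyp t s K) (hk : Nat.card K = 2) :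
    Nat.card G = 4 * (Subgroup.centralizer ({t} : Set G)).index := by
  have h1 := (BSWB1.card_centralizer h).1
  have h2 := Subgroup.card_mul_index (Subgroup.centralizer ({t} : Set G))
  rw [h1, hk] at h2
  omega

/-- **TE** in `_of` form over TA. -/
theorem card_RR_of {t s : G} {K : Subgroup G} (h : Hyp t s K) (hk : Nat.card K = 2)
    (hTA : Nat.card {u : G // orderOf u = 2} = (Subgroup.centralizer ({t} : Set G)).index) :
    Nat.card (RR K) + 1 + (Subgroup.centralizer ({t} : Set G)).index =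
      4 * (Subgroup.centralizer ({t} : Set G)).index := by
  have hG := card_G h hk
  have hcompl : (RR K)ᶜ = insert (1 : G) {u : G | orderOf u = 2} := by
    ext g
    rw [Set.mem_compl_iff, BSWT1TB.mem_RR_iff h hk g, Set.mem_insert_iff, Set.mem_setOf_eq]
    tauto
  have h1 : (1 : G) ∉ {u : G | orderOf u = 2} := by
    rw [Set.mem_setOf_eq, orderOf_one]
    norm_num
  have h2 := Set.ncard_add_ncard_compl (RR K) (Set.toFinite _) (Set.toFinite _)
  rw [hcompl, Set.ncard_insert_of_notMem h1 (Set.toFinite _), ← Nat.card_coe_set_eq,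
    ← Nat.card_coe_set_eq, Set.coe_setOf, hTA, hG] at h2
  omega

/-- **TE** `|RR| = 3j - 1`. -/
theorem card_RR {t s : G} {K : Subgroup G} (h : Hyp t s K) (hk : Nat.card K = 2) :
    Nat.card (RR K) + 1 + (Subgroup.centralizer ({t} : Set G)).index =
      4 * (Subgroup.centralizer ({t} : Set G)).index :=
  card_RR_of h hk (Cfsg.Agent.Lib.Helper2.BSWT1TA.card_involutions h)

end Cfsg.Agent.Lib.Helper16.BSWT1TE
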