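import Mathlib
import Cfsg.Prelude.Def_Characters
import Cfsg.Agent.Lib.Helper24.BSWDefs
import Cfsg.Agent.Lib.Helper16.BSWT1Defs
import Cfsg.Agent.Lib.Helper16.BSWB1
import Cfsg.Agent.Lib.Helper12.BSWB9
import Cfsg.Agent.Lib.Helper2.BSWG3
import Cfsg.Agent.Lib.Helper2.BSWT1TF
import Cfsg.Agent.Lib.Helper2.BSWT1TH
import Cfsg.Agent.Lib.Helper15.BSWT1TG
import Cfsg.Agent.Lib.Helper15.BSWT1TI
import Cfsg.Agent.Lib.Helper15.BSWT1TJ
import Cfsg.Agent.Lib.Helper16.BSWT1TD
import Cfsg.Agent.Lib.Helper16.BSWT1TE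

/-!
# S3282 leaf T1 `small_case` (`|K| = 2`): the assembly TK of the sub-leaves TA..TJ
(`notes/S3282_T1_leaves.lean`).
-/

set_option autoImplicit false
open Cfsg Cfsg.Agent.Lib.Helper24.BSW Cfsg.Agent.Lib.Helper16.BSWT1

namespace Cfsg.Agent.Lib.Helper16.BSWT1TK


variable {G : Type*} [Group G] [Finite G]

/-- the relation "the involution `u` inverts `y`" -/
def inv2 (u y : G) : Prop := orderOf u = 2 ∧ u * y * u⁻¹ = y⁻¹

theorem invCount_eq (y : G) : invCount y = Nat.card {u : G // inv2 u y} := rfl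

theorem exists_of_invCount_ne_zero (y : G) (hy : invCount y ≠ 0) :
    ∃ u : G, orderOf u = 2 ∧ u * y * u⁻¹ = y⁻¹ := by
  by_contra hne
  apply hy
  rw [invCount_eq]
  haveI : IsEmpty {u : G // inv2 u y} := ⟨fun ⟨u, hu⟩ => hne ⟨u, hu⟩⟩
  exact Nat.card_of_isEmpty

theorem invCount_ne_zero_of (y u : G) (hu : orderOf u = 2) (huy : u * y * u⁻¹ = y⁻¹) :
    invCount y ≠ 0 := by
  rw [invCount_eq]
  haveI : Nonempty {u : G // inv2 u y} := ⟨⟨u, hu, huy⟩⟩
  exact Nat.card_pos.ne'

theorem self_mem_cls (y : G) (hy : y ≠ 1) : y ∈ cls y := by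
  refine ⟨hy, 1, ?_⟩
  rw [one_mul, inv_one, mul_one]
  exact Subgroup.mem_centralizer_singleton_iff.mpr rfl

/-- data of the class of a real element of `RR`; `hG3` is the second half of G3. -/
theorem class_data {t s : G} {K : Subgroup G} (h : Hyp t s K) (hk : Nat.card K = 2)
    (j : ℕ) (hjdef : (Subgroup.centralizer ({t} : Set G)).index = j)
    (hG : Nat.card G = 4 * j)
    (hG3 : ∀ y ∈ RR K, ∀ u : G, orderOf u = 2 → u * y * u⁻¹ = y⁻¹ →
      ∀ z ∈ Subgroup.centralizer ({y} : Set G), z ≠ 1 →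
        Subgroup.centralizer ({z} : Set G) = Subgroup.centralizer ({y} : Set G))
    (y : G) (hy : y ∈ RR K) (hr : invCount y ≠ 0) :
    ∃ m : ℕ, 3 ≤ m ∧ Odd m ∧ m ∣ j ∧
      Nat.card (cls y) * (2 * m) = 4 * j * (m - 1) ∧
      cls y ⊆ RR K ∧ (∀ z ∈ cls y, invCount z = m) ∧ (∀ z ∈ cls y, cls z = cls y) ∧
      y ∈ cls y := by
  subst hjdef
  obtain ⟨u, hu, huy⟩ := exists_of_invCount_ne_zero y hr
  obtain ⟨hodd, h3, hinv, hN, hdvd⟩ := Cfsg.Agent.Lib.Helper2.BSWT1TF.real_struct h hk y hy u hu huy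
  have hcp := Cfsg.Agent.Lib.Helper2.BSWT1TH.cls_props h hk y hy u hu huy
  refine ⟨Nat.card (Subgroup.centralizer ({y} : Set G)), h3, hodd, hdvd, ?_,
    fun z hz => (hcp z hz).1, fun z hz => by rw [(hcp z hz).2.1, hinv],
    fun z hz => (hcp z hz).2.2, self_mem_cls y hy.1⟩
  have := Cfsg.Agent.Lib.Helper15.BSWT1TG.card_conj_union (Subgroup.centralizer ({y} : Set G)) (hG3 y hy u hu huy)
  rw [hN, hG] at this
  exact this

/-- `DataP` from two classes of sizes 20 and 24. -/
theorem dataP_of_classes {K : Subgroup G} (hk : Nat.card K = 2) (hG : Nat.card G = 60)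
    (hRR : Nat.card (RR K) = 44) (Ta Tb : Set G) (ha : Ta ⊆ RR K) (hb : Tb ⊆ RR K)
    (hd : Disjoint Ta Tb) (hca : Nat.card Ta = 20) (hcb : Nat.card Tb = 24)
    (hia : ∀ z ∈ Ta, invCount z = 3) (hib : ∀ z ∈ Tb, invCount z = 5) :
    DataP K := by
  have hfin : (RR K).Finite := Set.toFinite _
  have hunion : Ta ∪ Tb = RR K := by
    apply Set.eq_of_subset_of_ncard_le (Set.union_subset ha hb) _ hfin
    rw [Set.ncard_union_eq hd (Set.toFinite _) (Set.toFinite _), ← Nat.card_coe_set_eq,
      ← Nat.card_coe_set_eq, ← Nat.card_coe_set_eq, hca, hcb, hRR]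
  have hcases : ∀ y ∈ RR K, y ∈ Ta ∨ y ∈ Tb := by
    intro y hy
    rw [← hunion] at hy
    exact hy
  have hne : Tb.Nonempty := by
    rw [Set.nonempty_iff_ne_empty]
    intro he
    rw [he] at hcb
    simp at hcb
  refine ⟨by rw [hG, hk], ?_, ?_, ?_⟩
  · intro y hy
    rcases hcases y hy with hya | hyb
    · right; rw [hia y hya, hk]
    · left; rw [hib y hyb, hk]
  · obtain ⟨y, hyb⟩ := hne
    exact ⟨y, hb hyb, by rw [hib y hyb, hk]⟩
  · rw [hk]
    have hle : Nat.card {y : G // y ∈ RR K ∧ invCount y = 2 * 2 + 1} ≤ Nat.card Tb := by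
      apply Nat.card_le_card_of_injective
        (fun y : {y : G // y ∈ RR K ∧ invCount y = 2 * 2 + 1} => (⟨y.1, by
          rcases hcases y.1 y.2.1 with hya | hyb
          · exfalso
            have := y.2.2
            rw [hia y.1 hya] at this
            omega
          · exact hyb⟩ : Tb))
      intro a b hab
      apply Subtype.ext
      exact congrArg (fun x : Tb => (x : G)) hab
    rw [hcb] at hle
    exact hle

/-- **T1** in `_of` form over B1, B9 and the second half of G3. -/
theorem small_case_of {t s : G} {K : Subgroup G} (h : Hyp t s K) (hk : Nat.card K = 2)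
    (hB1 : Nat.card (Subgroup.centralizer ({t} : Set G)) = 2 * Nat.card K)
    (hB9 : Odd (Subgroup.centralizer ({t} : Set G)).index)
    (hG3 : ∀ y ∈ RR K, ∀ u : G, orderOf u = 2 → u * y * u⁻¹ = y⁻¹ →
      ∀ z ∈ Subgroup.centralizer ({y} : Set G), z ≠ 1 →
        Subgroup.centralizer ({z} : Set G) = Subgroup.centralizer ({y} : Set G)) :
    (Nat.card G = 12 ∧ ∀ y ∈ RR K, invCount y = 0) ∨ DataP K := by
  have hG : Nat.card G = 4 * (Subgroup.centralizer ({t} : Set G)).index := by
    have h2 := Subgroup.card_mul_index (Subgroup.centralizer ({t} : Set G))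
    rw [hB1, hk] at h2
    omega
  have hP : Nat.card {p : G × G // p.2 ∈ RR K ∧ inv2 p.1 p.2} +
      3 * (Subgroup.centralizer ({t} : Set G)).index =
      (Subgroup.centralizer ({t} : Set G)).index * (Subgroup.centralizer ({t} : Set G)).index :=
    BSWT1TD.card_pairs h hk
  have hRR := BSWT1TE.card_RR h hk
  obtain ⟨j, hjdef⟩ : ∃ j, (Subgroup.centralizer ({t} : Set G)).index = j := ⟨_, rfl⟩
  rw [hjdef] at hG hP hRR hB9
  have hj0 : 0 < j := hB9.pos
  by_cases hreal : ∀ y ∈ RR K, invCount y = 0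
  · left
    refine ⟨?_, hreal⟩
    have hPe : Nat.card {p : G × G // p.2 ∈ RR K ∧ inv2 p.1 p.2} = 0 := by
      have : IsEmpty {p : G × G // p.2 ∈ RR K ∧ inv2 p.1 p.2} :=
        ⟨fun ⟨p, hp1, hp2⟩ => invCount_ne_zero_of p.2 p.1 hp2.1 hp2.2 (hreal p.2 hp1)⟩
      exact Nat.card_of_isEmpty
    rw [hPe, zero_add] at hP
    have : j = 3 := by
      have : j * 3 = j * j := by rw [← hP]; ring
      exact (Nat.eq_of_mul_eq_mul_left hj0 this).symm
    rw [hG, this]
  · right
    push_neg at hreal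
    obtain ⟨y1, hy1, hr1⟩ := hreal
    obtain ⟨m1, h31, ho1, hd1, hc1, hs1, hi1, he1, hm1⟩ := class_data h hk j hjdef hG hG3 y1 hy1 hr1
    by_cases hall1 : ∀ y ∈ RR K, invCount y ≠ 0 → y ∈ cls y1
    · exfalso
      have hcount := Cfsg.Agent.Lib.Helper15.BSWT1TI.card_pairs_two (RR K) (cls y1) ∅ (inv2 (G := G)) m1 0 hs1
        (Set.empty_subset _) (Set.disjoint_empty _) (fun y hy => hi1 y hy)
        (fun y hy => absurd hy (Set.notMem_empty y))
        (fun y hy hn1 _ => by
          by_contra hne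
          exact hn1 (hall1 y hy hne))
      rw [mul_zero, add_zero] at hcount
      rw [hcount] at hP
      have hj : j = 3 + 2 * (m1 - 1) := by
        generalize m1 - 1 = d1 at *
        have : j * j = j * (3 + 2 * d1) := by nlinarith
        exact Nat.eq_of_mul_eq_mul_left hj0 this
      exact Cfsg.Agent.Lib.Helper15.BSWT1TJ.arith_one j m1 h31 hd1 hj
    · push_neg at hall1
      obtain ⟨y2, hy2, hr2, hny2⟩ := hall1
      obtain ⟨m2, h32, ho2, hd2, hc2, hs2, hi2, he2, hm2⟩ := class_data h hk j hjdef hG hG3 y2 hy2 hr2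
      have hdisj12 : Disjoint (cls y1) (cls y2) := by
        rw [Set.disjoint_left]
        intro z hz1 hz2
        apply hny2
        rw [← he1 z hz1, he2 z hz2]
        exact hm2
      by_cases hall2 : ∀ y ∈ RR K, invCount y ≠ 0 → y ∈ cls y1 ∨ y ∈ cls y2
      · have hcount := Cfsg.Agent.Lib.Helper15.BSWT1TI.card_pairs_two (RR K) (cls y1) (cls y2) (inv2 (G := G)) m1 m2 hs1 hs2
          hdisj12 (fun y hy => hi1 y hy) (fun y hy => hi2 y hy)
          (fun y hy hn1 hn2 => by
            by_contra hne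
            rcases hall2 y hy hne with h1 | h2
            · exact hn1 h1
            · exact hn2 h2)
        rw [hcount] at hP
        have hj : j = 3 + 2 * (m1 - 1) + 2 * (m2 - 1) := by
          generalize m1 - 1 = d1 at *
          generalize m2 - 1 = d2 at *
          have : j * j = j * (3 + 2 * d1 + 2 * d2) := by nlinarith
          exact Nat.eq_of_mul_eq_mul_left hj0 this
        obtain ⟨hj15, hm⟩ := Cfsg.Agent.Lib.Helper15.BSWT1TJ.arith_two j m1 m2 h31 h32 ho1 ho2 hd1 hd2 hj
        have hG60 : Nat.card G = 60 := by rw [hG, hj15]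
        have hRR44 : Nat.card (RR K) = 44 := by rw [hj15] at hRR; omega
        rcases hm with ⟨rfl, rfl⟩ | ⟨rfl, rfl⟩
        · have hca : Nat.card (cls y1) = 20 := by rw [hj15] at hc1; omega
          have hcb : Nat.card (cls y2) = 24 := by rw [hj15] at hc2; omega
          exact dataP_of_classes hk hG60 hRR44 (cls y1) (cls y2) hs1 hs2 hdisj12 hca hcb hi1 hi2
        · have hca : Nat.card (cls y2) = 20 := by rw [hj15] at hc2; omega
          have hcb : Nat.card (cls y1) = 24 := by rw [hj15] at hc1; omega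
          exact dataP_of_classes hk hG60 hRR44 (cls y2) (cls y1) hs2 hs1 hdisj12.symm hca hcb
            hi2 hi1
      · exfalso
        push_neg at hall2
        obtain ⟨y3, hy3, hr3, hn31, hn32⟩ := hall2
        obtain ⟨m3, h33, ho3, hd3, hc3, hs3, hi3, he3, hm3⟩ :=
          class_data h hk j hjdef hG hG3 y3 hy3 hr3
        have hdisj13 : Disjoint (cls y1) (cls y3) := by
          rw [Set.disjoint_left]
          intro z hz1 hz3
          apply hn31
          rw [← he1 z hz1, he3 z hz3]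
          exact hm3
        have hdisj23 : Disjoint (cls y2) (cls y3) := by
          rw [Set.disjoint_left]
          intro z hz2 hz3
          apply hn32
          rw [← he2 z hz2, he3 z hz3]
          exact hm3
        have hl1 := Cfsg.Agent.Lib.Helper15.BSWT1TJ.arith_class_lower _ j m1 h31 hc1
        have hl2 := Cfsg.Agent.Lib.Helper15.BSWT1TJ.arith_class_lower _ j m2 h32 hc2
        have hl3 := Cfsg.Agent.Lib.Helper15.BSWT1TJ.arith_class_lower _ j m3 h33 hc3
        have hle : Nat.card (cls y1) + Nat.card (cls y2) + Nat.card (cls y3) ≤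
            Nat.card (RR K) := by
          rw [Nat.card_coe_set_eq, Nat.card_coe_set_eq, Nat.card_coe_set_eq,
            Nat.card_coe_set_eq,
            ← Set.ncard_union_eq hdisj12 (Set.toFinite _) (Set.toFinite _),
            ← Set.ncard_union_eq (Set.disjoint_union_left.mpr ⟨hdisj13, hdisj23⟩)
              (Set.toFinite _) (Set.toFinite _)]
          exact Set.ncard_le_ncard (Set.union_subset (Set.union_subset hs1 hs2) hs3)
            (Set.toFinite _)
        omega

/-- **T1** `k = 2`: either `|G| = 12` and no element of `RR` is real, or `DataP K` holds. -/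
theorem small_case {t s : G} {K : Subgroup G} (h : Hyp t s K) (hk : Nat.card K = 2) :
    (Nat.card G = 12 ∧ ∀ y ∈ RR K, invCount y = 0) ∨ DataP K :=
  small_case_of h hk (BSWB1.card_centralizer h).1 (Cfsg.Agent.Lib.Helper12.BSWB9.odd_index h)
    (fun y hy u hu huy =>
      (Cfsg.Agent.Lib.Helper2.BSWG3.centralizer_eq_of_mem h y hy u hu huy).2)

end Cfsg.Agent.Lib.Helper16.BSWT1TK
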