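/-
helper16: BT-ARITHEND (S0997 market "BT", `notes/S0997_leaves.lean`).
-/
import Mathlib

set_option autoImplicit false

namespace Cfsg.Agent.Lib.Helper16.BTARITHEND

variable {p : ℕ} [Fact p.Prime]

/-- BT-ARITHEND  (steps 7-8). -/
theorem arith_end (b dd f n : ℕ) (h1 : p * 2 ^ b * dd = p * f * (1 + n * p)) (hddf : dd + f = p) (hf2 : 2 ≤ f)
    (hle : 2 ^ b ≤ f * (n + 1)) : 2 ^ b = p - 1 ∧ 2 * (1 + n * p) < (p + 1) * (p + 2) := by
  have hp : p.Prime := Fact.out
  have hp2 := hp.two_le
  set B : ℕ := 2 ^ b with hBdef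
  have hB1 : 1 ≤ B := Nat.one_le_two_pow
  have hB : B * dd = f * (1 + n * p) := by
    apply Nat.eq_of_mul_eq_mul_left hp.pos
    rw [← mul_assoc, h1, mul_assoc]
  have hdd1 : 1 ≤ dd := by
    rcases Nat.eq_zero_or_pos dd with h | h
    · rw [h, mul_zero] at hB
      have : 0 < f * (1 + n * p) := Nat.mul_pos (by omega) (by omega)
      omega
    · exact h
  -- `B + 1 ≤ p`
  have hle1 : B + 1 ≤ p := by
    have h2 : p * B ≤ p * (f * (n + 1)) := Nat.mul_le_mul_left p hle
    have h3 : p * (f * (n + 1)) + f = B * dd + f * p := by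
      rw [hB]; ring
    have h4 : p * B = dd * B + f * B := by rw [← hddf]; ring
    have h5 : f * (B + 1) ≤ f * p := by
      have h6 : f * (B + 1) = f * B + f := by ring
      have h7 : dd * B = B * dd := mul_comm _ _
      omega
    exact Nat.le_of_mul_le_mul_left h5 (by omega)
  -- `p ∣ B + 1`
  have hdvd : p ∣ B + 1 := by
    have h2 : p * B = f * (B + 1) + p * (f * n) := by
      have h3 : p * B = dd * B + f * B := by rw [← hddf]; ring
      have h4 : dd * B = B * dd := mul_comm _ _
      have h5 : f * (1 + n * p) = f + p * (f * n) := by ring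
      have h6 : f * (B + 1) = f * B + f := by ring
      omega
    have h3 : p ∣ f * (B + 1) + p * (f * n) := Dvd.intro B h2
    have h4 : p ∣ f * (B + 1) := (Nat.dvd_add_left (Dvd.intro (f * n) rfl)).mp h3
    have hcop : Nat.Coprime p f := by
      rw [Nat.Prime.coprime_iff_not_dvd hp]
      intro h5
      have := Nat.le_of_dvd (by omega) h5
      omega
    exact hcop.dvd_of_dvd_mul_left h4
  have hle2 : p ≤ B + 1 := Nat.le_of_dvd (by omega) hdvd
  have hBp : B + 1 = p := le_antisymm hle1 hle2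
  refine ⟨by omega, ?_⟩
  -- `2 (1 + n p) ≤ f (1 + n p) = B dd ≤ B B`
  have h2 : 2 * (1 + n * p) ≤ f * (1 + n * p) := Nat.mul_le_mul_right _ hf2
  have h3 : B * dd ≤ B * B := Nat.mul_le_mul_left B (by omega)
  have h4 : (p + 1) * (p + 2) = B * B + 5 * B + 6 := by rw [← hBp]; ring
  omega

end Cfsg.Agent.Lib.Helper16.BTARITHEND
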