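/-
helper16: BT-FTWO (S0997 market "BT", `notes/S0997_leaves.lean`).
-/
import Mathlib

set_option autoImplicit false

namespace Cfsg.Agent.Lib.Helper16.BTFTWO

variable {p : ℕ} [Fact p.Prime]

/-- BT-FTWO  (step 5 for `f = 2`). -/
theorem f_two_arith {ι : Type*} (S : Finset ι) (hS : S.card = 1) (d : ι → ℕ) (s : ι → ℤ) (b dd : ℕ) (hddf : dd + 2 = p)
    (hs : ∀ i ∈ S, s i = 1 ∨ s i = -1) (hdvd : ∀ i ∈ S, d i ∣ p * 2 ^ b * dd)
    (hsum : -(dd : ℤ) = 1 + ∑ i ∈ S, s i * (d i : ℤ)) :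
    (∀ i ∈ S, s i = -1 → d i = p - 1) ∧ ∃ e : ℕ, p - 1 = 2 ^ e := by
  obtain ⟨i₀, hi₀⟩ := Finset.card_eq_one.mp hS
  rw [hi₀, Finset.sum_singleton] at hsum
  have hmem : i₀ ∈ S := by rw [hi₀]; exact Finset.mem_singleton_self i₀
  have hd0 : (0 : ℤ) ≤ (d i₀ : ℤ) := Int.natCast_nonneg _
  have hdd0 : (0 : ℤ) ≤ (dd : ℤ) := Int.natCast_nonneg _
  have hs0 : s i₀ = -1 := by
    rcases hs i₀ hmem with h | h
    · rw [h, one_mul] at hsum
      omega
    · exact h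
  have hdi : d i₀ = p - 1 := by
    rw [hs0] at hsum
    have h1 : (d i₀ : ℤ) = (dd : ℤ) + 1 := by linarith
    have h2 : d i₀ = dd + 1 := by exact_mod_cast h1
    omega
  refine ⟨?_, ?_⟩
  · intro i hi _
    rw [hi₀, Finset.mem_singleton] at hi
    rw [hi]
    exact hdi
  · have h1 := hdvd i₀ hmem
    rw [hdi] at h1
    have hp1 : p - 1 = dd + 1 := by omega
    rw [hp1, ← hddf] at h1
    -- `dd + 1 ∣ (dd + 2) * 2 ^ b * dd`
    have hc1 : Nat.Coprime (dd + 1) (dd + 2) := by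
      have : dd + 2 = (dd + 1) + 1 := by ring
      rw [this, Nat.coprime_self_add_right]
      exact Nat.coprime_one_right _
    have hc2 : Nat.Coprime (dd + 1) dd := by
      rw [Nat.coprime_comm]
      have : dd + 1 = dd + 1 := rfl
      rw [Nat.coprime_self_add_right]
      exact Nat.coprime_one_right _
    have h2 : dd + 1 ∣ (dd + 2) * (2 ^ b * dd) := by rwa [mul_assoc] at h1
    have h3 : dd + 1 ∣ 2 ^ b * dd := hc1.dvd_of_dvd_mul_left h2
    have h4 : dd + 1 ∣ 2 ^ b := hc2.dvd_of_dvd_mul_right h3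
    obtain ⟨e, -, he⟩ := (Nat.dvd_prime_pow Nat.prime_two).mp h4
    exact ⟨e, by rw [hp1, he]⟩

end Cfsg.Agent.Lib.Helper16.BTFTWO
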