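/-
helper16: BT-NEGEX (S0997 market "BT", `notes/S0997_leaves.lean`).
-/
import Mathlib

set_option autoImplicit false

namespace Cfsg.Agent.Lib.Helper16.BTNEGEX

/-- BT-NEGEX.  Some sign is `-1` (else the right side is positive). -/
theorem exists_neg {ι : Type*} (S : Finset ι) (d : ι → ℕ) (s : ι → ℤ) (dd : ℕ) (hs : ∀ i ∈ S, s i = 1 ∨ s i = -1)
    (hsum : -(dd : ℤ) = 1 + ∑ i ∈ S, s i * (d i : ℤ)) : ∃ i ∈ S, s i = -1 := by
  by_contra hcon
  push_neg at hcon
  have h1 : ∀ i ∈ S, 0 ≤ s i * (d i : ℤ) := by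
    intro i hi
    rcases hs i hi with h | h
    · rw [h, one_mul]
      exact Int.natCast_nonneg _
    · exact absurd h (hcon i hi)
  have h2 := Finset.sum_nonneg h1
  have h3 : (0 : ℤ) ≤ dd := Int.natCast_nonneg _
  omega

end Cfsg.Agent.Lib.Helper16.BTNEGEX
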