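/-
helper16: BT-STRUCT (S0997 market "BT", `notes/S0997_leaves.lean`).
-/
import Mathlib

set_option autoImplicit false

namespace Cfsg.Agent.Lib.Helper16.BTSTRUCT

variable {p : ℕ} [Fact p.Prime]

/-- BT-STRUCT  (step 3). -/
theorem struct_arith (N q b g₀ f dd c n : ℕ) (hq : q.Prime) (h1 : N = p * q ^ b * g₀) (h2 : N = p * c * f * (1 + n * p)) (hN : 0 < N)
    (hg : g₀ < p - 1) (hdd : dd ∣ g₀) (hddf : dd + f = p) (hf2 : 2 ≤ f) (hfdvd : f ∣ p - 1) (hflt : f < p - 1) (hmod : q ∣ dd + 1) :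
    q = 2 ∧ g₀ = dd ∧ ∃ a : ℕ, 1 ≤ a ∧ f = 2 ^ a := by
  have hp : p.Prime := Fact.out
  have hp2 := hp.two_le
  -- `2 f ≤ p - 1`
  obtain ⟨k, hk⟩ := hfdvd
  have hk2 : 2 ≤ k := by
    rcases Nat.lt_or_ge k 2 with h | h
    · have h01 : k = 0 ∨ k = 1 := by omega
      rcases h01 with h0 | h0
      · rw [h0, mul_zero] at hk; omega
      · rw [h0, mul_one] at hk; omega
    · exact h
  have h2f : 2 * f ≤ p - 1 := by
    rw [hk, mul_comm 2 f]
    exact Nat.mul_le_mul_left f hk2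
  -- `g₀ = dd`
  have hg0 : 0 < g₀ := by
    rcases Nat.eq_zero_or_pos g₀ with h | h
    · rw [h, mul_zero] at h1; omega
    · exact h
  obtain ⟨j, hj⟩ := hdd
  have hj1 : j = 1 := by
    rcases Nat.lt_or_ge j 2 with h | h
    · have h01 : j = 0 ∨ j = 1 := by omega
      rcases h01 with h0 | h0
      · rw [h0, mul_zero] at hj; omega
      · exact h0
    · exfalso
      have h3 : dd * 2 ≤ dd * j := Nat.mul_le_mul_left dd h
      omega
  have hgdd : g₀ = dd := by rw [hj, hj1, mul_one]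
  -- `f ∣ q ^ b`
  have hfN : f ∣ p * (q ^ b * dd) := by
    have h3 : f ∣ N := by rw [h2]; exact ⟨p * c * (1 + n * p), by ring⟩
    rw [h1, hgdd, mul_assoc] at h3
    exact h3
  have hcop1 : Nat.Coprime (p - 1) p := by
    rw [Nat.coprime_comm, Nat.Prime.coprime_iff_not_dvd hp]
    intro h3
    have := Nat.le_of_dvd (by omega) h3
    omega
  have hcopfp : Nat.Coprime f p := Nat.Coprime.coprime_dvd_left (Dvd.intro k hk.symm) hcop1
  have hcopfd : Nat.Coprime f dd := by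
    have h3 : Nat.Coprime f (dd + f) := by rw [hddf]; exact hcopfp
    exact Nat.coprime_add_self_right.mp h3
  have h3 : f ∣ q ^ b * dd := hcopfp.dvd_of_dvd_mul_left hfN
  have h4 : f ∣ q ^ b := hcopfd.dvd_of_dvd_mul_right h3
  obtain ⟨a, -, ha⟩ := (Nat.dvd_prime_pow hq).mp h4
  have ha1 : 1 ≤ a := by
    rcases Nat.eq_zero_or_pos a with h | h
    · rw [h, pow_zero] at ha; omega
    · exact h
  -- `q = 2`
  have hqf : q ∣ f := by rw [ha]; exact dvd_pow_self q (by omega)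
  have hqp1 : q ∣ p - 1 := dvd_trans hqf (Dvd.intro k hk.symm)
  have hq2 : q ∣ 2 := by
    have h5 : q ∣ (p - 1) + 2 := by
      have h6 : (p - 1) + 2 = (dd + 1) + f := by omega
      rw [h6]
      exact Dvd.dvd.add hmod hqf
    exact (Nat.dvd_add_right hqp1).mp h5
  have hq2' : q = 2 := (Nat.prime_dvd_prime_iff_eq hq Nat.prime_two).mp hq2
  exact ⟨hq2', hgdd, a, ha1, by rw [ha, hq2']⟩

end Cfsg.Agent.Lib.Helper16.BTSTRUCT
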