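/-
helper16: BT-TWOADIC (S0997 market "BT", `notes/S0997_leaves.lean`).
-/
import Mathlib

set_option autoImplicit false

namespace Cfsg.Agent.Lib.Helper16.BTTWOADIC

variable {p : ℕ} [Fact p.Prime]

/-- BT-TWOADIC  (step 4; helper21 msg 8224 / helper19 msg 8231). -/
theorem two_adic {ι : Type*} (S : Finset ι) (d : ι → ℕ) (s : ι → ℤ) (a b dd f : ℕ) (ha : 1 ≤ a) (hf : f = 2 ^ a) (hfdvd : f ∣ p - 1)
    (hflt : f < p - 1) (hddf : dd + f = p) (hs : ∀ i ∈ S, s i = 1 ∨ s i = -1) (hcong : ∀ i ∈ S, (d i : ℤ) ≡ s i [ZMOD p])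
    (heven : ∀ i ∈ S, 2 ∣ d i) (hdvd : ∀ i ∈ S, d i ∣ p * 2 ^ b * dd)
    (hsum : -(dd : ℤ) = 1 + ∑ i ∈ S, s i * (d i : ℤ)) : f = 2 ∨ 2 * f + 1 = p := by
  have hp : p.Prime := Fact.out
  have hp2 := hp.two_le
  rcases Nat.lt_or_ge a 2 with ha2 | ha2
  · left
    have : a = 1 := by omega
    rw [hf, this, pow_one]
  right
  -- `4 ∣ f ∣ p - 1`
  have h4f : 4 ∣ f := by
    rw [hf]
    obtain ⟨a', rfl⟩ : ∃ a', a = a' + 2 := ⟨a - 2, by omega⟩
    exact ⟨2 ^ a', by ring⟩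
  have h4p : 4 ∣ p - 1 := dvd_trans h4f hfdvd
  have hf4 : 4 ≤ f := Nat.le_of_dvd (by rw [hf]; positivity) h4f
  have hdd0 : 0 < dd := by omega
  -- some `d i` is not divisible by `4`
  have hex : ∃ i ∈ S, ¬ 4 ∣ d i := by
    by_contra hcon
    simp only [not_exists, not_and, not_not] at hcon
    have h1 : (4 : ℤ) ∣ ∑ i ∈ S, s i * (d i : ℤ) := by
      apply Finset.dvd_sum
      intro i hi
      exact Dvd.dvd.mul_left (by exact_mod_cast hcon i hi) (s i)
    have h2 : (4 : ℤ) ∣ (dd : ℤ) + 1 := by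
      have h3 : (dd : ℤ) + 1 = -(∑ i ∈ S, s i * (d i : ℤ)) := by linarith
      rw [h3]
      exact (dvd_neg).mpr h1
    have h3 : 4 ∣ dd + 1 := by exact_mod_cast h2
    have h5 : 4 ∣ (dd + 1) + f := Dvd.dvd.add h3 h4f
    have h6 : (dd + 1) + f = (p - 1) + 2 := by omega
    rw [h6] at h5
    have h7 : 4 ∣ 2 := (Nat.dvd_add_right h4p).mp h5
    omega
  obtain ⟨i, hi, h4i⟩ := hex
  obtain ⟨w, hw⟩ := heven i hi
  have hwodd : ¬ 2 ∣ w := by
    rintro ⟨w', hw'⟩
    apply h4i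
    exact ⟨w', by rw [hw, hw']; ring⟩
  have hNpos : 0 < p * 2 ^ b * dd := by positivity
  have hdi0 : 0 < d i := Nat.pos_of_dvd_of_pos (hdvd i hi) hNpos
  -- `d i` is prime to `p`
  have hmod := (Int.modEq_iff_dvd.mp (hcong i hi))
  have hcopd : Nat.Coprime (d i) p := by
    rw [Nat.coprime_comm, Nat.Prime.coprime_iff_not_dvd hp]
    intro h1
    have h2 : (p : ℤ) ∣ (d i : ℤ) := by exact_mod_cast h1
    have h3 : (p : ℤ) ∣ s i := by
      have := dvd_add hmod h2
      simpa using this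
    rcases hs i hi with h | h
    · rw [h] at h3
      have := Int.le_of_dvd one_pos h3
      omega
    · rw [h] at h3
      have h4 : (p : ℤ) ∣ 1 := by
        have := (dvd_neg).mpr h3
        simpa using this
      have := Int.le_of_dvd one_pos h4
      omega
  have h1 : d i ∣ 2 ^ b * dd := by
    have h2 := hdvd i hi
    rw [mul_assoc] at h2
    exact hcopd.dvd_of_dvd_mul_left h2
  have hwd : w ∣ dd := by
    have h2 : w ∣ 2 ^ b * dd := dvd_trans ⟨2, by rw [hw]; ring⟩ h1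
    have hcop : Nat.Coprime w (2 ^ b) := by
      apply Nat.Coprime.pow_right
      rw [Nat.coprime_comm, Nat.Prime.coprime_iff_not_dvd Nat.prime_two]
      exact hwodd
    exact hcop.dvd_of_dvd_mul_left h2
  have hwle : w ≤ dd := Nat.le_of_dvd hdd0 hwd
  have hdile : d i ≤ 2 * dd := by rw [hw]; omega
  have hpZ : (0 : ℤ) < (p : ℤ) := by exact_mod_cast hp.pos
  have hdiZ : (1 : ℤ) ≤ (d i : ℤ) := by exact_mod_cast hdi0
  have hdileZ : (d i : ℤ) ≤ 2 * (p : ℤ) - 8 := by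
    have : d i ≤ 2 * p - 8 := by omega
    have h2 : 8 ≤ 2 * p := by omega
    have h3 : ((2 * p - 8 : ℕ) : ℤ) = 2 * (p : ℤ) - 8 := by
      rw [Nat.cast_sub h2]; push_cast; ring
    calc (d i : ℤ) ≤ ((2 * p - 8 : ℕ) : ℤ) := by exact_mod_cast this
      _ = 2 * (p : ℤ) - 8 := h3
  -- `d i = p + 1`
  have hdi : d i = p + 1 := by
    rcases hs i hi with h | h
    · rw [h] at hmod
      -- `p ∣ 1 - d i`
      rcases le_or_gt (d i : ℤ) (p : ℤ) with hle | hgt
      · have h2 : |(1 : ℤ) - (d i : ℤ)| < (p : ℤ) := by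
          rw [abs_lt]; constructor <;> linarith
        have h3 := Int.eq_zero_of_abs_lt_dvd hmod h2
        exfalso
        have h4 : (d i : ℤ) = 1 := by linarith
        have h5 : d i = 1 := by exact_mod_cast h4
        rw [hw] at h5
        omega
      · have h2 : (p : ℤ) ∣ (1 : ℤ) - (d i : ℤ) + (p : ℤ) := dvd_add hmod (dvd_refl _)
        have h3 : |(1 : ℤ) - (d i : ℤ) + (p : ℤ)| < (p : ℤ) := by
          rw [abs_lt]; constructor <;> linarith
        have h4 := Int.eq_zero_of_abs_lt_dvd h2 h3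
        have h5 : (d i : ℤ) = (p : ℤ) + 1 := by linarith
        exact_mod_cast h5
    · exfalso
      rw [h] at hmod
      -- `p ∣ -1 - d i`
      have h2 : (p : ℤ) ∣ (-1 : ℤ) - (d i : ℤ) + (p : ℤ) := dvd_add hmod (dvd_refl _)
      have h3 : |(-1 : ℤ) - (d i : ℤ) + (p : ℤ)| < (p : ℤ) := by
        rw [abs_lt]; constructor <;> linarith
      have h4 := Int.eq_zero_of_abs_lt_dvd h2 h3
      have h5 : (d i : ℤ) = (p : ℤ) - 1 := by linarith
      have h6 : d i + 1 = p := by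
        have : (d i : ℤ) + 1 = (p : ℤ) := by linarith
        exact_mod_cast this
      apply h4i
      have h7 : d i = p - 1 := by omega
      rw [h7]
      exact h4p
  -- `dd = w`
  obtain ⟨j, hj⟩ := hwd
  have hj1 : j = 1 := by
    rcases Nat.lt_or_ge j 2 with h | h
    · have h01 : j = 0 ∨ j = 1 := by omega
      rcases h01 with h0 | h0
      · rw [h0, mul_zero] at hj; omega
      · exact h0
    · exfalso
      have h3 : w * 2 ≤ w * j := Nat.mul_le_mul_left w h
      omega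
  rw [hj1, mul_one] at hj
  omega

end Cfsg.Agent.Lib.Helper16.BTTWOADIC
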