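import Cfsg.Agent.Lib.Helper16.TransferInvolution
import Cfsg.Agent.Lib.Helper16.Frattini
import Cfsg.Agent.Lib.Helper17.Coprime

set_option autoImplicit false
open Cfsg

namespace Cfsg.Agent.Lib.Helper16

/-- a `p`-element normalizing a Sylow `p`-subgroup lies in it. -/
theorem mem_sylow_of_mem_normalizer_of_orderOf {G : Type*} [Group G] {p : ℕ} [Fact p.Prime]
    (S : Sylow p G) {a : G} (ha : a ∈ Subgroup.normalizer ((S : Subgroup G) : Set G))
    (hao : ∃ k : ℕ, orderOf a = p ^ k) : a ∈ (S : Subgroup G) := by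
  obtain ⟨k, hk⟩ := hao
  have hzp : IsPGroup p (Subgroup.zpowers a) := IsPGroup.of_card (n := k) (by rw [Nat.card_zpowers, hk])
  have hzn : Subgroup.zpowers a ≤ Subgroup.normalizer ((S : Subgroup G) : Set G) := by
    rw [Subgroup.zpowers_le]; exact ha
  have hsup := hzp.to_sup_of_normal_right' S.isPGroup' hzn
  have := S.is_maximal' hsup le_sup_right
  rw [← this]
  exact (le_sup_left : Subgroup.zpowers a ≤ _) (Subgroup.mem_zpowers a)

abbrev C2D8 := Multiplicative (ZMod 2) × DihedralGroup 4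

def c2d8c : C2D8 := (Multiplicative.ofAdd 1, 1)
def c2d8z : C2D8 := (1, DihedralGroup.r 2)

theorem c2d8_center : ∀ x : C2D8, (∀ y : C2D8, x * y = y * x) →
    x = 1 ∨ x = c2d8c ∨ x = c2d8z ∨ x = c2d8c * c2d8z := by decide

theorem c2d8_sq : ∀ x : C2D8, x * x = 1 ∨ x * x = c2d8z := by decide

theorem c2d8_sq_ex : ∃ x : C2D8, x * x = c2d8z := ⟨(1, DihedralGroup.r 1), by decide⟩

theorem c2d8_facts : (∀ y : C2D8, c2d8c * y = y * c2d8c) ∧ c2d8c * c2d8c = 1 ∧ c2d8c ≠ 1 ∧
    c2d8c ≠ c2d8z ∧ c2d8z ≠ 1 := by decide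


theorem exists_index_two_of_sylow_c2d8 {G : Type*} [Group G] [Finite G] (S : Sylow 2 G)
    (hS : Nonempty (↥(S : Subgroup G) ≃* C2D8)) : ∃ H : Subgroup G, H.index = 2 := by
  obtain ⟨e⟩ := hS
  set c : ↥(S : Subgroup G) := e.symm c2d8c with hc
  set z₁ : ↥(S : Subgroup G) := e.symm c2d8z with hz₁
  have hec : e c = c2d8c := by rw [hc, MulEquiv.apply_symm_apply]
  have hez : e z₁ = c2d8z := by rw [hz₁, MulEquiv.apply_symm_apply]
  obtain ⟨f1, f2, f3, f4, f5⟩ := c2d8_facts
  -- transported facts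
  have hcen : ∀ x : ↥(S : Subgroup G), (∀ y, x * y = y * x) →
      x = 1 ∨ x = c ∨ x = z₁ ∨ x = c * z₁ := by
    intro x hx
    have h1 : ∀ y' : C2D8, e x * y' = y' * e x := by
      intro y'
      have := congrArg e (hx (e.symm y'))
      simpa using this
    rcases c2d8_center (e x) h1 with h | h | h | h
    · left; exact (MulEquiv.map_eq_one_iff e).mp h
    · right; left; rw [hc, ← h, MulEquiv.symm_apply_apply]
    · right; right; left; rw [hz₁, ← h, MulEquiv.symm_apply_apply]
    · right; right; right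
      apply e.injective
      rw [h, map_mul, hec, hez]
  have hsq : ∀ x : ↥(S : Subgroup G), x * x = 1 ∨ x * x = z₁ := by
    intro x
    rcases c2d8_sq (e x) with h | h
    · left; apply e.injective; rw [map_mul, h, map_one]
    · right; apply e.injective; rw [map_mul, h, hez]
  obtain ⟨x₀, hx₀⟩ : ∃ x : ↥(S : Subgroup G), x * x = z₁ := by
    obtain ⟨x', hx'⟩ := c2d8_sq_ex
    refine ⟨e.symm x', ?_⟩
    apply e.injective
    rw [map_mul, MulEquiv.apply_symm_apply, hx', hez]
  have hccen : ∀ y : ↥(S : Subgroup G), c * y = y * c := by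
    intro y
    apply e.injective
    rw [map_mul, map_mul, hec]; exact f1 (e y)
  have hcc : c * c = 1 := by apply e.injective; rw [map_mul, hec, map_one]; exact f2
  have hc1 : c ≠ 1 := by
    intro h; apply f3; rw [← hec, h, map_one]
  have hcz : c ≠ z₁ := by
    intro h; apply f4; rw [← hec, ← hez, h]
  have hz1 : z₁ ≠ 1 := by
    intro h; apply f5; rw [← hez, h, map_one]
  have hzz : z₁ * z₁ = 1 := by
    rcases hsq z₁ with h | h
    · exact h
    · exfalso; apply hz1
      have : z₁ * z₁ = z₁ * 1 := by rw [h, mul_one]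
      exact mul_left_cancel this
  -- G-level
  have hcZ : (c : G) ∈ (S : Subgroup G) ⊓ Subgroup.centralizer ((S : Subgroup G) : Set G) := by
    refine Subgroup.mem_inf.mpr ⟨c.2, ?_⟩
    rw [Subgroup.mem_centralizer_iff]
    intro s hs
    have := hccen ⟨s, hs⟩
    exact (congrArg Subtype.val this).symm
  have hc2 : (c : G) ^ 2 = 1 := by
    rw [pow_two]; exact congrArg Subtype.val hcc
  -- c ∉ Φ(S)
  have hcΦ : (c : G) ∉ (frattini ↥(S : Subgroup G)).map (S : Subgroup G).subtype := by
    rintro ⟨c', hc', hcc'⟩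
    have hc'' : c' = c := Subtype.ext hcc'
    rw [hc''] at hc'
    have hk := frattini_le_ker' (p := 2) (E := Multiplicative (ZMod 2))
      (fun a b => mul_comm a b) (by decide)
      ((MonoidHom.fst (Multiplicative (ZMod 2)) (DihedralGroup 4)).comp e.toMonoidHom) hc'
    rw [MonoidHom.mem_ker, MonoidHom.comp_apply] at hk
    have : e.toMonoidHom c = c2d8c := hec
    rw [this] at hk
    revert hk
    decide
  -- normalizer fixes c
  have hzfix : ∀ h ∈ Subgroup.normalizer ((S : Subgroup G) : Set G), h * (z₁ : G) * h⁻¹ = (z₁ : G) := by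
    intro h hh
    have hxS : h * (x₀ : G) * h⁻¹ ∈ (S : Subgroup G) :=
      (Subgroup.mem_normalizer_iff.mp hh _).mp x₀.2
    have e1 : h * (z₁ : G) * h⁻¹ = (h * (x₀ : G) * h⁻¹) * (h * (x₀ : G) * h⁻¹) := by
      rw [← hx₀]; simp only [Subgroup.coe_mul]; group
    rcases hsq ⟨_, hxS⟩ with h2 | h2
    · exfalso
      have h3 := congrArg Subtype.val h2
      simp only [Subgroup.coe_mul, Subgroup.coe_one] at h3
      rw [← e1] at h3
      apply hz1
      apply Subtype.ext
      have : (z₁ : G) = h⁻¹ * (h * (z₁ : G) * h⁻¹) * h := by group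
      rw [this, h3]; simp
    · have h3 := congrArg Subtype.val h2
      simp only [Subgroup.coe_mul] at h3
      rw [e1, h3]
  have hcconj : ∀ h ∈ Subgroup.normalizer ((S : Subgroup G) : Set G),
      h * (c : G) * h⁻¹ = (c : G) ∨ h * (c : G) * h⁻¹ = (c : G) * (z₁ : G) := by
    intro h hh
    have hS' : h * (c : G) * h⁻¹ ∈ (S : Subgroup G) := (Subgroup.mem_normalizer_iff.mp hh _).mp c.2
    have hcen' : ∀ y : ↥(S : Subgroup G), (⟨_, hS'⟩ : ↥(S : Subgroup G)) * y = y * ⟨_, hS'⟩ := by
      intro y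
      apply Subtype.ext
      simp only [Subgroup.coe_mul]
      have hy' : h⁻¹ * (y : G) * h ∈ (S : Subgroup G) := by
        have := (Subgroup.mem_normalizer_iff.mp (Subgroup.inv_mem _ hh) _).mp y.2
        simpa using this
      have := congrArg Subtype.val (hccen ⟨_, hy'⟩)
      simp only [Subgroup.coe_mul] at this
      calc h * (c : G) * h⁻¹ * (y : G) = h * ((c : G) * (h⁻¹ * (y : G) * h)) * h⁻¹ := by group
        _ = h * ((h⁻¹ * (y : G) * h) * (c : G)) * h⁻¹ := by rw [this]
        _ = (y : G) * (h * (c : G) * h⁻¹) := by group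
    rcases hcen _ hcen' with h2 | h2 | h2 | h2
    · exfalso; apply hc1
      have h3 := congrArg Subtype.val h2
      simp only [Subgroup.coe_one] at h3
      apply Subtype.ext
      have : (c : G) = h⁻¹ * (h * (c : G) * h⁻¹) * h := by group
      rw [this, h3]; simp
    · left; exact congrArg Subtype.val h2
    · exfalso; apply hcz
      have h3 := congrArg Subtype.val h2
      simp only at h3
      apply Subtype.ext
      have h4 := hzfix h⁻¹ (Subgroup.inv_mem _ hh)
      rw [inv_inv] at h4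
      have : (c : G) = h⁻¹ * (h * (c : G) * h⁻¹) * h := by group
      rw [this, h3, h4]
    · right
      have h3 := congrArg Subtype.val h2
      simpa using h3
  have hodd : ∀ h ∈ Subgroup.normalizer ((S : Subgroup G) : Set G), Odd (orderOf h) →
      h * (c : G) * h⁻¹ = (c : G) := by
    intro h hh ho
    rcases hcconj h hh with h2 | h2
    · exact h2
    · exfalso
      have hz2 := hzfix h hh
      have hzz' : (z₁ : G) * (z₁ : G) = 1 := congrArg Subtype.val hzz
      -- conj by h swaps c and c z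
      have h3 : h * ((c : G) * (z₁ : G)) * h⁻¹ = (c : G) := by
        calc h * ((c : G) * (z₁ : G)) * h⁻¹ = (h * (c : G) * h⁻¹) * (h * (z₁ : G) * h⁻¹) := by group
          _ = (c : G) * (z₁ : G) * (z₁ : G) := by rw [h2, hz2]
          _ = (c : G) := by rw [mul_assoc, hzz', mul_one]
      have h4 : ∀ n : ℕ, (h ^ 2) ^ n * ((c : G) * (z₁ : G)) * ((h ^ 2) ^ n)⁻¹ = (c : G) * (z₁ : G) := by
        intro n
        induction n with
        | zero => simp
        | succ n ih =>
          have e1 : (h ^ 2) ^ (n + 1) * ((c : G) * (z₁ : G)) * ((h ^ 2) ^ (n + 1))⁻¹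
              = h ^ 2 * ((h ^ 2) ^ n * ((c : G) * (z₁ : G)) * ((h ^ 2) ^ n)⁻¹) * (h ^ 2)⁻¹ := by
            rw [pow_succ']
            generalize (h ^ 2) ^ n = W
            generalize h ^ 2 = w
            group
          rw [e1, ih]
          have e2 : h ^ 2 * ((c : G) * (z₁ : G)) * (h ^ 2)⁻¹ = h * (h * ((c : G) * (z₁ : G)) * h⁻¹) * h⁻¹ := by
            rw [pow_two]; group
          rw [e2, h3, h2]
      obtain ⟨k, hk⟩ := ho
      have h5 : h ^ (2 * k + 1) = 1 := by rw [← hk]; exact pow_orderOf_eq_one h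
      have h6 : h ^ (2 * k + 1) * (c : G) * (h ^ (2 * k + 1))⁻¹ = (c : G) * (z₁ : G) := by
        calc h ^ (2 * k + 1) * (c : G) * (h ^ (2 * k + 1))⁻¹
            = (h ^ 2) ^ k * (h * (c : G) * h⁻¹) * ((h ^ 2) ^ k)⁻¹ := by
              rw [pow_succ, pow_mul]
              generalize (h ^ 2) ^ k = W
              group
          _ = (c : G) * (z₁ : G) := by rw [h2, h4 k]
      rw [h5] at h6
      apply hz1
      apply Subtype.ext
      have h7 : (c : G) = (c : G) * (z₁ : G) := by simpa using h6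
      have : (c : G) * 1 = (c : G) * (z₁ : G) := by rw [mul_one]; exact h7
      exact (mul_left_cancel this).symm
  have hN : ∀ g ∈ Subgroup.normalizer ((S : Subgroup G) : Set G), g * (c : G) * g⁻¹ = (c : G) := by
    intro g hg
    have : Fact (Nat.Prime 2) := ⟨Nat.prime_two⟩
    obtain ⟨i, j, hgij, hi, hj⟩ := Cfsg.Agent.Lib.Helper17.exists_p_pprime_decomp 2 g
    have hgi : g ^ i ∈ Subgroup.normalizer ((S : Subgroup G) : Set G) := Subgroup.zpow_mem _ hg i
    have hgj : g ^ j ∈ Subgroup.normalizer ((S : Subgroup G) : Set G) := Subgroup.zpow_mem _ hg j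
    have h1 : g ^ i ∈ (S : Subgroup G) := mem_sylow_of_mem_normalizer_of_orderOf S hgi hi
    have h2 : g ^ j * (c : G) * (g ^ j)⁻¹ = (c : G) := hodd _ hgj (Nat.Coprime.odd_of_right hj)
    have h3 : g ^ i * (c : G) = (c : G) * g ^ i :=
      (Subgroup.mem_centralizer_iff.mp hcZ.2) _ h1
    calc g * (c : G) * g⁻¹ = g ^ i * (g ^ j * (c : G) * (g ^ j)⁻¹) * (g ^ i)⁻¹ := by
          conv_lhs => rw [hgij]
          group
      _ = g ^ i * (c : G) * (g ^ i)⁻¹ := by rw [h2]
      _ = (c : G) := by rw [h3]; group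
  obtain ⟨H, -, hH, -⟩ := exists_index_two_of_central_involution S (c : G) hcZ hc2 hcΦ hN
  exact ⟨H, hH⟩

end Cfsg.Agent.Lib.Helper16
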