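import Mathlib
import Cfsg.Prelude.Def_Classical
import Cfsg.Prelude.Def_ClassicalGeometry
import Cfsg.Prelude.Def_GeometricClasses
import Cfsg.Agent.Lib.Helper5.SUMax
import Cfsg.Agent.Lib.Helper5.UForm
import Cfsg.Agent.Lib.Helper16.C3uDefs
import Cfsg.Agent.Lib.Helper13.C3qDefs
import Cfsg.Agent.Lib.Helper13.C3qMDefs
import Cfsg.Agent.Lib.Helper12.C3uF
import Cfsg.Agent.Lib.Helper22.C3qMDelta
import Cfsg.Agent.Lib.Helper12.C3qMExpand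
import Cfsg.Agent.Lib.Helper24.C3qMCoeff
import Cfsg.Agent.Lib.Helper24.C3qMIota
import Cfsg.Agent.Lib.Helper27.C3qMSmul
import Cfsg.Agent.Lib.Helper27.C3qMK0
import Cfsg.Agent.Lib.Helper24.C3qMSep
import Cfsg.Agent.Lib.Helper16.C3qMProj
import Cfsg.Agent.Lib.Helper16.C3qMGen
import Cfsg.Agent.Lib.Helper22.C3qMUlemma

/-!
S5840 conjunct (7), the module theorem MOD: ASSEMBLY `mod_main` (helper13's plan M9, text of
notes/S5840_C3_MOD_leaves.lean) over the ten landed leaves M1 (helper22), M2a/M2b (helper12), M2c/M2d/M5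
(helper24), M3/M4 (helper27), M6/M7 (helper16), M8 (helper22).
-/

set_option autoImplicit false
set_option linter.unusedSectionVars false
set_option linter.unusedVariables false

namespace Cfsg.Agent.Lib.Helper16.C3qMod
open Cfsg Matrix Module Cfsg.Agent.Lib.Helper16.C3u Cfsg.Agent.Lib.Helper13.C3q

universe u
variable {F : Type u} [Field F] [Fintype F] {n q : ℕ} {E : Type u} [Field E] [Algebra F E]

/-! ## Assembly (helper13): **M9** -/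

/-- the additive group of first coefficients of the two-term elements `a φ^i + a' φ^j` of `𝒳` -/
def coeffGroup (𝒳 : AddSubgroup (E →ₗ[F] E)) (i j : ℕ) : AddSubgroup E where
  carrier := {a | ∃ a' : E, (tw a i : E →ₗ[F] E) + tw a' j ∈ 𝒳}
  zero_mem' := ⟨0, by
    have h : (tw (0 : E) i : E →ₗ[F] E) + tw 0 j = 0 := by
      ext x; simp [tw_apply]
    rw [h]; exact 𝒳.zero_mem⟩
  add_mem' := by
    rintro a b ⟨a', ha⟩ ⟨b', hb⟩
    refine ⟨a' + b', ?_⟩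
    have h : (tw (a + b) i : E →ₗ[F] E) + tw (a' + b') j = (tw a i + tw a' j) + (tw b i + tw b' j) := by
      rw [tw_add, tw_add]; abel
    rw [h]; exact 𝒳.add_mem ha hb
  neg_mem' := by
    rintro a ⟨a', ha⟩
    refine ⟨-a', ?_⟩
    have h : (tw (-a) i : E →ₗ[F] E) + tw (-a') j = -(tw a i + tw a' j) := by
      rw [tw_neg, tw_neg]; abel
    rw [h]; exact 𝒳.neg_mem ha

/-- generation step: from one two-term element with non-zero first coefficient to all first coefficients -/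
theorem coeffGroup_eq_top (S : KU n q F E) (hF : Fintype.card F = q ^ 2) (hn : 0 < n)
    [FiniteDimensional F E] (hr5 : finrank F E = 5) (𝒳 : AddSubgroup (E →ₗ[F] E))
    (htor : ∀ e : E, e ≠ 0 → ∀ X ∈ 𝒳,
      (LinearMap.mulLeft F (e ^ (q + 1))) ∘ₗ X ∘ₗ (LinearMap.mulLeft F (S.st e ^ (q + 1))) ∈ 𝒳)
    (m : ℕ) (hm : m = 1 ∨ m = 2) (j : ℕ) {b b' : E} (hb : b ≠ 0)
    (hX : (tw b m : E →ₗ[F] E) + tw b' j ∈ 𝒳) (a : E) : a ∈ coeffGroup 𝒳 m j := by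
  have hgen := Cfsg.Agent.Lib.Helper16.C3qModLeaf.gen S hF hn hr5 m hm
  have hle : AddSubgroup.closure {x : E | ∃ e : E, e ≠ 0 ∧
      x = e ^ (q + 1) * (fr F E ^ m) (S.st e ^ (q + 1))} ≤
      (coeffGroup 𝒳 m j).comap (AddMonoidHom.mulRight b) := by
    rw [AddSubgroup.closure_le]
    rintro x ⟨e, he, rfl⟩
    show _ * b ∈ coeffGroup 𝒳 m j
    refine ⟨e ^ (q + 1) * (fr F E ^ j) (S.st e ^ (q + 1)) * b', ?_⟩
    have h := htor e he _ hX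
    rwa [LinearMap.add_comp, LinearMap.comp_add, tw_conj, tw_conj] at h
  rw [hgen] at hle
  have h1 : a * b⁻¹ ∈ (coeffGroup 𝒳 m j).comap (AddMonoidHom.mulRight b) := hle trivial
  have h2 : a * b⁻¹ * b ∈ coeffGroup 𝒳 m j := h1
  rwa [inv_mul_cancel_right₀ hb] at h2

/-- **MOD** -/
theorem mod_main (S : KU n q F E) (hF : Fintype.card F = q ^ 2) (hn : 0 < n)
    [FiniteDimensional F E] (hr5 : finrank F E = 5) (𝒳 : AddSubgroup (E →ₗ[F] E))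
    (hsk : ∀ a : E, S.st a = -a → LinearMap.mulLeft F a ∈ 𝒳)
    (htor : ∀ e : E, e ≠ 0 → ∀ X ∈ 𝒳,
      (LinearMap.mulLeft F (e ^ (q + 1))) ∘ₗ X ∘ₗ (LinearMap.mulLeft F (S.st e ^ (q + 1))) ∈ 𝒳)
    (hsa : ∀ X ∈ 𝒳, SkewAdj S X) {c₀ : F} {π₀ π₀' : E} (hc₀ : c₀ ≠ 0)
    (hind : ∀ x y : F, x • π₀ + y • π₀' = 0 → x = 0 ∧ y = 0)
    (hX₀ : c₀ • sym2 S π₀ π₀' ∈ 𝒳) :
    ∀ (π : E) (c : F), c ^ q = -c → c • rk1 S π ∈ 𝒳 := by
  classical
  obtain ⟨δ, hδ0, hδst, hδ⟩ := Cfsg.Agent.Lib.Helper22.C3qModLeaf.exists_delta S hF hn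
  have hs := Cfsg.Agent.Lib.Helper27.C3qModLeaf.smul_mem S hF 𝒳 htor
  obtain ⟨e₀, he₀, hst0, hord⟩ := Cfsg.Agent.Lib.Helper27.C3qModLeaf.exists_k0 S hF hn hr5
  obtain ⟨k₀, hk₀⟩ : ∃ k₀ : E, k₀ = e₀ ^ (q + 1) := ⟨_, rfl⟩
  rw [← hk₀] at hst0 hord
  have hq : 2 ≤ q := by
    have h1 : 1 < Fintype.card F := Fintype.one_lt_card
    rw [hF] at h1
    by_contra hlt
    have : q = 0 ∨ q = 1 := by omega
    rcases this with rfl | rfl <;> simp at h1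
  have hq5 : 1 ≤ q ^ 5 := Nat.one_le_pow _ _ (by omega)
  have hk0pow : k₀ ^ (q ^ 5) = k₀ := by
    have h1 : k₀ ^ (q ^ 5 - 1) = 1 := by rw [← hord]; exact pow_orderOf_eq_one k₀
    have h2 : q ^ 5 = (q ^ 5 - 1) + 1 := by omega
    rw [h2, pow_succ, h1, one_mul]
  have hρ : ∀ X ∈ 𝒳, (LinearMap.mulLeft F k₀) ∘ₗ X ∘ₗ (LinearMap.mulLeft F k₀) ∈ 𝒳 := by
    intro X hX
    have h := htor e₀ he₀ X hX
    rwa [← map_pow, ← hk₀, hst0] at h
  -- the expansion of the given rank-two element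
  obtain ⟨a, ha⟩ : ∃ a : ℕ → E, a = fun i =>
      c₀ • (π₀ * (fr F E ^ i) (δ * S.st π₀') + π₀' * (fr F E ^ i) (δ * S.st π₀)) := ⟨_, rfl⟩
  have hX0 : ∑ i ∈ Finset.range 5, (tw (a i) i : E →ₗ[F] E) ∈ 𝒳 := by
    have h := Cfsg.Agent.Lib.Helper12.C3qModLeaf.sym2_expand S hδ c₀ π₀ π₀'
    rw [hr5] at h
    rw [ha, ← h]
    exact hX₀
  have ha_ne : ∀ i, i = 1 ∨ i = 2 → a i ≠ 0 := by
    intro i hi
    rw [ha]
    exact smul_ne_zero hc₀ (Cfsg.Agent.Lib.Helper24.C3qModLeaf.coeff_ne_zero S hF hr5 hδ0 hind i hi)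
  obtain ⟨hsep1, hsep2⟩ := Cfsg.Agent.Lib.Helper24.C3qModLeaf.sep k₀ hq hord
  have hc : ∀ i, k₀ * (fr F E ^ i) k₀ = k₀ ^ (1 + q ^ (2 * i)) := by
    intro i
    rw [fr_pow_apply' hF, pow_add, pow_one]
  -- projection onto the components `1, 4`
  obtain ⟨γ, hγ, hX1⟩ := Cfsg.Agent.Lib.Helper16.C3qModLeaf.proj hF 𝒳 hs k₀ hk0pow hρ a hX0 {1, 4} (by decide) (by
    intro i hi i' hi' j hj
    rw [hc, hc]
    exact hsep1 i hi i' (by revert i' ; decide) j hj)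
  rw [Finset.sum_pair (by decide)] at hX1
  have hA1 : ∀ x : E, x ∈ coeffGroup 𝒳 1 4 :=
    coeffGroup_eq_top S hF hn hr5 𝒳 htor 1 (Or.inl rfl) 4
      (mul_ne_zero (hγ 1 (by decide)) (ha_ne 1 (Or.inl rfl))) hX1
  -- projection onto the components `2, 3`
  obtain ⟨γ', hγ', hX2⟩ := Cfsg.Agent.Lib.Helper16.C3qModLeaf.proj hF 𝒳 hs k₀ hk0pow hρ a hX0 {2, 3} (by decide) (by
    intro i hi i' hi' j hj
    rw [hc, hc]
    exact hsep2 i hi i' (by revert i' ; decide) j hj)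
  rw [Finset.sum_pair (by decide)] at hX2
  have hA2 : ∀ x : E, x ∈ coeffGroup 𝒳 2 3 :=
    coeffGroup_eq_top S hF hn hr5 𝒳 htor 2 (Or.inr rfl) 3
      (mul_ne_zero (hγ' 2 (by decide)) (ha_ne 2 (Or.inr rfl))) hX2
  -- the rank-one maps
  intro π c hcq
  obtain ⟨b, hb⟩ : ∃ b : ℕ → E, b = fun i => c • (π * (fr F E ^ i) (δ * S.st π)) := ⟨_, rfl⟩
  have hexp : c • rk1 S π = ∑ i ∈ Finset.range 5, (tw (b i) i : E →ₗ[F] E) := by
    have h := Cfsg.Agent.Lib.Helper12.C3qModLeaf.rk1_expand S hδ c π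
    rw [hr5] at h
    rw [hb, h]
  -- component `0`
  have h0 : (tw (b 0) 0 : E →ₗ[F] E) ∈ 𝒳 := by
    rw [tw_zero]
    apply hsk
    rw [hb]
    simp only [pow_zero, AlgHom.one_apply]
    rw [Algebra.smul_def, map_mul, S.st_alg, hcq, map_mul, map_mul, S.st_st, hδst, map_neg]
    ring
  -- components `1, 4`
  have h14 : (tw (b 1) 1 : E →ₗ[F] E) + tw (b 4) 4 ∈ 𝒳 := by
    obtain ⟨a', ha'⟩ := hA1 (b 1)
    have h1 := Cfsg.Agent.Lib.Helper22.C3qModLeaf.ulemma S hF hn hr5 hδ0 hδst hδ 1 (Or.inl rfl) (b 1) a' (hsa _ ha')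
    have h2 := Cfsg.Agent.Lib.Helper24.C3qModLeaf.iota_coeff S hF hr5 hδ0 hδst hcq π 1 (Or.inl rfl)
    have h3 : a' = b 4 := by
      rw [h1, hb]
      exact h2
    rwa [h3] at ha'
  -- components `2, 3`
  have h23 : (tw (b 2) 2 : E →ₗ[F] E) + tw (b 3) 3 ∈ 𝒳 := by
    obtain ⟨a', ha'⟩ := hA2 (b 2)
    have h1 := Cfsg.Agent.Lib.Helper22.C3qModLeaf.ulemma S hF hn hr5 hδ0 hδst hδ 2 (Or.inr rfl) (b 2) a' (hsa _ ha')
    have h2 := Cfsg.Agent.Lib.Helper24.C3qModLeaf.iota_coeff S hF hr5 hδ0 hδst hcq π 2 (Or.inr rfl)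
    have h3 : a' = b 3 := by
      rw [h1, hb]
      exact h2
    rwa [h3] at ha'
  rw [hexp]
  have hsum : ∑ i ∈ Finset.range 5, (tw (b i) i : E →ₗ[F] E) =
      tw (b 0) 0 + (tw (b 1) 1 + tw (b 4) 4) + (tw (b 2) 2 + tw (b 3) 3) := by
    simp only [Finset.sum_range_succ, Finset.sum_range_zero, zero_add]
    abel
  rw [hsum]
  exact 𝒳.add_mem (𝒳.add_mem h0 h14) h23

end Cfsg.Agent.Lib.Helper16.C3qMod
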