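import Mathlib
import Cfsg.Prelude.Def_Classical
import Cfsg.Prelude.Def_ClassicalGeometry
import Cfsg.Prelude.Def_GeometricClasses
import Cfsg.Agent.Lib.Helper5.SUMax
import Cfsg.Agent.Lib.Helper5.UForm
import Cfsg.Agent.Lib.Helper22.C3LDefs
import Cfsg.Agent.Lib.Helper22.C3LTool
import Cfsg.Agent.Lib.Helper16.C3uDefs
import Cfsg.Agent.Lib.Helper13.C3qDefs
import Cfsg.Agent.Lib.Helper20.C3uL0
import Cfsg.Agent.Lib.Helper17.C3uPx
import Cfsg.Agent.Lib.Helper12.C3uF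
import Cfsg.Agent.Lib.Helper12.C3uW0
import Cfsg.Agent.Lib.Helper26.C3uW1
import Cfsg.Agent.Lib.Helper6.C3uE1
import Cfsg.Agent.Lib.Helper16.C3qCO

/-!
S5840 C3 rank one (helper13's market C3q, notes/S5840_C3_leaves.lean): leaf UX `exists_uX`.
-/

set_option autoImplicit false
set_option linter.unusedSectionVars false
set_option linter.unusedVariables false

namespace Cfsg.Agent.Lib.Helper16.C3qLeaf
open Cfsg Matrix Module Cfsg.Agent.Lib.Helper5.SpMax Cfsg.Agent.Lib.Helper5.SUMax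
  Cfsg.Agent.Lib.Helper22.C3L Cfsg.Agent.Lib.Helper16.C3u Cfsg.Agent.Lib.Helper13.C3q

universe u
variable {F : Type u} [Field F] [Fintype F] {n q : ℕ} {E : Type u} [Field E] [Algebra F E]

local notation "𝕍" => (Fin n → F)
local notation "𝕄" => Matrix (Fin n) (Fin n) F
local notation "ℍ" => (Cfsg.GU n F q ⊓ Cfsg.Geo.specialLinear (Fin n) F)

/-- **UX** a matrix with image in the base line and killing the base line is a `uXMat` -/
theorem exists_uX (S : KU n q F E) (hF : Fintype.card F = q ^ 2) [FiniteDimensional F E]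
    (hd : 2 * finrank F E = n) {v₀ : 𝕍} (hv₀ : v₀ ≠ 0) (hiso : S.fE v₀ v₀ = 0) (Y : 𝕄)
    (h1 : ∀ x, Y *ᵥ x ∈ line S.ρ v₀) (h2 : ∀ x ∈ line S.ρ v₀, Y *ᵥ x = 0) :
    ∃ X : E →ₗ[F] E, Y = uXMat S.ρ (lam S v₀) v₀ X := by
  obtain ⟨v₁, hv₁, h01⟩ := Cfsg.Agent.Lib.Helper26.C3uLeaf.exists_partner S hF hv₀ hiso
  have hinj : Function.Injective (orb S.ρ v₀) := orb_injective hv₀
  -- the equivalence of E with the base line
  let eqv : E ≃ₗ[F] ↥(line S.ρ v₀) := LinearEquiv.ofInjective (orb S.ρ v₀) hinj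
  have heqv : ∀ e : E, ((eqv e : ↥(line S.ρ v₀)) : 𝕍) = act S.ρ e v₀ := fun e => rfl
  -- the map e to Y (e v₁), into the line
  let Z : E →ₗ[F] ↥(line S.ρ v₀) :=
    LinearMap.codRestrict (line S.ρ v₀) ((Matrix.toLin' Y).comp (orb S.ρ v₁))
      (fun e => by
        rw [LinearMap.comp_apply, Matrix.toLin'_apply]
        exact h1 _)
  have hZ : ∀ e : E, ((Z e : ↥(line S.ρ v₀)) : 𝕍) = Y *ᵥ (act S.ρ e v₁) := fun e => rfl
  refine ⟨eqv.symm.toLinearMap.comp Z, ?_⟩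
  apply mat_eq_of_mulVec
  intro x
  rw [uXMat_mulVec, lam_apply, LinearMap.comp_apply]
  have h3 : act S.ρ (eqv.symm (Z (S.fE x v₀))) v₀ = Y *ᵥ (act S.ρ (S.fE x v₀) v₁) := by
    rw [← heqv, ← hZ]
    simp
  change _ = act S.ρ (eqv.symm (Z (S.fE x v₀))) v₀
  rw [h3]
  conv_lhs => rw [coords S hF hd hiso hv₁ h01 x]
  rw [Matrix.mulVec_add, h2 _ (act_mem_line _ _), zero_add]

end Cfsg.Agent.Lib.Helper16.C3qLeaf
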