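import Mathlib
import Cfsg.Agent.Lib.Helper16.C3uDefs
import Cfsg.Agent.Lib.Helper20.C3uL0
import Cfsg.Agent.Lib.Helper17.C3uPx

/-!
Unitary `C3`, rank one (`GU_2(q^r).r < SU_{2r}(q)`): the WRAPPER from the core statement
(`hcore`: an overgroup of the centraliser of `E` in `SU` not normalising `E` is `SU`) to the frozen
shape `IsMaximalIn SU (subalgebraNormalizer K ⊓ SU)` for a field subalgebra `K` of degree `r`,
`n = 2 r`.  Same wrapper as at the end of `Helper16.C3uMain.maximal_cubic`.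
-/

set_option autoImplicit false
set_option linter.unusedSectionVars false
set_option linter.unusedVariables false

namespace Cfsg.Agent.Lib.Helper16.C3u2
open Cfsg Matrix Module Cfsg.Agent.Lib.Helper5.SpMax Cfsg.Agent.Lib.Helper5.SUMax
  Cfsg.Agent.Lib.Helper5.HermBridge
  Cfsg.Agent.Lib.Helper22.C3L Cfsg.Agent.Lib.Helper16.C3u

universe u
variable {F : Type u} [Field F] [Fintype F] {n q : ℕ}

local notation "𝕍" => (Fin n → F)
local notation "𝕄" => Matrix (Fin n) (Fin n) F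
local notation "ℍ" => (Cfsg.GU n F q ⊓ Cfsg.Geo.specialLinear (Fin n) F)

/-- the maximality statement for an adjoint-closed field subalgebra of degree `r`, `n = 2 r`, from
the core statement for the model `KU` -/
theorem maximal_field_of_core (hF : Fintype.card F = q ^ 2) {r : ℕ} (hr : 2 ≤ r) (hn : n = 2 * r)
    (hcore : ∀ (E : Type u) [Field E] [Algebra F E] (S : KU n q F E), finrank F E = r →
      ∀ M : Subgroup (GL (Fin n) F), M ≤ ℍ →
      (∀ g ∈ ℍ, (∀ e : E, (g : 𝕄) * S.ρ e = S.ρ e * (g : 𝕄)) → g ∈ M) →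
      ¬ M ≤ Cfsg.Geo.subalgebraNormalizer S.ρ.range → ℍ ≤ M)
    (K : Subalgebra F 𝕄) (hK : Cfsg.Geo.IsFieldSubalgebra r K)
    (hac : Cfsg.Geo.IsAdjointClosedFor (Cfsg.hermForm n F q) K) :
    Cfsg.Geo.IsMaximalIn ℍ (Cfsg.Geo.subalgebraNormalizer K ⊓ ℍ) := by
  classical
  obtain ⟨E, instE, instA, S, hρ, hfr⟩ :=
    Cfsg.Agent.Lib.Helper20.C3uLeaf.exists_KU hF (by omega : 0 < n) r K hK hac
  have hcomm : ∀ g ∈ ℍ, (∀ e : E, (g : 𝕄) * S.ρ e = S.ρ e * (g : 𝕄)) →
      g ∈ Cfsg.Geo.subalgebraNormalizer K ⊓ ℍ := by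
    intro g hg hc
    refine ⟨?_, hg⟩
    have e1 : ((g⁻¹ : GL (Fin n) F) : 𝕄) * (g : 𝕄) = 1 := by
      rw [← Units.val_mul, inv_mul_cancel, Units.val_one]
    have e2 : (g : 𝕄) * ((g⁻¹ : GL (Fin n) F) : 𝕄) = 1 := by
      rw [← Units.val_mul, mul_inv_cancel, Units.val_one]
    have key : ∀ k ∈ K, (g : 𝕄) * k * ((g⁻¹ : GL (Fin n) F) : 𝕄) = k := by
      intro k hk
      rw [← hρ] at hk
      obtain ⟨e, rfl⟩ := hk
      change (g : 𝕄) * S.ρ e * _ = S.ρ e
      rw [hc e, mul_assoc, e2, mul_one]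
    intro k
    constructor
    · intro hk
      rw [key k hk]; exact hk
    · intro hk
      have hk' := hk
      rw [← hρ] at hk'
      obtain ⟨e, he⟩ := hk'
      have h3 : S.ρ e = (g : 𝕄) * k * ((g⁻¹ : GL (Fin n) F) : 𝕄) := he
      have h2 : k = S.ρ e := by
        calc k = ((g⁻¹ : GL (Fin n) F) : 𝕄) * ((g : 𝕄) * k * ((g⁻¹ : GL (Fin n) F) : 𝕄)) *
              (g : 𝕄) := by
              simp only [mul_assoc, e1, mul_one]
              simp only [← mul_assoc, e1, one_mul]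
          _ = ((g⁻¹ : GL (Fin n) F) : 𝕄) * S.ρ e * (g : 𝕄) := by rw [h3]
          _ = S.ρ e := by rw [mul_assoc, ← hc e, ← mul_assoc, e1, one_mul]
      rw [h2, ← hρ]
      exact ⟨e, rfl⟩
  refine ⟨?_, ?_⟩
  · refine lt_of_le_of_ne inf_le_right ?_
    intro heq
    obtain ⟨g, hg, hgN⟩ := Cfsg.Agent.Lib.Helper17.C3uLeaf.exists_not_mem_normalizer S hF
      (by omega) (by omega)
    rw [hρ] at hgN
    apply hgN
    have : g ∈ Cfsg.Geo.subalgebraNormalizer K ⊓ ℍ := by rw [heq]; exact hg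
    exact this.1
  · intro M hNM hMS
    by_cases hMN : M ≤ Cfsg.Geo.subalgebraNormalizer K
    · left
      exact le_antisymm (le_inf hMN hMS) hNM
    · right
      have hM : ∀ g ∈ ℍ, (∀ e : E, (g : 𝕄) * S.ρ e = S.ρ e * (g : 𝕄)) → g ∈ M :=
        fun g hg hc => hNM (hcomm g hg hc)
      have hnot : ¬ M ≤ Cfsg.Geo.subalgebraNormalizer S.ρ.range := by rw [hρ]; exact hMN
      exact le_antisymm hMS (hcore E S hfr M hMS hM hnot)

end Cfsg.Agent.Lib.Helper16.C3u2
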