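import Mathlib
import Cfsg.Agent.Lib.Helper16.C3uDefs
import Cfsg.Agent.Lib.Helper20.C3uL0
import Cfsg.Agent.Lib.Helper17.C3uPx
import Cfsg.Agent.Lib.Helper12.C3uF
import Cfsg.Agent.Lib.Helper12.C3uW0
import Cfsg.Agent.Lib.Helper19.C3uF4
import Cfsg.Agent.Lib.Helper19.C3uF5
import Cfsg.Agent.Lib.Helper26.C3uW1
import Cfsg.Agent.Lib.Helper26.C3uW4
import Cfsg.Agent.Lib.Helper11.C3uSK
import Cfsg.Agent.Lib.Helper18.C3uR
import Cfsg.Agent.Lib.Helper28.C3uTR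
import Cfsg.Agent.Lib.Helper28.C3uCc
import Cfsg.Agent.Lib.Helper6.C3uE0
import Cfsg.Agent.Lib.Helper6.C3uE1
import Cfsg.Agent.Lib.Helper6.C3uA
import Cfsg.Agent.Lib.Helper6.C3uCb

/-!
Unitary `C3`, cubic case: the normaliser in `SU_n(q)` of an adjoint-closed cubic subfield `K` of the
matrix algebra is maximal in `SU_n(q)` for `n ≥ 12` (`maximal_cubic`).  Assembly of the `C3u` leaf
market (plan: notes/C3u_plan.md): helper20 (L0), helper17 (P), helper12 (F, W0), helper19 (F4, F5),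
helper26 (W1, W4), helper28 (TR, Cc), helper11 (SK), helper18 (R2, R1, Ca), helper6 (A, Cb, E0, E1).
-/

set_option autoImplicit false
set_option linter.unusedSectionVars false
set_option linter.unusedVariables false

namespace Cfsg.Agent.Lib.Helper16.C3uMain
open Cfsg Matrix Module Cfsg.Agent.Lib.Helper5.SpMax Cfsg.Agent.Lib.Helper5.SUMax
  Cfsg.Agent.Lib.Helper5.HermBridge
  Cfsg.Agent.Lib.Helper22.C3L Cfsg.Agent.Lib.Helper16.C3u

universe u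
variable {F : Type u} [Field F] [Fintype F] {n q : ℕ} {E : Type u} [Field E] [Algebra F E]

local notation "𝕍" => (Fin n → F)
local notation "𝕄" => Matrix (Fin n) (Fin n) F
local notation "ℍ" => (Cfsg.GU n F q ⊓ Cfsg.Geo.specialLinear (Fin n) F)

/-- Cd: the centre of the two line-transvections is a centre of `M` -/
theorem centre_mem_Sset (S : KU n q F E) (hF : Fintype.card F = q ^ 2) (hr3 : finrank F E = 3)
    (hn : 12 ≤ n) (M : Subgroup (GL (Fin n) F)) (hMS : M ≤ ℍ)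
    (hM : ∀ g ∈ ℍ, (∀ e : E, (g : 𝕄) * S.ρ e = S.ρ e * (g : 𝕄)) → g ∈ M)
    {v₀ : 𝕍} (hv₀ : v₀ ≠ 0) (hiso : S.fE v₀ v₀ = 0) {π : E} {ℓ : E →ₗ[F] F}
    {t : GL (Fin n) F} (hπ : π ≠ 0) (hℓ : ℓ ≠ 0) (hℓπ : ℓ π = 0) (ht : t ∈ M)
    (htL : ∀ e : E, (t : 𝕄) *ᵥ act S.ρ e v₀ = act S.ρ e v₀ + ℓ e • act S.ρ π v₀) :
    act S.ρ π v₀ ∈ Sset hF M := by
  haveI : FiniteDimensional F E := Module.finite_of_finrank_pos (by omega)
  have hn0 : 0 < n := by omega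
  obtain ⟨θ, hθ, hθπ, hc1, hgood⟩ := Cfsg.Agent.Lib.Helper19.C3uLeaf.exists_theta S hF hr3 ℓ hℓ hπ hℓπ
  obtain ⟨m, hm, hmL⟩ := Cfsg.Agent.Lib.Helper6.C3uLeaf.exists_second_transvection S hF (by omega) M hMS hM hv₀ hiso hℓπ ht htL
    hθ hθπ
  obtain ⟨ν₁, hν₁⟩ := Cfsg.Agent.Lib.Helper12.C3uLeaf.exists_repr S hF hn0 ℓ
  set c₁ : F := ℓ (θ⁻¹ * π) with hc₁def
  set ν₃ : E := algebraMap F E (c₁ ^ q) * (S.st θ * ν₁) with hν₃def
  have hpq : ∀ x : F, (x ^ q) ^ q = x := pow_q_pow_q hF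
  have hstν₃ : S.st ν₃ = algebraMap F E c₁ * (θ * S.st ν₁) := by
    rw [hν₃def, map_mul, map_mul, S.st_alg, S.st_st, hpq]
  have hν₃ : ∀ e, c₁ * ℓ (θ * e) = S.τ (e * S.st ν₃) := by
    intro e
    rw [hstν₃, hν₁]
    have : e * (algebraMap F E c₁ * (θ * S.st ν₁)) = c₁ • (θ * e * S.st ν₁) := by
      rw [Algebra.smul_def]; ring
    rw [this, map_smul, smul_eq_mul]
  have hν₁0 : ν₁ ≠ 0 := by
    rintro rfl
    apply hℓ
    ext e
    rw [hν₁, map_zero, mul_zero, map_zero, LinearMap.zero_apply]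
  have h1 : S.τ (π * S.st ν₁) = 0 := by rw [← hν₁]; exact hℓπ
  have h3 : S.τ (π * S.st ν₃) = 0 := by rw [← hν₃, hθπ, mul_zero]
  have htL' : ∀ e : E, (t : 𝕄) *ᵥ act S.ρ e v₀ =
      act S.ρ e v₀ + S.τ (e * S.st ν₁) • act S.ρ π v₀ := by
    intro e; rw [htL, hν₁]
  have hmL' : ∀ e : E, (m : 𝕄) *ᵥ act S.ρ e v₀ =
      act S.ρ e v₀ + S.τ (e * S.st ν₃) • act S.ρ π v₀ := by
    intro e; rw [hmL, ← hν₃]
  -- the element e₀
  obtain ⟨z, hzdef⟩ : ∃ z : E, z = ν₃ * S.st ν₁ := ⟨_, rfl⟩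
  obtain ⟨e₀, he₀def⟩ : ∃ e₀ : E, e₀ = z + S.st z := ⟨_, rfl⟩
  have he₀fix : S.st e₀ = e₀ := by rw [he₀def, map_add, S.st_st, add_comm]
  have hz : z = (ν₁ * S.st ν₁) * (algebraMap F E (c₁ ^ q) * S.st θ) := by
    rw [hzdef, hν₃def]; ring
  have hstz : S.st z = (ν₁ * S.st ν₁) * (algebraMap F E c₁ * θ) := by
    rw [hz, map_mul, map_mul, map_mul, S.st_st, S.st_alg, hpq, S.st_st]; ring
  have he₀' : e₀ = (ν₁ * S.st ν₁) *
      (algebraMap F E (c₁ ^ q) * S.st θ + algebraMap F E c₁ * θ) := by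
    rw [he₀def, hstz, mul_add, ← hz]
  have he₀ : e₀ ≠ 0 := by
    rw [he₀']
    apply mul_ne_zero
    · apply mul_ne_zero hν₁0
      rwa [Ne, map_eq_zero]
    · intro h
      apply hgood
      rw [Algebra.smul_def, map_mul, S.st_alg]
      linear_combination h
  obtain ⟨a₁, ha₁, hτa₁⟩ := Cfsg.Agent.Lib.Helper12.C3uLeaf.exists_skew_tau_ne S hF hn0 he₀ he₀fix
  set c₀ : F := S.τ (a₁ * e₀) with hc₀def
  have hc₀skew : c₀ ^ q = -c₀ := by
    rw [hc₀def, ← S.τ_st, map_mul, ha₁, he₀fix, neg_mul, map_neg]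
  -- now the membership
  intro c hc y hy
  rw [frobQ_apply] at hc
  set s : F := c / c₀ with hsdef
  have hsfix : s ^ q = s := by
    rw [hsdef, div_pow, hc, hc₀skew, neg_div_neg_eq]
  set a : E := algebraMap F E s * a₁ with hadef
  have ha : S.st a = -a := by
    rw [hadef, map_mul, S.st_alg, hsfix, ha₁]; ring
  obtain ⟨y', hy'M, hy'⟩ := Cfsg.Agent.Lib.Helper28.C3uLeaf.double_commutator S hF hn0 M hMS hM hv₀ hiso h1 h3 ht hm htL' hmL' ha
  have hκ : S.τ (a * ν₃ * S.st ν₁) - S.τ (a * ν₃ * S.st ν₁) ^ q = c := by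
    have e1 : a * ν₃ * S.st ν₁ = a * z := by rw [hzdef]; ring
    have e2 : S.τ (a * z) ^ q = - S.τ (a * S.st z) := by
      rw [← S.τ_st, map_mul, ha, neg_mul, map_neg]
    rw [e1, e2, sub_neg_eq_add, ← map_add, ← mul_add, ← he₀def, hadef]
    have : algebraMap F E s * a₁ * e₀ = s • (a₁ * e₀) := by rw [Algebra.smul_def]; ring
    rw [this, map_smul, smul_eq_mul, ← hc₀def, hsdef, div_mul_cancel₀ _ hτa₁]
  have : y = y' := by
    apply Units.ext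
    apply mat_eq_of_mulVec
    intro x
    rw [hy, hy' x, hκ]
  rw [this]
  exact hy'M

/-- the core: an overgroup of the centraliser of `E` in `SU` not normalising `E` is `SU` -/
theorem main (S : KU n q F E) (hF : Fintype.card F = q ^ 2) (hr3 : finrank F E = 3)
    (hn : 12 ≤ n) (M : Subgroup (GL (Fin n) F)) (hMS : M ≤ ℍ)
    (hM : ∀ g ∈ ℍ, (∀ e : E, (g : 𝕄) * S.ρ e = S.ρ e * (g : 𝕄)) → g ∈ M)
    (hnot : ¬ M ≤ Cfsg.Geo.subalgebraNormalizer S.ρ.range) : ℍ ≤ M := by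
  haveI : FiniteDimensional F E := Module.finite_of_finrank_pos (by omega)
  have hn0 : 0 < n := by omega
  obtain ⟨v₀, hv₀, hiso⟩ := Cfsg.Agent.Lib.Helper26.C3uLeaf.exists_iso S hF (by omega)
  obtain ⟨g, hg, hne, hnle⟩ := Cfsg.Agent.Lib.Helper6.C3uLeaf.exists_partial S hF (by omega) M hMS hM hnot hv₀ hiso
  have hfr : finrank F ↥(img g (line S.ρ v₀)) = 3 := by
    rw [finrank_img, finrank_line hv₀, hr3]
  have hlt : finrank F ↥(img g (line S.ρ v₀) ⊓ S.hyp v₀) < 3 := by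
    rw [← hfr]
    apply Submodule.finrank_lt_finrank_of_lt
    refine lt_of_le_of_ne inf_le_left ?_
    intro h
    apply hnle
    rw [← h]
    exact inf_le_right
  have hpos : 0 < finrank F ↥(img g (line S.ρ v₀) ⊓ S.hyp v₀) := by
    rw [Module.finrank_pos_iff_exists_ne_zero]
    obtain ⟨x, hx, hx0⟩ := Submodule.exists_mem_ne_zero_of_ne_bot hne
    exact ⟨⟨x, hx⟩, fun h => hx0 (congrArg Subtype.val h)⟩
  obtain ⟨g₂, hg₂, h22⟩ : ∃ g₂ ∈ M, finrank F ↥(img g₂ (line S.ρ v₀) ⊓ S.hyp v₀) = 2 := by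
    rcases (by omega : finrank F ↥(img g (line S.ρ v₀) ⊓ S.hyp v₀) = 1 ∨
        finrank F ↥(img g (line S.ρ v₀) ⊓ S.hyp v₀) = 2) with h | h
    · exact Cfsg.Agent.Lib.Helper18.C3uLeaf.rank_two_step S hF hr3 hn0 M hMS hM hv₀ hiso hg h
    · exact ⟨g, hg, h⟩
  obtain ⟨g₃, hg₃, hadj, hnp⟩ := Cfsg.Agent.Lib.Helper18.C3uLeaf.rank_one_step S hF hr3 hn0 M hMS hM hv₀ hiso hg₂ h22
  obtain ⟨π, ℓ, t, hπ, hℓ, hℓπ, ht, htL⟩ :=
    Cfsg.Agent.Lib.Helper18.C3uLeaf.exists_line_transvection S hF hr3 hn0 M hMS hM hv₀ hiso hg₃ hadj hnp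
  have hpS := centre_mem_Sset S hF hr3 hn M hMS hM hv₀ hiso hπ hℓ hℓπ ht htL
  have hp0 : act S.ρ π v₀ ≠ 0 := by
    intro h
    rcases act_eq_zero S.ρ h with h' | h'
    · exact hπ h'
    · exact hv₀ h'
  have hpiso : S.fE (act S.ρ π v₀) (act S.ρ π v₀) = 0 := by
    rw [S.fE_act_left, S.fE_act_right, hiso, mul_zero, mul_zero]
  have hall := Cfsg.Agent.Lib.Helper6.C3uLeaf.iso_mem_Sset S hF (by omega) M hMS hM hp0 hpiso hpS
  have hall' := Cfsg.Agent.Lib.Helper6.C3uLeaf.all_mem_Sset S hF (by omega) M hall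
  exact le_of_forall_mem_Sset hF (by omega) (by omega) M hall'

/-- the maximality statement for a cubic adjoint-closed subfield, `n ≥ 12` -/
theorem maximal_cubic (hF : Fintype.card F = q ^ 2) (hn : 12 ≤ n)
    (K : Subalgebra F 𝕄) (hK : Cfsg.Geo.IsFieldSubalgebra 3 K)
    (hac : Cfsg.Geo.IsAdjointClosedFor (Cfsg.hermForm n F q) K) :
    Cfsg.Geo.IsMaximalIn ℍ (Cfsg.Geo.subalgebraNormalizer K ⊓ ℍ) := by
  classical
  obtain ⟨E, instE, instA, S, hρ, hfr⟩ := Cfsg.Agent.Lib.Helper20.C3uLeaf.exists_KU hF (by omega : 0 < n) 3 K hK hac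
  have hcomm : ∀ g ∈ ℍ, (∀ e : E, (g : 𝕄) * S.ρ e = S.ρ e * (g : 𝕄)) →
      g ∈ Cfsg.Geo.subalgebraNormalizer K ⊓ ℍ := by
    intro g hg hc
    refine ⟨?_, hg⟩
    have e1 : ((g⁻¹ : GL (Fin n) F) : 𝕄) * (g : 𝕄) = 1 := by
      rw [← Units.val_mul, inv_mul_cancel, Units.val_one]
    have e2 : (g : 𝕄) * ((g⁻¹ : GL (Fin n) F) : 𝕄) = 1 := by
      rw [← Units.val_mul, mul_inv_cancel, Units.val_one]
    have key : ∀ k ∈ K, (g : 𝕄) * k * ((g⁻¹ : GL (Fin n) F) : 𝕄) = k := by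
      intro k hk
      rw [← hρ] at hk
      obtain ⟨e, rfl⟩ := hk
      change (g : 𝕄) * S.ρ e * _ = S.ρ e
      rw [hc e, mul_assoc, e2, mul_one]
    intro k
    constructor
    · intro hk
      rw [key k hk]; exact hk
    · intro hk
      have hk' := hk
      rw [← hρ] at hk'
      obtain ⟨e, he⟩ := hk'
      have h3 : S.ρ e = (g : 𝕄) * k * ((g⁻¹ : GL (Fin n) F) : 𝕄) := he
      have h2 : k = S.ρ e := by
        calc k = ((g⁻¹ : GL (Fin n) F) : 𝕄) * ((g : 𝕄) * k * ((g⁻¹ : GL (Fin n) F) : 𝕄)) *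
              (g : 𝕄) := by
              simp only [mul_assoc, e1, mul_one]
              simp only [← mul_assoc, e1, one_mul]
          _ = ((g⁻¹ : GL (Fin n) F) : 𝕄) * S.ρ e * (g : 𝕄) := by rw [h3]
          _ = S.ρ e := by rw [mul_assoc, ← hc e, ← mul_assoc, e1, one_mul]
      rw [h2, ← hρ]
      exact ⟨e, rfl⟩
  refine ⟨?_, ?_⟩
  · refine lt_of_le_of_ne inf_le_right ?_
    intro heq
    obtain ⟨g, hg, hgN⟩ := Cfsg.Agent.Lib.Helper17.C3uLeaf.exists_not_mem_normalizer S hF (by omega) (by omega)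
    rw [hρ] at hgN
    apply hgN
    have : g ∈ Cfsg.Geo.subalgebraNormalizer K ⊓ ℍ := by rw [heq]; exact hg
    exact this.1
  · intro M hNM hMS
    by_cases hMN : M ≤ Cfsg.Geo.subalgebraNormalizer K
    · left
      exact le_antisymm (le_inf hMN hMS) hNM
    · right
      have hM : ∀ g ∈ ℍ, (∀ e : E, (g : 𝕄) * S.ρ e = S.ρ e * (g : 𝕄)) → g ∈ M :=
        fun g hg hc => hNM (hcomm g hg hc)
      have hnot : ¬ M ≤ Cfsg.Geo.subalgebraNormalizer S.ρ.range := by rw [hρ]; exact hMN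
      exact le_antisymm hMS (main S hF hfr hn M hMS hM hnot)

end Cfsg.Agent.Lib.Helper16.C3uMain
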