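/-
helper16: package NC of helper26's S4257 market (class size prime graph): if no element outside the
normal subgroup `H` has class size divisible by `s`, then `[G, S] ≤ H` for a Sylow `s`-subgroup `S`.
-/
import Mathlib
import Cfsg.Agent.Lib.Helper26.CSDDefs
import Cfsg.Agent.Lib.Helper13.SzSubA

set_option autoImplicit false

namespace Cfsg.Agent.Lib.Helper16.CSD

open Cfsg.Agent.Lib.Helper17.ClassGraph
open scoped commutatorElement

variable {G : Type*} [Group G]

/-- (NC) `C := comap (mk' H) (centralizer (S.map (mk' H)))`. Every `g` lies in a conjugate of `C`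
(`g ∈ H`: `g ∈ C`; `g ∉ H`: `C(g)` contains a Sylow `s`-subgroup `c • S`, so `c⁻¹ g c` centralizes
`S`), so `C = ⊤` by helper13 `exists_not_mem_conj`. -/
theorem comm_mem_of_out [Finite G] (H : Subgroup G) [H.Normal] (s : ℕ) [Fact s.Prime]
    (hout : ∀ g : G, g ∉ H → ¬ s ∣ ind g) (S : Sylow s G) {a : G} (ha : a ∈ S) (g : G) :
    ⁅g, a⁆ ∈ H := by
  classical
  set C : Subgroup G := Subgroup.comap (QuotientGroup.mk' H)
    (Subgroup.centralizer (((S : Subgroup G).map (QuotientGroup.mk' H) : Subgroup (G ⧸ H)) :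
      Set (G ⧸ H))) with hC
  have hmemC : ∀ c : G, c ∈ C ↔ ∀ b ∈ (S : Subgroup G), ⁅c, b⁆ ∈ H := by
    intro c
    rw [hC, Subgroup.mem_comap, Subgroup.mem_centralizer_iff]
    constructor
    · intro h b hb
      have h1 := h (QuotientGroup.mk' H b) (Subgroup.mem_map_of_mem _ hb)
      rw [← QuotientGroup.eq_one_iff, commutatorElement_def]
      have h2 : ((c * b * c⁻¹ * b⁻¹ : G) : G ⧸ H) =
          QuotientGroup.mk' H c * QuotientGroup.mk' H b * (QuotientGroup.mk' H c)⁻¹ *
            (QuotientGroup.mk' H b)⁻¹ := by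
        simp
      rw [h2, ← h1]
      group
    · intro h x hx
      obtain ⟨b, hb, rfl⟩ := hx
      have h1 := h b hb
      rw [← QuotientGroup.eq_one_iff, commutatorElement_def] at h1
      have h2 : ((c * b * c⁻¹ * b⁻¹ : G) : G ⧸ H) =
          QuotientGroup.mk' H c * QuotientGroup.mk' H b * (QuotientGroup.mk' H c)⁻¹ *
            (QuotientGroup.mk' H b)⁻¹ := by
        simp
      rw [h2] at h1
      have h3 : QuotientGroup.mk' H c * QuotientGroup.mk' H b =
          QuotientGroup.mk' H b * QuotientGroup.mk' H c := by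
        have := mul_inv_eq_one.mp h1
        exact mul_inv_eq_iff_eq_mul.mp this
      exact h3.symm
  have htop : C = ⊤ := by
    by_contra hne
    obtain ⟨g₀, hg₀⟩ := Cfsg.Agent.Lib.Helper13.SzSub.exists_not_mem_conj hne
    by_cases hgH : g₀ ∈ H
    · apply hg₀ 1
      rw [one_mul, inv_one, mul_one, hmemC]
      intro b _
      rw [commutatorElement_def]
      have h1 : b * g₀⁻¹ * b⁻¹ ∈ H := ‹H.Normal›.conj_mem _ (H.inv_mem hgH) b
      have h2 : g₀ * b * g₀⁻¹ * b⁻¹ = g₀ * (b * g₀⁻¹ * b⁻¹) := by group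
      rw [h2]
      exact H.mul_mem hgH h1
    · obtain ⟨c, hc⟩ := exists_conj_mem_centralizer_sylow S g₀ (hout g₀ hgH)
      apply hg₀ c
      rw [hmemC]
      intro b hb
      rw [Subgroup.mem_centralizer_iff] at hc
      have h1 := hc b hb
      rw [commutatorElement_def]
      have h2 : c * g₀ * c⁻¹ * b * (c * g₀ * c⁻¹)⁻¹ * b⁻¹ = 1 := by
        rw [← h1]
        group
      rw [h2]
      exact H.one_mem
  have hg : g ∈ C := by rw [htop]; exact Subgroup.mem_top g
  exact (hmemC g).mp hg a ha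

end Cfsg.Agent.Lib.Helper16.CSD
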