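/-
helper16: package NORM of helper26's S4257 market (class size prime graph).
-/
import Mathlib
import Cfsg.Agent.Lib.Helper26.CSDDefs

set_option autoImplicit false

namespace Cfsg.Agent.Lib.Helper16.CSD

open Cfsg.Agent.Lib.Helper17.ClassGraph
open scoped commutatorElement

variable {G : Type*} [Group G]

/-- (NC2) `M := normalizer (C(w))` contains every Sylow `s`-subgroup for `s ∈ Sg`
(`a k a⁻¹ = ⁅a,k⁆ * k`), and `M.index ∣ ind w`; a prime `s ∣ M.index` would be in `Sg`, but
`Sylow.not_dvd_index`. -/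
theorem centralizer_normal_of [Finite G] (H : Subgroup G) [H.Normal] (Sg : Set ℕ)
    (hNC : ∀ (s : ℕ) [Fact s.Prime], s ∈ Sg → ∀ (S : Sylow s G) (a : G), a ∈ S → ∀ g : G, ⁅g, a⁆ ∈ H)
    (w : G) (hw : H ≤ Subgroup.centralizer {w}) (hSg : ∀ t : ℕ, t.Prime → t ∣ ind w → t ∈ Sg) :
    (Subgroup.centralizer ({w} : Set G)).Normal := by
  classical
  set Cw : Subgroup G := Subgroup.centralizer ({w} : Set G) with hCw
  rw [← Subgroup.normalizer_eq_top_iff]
  set M : Subgroup G := Subgroup.normalizer (Cw : Set G) with hM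
  by_contra hne
  have hle : Cw ≤ M := Subgroup.le_normalizer
  have hidx : M.index ∣ ind w := Subgroup.index_dvd_of_le hle
  have hne1 : M.index ≠ 1 := fun h => hne (Subgroup.index_eq_one.mp h)
  obtain ⟨s, hs, hsdvd⟩ := Nat.exists_prime_and_dvd hne1
  have hsSg : s ∈ Sg := hSg s hs (hsdvd.trans hidx)
  haveI : Fact s.Prime := ⟨hs⟩
  obtain ⟨S⟩ : Nonempty (Sylow s G) := inferInstance
  have hSM : (S : Subgroup G) ≤ M := by
    -- conjugation by an element of `S` maps `Cw` into itself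
    have hconj : ∀ a ∈ (S : Subgroup G), ∀ k ∈ Cw, a * k * a⁻¹ ∈ Cw := by
      intro a ha k hk
      have h1 : ⁅k, a⁆ ∈ H := hNC s hsSg S a ha k
      have h2 : ⁅k, a⁆⁻¹ ∈ Cw := Cw.inv_mem (hw h1)
      have h3 : a * k * a⁻¹ = ⁅k, a⁆⁻¹ * k := by
        rw [commutatorElement_def]
        group
      rw [h3]
      exact Cw.mul_mem h2 hk
    intro a ha
    rw [hM, Subgroup.mem_normalizer_iff]
    intro k
    constructor
    · intro hk
      exact hconj a ha k hk
    · intro hk
      have h1 := hconj a⁻¹ ((S : Subgroup G).inv_mem ha) _ hk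
      have h2 : a⁻¹ * (a * k * a⁻¹) * a⁻¹⁻¹ = k := by group
      rw [h2] at h1
      exact h1
  have h1 : M.index ∣ (S : Subgroup G).index := Subgroup.index_dvd_of_le hSM
  exact S.not_dvd_index (hsdvd.trans h1)

theorem sylow_le_centralizer_of_normal [Finite G] (t : ℕ) [Fact t.Prime] (w : G)
    (hn : (Subgroup.centralizer ({w} : Set G)).Normal) (ht : ¬ t ∣ ind w) (T : Sylow t G) :
    (T : Subgroup G) ≤ Subgroup.centralizer {w} := by
  classical
  obtain ⟨Q, hQ⟩ := exists_sylow_le_of_not_dvd_index (Subgroup.centralizer ({w} : Set G)) ht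
  obtain ⟨g, hg⟩ := MulAction.exists_smul_eq G Q T
  intro y hy
  have hy' : y ∈ ((g • Q : Sylow t G) : Subgroup G) := by rw [hg]; exact hy
  rw [Sylow.smul_def, Sylow.pointwise_smul_def] at hy'
  obtain ⟨y₀, hy₀, rfl⟩ := hy'
  exact hn.conj_mem y₀ (hQ hy₀) g

theorem not_dvd_ind_of_sylow_le [Finite G] (t : ℕ) [Fact t.Prime] (w : G) (T : Sylow t G)
    (hT : (T : Subgroup G) ≤ Subgroup.centralizer {w}) : ¬ t ∣ ind w := by
  intro h
  have h1 : ind w ∣ (T : Subgroup G).index := Subgroup.index_dvd_of_le hT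
  exact T.not_dvd_index (h.trans h1)

end Cfsg.Agent.Lib.Helper16.CSD
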