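import Cfsg.Agent.Lib.Helper16.StronglyEmbedded

set_option autoImplicit false
open Cfsg
open scoped Pointwise commutatorElement

namespace Cfsg.Agent.Lib.Helper16

variable {G : Type*} [Group G]

theorem commutator_sup_le {V X Y N : Subgroup G} (hXN : X ≤ Subgroup.normalizer (N : Set G))
    (hYN : Y ≤ Subgroup.normalizer (N : Set G))
    (hX : ⁅V, X⁆ ≤ N) (hY : ⁅V, Y⁆ ≤ N) : ⁅V, X ⊔ Y⁆ ≤ N := by
  rw [Subgroup.commutator_le]
  intro v hv l hl
  rw [Subgroup.sup_eq_closure] at hl
  have key : l ∈ Subgroup.normalizer (N : Set G) ∧ ∀ v ∈ V, ⁅v, l⁆ ∈ N := by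
    induction hl using Subgroup.closure_induction with
    | mem x hx =>
      rcases hx with hx | hx
      · exact ⟨hXN hx, fun v hv => hX (Subgroup.commutator_mem_commutator hv hx)⟩
      · exact ⟨hYN hx, fun v hv => hY (Subgroup.commutator_mem_commutator hv hx)⟩
    | one => exact ⟨Subgroup.one_mem _, fun v _ => by rw [commutatorElement_one_right]; exact N.one_mem⟩
    | mul x y _ _ hx hy =>
      refine ⟨Subgroup.mul_mem _ hx.1 hy.1, fun v hv => ?_⟩
      rw [commutatorElement_mul_right_eq_mul_conj]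
      have h1 := hx.2 v hv
      have h2 := hy.2 v hv
      have h3 : x * ⁅v, y⁆ * x⁻¹ ∈ N := (Subgroup.mem_normalizer_iff.mp hx.1 _).mp h2
      have e : ⁅v, x⁆ * x * ⁅v, y⁆ * x⁻¹ = ⁅v, x⁆ * (x * ⁅v, y⁆ * x⁻¹) := by group
      rw [e]; exact N.mul_mem h1 h3
    | inv x _ hx =>
      refine ⟨Subgroup.inv_mem _ hx.1, fun v hv => ?_⟩
      rw [commutatorElement_inv_right]
      have h1 : ⁅x, v⁆ ∈ N := by rw [← commutatorElement_inv]; exact N.inv_mem (hx.2 v hv)
      have h2 := (Subgroup.mem_normalizer_iff.mp (Subgroup.inv_mem _ hx.1) _).mp h1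
      simpa using h2
  exact key.2 v hv

/-- If `X` and `Y` both centralize `b` then so does `X ⊔ Y`. -/
theorem sup_le_centralizer_singleton {X Y : Subgroup G} {b : G}
    (hX : b ∈ Subgroup.centralizer (X : Set G)) (hY : b ∈ Subgroup.centralizer (Y : Set G)) :
    b ∈ Subgroup.centralizer ((X ⊔ Y : Subgroup G) : Set G) := by
  have h : X ⊔ Y ≤ Subgroup.centralizer ({b} : Set G) := by
    apply sup_le
    · intro x hx
      rw [Subgroup.mem_centralizer_iff]
      intro y hy
      rw [Set.mem_singleton_iff] at hy; subst hy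
      exact ((Subgroup.mem_centralizer_iff.mp hX) x hx).symm
    · intro x hx
      rw [Subgroup.mem_centralizer_iff]
      intro y hy
      rw [Set.mem_singleton_iff] at hy; subst hy
      exact ((Subgroup.mem_centralizer_iff.mp hY) x hx).symm
  rw [Subgroup.mem_centralizer_iff]
  intro l hl
  exact ((Subgroup.mem_centralizer_iff.mp (h hl)) b (Set.mem_singleton b)).symm

end Cfsg.Agent.Lib.Helper16
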