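import Mathlib.GroupTheory.Sylow
import Cfsg.Agent.S0029
import Cfsg.Agent.Lib.Helper1.PGroup

set_option autoImplicit false
open Cfsg
open scoped commutatorElement

namespace Cfsg.Agent.Lib.Helper16

/-- dual of Thompson's `P × Q` lemma. -/
theorem dual_pq {G : Type*} [Group G] [Finite G] {p : ℕ} [Fact p.Prime] (P A B : Subgroup G)
    (hP : IsPGroup p ↥P) (hA : IsPGroup p ↥A) (hB : ¬ p ∣ Nat.card ↥B)
    (hnA : A ≤ Subgroup.normalizer (P : Set G)) (hnB : B ≤ Subgroup.normalizer (P : Set G))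
    (hAB : ⁅A, B⁆ = ⊥) (hcomm : ⁅P, B⁆ ≤ ⁅P, A⁆) : ⁅P, B⁆ = ⊥ := by
  have hp : p.Prime := Fact.out
  set R : Subgroup G := P ⊔ A with hR
  have hRp : IsPGroup p ↥R := IsPGroup.to_sup_of_normal_left' hP hA hnA
  have hABc : A ≤ Subgroup.centralizer (B : Set G) := Subgroup.commutator_eq_bot_iff_le_centralizer.mp hAB
  have hBAc : B ≤ Subgroup.centralizer (A : Set G) := by
    rw [Subgroup.commutator_comm] at hAB
    exact Subgroup.commutator_eq_bot_iff_le_centralizer.mp hAB
  have hBR : B ≤ Subgroup.normalizer (R : Set G) := by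
    intro b hb
    apply Subgroup.normalizer_inf_normalizer_le_normalizer_sup P A
    exact Subgroup.mem_inf.mpr ⟨hnB hb, Subgroup.centralizer_le_normalizer _ (hBAc hb)⟩
  have hcop : (Nat.card B).Coprime (Nat.card (frattini ↥R)) := by
    obtain ⟨k, hk⟩ := IsPGroup.iff_card.mp (hRp.to_subgroup (frattini ↥R))
    rw [hk]
    apply Nat.Coprime.pow_right
    exact ((Nat.Prime.coprime_iff_not_dvd hp).mpr hB).symm
  have hRR : ⁅R, R⁆ ≤ (frattini ↥R).map R.subtype := by
    rw [← Subgroup.map_subtype_commutator]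
    exact Subgroup.map_mono (Cfsg.Agent.Lib.Helper1.IsPGroup.commutator_le_frattini hRp)
  have htriv : ∀ b ∈ B, ∀ k ∈ R, b * k * b⁻¹ * k⁻¹ ∈ (frattini ↥R).map R.subtype := by
    intro b hb k hk
    have hk' : k ∈ ((P ⊔ A : Subgroup G) : Set G) := hk
    rw [Subgroup.coe_mul_of_right_le_normalizer_left P A hnA] at hk'
    obtain ⟨n, hn, h, hh, rfl⟩ := Set.mem_mul.mp hk'
    have hbh : b * h = h * b := by
      have := hBAc hb
      rw [Subgroup.mem_centralizer_iff] at this
      exact (this h hh).symm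
    have h1 : b * (n * h) * b⁻¹ * (n * h)⁻¹ = ⁅b, n⁆ := by
      rw [commutatorElement_def]
      have hbh' : h * b⁻¹ = b⁻¹ * h := by
        rw [eq_inv_mul_iff_mul_eq, ← mul_assoc, hbh, mul_inv_cancel_right]
      have : b * (n * h) * b⁻¹ = b * n * b⁻¹ * h := by
        calc b * (n * h) * b⁻¹ = b * n * (h * b⁻¹) := by simp only [mul_assoc]
          _ = b * n * (b⁻¹ * h) := by rw [hbh']
          _ = b * n * b⁻¹ * h := by simp only [mul_assoc]
      rw [this]; group
    rw [h1]
    apply hRR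
    have h2 : ⁅b, n⁆ ∈ ⁅B, P⁆ := Subgroup.commutator_mem_commutator hb hn
    rw [Subgroup.commutator_comm] at h2
    exact Subgroup.commutator_mono le_sup_left le_sup_right (hcomm h2)
  have hBC := Cfsg.Agent.S0029.result B R hBR hcop htriv
  rw [Subgroup.commutator_comm, Subgroup.commutator_eq_bot_iff_le_centralizer]
  exact hBC.trans (Subgroup.centralizer_le (by exact_mod_cast (le_sup_left : P ≤ R)))

end Cfsg.Agent.Lib.Helper16
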