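import Mathlib.GroupTheory.Sylow
import Cfsg.Prelude.Def_Transfer
import Cfsg.Agent.S0028
import Cfsg.Agent.S0058
import Cfsg.Agent.Lib.Helper16.DualPQ

set_option autoImplicit false
open Cfsg
open scoped commutatorElement

namespace Cfsg.Agent.Lib.Helper16

/-- commutator with a normalizing subgroup stays inside -/
theorem commutator_le_of_le_normalizer {G : Type*} [Group G] (R U : Subgroup G)
    (hRU : U ≤ Subgroup.normalizer (R : Set G)) : ⁅R, U⁆ ≤ R := by
  rw [Subgroup.commutator_le]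
  intro r hr v hv
  rw [commutatorElement_def]
  have h1 : v * r⁻¹ * v⁻¹ ∈ R := (Subgroup.mem_normalizer_iff.mp (hRU hv) r⁻¹).mp (R.inv_mem hr)
  have : r * v * r⁻¹ * v⁻¹ = r * (v * r⁻¹ * v⁻¹) := by group
  rw [this]
  exact R.mul_mem hr h1

def commInto {G : Type*} [Group G] (C : Subgroup G) [hC : C.Normal] (U : Subgroup G) : Subgroup G where
  carrier := {g | ∀ v ∈ U, ⁅g, v⁆ ∈ C}
  one_mem' := by
    intro v _
    rw [commutatorElement_one_left]; exact C.one_mem
  mul_mem' := by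
    intro g h hg hh v hv
    have h1 : ⁅g * h, v⁆ = g * ⁅h, v⁆ * g⁻¹ * ⁅g, v⁆ := by
      simp only [commutatorElement_def]; group
    rw [h1]
    exact C.mul_mem (hC.conj_mem _ (hh v hv) g) (hg v hv)
  inv_mem' := by
    intro g hg v hv
    have h1 : ⁅g⁻¹, v⁆ = g⁻¹ * ⁅g, v⁆⁻¹ * g⁻¹⁻¹ := by
      simp only [commutatorElement_def]; group
    rw [h1]
    exact hC.conj_mem _ (C.inv_mem (hg v hv)) g⁻¹

theorem mem_normalizer_commutator {G : Type*} [Group G] {H₁ H₂ : Subgroup G} {g : G}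
    (h1 : g ∈ Subgroup.normalizer (H₁ : Set G)) (h2 : g ∈ Subgroup.normalizer (H₂ : Set G)) :
    g ∈ Subgroup.normalizer ((⁅H₁, H₂⁆ : Subgroup G) : Set G) := by
  rw [Subgroup.mem_normalizer_iff_map_conj_eq] at *
  rw [Subgroup.map_commutator, h1, h2]

/-- elements of `N(D)` acting trivially on `E` modulo `D`. -/
def actTrivMod {G : Type*} [Group G] (E D : Subgroup G) : Subgroup G where
  carrier := {g | g ∈ Subgroup.normalizer (D : Set G) ∧ ∀ e ∈ E, ⁅e, g⁆ ∈ D}
  one_mem' := by
    refine ⟨Subgroup.one_mem _, ?_⟩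
    intro e _
    rw [commutatorElement_one_right]; exact D.one_mem
  mul_mem' := by
    rintro g h ⟨hg1, hg2⟩ ⟨hh1, hh2⟩
    refine ⟨Subgroup.mul_mem _ hg1 hh1, ?_⟩
    intro e he
    have h1 : ⁅e, g * h⁆ = ⁅e, g⁆ * (g * ⁅e, h⁆ * g⁻¹) := by
      simp only [commutatorElement_def]; group
    rw [h1]
    exact D.mul_mem (hg2 e he) ((Subgroup.mem_normalizer_iff.mp hg1 _).mp (hh2 e he))
  inv_mem' := by
    rintro g ⟨hg1, hg2⟩
    refine ⟨Subgroup.inv_mem _ hg1, ?_⟩
    intro e he
    have h1 : ⁅e, g⁻¹⁆ = g⁻¹ * ⁅e, g⁆⁻¹ * g⁻¹⁻¹ := by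
      simp only [commutatorElement_def]; group
    rw [h1]
    exact (Subgroup.mem_normalizer_iff.mp (Subgroup.inv_mem _ hg1) _).mp (D.inv_mem (hg2 e he))

theorem step_b {G : Type*} [Group G] [Finite G] {p : ℕ} [Fact p.Prime]
    (E : Subgroup G) [hEn : E.Normal] (hE : IsPGroup p ↥E) (U : Subgroup G)
    (u : G) (hu : u ∈ U) (hb : ⁅E, U⁆ = ⁅E, Subgroup.zpowers u⁆)
    (Ru X : Subgroup G) (hRu : Ru ≤ Subgroup.centralizer ({u} : Set G)) (hX : X = ⁅Ru, U⁆)
    (hXp : ¬ p ∣ Nat.card ↥X)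
    (hzX : Subgroup.zpowers u ≤ Subgroup.centralizer (X : Set G))
    (hzp : IsPGroup p ↥(Subgroup.zpowers u)) :
    X ≤ Subgroup.centralizer (E : Set G) := by
  have hNE : Subgroup.normalizer (E : Set G) = ⊤ := Subgroup.normalizer_eq_top_iff.mpr hEn
  set D : Subgroup G := ⁅E, U⁆ with hD
  have hXK : X ≤ actTrivMod E D := by
    rw [hX, Subgroup.commutator_le]
    intro r hr v hv
    have hvK : v ∈ actTrivMod E D := by
      refine ⟨?_, ?_⟩
      · apply mem_normalizer_commutator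
        · rw [hNE]; exact Subgroup.mem_top v
        · exact Subgroup.le_normalizer hv
      · intro e he
        exact Subgroup.commutator_mem_commutator he hv
    have hrD : r ∈ Subgroup.normalizer (D : Set G) := by
      rw [hb]
      apply mem_normalizer_commutator
      · rw [hNE]; exact Subgroup.mem_top r
      · rw [Subgroup.mem_normalizer_iff_map_conj_eq, MonoidHom.map_zpowers]
        congr 1
        have := hRu hr
        rw [Subgroup.mem_centralizer_iff] at this
        have h1 := this u rfl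
        show r * u * r⁻¹ = u
        rw [← h1, mul_inv_cancel_right]
    have hrvK : r * v * r⁻¹ ∈ actTrivMod E D := by
      refine ⟨Subgroup.mul_mem _ (Subgroup.mul_mem _ hrD hvK.1) (Subgroup.inv_mem _ hrD), ?_⟩
      intro e he
      have h1 : ⁅e, r * v * r⁻¹⁆ = r * ⁅r⁻¹ * e * r, v⁆ * r⁻¹ := by
        simp only [commutatorElement_def]; group
      rw [h1]
      have he' : r⁻¹ * e * r ∈ E := by
        have := hEn.conj_mem e he r⁻¹
        rwa [inv_inv] at this
      exact (Subgroup.mem_normalizer_iff.mp hrD _).mp (hvK.2 _ he')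
    have h2 : ⁅r, v⁆ = (r * v * r⁻¹) * v⁻¹ := by
      rw [commutatorElement_def]
    rw [h2]
    exact Subgroup.mul_mem _ hrvK (Subgroup.inv_mem _ hvK)
  have hcomm : ⁅E, X⁆ ≤ ⁅E, Subgroup.zpowers u⁆ := by
    rw [← hb, Subgroup.commutator_le]
    intro e he x hx
    exact (hXK hx).2 e he
  have hAB : ⁅Subgroup.zpowers u, X⁆ = ⊥ := Subgroup.commutator_eq_bot_iff_le_centralizer.mpr hzX
  have := dual_pq E (Subgroup.zpowers u) X hE hzp hXp (by rw [hNE]; exact le_top) (by rw [hNE]; exact le_top) hAB hcomm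
  rw [Subgroup.commutator_eq_bot_iff_le_centralizer] at this
  exact Subgroup.le_centralizer_iff.mp this

/-- key step: for a single `u`. -/
theorem comm_centralizer_step {G : Type*} [Group G] [Finite G] {p : ℕ} [Fact p.Prime]
    (E : Subgroup G) [hEn : E.Normal] (hE : IsPGroup p ↥E) (U : Subgroup G)
    (hUc : ∀ a ∈ U, ∀ b ∈ U, a * b = b * a) (hUp : IsPGroup p ↥U)
    (R : Subgroup G) (hR : ¬ p ∣ Nat.card ↥R) (hRU : U ≤ Subgroup.normalizer (R : Set G))
    (u : G) (hu : u ∈ U)
    (hcond : E ⊓ Subgroup.centralizer (U : Set G) = E ⊓ Subgroup.centralizer ({u} : Set G) ∨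
      ⁅E, U⁆ = ⁅E, Subgroup.zpowers u⁆) :
    ⁅R ⊓ Subgroup.centralizer ({u} : Set G), U⁆ ≤ Subgroup.centralizer (E : Set G) := by
  have hp : p.Prime := Fact.out
  set Ru : Subgroup G := R ⊓ Subgroup.centralizer ({u} : Set G) with hRu
  set X : Subgroup G := ⁅Ru, U⁆ with hX
  have hXR : X ≤ R := by
    refine le_trans (Subgroup.commutator_mono inf_le_left le_rfl) ?_
    exact commutator_le_of_le_normalizer R U hRU
  have hXp : ¬ p ∣ Nat.card ↥X := fun h => hR (h.trans (Subgroup.card_dvd_of_le hXR))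
  have hUu : U ≤ Subgroup.centralizer ({u} : Set G) := by
    intro v hv
    rw [Subgroup.mem_centralizer_iff]
    intro h hh
    rw [Set.mem_singleton_iff.mp hh]
    exact hUc u hu v hv
  have hXu : X ≤ Subgroup.centralizer ({u} : Set G) := by
    rw [hX, Subgroup.commutator_le]
    intro r hr v hv
    rw [commutatorElement_def]
    have hr' := (Subgroup.mem_inf.mp hr).2
    have hv' := hUu hv
    exact Subgroup.mul_mem _ (Subgroup.mul_mem _ (Subgroup.mul_mem _ hr' hv') (Subgroup.inv_mem _ hr')) (Subgroup.inv_mem _ hv')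
  have hzX : Subgroup.zpowers u ≤ Subgroup.centralizer (X : Set G) := by
    rw [Subgroup.zpowers_le, Subgroup.mem_centralizer_iff]
    intro x hx
    have := hXu hx
    rw [Subgroup.mem_centralizer_iff] at this
    exact (this u rfl).symm
  have hzp : IsPGroup p ↥(Subgroup.zpowers u) := hUp.to_le (Subgroup.zpowers_le.mpr hu)
  have hNE : Subgroup.normalizer (E : Set G) = ⊤ := Subgroup.normalizer_eq_top_iff.mpr hEn
  rcases hcond with ha | hb
  · -- case (a): Thompson P × Q
    apply Cfsg.Agent.S0028.result p (Subgroup.zpowers u) X E hzp ((Nat.Prime.coprime_iff_not_dvd hp).mpr hXp).symm hE hzX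
      (by rw [hNE]; exact le_top) (by rw [hNE]; exact le_top)
    -- E ⊓ C(zpowers u) ≤ C(X)
    set F : Subgroup G := E ⊓ Subgroup.centralizer (U : Set G) with hF
    have hFle : E ⊓ Subgroup.centralizer ((Subgroup.zpowers u : Subgroup G) : Set G) ≤ F := by
      rw [ha]
      intro f hf
      refine Subgroup.mem_inf.mpr ⟨(Subgroup.mem_inf.mp hf).1, ?_⟩
      have := (Subgroup.mem_inf.mp hf).2
      rw [Subgroup.mem_centralizer_iff] at this ⊢
      intro h hh
      rw [Set.mem_singleton_iff.mp hh]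
      exact this u (Subgroup.mem_zpowers u)
    refine hFle.trans ?_
    rw [Subgroup.le_centralizer_iff, hX, Subgroup.commutator_le]
    intro r hr v hv
    rw [Subgroup.mem_centralizer_iff]
    intro f hf
    have hfv : ∀ f ∈ F, v * f = f * v := by
      intro f hf
      have := (Subgroup.mem_inf.mp hf).2
      rw [Subgroup.mem_centralizer_iff] at this
      exact this v hv
    have hf' : r⁻¹ * f * r ∈ F := by
      rw [ha]
      refine Subgroup.mem_inf.mpr ⟨?_, ?_⟩
      · have := hEn.conj_mem f (Subgroup.mem_inf.mp hf).1 r⁻¹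
        rwa [inv_inv] at this
      · have h1 : r ∈ Subgroup.centralizer ({u} : Set G) := (Subgroup.mem_inf.mp hr).2
        have h2 : f ∈ Subgroup.centralizer ({u} : Set G) := by
          have : f ∈ E ⊓ Subgroup.centralizer ({u} : Set G) := by rw [← ha]; exact hf
          exact (Subgroup.mem_inf.mp this).2
        exact Subgroup.mul_mem _ (Subgroup.mul_mem _ (Subgroup.inv_mem _ h1) h2) h1
    have h1 := hfv f hf
    have h2 := hfv _ hf'
    rw [commutatorElement_def]
    -- f * (r v r⁻¹ v⁻¹) = (r v r⁻¹ v⁻¹) * f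
    have h1' : v⁻¹ * f = f * v⁻¹ := by
      rw [eq_mul_inv_iff_mul_eq, mul_assoc, ← h1, ← mul_assoc, inv_mul_cancel, one_mul]
    calc f * (r * v * r⁻¹ * v⁻¹) = r * ((r⁻¹ * f * r) * v) * r⁻¹ * v⁻¹ := by group
      _ = r * (v * (r⁻¹ * f * r)) * r⁻¹ * v⁻¹ := by rw [h2]
      _ = r * v * r⁻¹ * (f * v⁻¹) := by group
      _ = r * v * r⁻¹ * (v⁻¹ * f) := by rw [h1']
      _ = r * v * r⁻¹ * v⁻¹ * f := by group
  · -- case (b): dual lemma
    exact step_b E hE U u hu hb Ru X inf_le_right hX hXp hzX hzp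

theorem comm_centralizes_normal_pgroup {G : Type*} [Group G] [Finite G] {p : ℕ} [Fact p.Prime]
    (E : Subgroup G) [E.Normal] (hE : IsPGroup p ↥E) (U : Subgroup G)
    (hU : Cfsg.IsElementaryAbelian p U) (hnc : ¬ IsCyclic ↥U)
    (hcond : (∀ u ∈ U, u ≠ 1 → E ⊓ Subgroup.centralizer (U : Set G) = E ⊓ Subgroup.centralizer ({u} : Set G)) ∨
      (∀ u ∈ U, u ≠ 1 → ⁅E, U⁆ = ⁅E, Subgroup.zpowers u⁆))
    (R : Subgroup G) (hR : ¬ p ∣ Nat.card ↥R) (hRU : U ≤ Subgroup.normalizer (R : Set G)) :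
    ⁅R, U⁆ ≤ Subgroup.centralizer (E : Set G) := by
  have hp : p.Prime := Fact.out
  obtain ⟨hUc, hUexp⟩ := hU
  have hUc' : ∀ a ∈ U, ∀ b ∈ U, a * b = b * a := by
    intro a ha b hb
    have := hUc.is_comm.comm ⟨a, ha⟩ ⟨b, hb⟩
    exact congrArg Subtype.val this
  have hUp : IsPGroup p ↥U := by
    intro g
    refine ⟨1, ?_⟩
    rw [pow_one]
    exact Subtype.ext (hUexp g g.2)
  have hcop : (Nat.card U).Coprime (Nat.card R) := by
    obtain ⟨k, hk⟩ := IsPGroup.iff_card.mp hUp
    rw [hk]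
    exact Nat.Coprime.pow_left _ ((Nat.Prime.coprime_iff_not_dvd hp).mpr hR)
  have hgen := Cfsg.Agent.S0058.result U R hnc hRU hcop
  have hRT : R ≤ commInto (Subgroup.centralizer (E : Set G)) U := by
    rw [← hgen]
    apply iSup₂_le
    intro u hu
    obtain ⟨huU, hu1⟩ := hu
    have hstep := comm_centralizer_step E hE U hUc' hUp R hR hRU u huU
      (by
        rcases hcond with h | h
        · left; exact h u huU hu1
        · right; exact h u huU hu1)
    intro r hr v hv
    exact hstep (Subgroup.commutator_mem_commutator hr hv)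
  rw [Subgroup.commutator_le]
  intro r hr v hv
  exact hRT hr v hv

end Cfsg.Agent.Lib.Helper16
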