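import Mathlib
import Cfsg.Prelude.Def_LocalStructure
import Cfsg.Prelude.Def_Amalgam
import Cfsg.Prelude.Def_Solvable
import Cfsg.Prelude.Def_Transfer
import Cfsg.Agent.Lib.Helper16.FrakH2

/-! `H ∈ ℌ_G(O_p(M))` normalizing a conjugate of the large subgroup `Q` (S2854): `H Q^g` is
`p`-irreducible (helper16). -/

set_option autoImplicit false
open Cfsg
open scoped Pointwise commutatorElement

namespace Cfsg.Agent.Lib.Helper16

-- FH3 START
section FrakH3

variable {G : Type*} [Group G] {p : ℕ}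

/-- `O_p(N A) ∩ N ≤ O_p(N)`. -/
theorem pCoreOf_sup_inf_le [Finite G] [Fact p.Prime] (N A : Subgroup G) :
    pCoreOf p (N ⊔ A) ⊓ N ≤ pCoreOf p N := by
  apply le_pCoreOf inf_le_right _ ((pCoreOf_isPGroup (N ⊔ A)).to_le inf_le_left)
  intro n hn
  have hn' : n ∈ N ⊔ A := Subgroup.mem_sup_left hn
  have e1 := map_conj_eq_of_mem_normalizer (le_normalizer_pCoreOf (p := p) (N ⊔ A) hn')
  have e2 : N.map (MulAut.conj n).toMonoidHom = N := map_conj_eq_self_of_mem hn
  apply mem_normalizer_of_map_conj_le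
  calc (pCoreOf p (N ⊔ A) ⊓ N).map (MulAut.conj n).toMonoidHom
      ≤ (pCoreOf p (N ⊔ A)).map (MulAut.conj n).toMonoidHom ⊓
          N.map (MulAut.conj n).toMonoidHom := Subgroup.map_inf_le _ _ _
    _ = pCoreOf p (N ⊔ A) ⊓ N := by rw [e1, e2]

/-- Lemma C: for `H ∈ ℌ_G(O_p(M))` and `N₁ ⊴ H` with `N₁ O_p(M) ≠ H`, the `p`-subgroups of
`N₁` lie in `O_p(H)`. -/
theorem frakH_pgroup_le_pCoreOf [Finite G] [Fact p.Prime] (S : Sylow p G) {Q : Subgroup G}
    (hQp : IsPGroup p ↥Q) (hQ1 : Q ≠ ⊥) (hQS : Q ≤ (S : Subgroup G)) (hQ : IsLarge Q)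
    {M : Subgroup G} (hSM : (S : Subgroup G) ≤ M) (hM : IsInFrakM p M)
    (hasym : ¬ IsSymmetricIn (largestPReducedOf p M)) {H : Subgroup G}
    (hH : IsInFrakH p M H) {N₁ B₀ : Subgroup G} (hN₁H : N₁ ≤ H)
    (hHN₁ : H ≤ Subgroup.normalizer (N₁ : Set G)) (hne : N₁ ⊔ pCoreOf p M ≠ H)
    (hB₀ : IsPGroup p ↥B₀) (hB₀N : B₀ ≤ N₁) : B₀ ≤ pCoreOf p H := by
  set P := pCoreOf p M with hP
  set Y := largestPReducedOf p M with hY
  obtain ⟨-, -, -, h4, h5, -⟩ := frakH_facts S hQp hQ1 hQS hQ hSM hM hasym hH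
  have hchar := charP_of_mem_charPSubgroups hM.1
  obtain ⟨-, -, -, hYP, -⟩ := largestPReducedOf_spec (p := p) M hchar
  have hPH : P ≤ H := hH.2.1
  have hYH : Y ≤ H := hYP.trans hPH
  have hlt : N₁ ⊔ P < H := lt_of_le_of_ne (sup_le hN₁H hPH) hne
  have hYO : Y ≤ pCoreOf p (N₁ ⊔ P) := hH.2.2.2 (N₁ ⊔ P) le_sup_right hlt
  set D₁ := pCoreOf p N₁ with hD₁
  have hHD₁ : H ≤ Subgroup.normalizer (D₁ : Set G) :=
    hHN₁.trans (normalizer_le_normalizer_pCoreOf N₁)
  -- `[N₁, Y] ≤ D₁`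
  have hc1 : ⁅N₁, Y⁆ ≤ D₁ := by
    refine le_trans (le_inf ?_ ?_) (pCoreOf_sup_inf_le N₁ P)
    · rw [Subgroup.commutator_comm]
      exact (Subgroup.commutator_mono hYO le_rfl).trans
        (Subgroup.le_normalizer_iff_commutator_le_left.mp
          ((le_sup_left : N₁ ≤ N₁ ⊔ P).trans (le_normalizer_pCoreOf (N₁ ⊔ P))))
    · exact Subgroup.le_normalizer_iff_commutator_le_left.mp (hYH.trans hHN₁)
  -- `[N₁, ⟨Y^H⟩] ≤ D₁`
  have hc2 : ⁅N₁, conjClosure H Y⁆ ≤ D₁ := by
    unfold conjClosure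
    apply commutator_iSup_le
    · rintro ⟨h, hh⟩
      exact (map_conj_le_of_mem hYH hh).trans hHD₁
    · rintro ⟨h, hh⟩
      have := Subgroup.map_mono (f := (MulAut.conj h).toMonoidHom) hc1
      rwa [Subgroup.map_commutator, map_conj_eq_of_mem_normalizer (hHN₁ hh),
        map_conj_eq_of_mem_normalizer (hHD₁ hh)] at this
  have hRV : OpOf p H ≤ conjClosure H Y := by rw [← h5]; exact le_sup_left
  -- a Sylow subgroup of `H` containing `B₀`
  have hB₀H : B₀ ≤ H := hB₀N.trans hN₁H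
  obtain ⟨T₀, hT₀⟩ := (hB₀.comap_subtype : IsPGroup p ↥(B₀.subgroupOf H)).exists_le_sylow
  set T₁ : Subgroup G := (T₀ : Subgroup ↥H).map H.subtype with hT₁
  have hT₁H : T₁ ≤ H := Subgroup.map_subtype_le _
  have hT₁p : IsPGroup p ↥T₁ := T₀.isPGroup'.map _
  have hB₀T : B₀ ≤ T₁ := by
    intro x hx
    exact ⟨⟨x, hB₀H hx⟩, hT₀ (Subgroup.mem_comap.mpr hx), rfl⟩
  have hDT : pCoreOf p H ≤ T₁ := by
    rintro _ ⟨x, hx, rfl⟩
    exact ⟨x, Cfsg.Agent.Lib.Helper1.pCore_le_sylow T₀ hx, rfl⟩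
  have hRT : OpOf p H ⊔ T₁ = H := OpOf_sup_sylow H T₀
  have hD₁T : D₁ ≤ N₁ ⊓ T₁ :=
    le_inf (pCoreOf_le N₁) ((pCoreOf_le_pCoreOf_of_normal hN₁H hHN₁).trans hDT)
  have hnorm : H ≤ Subgroup.normalizer ((N₁ ⊓ T₁ : Subgroup G) : Set G) := by
    rw [← hRT]
    apply sup_le
    · apply Subgroup.le_normalizer_iff_commutator_le_left.mpr
      exact ((Subgroup.commutator_mono inf_le_left hRV).trans hc2).trans hD₁T
    · exact inf_le_normalizer_inf (hT₁H.trans hHN₁) Subgroup.le_normalizer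
  have hle : N₁ ⊓ T₁ ≤ pCoreOf p H :=
    le_pCoreOf (inf_le_left.trans hN₁H) hnorm (hT₁p.to_le inf_le_right)
  exact (le_inf hB₀N hB₀T).trans hle

theorem le_normalizer_sup {K A B : Subgroup G} [Finite G]
    (hA : K ≤ Subgroup.normalizer (A : Set G))
    (hB : K ≤ Subgroup.normalizer (B : Set G)) :
    K ≤ Subgroup.normalizer ((A ⊔ B : Subgroup G) : Set G) := by
  intro k hk
  apply mem_normalizer_of_map_conj_le
  rw [Subgroup.map_sup, map_conj_eq_of_mem_normalizer (hA hk),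
    map_conj_eq_of_mem_normalizer (hB hk)]

/-- S2854 in ambient form. -/
theorem frakH_large_facts [Finite G] [Fact p.Prime] (S : Sylow p G) {Q : Subgroup G}
    (hQp : IsPGroup p ↥Q) (hQ1 : Q ≠ ⊥) (hQS : Q ≤ (S : Subgroup G)) (hQ : IsLarge Q)
    {M : Subgroup G} (hSM : (S : Subgroup G) ≤ M) (hM : IsInFrakM p M)
    (hasym : ¬ IsSymmetricIn (largestPReducedOf p M)) {H : Subgroup G}
    (hH : IsInFrakH p M H) (g : G)
    (hHQ : H ≤ Subgroup.normalizer ((Q.map (MulAut.conj g).toMonoidHom : Subgroup G) : Set G)) :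
    Q.map (MulAut.conj g).toMonoidHom ≤ pCoreOf p (H ⊔ Q.map (MulAut.conj g).toMonoidHom) ∧
    pCoreOf p (H ⊔ Q.map (MulAut.conj g).toMonoidHom) ≤
      Subgroup.normalizer ((pCoreOf p M : Subgroup G) : Set G) ∧
    Subgroup.normalizer ((pCoreOf p M : Subgroup G) : Set G) ≤
      Subgroup.normalizer ((largestPReducedOf p M : Subgroup G) : Set G) ∧
    Subgroup.normalizer ((largestPReducedOf p M : Subgroup G) : Set G) =
      M ⊔ Subgroup.centralizer ((largestPReducedOf p M : Subgroup G) : Set G) ∧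
    (H.subgroupOf (H ⊔ Q.map (MulAut.conj g).toMonoidHom)).Normal ∧
    OpOf p H = OpOf p (H ⊔ Q.map (MulAut.conj g).toMonoidHom) ∧
    IsPIrreducible p ↥(H ⊔ Q.map (MulAut.conj g).toMonoidHom) := by
  set P := pCoreOf p M with hP
  set Y := largestPReducedOf p M with hY
  set Md := M ⊔ Subgroup.centralizer ((Y : Subgroup G) : Set G) with hMd
  set Q₁ := Q.map (MulAut.conj g).toMonoidHom with hQ₁
  set K := H ⊔ Q₁ with hK
  set D := pCoreOf p H with hD
  have hQ₁p : IsPGroup p ↥Q₁ := isPGroup_map_conj hQp g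
  have hwc := frakM_pCoreOf_weaklyClosed S hQp hQ1 hQS hQ hSM hM hasym
  have hPp : IsPGroup p ↥P := pCoreOf_isPGroup M
  have hDp : IsPGroup p ↥D := pCoreOf_isPGroup H
  have hNP := frakM_normalizer_pCoreOf_le S hQp hQ hSM hM
  have hMdY := frakM_dagger_le_normalizer hM
  have hchar := charP_of_mem_charPSubgroups hM.1
  obtain ⟨-, hAPR, -, hYP, -⟩ := largestPReducedOf_spec (p := p) M hchar
  have hYp : IsPGroup p ↥Y := hPp.to_le hYP
  have hS1 : (S : Subgroup G) ≠ ⊥ := by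
    intro hb; apply hQ1; rw [eq_bot_iff, ← hb]; exact hQS
  have hY1 : Y ≠ ⊥ := largestPReducedOf_ne_bot S hSM hchar hS1
  have hPH : P ≤ H := hH.2.1
  have hYH : Y ≤ H := hYP.trans hPH
  have hYD : ¬ Y ≤ D := hH.2.2.1
  obtain ⟨-, -, -, h4, h5, h6⟩ := frakH_facts S hQp hQ1 hQS hQ hSM hM hasym hH
  have hHK : H ≤ K := le_sup_left
  have hQ₁K : Q₁ ≤ K := le_sup_right
  have hKQ₁ : K ≤ Subgroup.normalizer (Q₁ : Set G) := sup_le hHQ Subgroup.le_normalizer
  have h_i : Q₁ ≤ pCoreOf p K := le_pCoreOf hQ₁K hKQ₁ hQ₁p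
  have hPK : P ≤ K := hPH.trans hHK
  have h_ii : pCoreOf p K ≤ Subgroup.normalizer (P : Set G) := by
    have hsup : IsPGroup p ↥(pCoreOf p K ⊔ P) :=
      IsPGroup.to_sup_of_normal_left' (pCoreOf_isPGroup K) hPp
        (hPK.trans (le_normalizer_pCoreOf K))
    have := wc_imp_normalizer hwc (pCoreOf p K ⊔ P) hsup le_sup_right
    exact (le_sup_left.trans Subgroup.le_normalizer).trans this
  have hQ₁NP : Q₁ ≤ Subgroup.normalizer (P : Set G) := h_i.trans h_ii
  have h_iii : Subgroup.normalizer (P : Set G) ≤ Subgroup.normalizer ((Y : Subgroup G) : Set G) :=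
    hNP.trans hMdY
  have h_iv : Subgroup.normalizer ((Y : Subgroup G) : Set G) = Md :=
    le_antisymm (normalizer_le_dagger S hQp hQ hSM hM hY1 hYp hAPR.1) hMdY
  -- (v)
  have hQ₁H : Q₁ ≤ Subgroup.normalizer (H : Set G) := by
    intro q hq
    apply mem_normalizer_of_map_conj_le
    conv_lhs => rw [← h6]
    unfold conjClosure
    rw [Subgroup.map_iSup]
    apply iSup_le
    rintro ⟨h, hh⟩
    rw [map_conj_map_conj]
    have hq' : h⁻¹ * q * h ∈ Q₁ := by
      have := (Subgroup.mem_normalizer_iff.mp (hHQ (H.inv_mem hh)) q).mp hq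
      simpa using this
    have e : q * h = h * (h⁻¹ * q * h) := by group
    rw [e, ← map_conj_map_conj, map_conj_eq_of_mem_normalizer (hQ₁NP hq')]
    exact (map_conj_le_conjClosure H P hh).trans (le_of_eq h6)
  have hKH : K ≤ Subgroup.normalizer (H : Set G) := sup_le Subgroup.le_normalizer hQ₁H
  have h_v : (H.subgroupOf K).Normal :=
    (Subgroup.normal_subgroupOf_iff_le_normalizer hHK).mpr hKH
  -- (vi)
  have h_vi : OpOf p H = OpOf p K := by
    apply le_antisymm (OpOf_mono hHK)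
    apply OpOf_le_of_forall
    intro x hx hc
    exact mem_OpOf_of_coprime (mem_of_coprime_of_mem_sup hQ₁p hQ₁H hx hc) hc
  refine ⟨h_i, h_ii, h_iii, h_iv, h_v, h_vi, ?_, ?_⟩
  · -- not `p`-closed
    intro hcl
    obtain ⟨T_K, hT_K⟩ := (hPp.comap_subtype : IsPGroup p ↥(P.subgroupOf K)).exists_le_sylow
    have hn : (T_K : Subgroup ↥K).Normal := hcl T_K
    set T' : Subgroup G := (T_K : Subgroup ↥K).map K.subtype with hT'
    have hKT' : K ≤ Subgroup.normalizer (T' : Set G) :=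
      le_normalizer_map_subtype_of_normal K (T_K : Subgroup ↥K)
    have hPT' : P ≤ T' := by
      intro x hx
      exact ⟨⟨x, hPK hx⟩, hT_K (Subgroup.mem_comap.mpr hx), rfl⟩
    have hT'p : IsPGroup p ↥T' := T_K.isPGroup'.map _
    have h1 : T' ⊓ H ≤ D :=
      le_pCoreOf inf_le_right (inf_le_normalizer_inf (hHK.trans hKT') Subgroup.le_normalizer)
        (hT'p.to_le inf_le_left)
    exact hYD ((le_inf (hYP.trans hPT') hYH).trans h1)
  · intro N hNn hNcl
    by_contra hRN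
    apply hNcl
    set N' : Subgroup G := N.map K.subtype with hN'
    have hN'K : N' ≤ K := Subgroup.map_subtype_le _
    have hKN' : K ≤ Subgroup.normalizer (N' : Set G) := le_normalizer_map_subtype_of_normal K N
    have hRN' : ¬ OpOf p H ≤ N' := by
      intro hle
      apply hRN
      rw [h_vi, ← pResidual_map_subtype] at hle
      exact (Subgroup.map_le_map_iff_of_injective K.subtype_injective).mp hle
    set N₁ : Subgroup G := (N' ⊔ Q₁) ⊓ H with hN₁
    have hN₁H : N₁ ≤ H := inf_le_right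
    have hHN₁ : H ≤ Subgroup.normalizer (N₁ : Set G) :=
      inf_le_normalizer_inf (le_normalizer_sup (hHK.trans hKN') hHQ) Subgroup.le_normalizer
    have hne : N₁ ⊔ P ≠ H := by
      intro heq
      apply hRN'
      have h1 : OpOf p H ≤ N₁ := by
        apply OpOf_le_of_forall
        intro x hx hc
        exact mem_of_coprime_of_mem_sup hPp (hPH.trans hHN₁) (by rw [heq]; exact hx) hc
      apply OpOf_le_of_forall
      intro x hx hc
      have hx1 : x ∈ N' ⊔ Q₁ := (h1.trans inf_le_left) (mem_OpOf_of_coprime hx hc)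
      exact mem_of_coprime_of_mem_sup hQ₁p (hQ₁K.trans hKN') hx1 hc
    have hC := fun (B₀ : Subgroup G) (hB₀ : IsPGroup p ↥B₀) (hB₀N : B₀ ≤ N₁) =>
      frakH_pgroup_le_pCoreOf S hQp hQ1 hQS hQ hSM hM hasym hH hN₁H hHN₁ hne hB₀ hB₀N
    have hKD : K ≤ Subgroup.normalizer (D : Set G) :=
      hKH.trans (normalizer_le_normalizer_pCoreOf H)
    set E : Subgroup G := Q₁ ⊔ D with hE
    have hEp : IsPGroup p ↥E := IsPGroup.to_sup_of_normal_right' hQ₁p hDp (hQ₁K.trans hKD)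
    have hKE : K ≤ Subgroup.normalizer (E : Set G) := le_normalizer_sup hKQ₁ hKD
    have hEK : E ≤ K := sup_le hQ₁K ((pCoreOf_le H).trans hHK)
    obtain ⟨T_N, -⟩ := (IsPGroup.of_bot : IsPGroup p ↥(⊥ : Subgroup ↥N)).exists_le_sylow
    set T' : Subgroup G := ((T_N : Subgroup ↥N).map N.subtype).map K.subtype with hT'
    have hT'p : IsPGroup p ↥T' := (T_N.isPGroup'.map _).map _
    have hT'N : T' ≤ N' := Subgroup.map_mono (Subgroup.map_subtype_le _)
    have hT'E : T' ≤ E := by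
      intro x hx
      have hB : IsPGroup p ↥(T' ⊔ E) :=
        IsPGroup.to_sup_of_normal_right' hT'p hEp ((hT'N.trans hN'K).trans hKE)
      obtain ⟨h, hh, q, hq, rfl⟩ := Cfsg.Agent.Lib.Helper8.mem_sup_of_le_normalizer
        (X := H) (Y := Q₁) hQ₁H (hN'K (hT'N hx))
      have hhB : h ∈ T' ⊔ E := by
        have e : h = h * q * q⁻¹ := by group
        rw [e]
        exact Subgroup.mul_mem _ (Subgroup.mem_sup_left hx)
          (Subgroup.inv_mem _ (Subgroup.mem_sup_right (Subgroup.mem_sup_left hq)))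
      have hhN₁ : h ∈ N₁ := by
        refine ⟨?_, hh⟩
        have e : h = h * q * q⁻¹ := by group
        rw [e]
        exact Subgroup.mul_mem _ (Subgroup.mem_sup_left (hT'N hx))
          (Subgroup.inv_mem _ (Subgroup.mem_sup_right hq))
      have hhD : h ∈ D := hC ((T' ⊔ E) ⊓ N₁) (hB.to_le inf_le_left) inf_le_right ⟨hhB, hhN₁⟩
      exact Subgroup.mul_mem _ (Subgroup.mem_sup_right hhD) (Subgroup.mem_sup_left hq)
    -- the normal `p`-subgroup `O` of `↥N`
    have hEn : (E.subgroupOf K).Normal :=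
      (Subgroup.normal_subgroupOf_iff_le_normalizer hEK).mpr hKE
    set O : Subgroup ↥N := (E.subgroupOf K).comap N.subtype with hO
    have hOn : O.Normal := hEn.comap _
    have hOp : IsPGroup p ↥O := by
      have h1 : IsPGroup p ↥(E.subgroupOf K) := hEp.comap_subtype
      exact h1.comap_of_injective N.subtype N.subtype_injective
    have hTO : (T_N : Subgroup ↥N) ≤ O := by
      intro x hx
      rw [hO, Subgroup.mem_comap, Subgroup.mem_subgroupOf]
      exact hT'E ⟨(x : ↥K), ⟨x, hx, rfl⟩, rfl⟩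
    have hOT : O = (T_N : Subgroup ↥N) := T_N.is_maximal' hOp hTO
    exact isPClosed_of_normal_sylow T_N (hOT ▸ hOn)

end FrakH3

end Cfsg.Agent.Lib.Helper16
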