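import Mathlib
import Cfsg.Prelude.Def_LocalStructure
import Cfsg.Prelude.Def_Amalgam
import Cfsg.Prelude.Def_Solvable
import Cfsg.Prelude.Def_Transfer
import Cfsg.Agent.Lib.Helper16.WeaklyClosed4
import Cfsg.Agent.Lib.Helper16.WCCharP
import Cfsg.Agent.Lib.Helper16.FrakH2
import Cfsg.Agent.Lib.Helper16.FrakH3
import Cfsg.Agent.Lib.Helper16.Large2

set_option autoImplicit false
open Cfsg
open scoped Pointwise commutatorElement

namespace Cfsg.Agent.Lib.Helper16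

variable {G : Type*} [Group G] {p : ℕ}

/-- `N(X) ≤ N(O^p(X))`. -/
theorem normalizer_le_normalizer_OpOf [Finite G] (X : Subgroup G) :
    Subgroup.normalizer (X : Set G) ≤ Subgroup.normalizer ((OpOf p X : Subgroup G) : Set G) := by
  intro x hx
  apply mem_normalizer_of_map_conj_le
  unfold OpOf
  rw [MonoidHom.map_closure, Subgroup.closure_le]
  rintro _ ⟨g, hg, rfl⟩
  apply Subgroup.subset_closure
  simp only [MulEquiv.coe_toMonoidHom, MulAut.conj_apply]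
  refine ⟨(Subgroup.mem_normalizer_iff.mp hx g).mp hg.1, ?_⟩
  have : orderOf (x * g * x⁻¹) = orderOf g := (MulAut.conj x).orderOf_eq g
  rw [this]; exact hg.2

theorem OpOf_idem (X : Subgroup G) : OpOf p (OpOf p X) = OpOf p X :=
  le_antisymm (OpOf_le _) (OpOf_le_OpOf_of_le le_rfl)

/-- `O^p(K R) ≤ K` for a `p`-group `R` normalizing `K`. -/
theorem OpOf_sup_le [Fact p.Prime] {K R : Subgroup G} (hR : IsPGroup p R)
    (hRK : R ≤ Subgroup.normalizer (K : Set G)) : OpOf p (K ⊔ R) ≤ K := by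
  unfold OpOf
  rw [Subgroup.closure_le]
  rintro g ⟨hg, hc⟩
  exact mem_of_coprime_of_mem_sup hR hRK hg hc

theorem weakClosure_le (Q X : Subgroup G) : weakClosure Q X ≤ X :=
  iSup_le (fun g => g.2)

theorem map_conj_le_weakClosure {Q X : Subgroup G} {g : G}
    (hg : Q.map (MulAut.conj g).toMonoidHom ≤ X) :
    Q.map (MulAut.conj g).toMonoidHom ≤ weakClosure Q X :=
  le_iSup (fun g : {g : G // Q.map (MulAut.conj g).toMonoidHom ≤ X} =>
    Q.map (MulAut.conj (g : G)).toMonoidHom) ⟨g, hg⟩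

theorem le_weakClosure {Q X : Subgroup G} (hQX : Q ≤ X) : Q ≤ weakClosure Q X := by
  have h : Q.map (MulAut.conj (1 : G)).toMonoidHom ≤ X := by rw [map_conj_one]; exact hQX
  have h2 := map_conj_le_weakClosure h
  rwa [map_conj_one] at h2

theorem weakClosure_idem (Q X : Subgroup G) :
    weakClosure Q (weakClosure Q X) = weakClosure Q X := by
  apply le_antisymm (weakClosure_le _ _)
  conv_lhs => unfold weakClosure
  apply iSup_le
  rintro ⟨g, hg⟩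
  exact map_conj_le_weakClosure (map_conj_le_weakClosure hg)

theorem normalizer_le_normalizer_weakClosure [Finite G] (Q X : Subgroup G) :
    Subgroup.normalizer (X : Set G) ≤
      Subgroup.normalizer ((weakClosure Q X : Subgroup G) : Set G) := by
  intro n hn
  apply mem_normalizer_of_map_conj_le
  conv_lhs => unfold weakClosure
  rw [Subgroup.map_iSup]
  apply iSup_le
  rintro ⟨g, hg⟩
  rw [map_conj_map_conj]
  apply map_conj_le_weakClosure
  rw [← map_conj_map_conj]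
  calc (Q.map (MulAut.conj g).toMonoidHom).map (MulAut.conj n).toMonoidHom
      ≤ X.map (MulAut.conj n).toMonoidHom := Subgroup.map_mono hg
    _ = X := Subgroup.mem_normalizer_iff_map_conj_eq.mp hn


/-- For `Q ≤ R` with `R = weakClosure Q R`, `R` is generated by its own conjugates of `Q`. -/
theorem weakClosure_eq_iSup_self [Finite G] [Fact p.Prime] {Q : Subgroup G} (hQp : IsPGroup p Q)
    (hwc : IsWeaklyClosedSubgroup p Q) {X : Subgroup G} (hQX : Q ≤ X) :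
    weakClosure Q X = ⨆ r : ↥(weakClosure Q X), Q.map (MulAut.conj (r : G)).toMonoidHom := by
  have h := weakClosure_eq_iSup hQp hwc (le_weakClosure hQX)
  rw [weakClosure_idem] at h
  exact h

/-- `R = O^p(R) Q` for `R` the weak closure of `Q` in `X ≥ Q`. -/
theorem wc_residual_sup [Finite G] [Fact p.Prime] {Q : Subgroup G} (hQp : IsPGroup p Q)
    (hwc : IsWeaklyClosedSubgroup p Q) {X : Subgroup G} (hQX : Q ≤ X) :
    OpOf p (weakClosure Q X) ⊔ Q = weakClosure Q X := by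
  have hRi := weakClosure_eq_iSup_self hQp hwc hQX
  set R := weakClosure Q X with hR
  have hQR : Q ≤ R := le_weakClosure hQX
  have hKn : R ≤ Subgroup.normalizer ((OpOf p R : Subgroup G) : Set G) := le_normalizer_OpOf R
  apply le_antisymm (sup_le (OpOf_le R) hQR)
  obtain ⟨T, hT⟩ := (hQp.comap_subtype : IsPGroup p (Q.subgroupOf R)).exists_le_sylow
  have hPp : IsPGroup p ((T : Subgroup ↥R).map R.subtype) := T.isPGroup'.map _
  have hPR : (T : Subgroup ↥R).map R.subtype ≤ R := Subgroup.map_subtype_le _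
  have hQP : Q ≤ (T : Subgroup ↥R).map R.subtype := by
    intro x hx
    exact ⟨⟨x, hQR hx⟩, hT (by rw [Subgroup.mem_comap]; exact hx), rfl⟩
  have hPNQ : (T : Subgroup ↥R).map R.subtype ≤ Subgroup.normalizer (Q : Set G) :=
    Subgroup.le_normalizer.trans (wc_imp_normalizer hwc _ hPp hQP)
  have hsup : OpOf p R ⊔ (T : Subgroup ↥R).map R.subtype = R := OpOf_sup_sylow R T
  calc R = ⨆ r : ↥R, Q.map (MulAut.conj (r : G)).toMonoidHom := hRi
    _ ≤ OpOf p R ⊔ Q := by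
      apply iSup_le
      intro r
      have hr : (r : G) ∈ OpOf p R ⊔ (T : Subgroup ↥R).map R.subtype := by
        rw [hsup]; exact r.2
      obtain ⟨k, hk, x, hx, e⟩ :=
        Cfsg.Agent.Lib.Helper8.mem_sup_of_le_normalizer (hPR.trans hKn) hr
      have hxQ : Q.map (MulAut.conj x).toMonoidHom = Q :=
        Subgroup.mem_normalizer_iff_map_conj_eq.mp (hPNQ hx)
      rw [e, ← map_conj_map_conj, hxQ]
      exact map_conj_le_of_mem (le_sup_right : Q ≤ OpOf p R ⊔ Q) (Subgroup.mem_sup_left hk)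

/-- `O^p(R) = [O^p(R), Q]` for `R` the weak closure of `Q` in `X ≥ Q`. -/
theorem wc_residual_comm [Finite G] [Fact p.Prime] {Q : Subgroup G} (hQp : IsPGroup p Q)
    (hwc : IsWeaklyClosedSubgroup p Q) {X : Subgroup G} (hQX : Q ≤ X) :
    ⁅OpOf p (weakClosure Q X), Q⁆ = OpOf p (weakClosure Q X) := by
  have hRi := weakClosure_eq_iSup_self hQp hwc hQX
  have hsup := wc_residual_sup hQp hwc hQX
  set R := weakClosure Q X with hR
  have hQR : Q ≤ R := le_weakClosure hQX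
  have hQK : Q ≤ Subgroup.normalizer ((OpOf p R : Subgroup G) : Set G) :=
    hQR.trans (le_normalizer_OpOf R)
  apply le_antisymm (Subgroup.le_normalizer_iff_commutator_le_left.mp hQK)
  have hQC : Q ≤ Subgroup.normalizer ((⁅OpOf p R, Q⁆ : Subgroup G) : Set G) :=
    Subgroup.normalizer_commutator_ge_right _ _
  have hRle : R ≤ ⁅OpOf p R, Q⁆ ⊔ Q := by
    calc R = ⨆ r : ↥R, Q.map (MulAut.conj (r : G)).toMonoidHom := hRi
      _ ≤ ⁅OpOf p R, Q⁆ ⊔ Q := by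
        apply iSup_le
        intro r
        have hr : (r : G) ∈ OpOf p R ⊔ Q := by rw [hsup]; exact r.2
        obtain ⟨k, hk, x, hx, e⟩ := Cfsg.Agent.Lib.Helper8.mem_sup_of_le_normalizer hQK hr
        rw [e, ← map_conj_map_conj, map_conj_eq_self_of_mem hx]
        rintro _ ⟨q, hq, rfl⟩
        simp only [MulEquiv.coe_toMonoidHom, MulAut.conj_apply]
        have e2 : k * q * k⁻¹ = ⁅k, q⁆ * q := by rw [commutatorElement_def]; group
        rw [e2]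
        exact Subgroup.mul_mem _
          (Subgroup.mem_sup_left (Subgroup.commutator_mem_commutator hk hq))
          (Subgroup.mem_sup_right hq)
  calc OpOf p R ≤ OpOf p (⁅OpOf p R, Q⁆ ⊔ Q) := OpOf_mono hRle
    _ ≤ ⁅OpOf p R, Q⁆ := OpOf_sup_le hQp hQC


theorem commutator_closure_le {V N : Subgroup G} {S : Set G}
    (hSN : ∀ s ∈ S, s ∈ Subgroup.normalizer (N : Set G))
    (hS : ∀ v ∈ V, ∀ s ∈ S, ⁅v, s⁆ ∈ N) : ⁅V, Subgroup.closure S⁆ ≤ N := by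
  rw [Subgroup.commutator_le]
  intro v hv l hl
  have key : l ∈ Subgroup.normalizer (N : Set G) ∧ ∀ v ∈ V, ⁅v, l⁆ ∈ N := by
    induction hl using Subgroup.closure_induction with
    | mem x hx => exact ⟨hSN x hx, fun v hv => hS v hv x hx⟩
    | one => exact ⟨Subgroup.one_mem _, fun v _ => by rw [commutatorElement_one_right]; exact N.one_mem⟩
    | mul x y _ _ hx hy =>
      refine ⟨Subgroup.mul_mem _ hx.1 hy.1, fun v hv => ?_⟩
      rw [commutatorElement_mul_right_eq_mul_conj]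
      have h1 := hx.2 v hv
      have h2 := hy.2 v hv
      have h3 : x * ⁅v, y⁆ * x⁻¹ ∈ N := (Subgroup.mem_normalizer_iff.mp hx.1 _).mp h2
      have e : ⁅v, x⁆ * x * ⁅v, y⁆ * x⁻¹ = ⁅v, x⁆ * (x * ⁅v, y⁆ * x⁻¹) := by group
      rw [e]; exact N.mul_mem h1 h3
    | inv x _ hx =>
      refine ⟨Subgroup.inv_mem _ hx.1, fun v hv => ?_⟩
      rw [commutatorElement_inv_right]
      have h1 : ⁅x, v⁆ ∈ N := by rw [← commutatorElement_inv]; exact N.inv_mem (hx.2 v hv)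
      have h2 := (Subgroup.mem_normalizer_iff.mp (Subgroup.inv_mem _ hx.1) _).mp h1
      simpa using h2
  exact key.2 v hv

/-- Three subgroups lemma modulo a subgroup `N` normalized by all three subgroups. -/
theorem three_subgroups_rel {H₁ H₂ H₃ N : Subgroup G}
    (hn₁ : H₁ ≤ Subgroup.normalizer (N : Set G)) (hn₂ : H₂ ≤ Subgroup.normalizer (N : Set G))
    (hn₃ : H₃ ≤ Subgroup.normalizer (N : Set G))
    (h1 : ⁅⁅H₂, H₃⁆, H₁⁆ ≤ N) (h2 : ⁅⁅H₃, H₁⁆, H₂⁆ ≤ N) : ⁅⁅H₁, H₂⁆, H₃⁆ ≤ N := by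
  rw [Subgroup.commutator_comm, Subgroup.commutator_def H₁ H₂]
  apply commutator_closure_le
  · rintro _ ⟨x, hx, y, hy, rfl⟩
    exact Subgroup.mul_mem _ (Subgroup.mul_mem _ (Subgroup.mul_mem _ (hn₁ hx) (hn₂ hy))
      (Subgroup.inv_mem _ (hn₁ hx))) (Subgroup.inv_mem _ (hn₂ hy))
  · rintro z hz _ ⟨x, hx, y, hy, rfl⟩
    have ha : ⁅y, ⁅z⁻¹, x⁻¹⁆⁆ ∈ N := by
      have : ⁅⁅z⁻¹, x⁻¹⁆, y⁆ ∈ N :=
        h2 (Subgroup.commutator_mem_commutator
          (Subgroup.commutator_mem_commutator (H₃.inv_mem hz) (H₁.inv_mem hx)) hy)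
      rw [← commutatorElement_inv]; exact N.inv_mem this
    have hb : ⁅x⁻¹, ⁅y⁻¹, z⁆⁆ ∈ N := by
      have : ⁅⁅y⁻¹, z⁆, x⁻¹⁆ ∈ N :=
        h1 (Subgroup.commutator_mem_commutator
          (Subgroup.commutator_mem_commutator (H₂.inv_mem hy) hz) (H₁.inv_mem hx))
      rw [← commutatorElement_inv]; exact N.inv_mem this
    have e : ⁅z, ⁅x, y⁆⁆ =
        (x * z) * ⁅y, ⁅z⁻¹, x⁻¹⁆⁆⁻¹ * (x * z)⁻¹ * ((x * y) * ⁅x⁻¹, ⁅y⁻¹, z⁆⁆⁻¹ * (x * y)⁻¹) := by
      simp only [commutatorElement_def]; group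
    rw [e]
    apply N.mul_mem
    · exact (Subgroup.mem_normalizer_iff.mp (Subgroup.mul_mem _ (hn₁ hx) (hn₃ hz)) _).mp
        (N.inv_mem ha)
    · exact (Subgroup.mem_normalizer_iff.mp (Subgroup.mul_mem _ (hn₁ hx) (hn₂ hy)) _).mp
        (N.inv_mem hb)


/-- A normal subgroup `D` of `H° = ⟨Q^G⟩` normalizing the weakly closed `Q` is central in `H°`
modulo `O_p(D)`. -/
theorem wc_commutator_le_pCoreOf [Finite G] [Fact p.Prime] {Q : Subgroup G} (hQp : IsPGroup p Q)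
    (hwc : IsWeaklyClosedSubgroup p Q) {Hc D : Subgroup G} (hHc : Hc = weakClosure Q ⊤)
    (hHD : Hc ≤ Subgroup.normalizer (D : Set G)) (hDQ : D ≤ Subgroup.normalizer (Q : Set G)) :
    ⁅D, Hc⁆ ≤ pCoreOf p D := by
  have hQHc : Q ≤ Hc := by rw [hHc]; exact le_weakClosure le_top
  have hHci : Hc = ⨆ h : ↥Hc, Q.map (MulAut.conj (h : G)).toMonoidHom := by
    have := weakClosure_eq_iSup_self hQp hwc (le_top : Q ≤ ⊤)
    rw [← hHc] at this
    exact this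
  have hHO : Hc ≤ Subgroup.normalizer ((pCoreOf p D : Subgroup G) : Set G) :=
    hHD.trans (normalizer_le_normalizer_pCoreOf D)
  have key : ⁅D, ⨆ h : ↥Hc, Q.map (MulAut.conj (h : G)).toMonoidHom⁆ ≤ pCoreOf p D := by
    apply commutator_iSup_le
    · intro h
      exact (map_conj_le_of_mem hQHc h.2).trans hHO
    · intro h
      have hQh : Q.map (MulAut.conj (h : G)).toMonoidHom ≤ Hc := map_conj_le_of_mem hQHc h.2
      have hDh : D ≤ Subgroup.normalizer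
          ((Q.map (MulAut.conj (h : G)).toMonoidHom : Subgroup G) : Set G) := by
        rw [normalizer_map_conj]
        have hD : D.map (MulAut.conj (h : G)).toMonoidHom = D :=
          Subgroup.mem_normalizer_iff_map_conj_eq.mp (hHD h.2)
        calc D = D.map (MulAut.conj (h : G)).toMonoidHom := hD.symm
          _ ≤ _ := Subgroup.map_mono hDQ
      have h1 : ⁅D, Q.map (MulAut.conj (h : G)).toMonoidHom⁆ ≤
          Q.map (MulAut.conj (h : G)).toMonoidHom :=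
        Subgroup.le_normalizer_iff_commutator_le_right.mp hDh
      have h2 : ⁅D, Q.map (MulAut.conj (h : G)).toMonoidHom⁆ ≤ D :=
        Subgroup.le_normalizer_iff_commutator_le_left.mp (hQh.trans hHD)
      exact le_pCoreOf h2 (Subgroup.normalizer_commutator_ge_left _ _)
        ((isPGroup_map_conj hQp (h : G)).to_le h1)
  rwa [← hHci] at key


theorem le_normalizer_commutator {K A B : Subgroup G} [Finite G]
    (hA : K ≤ Subgroup.normalizer (A : Set G))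
    (hB : K ≤ Subgroup.normalizer (B : Set G)) :
    K ≤ Subgroup.normalizer ((⁅A, B⁆ : Subgroup G) : Set G) := by
  intro k hk
  apply mem_normalizer_of_map_conj_le
  rw [Subgroup.map_commutator, map_conj_eq_of_mem_normalizer (hA hk),
    map_conj_eq_of_mem_normalizer (hB hk)]

theorem commutator_sup_le' {V N A B : Subgroup G}
    (hA : A ≤ Subgroup.normalizer (N : Set G)) (hB : B ≤ Subgroup.normalizer (N : Set G))
    (h1 : ⁅V, A⁆ ≤ N) (h2 : ⁅V, B⁆ ≤ N) : ⁅V, A ⊔ B⁆ ≤ N := by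
  have : ⁅V, ⨆ b : Bool, cond b A B⁆ ≤ N := by
    apply commutator_iSup_le
    · intro i; cases i
      · exact hB
      · exact hA
    · intro i; cases i
      · exact h2
      · exact h1
  rwa [← sup_eq_iSup] at this


/-- Basic facts on `K = O^p((HQ)°)` for `H ⊴ H°`. -/
theorem wc_K_basic [Finite G] [Fact p.Prime] {Q : Subgroup G} (hQp : IsPGroup p Q)
    {Hc H : Subgroup G} (hQHc : Q ≤ Hc) (hH : H ≤ Hc ∧ Hc ≤ Subgroup.normalizer (H : Set G)) :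
    H ⊔ Q ≤ Hc ∧
    OpOf p (weakClosure Q (H ⊔ Q)) ≤ H ∧
    H ⊔ Q ≤ Subgroup.normalizer ((OpOf p (weakClosure Q (H ⊔ Q)) : Subgroup G) : Set G) ∧
    Subgroup.normalizer ((H ⊔ Q : Subgroup G) : Set G) ≤
      Subgroup.normalizer ((OpOf p (weakClosure Q (H ⊔ Q)) : Subgroup G) : Set G) := by
  have h4 : Subgroup.normalizer ((H ⊔ Q : Subgroup G) : Set G) ≤
      Subgroup.normalizer ((OpOf p (weakClosure Q (H ⊔ Q)) : Subgroup G) : Set G) :=
    (normalizer_le_normalizer_weakClosure Q (H ⊔ Q)).trans (normalizer_le_normalizer_OpOf _)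
  refine ⟨sup_le hH.1 hQHc, ?_, Subgroup.le_normalizer.trans h4, h4⟩
  calc OpOf p (weakClosure Q (H ⊔ Q)) ≤ OpOf p (H ⊔ Q) := OpOf_mono (weakClosure_le _ _)
    _ ≤ H := OpOf_sup_le hQp (hQHc.trans hH.2)

/-- `[K₁, K₂] ≤ O_p([H₁, H₂])`. -/
theorem wc_pair_commutator [Finite G] [Fact p.Prime] {Q : Subgroup G} (hQp : IsPGroup p Q)
    (hwc : IsWeaklyClosedSubgroup p Q) {Hc H₁ H₂ : Subgroup G} (hHc : Hc = weakClosure Q ⊤)
    (hn₁ : H₁ ≤ Hc ∧ Hc ≤ Subgroup.normalizer (H₁ : Set G))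
    (hn₂ : H₂ ≤ Hc ∧ Hc ≤ Subgroup.normalizer (H₂ : Set G))
    (hprod : H₁ ⊔ H₂ = Hc)
    (hcomm : ⁅H₁, H₂⁆ ≤ Subgroup.normalizer (Q : Set G)) :
    ⁅OpOf p (weakClosure Q (H₁ ⊔ Q)), OpOf p (weakClosure Q (H₂ ⊔ Q))⁆ ≤ pCoreOf p ⁅H₁, H₂⁆ := by
  have hQHc : Q ≤ Hc := by rw [hHc]; exact le_weakClosure le_top
  obtain ⟨hX₁, hK₁H, hX₁K, -⟩ := wc_K_basic hQp hQHc hn₁
  obtain ⟨hX₂, hK₂H, hX₂K, -⟩ := wc_K_basic hQp hQHc hn₂
  have hKQ₁ := wc_residual_comm hQp hwc (le_sup_right : Q ≤ H₁ ⊔ Q)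
  set K₁ := OpOf p (weakClosure Q (H₁ ⊔ Q)) with hK₁
  set K₂ := OpOf p (weakClosure Q (H₂ ⊔ Q)) with hK₂
  set D := ⁅H₁, H₂⁆ with hD
  have hHD : Hc ≤ Subgroup.normalizer (D : Set G) := le_normalizer_commutator hn₁.2 hn₂.2
  have hcent : ⁅D, Hc⁆ ≤ pCoreOf p D := wc_commutator_le_pCoreOf hQp hwc hHc hHD hcomm
  have hHO : Hc ≤ Subgroup.normalizer ((pCoreOf p D : Subgroup G) : Set G) :=
    hHD.trans (normalizer_le_normalizer_pCoreOf D)
  have hK₁Hc : K₁ ≤ Hc := hK₁H.trans hn₁.1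
  have hK₂Hc : K₂ ≤ Hc := hK₂H.trans hn₂.1
  have hDH₁ : D ≤ H₁ := Subgroup.le_normalizer_iff_commutator_le_left.mp (hn₂.1.trans hn₁.2)
  have hDHc : D ≤ Hc := hDH₁.trans hn₁.1
  have hK₁K₂D : ⁅K₁, K₂⁆ ≤ D := Subgroup.commutator_mono hK₁H hK₂H
  -- three subgroups
  have h3 : ⁅⁅K₁, H₁⁆, K₂⁆ ≤ pCoreOf p D := by
    apply three_subgroups_rel (hK₁Hc.trans hHO) (hn₁.1.trans hHO) (hK₂Hc.trans hHO)
    · calc ⁅⁅H₁, K₂⁆, K₁⁆ ≤ ⁅D, Hc⁆ :=
          Subgroup.commutator_mono (Subgroup.commutator_mono le_rfl hK₂H) hK₁Hc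
        _ ≤ _ := hcent
    · calc ⁅⁅K₂, K₁⁆, H₁⁆ ≤ ⁅D, Hc⁆ := by
            apply Subgroup.commutator_mono _ hn₁.1
            rw [Subgroup.commutator_comm]; exact hK₁K₂D
        _ ≤ _ := hcent
  have hKH₁ : ⁅K₁, H₁⁆ ≤ H₁ :=
    Subgroup.le_normalizer_iff_commutator_le_right.mp (hK₁Hc.trans hn₁.2)
  -- N := ⁅K₁, H₁⁆ ⊔ D is normalized by H₁ and H₂ and contains K₁
  have hN₁ : H₁ ≤ Subgroup.normalizer ((⁅K₁, H₁⁆ ⊔ D : Subgroup G) : Set G) :=
    le_normalizer_sup (Subgroup.normalizer_commutator_ge_right _ _) (hn₁.1.trans hHD)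
  have hN₂ : H₂ ≤ Subgroup.normalizer ((⁅K₁, H₁⁆ ⊔ D : Subgroup G) : Set G) := by
    rw [Subgroup.le_normalizer_iff_commutator_le_right]
    apply commutator_sup_le' (le_sup_left.trans Subgroup.le_normalizer)
      (le_sup_right.trans Subgroup.le_normalizer)
    · calc ⁅H₂, ⁅K₁, H₁⁆⁆ ≤ ⁅H₂, H₁⁆ := Subgroup.commutator_mono le_rfl hKH₁
        _ = D := Subgroup.commutator_comm _ _
        _ ≤ _ := le_sup_right
    · exact (Subgroup.le_normalizer_iff_commutator_le_right.mp (hn₂.1.trans hHD)).trans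
        le_sup_right
  have hK₁N : K₁ ≤ ⁅K₁, H₁⁆ ⊔ D := by
    calc K₁ = ⁅K₁, Q⁆ := hKQ₁.symm
      _ ≤ ⁅K₁, H₁ ⊔ H₂⁆ := Subgroup.commutator_mono le_rfl (by rw [hprod]; exact hQHc)
      _ ≤ ⁅K₁, H₁⁆ ⊔ D :=
        commutator_sup_le' hN₁ hN₂ le_sup_left
          ((Subgroup.commutator_mono hK₁H le_rfl).trans le_sup_right)
  calc ⁅K₁, K₂⁆ ≤ ⁅⁅K₁, H₁⁆ ⊔ D, K₂⁆ := Subgroup.commutator_mono hK₁N le_rfl
    _ = ⁅K₂, ⁅K₁, H₁⁆ ⊔ D⁆ := Subgroup.commutator_comm _ _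
    _ ≤ pCoreOf p D := by
      apply commutator_sup_le' ((hKH₁.trans hn₁.1).trans hHO) (hDHc.trans hHO)
      · rw [Subgroup.commutator_comm]; exact h3
      · rw [Subgroup.commutator_comm]
        exact (Subgroup.commutator_mono le_rfl hK₂Hc).trans hcent


/-- `K₁ ⊴ H°`. -/
theorem wc_pair_normal [Finite G] [Fact p.Prime] {Q : Subgroup G} (hQp : IsPGroup p Q)
    (hwc : IsWeaklyClosedSubgroup p Q) {Hc H₁ H₂ : Subgroup G} (hHc : Hc = weakClosure Q ⊤)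
    (hn₁ : H₁ ≤ Hc ∧ Hc ≤ Subgroup.normalizer (H₁ : Set G))
    (hn₂ : H₂ ≤ Hc ∧ Hc ≤ Subgroup.normalizer (H₂ : Set G))
    (hprod : H₁ ⊔ H₂ = Hc)
    (hcomm : ⁅H₁, H₂⁆ ≤ Subgroup.normalizer (Q : Set G)) :
    Hc ≤ Subgroup.normalizer ((OpOf p (weakClosure Q (H₁ ⊔ Q)) : Subgroup G) : Set G) := by
  have hQHc : Q ≤ Hc := by rw [hHc]; exact le_weakClosure le_top
  have hcomK := wc_pair_commutator hQp hwc hHc hn₁ hn₂ hprod hcomm
  obtain ⟨hX₁, hK₁H, hX₁K, hNX₁⟩ := wc_K_basic hQp hQHc hn₁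
  obtain ⟨hX₂, hK₂H, hX₂K, -⟩ := wc_K_basic hQp hQHc hn₂
  have hsup₂ := wc_residual_sup hQp hwc (le_sup_right : Q ≤ H₂ ⊔ Q)
  have hQR₂ : Q ≤ weakClosure Q (H₂ ⊔ Q) := le_weakClosure le_sup_right
  set K₁ := OpOf p (weakClosure Q (H₁ ⊔ Q)) with hK₁
  set K₂ := OpOf p (weakClosure Q (H₂ ⊔ Q)) with hK₂
  set D := ⁅H₁, H₂⁆ with hD
  have hHD : Hc ≤ Subgroup.normalizer (D : Set G) := le_normalizer_commutator hn₁.2 hn₂.2
  have hHO : Hc ≤ Subgroup.normalizer ((pCoreOf p D : Subgroup G) : Set G) :=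
    hHD.trans (normalizer_le_normalizer_pCoreOf D)
  have hK₂Hc : K₂ ≤ Hc := hK₂H.trans hn₂.1
  have hDH₁ : D ≤ H₁ := Subgroup.le_normalizer_iff_commutator_le_left.mp (hn₂.1.trans hn₁.2)
  have hOK₁ : pCoreOf p D ≤ Subgroup.normalizer (K₁ : Set G) :=
    (((pCoreOf_le D).trans hDH₁).trans le_sup_left).trans hX₁K
  -- O^p(K₁ O) = K₁
  have hOpE : OpOf p (K₁ ⊔ pCoreOf p D) = K₁ := by
    apply le_antisymm (OpOf_sup_le (pCoreOf_isPGroup D) hOK₁)
    calc K₁ = OpOf p K₁ := (OpOf_idem _).symm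
      _ ≤ _ := OpOf_mono le_sup_left
  have hK₂E : K₂ ≤ Subgroup.normalizer ((K₁ ⊔ pCoreOf p D : Subgroup G) : Set G) := by
    rw [Subgroup.le_normalizer_iff_commutator_le_right]
    apply commutator_sup_le' (le_sup_left.trans Subgroup.le_normalizer)
      (le_sup_right.trans Subgroup.le_normalizer)
    · rw [Subgroup.commutator_comm]; exact hcomK.trans le_sup_right
    · exact (Subgroup.le_normalizer_iff_commutator_le_right.mp (hK₂Hc.trans hHO)).trans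
        le_sup_right
  have hK₂K₁ : K₂ ≤ Subgroup.normalizer (K₁ : Set G) := by
    have := hK₂E.trans (normalizer_le_normalizer_OpOf (p := p) (K₁ ⊔ pCoreOf p D))
    rwa [hOpE] at this
  have hH₁K₁ : H₁ ≤ Subgroup.normalizer (K₁ : Set G) := le_sup_left.trans hX₁K
  have hH₂K₁ : H₂ ≤ Subgroup.normalizer (K₁ : Set G) := by
    intro h hh
    have hle : Q.map (MulAut.conj h).toMonoidHom ≤ weakClosure Q (H₂ ⊔ Q) :=
      map_conj_le_weakClosure (map_conj_le_of_mem le_sup_right (Subgroup.mem_sup_left hh))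
    obtain ⟨r, hr, hr2⟩ := wc_conj_in_subgroup hQp hwc hQR₂ h hle
    have hr' : r ∈ K₂ ⊔ Q := by rw [hsup₂]; exact hr
    obtain ⟨k, hk, x, hx, rfl⟩ :=
      Cfsg.Agent.Lib.Helper8.mem_sup_of_le_normalizer (le_sup_right.trans hX₂K) hr'
    rw [← map_conj_map_conj, map_conj_eq_self_of_mem hx] at hr2
    -- n := k⁻¹ * h normalizes Q
    have hnQ : k⁻¹ * h ∈ Subgroup.normalizer (Q : Set G) := by
      rw [Subgroup.mem_normalizer_iff_map_conj_eq]
      show Q.map (MulAut.conj (k⁻¹ * h)).toMonoidHom = Q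
      rw [← map_conj_map_conj, hr2, map_conj_map_conj, inv_mul_cancel, map_conj_one]
    have hnHc : k⁻¹ * h ∈ Hc := Hc.mul_mem (Hc.inv_mem (hK₂Hc hk)) (hn₂.1 hh)
    have hnX : k⁻¹ * h ∈ Subgroup.normalizer ((H₁ ⊔ Q : Subgroup G) : Set G) := by
      have h1 : Subgroup.zpowers (k⁻¹ * h) ≤ Subgroup.normalizer (H₁ : Set G) := by
        rw [Subgroup.zpowers_le]; exact hn₁.2 hnHc
      have h2 : Subgroup.zpowers (k⁻¹ * h) ≤ Subgroup.normalizer (Q : Set G) := by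
        rw [Subgroup.zpowers_le]; exact hnQ
      exact le_normalizer_sup h1 h2 (Subgroup.mem_zpowers _)
    have hnK : k⁻¹ * h ∈ Subgroup.normalizer (K₁ : Set G) := hNX₁ hnX
    have e : h = k * (k⁻¹ * h) := by group
    rw [e]
    exact Subgroup.mul_mem _ (hK₂K₁ hk) hnK
  rw [← hprod]
  exact sup_le hH₁K₁ hH₂K₁


/-- If `O^p(K) = K` and `X ⊴ K` has abelian quotient, every `p`-element of `K` lies in `X`. -/
theorem mem_of_pResidual_eq_top {K : Type*} [Group K] [Fact p.Prime]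
    (hK : pResidual p K = ⊤) (X : Subgroup K) [X.Normal] (hab : commutator K ≤ X)
    {x : K} {j : ℕ} (hx : x ^ (p ^ j) = 1) : x ∈ X := by
  have hcomm : ∀ a b : K ⧸ X, a * b = b * a := by
    intro a b
    obtain ⟨a, rfl⟩ := QuotientGroup.mk_surjective a
    obtain ⟨b, rfl⟩ := QuotientGroup.mk_surjective b
    rw [← QuotientGroup.mk_mul, ← QuotientGroup.mk_mul, QuotientGroup.eq]
    have : (a * b)⁻¹ * (b * a) = ⁅b⁻¹, a⁻¹⁆ := by
      rw [commutatorElement_def]; group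
    rw [this]
    exact hab (Subgroup.commutator_mem_commutator (Subgroup.mem_top _) (Subgroup.mem_top _))
  have key : ∀ y : K, ∃ m : ℕ, m.Coprime p ∧ (y : K ⧸ X) ^ m = 1 := by
    intro y
    have hy : y ∈ pResidual p K := by rw [hK]; exact Subgroup.mem_top y
    unfold pResidual at hy
    induction hy using Subgroup.closure_induction with
    | mem g hg =>
      refine ⟨orderOf g, hg, ?_⟩
      rw [← QuotientGroup.mk_pow, pow_orderOf_eq_one]; rfl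
    | one => exact ⟨1, Nat.coprime_one_left p, by simp⟩
    | mul a b _ _ ha hb =>
      obtain ⟨m, hm, hma⟩ := ha
      obtain ⟨n, hn, hnb⟩ := hb
      refine ⟨m * n, Nat.Coprime.mul_left hm hn, ?_⟩
      rw [QuotientGroup.mk_mul,
        (show Commute (a : K ⧸ X) (b : K ⧸ X) from hcomm _ _).mul_pow, pow_mul, hma, one_pow,
        mul_comm m n, pow_mul, hnb, one_pow, one_mul]
    | inv a _ ha =>
      obtain ⟨m, hm, hma⟩ := ha
      exact ⟨m, hm, by rw [QuotientGroup.mk_inv, inv_pow, hma, inv_one]⟩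
  obtain ⟨m, hm, hxm⟩ := key x
  have hxp : (x : K ⧸ X) ^ (p ^ j) = 1 := by
    rw [← QuotientGroup.mk_pow, hx]; rfl
  have hg : (x : K ⧸ X) ^ (Nat.gcd m (p ^ j)) = 1 := pow_gcd_eq_one.mpr ⟨hxm, hxp⟩
  have hcop : Nat.gcd m (p ^ j) = 1 := Nat.Coprime.pow_right j hm
  rw [hcop, pow_one] at hg
  exact (QuotientGroup.eq_one_iff x).mp hg

/-- Ambient form. -/
theorem mem_of_OpOf_eq_self [Fact p.Prime] {K X : Subgroup G} (hK : OpOf p K = K)
    (hXK : X ≤ K) (hKX : K ≤ Subgroup.normalizer (X : Set G)) (hab : ⁅K, K⁆ ≤ X)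
    {x : G} (hxK : x ∈ K) {j : ℕ} (hx : x ^ (p ^ j) = 1) : x ∈ X := by
  have h1 : pResidual p ↥K = ⊤ := by
    apply Subgroup.map_injective K.subtype_injective
    rw [pResidual_map_subtype, hK, ← MonoidHom.range_eq_map, Subgroup.range_subtype]
  have : (X.subgroupOf K).Normal := (Subgroup.normal_subgroupOf_iff_le_normalizer hXK).mpr hKX
  have h2 : commutator ↥K ≤ X.subgroupOf K := by
    unfold Subgroup.subgroupOf
    rw [← Subgroup.map_le_iff_le_comap, Subgroup.map_subtype_commutator]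
    exact hab
  have h3 : (⟨x, hxK⟩ : ↥K) ∈ X.subgroupOf K :=
    mem_of_pResidual_eq_top h1 (X.subgroupOf K) h2 (x := ⟨x, hxK⟩) (j := j)
      (by ext; simpa using hx)
  exact Subgroup.mem_subgroupOf.mp h3


/-- `K₁ = [K₁, H₁]`. -/
theorem wc_pair_comm_H [Finite G] [Fact p.Prime] {Q : Subgroup G} (hQp : IsPGroup p Q)
    (hwc : IsWeaklyClosedSubgroup p Q) {Hc H₁ H₂ : Subgroup G} (hHc : Hc = weakClosure Q ⊤)
    (hn₁ : H₁ ≤ Hc ∧ Hc ≤ Subgroup.normalizer (H₁ : Set G))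
    (hn₂ : H₂ ≤ Hc ∧ Hc ≤ Subgroup.normalizer (H₂ : Set G))
    (hprod : H₁ ⊔ H₂ = Hc)
    (hcomm : ⁅H₁, H₂⁆ ≤ Subgroup.normalizer (Q : Set G)) :
    ⁅OpOf p (weakClosure Q (H₁ ⊔ Q)), H₁⁆ = OpOf p (weakClosure Q (H₁ ⊔ Q)) := by
  have hQHc : Q ≤ Hc := by rw [hHc]; exact le_weakClosure le_top
  have hHcK := wc_pair_normal hQp hwc hHc hn₁ hn₂ hprod hcomm
  obtain ⟨hX₁, hK₁H, hX₁K, hNX₁⟩ := wc_K_basic hQp hQHc hn₁
  have hKQ₁ := wc_residual_comm hQp hwc (le_sup_right : Q ≤ H₁ ⊔ Q)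
  have hidem : OpOf p (OpOf p (weakClosure Q (H₁ ⊔ Q))) = OpOf p (weakClosure Q (H₁ ⊔ Q)) :=
    OpOf_idem _
  set K₁ := OpOf p (weakClosure Q (H₁ ⊔ Q)) with hK₁
  set D := ⁅H₁, H₂⁆ with hD
  have hHD : Hc ≤ Subgroup.normalizer (D : Set G) := le_normalizer_commutator hn₁.2 hn₂.2
  have hXK : ⁅K₁, H₁⁆ ≤ K₁ :=
    Subgroup.le_normalizer_iff_commutator_le_left.mp (hn₁.1.trans hHcK)
  apply le_antisymm hXK
  have hHX : Hc ≤ Subgroup.normalizer ((⁅K₁, H₁⁆ : Subgroup G) : Set G) :=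
    le_normalizer_commutator hHcK hn₁.2
  have hHY : Hc ≤ Subgroup.normalizer ((D ⊓ K₁ : Subgroup G) : Set G) :=
    inf_le_normalizer_inf hHD hHcK
  have hHXY : Hc ≤ Subgroup.normalizer ((⁅K₁, H₁⁆ ⊔ D ⊓ K₁ : Subgroup G) : Set G) :=
    le_normalizer_sup hHX hHY
  have hK₁XY : K₁ ≤ ⁅K₁, H₁⁆ ⊔ D ⊓ K₁ := by
    calc K₁ = ⁅K₁, Q⁆ := hKQ₁.symm
      _ ≤ ⁅K₁, H₁ ⊔ H₂⁆ := Subgroup.commutator_mono le_rfl (by rw [hprod]; exact hQHc)
      _ ≤ ⁅K₁, H₁⁆ ⊔ D ⊓ K₁ := by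
        apply commutator_sup_le' (hn₁.1.trans hHXY) (hn₂.1.trans hHXY) le_sup_left
        refine le_trans (le_inf (Subgroup.commutator_mono hK₁H le_rfl) ?_) le_sup_right
        exact Subgroup.le_normalizer_iff_commutator_le_left.mp (hn₂.1.trans hHcK)
  have hQK₁X : Q ⊓ K₁ ≤ ⁅K₁, H₁⁆ := by
    rintro x ⟨hxQ, hxK⟩
    obtain ⟨j, hj⟩ := exists_pow_eq_one_of_isPGroup hQp hxQ
    exact mem_of_OpOf_eq_self hidem hXK (Subgroup.normalizer_commutator_ge_left _ _)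
      (Subgroup.commutator_mono le_rfl hK₁H) hxK hj
  have hYQ : ⁅D ⊓ K₁, Q⁆ ≤ ⁅K₁, H₁⁆ := by
    refine le_trans (le_inf ?_ ?_) hQK₁X
    · exact (Subgroup.commutator_mono inf_le_left le_rfl).trans
        (Subgroup.le_normalizer_iff_commutator_le_right.mp hcomm)
    · exact (Subgroup.commutator_mono inf_le_right le_rfl).trans hKQ₁.le
  calc K₁ = ⁅K₁, Q⁆ := hKQ₁.symm
    _ ≤ ⁅⁅K₁, H₁⁆ ⊔ D ⊓ K₁, Q⁆ := Subgroup.commutator_mono hK₁XY le_rfl
    _ = ⁅Q, ⁅K₁, H₁⁆ ⊔ D ⊓ K₁⁆ := Subgroup.commutator_comm _ _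
    _ ≤ ⁅K₁, H₁⁆ := by
      apply commutator_sup_le' Subgroup.le_normalizer
        (inf_le_right.trans (Subgroup.normalizer_commutator_ge_left _ _))
      · exact Subgroup.le_normalizer_iff_commutator_le_right.mp (hQHc.trans hHX)
      · rw [Subgroup.commutator_comm]; exact hYQ

/-- `O^p(H°) = K₁ K₂`. -/
theorem wc_pair_sup [Finite G] [Fact p.Prime] {Q : Subgroup G} (hQp : IsPGroup p Q)
    (hwc : IsWeaklyClosedSubgroup p Q) {Hc H₁ H₂ : Subgroup G} (hHc : Hc = weakClosure Q ⊤)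
    (hn₁ : H₁ ≤ Hc ∧ Hc ≤ Subgroup.normalizer (H₁ : Set G))
    (hn₂ : H₂ ≤ Hc ∧ Hc ≤ Subgroup.normalizer (H₂ : Set G))
    (hprod : H₁ ⊔ H₂ = Hc)
    (hcomm : ⁅H₁, H₂⁆ ≤ Subgroup.normalizer (Q : Set G)) :
    OpOf p (weakClosure Q (H₁ ⊔ Q)) ⊔ OpOf p (weakClosure Q (H₂ ⊔ Q)) = OpOf p Hc := by
  have hQHc : Q ≤ Hc := by rw [hHc]; exact le_weakClosure le_top
  have hHcK₁ := wc_pair_normal hQp hwc hHc hn₁ hn₂ hprod hcomm
  have hcomm' : ⁅H₂, H₁⁆ ≤ Subgroup.normalizer (Q : Set G) := by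
    rw [Subgroup.commutator_comm]; exact hcomm
  have hHcK₂ := wc_pair_normal hQp hwc hHc hn₂ hn₁ (by rw [sup_comm]; exact hprod) hcomm'
  obtain ⟨hX₁, hK₁H, hX₁K, -⟩ := wc_K_basic hQp hQHc hn₁
  obtain ⟨hX₂, hK₂H, hX₂K, -⟩ := wc_K_basic hQp hQHc hn₂
  have hsup₁ := wc_residual_sup hQp hwc (le_sup_right : Q ≤ H₁ ⊔ Q)
  have hsup₂ := wc_residual_sup hQp hwc (le_sup_right : Q ≤ H₂ ⊔ Q)
  have hHci : Hc = ⨆ h : ↥Hc, Q.map (MulAut.conj (h : G)).toMonoidHom := by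
    have := weakClosure_eq_iSup_self hQp hwc (le_top : Q ≤ ⊤)
    rw [← hHc] at this
    exact this
  have hle₁ : OpOf p (weakClosure Q (H₁ ⊔ Q)) ≤ OpOf p Hc :=
    OpOf_mono ((weakClosure_le _ _).trans hX₁)
  have hle₂ : OpOf p (weakClosure Q (H₂ ⊔ Q)) ≤ OpOf p Hc :=
    OpOf_mono ((weakClosure_le _ _).trans hX₂)
  apply le_antisymm (sup_le hle₁ hle₂)
  set R₁ := weakClosure Q (H₁ ⊔ Q) with hR₁
  set R₂ := weakClosure Q (H₂ ⊔ Q) with hR₂
  set K₁ := OpOf p R₁ with hK₁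
  set K₂ := OpOf p R₂ with hK₂
  have hHN : Hc ≤ Subgroup.normalizer ((K₁ ⊔ K₂ : Subgroup G) : Set G) :=
    le_normalizer_sup hHcK₁ hHcK₂
  -- H₁ and H₂ normalize M := (K₁ ⊔ K₂) ⊔ Q
  have hH₁M : H₁ ≤ Subgroup.normalizer (((K₁ ⊔ K₂) ⊔ Q : Subgroup G) : Set G) := by
    intro h hh
    apply mem_normalizer_of_map_conj_le
    rw [Subgroup.map_sup, map_conj_eq_of_mem_normalizer (hHN (hn₁.1 hh))]
    apply sup_le le_sup_left
    calc Q.map (MulAut.conj h).toMonoidHom ≤ R₁ :=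
          map_conj_le_weakClosure (map_conj_le_of_mem le_sup_right (Subgroup.mem_sup_left hh))
      _ = K₁ ⊔ Q := hsup₁.symm
      _ ≤ _ := sup_le_sup_right le_sup_left Q
  have hH₂M : H₂ ≤ Subgroup.normalizer (((K₁ ⊔ K₂) ⊔ Q : Subgroup G) : Set G) := by
    intro h hh
    apply mem_normalizer_of_map_conj_le
    rw [Subgroup.map_sup, map_conj_eq_of_mem_normalizer (hHN (hn₂.1 hh))]
    apply sup_le le_sup_left
    calc Q.map (MulAut.conj h).toMonoidHom ≤ R₂ :=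
          map_conj_le_weakClosure (map_conj_le_of_mem le_sup_right (Subgroup.mem_sup_left hh))
      _ = K₂ ⊔ Q := hsup₂.symm
      _ ≤ _ := sup_le_sup_right le_sup_right Q
  have hHcM : Hc ≤ Subgroup.normalizer (((K₁ ⊔ K₂) ⊔ Q : Subgroup G) : Set G) := by
    rw [← hprod]; exact sup_le hH₁M hH₂M
  have hHcle : Hc ≤ (K₁ ⊔ K₂) ⊔ Q := by
    calc Hc = ⨆ h : ↥Hc, Q.map (MulAut.conj (h : G)).toMonoidHom := hHci
      _ ≤ (K₁ ⊔ K₂) ⊔ Q := by
        apply iSup_le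
        intro h
        calc Q.map (MulAut.conj (h : G)).toMonoidHom
            ≤ ((K₁ ⊔ K₂) ⊔ Q).map (MulAut.conj (h : G)).toMonoidHom :=
              Subgroup.map_mono le_sup_right
          _ = (K₁ ⊔ K₂) ⊔ Q := map_conj_eq_of_mem_normalizer (hHcM h.2)
  calc OpOf p Hc ≤ OpOf p ((K₁ ⊔ K₂) ⊔ Q) := OpOf_mono hHcle
    _ ≤ K₁ ⊔ K₂ := OpOf_sup_le hQp (hQHc.trans hHN)

end Cfsg.Agent.Lib.Helper16
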