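import Mathlib
import Cfsg.Prelude.Def_LocalStructure
import Cfsg.Prelude.Def_Amalgam
import Cfsg.Prelude.Def_Solvable
import Cfsg.Prelude.Def_Transfer
import Cfsg.Agent.Lib.Helper16.WCPair
import Cfsg.Agent.Lib.Helper16.Irreducible
import Cfsg.Agent.Lib.Helper16.Minimal
import Cfsg.Agent.Lib.Helper16.PCore

/-! Conjugacy classes of subgroups generating `O^p(H)`: `p`-minimality and `p`-irreducibility
pass from the members to `H` (helper16). -/

set_option autoImplicit false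
open Cfsg
open scoped Pointwise commutatorElement

namespace Cfsg.Agent.Lib.Helper16

variable {G : Type*} [Group G] {p : ℕ}

/-- `P` is a maximal `p`-subgroup of `K` (i.e. the image of a Sylow `p`-subgroup of `K`). -/
def MaxPIn (p : ℕ) (K P : Subgroup G) : Prop :=
  P ≤ K ∧ IsPGroup p P ∧ ∀ R'' : Subgroup G, IsPGroup p R'' → P ≤ R'' → R'' ≤ K → R'' = P

theorem maxPIn_sylow (S : Sylow p G) : MaxPIn p ⊤ (S : Subgroup G) :=
  ⟨le_top, S.isPGroup', fun R'' hR hle _ => (S.is_maximal' hR hle)⟩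

theorem maxPIn_of_sylow [Fact p.Prime] {K : Subgroup G} (T : Sylow p ↥K) :
    MaxPIn p K ((T : Subgroup ↥K).map K.subtype) :=
  ⟨Subgroup.map_subtype_le _, T.isPGroup'.map _, fun _ h1 h2 h3 => sylow_map_maximal T h1 h2 h3⟩

theorem MaxPIn.exists_sylow [Fact p.Prime] {K P : Subgroup G} (h : MaxPIn p K P) :
    ∃ T : Sylow p ↥K, (T : Subgroup ↥K).map K.subtype = P := by
  obtain ⟨hPK, hPp, hmax⟩ := h
  obtain ⟨T, hT⟩ := (hPp.comap_subtype : IsPGroup p (P.subgroupOf K)).exists_le_sylow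
  refine ⟨T, ?_⟩
  apply hmax _ (T.isPGroup'.map _) _ (Subgroup.map_subtype_le _)
  intro x hx
  exact ⟨⟨x, hPK hx⟩, hT (by rw [Subgroup.mem_comap]; exact hx), rfl⟩

/-- A maximal `p`-subgroup of `B` meets a normal subgroup `N` of `B` in a maximal `p`-subgroup
of `N`. -/
theorem MaxPIn.inf_normal [Finite G] [Fact p.Prime] {B A N : Subgroup G} (h : MaxPIn p B A)
    (hNB : N ≤ B) (hBN : B ≤ Subgroup.normalizer (N : Set G)) : MaxPIn p N (A ⊓ N) := by
  obtain ⟨hAB, hAp, hmax⟩ := h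
  refine ⟨inf_le_right, hAp.to_le inf_le_left, ?_⟩
  intro P' hP'p hle hP'N
  obtain ⟨b, hb, hconj⟩ := exists_conj_le_of_maximal (hP'N.trans hNB) hP'p hAB hAp hmax
  have hle2 : P'.map (MulAut.conj b).toMonoidHom ≤ A ⊓ N := by
    refine le_inf hconj ?_
    calc P'.map (MulAut.conj b).toMonoidHom ≤ N.map (MulAut.conj b).toMonoidHom :=
          Subgroup.map_mono hP'N
      _ = N := map_conj_eq_of_mem_normalizer (hBN hb)
  have hcard : Nat.card P' ≤ Nat.card ↥(A ⊓ N) := by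
    rw [← card_map_conj P' b]
    exact Subgroup.card_le_of_le hle2
  exact (Subgroup.eq_of_le_of_card_ge hle hcard).symm

/-- If `O ≤ A` is a normal `p`-subgroup and `A` is a maximal `p`-subgroup of `E O`, then `A ∩ E`
is a maximal `p`-subgroup of `E`. -/
theorem MaxPIn.inf_of_sup [Finite G] [Fact p.Prime] {E O A : Subgroup G}
    (h : MaxPIn p (E ⊔ O) A) (hOA : O ≤ A) (hOp : IsPGroup p O)
    (hEO : E ≤ Subgroup.normalizer (O : Set G)) : MaxPIn p E (A ⊓ E) := by
  obtain ⟨hAB, hAp, hmax⟩ := h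
  refine ⟨inf_le_right, hAp.to_le inf_le_left, ?_⟩
  intro P' hP'p hle hP'E
  have hP'O : P' ≤ Subgroup.normalizer (O : Set G) := hP'E.trans hEO
  have hPO : IsPGroup p ↥(P' ⊔ O) := IsPGroup.to_sup_of_normal_right' hP'p hOp hP'O
  obtain ⟨x, hx, hconj⟩ := exists_conj_le_of_maximal
    (sup_le (hP'E.trans le_sup_left) le_sup_right) hPO hAB hAp hmax
  -- x = o * e
  obtain ⟨o, ho, e, he, rfl⟩ := Cfsg.Agent.Lib.Helper8.mem_sup_of_le_normalizer hEO
    (show x ∈ O ⊔ E by rw [sup_comm]; exact hx)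
  have h1 : (P'.map (MulAut.conj e).toMonoidHom).map (MulAut.conj o).toMonoidHom ≤ A := by
    rw [map_conj_map_conj]
    exact (Subgroup.map_mono le_sup_left).trans hconj
  have h2 : P'.map (MulAut.conj e).toMonoidHom ≤ A := by
    have h3 := Subgroup.map_mono (f := (MulAut.conj o⁻¹).toMonoidHom) h1
    rw [map_conj_map_conj, inv_mul_cancel, map_conj_one,
      map_conj_eq_self_of_mem (A.inv_mem (hOA ho))] at h3
    exact h3
  have h4 : P'.map (MulAut.conj e).toMonoidHom ≤ A ⊓ E :=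
    le_inf h2 (map_conj_le_of_mem hP'E he)
  have hcard : Nat.card P' ≤ Nat.card ↥(A ⊓ E) := by
    rw [← card_map_conj P' e]
    exact Subgroup.card_le_of_le h4
  exact (Subgroup.eq_of_le_of_card_ge hle hcard).symm


theorem map_sSup_le_iff {G' : Type*} [Group G'] (f : G →* G') (𝒦 : Set (Subgroup G))
    (B : Subgroup G') : (sSup 𝒦).map f ≤ B ↔ ∀ E ∈ 𝒦, E.map f ≤ B := by
  rw [Subgroup.map_le_iff_le_comap, sSup_le_iff]
  constructor
  · intro h E hE; exact Subgroup.map_le_iff_le_comap.mpr (h E hE)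
  · intro h E hE; exact Subgroup.map_le_iff_le_comap.mp (h E hE)

theorem ccl_normal [Finite G] (𝒦 : Set (Subgroup G))
    (hinv : ∀ h : G, ∀ E ∈ 𝒦, E.map (MulAut.conj h).toMonoidHom ∈ 𝒦) : (sSup 𝒦).Normal := by
  rw [← Subgroup.normalizer_eq_top_iff, eq_top_iff]
  intro h _
  apply mem_normalizer_of_map_conj_le
  rw [map_sSup_le_iff]
  intro E hE
  exact le_sSup (hinv h E hE)

/-- `S ∩ E` is a maximal `p`-subgroup of `E` for `E ∈ 𝒦`. -/
theorem ccl_sylow_inf [Finite G] [Fact p.Prime] (𝒦 : Set (Subgroup G))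
    (hinv : ∀ h : G, ∀ E ∈ 𝒦, E.map (MulAut.conj h).toMonoidHom ∈ 𝒦)
    (hnorm : ∀ E ∈ 𝒦, sSup 𝒦 ⊔ Cfsg.pCore p G ≤
      Subgroup.normalizer ((E ⊔ Cfsg.pCore p G : Subgroup G) : Set G))
    (S : Sylow p G) {E : Subgroup G} (hE : E ∈ 𝒦) : MaxPIn p E ((S : Subgroup G) ⊓ E) := by
  have hRn : (sSup 𝒦).Normal := ccl_normal 𝒦 hinv
  have hOn : (pCore p G).Normal := inferInstance
  have hRO : (sSup 𝒦 ⊔ pCore p G).Normal := inferInstance
  have h1 : MaxPIn p (sSup 𝒦 ⊔ pCore p G) ((S : Subgroup G) ⊓ (sSup 𝒦 ⊔ pCore p G)) :=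
    (maxPIn_sylow S).inf_normal le_top (by rw [Subgroup.normalizer_eq_top]; )
  have hEle : E ⊔ pCore p G ≤ sSup 𝒦 ⊔ pCore p G := sup_le_sup_right (le_sSup hE) _
  have h2 := h1.inf_normal hEle (hnorm E hE)
  have hOS : pCore p G ≤ (S : Subgroup G) := pCore_le_sylow S
  have h3 := h2.inf_of_sup (le_inf (le_inf hOS le_sup_right) le_sup_right) pCore_isPGroup
    (by rw [Subgroup.normalizer_eq_top]; exact le_top)
  have e : (S : Subgroup G) ⊓ (sSup 𝒦 ⊔ pCore p G) ⊓ (E ⊔ pCore p G) ⊓ E = (S : Subgroup G) ⊓ E := by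
    apply le_antisymm
    · exact le_inf (inf_le_left.trans (inf_le_left.trans inf_le_left)) inf_le_right
    · exact le_inf (le_inf (le_inf inf_le_left (inf_le_right.trans (le_sup_left.trans hEle)))
        (inf_le_right.trans le_sup_left)) inf_le_right
  rwa [e] at h3


theorem minimalOver_ambient [Finite G] [Fact p.Prime] {E T' : Subgroup G} (hT : MaxPIn p E T')
    (hmin : ∀ T : Sylow p ↥E, IsMinimalOver (T : Subgroup ↥E)) :
    (∀ N : Subgroup G, N ≤ E → E ≤ Subgroup.normalizer (N : Set G) → T' ≤ N → N = E) ∧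
    ∃ C : Subgroup G, C ≤ E ∧ C ≠ E ∧ T' ≤ C ∧
      ∀ X : Subgroup G, T' ≤ X → X ≤ E → X ≠ E → X ≤ C := by
  obtain ⟨T, hTT'⟩ := hT.exists_sylow
  obtain ⟨hnc, M, ⟨hMco, hTM⟩, hMuniq⟩ := hmin T
  have hsub : ∀ X : Subgroup G, T' ≤ X → (T : Subgroup ↥E) ≤ X.subgroupOf E := by
    intro X hX x hx
    rw [Subgroup.mem_subgroupOf]
    apply hX
    rw [← hTT']
    exact ⟨x, hx, rfl⟩
  refine ⟨?_, M.map E.subtype, Subgroup.map_subtype_le _, ?_, ?_, ?_⟩
  · intro N hNE hEN hTN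
    have hNn : (N.subgroupOf E).Normal :=
      (Subgroup.normal_subgroupOf_iff_le_normalizer hNE).mpr hEN
    have h1 : Subgroup.normalClosure ((T : Subgroup ↥E) : Set ↥E) ≤ N.subgroupOf E :=
      Subgroup.normalClosure_le_normal (hsub N hTN)
    rw [hnc, top_le_iff, Subgroup.subgroupOf_eq_top] at h1
    exact le_antisymm hNE h1
  · intro h
    apply hMco.1
    rw [eq_top_iff]
    intro x _
    have : (x : G) ∈ M.map E.subtype := by rw [h]; exact x.2
    obtain ⟨y, hy, hyx⟩ := this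
    have : y = x := Subtype.ext hyx
    rw [← this]; exact hy
  · rw [← hTT']
    exact Subgroup.map_mono hTM
  · intro X hTX hXE hne
    have hne' : X.subgroupOf E ≠ ⊤ := by
      intro h
      rw [Subgroup.subgroupOf_eq_top] at h
      exact hne (le_antisymm hXE h)
    have h1 := minimalOver_key hMuniq (X.subgroupOf E) (hsub X hTX) hne'
    intro x hx
    exact ⟨⟨x, hXE hx⟩, h1 (by rw [Subgroup.mem_subgroupOf]; exact hx), rfl⟩


/-- the join of the proper subgroups of `E` containing `S ∩ E`. -/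
def e0Of (S E : Subgroup G) : Subgroup G :=
  sSup {X : Subgroup G | S ⊓ E ≤ X ∧ X ≤ E ∧ X ≠ E}

theorem e0Of_le (S E : Subgroup G) : e0Of S E ≤ E :=
  sSup_le (fun _ hX => hX.2.1)

theorem map_conj_ne {A B : Subgroup G} (h : A ≠ B) (g : G) :
    A.map (MulAut.conj g).toMonoidHom ≠ B.map (MulAut.conj g).toMonoidHom :=
  fun h2 => h (map_conj_injective g h2)

theorem e0Of_map_conj_le {S : Subgroup G} {s : G} (hs : s ∈ S) (E : Subgroup G) :
    (e0Of S E).map (MulAut.conj s).toMonoidHom ≤ e0Of S (E.map (MulAut.conj s).toMonoidHom) := by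
  unfold e0Of
  rw [map_sSup_le_iff]
  rintro X ⟨h1, h2, h3⟩
  apply le_sSup
  refine ⟨?_, Subgroup.map_mono h2, map_conj_ne h3 s⟩
  rintro x ⟨hxS, hxE⟩
  have hxS' : x ∈ S := hxS
  have hxE' : x ∈ E.map (MulAut.conj s).toMonoidHom := hxE
  rw [mem_map_conj_iff] at hxE' ⊢
  apply h1
  exact ⟨S.mul_mem (S.mul_mem (S.inv_mem hs) hxS') hs, hxE'⟩

theorem e0Of_map_conj {S : Subgroup G} {s : G} (hs : s ∈ S) (E : Subgroup G) :
    (e0Of S E).map (MulAut.conj s).toMonoidHom = e0Of S (E.map (MulAut.conj s).toMonoidHom) := by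
  apply le_antisymm (e0Of_map_conj_le hs E)
  have h := e0Of_map_conj_le (S.inv_mem hs) (E.map (MulAut.conj s).toMonoidHom)
  rw [map_conj_inv_map_conj] at h
  have h2 := Subgroup.map_mono (f := (MulAut.conj s).toMonoidHom) h
  rwa [map_conj_map_conj_inv] at h2


theorem ccl_minimalOver [Finite G] [Fact p.Prime] (𝒦 : Set (Subgroup G)) (hne : 𝒦.Nonempty)
    (hinv : ∀ h : G, ∀ E ∈ 𝒦, E.map (MulAut.conj h).toMonoidHom ∈ 𝒦)
    (htr : ∀ E ∈ 𝒦, ∀ K ∈ 𝒦, ∃ h : G, K = E.map (MulAut.conj h).toMonoidHom)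
    (hres : Cfsg.pResidual p G ≤ sSup 𝒦)
    (hnorm : ∀ E ∈ 𝒦, sSup 𝒦 ⊔ Cfsg.pCore p G ≤
      Subgroup.normalizer ((E ⊔ Cfsg.pCore p G : Subgroup G) : Set G))
    (hmin : ∀ E ∈ 𝒦, ∀ T : Sylow p ↥E, Cfsg.IsMinimalOver (T : Subgroup ↥E)) (S : Sylow p G) :
    Cfsg.IsMinimalOver (S : Subgroup G) := by
  have hRn : (sSup 𝒦).Normal := ccl_normal 𝒦 hinv
  have hOn : (pCore p G).Normal := inferInstance
  have hOS : pCore p G ≤ (S : Subgroup G) := pCore_le_sylow S
  -- ambient facts for each E ∈ 𝒦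
  have hamb : ∀ E ∈ 𝒦,
      (∀ N : Subgroup G, N ≤ E → E ≤ Subgroup.normalizer (N : Set G) →
        (S : Subgroup G) ⊓ E ≤ N → N = E) ∧
      e0Of (S : Subgroup G) E ≠ E ∧ (S : Subgroup G) ⊓ E ≤ e0Of (S : Subgroup G) E ∧
      ∀ X : Subgroup G, (S : Subgroup G) ⊓ E ≤ X → X ≤ E → X ≠ E →
        X ≤ e0Of (S : Subgroup G) E := by
    intro E hE
    obtain ⟨h1, C, hCE, hCne, hTC, hCmax⟩ :=
      minimalOver_ambient (ccl_sylow_inf 𝒦 hinv hnorm S hE) (hmin E hE)
    have he : e0Of (S : Subgroup G) E = C := by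
      apply le_antisymm
      · apply sSup_le
        rintro X ⟨hX1, hX2, hX3⟩
        exact hCmax X hX1 hX2 hX3
      · exact le_sSup ⟨hTC, hCE, hCne⟩
    rw [he]
    exact ⟨h1, hCne, hTC, hCmax⟩
  -- a subgroup containing S and a member of 𝒦 is everything
  have htop : ∀ A : Subgroup G, (S : Subgroup G) ≤ A → ∀ E ∈ 𝒦, E ≤ A → A = ⊤ := by
    intro A hSA E hE hEA
    apply eq_top_of_sylow_le_of_pResidual_le S hSA
    refine hres.trans (sSup_le ?_)
    intro K hK
    obtain ⟨h, rfl⟩ := htr E hE K hK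
    have hh : h ∈ (sSup 𝒦 ⊔ pCore p G) ⊔ (S : Subgroup G) := by
      have : (sSup 𝒦 ⊔ pCore p G) ⊔ (S : Subgroup G) = ⊤ :=
        eq_top_of_sylow_le_of_pResidual_le S le_sup_right (hres.trans (le_sup_left.trans le_sup_left))
      rw [this]; exact Subgroup.mem_top h
    have hRO : (sSup 𝒦 ⊔ pCore p G).Normal := inferInstance
    obtain ⟨r, hr, s, hs, rfl⟩ := Cfsg.Agent.Lib.Helper8.mem_sup_of_le_normalizer
      (X := sSup 𝒦 ⊔ pCore p G) (Y := (S : Subgroup G))
      (by rw [Subgroup.normalizer_eq_top]; exact le_top) hh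
    have hEs : E.map (MulAut.conj s).toMonoidHom ∈ 𝒦 := hinv s E hE
    have hEsA : E.map (MulAut.conj s).toMonoidHom ⊔ pCore p G ≤ A :=
      sup_le (map_conj_le_of_mem hEA (hSA hs)) (hOS.trans hSA)
    rw [← map_conj_map_conj]
    calc (E.map (MulAut.conj s).toMonoidHom).map (MulAut.conj r).toMonoidHom
        ≤ (E.map (MulAut.conj s).toMonoidHom ⊔ pCore p G).map (MulAut.conj r).toMonoidHom :=
          Subgroup.map_mono le_sup_left
      _ = E.map (MulAut.conj s).toMonoidHom ⊔ pCore p G :=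
          map_conj_eq_of_mem_normalizer (hnorm _ hEs hr)
      _ ≤ A := hEsA
  refine ⟨?_, ?_⟩
  · -- normal closure
    have hMn : (Subgroup.normalClosure ((S : Subgroup G) : Set G)).Normal :=
      Subgroup.normalClosure_normal
    apply eq_top_of_sylow_le_of_pResidual_le S Subgroup.le_normalClosure
    refine hres.trans (sSup_le ?_)
    intro E hE
    have h1 := (hamb E hE).1 (Subgroup.normalClosure ((S : Subgroup G) : Set G) ⊓ E) inf_le_right
      (inf_le_normalizer_inf (by rw [Subgroup.normalizer_eq_top]; exact le_top)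
        Subgroup.le_normalizer)
      (le_inf (inf_le_left.trans Subgroup.le_normalClosure) inf_le_right)
    rw [inf_eq_right] at h1
    exact h1
  · -- the stabilizer of the family E ↦ e0 E
    let Ms : Subgroup G :=
      { carrier := {h | ∀ E ∈ 𝒦, (e0Of (S : Subgroup G) E).map (MulAut.conj h).toMonoidHom =
          e0Of (S : Subgroup G) (E.map (MulAut.conj h).toMonoidHom)}
        one_mem' := by
          intro E _
          rw [map_conj_one, map_conj_one]
        mul_mem' := by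
          intro a b ha hb E hE
          rw [← map_conj_map_conj, hb E hE, ha _ (hinv b E hE), map_conj_map_conj]
        inv_mem' := by
          intro a ha E hE
          have h1 := ha _ (hinv a⁻¹ E hE)
          rw [map_conj_map_conj_inv] at h1
          rw [← h1, map_conj_inv_map_conj] }
    have hMs_mem : ∀ h : G, h ∈ Ms ↔ ∀ E ∈ 𝒦,
        (e0Of (S : Subgroup G) E).map (MulAut.conj h).toMonoidHom =
          e0Of (S : Subgroup G) (E.map (MulAut.conj h).toMonoidHom) := fun h => Iff.rfl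
    have hSMs : (S : Subgroup G) ≤ Ms := by
      intro s hs
      rw [hMs_mem]
      intro E _
      exact e0Of_map_conj hs E
    have hMs_ne : Ms ≠ ⊤ := by
      intro htopM
      obtain ⟨E, hE⟩ := hne
      obtain ⟨h1, h2, h3, -⟩ := hamb E hE
      apply h2
      apply h1 _ (e0Of_le _ E) _ h3
      intro e he
      have hmem : e ∈ Ms := by rw [htopM]; exact Subgroup.mem_top e
      have := (hMs_mem e).mp hmem E hE
      rw [map_conj_eq_self_of_mem he] at this
      exact Subgroup.mem_normalizer_iff_map_conj_eq.mpr this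
    have hmax : ∀ A : Subgroup G, (S : Subgroup G) ≤ A → A ≠ ⊤ → A ≤ Ms := by
      intro A hSA hA a ha
      rw [hMs_mem]
      intro E hE
      have hE' : E.map (MulAut.conj a).toMonoidHom ∈ 𝒦 := hinv a E hE
      obtain ⟨-, h2, h3, h4⟩ := hamb E hE
      obtain ⟨-, h2', h3', h4'⟩ := hamb _ hE'
      -- step 1: (S ∩ E)^a ≤ e0 (E^a)
      have hne' : A ⊓ E.map (MulAut.conj a).toMonoidHom ≠ E.map (MulAut.conj a).toMonoidHom := by
        intro h
        rw [inf_eq_right] at h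
        exact hA (htop A hSA _ hE' h)
      have hX : A ⊓ E.map (MulAut.conj a).toMonoidHom ≤
          e0Of (S : Subgroup G) (E.map (MulAut.conj a).toMonoidHom) :=
        h4' _ (le_inf (inf_le_left.trans hSA) inf_le_right) inf_le_right hne'
      have hstep1 : ((S : Subgroup G) ⊓ E).map (MulAut.conj a).toMonoidHom ≤
          e0Of (S : Subgroup G) (E.map (MulAut.conj a).toMonoidHom) := by
        refine le_trans (le_inf ?_ (Subgroup.map_mono inf_le_right)) hX
        exact map_conj_le_of_mem (inf_le_left.trans hSA) ha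
      -- step 2: e0 (E^a) ≤ (e0 E)^a
      have hstep2 : e0Of (S : Subgroup G) (E.map (MulAut.conj a).toMonoidHom) ≤
          (e0Of (S : Subgroup G) E).map (MulAut.conj a).toMonoidHom := by
        have hZ : (e0Of (S : Subgroup G) (E.map (MulAut.conj a).toMonoidHom)).map
            (MulAut.conj a⁻¹).toMonoidHom ≤ e0Of (S : Subgroup G) E := by
          apply h4
          · have := Subgroup.map_mono (f := (MulAut.conj a⁻¹).toMonoidHom) hstep1
            rwa [map_conj_inv_map_conj] at this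
          · have := Subgroup.map_mono (f := (MulAut.conj a⁻¹).toMonoidHom)
              (e0Of_le (S : Subgroup G) (E.map (MulAut.conj a).toMonoidHom))
            rwa [map_conj_inv_map_conj] at this
          · intro h
            apply h2'
            have := congrArg (Subgroup.map (MulAut.conj a).toMonoidHom) h
            rwa [map_conj_map_conj_inv] at this
        have := Subgroup.map_mono (f := (MulAut.conj a).toMonoidHom) hZ
        rwa [map_conj_map_conj_inv] at this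
      apply le_antisymm _ hstep2
      apply h4' _ (h3'.trans hstep2) (Subgroup.map_mono (e0Of_le _ E)) (map_conj_ne h2 a)
    have hco : IsCoatom Ms := by
      refine ⟨hMs_ne, ?_⟩
      intro A hlt
      by_contra hA
      exact absurd (hmax A (hSMs.trans hlt.le) hA) (not_le_of_gt hlt)
    refine ⟨Ms, ⟨hco, hSMs⟩, ?_⟩
    rintro C ⟨hC, hSC⟩
    have hle := hmax C hSC hC.1
    by_contra hne'
    exact hMs_ne (hC.2 Ms (lt_of_le_of_ne hle hne'))


-- PART2 START
theorem OpOf_map_conj [Finite G] (X : Subgroup G) (g : G) :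
    (OpOf p X).map (MulAut.conj g).toMonoidHom = OpOf p (X.map (MulAut.conj g).toMonoidHom) := by
  have key : ∀ (X : Subgroup G) (g : G), (OpOf p X).map (MulAut.conj g).toMonoidHom ≤
      OpOf p (X.map (MulAut.conj g).toMonoidHom) := by
    intro X g
    conv_lhs => unfold OpOf
    rw [MonoidHom.map_closure, Subgroup.closure_le]
    rintro _ ⟨x, hx, rfl⟩
    apply Subgroup.subset_closure
    refine ⟨⟨x, hx.1, rfl⟩, ?_⟩
    simp only [MulEquiv.coe_toMonoidHom, MulAut.conj_apply]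
    have : orderOf (g * x * g⁻¹) = orderOf x := (MulAut.conj g).orderOf_eq x
    rw [this]; exact hx.2
  apply le_antisymm (key X g)
  have h := key (X.map (MulAut.conj g).toMonoidHom) g⁻¹
  rw [map_conj_inv_map_conj] at h
  have h2 := Subgroup.map_mono (f := (MulAut.conj g).toMonoidHom) h
  rwa [map_conj_map_conj_inv] at h2

/-- (GEN0) a normal subgroup containing all `O^p(E)`, `E ∈ 𝒦`, contains `O^p(G)`. -/
theorem ccl_residual_le [Finite G] [Fact p.Prime] (𝒦 : Set (Subgroup G))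
    (hres : Cfsg.pResidual p G ≤ sSup 𝒦)
    (hnorm : ∀ E ∈ 𝒦, sSup 𝒦 ≤ Subgroup.normalizer (E : Set G))
    (W : Subgroup G) [hW : W.Normal] (hLW : ∀ E ∈ 𝒦, OpOf p E ≤ W) :
    Cfsg.pResidual p G ≤ W := by
  -- R W / W is a p-group
  have hRp : IsPGroup p ((sSup 𝒦).map (QuotientGroup.mk' W)) := by
    have hle : (sSup 𝒦).map (QuotientGroup.mk' W) ≤
        pCoreOf p ((sSup 𝒦).map (QuotientGroup.mk' W)) := by
      rw [map_sSup_le_iff]
      intro E hE
      apply le_pCoreOf (Subgroup.map_mono (le_sSup hE))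
      · exact (Subgroup.map_mono (hnorm E hE)).trans (Subgroup.le_normalizer_map _)
      · rintro ⟨_, ⟨e, he, rfl⟩⟩
        obtain ⟨b, hb⟩ := exists_pow_mem_OpOf (p := p) E he
        refine ⟨b, ?_⟩
        apply Subtype.ext
        simp only [Subgroup.coe_pow, Subgroup.coe_one]
        rw [← map_pow, QuotientGroup.mk'_apply, QuotientGroup.eq_one_iff]
        exact hLW E hE hb
    exact (pCoreOf_isPGroup _).to_le hle
  unfold pResidual
  rw [Subgroup.closure_le]
  intro g hg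
  have hg' : (orderOf g).Coprime p := hg
  obtain ⟨a, ha⟩ := exists_pow_mem_OpOf (p := p) (⊤ : Subgroup G) (Subgroup.mem_top g)
  rw [← pResidual_eq_OpOf_top] at ha
  have h1 : (QuotientGroup.mk' W) (g ^ p ^ a) ∈ (sSup 𝒦).map (QuotientGroup.mk' W) :=
    Subgroup.mem_map_of_mem _ (hres ha)
  obtain ⟨b, hb⟩ := hRp ⟨_, h1⟩
  have hb' : ((QuotientGroup.mk' W) g) ^ (p ^ (a + b)) = 1 := by
    have := congrArg Subtype.val hb
    simp only [Subgroup.coe_pow, Subgroup.coe_one] at this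
    rw [pow_add, pow_mul, ← map_pow]; exact this
  have hm : ((QuotientGroup.mk' W) g) ^ (orderOf g) = 1 := by
    rw [← map_pow, pow_orderOf_eq_one, map_one]
  have hgcd : ((QuotientGroup.mk' W) g) ^ (Nat.gcd (orderOf g) (p ^ (a + b))) = 1 :=
    pow_gcd_eq_one.mpr ⟨hm, hb'⟩
  rw [Nat.Coprime.pow_right (a + b) hg', pow_one, QuotientGroup.mk'_apply,
    QuotientGroup.eq_one_iff] at hgcd
  exact hgcd


/-- elementary coprime argument: if `⁅y, t⁆ = d` commutes with `t` and `t` is a `p`-element then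
`d` is a `p`-element. -/
theorem pow_commutator_eq_one {y t : G} {n : ℕ} (ht : t ^ n = 1)
    (hd : ⁅y, t⁆ * t = t * ⁅y, t⁆) : ⁅y, t⁆ ^ n = 1 := by
  have h1 : y * t * y⁻¹ = ⁅y, t⁆ * t := by rw [commutatorElement_def]; group
  have h2 : (y * t * y⁻¹) ^ n = 1 := by
    rw [conj_pow, ht]; group
  rw [h1, (show Commute ⁅y, t⁆ t from hd).mul_pow, ht, mul_one] at h2
  exact h2

theorem isPGroup_zpowers_of_pow_eq_one {d : G} {a : ℕ} (hd : d ^ (p ^ a) = 1) :
    IsPGroup p (Subgroup.zpowers d) := by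
  rintro ⟨x, hx⟩
  obtain ⟨k, rfl⟩ := Subgroup.mem_zpowers_iff.mp hx
  refine ⟨a, ?_⟩
  apply Subtype.ext
  simp only [Subgroup.coe_pow, Subgroup.coe_one]
  rw [← zpow_natCast, ← zpow_mul, mul_comm, zpow_mul, zpow_natCast, hd, one_zpow]

/-- a `p`-element of `D` centralized by `D` lies in `O_p(D)`. -/
theorem mem_pCoreOf_of_central [Fact p.Prime] {D : Subgroup G} {d : G} {a : ℕ} (hdD : d ∈ D)
    (hd : d ^ (p ^ a) = 1) (hc : ∀ x ∈ D, x * d = d * x) : d ∈ pCoreOf p D := by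
  have h1 : Subgroup.zpowers d ≤ pCoreOf p D := by
    apply le_pCoreOf (by rw [Subgroup.zpowers_le]; exact hdD) _
      (isPGroup_zpowers_of_pow_eq_one hd)
    intro x hx
    apply (centralizer_singleton_le_normalizer_zpowers d)
    rw [Subgroup.mem_centralizer_iff]
    intro y hy
    rw [Set.mem_singleton_iff] at hy
    rw [hy]; exact (hc x hx).symm
  exact h1 (Subgroup.mem_zpowers d)

theorem ccl_core [Finite G] [Fact p.Prime] (hO : Cfsg.pCore p G = ⊥) (𝒦 : Set (Subgroup G))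
    (hinv : ∀ h : G, ∀ E ∈ 𝒦, E.map (MulAut.conj h).toMonoidHom ∈ 𝒦)
    (htr : ∀ E ∈ 𝒦, ∀ K ∈ 𝒦, ∃ h : G, K = E.map (MulAut.conj h).toMonoidHom)
    (hres : Cfsg.pResidual p G ≤ sSup 𝒦)
    (hnorm : ∀ E ∈ 𝒦, sSup 𝒦 ≤ Subgroup.normalizer (E : Set G))
    (hnil : ∀ E ∈ 𝒦, ⁅⁅E, E⁆, E⁆ ≠ ⊥)
    (hsi : ∀ E ∈ 𝒦, ∀ M : Subgroup G, M ≤ E → E ≤ Subgroup.normalizer (M : Set G) →
      ⁅M, E⁆ ≠ ⊥ → OpOf p E ≤ M) :
    (∀ N : Subgroup G, N.Normal → ¬ Cfsg.pResidual p G ≤ N →
      OpOf p N ≤ Subgroup.centralizer (N : Set G)) ∧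
    (∀ E ∈ 𝒦, ∀ K ∈ 𝒦, OpOf p E = OpOf p K ∨ ⁅E, K⁆ = ⊥) := by
  have hRn : (sSup 𝒦).Normal := ccl_normal 𝒦 hinv
  -- (Q3)
  have hQ3 : ∀ E ∈ 𝒦, OpOf p E ≤ ⁅E, E⁆ := fun E hE =>
    hsi E hE ⁅E, E⁆ (Subgroup.commutator_le_self E)
      (le_normalizer_commutator Subgroup.le_normalizer Subgroup.le_normalizer) (hnil E hE)
  -- subnormal p-subgroups are trivial
  have hsubn : ∀ D : Subgroup G, D ≤ sSup 𝒦 → sSup 𝒦 ≤ Subgroup.normalizer (D : Set G) →
      pCoreOf p D = ⊥ := by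
    intro D hDR hRD
    have h1 : pCoreOf p D ≤ pCoreOf p (sSup 𝒦) := pCoreOf_le_pCoreOf_of_normal hDR hRD
    have h2 : pCoreOf p (sSup 𝒦) ≤ pCore p G := by
      apply le_pCore _ (pCoreOf_isPGroup _)
      rw [← Subgroup.normalizer_eq_top_iff, eq_top_iff]
      refine le_trans ?_ (normalizer_le_normalizer_pCoreOf (sSup 𝒦))
      rw [Subgroup.normalizer_eq_top]
    rw [← le_bot_iff, ← hO]; exact h1.trans h2
  -- E = O^p(E) T
  have hET : ∀ E : Subgroup G, ∃ T' : Subgroup G, IsPGroup p T' ∧ T' ≤ E ∧ OpOf p E ⊔ T' = E := by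
    intro E
    obtain ⟨T⟩ : Nonempty (Sylow p ↥E) := inferInstance
    exact ⟨_, T.isPGroup'.map _, Subgroup.map_subtype_le _, OpOf_sup_sylow E T⟩
  -- key for the second claim
  have key : ∀ E ∈ 𝒦, ∀ K ∈ 𝒦, ⁅E ⊓ K, E⁆ = ⊥ → ⁅E, K⁆ = ⊥ := by
    intro E hE K hK hD
    have hEK : E ≤ Subgroup.normalizer (K : Set G) := (le_sSup hE).trans (hnorm K hK)
    have hKE : K ≤ Subgroup.normalizer (E : Set G) := (le_sSup hK).trans (hnorm E hE)
    have hcomD : ⁅E, K⁆ ≤ E ⊓ K :=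
      le_inf (Subgroup.le_normalizer_iff_commutator_le_left.mp hKE)
        (Subgroup.le_normalizer_iff_commutator_le_right.mp hEK)
    have h3 : ⁅⁅K, E⁆, E⁆ = ⊥ := by
      rw [← le_bot_iff, ← hD, Subgroup.commutator_comm K E]
      exact Subgroup.commutator_mono hcomD le_rfl
    have h3' : ⁅⁅E, K⁆, E⁆ = ⊥ := by rw [Subgroup.commutator_comm E K]; exact h3
    have h4 : ⁅⁅E, E⁆, K⁆ = ⊥ := Subgroup.commutator_commutator_eq_bot_of_rotate h3' h3
    have h5 : ⁅K, OpOf p E⁆ ≤ ⊥ := by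
      rw [Subgroup.commutator_comm, ← h4]
      exact Subgroup.commutator_mono (hQ3 E hE) le_rfl
    obtain ⟨T', hT'p, hT'E, hsup⟩ := hET E
    have hDR : E ⊓ K ≤ sSup 𝒦 := inf_le_left.trans (le_sSup hE)
    have hRD : sSup 𝒦 ≤ Subgroup.normalizer ((E ⊓ K : Subgroup G) : Set G) :=
      inf_le_normalizer_inf (hnorm E hE) (hnorm K hK)
    have hDc : E ⊓ K ≤ Subgroup.centralizer (E : Set G) :=
      Subgroup.commutator_eq_bot_iff_le_centralizer.mp hD
    have h6 : ⁅K, T'⁆ ≤ ⊥ := by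
      rw [Subgroup.commutator_le]
      intro k hk t ht
      have hdD : ⁅k, t⁆ ∈ E ⊓ K := by
        have : ⁅t, k⁆ ∈ E ⊓ K := hcomD (Subgroup.commutator_mem_commutator (hT'E ht) hk)
        rw [← commutatorElement_inv]; exact Subgroup.inv_mem _ this
      obtain ⟨a, ha⟩ := exists_pow_eq_one_of_isPGroup hT'p ht
      have hcomm : ⁅k, t⁆ * t = t * ⁅k, t⁆ :=
        (Subgroup.mem_centralizer_iff.mp (hDc hdD) t (hT'E ht)).symm
      have hpow := pow_commutator_eq_one ha hcomm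
      have hmem : ⁅k, t⁆ ∈ pCoreOf p (E ⊓ K) := by
        apply mem_pCoreOf_of_central hdD hpow
        intro x hx
        exact (Subgroup.mem_centralizer_iff.mp (hDc hdD) x hx.1)
      rw [hsubn _ hDR hRD] at hmem
      exact hmem
    have h7 : ⁅K, OpOf p E ⊔ T'⁆ ≤ ⊥ := by
      apply commutator_sup_le' _ _ h5 h6
      · rw [normalizer_bot_eq_top]; exact le_top
      · rw [normalizer_bot_eq_top]; exact le_top
    rw [hsup] at h7
    rw [Subgroup.commutator_comm]
    exact le_bot_iff.mp h7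
  refine ⟨?_, ?_⟩
  · intro N hNn hN
    -- L, the join of the O^p(E)
    have hLn : (sSup {X : Subgroup G | ∃ E ∈ 𝒦, X = OpOf p E}).Normal := by
      apply ccl_normal
      rintro h _ ⟨E, hE, rfl⟩
      exact ⟨_, hinv h E hE, OpOf_map_conj E h⟩
    have hresL : pResidual p G ≤ sSup {X : Subgroup G | ∃ E ∈ 𝒦, X = OpOf p E} :=
      ccl_residual_le 𝒦 hres hnorm _ (fun E hE => le_sSup ⟨E, hE, rfl⟩)
    -- S1
    have hS1 : ∀ E ∈ 𝒦, ⁅N ⊓ E, E⁆ = ⊥ := by
      intro E hE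
      by_contra hne
      have h1 : OpOf p E ≤ N := (hsi E hE (N ⊓ E) inf_le_right
        (inf_le_normalizer_inf (by rw [Subgroup.normalizer_eq_top]; exact le_top)
          Subgroup.le_normalizer) hne).trans inf_le_left
      apply hN
      apply ccl_residual_le 𝒦 hres hnorm N
      intro K hK
      obtain ⟨h, rfl⟩ := htr E hE K hK
      rw [← OpOf_map_conj]
      calc (OpOf p E).map (MulAut.conj h).toMonoidHom ≤ N.map (MulAut.conj h).toMonoidHom :=
            Subgroup.map_mono h1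
        _ = N := map_conj_eq_of_mem_normalizer (by rw [Subgroup.normalizer_eq_top]; exact Subgroup.mem_top h)
    have hS1c : ∀ E ∈ 𝒦, N ⊓ E ≤ Subgroup.centralizer (E : Set G) := fun E hE =>
      Subgroup.commutator_eq_bot_iff_le_centralizer.mp (hS1 E hE)
    -- S3
    have hYE : ∀ E ∈ 𝒦, ⁅N ⊓ sSup 𝒦, E⁆ ≤ N ⊓ E := by
      intro E hE
      apply le_inf
      · exact (Subgroup.commutator_mono inf_le_left le_rfl).trans (Subgroup.commutator_le_left N E)
      · exact Subgroup.le_normalizer_iff_commutator_le_right.mp (inf_le_right.trans (hnorm E hE))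
    have hS3 : ∀ E ∈ 𝒦, ⁅OpOf p E, N ⊓ sSup 𝒦⁆ = ⊥ := by
      intro E hE
      have h2 : ⁅⁅N ⊓ sSup 𝒦, E⁆, E⁆ = ⊥ := by
        rw [← le_bot_iff, ← hS1 E hE]
        exact Subgroup.commutator_mono (hYE E hE) le_rfl
      have h1 : ⁅⁅E, N ⊓ sSup 𝒦⁆, E⁆ = ⊥ := by rw [Subgroup.commutator_comm E]; exact h2
      have h3 : ⁅⁅E, E⁆, N ⊓ sSup 𝒦⁆ = ⊥ := Subgroup.commutator_commutator_eq_bot_of_rotate h1 h2
      rw [← le_bot_iff, ← h3]
      exact Subgroup.commutator_mono (hQ3 E hE) le_rfl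
    have hresY : pResidual p G ≤ Subgroup.centralizer ((N ⊓ sSup 𝒦 : Subgroup G) : Set G) := by
      refine hresL.trans (sSup_le ?_)
      rintro _ ⟨E, hE, rfl⟩
      exact Subgroup.commutator_eq_bot_iff_le_centralizer.mp (hS3 E hE)
    -- S4: Y has no nontrivial p-elements
    have hYn : (N ⊓ sSup 𝒦).Normal := inferInstance
    have hS4 : ∀ d ∈ N ⊓ sSup 𝒦, ∀ a : ℕ, d ^ (p ^ a) = 1 → d = 1 := by
      obtain ⟨T⟩ : Nonempty (Sylow p ↥(N ⊓ sSup 𝒦)) := inferInstance
      have hmaxT := maxPIn_of_sylow T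
      have hsupT := OpOf_sup_sylow (N ⊓ sSup 𝒦) T
      have hT'Y : (T : Subgroup ↥(N ⊓ sSup 𝒦)).map (N ⊓ sSup 𝒦).subtype ≤ N ⊓ sSup 𝒦 :=
        Subgroup.map_subtype_le _
      have hYT : N ⊓ sSup 𝒦 ≤ Subgroup.normalizer
          (((T : Subgroup ↥(N ⊓ sSup 𝒦)).map (N ⊓ sSup 𝒦).subtype : Subgroup G) : Set G) := by
        conv_lhs => rw [← hsupT]
        apply sup_le _ Subgroup.le_normalizer
        calc OpOf p (N ⊓ sSup 𝒦) ≤ OpOf p (⊤ : Subgroup G) := OpOf_mono le_top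
          _ = pResidual p G := pResidual_eq_OpOf_top.symm
          _ ≤ Subgroup.centralizer ((N ⊓ sSup 𝒦 : Subgroup G) : Set G) := hresY
          _ ≤ Subgroup.centralizer
              (((T : Subgroup ↥(N ⊓ sSup 𝒦)).map (N ⊓ sSup 𝒦).subtype : Subgroup G) : Set G) :=
            Subgroup.centralizer_le hT'Y
          _ ≤ _ := Subgroup.centralizer_le_normalizer _
      have hT'bot : (T : Subgroup ↥(N ⊓ sSup 𝒦)).map (N ⊓ sSup 𝒦).subtype = ⊥ := by
        rw [← le_bot_iff, ← hsubn (N ⊓ sSup 𝒦) inf_le_right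
          (by rw [Subgroup.normalizer_eq_top]; exact le_top)]
        exact le_pCoreOf hT'Y hYT hmaxT.2.1
      intro d hd a ha
      have h1 := hmaxT.2.2 (Subgroup.zpowers d ⊔
        (T : Subgroup ↥(N ⊓ sSup 𝒦)).map (N ⊓ sSup 𝒦).subtype)
        (by rw [hT'bot, sup_bot_eq]; exact isPGroup_zpowers_of_pow_eq_one ha) le_sup_right
        (sup_le (by rw [Subgroup.zpowers_le]; exact hd) hT'Y)
      rw [hT'bot, sup_bot_eq, Subgroup.zpowers_eq_bot] at h1
      exact h1
    -- S5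
    have hS5 : ∀ E ∈ 𝒦, ⁅N ⊓ sSup 𝒦, E⁆ = ⊥ := by
      intro E hE
      obtain ⟨T', hT'p, hT'E, hsup⟩ := hET E
      have h5 : ⁅N ⊓ sSup 𝒦, OpOf p E⁆ ≤ ⊥ := by
        rw [Subgroup.commutator_comm, hS3 E hE]
      have h6 : ⁅N ⊓ sSup 𝒦, T'⁆ ≤ ⊥ := by
        rw [Subgroup.commutator_le]
        intro y hy t ht
        have hdD : ⁅y, t⁆ ∈ N ⊓ E :=
          hYE E hE (Subgroup.commutator_mem_commutator hy (hT'E ht))
        obtain ⟨a, ha⟩ := exists_pow_eq_one_of_isPGroup hT'p ht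
        have hcomm : ⁅y, t⁆ * t = t * ⁅y, t⁆ :=
          (Subgroup.mem_centralizer_iff.mp (hS1c E hE hdD) t (hT'E ht)).symm
        have hpow := pow_commutator_eq_one ha hcomm
        have := hS4 _ ⟨hdD.1, le_sSup hE hdD.2⟩ a hpow
        rw [this]; exact Subgroup.one_mem _
      have h7 : ⁅N ⊓ sSup 𝒦, OpOf p E ⊔ T'⁆ ≤ ⊥ := by
        apply commutator_sup_le' _ _ h5 h6
        · rw [normalizer_bot_eq_top]; exact le_top
        · rw [normalizer_bot_eq_top]; exact le_top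
      rw [hsup] at h7
      exact le_bot_iff.mp h7
    -- S6
    have hS6 : ∀ E ∈ 𝒦, OpOf p E ≤ Subgroup.centralizer (N : Set G) := by
      intro E hE
      have hNE : ⁅N, E⁆ ≤ N ⊓ sSup 𝒦 :=
        le_inf (Subgroup.commutator_le_left N E)
          ((Subgroup.commutator_mono le_rfl (le_sSup hE)).trans
            (Subgroup.commutator_le_right N (sSup 𝒦)))
      have h2 : ⁅⁅N, E⁆, E⁆ = ⊥ := by
        rw [← le_bot_iff, ← hS5 E hE]
        exact Subgroup.commutator_mono hNE le_rfl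
      have h1 : ⁅⁅E, N⁆, E⁆ = ⊥ := by rw [Subgroup.commutator_comm E]; exact h2
      have h3 : ⁅⁅E, E⁆, N⁆ = ⊥ := Subgroup.commutator_commutator_eq_bot_of_rotate h1 h2
      apply Subgroup.commutator_eq_bot_iff_le_centralizer.mp
      rw [← le_bot_iff, ← h3]
      exact Subgroup.commutator_mono (hQ3 E hE) le_rfl
    calc OpOf p N ≤ OpOf p (⊤ : Subgroup G) := OpOf_mono le_top
      _ = pResidual p G := pResidual_eq_OpOf_top.symm
      _ ≤ sSup {X : Subgroup G | ∃ E ∈ 𝒦, X = OpOf p E} := hresL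
      _ ≤ Subgroup.centralizer (N : Set G) := by
        apply sSup_le
        rintro _ ⟨E, hE, rfl⟩
        exact hS6 E hE
  · intro E hE K hK
    have hEK : E ≤ Subgroup.normalizer (K : Set G) := (le_sSup hE).trans (hnorm K hK)
    have hKE : K ≤ Subgroup.normalizer (E : Set G) := (le_sSup hK).trans (hnorm E hE)
    have hDE : E ≤ Subgroup.normalizer ((E ⊓ K : Subgroup G) : Set G) :=
      inf_le_normalizer_inf Subgroup.le_normalizer hEK
    have hDK : K ≤ Subgroup.normalizer ((E ⊓ K : Subgroup G) : Set G) :=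
      inf_le_normalizer_inf hKE Subgroup.le_normalizer
    by_cases h1 : ⁅E ⊓ K, E⁆ = ⊥
    · right; exact key E hE K hK h1
    by_cases h2 : ⁅E ⊓ K, K⁆ = ⊥
    · right
      rw [Subgroup.commutator_comm]
      apply key K hK E hE
      rw [inf_comm]; exact h2
    left
    have a1 : OpOf p E ≤ E ⊓ K := hsi E hE _ inf_le_left hDE h1
    have a2 : OpOf p K ≤ E ⊓ K := hsi K hK _ inf_le_right hDK h2
    apply le_antisymm
    · calc OpOf p E = OpOf p (OpOf p E) := (OpOf_idem E).symm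
        _ ≤ OpOf p K := OpOf_mono (a1.trans inf_le_right)
    · calc OpOf p K = OpOf p (OpOf p K) := (OpOf_idem K).symm
        _ ≤ OpOf p E := OpOf_mono (a2.trans inf_le_left)

end Cfsg.Agent.Lib.Helper16
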