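import Cfsg.Prelude.Def_LocalStructure
import Cfsg.Agent.Lib.Helper16.FrakM
import Cfsg.Agent.Lib.Helper17.Coprime

set_option autoImplicit false
set_option linter.style.haveILetI false
open Cfsg
open scoped Pointwise commutatorElement

namespace Cfsg.Agent.Lib.Helper16

variable {G : Type*} [Group G] {p : ℕ}

/-- a `p'`-element some `p`-power of which lies in `C` lies in `C`. -/
theorem mem_of_pow_mem_of_coprime' {C : Subgroup G} {x : G} (hx : (orderOf x).Coprime p) {k : ℕ}
    (hk : x ^ (p ^ k) ∈ C) : x ∈ C := by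
  have hcop : (p ^ k).Coprime (orderOf x) := (Nat.Coprime.pow_right k hx).symm
  obtain ⟨m, hm⟩ := exists_pow_eq_self_of_coprime hcop
  rw [← hm]
  exact C.pow_mem hk m

/-- internal form of S2830. -/
theorem pIrreducible_normal_facts [Finite G] [Fact p.Prime] (hG : IsPIrreducible p G)
    (C : Subgroup G) [hC : C.Normal] (hnc : ¬ pResidual p G ≤ C) :
    IsPClosed p ↥C ∧ (∀ T : Subgroup G, IsPGroup p ↥T → T ⊓ C ≤ pCore p G) ∧
      (pCore p G ≤ C → pCore p (G ⧸ C) = ⊥) := by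
  have hcl : IsPClosed p ↥C := by
    by_contra h
    exact hnc (hG.2 C hC h)
  refine ⟨hcl, ?_, ?_⟩
  · intro T hT
    exact le_pCore_of_pClosed_normal hcl inf_le_right (hT.to_le inf_le_left)
  · intro hOC
    rw [pCore_quotient_eq_bot_iff]
    intro D hD hDp
    have hDcl : IsPClosed p ↥D := by
      by_contra h
      apply hnc
      have hRD := hG.2 D hD h
      unfold pResidual
      rw [Subgroup.closure_le]
      intro x hx
      have hxD : x ∈ D := hRD (Subgroup.subset_closure hx)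
      obtain ⟨k, hk⟩ := hDp x hxD
      exact mem_of_pow_mem_of_coprime' hx hk
    intro d hd
    obtain ⟨i, j, hdij, ⟨k, hk⟩, hj⟩ := Cfsg.Agent.Lib.Helper17.exists_p_pprime_decomp p d
    haveI := hD
    have h1 : Subgroup.zpowers (d ^ i) ≤ pCore p G := by
      apply le_pCore_of_pClosed_normal hDcl
      · exact Subgroup.zpowers_le.mpr (D.zpow_mem hd i)
      · rw [IsPGroup.iff_card]
        exact ⟨k, by rw [Nat.card_zpowers, hk]⟩
    have h2 : d ^ i ∈ C := hOC (h1 (Subgroup.mem_zpowers _))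
    have h3 : d ^ j ∈ C := by
      obtain ⟨k', hk'⟩ := hDp (d ^ j) (D.zpow_mem hd j)
      exact mem_of_pow_mem_of_coprime' hj hk'
    rw [hdij]
    exact C.mul_mem h2 h3

/-- S2830 -/
theorem pIrreducible_on_module [Finite G] [Fact p.Prime] (V H : Subgroup G)
    (hH : Cfsg.IsPIrreducible p ↥H)
    (hnc : ¬ (Cfsg.pResidual p ↥H).map H.subtype ≤ Subgroup.centralizer (V : Set G))
    [hn : ((Subgroup.centralizer (V : Set G)).subgroupOf H).Normal] :
    Cfsg.IsPClosed p ↥(H ⊓ Subgroup.centralizer (V : Set G)) ∧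
    (∀ T : Subgroup G, T ≤ H → IsPGroup p ↥T →
      T ⊓ Subgroup.centralizer (V : Set G) ≤ Cfsg.pCoreOf p H) ∧
    (Cfsg.pCoreOf p H ≤ Subgroup.centralizer (V : Set G) →
      (∀ T : Subgroup G, T ≤ H → IsPGroup p ↥T →
        T ⊓ Subgroup.centralizer (V : Set G) = T ⊓ Cfsg.pCoreOf p H) ∧
      Cfsg.pCore p (↥H ⧸ (Subgroup.centralizer (V : Set G)).subgroupOf H) = ⊥) := by
  set C := Subgroup.centralizer (V : Set G) with hC
  set C' : Subgroup ↥H := C.subgroupOf H with hC'
  have hnc' : ¬ pResidual p ↥H ≤ C' := by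
    intro h
    apply hnc
    rintro _ ⟨x, hx, rfl⟩
    exact Subgroup.mem_subgroupOf.mp (h hx)
  obtain ⟨h1, h2, h3⟩ := pIrreducible_normal_facts hH C' hnc'
  have hpart2 : ∀ T : Subgroup G, T ≤ H → IsPGroup p ↥T → T ⊓ C ≤ Cfsg.pCoreOf p H := by
    intro T hTH hT x hx
    have hxH : x ∈ H := hTH hx.1
    have h4 : (⟨x, hxH⟩ : ↥H) ∈ T.subgroupOf H ⊓ C' :=
      Subgroup.mem_inf.mpr ⟨Subgroup.mem_subgroupOf.mpr hx.1, Subgroup.mem_subgroupOf.mpr hx.2⟩
    exact ⟨⟨x, hxH⟩, h2 (T.subgroupOf H) hT.comap_subtype h4, rfl⟩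
  refine ⟨?_, hpart2, ?_⟩
  · have h1' : IsPClosed p ↥((H ⊓ C).subgroupOf H) := by
      rw [Subgroup.inf_subgroupOf_left]; exact h1
    exact isPClosed_of_equiv (Subgroup.subgroupOfEquivOfLe (inf_le_left : H ⊓ C ≤ H)) h1'
  · intro hOC
    constructor
    · intro T hTH hT
      apply le_antisymm
      · exact le_inf inf_le_left (hpart2 T hTH hT)
      · exact inf_le_inf_left T hOC
    · apply h3
      intro x hx
      rw [hC', Subgroup.mem_subgroupOf]
      exact hOC ⟨x, hx, rfl⟩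

end Cfsg.Agent.Lib.Helper16
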