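import Cfsg.Prelude.Def_LocalStructure
import Cfsg.Agent.Lib.Helper16.Irreducible2
import Cfsg.Agent.Lib.Helper12.InducedFunctor

set_option autoImplicit false
set_option linter.style.haveILetI false
open Cfsg
open scoped Pointwise commutatorElement

namespace Cfsg.Agent.Lib.Helper16

variable {G : Type*} [Group G] {p : ℕ}

/-- a normal subgroup is `p`-closed iff all its `p`-elements lie in `O_p(G)`. -/
theorem isPClosed_normal_iff [Finite G] [Fact p.Prime] (N : Subgroup G) [hN : N.Normal] :
    IsPClosed p ↥N ↔ ∀ x ∈ N, (∃ k : ℕ, orderOf x = p ^ k) → x ∈ pCore p G := by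
  constructor
  · intro hcl x hx ⟨k, hk⟩
    have h1 : Subgroup.zpowers x ≤ pCore p G := by
      apply le_pCore_of_pClosed_normal hcl (Subgroup.zpowers_le.mpr hx)
      rw [IsPGroup.iff_card]
      exact ⟨k, by rw [Nat.card_zpowers, hk]⟩
    exact h1 (Subgroup.mem_zpowers x)
  · intro h P
    set Q : Subgroup ↥N := (pCore p G).subgroupOf N with hQ
    haveI hQn : Q.Normal := Subgroup.Normal.subgroupOf inferInstance N
    have hQp : IsPGroup p ↥Q := (pCore_isPGroup (G := G) (p := p)).comap_subtype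
    have hPQ : (P : Subgroup ↥N) ≤ Q := by
      intro x hx
      rw [hQ, Subgroup.mem_subgroupOf]
      apply h (x : G) x.2
      obtain ⟨k, hk⟩ := (IsPGroup.iff_orderOf.mp P.isPGroup') ⟨x, hx⟩
      exact ⟨k, by rw [← hk, Subgroup.orderOf_mk, Subgroup.orderOf_coe]⟩
    have : (P : Subgroup ↥N) = Q := (P.3 hQp hPQ).symm
    rw [this]; exact hQn

/-- `O_p(G/D) = O_p(G)/D` for a normal `p`-subgroup `D`. -/
theorem pCore_map_mk [Finite G] [Fact p.Prime] (D : Subgroup G) [hD : D.Normal]
    (hDp : IsPGroup p ↥D) :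
    pCore p (G ⧸ D) = (pCore p G).map (QuotientGroup.mk' D) := by
  have hπs : Function.Surjective (QuotientGroup.mk' D) := QuotientGroup.mk'_surjective D
  apply le_antisymm
  · set X : Subgroup G := (pCore p (G ⧸ D)).comap (QuotientGroup.mk' D) with hX
    haveI hXn : X.Normal := Subgroup.Normal.comap inferInstance _
    have hXp : IsPGroup p ↥X := by
      rw [IsPGroup.iff_orderOf]
      intro x
      have h1 : (QuotientGroup.mk' D) (x : G) ∈ pCore p (G ⧸ D) := x.2
      obtain ⟨a, ha⟩ := exists_pow_eq_one_of_isPGroup (pCore_isPGroup (G := G ⧸ D) (p := p)) h1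
      rw [← map_pow, QuotientGroup.mk'_apply, QuotientGroup.eq_one_iff] at ha
      obtain ⟨b, hb⟩ := exists_pow_eq_one_of_isPGroup hDp ha
      have h2 : (x : G) ^ (p ^ (a + b)) = 1 := by rw [pow_add, pow_mul]; exact hb
      have h3 : orderOf x ∣ p ^ (a + b) := by
        rw [← Subgroup.orderOf_coe]; exact orderOf_dvd_of_pow_eq_one h2
      obtain ⟨k, -, hk⟩ := (Nat.dvd_prime_pow Fact.out).mp h3
      exact ⟨k, hk⟩
    have hXO : X ≤ pCore p G := le_pCore hXn hXp
    have := Subgroup.map_mono (f := QuotientGroup.mk' D) hXO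
    rwa [hX, Subgroup.map_comap_eq_self_of_surjective hπs] at this
  · apply le_pCore (Subgroup.Normal.map inferInstance _ hπs)
    exact (pCore_isPGroup (G := G) (p := p)).map _

/-- `O^p` of a surjective image. -/
theorem pResidual_map_of_surjective [Finite G] [Fact p.Prime] {Q : Type*} [Group Q] (f : G →* Q)
    (hf : Function.Surjective f) : pResidual p Q = (pResidual p G).map f := by
  apply le_antisymm
  · unfold pResidual
    rw [Subgroup.closure_le]
    intro q hq
    obtain ⟨g, rfl⟩ := hf q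
    obtain ⟨u, -, hu, hucop⟩ := Cfsg.Agent.Lib.Helper12.exists_coprime_lift (p := p) f g hq
    rw [← hu]
    exact ⟨u, Subgroup.subset_closure hucop, rfl⟩
  · rw [Subgroup.map_le_iff_le_comap]
    unfold pResidual
    rw [Subgroup.closure_le]
    intro x hx
    apply Subgroup.subset_closure
    exact Nat.Coprime.coprime_dvd_left (orderOf_map_dvd f x) hx

theorem isPClosed_iff_forall [Finite G] [Fact p.Prime] :
    IsPClosed p G ↔ ∀ x : G, (∃ k : ℕ, orderOf x = p ^ k) → x ∈ pCore p G := by
  have h := isPClosed_normal_iff (p := p) (⊤ : Subgroup G)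
  constructor
  · intro hcl x hx
    exact h.mp (isPClosed_of_equiv Subgroup.topEquiv.symm hcl) x (Subgroup.mem_top x) hx
  · intro hall
    exact isPClosed_of_equiv Subgroup.topEquiv (h.mpr (fun x _ hx => hall x hx))

/-- `N` is `p`-closed iff its image modulo a normal `p`-subgroup is. -/
theorem isPClosed_map_mk_iff [Finite G] [Fact p.Prime] (D : Subgroup G) [hD : D.Normal]
    (hDp : IsPGroup p ↥D) (N : Subgroup G) [hN : N.Normal] :
    IsPClosed p ↥N ↔ IsPClosed p ↥(N.map (QuotientGroup.mk' D)) := by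
  have hp : p.Prime := Fact.out
  set π := QuotientGroup.mk' D with hπ
  have hπs : Function.Surjective π := QuotientGroup.mk'_surjective D
  haveI hNn : (N.map π).Normal := Subgroup.Normal.map hN _ hπs
  have hDO : D ≤ pCore p G := le_pCore hD hDp
  rw [isPClosed_normal_iff N, isPClosed_normal_iff (N.map π), pCore_map_mk D hDp]
  constructor
  · rintro h _ ⟨x, hx, rfl⟩ ⟨k, hk⟩
    obtain ⟨i, j, hxij, ⟨a, ha⟩, hj⟩ := Cfsg.Agent.Lib.Helper17.exists_p_pprime_decomp p x
    have h1 : π (x ^ j) = 1 := by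
      have h2 : orderOf (π (x ^ j)) ∣ orderOf (x ^ j) := orderOf_map_dvd π _
      have h3 : orderOf (π (x ^ j)) ∣ p ^ k := by
        rw [map_zpow, ← hk]
        apply orderOf_dvd_of_pow_eq_one
        rw [← zpow_natCast, ← zpow_mul, mul_comm, zpow_mul, zpow_natCast, pow_orderOf_eq_one,
          one_zpow]
      have h4 : (orderOf (x ^ j)).Coprime (p ^ k) := Nat.Coprime.pow_right k hj
      exact orderOf_eq_one_iff.mp (Nat.eq_one_of_dvd_coprimes h4 h2 h3)
    have h5 : π x = π (x ^ i) := by
      conv_lhs => rw [hxij]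
      rw [map_mul, h1, mul_one]
    rw [h5]
    exact ⟨x ^ i, h (x ^ i) (N.zpow_mem hx i) ⟨a, ha⟩, rfl⟩
  · intro h x hx ⟨k, hk⟩
    have h1 : orderOf (π x) ∣ p ^ k := by rw [← hk]; exact orderOf_map_dvd π x
    obtain ⟨a, -, ha⟩ := (Nat.dvd_prime_pow hp).mp h1
    obtain ⟨y, hy, hyx⟩ := h (π x) ⟨x, hx, rfl⟩ ⟨a, ha⟩
    have h2 : y⁻¹ * x ∈ D := by
      rw [← QuotientGroup.eq_one_iff, ← QuotientGroup.mk'_apply, ← hπ, map_mul, map_inv, hyx]
      group
    have : x = y * (y⁻¹ * x) := by group
    rw [this]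
    exact Subgroup.mul_mem _ hy (hDO h2)

/-- S2828: (strong) `p`-irreducibility passes to and from the quotient by a normal `p`-subgroup. -/
theorem pIrreducible_quotient_iff [Finite G] [Fact p.Prime] (D : Subgroup G) [hD : D.Normal]
    (hDp : IsPGroup p ↥D) :
    (IsPIrreducible p G ↔ IsPIrreducible p (G ⧸ D)) ∧
    (IsStronglyPIrreducible p G ↔ IsStronglyPIrreducible p (G ⧸ D)) := by
  have hp : p.Prime := Fact.out
  have hπs : Function.Surjective (QuotientGroup.mk' D) := QuotientGroup.mk'_surjective D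
  have hDO : D ≤ pCore p G := le_pCore hD hDp
  have hker : (QuotientGroup.mk' D).ker = D := QuotientGroup.ker_mk' D
  have hcl : IsPClosed p G ↔ IsPClosed p (G ⧸ D) := by
    have h1 := isPClosed_map_mk_iff D hDp (⊤ : Subgroup G)
    rw [Subgroup.map_top_of_surjective _ hπs] at h1
    constructor
    · intro h
      exact isPClosed_of_equiv Subgroup.topEquiv
        (h1.mp (isPClosed_of_equiv Subgroup.topEquiv.symm h))
    · intro h
      exact isPClosed_of_equiv Subgroup.topEquiv
        (h1.mpr (isPClosed_of_equiv Subgroup.topEquiv.symm h))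
  have hres : pResidual p (G ⧸ D) = (pResidual p G).map (QuotientGroup.mk' D) :=
    pResidual_map_of_surjective _ hπs
  have hkey : ∀ N : Subgroup G, N.Normal →
      (pResidual p G).map (QuotientGroup.mk' D) ≤ N.map (QuotientGroup.mk' D) →
      pResidual p G ≤ N := by
    intro N hN h
    unfold pResidual
    rw [Subgroup.closure_le]
    intro x hx
    have h1 : (QuotientGroup.mk' D) x ∈ N.map (QuotientGroup.mk' D) :=
      h ⟨x, Subgroup.subset_closure hx, rfl⟩
    obtain ⟨n, hn, hnx⟩ := h1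
    have h2 : n⁻¹ * x ∈ D := by
      rw [← hker, MonoidHom.mem_ker, map_mul, map_inv, hnx]; group
    obtain ⟨k, hk⟩ := hDp ⟨n⁻¹ * x, h2⟩
    have hk' : (n⁻¹ * x) ^ (p ^ k) = 1 := by simpa using congrArg Subtype.val hk
    have h3 : x ^ (p ^ k) ∈ N := by
      rw [← QuotientGroup.eq_one_iff (N := N)]
      have h4 : ((x : G) : G ⧸ N) = ((n⁻¹ * x : G) : G ⧸ N) := by
        rw [QuotientGroup.mk_mul, QuotientGroup.mk_inv, (QuotientGroup.eq_one_iff n).mpr hn]
        simp
      rw [QuotientGroup.mk_pow, h4, ← QuotientGroup.mk_pow, hk']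
      rfl
    exact mem_of_pow_mem_of_coprime' hx h3
  refine ⟨⟨?_, ?_⟩, ⟨?_, ?_⟩⟩
  · rintro ⟨hG1, hG2⟩
    refine ⟨fun h => hG1 (hcl.mpr h), ?_⟩
    intro Nb hNb hNbcl
    haveI := hNb
    haveI hNn : (Nb.comap (QuotientGroup.mk' D)).Normal := Subgroup.Normal.comap hNb _
    have h1 := isPClosed_map_mk_iff D hDp (Nb.comap (QuotientGroup.mk' D))
    rw [Subgroup.map_comap_eq_self_of_surjective hπs] at h1
    have h2 := hG2 _ hNn (fun h => hNbcl (h1.mp h))
    rw [hres]
    have h3 := Subgroup.map_mono (f := QuotientGroup.mk' D) h2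
    rwa [Subgroup.map_comap_eq_self_of_surjective hπs] at h3
  · rintro ⟨hQ1, hQ2⟩
    refine ⟨fun h => hQ1 (hcl.mp h), ?_⟩
    intro N hN hNcl
    haveI := hN
    have hNn : (N.map (QuotientGroup.mk' D)).Normal := Subgroup.Normal.map hN _ hπs
    have h1 := isPClosed_map_mk_iff D hDp N
    have h2 := hQ2 _ hNn (fun h => hNcl (h1.mpr h))
    rw [hres] at h2
    exact hkey N hN h2
  · rintro ⟨hG1, hG2⟩
    refine ⟨fun h => hG1 (hcl.mpr h), ?_⟩
    intro Nb hNb hNbc
    haveI := hNb
    haveI hNn : (Nb.comap (QuotientGroup.mk' D)).Normal := Subgroup.Normal.comap hNb _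
    have h2 := hG2 _ hNn (by
      intro h
      apply hNbc
      have h3 := Subgroup.map_mono (f := QuotientGroup.mk' D) h
      rw [Subgroup.map_commutator, Subgroup.map_comap_eq_self_of_surjective hπs,
        Subgroup.map_top_of_surjective _ hπs, ← pCore_map_mk D hDp] at h3
      exact h3)
    rw [hres]
    have h3 := Subgroup.map_mono (f := QuotientGroup.mk' D) h2
    rwa [Subgroup.map_comap_eq_self_of_surjective hπs] at h3
  · rintro ⟨hQ1, hQ2⟩
    refine ⟨fun h => hQ1 (hcl.mp h), ?_⟩
    intro N hN hNc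
    haveI := hN
    have hNn : (N.map (QuotientGroup.mk' D)).Normal := Subgroup.Normal.map hN _ hπs
    have h2 := hQ2 _ hNn (by
      intro h
      apply hNc
      rw [← Subgroup.map_top_of_surjective _ hπs, ← Subgroup.map_commutator,
        pCore_map_mk D hDp, Subgroup.map_le_map_iff, hker, sup_eq_left.mpr hDO] at h
      exact h)
    rw [hres] at h2
    exact hkey N hN h2

end Cfsg.Agent.Lib.Helper16
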