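import Mathlib
import Cfsg.Prelude.Def_LocalStructure
import Cfsg.Prelude.Def_Amalgam
import Cfsg.Prelude.Def_Solvable
import Cfsg.Prelude.Def_Transfer
import Cfsg.Agent.Lib.Helper16.ConjClass
import Cfsg.Agent.Lib.Helper16.Irreducible3
import Cfsg.Agent.Lib.Helper16.Subnormal

/-! Conjugacy classes of strongly `p`-irreducible subgroups generating `O^p(H)`: `H` is
`p`-irreducible (helper16). -/

set_option autoImplicit false
open Cfsg
open scoped Pointwise commutatorElement

namespace Cfsg.Agent.Lib.Helper16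

variable {G : Type*} [Group G] {p : ℕ}

theorem OpOf_map_hom [Finite G] [Fact p.Prime] {Q : Type*} [Group Q] (f : G →* Q)
    (X : Subgroup G) : (OpOf p X).map f = OpOf p (X.map f) := by
  apply le_antisymm
  · conv_lhs => unfold OpOf
    rw [MonoidHom.map_closure, Subgroup.closure_le]
    rintro _ ⟨x, hx, rfl⟩
    apply Subgroup.subset_closure
    refine ⟨⟨x, hx.1, rfl⟩, ?_⟩
    exact Nat.Coprime.coprime_dvd_left (orderOf_map_dvd f x) hx.2
  · conv_lhs => unfold OpOf
    rw [Subgroup.closure_le]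
    rintro _ ⟨⟨x, hx, rfl⟩, hco⟩
    obtain ⟨u, hu, hfu, huco⟩ := Cfsg.Agent.Lib.Helper12.exists_coprime_lift f x hco
    rw [← hfu]
    apply Subgroup.mem_map_of_mem
    apply Subgroup.subset_closure
    exact ⟨(Subgroup.zpowers_le.mpr hx) hu, huco⟩

theorem isPClosed_of_normal_pSubgroup [Fact p.Prime] {N Q : Subgroup G} (hQN : Q ≤ N)
    (hQp : IsPGroup p Q) (hNQ : N ≤ Subgroup.normalizer (Q : Set G))
    (hall : ∀ P' : Subgroup G, P' ≤ N → IsPGroup p P' → P' ≤ Q) : IsPClosed p ↥N := by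
  intro P
  have hQn : (Q.subgroupOf N).Normal :=
    (Subgroup.normal_subgroupOf_iff_le_normalizer hQN).mpr hNQ
  have hle : (P : Subgroup ↥N) ≤ Q.subgroupOf N := by
    intro x hx
    rw [Subgroup.mem_subgroupOf]
    exact hall _ (Subgroup.map_subtype_le _) (P.isPGroup'.map _) ⟨x, hx, rfl⟩
  have : Q.subgroupOf N = P := P.is_maximal' hQp.comap_subtype hle
  rw [← this]; exact hQn

theorem isPClosed_of_class_two_mod_pCore [Finite G] [Fact p.Prime]
    (h : ⁅⁅(⊤ : Subgroup G), (⊤ : Subgroup G)⁆, (⊤ : Subgroup G)⁆ ≤ pCore p G) : IsPClosed p G := by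
  intro T
  have hOT : pCore p G ≤ T := pCore_le_sylow T
  have hD : ⁅(⊤ : Subgroup G), (⊤ : Subgroup G)⁆ ≤ Subgroup.normalizer ((T : Subgroup G) : Set G) := by
    rw [Subgroup.le_normalizer_iff_commutator_le_right]
    exact (Subgroup.commutator_mono le_rfl le_top).trans (h.trans hOT)
  have hNn : (Subgroup.normalizer ((T : Subgroup G) : Set G)).Normal := by
    constructor
    intro n hn g
    have : g * n * g⁻¹ = ⁅g, n⁆ * n := by rw [commutatorElement_def]; group
    rw [this]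
    exact Subgroup.mul_mem _ (hD (Subgroup.commutator_mem_commutator (Subgroup.mem_top g)
      (Subgroup.mem_top n))) hn
  have h1 := Sylow.normalizer_normalizer T
  rw [Subgroup.normalizer_eq_top] at h1
  exact Subgroup.normalizer_eq_top_iff.mp h1.symm

theorem map_subtype_top' (E : Subgroup G) : (⊤ : Subgroup ↥E).map E.subtype = E := by
  rw [← MonoidHom.range_eq_map, Subgroup.range_subtype]

theorem si_ambient [Finite G] [Fact p.Prime] {E : Subgroup G}
    (hSI : IsStronglyPIrreducible p ↥E) :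
    ¬ ⁅⁅E, E⁆, E⁆ ≤ pCoreOf p E ∧
    ∀ M : Subgroup G, M ≤ E → E ≤ Subgroup.normalizer (M : Set G) → ¬ ⁅M, E⁆ ≤ pCoreOf p E →
      OpOf p E ≤ M := by
  obtain ⟨hnc, hsi⟩ := hSI
  refine ⟨?_, ?_⟩
  · intro h
    apply hnc
    apply isPClosed_of_class_two_mod_pCore
    rw [← Subgroup.map_le_map_iff_of_injective (Subgroup.subtype_injective E),
      Subgroup.map_commutator, Subgroup.map_commutator, map_subtype_top']
    exact h
  · intro M hME hEM hne
    have hMn : (M.subgroupOf E).Normal :=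
      (Subgroup.normal_subgroupOf_iff_le_normalizer hME).mpr hEM
    have h1 : ¬ ⁅M.subgroupOf E, (⊤ : Subgroup ↥E)⁆ ≤ pCore p ↥E := by
      intro h
      apply hne
      have := Subgroup.map_mono (f := E.subtype) h
      rwa [Subgroup.map_commutator, map_subtype_top', Subgroup.map_subgroupOf_eq_of_le hME] at this
    have h2 := Subgroup.map_mono (f := E.subtype) (hsi _ hMn h1)
    rwa [pResidual_map_subtype, Subgroup.map_subgroupOf_eq_of_le hME] at h2

theorem ccl_pCoreOf_le [Finite G] [Fact p.Prime] (𝒦 : Set (Subgroup G))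
    (hinv : ∀ h : G, ∀ E ∈ 𝒦, E.map (MulAut.conj h).toMonoidHom ∈ 𝒦)
    (hnorm : ∀ E ∈ 𝒦, sSup 𝒦 ⊔ Cfsg.pCore p G ≤
      Subgroup.normalizer ((E ⊔ Cfsg.pCore p G : Subgroup G) : Set G))
    {E : Subgroup G} (hE : E ∈ 𝒦) : pCoreOf p E ≤ pCore p G := by
  have hRn : (sSup 𝒦).Normal := ccl_normal 𝒦 hinv
  have hRO : (sSup 𝒦 ⊔ pCore p G).Normal := inferInstance
  have hOtop : ∀ X : Subgroup G, X ≤ Subgroup.normalizer ((pCore p G : Subgroup G) : Set G) := by
    intro X; rw [Subgroup.normalizer_eq_top]; exact le_top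
  have h1 : pCoreOf p E ⊔ pCore p G ≤ pCoreOf p (E ⊔ pCore p G) := by
    apply le_pCoreOf (sup_le_sup_right (pCoreOf_le E) _) _
      (IsPGroup.to_sup_of_normal_right' (pCoreOf_isPGroup E) pCore_isPGroup (hOtop _))
    apply sup_le
    · exact le_normalizer_sup (le_normalizer_pCoreOf E) (hOtop _)
    · exact le_sup_right.trans Subgroup.le_normalizer
  have h2 : pCoreOf p (E ⊔ pCore p G) ≤ pCoreOf p (sSup 𝒦 ⊔ pCore p G) :=
    pCoreOf_le_pCoreOf_of_normal (sup_le_sup_right (le_sSup hE) _) (hnorm E hE)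
  have h3 : pCoreOf p (sSup 𝒦 ⊔ pCore p G) ≤ pCore p G := by
    apply le_pCore _ (pCoreOf_isPGroup _)
    rw [← Subgroup.normalizer_eq_top_iff, eq_top_iff]
    refine le_trans ?_ (normalizer_le_normalizer_pCoreOf _)
    rw [Subgroup.normalizer_eq_top]
  exact le_sup_left.trans (h1.trans (h2.trans h3))

theorem ccl_irreducible [Finite G] [Fact p.Prime] (𝒦 : Set (Subgroup G)) (hne : 𝒦.Nonempty)
    (hinv : ∀ h : G, ∀ E ∈ 𝒦, E.map (MulAut.conj h).toMonoidHom ∈ 𝒦)
    (htr : ∀ E ∈ 𝒦, ∀ K ∈ 𝒦, ∃ h : G, K = E.map (MulAut.conj h).toMonoidHom)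
    (hres : Cfsg.pResidual p G ≤ sSup 𝒦)
    (hnorm : ∀ E ∈ 𝒦, sSup 𝒦 ⊔ Cfsg.pCore p G ≤
      Subgroup.normalizer ((E ⊔ Cfsg.pCore p G : Subgroup G) : Set G))
    (hSI : ∀ E ∈ 𝒦, Cfsg.IsStronglyPIrreducible p ↥E) :
    Cfsg.IsPIrreducible p G ∧ ∀ E ∈ 𝒦, ∀ K ∈ 𝒦,
      OpOf p (E ⊔ Cfsg.pCore p G) = OpOf p (K ⊔ Cfsg.pCore p G) ∨ ⁅E, K⁆ ≤ Cfsg.pCore p G := by
  have hOn : (pCore p G).Normal := inferInstance
  have hOp : IsPGroup p (pCore p G) := pCore_isPGroup
  have hπs : Function.Surjective (QuotientGroup.mk' (pCore p G)) :=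
    QuotientGroup.mk'_surjective _
  have hker : (QuotientGroup.mk' (pCore p G)).ker = pCore p G := QuotientGroup.ker_mk' _
  have hOtop : ∀ X : Subgroup G, X ≤ Subgroup.normalizer ((pCore p G : Subgroup G) : Set G) := by
    intro X; rw [Subgroup.normalizer_eq_top]; exact le_top
  have hmapO : (pCore p G).map (QuotientGroup.mk' (pCore p G)) = ⊥ := by
    rw [Subgroup.map_eq_bot_iff, hker]
  have hle_of_map : ∀ A B : Subgroup G, A.map (QuotientGroup.mk' (pCore p G)) ≤
      B.map (QuotientGroup.mk' (pCore p G)) → A ≤ B ⊔ pCore p G := by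
    intro A B h
    rw [Subgroup.map_le_map_iff, hker] at h
    exact h
  have hEO : ∀ E : Subgroup G, (E ⊔ pCore p G).map (QuotientGroup.mk' (pCore p G)) =
      E.map (QuotientGroup.mk' (pCore p G)) := by
    intro E; rw [Subgroup.map_sup, hmapO, sup_bot_eq]
  have hO' : pCore p (G ⧸ pCore p G) = ⊥ := by rw [pCore_map_mk (pCore p G) hOp, hmapO]
  -- the image family
  set 𝒦' : Set (Subgroup (G ⧸ pCore p G)) :=
    {X | ∃ E ∈ 𝒦, X = E.map (QuotientGroup.mk' (pCore p G))} with h𝒦'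
  have hinv' : ∀ h' : G ⧸ pCore p G, ∀ X ∈ 𝒦', X.map (MulAut.conj h').toMonoidHom ∈ 𝒦' := by
    intro h' X hX
    obtain ⟨h, rfl⟩ := hπs h'
    obtain ⟨E, hE, rfl⟩ := hX
    exact ⟨_, hinv h E hE, (map_map_conj (QuotientGroup.mk' (pCore p G)) E h).symm⟩
  have htr' : ∀ X ∈ 𝒦', ∀ Y ∈ 𝒦', ∃ h' : G ⧸ pCore p G,
      Y = X.map (MulAut.conj h').toMonoidHom := by
    rintro _ ⟨E, hE, rfl⟩ _ ⟨K, hK, rfl⟩
    obtain ⟨h, rfl⟩ := htr E hE K hK
    exact ⟨QuotientGroup.mk' (pCore p G) h, map_map_conj (QuotientGroup.mk' (pCore p G)) E h⟩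
  have hsSup' : sSup 𝒦' = (sSup 𝒦).map (QuotientGroup.mk' (pCore p G)) := by
    apply le_antisymm
    · apply sSup_le
      rintro _ ⟨E, hE, rfl⟩
      exact Subgroup.map_mono (le_sSup hE)
    · rw [map_sSup_le_iff]
      intro E hE
      exact le_sSup ⟨E, hE, rfl⟩
  have hres' : pResidual p (G ⧸ pCore p G) ≤ sSup 𝒦' := by
    rw [pResidual_map_of_surjective (QuotientGroup.mk' (pCore p G)) hπs, hsSup']
    exact Subgroup.map_mono hres
  have hnorm' : ∀ X ∈ 𝒦', sSup 𝒦' ≤ Subgroup.normalizer (X : Set (G ⧸ pCore p G)) := by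
    rintro _ ⟨E, hE, rfl⟩
    rw [hsSup', ← hEO E]
    exact (Subgroup.map_mono (le_sup_left.trans (hnorm E hE))).trans
      (Subgroup.le_normalizer_map _)
  have hcore : ∀ E ∈ 𝒦, pCoreOf p E ≤ pCore p G := fun E hE => ccl_pCoreOf_le 𝒦 hinv hnorm hE
  have hnil' : ∀ X ∈ 𝒦', ⁅⁅X, X⁆, X⁆ ≠ ⊥ := by
    rintro _ ⟨E, hE, rfl⟩ h
    rw [← Subgroup.map_commutator, ← Subgroup.map_commutator, Subgroup.map_eq_bot_iff, hker] at h
    apply (si_ambient (hSI E hE)).1
    apply le_pCoreOf ((Subgroup.commutator_mono (Subgroup.commutator_le_self E) le_rfl).trans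
      (Subgroup.commutator_le_self E)) _ (hOp.to_le h)
    exact le_normalizer_commutator
      (le_normalizer_commutator Subgroup.le_normalizer Subgroup.le_normalizer)
      Subgroup.le_normalizer
  have hsi' : ∀ X ∈ 𝒦', ∀ M' : Subgroup (G ⧸ pCore p G), M' ≤ X →
      X ≤ Subgroup.normalizer (M' : Set (G ⧸ pCore p G)) → ⁅M', X⁆ ≠ ⊥ → OpOf p X ≤ M' := by
    rintro _ ⟨E, hE, rfl⟩ M' hM'X hXM' hcomm
    have hMmap : (E ⊓ M'.comap (QuotientGroup.mk' (pCore p G))).map
        (QuotientGroup.mk' (pCore p G)) = M' := by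
      apply le_antisymm
      · rw [Subgroup.map_le_iff_le_comap]; exact inf_le_right
      · intro m hm
        obtain ⟨e, he, rfl⟩ := hM'X hm
        exact ⟨e, ⟨he, hm⟩, rfl⟩
    have hEM : E ≤ Subgroup.normalizer
        ((E ⊓ M'.comap (QuotientGroup.mk' (pCore p G)) : Subgroup G) : Set G) := by
      apply inf_le_normalizer_inf Subgroup.le_normalizer
      refine le_trans ?_ (Subgroup.le_normalizer_comap (QuotientGroup.mk' (pCore p G)))
      rw [← Subgroup.map_le_iff_le_comap]; exact hXM'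
    have hne' : ¬ ⁅E ⊓ M'.comap (QuotientGroup.mk' (pCore p G)), E⁆ ≤ pCoreOf p E := by
      intro h
      apply hcomm
      rw [← hMmap, ← Subgroup.map_commutator, Subgroup.map_eq_bot_iff, hker]
      exact h.trans (hcore E hE)
    have h1 := (si_ambient (hSI E hE)).2 _ inf_le_left hEM hne'
    rw [← OpOf_map_hom, ← hMmap]
    exact Subgroup.map_mono h1
  obtain ⟨hA, hB⟩ := ccl_core hO' 𝒦' hinv' htr' hres' hnorm' hnil' hsi'
  refine ⟨⟨?_, ?_⟩, ?_⟩
  · -- not p-closed
    intro hcl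
    obtain ⟨E, hE⟩ := hne
    apply (hSI E hE).1
    obtain ⟨S⟩ : Nonempty (Sylow p G) := inferInstance
    have hSn : (S : Subgroup G).Normal := hcl S
    apply isPClosed_of_normal_pSubgroup (Q := (S : Subgroup G) ⊓ E) inf_le_right
      (S.isPGroup'.to_le inf_le_left)
      (inf_le_normalizer_inf (by rw [Subgroup.normalizer_eq_top]; exact le_top)
        Subgroup.le_normalizer)
    intro P' hP'E hP'p
    refine le_inf ?_ hP'E
    obtain ⟨S', hS'⟩ := hP'p.exists_le_sylow
    have hu := Sylow.unique_of_normal S hSn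
    have : S' = S := by rw [hu.uniq S', hu.uniq S]
    rw [← this]; exact hS'
  · intro N hNn hNc
    by_contra hnot
    have hN'n : (N.map (QuotientGroup.mk' (pCore p G))).Normal := hNn.map _ hπs
    have hnot' : ¬ pResidual p (G ⧸ pCore p G) ≤ N.map (QuotientGroup.mk' (pCore p G)) := by
      intro h
      apply hnot
      rw [pResidual_map_of_surjective (QuotientGroup.mk' (pCore p G)) hπs] at h
      have h1 := hle_of_map _ _ h
      rw [pResidual_eq_OpOf_top] at h1 ⊢
      calc OpOf p (⊤ : Subgroup G) = OpOf p (OpOf p (⊤ : Subgroup G)) := (OpOf_idem _).symm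
        _ ≤ OpOf p (N ⊔ pCore p G) := OpOf_mono h1
        _ ≤ N := OpOf_sup_le hOp (by rw [Subgroup.normalizer_eq_top]; exact le_top)
    have hcent := hA _ hN'n hnot'
    -- the image of `N` has no nontrivial `p`-subgroups
    have hp' : ∀ P'' : Subgroup (G ⧸ pCore p G), P'' ≤ N.map (QuotientGroup.mk' (pCore p G)) →
        IsPGroup p P'' → P'' = ⊥ := by
      obtain ⟨T⟩ : Nonempty (Sylow p ↥(N.map (QuotientGroup.mk' (pCore p G)))) := inferInstance
      have hmaxT := maxPIn_of_sylow T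
      have hsupT := OpOf_sup_sylow (N.map (QuotientGroup.mk' (pCore p G))) T
      have hT'N : (T : Subgroup ↥(N.map (QuotientGroup.mk' (pCore p G)))).map
          (N.map (QuotientGroup.mk' (pCore p G))).subtype ≤
          N.map (QuotientGroup.mk' (pCore p G)) := Subgroup.map_subtype_le _
      have hNT : N.map (QuotientGroup.mk' (pCore p G)) ≤ Subgroup.normalizer
          (((T : Subgroup ↥(N.map (QuotientGroup.mk' (pCore p G)))).map
            (N.map (QuotientGroup.mk' (pCore p G))).subtype : Subgroup (G ⧸ pCore p G)) :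
            Set (G ⧸ pCore p G)) := by
        conv_lhs => rw [← hsupT]
        apply sup_le _ Subgroup.le_normalizer
        exact hcent.trans ((Subgroup.centralizer_le hT'N).trans
          (Subgroup.centralizer_le_normalizer _))
      have hT'bot : (T : Subgroup ↥(N.map (QuotientGroup.mk' (pCore p G)))).map
          (N.map (QuotientGroup.mk' (pCore p G))).subtype = ⊥ := by
        have h1 := le_pCoreOf hT'N hNT hmaxT.2.1
        have h2 : pCoreOf p (N.map (QuotientGroup.mk' (pCore p G))) ≤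
            pCore p (G ⧸ pCore p G) := pCoreOf_le_pCore_of_normal _
        rw [← le_bot_iff, ← hO']; exact h1.trans h2
      intro P'' hP''N hP''p
      have := hmaxT.2.2 P'' hP''p (by rw [hT'bot]; exact bot_le) hP''N
      rw [this, hT'bot]
    apply hNc
    apply isPClosed_of_normal_pSubgroup (Q := pCore p G ⊓ N) inf_le_right (hOp.to_le inf_le_left)
      (inf_le_normalizer_inf (hOtop _) Subgroup.le_normalizer)
    intro P' hP'N hP'p
    refine le_inf ?_ hP'N
    have := hp' (P'.map (QuotientGroup.mk' (pCore p G))) (Subgroup.map_mono hP'N) (hP'p.map _)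
    rw [Subgroup.map_eq_bot_iff, hker] at this
    exact this
  · intro E hE K hK
    rcases hB _ ⟨E, hE, rfl⟩ _ ⟨K, hK, rfl⟩ with h | h
    · left
      rw [← hEO E, ← hEO K, ← OpOf_map_hom, ← OpOf_map_hom] at h
      have key : ∀ X Y : Subgroup G, pCore p G ≤ Y →
          (OpOf p X).map (QuotientGroup.mk' (pCore p G)) ≤
            (OpOf p Y).map (QuotientGroup.mk' (pCore p G)) → OpOf p X ≤ OpOf p Y := by
        intro X Y hOY hXY
        have h1 := hle_of_map _ _ hXY
        calc OpOf p X = OpOf p (OpOf p X) := (OpOf_idem _).symm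
          _ ≤ OpOf p (OpOf p Y ⊔ pCore p G) := OpOf_mono h1
          _ ≤ OpOf p Y := OpOf_sup_le hOp
              (hOY.trans (Subgroup.le_normalizer.trans (normalizer_le_normalizer_OpOf Y)))
      exact le_antisymm (key _ _ le_sup_right h.le) (key _ _ le_sup_right h.ge)
    · right
      rw [← Subgroup.map_commutator, Subgroup.map_eq_bot_iff, hker] at h
      exact h

end Cfsg.Agent.Lib.Helper16
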