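import Cfsg.Prelude.Def_Amalgam

set_option autoImplicit false
open Cfsg

namespace Cfsg.Agent.Lib.Helper16

theorem stab_coset {X : Type*} [Group X] (M : Subgroup X) (x : X) :
    MulAction.stabilizer X (x : X ⧸ M) = M.map (MulAut.conj x).toMonoidHom := by
  ext g
  rw [MulAction.mem_stabilizer_iff, Subgroup.mem_map]
  constructor
  · intro h
    have h' : ((g * x : X) : X ⧸ M) = (x : X ⧸ M) := h
    rw [QuotientGroup.eq] at h'
    refine ⟨x⁻¹ * g * x, ?_, ?_⟩
    · have := M.inv_mem h'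
      simpa [mul_assoc] using this
    · simp [mul_assoc]
  · rintro ⟨m, hm, rfl⟩
    show ((MulAut.conj x m * x : X) : X ⧸ M) = (x : X ⧸ M)
    rw [QuotientGroup.eq]
    simp [mul_assoc, hm]

theorem stab_inl {X : Type*} [Group X] (M₁ M₂ : Subgroup X) (a : X ⧸ M₁) :
    MulAction.stabilizer X (Sum.inl a : Cfsg.CosetVertex M₁ M₂) = MulAction.stabilizer X a := by
  ext g
  simp [MulAction.mem_stabilizer_iff]

theorem stab_inr {X : Type*} [Group X] (M₁ M₂ : Subgroup X) (a : X ⧸ M₂) :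
    MulAction.stabilizer X (Sum.inr a : Cfsg.CosetVertex M₁ M₂) = MulAction.stabilizer X a := by
  ext g
  simp [MulAction.mem_stabilizer_iff]

theorem cosetGraph_adj_iff {X : Type*} [Group X] (M₁ M₂ : Subgroup X) (a b : CosetVertex M₁ M₂) :
    (cosetGraph M₁ M₂).Adj a b ↔
      ∃ x : X, (a = Sum.inl (x : X ⧸ M₁) ∧ b = Sum.inr (x : X ⧸ M₂)) ∨
        (a = Sum.inr (x : X ⧸ M₂) ∧ b = Sum.inl (x : X ⧸ M₁)) := by
  unfold cosetGraph
  rw [SimpleGraph.fromRel_adj]
  constructor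
  · rintro ⟨_, ⟨x, h1, h2⟩ | ⟨x, h1, h2⟩⟩
    · exact ⟨x, Or.inl ⟨h1, h2⟩⟩
    · exact ⟨x, Or.inr ⟨h2, h1⟩⟩
  · rintro ⟨x, ⟨h1, h2⟩ | ⟨h1, h2⟩⟩
    · refine ⟨?_, Or.inl ⟨x, h1, h2⟩⟩
      rw [h1, h2]; exact Sum.inl_ne_inr
    · refine ⟨?_, Or.inr ⟨x, h2, h1⟩⟩
      rw [h1, h2]; exact Sum.inr_ne_inl

theorem smul_inl {X : Type*} [Group X] (M₁ M₂ : Subgroup X) (g x : X) :
    g • (Sum.inl (x : X ⧸ M₁) : CosetVertex M₁ M₂) = Sum.inl ((g * x : X) : X ⧸ M₁) := rfl

theorem smul_inr {X : Type*} [Group X] (M₁ M₂ : Subgroup X) (g x : X) :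
    g • (Sum.inr (x : X ⧸ M₂) : CosetVertex M₁ M₂) = Sum.inr ((g * x : X) : X ⧸ M₂) := rfl

/-- The action preserves adjacency. -/
theorem cosetGraph_adj_smul {X : Type*} [Group X] (M₁ M₂ : Subgroup X) (g : X)
    {a b : CosetVertex M₁ M₂} (h : (cosetGraph M₁ M₂).Adj a b) :
    (cosetGraph M₁ M₂).Adj (g • a) (g • b) := by
  rw [cosetGraph_adj_iff] at h ⊢
  obtain ⟨x, ⟨h1, h2⟩ | ⟨h1, h2⟩⟩ := h
  · exact ⟨g * x, Or.inl ⟨by rw [h1, smul_inl], by rw [h2, smul_inr]⟩⟩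
  · exact ⟨g * x, Or.inr ⟨by rw [h1, smul_inr], by rw [h2, smul_inl]⟩⟩

/-- The graph homomorphism of the coset graph induced by a group element. -/
def cosetGraphSmulHom {X : Type*} [Group X] (M₁ M₂ : Subgroup X) (g : X) :
    cosetGraph M₁ M₂ →g cosetGraph M₁ M₂ where
  toFun v := g • v
  map_rel' h := cosetGraph_adj_smul M₁ M₂ g h

theorem cosetGraph_reachable_smul {X : Type*} [Group X] (M₁ M₂ : Subgroup X) (g : X)
    {a b : CosetVertex M₁ M₂} (h : (cosetGraph M₁ M₂).Reachable a b) :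
    (cosetGraph M₁ M₂).Reachable (g • a) (g • b) :=
  h.map (cosetGraphSmulHom M₁ M₂ g)

theorem cosetGraph_adj_inl_inr {X : Type*} [Group X] (M₁ M₂ : Subgroup X) (x : X) :
    (cosetGraph M₁ M₂).Adj (Sum.inl (x : X ⧸ M₁)) (Sum.inr (x : X ⧸ M₂)) := by
  rw [cosetGraph_adj_iff]
  exact ⟨x, Or.inl ⟨rfl, rfl⟩⟩

/-- The subgroup of elements moving the base vertex within its connected component. -/
def reachSubgroup {X : Type*} [Group X] (M₁ M₂ : Subgroup X) : Subgroup X where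
  carrier := {g | (cosetGraph M₁ M₂).Reachable (Sum.inl ((1 : X) : X ⧸ M₁))
    (g • (Sum.inl ((1 : X) : X ⧸ M₁) : CosetVertex M₁ M₂))}
  one_mem' := by
    show (cosetGraph M₁ M₂).Reachable _ ((1 : X) • _)
    rw [one_smul]
  mul_mem' := by
    intro g h hg hh
    show (cosetGraph M₁ M₂).Reachable _ ((g * h) • _)
    rw [mul_smul]
    exact hg.trans (cosetGraph_reachable_smul M₁ M₂ g hh)
  inv_mem' := by
    intro g hg
    show (cosetGraph M₁ M₂).Reachable _ (g⁻¹ • _)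
    have := cosetGraph_reachable_smul M₁ M₂ g⁻¹ hg
    rw [inv_smul_smul] at this
    exact this.symm

theorem reachSubgroup_eq_top {X : Type*} [Group X] (M₁ M₂ : Subgroup X) (h : M₁ ⊔ M₂ = ⊤) :
    reachSubgroup M₁ M₂ = ⊤ := by
  rw [eq_top_iff, ← h, sup_le_iff]
  constructor
  · intro m hm
    show (cosetGraph M₁ M₂).Reachable _ (m • _)
    rw [smul_inl]
    have : ((m * 1 : X) : X ⧸ M₁) = ((1 : X) : X ⧸ M₁) := by
      rw [QuotientGroup.eq]; simpa using hm
    rw [this]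
  · intro m hm
    show (cosetGraph M₁ M₂).Reachable _ (m • _)
    rw [smul_inl]
    have h1 := cosetGraph_adj_inl_inr M₁ M₂ (1 : X)
    have h2 := cosetGraph_adj_inl_inr M₁ M₂ (m * 1 : X)
    have : ((m * 1 : X) : X ⧸ M₂) = ((1 : X) : X ⧸ M₂) := by
      rw [QuotientGroup.eq]; simpa using hm
    rw [this] at h2
    exact h1.reachable.trans h2.reachable.symm

theorem cosetGraph_reachable_base {X : Type*} [Group X] (M₁ M₂ : Subgroup X) (h : M₁ ⊔ M₂ = ⊤)
    (v : CosetVertex M₁ M₂) :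
    (cosetGraph M₁ M₂).Reachable (Sum.inl ((1 : X) : X ⧸ M₁)) v := by
  have key : ∀ x : X, (cosetGraph M₁ M₂).Reachable (Sum.inl ((1 : X) : X ⧸ M₁))
      (Sum.inl (x : X ⧸ M₁)) := by
    intro x
    have hx : x ∈ reachSubgroup M₁ M₂ := by rw [reachSubgroup_eq_top M₁ M₂ h]; trivial
    have : (cosetGraph M₁ M₂).Reachable _ (x • _) := hx
    rw [smul_inl, mul_one] at this
    exact this
  rcases v with a | b
  · obtain ⟨x, rfl⟩ := QuotientGroup.mk_surjective a
    exact key x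
  · obtain ⟨x, rfl⟩ := QuotientGroup.mk_surjective b
    exact (key x).trans (cosetGraph_adj_inl_inr M₁ M₂ x).reachable

theorem cosetGraph_connected {X : Type*} [Group X] (M₁ M₂ : Subgroup X) (h : M₁ ⊔ M₂ = ⊤) :
    (cosetGraph M₁ M₂).Connected := by
  rw [SimpleGraph.connected_iff_exists_forall_reachable]
  exact ⟨_, cosetGraph_reachable_base M₁ M₂ h⟩

theorem cosetGraph_preconnected {X : Type*} [Group X] (M₁ M₂ : Subgroup X) (h : M₁ ⊔ M₂ = ⊤) :
    (cosetGraph M₁ M₂).Preconnected :=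
  (cosetGraph_connected M₁ M₂ h).preconnected

/-- Under the amalgam-pair hypothesis the action on vertices is faithful: a subgroup fixing
every vertex is trivial. -/
theorem eq_bot_of_fixes_all {X : Type*} [Group X] (M₁ M₂ : Subgroup X)
    (h : ∀ N : Subgroup X, N ≤ M₁ ⊓ M₂ → N.Normal → N = ⊥) (T : Subgroup X)
    (hT : ∀ v : CosetVertex M₁ M₂, T ≤ MulAction.stabilizer X v) : T = ⊥ := by
  have hker : (MulAction.toPermHom X (CosetVertex M₁ M₂)).ker = ⊥ := by
    apply h _ _ inferInstance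
    intro g hg
    rw [MonoidHom.mem_ker] at hg
    have h1 : g • (Sum.inl ((1 : X) : X ⧸ M₁) : CosetVertex M₁ M₂) = Sum.inl ((1 : X) : X ⧸ M₁) := by
      have := congrArg (fun f => f (Sum.inl ((1 : X) : X ⧸ M₁) : CosetVertex M₁ M₂)) hg
      simpa using this
    have h2 : g • (Sum.inr ((1 : X) : X ⧸ M₂) : CosetVertex M₁ M₂) = Sum.inr ((1 : X) : X ⧸ M₂) := by
      have := congrArg (fun f => f (Sum.inr ((1 : X) : X ⧸ M₂) : CosetVertex M₁ M₂)) hg
      simpa using this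
    rw [smul_inl] at h1
    rw [smul_inr] at h2
    have h1' := Sum.inl.inj h1
    have h2' := Sum.inr.inj h2
    rw [QuotientGroup.eq] at h1' h2'
    constructor
    · have := M₁.inv_mem h1'; simpa using this
    · have := M₂.inv_mem h2'; simpa using this
  rw [eq_bot_iff, ← hker]
  intro t ht
  rw [MonoidHom.mem_ker]
  ext v
  have := hT v ht
  rw [MulAction.mem_stabilizer_iff] at this
  simpa using this

end Cfsg.Agent.Lib.Helper16
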