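import Cfsg.Agent.Lib.Helper16.SylAb
import Cfsg.Agent.Lib.Helper16.SylAb2

/-
helper16 library: a hereditary bound for the derived length of 2-subgroups.
`dser H j` is the internal derived series of a subgroup; `DL j G` says every 2-subgroup of `G`
has derived length at most `j`.
-/

set_option autoImplicit false

namespace Cfsg.Agent.Lib.Helper16.SylAb

variable {G : Type*} [Group G]

/-- internal derived series of a subgroup -/
def dser (H : Subgroup G) : ℕ → Subgroup G
  | 0 => H
  | j + 1 => ⁅dser H j, dser H j⁆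

theorem dser_zero (H : Subgroup G) : dser H 0 = H := rfl

theorem dser_succ (H : Subgroup G) (j : ℕ) : dser H (j + 1) = ⁅dser H j, dser H j⁆ := rfl

theorem dser_mono {H K : Subgroup G} (h : H ≤ K) (j : ℕ) : dser H j ≤ dser K j := by
  induction j with
  | zero => exact h
  | succ j ih => exact Subgroup.commutator_mono ih ih

theorem dser_succ_le (H : Subgroup G) (j : ℕ) : dser H (j + 1) ≤ dser H j := by
  rw [dser_succ]
  exact Subgroup.commutator_le_self _

theorem dser_anti (H : Subgroup G) {i j : ℕ} (h : i ≤ j) : dser H j ≤ dser H i := by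
  induction j with
  | zero =>
    have : i = 0 := by omega
    rw [this]
  | succ j ih =>
    rcases Nat.eq_or_lt_of_le h with h1 | h1
    · rw [h1]
    · exact (dser_succ_le H j).trans (ih (by omega))

theorem dser_le (H : Subgroup G) (j : ℕ) : dser H j ≤ H :=
  dser_anti H (Nat.zero_le j)

theorem dser_map {G' : Type*} [Group G'] (f : G →* G') (H : Subgroup G) (j : ℕ) :
    dser (H.map f) j = (dser H j).map f := by
  induction j with
  | zero => rfl
  | succ j ih => rw [dser_succ, dser_succ, ih, Subgroup.map_commutator]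

theorem dser_add (H : Subgroup G) (a b : ℕ) : dser H (a + b) = dser (dser H b) a := by
  induction a with
  | zero => rw [Nat.zero_add]; rfl
  | succ a ih =>
    have : a + 1 + b = (a + b) + 1 := by ring
    rw [this, dser_succ, dser_succ, ih]

theorem dser_top (j : ℕ) : dser (⊤ : Subgroup G) j = derivedSeries G j := by
  induction j with
  | zero => rfl
  | succ j ih => rw [dser_succ, ih, derivedSeries_succ]

theorem dser_subtype (H : Subgroup G) (j : ℕ) :
    (derivedSeries ↥H j).map H.subtype = dser H j := by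
  rw [← dser_top, ← dser_map, ← MonoidHom.range_eq_map, Subgroup.range_subtype]

theorem derivedSeries_eq_bot_iff (H : Subgroup G) (j : ℕ) :
    derivedSeries ↥H j = ⊥ ↔ dser H j = ⊥ := by
  rw [← dser_subtype, Subgroup.map_eq_bot_iff_of_injective _ H.subtype_injective]

/-- every 2-subgroup has derived length at most `j` -/
def DL (j : ℕ) (G : Type*) [Group G] : Prop :=
  ∀ X : Subgroup G, IsPGroup 2 X → dser X j = ⊥

theorem DL_mono {i j : ℕ} (h : i ≤ j) (hG : DL i G) : DL j G := by
  intro X hX
  rw [eq_bot_iff, ← hG X hX]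
  exact dser_anti X h

theorem DL_of_injective {H : Type*} [Group H] (f : H →* G) (hf : Function.Injective f) {j : ℕ}
    (hG : DL j G) : DL j H := by
  intro X hX
  have h1 := hG (X.map f) (hX.map f)
  rw [dser_map, Subgroup.map_eq_bot_iff_of_injective _ hf] at h1
  exact h1

theorem DL_of_mulEquiv {H : Type*} [Group H] (e : H ≃* G) {j : ℕ} (hH : DL j H) : DL j G :=
  DL_of_injective e.symm.toMonoidHom e.symm.injective hH

/-- extensions -/
theorem DL_of_ker {Q : Type*} [Group Q] (f : G →* Q) (N : Subgroup G) (hker : f.ker ≤ N)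
    {a b : ℕ} (hN : DL a N) (hQ : DL b Q) : DL (a + b) G := by
  intro X hX
  have h1 := hQ (X.map f) (hX.map f)
  rw [dser_map, eq_bot_iff, Subgroup.map_le_iff_le_comap] at h1
  have h2 : dser X b ≤ N := by
    refine le_trans ?_ hker
    intro x hx
    have := h1 hx
    rw [Subgroup.mem_comap, Subgroup.mem_bot] at this
    exact this
  have hY : IsPGroup 2 (dser X b) := hX.to_le (dser_le X b)
  have hY' : IsPGroup 2 ((dser X b).subgroupOf N) :=
    hY.comap_of_injective N.subtype N.subtype_injective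
  have h3 := hN _ hY'
  have h4 : dser (((dser X b).subgroupOf N).map N.subtype) a = ⊥ := by
    rw [dser_map, h3, Subgroup.map_bot]
  rw [Subgroup.subgroupOf_map_subtype, inf_of_le_left h2] at h4
  rw [dser_add]
  exact h4

theorem DL_of_complement {H : Type*} [Group H] (N K : Subgroup H) [N.Normal]
    (hdisj : N ⊓ K = ⊥) (hsup : N ⊔ K = ⊤) {a b : ℕ} (hN : DL a N) (hK : DL b K) :
    DL (a + b) H := by
  obtain ⟨ψ, hψ⟩ : ∃ ψ : K →* H ⧸ N, ψ = (QuotientGroup.mk' N).comp K.subtype := ⟨_, rfl⟩
  have hψa : ∀ k : K, ψ k = QuotientGroup.mk' N (k : H) := fun k => by rw [hψ]; rfl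
  have hψinj : Function.Injective ψ := by
    rw [injective_iff_map_eq_one]
    intro k hk
    rw [hψa, QuotientGroup.mk'_apply, QuotientGroup.eq_one_iff] at hk
    have h2 : (k : H) ∈ N ⊓ K := ⟨hk, k.2⟩
    rw [hdisj, Subgroup.mem_bot] at h2
    exact Subtype.ext h2
  have hψsurj : Function.Surjective ψ := by
    intro y
    obtain ⟨x, rfl⟩ := QuotientGroup.mk'_surjective N y
    have hx : x ∈ N ⊔ K := by rw [hsup]; trivial
    rw [← SetLike.mem_coe, Subgroup.normal_mul, Set.mem_mul] at hx
    obtain ⟨n, hn, k, hk, rfl⟩ := hx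
    refine ⟨⟨k, hk⟩, ?_⟩
    rw [hψa, map_mul]
    have : QuotientGroup.mk' N n = 1 := by
      rw [QuotientGroup.mk'_apply, QuotientGroup.eq_one_iff]; exact hn
    rw [this, one_mul]
  have hQ : DL b (H ⧸ N) := DL_of_mulEquiv (MulEquiv.ofBijective ψ ⟨hψinj, hψsurj⟩) hK
  apply DL_of_ker (QuotientGroup.mk' N) N _ hN hQ
  rw [QuotientGroup.ker_mk']

theorem DL_sup_of_normalizer (N K : Subgroup G)
    (hK : K ≤ Subgroup.normalizer (N : Set G)) (hdisj : N ⊓ K = ⊥) {a b : ℕ}
    (hN : DL a N) (hK' : DL b K) : DL (a + b) ↥(K ⊔ N) := by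
  have : (N.subgroupOf (K ⊔ N)).Normal := Subgroup.normal_subgroupOf_sup_of_le_normalizer hK
  apply DL_of_complement (N.subgroupOf (K ⊔ N)) (K.subgroupOf (K ⊔ N))
  · ext x
    rw [Subgroup.mem_inf, Subgroup.mem_subgroupOf, Subgroup.mem_subgroupOf, Subgroup.mem_bot]
    constructor
    · rintro ⟨h1, h2⟩
      have : (x : G) ∈ N ⊓ K := ⟨h1, h2⟩
      rw [hdisj, Subgroup.mem_bot] at this
      exact Subtype.ext this
    · rintro rfl
      exact ⟨one_mem _, one_mem _⟩
  · rw [← Subgroup.subgroupOf_sup le_sup_right le_sup_left, sup_comm, Subgroup.subgroupOf_self]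
  · exact DL_of_mulEquiv (Subgroup.subgroupOfEquivOfLe le_sup_right).symm hN
  · exact DL_of_mulEquiv (Subgroup.subgroupOfEquivOfLe le_sup_left).symm hK'

/-- odd index -/
theorem DL_of_odd_index [Finite G] {H : Type*} [Group H] (φ : H →* G)
    (hφ : Function.Injective φ) (hodd : ¬ 2 ∣ φ.range.index) {j : ℕ} (h : DL j H) : DL j G := by
  have : Finite H := Finite.of_injective φ hφ
  obtain ⟨P₀⟩ : Nonempty (Sylow 2 H) := inferInstance
  have hp : IsPGroup 2 ((P₀ : Subgroup H).map φ) := P₀.isPGroup'.map φ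
  have hidx : ¬ 2 ∣ ((P₀ : Subgroup H).map φ).index := by
    rw [Subgroup.index_map_of_injective _ hφ]
    intro hd
    rcases (Nat.Prime.dvd_mul Nat.prime_two).mp hd with h1 | h1
    · exact P₀.not_dvd_index h1
    · exact hodd h1
  intro X hX
  obtain ⟨P, hP⟩ := hX.exists_le_sylow
  obtain ⟨g, hg⟩ := MulAction.exists_smul_eq G (hp.toSylow hidx) P
  have h1 : dser ((P₀ : Subgroup H).map φ) j = ⊥ := by
    rw [dser_map, h _ P₀.isPGroup', Subgroup.map_bot]
  have h2 : dser (P : Subgroup G) j = ⊥ := by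
    rw [← hg, Sylow.coe_subgroup_smul, Subgroup.pointwise_smul_def, IsPGroup.toSylow_coe]
    obtain ⟨c, hc⟩ : ∃ c : G →* G,
      c = MulDistribMulAction.toMonoidEnd (MulAut G) G (MulAut.conj g) := ⟨_, rfl⟩
    rw [← hc, dser_map, h1, Subgroup.map_bot]
  rw [eq_bot_iff, ← h2]
  exact dser_mono hP j

theorem DL_of_semidirect' [Finite G] (N K : Subgroup G)
    (hK : K ≤ Subgroup.normalizer (N : Set G)) (hdisj : N ⊓ K = ⊥)
    (hv : (Nat.card G).factorization 2 =
      (Nat.card N).factorization 2 + (Nat.card K).factorization 2) {a b : ℕ}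
    (hN : DL a N) (hK' : DL b K) : DL (a + b) G := by
  have hL := DL_sup_of_normalizer N K hK hdisj hN hK'
  apply DL_of_odd_index (K ⊔ N).subtype Subtype.val_injective _ hL
  rw [Subgroup.range_subtype]
  apply not_dvd_index_of_factorization
  rw [card_sup_of_normalizer N K hK hdisj, Nat.factorization_mul Nat.card_pos.ne' Nat.card_pos.ne',
    Finsupp.add_apply, hv]

theorem DL_of_injective' [Finite G] {H : Type*} [Group H] (φ : H →* G)
    (hφ : Function.Injective φ)
    (hv : (Nat.card G).factorization 2 = (Nat.card H).factorization 2) {j : ℕ} (h : DL j H) :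
    DL j G := by
  apply DL_of_odd_index φ hφ _ h
  apply not_dvd_index_of_factorization
  rw [hv, Nat.card_congr (MonoidHom.ofInjective hφ).toEquiv]

theorem DL_prod {A B : Type*} [Group A] [Group B] {j : ℕ} (hA : DL j A) (hB : DL j B) :
    DL j (A × B) := by
  intro X hX
  have h1 : X ≤ (X.map (MonoidHom.fst A B)).prod (X.map (MonoidHom.snd A B)) := by
    intro x hx
    exact ⟨⟨x, hx, rfl⟩, ⟨x, hx, rfl⟩⟩
  have h2 : ∀ (H : Subgroup A) (K : Subgroup B) (j : ℕ),
      dser (H.prod K) j = (dser H j).prod (dser K j) := by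
    intro H K j
    induction j with
    | zero => rfl
    | succ j ih => rw [dser_succ, ih, Subgroup.commutator_prod_prod]; rfl
  rw [eq_bot_iff]
  refine (dser_mono h1 j).trans ?_
  rw [h2, hA _ (hX.map _), hB _ (hX.map _), Subgroup.bot_prod_bot]

theorem DL_pi {A : Type*} [Group A] {j : ℕ} (hA : DL j A) (n : ℕ) : DL j (Fin n → A) := by
  induction n with
  | zero =>
    intro X _
    rw [eq_bot_iff]
    intro x _
    rw [Subgroup.mem_bot]
    exact Subsingleton.elim _ _
  | succ n ih => exact DL_of_mulEquiv (piSuccEquiv A n).symm (DL_prod hA ih)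

theorem DL_one_of_comm {A : Type*} [CommGroup A] : DL 1 A := by
  intro X _
  rw [dser_succ, dser_zero, Subgroup.commutator_eq_bot_iff_le_centralizer]
  intro x _
  rw [Subgroup.mem_centralizer_iff]
  intro y _
  exact mul_comm y x

theorem DL_zero_of_subsingleton {A : Type*} [Group A] [Subsingleton A] : DL 0 A := by
  intro X _
  rw [eq_bot_iff]
  intro x _
  rw [Subgroup.mem_bot]
  exact Subsingleton.elim _ _

end Cfsg.Agent.Lib.Helper16.SylAb
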