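import Cfsg.Agent.Lib.Helper16.SylAb2
import Cfsg.Agent.Lib.Helper16.SylAb3
import Cfsg.Agent.Lib.Helper14.SympCount

/-
helper16 library: the odd-index subgroup `SL_2(q)^n : S_n` of `Sp_{2n}(q)` and
`E2 (Sp_{2n}(q))` for odd `q`.
-/

set_option autoImplicit false

namespace Cfsg.Agent.Lib.Helper16.SylAb

theorem val_term (q : ℕ) (hq : Odd q) (hq1 : 1 < q) (j : ℕ) (hj : j ≠ 0) :
    padicValNat 2 (q ^ (2 * j) - 1) =
      padicValNat 2 (q * (q - 1) * (q + 1)) + padicValNat 2 j := by
  have h2q : ¬ 2 ∣ q := by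
    rw [← even_iff_two_dvd, Nat.not_even_iff_odd]; exact hq
  have h1 := padicValNat.pow_two_sub_pow (x := q) (y := 1) hq1
    (by obtain ⟨c, rfl⟩ := hq; exact ⟨c, by omega⟩) h2q (n := 2 * j) (by omega) (even_two_mul j)
  rw [one_pow] at h1
  have h3 : padicValNat 2 (2 * j) = 1 + padicValNat 2 j := by
    rw [padicValNat.mul (by norm_num) hj, padicValNat_self]
  have h4 : padicValNat 2 (q * (q - 1) * (q + 1)) =
      padicValNat 2 (q - 1) + padicValNat 2 (q + 1) := by
    rw [padicValNat.mul (Nat.mul_ne_zero (by omega) (by omega)) (by omega),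
      padicValNat.mul (by omega) (by omega),
      padicValNat.eq_zero_of_not_dvd h2q, zero_add]
  omega

theorem val_sp (q : ℕ) (hq : Odd q) (hq1 : 1 < q) (n : ℕ) :
    (q ^ (n ^ 2) * ∏ i ∈ Finset.range n, (q ^ (2 * (i + 1)) - 1)).factorization 2 =
      n * (q * (q - 1) * (q + 1)).factorization 2 + (Nat.factorial n).factorization 2 := by
  have h2q : ¬ 2 ∣ q := by
    rw [← even_iff_two_dvd, Nat.not_even_iff_odd]; exact hq
  have hpos : ∀ j, j ≠ 0 → q ^ (2 * j) - 1 ≠ 0 := by
    intro j hj
    have : 1 < q ^ (2 * j) := Nat.one_lt_pow (by omega) hq1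
    omega
  have hprod : ∀ n, ∏ i ∈ Finset.range n, (q ^ (2 * (i + 1)) - 1) ≠ 0 := by
    intro n
    rw [Finset.prod_ne_zero_iff]
    intro i _
    exact hpos _ (by omega)
  have key : ∀ n, padicValNat 2 (∏ i ∈ Finset.range n, (q ^ (2 * (i + 1)) - 1)) =
      n * padicValNat 2 (q * (q - 1) * (q + 1)) + padicValNat 2 (Nat.factorial n) := by
    intro n
    induction n with
    | zero => simp
    | succ n ih =>
      rw [Finset.prod_range_succ, padicValNat.mul (hprod n) (hpos _ (by omega)), ih,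
        val_term q hq hq1 (n + 1) (by omega), Nat.factorial_succ,
        padicValNat.mul (by omega) (Nat.factorial_ne_zero n)]
      ring
  rw [Nat.factorization_def _ Nat.prime_two, Nat.factorization_def _ Nat.prime_two,
    Nat.factorization_def _ Nat.prime_two,
    padicValNat.mul (pow_ne_zero _ (by omega)) (hprod n), key n, padicValNat.pow,
    padicValNat.eq_zero_of_not_dvd h2q]
  ring

open Matrix

variable {F : Type*} [Field F] {n : ℕ}

/-- entries of an `SL_2` element -/
def mat2 (g : SpecialLinearGroup (Fin 2) F) : Matrix (Fin 2) (Fin 2) F := g.1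

theorem mat2_mul (g h : SpecialLinearGroup (Fin 2) F) : mat2 (g * h) = mat2 g * mat2 h := rfl

/-- entries of an `SL_2` element -/
def ent (g : SpecialLinearGroup (Fin 2) F) (i j : Fin 2) : F := mat2 g i j

theorem ent_det (g : SpecialLinearGroup (Fin 2) F) :
    ent g 0 0 * ent g 1 1 - ent g 0 1 * ent g 1 0 = 1 := by
  have : (mat2 g).det = 1 := g.2
  rwa [Matrix.det_fin_two] at this

theorem ent_mul (g h : SpecialLinearGroup (Fin 2) F) (i j : Fin 2) :
    ent (g * h) i j = ent g i 0 * ent h 0 j + ent g i 1 * ent h 1 j := by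
  unfold ent
  rw [mat2_mul, Matrix.mul_apply, Fin.sum_univ_two]

theorem ent_ext (g h : SpecialLinearGroup (Fin 2) F) (H : ∀ i j, ent g i j = ent h i j) : g = h := by
  apply Subtype.ext
  show mat2 g = mat2 h
  ext i j
  exact H i j

/-- block diagonal matrix of `n` copies of `SL_2` in `Sp_{2n}` -/
def blkMat (g : Fin n → SpecialLinearGroup (Fin 2) F) :
    Matrix (Fin n ⊕ Fin n) (Fin n ⊕ Fin n) F :=
  fromBlocks (diagonal fun i => ent (g i) 0 0) (diagonal fun i => ent (g i) 0 1)
    (diagonal fun i => ent (g i) 1 0) (diagonal fun i => ent (g i) 1 1)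

theorem blkMat_mem (g : Fin n → SpecialLinearGroup (Fin 2) F) :
    blkMat g ∈ symplecticGroup (Fin n) F := by
  rw [SymplecticGroup.mem_iff, Matrix.J, blkMat, fromBlocks_multiply, fromBlocks_transpose,
    fromBlocks_multiply]
  simp only [Matrix.mul_zero, Matrix.mul_one, Matrix.mul_neg, zero_add, add_zero,
    diagonal_transpose, diagonal_mul_diagonal, Matrix.neg_mul]
  rw [fromBlocks_inj]
  refine ⟨?_, ?_, ?_, ?_⟩
  · ext i j
    rcases eq_or_ne i j with rfl | h
    · simp [mul_comm]
    · simp [h]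
  · ext i j
    rcases eq_or_ne i j with rfl | h
    · simp
      linear_combination -ent_det (g i)
    · simp [h]
  · ext i j
    rcases eq_or_ne i j with rfl | h
    · simp
      linear_combination ent_det (g i)
    · simp [h]
  · ext i j
    rcases eq_or_ne i j with rfl | h
    · simp [mul_comm]
    · simp [h]

theorem blkMat_mul (g h : Fin n → SpecialLinearGroup (Fin 2) F) :
    blkMat (g * h) = blkMat g * blkMat h := by
  rw [blkMat, blkMat, blkMat, fromBlocks_multiply]
  simp only [diagonal_mul_diagonal, diagonal_add, Pi.mul_apply, ent_mul]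

theorem blkMat_injective : Function.Injective (blkMat (F := F) (n := n)) := by
  intro g h hgh
  funext i
  apply ent_ext
  intro a b
  have h1 := congrFun (congrFun hgh (Sum.inl i)) (Sum.inl i)
  have h2 := congrFun (congrFun hgh (Sum.inl i)) (Sum.inr i)
  have h3 := congrFun (congrFun hgh (Sum.inr i)) (Sum.inl i)
  have h4 := congrFun (congrFun hgh (Sum.inr i)) (Sum.inr i)
  simp only [blkMat, fromBlocks_apply₁₁, fromBlocks_apply₁₂, fromBlocks_apply₂₁,
    fromBlocks_apply₂₂, diagonal_apply_eq] at h1 h2 h3 h4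
  fin_cases a <;> fin_cases b <;> assumption

/-- the block-diagonal homomorphism -/
def blkHom (F : Type*) [Field F] (n : ℕ) :
    (Fin n → SpecialLinearGroup (Fin 2) F) →* symplecticGroup (Fin n) F :=
  MonoidHom.mk' (fun g => ⟨blkMat g, blkMat_mem g⟩) (by
    intro g h
    apply Subtype.ext
    exact blkMat_mul g h)

theorem blkHom_injective : Function.Injective (blkHom F n) := by
  intro g h hgh
  exact blkMat_injective (congrArg Subtype.val hgh)

/-- permutation matrix: `pm σ e_j = e_{σ j}` -/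
def pm (F : Type*) [Field F] {n : ℕ} (σ : Equiv.Perm (Fin n)) : Matrix (Fin n) (Fin n) F :=
  Matrix.of fun i j => if i = σ j then 1 else 0

theorem pm_apply (σ : Equiv.Perm (Fin n)) (i j : Fin n) :
    pm F σ i j = if i = σ j then 1 else 0 := rfl

theorem pm_one : pm F (1 : Equiv.Perm (Fin n)) = 1 := by
  ext i j
  rw [pm_apply, Matrix.one_apply]
  rfl

theorem pm_mul (σ τ : Equiv.Perm (Fin n)) : pm F (σ * τ) = pm F σ * pm F τ := by
  ext i j
  rw [Matrix.mul_apply, pm_apply, Finset.sum_eq_single (τ j)]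
  · rw [pm_apply, pm_apply, if_pos rfl, mul_one, Equiv.Perm.mul_apply]
  · intro k _ hk
    rw [pm_apply, pm_apply, if_neg hk, mul_zero]
  · intro h
    exact absurd (Finset.mem_univ _) h

theorem pm_transpose (σ : Equiv.Perm (Fin n)) : (pm F σ)ᵀ = pm F σ⁻¹ := by
  ext i j
  rw [Matrix.transpose_apply, pm_apply, pm_apply]
  congr 1
  rw [eq_iff_iff, Equiv.Perm.inv_def, Equiv.eq_symm_apply, eq_comm]

theorem pm_mul_transpose (σ : Equiv.Perm (Fin n)) : pm F σ * (pm F σ)ᵀ = 1 := by
  rw [pm_transpose, ← pm_mul, mul_inv_cancel, pm_one]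

theorem pm_mul_diagonal (σ : Equiv.Perm (Fin n)) (v : Fin n → F) :
    pm F σ * diagonal v = diagonal (fun i => v (σ⁻¹ i)) * pm F σ := by
  ext i j
  rw [Matrix.mul_diagonal, Matrix.diagonal_mul, pm_apply]
  by_cases h : i = σ j
  · rw [if_pos h, h, Equiv.Perm.inv_def, Equiv.symm_apply_apply, one_mul, mul_one]
  · rw [if_neg h, zero_mul, mul_zero]

/-- the permutation matrix in `Sp_{2n}` -/
def pmMat (F : Type*) [Field F] {n : ℕ} (σ : Equiv.Perm (Fin n)) :
    Matrix (Fin n ⊕ Fin n) (Fin n ⊕ Fin n) F :=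
  fromBlocks (pm F σ) 0 0 (pm F σ)

theorem pmMat_mem (σ : Equiv.Perm (Fin n)) : pmMat F σ ∈ symplecticGroup (Fin n) F := by
  rw [SymplecticGroup.mem_iff, Matrix.J, pmMat, fromBlocks_multiply, fromBlocks_transpose,
    fromBlocks_multiply]
  simp only [Matrix.mul_zero, Matrix.mul_one, Matrix.mul_neg, zero_add, add_zero,
    Matrix.zero_mul, Matrix.neg_mul, pm_mul_transpose, Matrix.transpose_zero, neg_zero]

theorem pmMat_mul (σ τ : Equiv.Perm (Fin n)) : pmMat F (σ * τ) = pmMat F σ * pmMat F τ := by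
  rw [pmMat, pmMat, pmMat, fromBlocks_multiply]
  simp only [Matrix.mul_zero, Matrix.zero_mul, add_zero, zero_add, pm_mul]

/-- the permutation homomorphism -/
def pmHom (F : Type*) [Field F] (n : ℕ) : Equiv.Perm (Fin n) →* symplecticGroup (Fin n) F :=
  MonoidHom.mk' (fun σ => ⟨pmMat F σ, pmMat_mem σ⟩) (by
    intro g h
    apply Subtype.ext
    exact pmMat_mul g h)

theorem pm_injective : Function.Injective (pm F (n := n)) := by
  intro σ τ h
  ext j
  have h1 := congrFun (congrFun h (σ j)) j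
  rw [pm_apply, pm_apply, if_pos rfl] at h1
  by_cases h2 : σ j = τ j
  · rw [h2]
  · rw [if_neg h2] at h1
    exact absurd h1 one_ne_zero

theorem pmHom_injective : Function.Injective (pmHom F n) := by
  intro σ τ h
  have h1 : pmMat F σ = pmMat F τ := congrArg Subtype.val h
  rw [pmMat, pmMat, fromBlocks_inj] at h1
  exact pm_injective h1.1


theorem pmMat_mul_blkMat (σ : Equiv.Perm (Fin n)) (g : Fin n → SpecialLinearGroup (Fin 2) F) :
    pmMat F σ * blkMat g = blkMat (fun i => g (σ⁻¹ i)) * pmMat F σ := by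
  rw [pmMat, blkMat, blkMat, fromBlocks_multiply, fromBlocks_multiply]
  simp only [Matrix.mul_zero, Matrix.zero_mul, add_zero, zero_add, pm_mul_diagonal]

theorem pmHom_mul_blkHom (σ : Equiv.Perm (Fin n)) (g : Fin n → SpecialLinearGroup (Fin 2) F) :
    pmHom F n σ * blkHom F n g * (pmHom F n σ)⁻¹ = blkHom F n (fun i => g (σ⁻¹ i)) := by
  rw [mul_inv_eq_iff_eq_mul]
  apply Subtype.ext
  exact pmMat_mul_blkMat σ g

theorem E2_symplectic [Fintype F] (hF : Odd (Fintype.card F)) (n : ℕ) :
    E2 (symplecticGroup (Fin n) F) := by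
  classical
  have : Finite (symplecticGroup (Fin n) F) := Subtype.finite
  apply E2_of_semidirect' (blkHom F n).range (pmHom F n).range
  · rintro _ ⟨σ, rfl⟩
    apply mem_normalizer_of_conj
    · rintro _ ⟨g, rfl⟩
      exact ⟨_, (pmHom_mul_blkHom σ g).symm⟩
    · rintro _ ⟨g, rfl⟩
      have := pmHom_mul_blkHom σ⁻¹ g
      rw [map_inv, inv_inv] at this
      exact ⟨_, this.symm⟩
  · ext x
    rw [Subgroup.mem_inf, Subgroup.mem_bot]
    constructor
    · rintro ⟨⟨g, rfl⟩, ⟨σ, hσ⟩⟩
      have h1 : pmMat F σ = blkMat g := congrArg Subtype.val hσ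
      rw [pmMat, blkMat, fromBlocks_inj] at h1
      have h2 : σ = 1 := by
        ext j
        by_contra hne
        have h3 := congrFun (congrFun h1.1 (σ j)) j
        rw [pm_apply, if_pos rfl, diagonal_apply_ne _ (fun h => hne (by rw [h]; rfl))] at h3
        exact one_ne_zero h3
      rw [← hσ, h2, map_one]
    · rintro rfl
      exact ⟨one_mem _, one_mem _⟩
  · rw [Nat.card_congr (MonoidHom.ofInjective blkHom_injective).toEquiv.symm,
      Nat.card_congr (MonoidHom.ofInjective pmHom_injective).toEquiv.symm,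
      Cfsg.Agent.Lib.Helper14.card_symplectic, Nat.card_fun, Nat.card_fin, Nat.card_perm,
      Nat.card_fin, Cfsg.Agent.Lib.Helper2.card_SL2,
      val_sp _ hF Fintype.one_lt_card, Nat.factorization_pow, Finsupp.smul_apply, smul_eq_mul]
  · exact E2_of_mulEquiv (MonoidHom.ofInjective blkHom_injective) (E2_pi (E2_SL2 hF) n)
  · exact E2_of_mulEquiv (MonoidHom.ofInjective pmHom_injective) (E2_perm n)

end Cfsg.Agent.Lib.Helper16.SylAb
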