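import Cfsg.Agent.Lib.Helper16.DerLen
import Cfsg.Agent.Lib.Helper16.SpWreath

set_option autoImplicit false

namespace Cfsg.Agent.Lib.Helper16.SylAb

open Equiv

section quat

variable {n : ℕ}

/-- the sign homomorphism of the quaternion group -/
def quatSign (n : ℕ) : QuaternionGroup n →* Multiplicative (ZMod 2) :=
  MonoidHom.mk' (fun x => match x with
    | QuaternionGroup.a _ => Multiplicative.ofAdd 0
    | QuaternionGroup.xa _ => Multiplicative.ofAdd 1) (by
    rintro (i | i) (j | j)
    · rw [QuaternionGroup.a_mul_a]; rfl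
    · rw [QuaternionGroup.a_mul_xa]; rfl
    · rw [QuaternionGroup.xa_mul_a]; rfl
    · rw [QuaternionGroup.xa_mul_xa]
      show Multiplicative.ofAdd (0 : ZMod 2) = Multiplicative.ofAdd 1 * Multiplicative.ofAdd 1
      decide)

theorem quatSign_xa (n : ℕ) (j : ZMod (2 * n)) : quatSign n (QuaternionGroup.xa j) ≠ 1 := by
  intro h
  have h1 : Multiplicative.ofAdd (1 : ZMod 2) = 1 := h
  exact absurd h1 (by decide)

theorem derivedSeries_quaternion (n : ℕ) : derivedSeries (QuaternionGroup n) 2 = ⊥ := by
  have h1 : derivedSeries (QuaternionGroup n) 1 ≤ (quatSign n).ker := by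
    rw [derivedSeries_one]
    exact Abelianization.commutator_subset_ker (quatSign n)
  have h2 : ⁅(quatSign n).ker, (quatSign n).ker⁆ = ⊥ := by
    rw [Subgroup.commutator_eq_bot_iff_le_centralizer]
    rintro (i | i) hx
    · rw [Subgroup.mem_centralizer_iff]
      rintro (j | j) hy
      · rw [QuaternionGroup.a_mul_a, QuaternionGroup.a_mul_a, add_comm]
      · exact absurd hy (quatSign_xa n j)
    · exact absurd hx (quatSign_xa n i)
  rw [derivedSeries_succ, eq_bot_iff, ← h2]
  exact Subgroup.commutator_mono h1 h1

theorem DL_quaternion (n : ℕ) : DL 2 (QuaternionGroup n) := by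
  intro X _
  rw [eq_bot_iff, ← derivedSeries_quaternion n, ← dser_top]
  exact dser_mono le_top 2

end quat

theorem DL_one_of_commute {A : Type*} [Group A] (h : ∀ x y : A, x * y = y * x) : DL 1 A := by
  intro X _
  rw [dser_succ, dser_zero, Subgroup.commutator_eq_bot_iff_le_centralizer]
  intro x _
  rw [Subgroup.mem_centralizer_iff]
  intro y _
  exact h y x

section perm

variable {β : Type*}

theorem DL_perm_prod_bool [Fintype β] [DecidableEq β] {b : ℕ} (h : DL b (Perm β)) :
    DL (1 + b) (Perm (β × Bool)) := by
  classical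
  apply DL_of_semidirect' (nuHom β).range (kappaHom β).range
  · rintro _ ⟨τ, rfl⟩
    apply mem_normalizer_of_conj
    · rintro _ ⟨f, rfl⟩
      exact ⟨_, (conj_nu τ f).symm⟩
    · rintro _ ⟨f, rfl⟩
      have := conj_nu τ⁻¹ f
      rw [map_inv, inv_inv] at this
      exact ⟨_, this.symm⟩
  · ext σ
    rw [Subgroup.mem_inf, Subgroup.mem_bot]
    constructor
    · rintro ⟨⟨f, rfl⟩, ⟨τ, hτ⟩⟩
      have h1 : τ = 1 := by
        ext b
        have := congrArg (fun σ : Perm (β × Bool) => (σ (b, true)).1) hτ
        simpa using this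
      rw [← hτ, h1, map_one]
    · rintro rfl
      exact ⟨one_mem _, one_mem _⟩
  · rw [Nat.card_congr (MonoidHom.ofInjective nuHom_injective).toEquiv.symm,
      Nat.card_congr (MonoidHom.ofInjective kappaHom_injective).toEquiv.symm]
    simp only [Nat.card_eq_fintype_card, Fintype.card_perm, Fintype.card_prod, Fintype.card_bool,
      Fintype.card_pi, Finset.prod_const, Finset.card_univ]
    rw [mul_comm (Fintype.card β) 2, factorization_two_mul_factorial]
    congr 1
    simp [Nat.Prime.factorization_pow Nat.prime_two]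
  · apply DL_of_mulEquiv (MonoidHom.ofInjective nuHom_injective)
    apply DL_one_of_commute
    intro f g
    funext b
    have : ∀ p q : Perm Bool, p * q = q * p := by decide
    exact this (f b) (g b)
  · exact DL_of_mulEquiv (MonoidHom.ofInjective kappaHom_injective) h

theorem DL_perm_of_subtype {α : Type*} [Fintype α] [DecidableEq α] (a : α)
    (hodd : Odd (Fintype.card α)) {j : ℕ} (h : DL j (Perm {x // x ≠ a})) : DL j (Perm α) := by
  apply DL_of_injective' (Equiv.Perm.ofSubtype (p := fun x => x ≠ a))
    Equiv.Perm.ofSubtype_injective _ h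
  simp only [Nat.card_eq_fintype_card, Fintype.card_perm]
  rw [← card_subtype_ne a]
  apply factorization_factorial_succ_of_even
  rw [← card_subtype_ne a] at hodd
  rcases Nat.even_or_odd (Fintype.card {x // x ≠ a}) with h1 | h1
  · exact h1
  · exfalso
    have := h1.add_one
    exact (Nat.not_even_iff_odd.mpr hodd) this

theorem DL_perm_aux : ∀ (n : ℕ) (α : Type) [Fintype α] [DecidableEq α],
    Fintype.card α = n → DL (Nat.log 2 n) (Perm α) := by
  intro n
  induction n using Nat.strong_induction_on with
  | _ n ih =>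
    intro α _ _ hα
    rcases Nat.even_or_odd n with he | ho
    · obtain ⟨m, hm⟩ := he
      rcases Nat.eq_zero_or_pos m with h0 | hpos
      · -- empty
        subst h0
        have : IsEmpty α := Fintype.card_eq_zero_iff.mp (by omega)
        exact DL_mono (Nat.zero_le _) DL_zero_of_subsingleton
      · have hc : Fintype.card (Fin m × Bool) = Fintype.card α := by
          simp [hα, hm]; ring
        have e : Fin m × Bool ≃ α := Fintype.equivOfCardEq hc
        have h1 : DL (1 + Nat.log 2 m) (Perm (Fin m × Bool)) :=
          DL_perm_prod_bool (ih m (by omega) (Fin m) (by simp))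
        have h2 : Nat.log 2 n = 1 + Nat.log 2 m := by
          have : n = m * 2 := by omega
          rw [this, Nat.log_mul_base (by norm_num) (by omega)]
          ring
        rw [h2]
        exact DL_of_mulEquiv e.permCongrHom h1
    · have hpos : 0 < Fintype.card α := by rw [hα]; exact ho.pos
      obtain ⟨a⟩ := Fintype.card_pos_iff.mp hpos
      apply DL_perm_of_subtype a (by rw [hα]; exact ho)
      have h1 := ih (n - 1) (by have := ho.pos; omega) {x // x ≠ a} (by
        have := card_subtype_ne a
        omega)
      exact DL_mono (Nat.log_mono_right (by omega)) h1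

theorem DL_perm (n : ℕ) : DL (Nat.log 2 n) (Perm (Fin n)) := DL_perm_aux n (Fin n) (by simp)

end perm

section symp

open Matrix

variable {F : Type*} [Field F] [Fintype F]

theorem DL_SL2 (hodd : Odd (Fintype.card F)) : DL 2 (SpecialLinearGroup (Fin 2) F) := by
  classical
  obtain ⟨k, H, hk, ⟨e⟩, hcard⟩ := Cfsg.Agent.Lib.Helper2.sl2_exists_sylow_quaternion hodd
  have : Finite (SpecialLinearGroup (Fin 2) F) := Subtype.finite
  apply DL_of_odd_index H.subtype Subtype.val_injective
  · rw [Subgroup.range_subtype]
    have := (Sylow.ofCard H hcard).not_dvd_index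
    rwa [Sylow.coe_ofCard] at this
  · exact DL_of_mulEquiv e.symm (DL_quaternion _)

theorem DL_symplectic (hF : Odd (Fintype.card F)) (n : ℕ) :
    DL (2 + Nat.log 2 n) (symplecticGroup (Fin n) F) := by
  classical
  have : Finite (symplecticGroup (Fin n) F) := Subtype.finite
  apply DL_of_semidirect' (blkHom F n).range (pmHom F n).range
  · rintro _ ⟨σ, rfl⟩
    apply mem_normalizer_of_conj
    · rintro _ ⟨g, rfl⟩
      exact ⟨_, (pmHom_mul_blkHom σ g).symm⟩
    · rintro _ ⟨g, rfl⟩
      have := pmHom_mul_blkHom σ⁻¹ g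
      rw [map_inv, inv_inv] at this
      exact ⟨_, this.symm⟩
  · ext x
    rw [Subgroup.mem_inf, Subgroup.mem_bot]
    constructor
    · rintro ⟨⟨g, rfl⟩, ⟨σ, hσ⟩⟩
      have h1 : pmMat F σ = blkMat g := congrArg Subtype.val hσ
      rw [pmMat, blkMat, fromBlocks_inj] at h1
      have h2 : σ = 1 := by
        ext j
        by_contra hne
        have h3 := congrFun (congrFun h1.1 (σ j)) j
        rw [pm_apply, if_pos rfl, diagonal_apply_ne _ (fun h => hne (by rw [h]; rfl))] at h3
        exact one_ne_zero h3
      rw [← hσ, h2, map_one]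
    · rintro rfl
      exact ⟨one_mem _, one_mem _⟩
  · rw [Nat.card_congr (MonoidHom.ofInjective blkHom_injective).toEquiv.symm,
      Nat.card_congr (MonoidHom.ofInjective pmHom_injective).toEquiv.symm,
      Cfsg.Agent.Lib.Helper14.card_symplectic, Nat.card_fun, Nat.card_fin, Nat.card_perm,
      Nat.card_fin, Cfsg.Agent.Lib.Helper2.card_SL2,
      val_sp _ hF Fintype.one_lt_card, Nat.factorization_pow, Finsupp.smul_apply, smul_eq_mul]
  · exact DL_of_mulEquiv (MonoidHom.ofInjective blkHom_injective) (DL_pi (DL_SL2 hF) n)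
  · exact DL_of_mulEquiv (MonoidHom.ofInjective pmHom_injective) (DL_perm n)

end symp

end Cfsg.Agent.Lib.Helper16.SylAb
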