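import Cfsg.Agent.Lib.Helper16.DerLen

/-
helper16 library: lower bounds for the derived length of 2-subgroups of internal wreath products
`A wr S_n` (`WreathPair`): elements supported on a set of coordinates, the doubling lemma
`dser_double`.
-/

set_option autoImplicit false

namespace Cfsg.Agent.Lib.Helper16.SylAb


open scoped commutatorElement

/-- the doubling lemma for the derived series -/
theorem dser_double {G Y : Type*} [Group G] [Group Y] (θ : Y × Y →* G) (s : G)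
    (X₂ : Subgroup G) (hθ : θ.range ≤ X₂) (hs : s ∈ X₂)
    (hswap : ∀ c : Y, θ (c, c⁻¹) = ⁅θ (c, 1), s⁆)
    (hind : ∀ c y, θ (c, y) = 1 → c = 1) (j : ℕ) (h : derivedSeries Y j ≠ ⊥) :
    dser X₂ (j + 1) ≠ ⊥ := by
  have key : ∀ j, derivedSeries Y j ≤
      ((dser X₂ (j + 1)).comap θ).map (MonoidHom.fst Y Y) := by
    intro j
    induction j with
    | zero =>
      intro c _
      refine ⟨(c, c⁻¹), ?_, rfl⟩
      show θ (c, c⁻¹) ∈ dser X₂ (0 + 1)
      rw [hswap, dser_succ, dser_zero]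
      exact Subgroup.commutator_mem_commutator (hθ ⟨_, rfl⟩) hs
    | succ j ih =>
      rw [derivedSeries_succ]
      refine (Subgroup.commutator_mono ih ih).trans ?_
      rw [← Subgroup.map_commutator]
      apply Subgroup.map_mono
      rw [Subgroup.commutator_le]
      intro a ha b hb
      rw [Subgroup.mem_comap, map_commutatorElement, dser_succ (j := j + 1)]
      exact Subgroup.commutator_mem_commutator ha hb
  intro hbot
  apply h
  rw [eq_bot_iff]
  intro c hc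
  obtain ⟨⟨c', y⟩, hcy, hfst⟩ := key j hc
  have hcy' : θ (c', y) ∈ dser X₂ (j + 1) := hcy
  rw [hbot, Subgroup.mem_bot] at hcy'
  have : c' = c := hfst
  rw [Subgroup.mem_bot, ← this]
  exact hind c' y hcy'




/-- an internal wreath product `A wr S_n` inside `G` -/
structure WreathPair (G A : Type*) [Group G] [Group A] (n : ℕ) where
  /-- base group -/
  β : (Fin n → A) →* G
  /-- top group -/
  π : Equiv.Perm (Fin n) →* G
  conj : ∀ σ g, π σ * β g * (π σ)⁻¹ = β (fun k => g (σ⁻¹ k))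
  β_inj : Function.Injective β
  disj : ∀ σ g, π σ = β g → σ = 1

namespace WreathPair

variable {G A : Type*} [Group G] [Group A] {n : ℕ} (w : WreathPair G A n)

theorem pi_mul_beta (σ : Equiv.Perm (Fin n)) (g : Fin n → A) :
    w.π σ * w.β g = w.β (fun k => g (σ⁻¹ k)) * w.π σ := by
  rw [← w.conj σ g, inv_mul_cancel_right]

theorem inv_fix {σ : Equiv.Perm (Fin n)} {k : Fin n} (h : σ k = k) : σ⁻¹ k = k := by
  rw [Equiv.Perm.inv_eq_iff_eq, h]

/-- elements supported on `S` -/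
def L (S : Set (Fin n)) : Subgroup G where
  carrier := {x | ∃ g σ, (∀ k ∉ S, g k = 1) ∧ (∀ k ∉ S, σ k = k) ∧ x = w.β g * w.π σ}
  one_mem' := ⟨1, 1, fun _ _ => rfl, fun _ _ => rfl, by rw [map_one, map_one, one_mul]⟩
  mul_mem' := by
    rintro _ _ ⟨g, σ, hg, hσ, rfl⟩ ⟨g', σ', hg', hσ', rfl⟩
    refine ⟨g * fun k => g' (σ⁻¹ k), σ * σ', ?_, ?_, ?_⟩
    · intro k hk
      rw [Pi.mul_apply, hg k hk, inv_fix (hσ k hk), hg' k hk, one_mul]
    · intro k hk
      rw [Equiv.Perm.mul_apply, hσ' k hk, hσ k hk]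
    · rw [map_mul, map_mul, mul_assoc, ← mul_assoc (w.π σ), pi_mul_beta]
      group
  inv_mem' := by
    rintro _ ⟨g, σ, hg, hσ, rfl⟩
    refine ⟨fun k => (g (σ⁻¹⁻¹ k))⁻¹, σ⁻¹, ?_, ?_, ?_⟩
    · intro k hk
      show (g (σ⁻¹⁻¹ k))⁻¹ = 1
      rw [inv_inv, hσ k hk, hg k hk, inv_one]
    · intro k hk
      exact inv_fix (hσ k hk)
    · rw [mul_inv_rev, ← map_inv, ← map_inv, pi_mul_beta]
      rfl

theorem mem_L {S : Set (Fin n)} {x : G} :
    x ∈ w.L S ↔ ∃ g σ, (∀ k ∉ S, g k = 1) ∧ (∀ k ∉ S, σ k = k) ∧ x = w.β g * w.π σ := Iff.rfl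

theorem L_mono {S S' : Set (Fin n)} (h : S ⊆ S') : w.L S ≤ w.L S' := by
  rintro _ ⟨g, σ, hg, hσ, rfl⟩
  exact ⟨g, σ, fun k hk => hg k (fun h' => hk (h h')), fun k hk => hσ k (fun h' => hk (h h')), rfl⟩

theorem pi_mem_L {S : Set (Fin n)} (τ : Equiv.Perm (Fin n)) (h : ∀ k ∉ S, τ k = k) :
    w.π τ ∈ w.L S :=
  ⟨1, τ, fun _ _ => rfl, h, by rw [map_one, one_mul]⟩

theorem beta_mem_L {S : Set (Fin n)} (g : Fin n → A) (h : ∀ k ∉ S, g k = 1) :
    w.β g ∈ w.L S :=
  ⟨g, 1, h, fun _ _ => rfl, by rw [map_one, mul_one]⟩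

theorem L_conj {S : Set (Fin n)} (τ : Equiv.Perm (Fin n)) {x : G} (hx : x ∈ w.L S) :
    w.π τ * x * (w.π τ)⁻¹ ∈ w.L (τ '' S) := by
  obtain ⟨g, σ, hg, hσ, rfl⟩ := hx
  refine ⟨fun k => g (τ⁻¹ k), τ * σ * τ⁻¹, ?_, ?_, ?_⟩
  · intro k hk
    apply hg
    intro h
    apply hk
    exact ⟨τ⁻¹ k, h, by rw [Equiv.Perm.inv_def, Equiv.apply_symm_apply]⟩
  · intro k hk
    rw [Equiv.Perm.mul_apply, Equiv.Perm.mul_apply, hσ, Equiv.Perm.inv_def,
      Equiv.apply_symm_apply]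
    intro h
    apply hk
    exact ⟨τ⁻¹ k, h, by rw [Equiv.Perm.inv_def, Equiv.apply_symm_apply]⟩
  · rw [← mul_assoc, pi_mul_beta, map_mul, map_mul, map_inv]
    group

theorem L_commute {S S' : Set (Fin n)} (hd : Disjoint S S') {x y : G} (hx : x ∈ w.L S)
    (hy : y ∈ w.L S') : Commute x y := by
  obtain ⟨g, σ, hg, hσ, rfl⟩ := hx
  obtain ⟨g', σ', hg', hσ', rfl⟩ := hy
  have hSS : ∀ k, k ∈ S → k ∉ S' := fun k h1 h2 => Set.disjoint_left.mp hd h1 h2
  -- σ and σ' commute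
  have hσσ : σ * σ' = σ' * σ := by
    apply Equiv.Perm.Disjoint.commute
    intro k
    by_cases hk : k ∈ S
    · right; exact hσ' k (hSS k hk)
    · left; exact hσ k hk
  have h1 : (fun k => g' (σ⁻¹ k)) = g' := by
    funext k
    by_cases hk : k ∈ S
    · rw [hg' k (hSS k hk)]
      apply hg'
      intro h
      -- σ⁻¹ k ∈ S' so not in S so fixed by σ
      have h2 : σ (σ⁻¹ k) = σ⁻¹ k := hσ _ (fun h3 => hSS _ h3 h)
      rw [Equiv.Perm.inv_def, Equiv.apply_symm_apply] at h2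
      rw [← Equiv.Perm.inv_def] at h2
      rw [← h2] at h
      exact hSS k hk h
    · rw [inv_fix (hσ k hk)]
  have h2 : (fun k => g (σ'⁻¹ k)) = g := by
    funext k
    by_cases hk : k ∈ S'
    · rw [hg k (fun h => hSS k h hk)]
      apply hg
      intro h
      have h2 : σ' (σ'⁻¹ k) = σ'⁻¹ k := hσ' _ (hSS _ h)
      rw [Equiv.Perm.inv_def, Equiv.apply_symm_apply] at h2
      rw [← Equiv.Perm.inv_def] at h2
      rw [← h2] at h
      exact hSS k h hk
    · rw [inv_fix (hσ' k hk)]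
  have h3 : g * g' = g' * g := by
    funext k
    rw [Pi.mul_apply, Pi.mul_apply]
    by_cases hk : k ∈ S
    · rw [hg' k (hSS k hk), one_mul, mul_one]
    · rw [hg k hk, one_mul, mul_one]
  show w.β g * w.π σ * (w.β g' * w.π σ') = w.β g' * w.π σ' * (w.β g * w.π σ)
  calc w.β g * w.π σ * (w.β g' * w.π σ') = w.β g * (w.π σ * w.β g') * w.π σ' := by group
    _ = w.β g * (w.β g' * w.π σ) * w.π σ' := by rw [pi_mul_beta, h1]
    _ = w.β (g * g') * w.π (σ * σ') := by rw [map_mul, map_mul]; group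
    _ = w.β (g' * g) * w.π (σ' * σ) := by rw [h3, hσσ]
    _ = w.β g' * (w.β g * w.π σ') * w.π σ := by rw [map_mul, map_mul]; group
    _ = w.β g' * (w.π σ' * w.β g) * w.π σ := by rw [pi_mul_beta, h2]
    _ = w.β g' * w.π σ' * (w.β g * w.π σ) := by group

theorem L_indep {S S' : Set (Fin n)} (hd : Disjoint S S') {x y : G} (hx : x ∈ w.L S)
    (hy : y ∈ w.L S') (hxy : x * y = 1) : x = 1 := by
  obtain ⟨g, σ, hg, hσ, rfl⟩ := hx
  obtain ⟨g', σ', hg', hσ', rfl⟩ := hy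
  have hSS : ∀ k, k ∈ S → k ∉ S' := fun k h1 h2 => Set.disjoint_left.mp hd h1 h2
  have e : w.β g * w.π σ * (w.β g' * w.π σ') =
      w.β (g * fun k => g' (σ⁻¹ k)) * w.π (σ * σ') := by
    rw [map_mul, map_mul, mul_assoc, ← mul_assoc (w.π σ), pi_mul_beta]
    group
  rw [e] at hxy
  have h1 : w.π (σ * σ') = w.β (g * fun k => g' (σ⁻¹ k))⁻¹ := by
    rw [map_inv]
    exact (inv_eq_of_mul_eq_one_right hxy).symm
  have hρ : σ * σ' = 1 := w.disj _ _ h1
  rw [hρ, map_one, mul_one] at hxy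
  have hh : (g * fun k => g' (σ⁻¹ k)) = 1 := w.β_inj (hxy.trans (map_one w.β).symm)
  have hσ1 : σ = 1 := by
    ext k
    by_cases hk : k ∈ S
    · have h2 : σ' k = k := hσ' k (hSS k hk)
      have h3 : (σ * σ') k = k := by rw [hρ]; rfl
      rw [Equiv.Perm.mul_apply, h2] at h3
      rw [h3]; rfl
    · rw [hσ k hk]; rfl
  have hg1 : g = 1 := by
    funext k
    have h2 := congrFun hh k
    rw [Pi.mul_apply, hσ1, inv_one] at h2
    by_cases hk : k ∈ S
    · have h3 : g' ((1 : Equiv.Perm (Fin n)) k) = 1 := hg' k (hSS k hk)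
      rw [h3, mul_one] at h2
      exact h2
    · exact hg k hk
  rw [hg1, hσ1, map_one, map_one, mul_one]

end WreathPair


end Cfsg.Agent.Lib.Helper16.SylAb
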