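import Cfsg.Agent.Lib.Helper16.DerLen3
import Cfsg.Agent.Lib.Helper16.SylAb3

/-
helper16 library: iterated doubling inside an internal wreath product: a 2-subgroup of
`A wr S_n` of derived length at least `j₀ + r` when `2 ^ r ≤ n`.
-/

set_option autoImplicit false

namespace Cfsg.Agent.Lib.Helper16.SylAb


open scoped commutatorElement

/-- initial segment of length `2 ^ r` -/
def seg (n r : ℕ) : Set (Fin n) := {k | k.val < 2 ^ r}

/-- swapping the two halves of `seg n (r + 1)` -/
def halfSwapFun (n r : ℕ) (h : 2 ^ (r + 1) ≤ n) (k : Fin n) : Fin n :=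
  if h1 : k.val < 2 ^ r then ⟨k.val + 2 ^ r, by have := pow_succ 2 r; omega⟩
  else if k.val < 2 ^ (r + 1) then ⟨k.val - 2 ^ r, Nat.lt_of_le_of_lt (Nat.sub_le _ _) k.isLt⟩ else k

theorem halfSwapFun_val (n r : ℕ) (h : 2 ^ (r + 1) ≤ n) (k : Fin n) :
    (halfSwapFun n r h k).val = if k.val < 2 ^ r then k.val + 2 ^ r
      else if k.val < 2 ^ (r + 1) then k.val - 2 ^ r else k.val := by
  unfold halfSwapFun
  split_ifs <;> rfl

theorem halfSwapFun_involutive (n r : ℕ) (h : 2 ^ (r + 1) ≤ n) :
    Function.Involutive (halfSwapFun n r h) := by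
  intro k
  apply Fin.ext
  rw [halfSwapFun_val, halfSwapFun_val]
  have := pow_succ 2 r
  split_ifs <;> omega

/-- the permutation swapping the two halves of `seg n (r + 1)` -/
def halfSwap (n r : ℕ) (h : 2 ^ (r + 1) ≤ n) : Equiv.Perm (Fin n) :=
  (halfSwapFun_involutive n r h).toPerm

theorem halfSwap_val (n r : ℕ) (h : 2 ^ (r + 1) ≤ n) (k : Fin n) :
    (halfSwap n r h k).val = if k.val < 2 ^ r then k.val + 2 ^ r
      else if k.val < 2 ^ (r + 1) then k.val - 2 ^ r else k.val :=
  halfSwapFun_val n r h k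

theorem halfSwap_mul_self (n r : ℕ) (h : 2 ^ (r + 1) ≤ n) :
    halfSwap n r h * halfSwap n r h = 1 := by
  ext k
  exact congrArg Fin.val (halfSwapFun_involutive n r h k)

theorem halfSwap_fix (n r : ℕ) (h : 2 ^ (r + 1) ≤ n) (k : Fin n) (hk : k ∉ seg n (r + 1)) :
    halfSwap n r h k = k := by
  apply Fin.ext
  rw [halfSwap_val]
  have : ¬ k.val < 2 ^ (r + 1) := hk
  have := pow_succ 2 r
  split_ifs <;> omega

theorem halfSwap_image_disjoint (n r : ℕ) (h : 2 ^ (r + 1) ≤ n) :
    Disjoint (seg n r) (halfSwap n r h '' seg n r) := by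
  rw [Set.disjoint_left]
  rintro k hk ⟨l, hl, rfl⟩
  have h1 : (halfSwap n r h l).val < 2 ^ r := hk
  have h2 : l.val < 2 ^ r := hl
  rw [halfSwap_val, if_pos h2] at h1
  omega

theorem halfSwap_image_subset (n r : ℕ) (h : 2 ^ (r + 1) ≤ n) :
    halfSwap n r h '' seg n r ⊆ seg n (r + 1) := by
  rintro _ ⟨l, hl, rfl⟩
  have h2 : l.val < 2 ^ r := hl
  show (halfSwap n r h l).val < 2 ^ (r + 1)
  rw [halfSwap_val, if_pos h2]
  have := pow_succ 2 r
  omega

theorem seg_subset (n r : ℕ) : seg n r ⊆ seg n (r + 1) := by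
  intro k hk
  have h2 : k.val < 2 ^ r := hk
  show k.val < 2 ^ (r + 1)
  have := pow_succ 2 r
  omega

theorem isPGroup_zpowers_of_mul_self {G : Type*} [Group G] (s : G) (hs : s * s = 1) :
    IsPGroup 2 (Subgroup.zpowers s) := by
  rintro ⟨g, k, rfl⟩
  refine ⟨1, ?_⟩
  apply Subtype.ext
  show (s ^ k) ^ 2 ^ 1 = 1
  rw [pow_one, ← zpow_natCast, ← zpow_mul, mul_comm, zpow_mul, zpow_natCast, pow_two, hs, one_zpow]

namespace WreathPair

variable {G A : Type*} [Group G] [Group A] {n : ℕ} (w : WreathPair G A n)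

theorem exists_long (Y : Subgroup A) (hY : IsPGroup 2 Y) (j₀ : ℕ) (hY1 : dser Y j₀ ≠ ⊥) :
    ∀ r, 2 ^ r ≤ n → ∃ X : Subgroup G, IsPGroup 2 X ∧ X ≤ w.L (seg n r) ∧
      dser X (j₀ + r) ≠ ⊥ := by
  intro r
  induction r with
  | zero =>
    intro hn
    have hn1 : 0 < n := by
      have : 1 ≤ n := by simpa using hn
      omega
    obtain ⟨f, hf⟩ : ∃ f : A →* G,
        f = w.β.comp (MonoidHom.mulSingle (fun _ : Fin n => A) (⟨0, hn1⟩ : Fin n)) := ⟨_, rfl⟩
    have hfinj : Function.Injective f := by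
      rw [hf]
      have hms : Function.Injective
          (MonoidHom.mulSingle (fun _ : Fin n => A) (⟨0, hn1⟩ : Fin n)) :=
        Pi.mulSingle_injective (M := fun _ : Fin n => A) _
      exact w.β_inj.comp hms
    refine ⟨Y.map f, hY.map f, ?_, ?_⟩
    · rintro _ ⟨y, _, rfl⟩
      rw [hf]
      apply w.beta_mem_L
      intro k hk
      apply Pi.mulSingle_eq_of_ne
      intro h
      apply hk
      show k.val < 2 ^ 0
      rw [h]
      simp
    · rw [Nat.add_zero, dser_map, Ne, Subgroup.map_eq_bot_iff_of_injective _ hfinj]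
      exact hY1
  | succ r ih =>
    intro hn
    have hn' : 2 ^ r ≤ n := by
      have := pow_succ 2 r
      omega
    obtain ⟨X, hX2, hXL, hXd⟩ := ih hn'
    set τ := halfSwap n r hn with hτ
    set s := w.π τ with hs
    have hs1 : s * s = 1 := by
      rw [hs, ← map_mul, halfSwap_mul_self, map_one]
    obtain ⟨cs, hcs⟩ : ∃ cs : G →* G, cs = (MulAut.conj s).toMonoidHom := ⟨_, rfl⟩
    have hcs_apply : ∀ x, cs x = s * x * s⁻¹ := by
      intro x; rw [hcs]; rfl
    have hcscs : ∀ x, cs (cs x) = x := by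
      intro x
      rw [hcs_apply, hcs_apply]
      have sinv : s⁻¹ = s := inv_eq_of_mul_eq_one_right hs1
      rw [sinv]
      calc s * (s * x * s) * s = (s * s) * x * (s * s) := by group
        _ = x := by rw [hs1, one_mul, mul_one]
    have hXs : X.map cs ≤ w.L (τ '' seg n r) := by
      rintro _ ⟨x, hx, rfl⟩
      rw [hcs_apply]
      exact w.L_conj τ (hXL hx)
    have hd := halfSwap_image_disjoint n r hn
    have hcomm : ∀ a ∈ X, ∀ b ∈ X, Commute a (cs b) := by
      intro a ha b hb
      exact w.L_commute hd (hXL ha) (hXs ⟨b, hb, rfl⟩)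
    have hsL : s ∈ w.L (seg n (r + 1)) := w.pi_mem_L τ (halfSwap_fix n r hn)
    refine ⟨(X ⊔ X.map cs) ⊔ Subgroup.zpowers s, ?_, ?_, ?_⟩
    · -- 2-group
      have h1 : IsPGroup 2 (X ⊔ X.map cs : Subgroup G) := by
        apply hX2.to_sup_of_normal_right' (hX2.map cs)
        intro a ha
        apply mem_normalizer_of_conj
        · rintro _ ⟨b, hb, rfl⟩
          have := (hcomm a ha b hb).eq
          rw [this, mul_inv_cancel_right]
          exact ⟨b, hb, rfl⟩
        · rintro _ ⟨b, hb, rfl⟩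
          have := (hcomm a ha b hb).eq
          rw [mul_assoc, ← this, inv_mul_cancel_left]
          exact ⟨b, hb, rfl⟩
      have h2 : IsPGroup 2 (Subgroup.zpowers s) := isPGroup_zpowers_of_mul_self s hs1
      have h3 : Subgroup.zpowers s ≤ Subgroup.normalizer ((X ⊔ X.map cs : Subgroup G) : Set G) := by
        rw [Subgroup.zpowers_le, Subgroup.mem_normalizer_iff_map_conj_eq]
        show (X ⊔ X.map cs).map (MulAut.conj s).toMonoidHom = X ⊔ X.map cs
        rw [← hcs, Subgroup.map_sup, Subgroup.map_map]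
        have : cs.comp cs = MonoidHom.id G := by
          ext x
          exact hcscs x
        rw [this, Subgroup.map_id, sup_comm]
      have h4 := h2.to_sup_of_normal_right' h1 h3
      rwa [sup_comm] at h4
    · refine sup_le (sup_le ?_ ?_) ?_
      · exact hXL.trans (w.L_mono (seg_subset n r))
      · exact hXs.trans (w.L_mono (halfSwap_image_subset n r hn))
      · rw [Subgroup.zpowers_le]
        exact hsL
    · have hne : derivedSeries ↥X (j₀ + r) ≠ ⊥ := by
        rw [Ne, derivedSeries_eq_bot_iff]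
        exact hXd
      have hcomm' : ∀ (a b : ↥X), Commute (X.subtype a) ((cs.comp X.subtype) b) :=
        fun a b => hcomm a a.2 b b.2
      have := dser_double (MonoidHom.noncommCoprod X.subtype (cs.comp X.subtype) hcomm') s
        ((X ⊔ X.map cs) ⊔ Subgroup.zpowers s) ?_ ?_ ?_ ?_ (j₀ + r) hne
      · exact this
      · rintro _ ⟨⟨a, b⟩, rfl⟩
        rw [MonoidHom.noncommCoprod_apply]
        apply Subgroup.mem_sup_left
        exact Subgroup.mul_mem _ (Subgroup.mem_sup_left a.2)
          (Subgroup.mem_sup_right ⟨b, b.2, rfl⟩)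
      · exact Subgroup.mem_sup_right (Subgroup.mem_zpowers s)
      · intro c
        rw [MonoidHom.noncommCoprod_apply, MonoidHom.noncommCoprod_apply, commutatorElement_def]
        show (c : G) * cs ((c⁻¹ : ↥X) : G) = (c : G) * cs ((1 : ↥X) : G) * s *
          ((c : G) * cs ((1 : ↥X) : G))⁻¹ * s⁻¹
        rw [Subgroup.coe_one, map_one, mul_one, hcs_apply, Subgroup.coe_inv]
        group
      · intro c y hcy
        rw [MonoidHom.noncommCoprod_apply] at hcy
        apply Subtype.ext
        exact w.L_indep hd (hXL c.2) (hXs ⟨y, y.2, rfl⟩) hcy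

end WreathPair


end Cfsg.Agent.Lib.Helper16.SylAb
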