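import Cfsg.Agent.Lib.Helper16.DerLen2
import Cfsg.Agent.Lib.Helper16.DerLen4

/-
helper16 library: the derived length of a Sylow 2-subgroup of `Sp_{2n}(q)`, `q` odd, is
`Nat.log 2 (2 * n) + 1`.
-/

set_option autoImplicit false

namespace Cfsg.Agent.Lib.Helper16.SylAb

open scoped commutatorElement
open Matrix

theorem dser_ne_bot_of_sylow {G : Type*} [Group G] [Finite G] (X : Subgroup G)
    (hX : IsPGroup 2 X) (j : ℕ) (h : dser X j ≠ ⊥) (R : Sylow 2 G) :
    dser (R : Subgroup G) j ≠ ⊥ := by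
  obtain ⟨P, hP⟩ := hX.exists_le_sylow
  obtain ⟨g, hg⟩ := MulAction.exists_smul_eq G R P
  intro hR
  apply h
  rw [eq_bot_iff]
  refine (dser_mono hP j).trans ?_
  rw [← hg, Sylow.coe_subgroup_smul, Subgroup.pointwise_smul_def]
  obtain ⟨c, hc⟩ : ∃ c : G →* G,
    c = MulDistribMulAction.toMonoidEnd (MulAut G) G (MulAut.conj g) := ⟨_, rfl⟩
  rw [← hc, dser_map, hR, Subgroup.map_bot]

theorem quaternion_not_comm (k : ℕ) (hk : 1 ≤ k) :
    ⁅(QuaternionGroup.a 1 : QuaternionGroup (2 ^ k)),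
      (QuaternionGroup.xa 0 : QuaternionGroup (2 ^ k))⁆ ≠ 1 := by
  intro h
  rw [commutatorElement_eq_one_iff_mul_comm, QuaternionGroup.a_mul_xa,
    QuaternionGroup.xa_mul_a] at h
  have h1 : (0 : ZMod (2 * 2 ^ k)) - 1 = 0 + 1 := by
    injection h
  have h2 : ((2 : ℕ) : ZMod (2 * 2 ^ k)) = 0 := by
    push_cast
    linear_combination -h1
  rw [ZMod.natCast_eq_zero_iff] at h2
  have h3 : 2 * 2 ^ k ≤ 2 := Nat.le_of_dvd (by norm_num) h2
  have h4 : 2 ^ 1 ≤ 2 ^ k := Nat.pow_le_pow_right (by norm_num) hk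
  omega

section symp

variable {F : Type*} [Field F] [Fintype F]

theorem exists_nonabelian_two_subgroup_SL2 (hodd : Odd (Fintype.card F)) :
    ∃ Y : Subgroup (SpecialLinearGroup (Fin 2) F), IsPGroup 2 Y ∧ dser Y 1 ≠ ⊥ := by
  classical
  obtain ⟨k, H, hk, ⟨e⟩, hcard⟩ := Cfsg.Agent.Lib.Helper2.sl2_exists_sylow_quaternion hodd
  refine ⟨H, IsPGroup.of_card hcard, ?_⟩
  intro hbot
  have h1 : ⁅((e.symm (QuaternionGroup.a 1) : ↥H) : SpecialLinearGroup (Fin 2) F),
      ((e.symm (QuaternionGroup.xa 0) : ↥H) : SpecialLinearGroup (Fin 2) F)⁆ ∈ dser H 1 := by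
    rw [dser_succ, dser_zero]
    exact Subgroup.commutator_mem_commutator (e.symm _).2 (e.symm _).2
  rw [hbot, Subgroup.mem_bot] at h1
  have h2 : ⁅(e.symm (QuaternionGroup.a 1) : ↥H), e.symm (QuaternionGroup.xa 0)⁆ = 1 := by
    apply Subtype.ext
    exact h1
  rw [← map_commutatorElement] at h2
  have h3 := e.symm.injective (h2.trans (map_one e.symm).symm)
  exact quaternion_not_comm k hk h3

/-- the wreath pair `SL_2 wr S_n` in `Sp_{2n}` -/
def spWreathPair (F : Type*) [Field F] (n : ℕ) :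
    WreathPair (symplecticGroup (Fin n) F) (SpecialLinearGroup (Fin 2) F) n where
  β := blkHom F n
  π := pmHom F n
  conj := pmHom_mul_blkHom
  β_inj := blkHom_injective
  disj := by
    intro σ g hσ
    have h1 : pmMat F σ = blkMat g := congrArg Subtype.val hσ
    rw [pmMat, blkMat, fromBlocks_inj] at h1
    ext j
    by_contra hne
    have h3 := congrFun (congrFun h1.1 (σ j)) j
    rw [pm_apply, if_pos rfl, diagonal_apply_ne _ (fun h => hne (by rw [h]; rfl))] at h3
    exact one_ne_zero h3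

theorem derived_length_sylow_symplectic (hodd : Odd (Fintype.card F)) (n : ℕ) (hn : 1 ≤ n)
    (R : Sylow 2 ↥(symplecticGroup (Fin n) F)) :
    derivedSeries ↥(R : Subgroup ↥(symplecticGroup (Fin n) F)) (Nat.log 2 (2 * n) + 1) = ⊥ ∧
    derivedSeries ↥(R : Subgroup ↥(symplecticGroup (Fin n) F)) (Nat.log 2 (2 * n)) ≠ ⊥ := by
  classical
  have : Finite (symplecticGroup (Fin n) F) := Subtype.finite
  have hlog : Nat.log 2 (2 * n) = Nat.log 2 n + 1 := by
    rw [mul_comm, Nat.log_mul_base (by norm_num) (by omega)]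
  constructor
  · rw [derivedSeries_eq_bot_iff, hlog]
    have h1 := DL_symplectic hodd n (R : Subgroup ↥(symplecticGroup (Fin n) F)) R.isPGroup'
    have e : Nat.log 2 n + 1 + 1 = 2 + Nat.log 2 n := by ring
    rw [e]
    exact h1
  · rw [Ne, derivedSeries_eq_bot_iff, hlog]
    obtain ⟨Y, hY, hY1⟩ := exists_nonabelian_two_subgroup_SL2 hodd
    obtain ⟨X, hX, -, hXd⟩ := (spWreathPair F n).exists_long Y hY 1 hY1 (Nat.log 2 n)
      (Nat.pow_log_le_self 2 (by omega))
    have e : Nat.log 2 n + 1 = 1 + Nat.log 2 n := by ring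
    rw [e]
    exact dser_ne_bot_of_sylow X hX _ hXd R

end symp

end Cfsg.Agent.Lib.Helper16.SylAb
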