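import Mathlib.GroupTheory.Sylow
import Mathlib.GroupTheory.SpecificGroups.Dihedral
import Cfsg.Prelude.Def_Solvable
import Cfsg.Agent.Lib.Helper16.DihedralInvolved
import Cfsg.Agent.Lib.Helper1.Basic

set_option autoImplicit false
set_option linter.style.haveILetI false
set_option linter.unusedSectionVars false
open Cfsg
open scoped Pointwise commutatorElement

namespace Cfsg.Agent.Lib.Helper16

-- DQ1 START
section DihFacts

variable {r : ℕ} [hrp : Fact r.Prime]

theorem two_ne_zero_zmod (hr : r ≠ 2) : (2 : ZMod r) ≠ 0 := by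
  intro h
  have : ((2 : ℕ) : ZMod r) = 0 := by exact_mod_cast h
  rw [ZMod.natCast_eq_zero_iff] at this
  exact hr ((Nat.prime_dvd_prime_iff_eq hrp.out Nat.prime_two).mp this)

/-- an involution of `D_{2r}`, `r` odd, is a reflection. -/
theorem dih_involution (hr : r ≠ 2) (d : DihedralGroup r) (h2 : d * d = 1) (h1 : d ≠ 1) :
    ∃ j : ZMod r, d = DihedralGroup.sr j := by
  rcases d with i | j
  · exfalso
    rw [DihedralGroup.r_mul_r, DihedralGroup.one_def] at h2
    have h3 : i + i = 0 := by injection h2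
    have h4 : (2 : ZMod r) * i = 0 := by rw [two_mul]; exact h3
    haveI : IsDomain (ZMod r) := inferInstance
    rcases mul_eq_zero.mp h4 with h | h
    · exact two_ne_zero_zmod hr h
    · apply h1; rw [h, DihedralGroup.one_def]
  · exact ⟨j, rfl⟩

/-- all reflections are conjugate under rotations (`r` odd). -/
theorem dih_conj_sr (hr : r ≠ 2) (i j : ZMod r) :
    ∃ t : ZMod r, DihedralGroup.r t * DihedralGroup.sr i * (DihedralGroup.r t)⁻¹ =
      DihedralGroup.sr j := by
  haveI : IsDomain (ZMod r) := inferInstance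
  have h2 := two_ne_zero_zmod (r := r) hr
  refine ⟨(i - j) * (2 : ZMod r)⁻¹, ?_⟩
  rw [DihedralGroup.r_mul_sr, DihedralGroup.inv_r, DihedralGroup.sr_mul_r]
  congr 1
  have h3 : (2 : ZMod r) * (2 : ZMod r)⁻¹ = 1 := mul_inv_cancel₀ h2
  have h4 : (i - j) * (2 : ZMod r)⁻¹ + (i - j) * (2 : ZMod r)⁻¹ = i - j := by
    rw [← two_mul, mul_comm (i - j), ← mul_assoc, h3, one_mul]
  linear_combination (-1 : ZMod r) * h4

theorem dih_sr_mul_sr_succ (j : ZMod r) :
    DihedralGroup.sr j * DihedralGroup.sr (j + 1) = DihedralGroup.r (1 : ZMod r) := by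
  rw [DihedralGroup.sr_mul_sr]; congr 1; ring

/-- an element of odd prime power order is a rotation. -/
theorem dih_mem_rot_of_pow (hr : r ≠ 2) (d : DihedralGroup r) (k : ℕ) (h : d ^ (r ^ k) = 1) :
    d ∈ dihRot r := by
  by_contra hd
  obtain ⟨j, rfl⟩ := (not_mem_dihRot_iff d).mp hd
  have h1 : orderOf (DihedralGroup.sr j) ∣ r ^ k := orderOf_dvd_of_pow_eq_one h
  rw [DihedralGroup.orderOf_sr] at h1
  have h2 : 2 ∣ r := Nat.Prime.dvd_of_dvd_pow Nat.prime_two h1
  exact hr ((Nat.prime_dvd_prime_iff_eq Nat.prime_two hrp.out).mp h2).symm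

theorem card_dihRot : Nat.card (dihRot r) = r := by
  haveI : NeZero r := ⟨hrp.out.ne_zero⟩
  have e : ZMod r ≃ dihRot r :=
    { toFun := fun i => ⟨DihedralGroup.r i, i, rfl⟩
      invFun := fun d => Classical.choose d.2
      left_inv := by
        intro i
        have h := Classical.choose_spec (⟨DihedralGroup.r i, i, rfl⟩ : dihRot r).2
        have h' : DihedralGroup.r i = DihedralGroup.r (Classical.choose
          (⟨DihedralGroup.r i, i, rfl⟩ : dihRot r).2) := h
        injection h' with h''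
        exact h''.symm
      right_inv := by
        intro d
        apply Subtype.ext
        exact (Classical.choose_spec d.2).symm }
  rw [← Nat.card_congr e, Nat.card_zmod]

end DihFacts

-- DQ2 START
section Setup

variable {G : Type*} [Group G] [Finite G] {r : ℕ} [hrp : Fact r.Prime]
  (Q : Subgroup G) [hQn : Q.Normal]
  (π : G →* DihedralGroup r)

/-- the structure of the normalizer of a Sylow `r`-subgroup acting fixed-point-freely on `Q`. -/
theorem dq_structure (hr : r ≠ 2) (hQ2 : IsPGroup 2 ↥Q) (hπs : Function.Surjective π)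
    (hker : π.ker = Q) (R : Sylow r G)
    (hC : Q ⊓ Subgroup.centralizer ((R : Subgroup G) : Set G) = ⊥) :
    (R : Subgroup G) ⊓ Q = ⊥ ∧
    Subgroup.normalizer ((R : Subgroup G) : Set G) ⊓ Q = ⊥ ∧
    (R : Subgroup G).map π = dihRot r ∧
    (∀ g : G, ∃ n ∈ Subgroup.normalizer ((R : Subgroup G) : Set G), ∃ q ∈ Q, g = n * q) ∧
    (∀ x ∈ Subgroup.normalizer ((R : Subgroup G) : Set G),
      ∀ y ∈ Subgroup.normalizer ((R : Subgroup G) : Set G), π x = π y → x = y) ∧
    (∀ d : DihedralGroup r, ∃ n ∈ Subgroup.normalizer ((R : Subgroup G) : Set G), π n = d) := by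
  haveI : Fact (Nat.Prime 2) := ⟨Nat.prime_two⟩
  have h1 : (R : Subgroup G) ⊓ Q = ⊥ :=
    disjoint_iff.mp (IsPGroup.disjoint_of_ne r 2 hr _ _ R.isPGroup' hQ2)
  have h2 : Subgroup.normalizer ((R : Subgroup G) : Set G) ⊓ Q = ⊥ := by
    rw [Subgroup.eq_bot_iff_forall]
    rintro q ⟨hqN, hqQ⟩
    have hqC : q ∈ Subgroup.centralizer ((R : Subgroup G) : Set G) := by
      rw [Subgroup.mem_centralizer_iff]
      intro x hx
      have h3 : q * x * q⁻¹ * x⁻¹ ∈ (R : Subgroup G) ⊓ Q := by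
        refine Subgroup.mem_inf.mpr ⟨?_, ?_⟩
        · exact Subgroup.mul_mem _ ((Subgroup.mem_normalizer_iff.mp hqN x).mp hx)
            (Subgroup.inv_mem _ hx)
        · have : q * x * q⁻¹ * x⁻¹ = q * (x * q⁻¹ * x⁻¹) := by group
          rw [this]
          exact Q.mul_mem hqQ (hQn.conj_mem _ (Q.inv_mem hqQ) x)
      rw [h1, Subgroup.mem_bot] at h3
      have : q * x = (q * x * q⁻¹ * x⁻¹) * (x * q) := by group
      rw [this, h3, one_mul]
    have : q ∈ Q ⊓ Subgroup.centralizer ((R : Subgroup G) : Set G) :=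
      Subgroup.mem_inf.mpr ⟨hqQ, hqC⟩
    rw [hC] at this
    exact Subgroup.mem_bot.mp this
  have h3le : (R : Subgroup G).map π ≤ dihRot r := by
    rintro _ ⟨x, hx, rfl⟩
    obtain ⟨k, hk⟩ := R.isPGroup' ⟨x, hx⟩
    have hk' : x ^ (r ^ k) = 1 := by simpa using congrArg Subtype.val hk
    apply dih_mem_rot_of_pow hr (π x) k
    rw [← map_pow, hk', map_one]
  have h3 : (R : Subgroup G).map π = dihRot r := by
    have hrot : IsPGroup r ↥(dihRot r) := by
      rw [IsPGroup.iff_card]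
      exact ⟨1, by rw [card_dihRot, pow_one]⟩
    have hm := (R.mapSurjective hπs).is_maximal' hrot (by
      rw [Sylow.coe_mapSurjective]; exact h3le)
    rw [Sylow.coe_mapSurjective] at hm
    exact hm.symm
  have h4 : ∀ g : G, ∃ n ∈ Subgroup.normalizer ((R : Subgroup G) : Set G), ∃ q ∈ Q,
      g = n * q := by
    intro g
    set K : Subgroup G := (dihRot r).comap π with hK
    haveI hKn : K.Normal := Subgroup.Normal.comap inferInstance π
    have hRK : (R : Subgroup G) ≤ K := by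
      intro x hx
      rw [hK, Subgroup.mem_comap]
      exact h3le ⟨x, hx, rfl⟩
    have hfr := Sylow.normalizer_sup_eq_top' R hRK
    have hg : g ∈ Subgroup.normalizer ((R : Subgroup G) : Set G) ⊔ K := by
      have := Subgroup.mem_top g; rw [← hfr] at this; exact this
    rw [Subgroup.mem_sup_of_normal_right] at hg
    obtain ⟨n, hn, k, hk, rfl⟩ := hg
    have hk' : π k ∈ (R : Subgroup G).map π := by rw [h3]; exact hk
    obtain ⟨x, hx, hxk⟩ := hk'
    refine ⟨n * x, Subgroup.mul_mem _ hn (Subgroup.le_normalizer hx), x⁻¹ * k, ?_, by group⟩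
    rw [← hker, MonoidHom.mem_ker, map_mul, map_inv, hxk, inv_mul_cancel]
  refine ⟨h1, h2, h3, h4, ?_, ?_⟩
  · intro x hx y hy hxy
    have h5 : x⁻¹ * y ∈ Subgroup.normalizer ((R : Subgroup G) : Set G) ⊓ Q := by
      refine Subgroup.mem_inf.mpr ⟨Subgroup.mul_mem _ (Subgroup.inv_mem _ hx) hy, ?_⟩
      rw [← hker, MonoidHom.mem_ker, map_mul, map_inv, hxy, inv_mul_cancel]
    rw [h2, Subgroup.mem_bot] at h5
    exact (inv_mul_eq_one.mp h5)
  · intro d
    obtain ⟨g, rfl⟩ := hπs d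
    obtain ⟨n, hn, q, hq, rfl⟩ := h4 g
    refine ⟨n, hn, ?_⟩
    have : π q = 1 := by rw [← MonoidHom.mem_ker, hker]; exact hq
    rw [map_mul, this, mul_one]

/-- the hypothesis passes to conjugate Sylow subgroups. -/
theorem dq_conj (R : Sylow r G)
    (hC : Q ⊓ Subgroup.centralizer ((R : Subgroup G) : Set G) = ⊥) (g : G) :
    Q ⊓ Subgroup.centralizer (((g • R : Sylow r G) : Subgroup G) : Set G) = ⊥ := by
  rw [Subgroup.eq_bot_iff_forall]
  rintro x ⟨hxQ, hxC⟩
  have h1 : g⁻¹ * x * g ∈ Q ⊓ Subgroup.centralizer ((R : Subgroup G) : Set G) := by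
    refine Subgroup.mem_inf.mpr ⟨?_, ?_⟩
    · have := hQn.conj_mem x hxQ g⁻¹
      simpa using this
    · rw [Subgroup.mem_centralizer_iff]
      intro y hy
      have hy' : g * y * g⁻¹ ∈ ((g • R : Sylow r G) : Subgroup G) := by
        rw [Cfsg.Agent.Lib.Helper1.mem_sylow_smul_iff]
        have : g⁻¹ * (g * y * g⁻¹) * g = y := by group
        rw [this]; exact hy
      have h2 := (Subgroup.mem_centralizer_iff.mp hxC) _ hy'
      calc y * (g⁻¹ * x * g) = g⁻¹ * ((g * y * g⁻¹) * x) * g := by group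
        _ = g⁻¹ * (x * (g * y * g⁻¹)) * g := by rw [h2]
        _ = g⁻¹ * x * g * y := by group
  rw [hC, Subgroup.mem_bot] at h1
  have : x = g * (g⁻¹ * x * g) * g⁻¹ := by group
  rw [this, h1]; group

end Setup

-- DQ3 START
section Engine

variable {G : Type*} [Group G] [Finite G] {r : ℕ} [hrp : Fact r.Prime]

/-- in a finite group, conjugating a generator into `zpowers y` normalises `zpowers y`. -/
theorem mem_normalizer_zpowers_of_conj_mem (x y : G)
    (h : x * y * x⁻¹ ∈ Subgroup.zpowers y) :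
    x ∈ Subgroup.normalizer ((Subgroup.zpowers y : Subgroup G) : Set G) := by
  rw [Subgroup.mem_normalizer_iff_map_conj_eq, MonoidHom.map_zpowers]
  have h1 : Subgroup.zpowers ((MulAut.conj x).toMonoidHom y) ≤ Subgroup.zpowers y := by
    rw [Subgroup.zpowers_le]
    simpa [MulAut.conj_apply] using h
  apply Subgroup.eq_of_le_of_card_ge h1
  rw [Nat.card_zpowers, Nat.card_zpowers]
  exact le_of_eq (orderOf_injective (MulAut.conj x).toMonoidHom (MulAut.conj x).injective y).symm

variable (Q : Subgroup G) (π : G →* DihedralGroup r)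

/-- an element mapping to the rotation `r 1` has a power of order exactly `r`. -/
theorem exists_pow_orderOf_eq (w : G) (hw : π w = DihedralGroup.r (1 : ZMod r)) :
    ∃ m : ℕ, orderOf (w ^ m) = r := by
  have h1 : r ∣ orderOf w := by
    have := orderOf_map_dvd π w
    rwa [hw, DihedralGroup.orderOf_r_one] at this
  obtain ⟨m, hm⟩ := h1
  have hpos : 0 < orderOf w := orderOf_pos w
  have hm0 : m ≠ 0 := by
    rintro rfl
    rw [mul_zero] at hm
    omega
  refine ⟨m, ?_⟩
  rw [orderOf_pow_of_dvd hm0 ⟨r, by rw [hm, mul_comm]⟩, hm]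
  exact Nat.mul_div_cancel _ (Nat.pos_of_ne_zero hm0)

/-- the engine: the hypotheses we work with. -/
structure DQHyp : Prop where
  ker : π.ker = Q
  inj : ∀ S : Sylow r G, ∀ x ∈ Subgroup.normalizer ((S : Subgroup G) : Set G),
    ∀ y ∈ Subgroup.normalizer ((S : Subgroup G) : Set G), π x = π y → x = y
  surj : ∀ S : Sylow r G, ∀ d : DihedralGroup r,
    ∃ n ∈ Subgroup.normalizer ((S : Subgroup G) : Set G), π n = d
  syl : ∀ y : G, orderOf y = r → ∃ S : Sylow r G, (S : Subgroup G) = Subgroup.zpowers y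

variable {Q π}

theorem DQHyp.exists_sylow_of_rot (H : DQHyp Q π) (w : G)
    (hw : π w = DihedralGroup.r (1 : ZMod r)) :
    ∃ S : Sylow r G, w ∈ Subgroup.normalizer ((S : Subgroup G) : Set G) ∧
      ∀ x : G, x * w * x⁻¹ = w⁻¹ → x ∈ Subgroup.normalizer ((S : Subgroup G) : Set G) := by
  obtain ⟨m, hm⟩ := exists_pow_orderOf_eq π w hw
  obtain ⟨S, hS⟩ := H.syl _ hm
  refine ⟨S, ?_, ?_⟩
  · rw [hS]
    apply mem_normalizer_zpowers_of_conj_mem
    have : w * w ^ m * w⁻¹ = w ^ m := by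
      rw [← pow_succ', pow_succ, mul_assoc, mul_inv_cancel, mul_one]
    rw [this]
    exact Subgroup.mem_zpowers _
  · intro x hx
    rw [hS]
    apply mem_normalizer_zpowers_of_conj_mem
    have : x * w ^ m * x⁻¹ = (w ^ m)⁻¹ := by
      rw [← inv_pow, ← hx, conj_pow]
    rw [this]
    exact Subgroup.inv_mem _ (Subgroup.mem_zpowers _)

theorem DQHyp.sq_eq_one (H : DQHyp Q π) (S : Sylow r G) (c : G)
    (hc : c ∈ Subgroup.normalizer ((S : Subgroup G) : Set G)) (j : ZMod r)
    (hj : π c = DihedralGroup.sr j) : c * c = 1 := by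
  apply H.inj S _ (Subgroup.mul_mem _ hc hc) _ (Subgroup.one_mem _)
  rw [map_mul, hj, map_one, DihedralGroup.sr_mul_self]

theorem DQHyp.map_ne_one (H : DQHyp Q π) (S : Sylow r G) (c : G)
    (hc : c ∈ Subgroup.normalizer ((S : Subgroup G) : Set G)) (h1 : c ≠ 1) : π c ≠ 1 := by
  intro h
  apply h1
  apply H.inj S _ hc _ (Subgroup.one_mem _)
  rw [h, map_one]

theorem DQHyp.exists_sr (H : DQHyp Q π) (hr : r ≠ 2) (b : G) (hb : b * b = 1) (hbQ : π b ≠ 1) :
    ∃ j : ZMod r, π b = DihedralGroup.sr j := by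
  apply dih_involution hr
  · rw [← map_mul, hb, map_one]
  · exact hbQ

/-- every involution outside `Q` normalises a Sylow `r`-subgroup. -/
theorem DQHyp.exists_sylow_of_involution (H : DQHyp Q π) (hr : r ≠ 2) (b : G) (hb : b * b = 1)
    (hbQ : π b ≠ 1) :
    ∃ S : Sylow r G, b ∈ Subgroup.normalizer ((S : Subgroup G) : Set G) := by
  obtain ⟨j, hj⟩ := H.exists_sr hr b hb hbQ
  obtain ⟨S₀⟩ : Nonempty (Sylow r G) := inferInstance
  obtain ⟨c, hcN, hc⟩ := H.surj S₀ (DihedralGroup.sr (j + 1))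
  have hcc : c * c = 1 := H.sq_eq_one S₀ c hcN _ hc
  have hw : π (b * c) = DihedralGroup.r (1 : ZMod r) := by
    rw [map_mul, hj, hc, dih_sr_mul_sr_succ]
  obtain ⟨S, -, hS⟩ := H.exists_sylow_of_rot (b * c) hw
  refine ⟨S, hS b ?_⟩
  have hbi : b⁻¹ = b := inv_eq_of_mul_eq_one_right hb
  have hci : c⁻¹ = c := inv_eq_of_mul_eq_one_right hcc
  rw [mul_inv_rev, hbi, hci, ← mul_assoc, hb, one_mul]

omit [Finite G] hrp in
theorem mem_normalizer_sylow_iff (P : Sylow r G) (g : G) :
    g ∈ Subgroup.normalizer ((P : Subgroup G) : Set G) ↔ g • P = P :=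
  Sylow.smul_eq_iff_mem_normalizer.symm

omit [Finite G] hrp in
theorem conj_mem_normalizer_smul (R : Sylow r G) (a g : G)
    (ha : a ∈ Subgroup.normalizer ((R : Subgroup G) : Set G)) :
    g * a * g⁻¹ ∈ Subgroup.normalizer (((g • R : Sylow r G) : Subgroup G) : Set G) := by
  rw [mem_normalizer_sylow_iff, smul_smul]
  have : g * a * g⁻¹ * g = g * a := by group
  rw [this, mul_smul, (mem_normalizer_sylow_iff R a).mp ha]

/-- part (2a): all involutions outside `Q` are conjugate. -/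
theorem DQHyp.involution_conj (H : DQHyp Q π) (hr : r ≠ 2) (R : Sylow r G) (a : G)
    (haN : a ∈ Subgroup.normalizer ((R : Subgroup G) : Set G)) (ha : a * a = 1) (ha1 : a ≠ 1)
    (b : G) (hb : b * b = 1) (hbQ : π b ≠ 1) : ∃ g : G, g * a * g⁻¹ = b := by
  obtain ⟨S, hbS⟩ := H.exists_sylow_of_involution hr b hb hbQ
  obtain ⟨g, rfl⟩ := MulAction.exists_smul_eq G R S
  have ha' := conj_mem_normalizer_smul R a g haN
  have h1 : (g * a * g⁻¹) * (g * a * g⁻¹) = 1 := by
    have : (g * a * g⁻¹) * (g * a * g⁻¹) = g * (a * a) * g⁻¹ := by group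
    rw [this, ha]; group
  have h2 : g * a * g⁻¹ ≠ 1 := by
    intro h
    apply ha1
    have : a = g⁻¹ * (g * a * g⁻¹) * g := by group
    rw [this, h]; group
  obtain ⟨i, hi⟩ := H.exists_sr hr _ h1 (H.map_ne_one _ _ ha' h2)
  obtain ⟨j, hj⟩ := H.exists_sr hr b hb hbQ
  obtain ⟨t, ht⟩ := dih_conj_sr hr i j
  obtain ⟨n, hnN, hn⟩ := H.surj (g • R) (DihedralGroup.r t)
  refine ⟨n * g, ?_⟩
  have h3 : n * g * a * (n * g)⁻¹ = n * (g * a * g⁻¹) * n⁻¹ := by group
  rw [h3]
  apply H.inj (g • R) _ (Subgroup.mul_mem _ (Subgroup.mul_mem _ hnN ha') (Subgroup.inv_mem _ hnN))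
    _ hbS
  rw [map_mul, map_mul, map_inv, hn, hi, ht, hj]

/-- involutions over the same reflection are `Q`-conjugate. -/
theorem DQHyp.involution_conj_Q (H : DQHyp Q π) (hr : r ≠ 2) (R : Sylow r G) (a : G)
    (haN : a ∈ Subgroup.normalizer ((R : Subgroup G) : Set G))
    (t : G) (ht : t * t = 1) (hta : π t = π a) (hta1 : π a ≠ 1) :
    ∃ q ∈ Q, q * a * q⁻¹ = t := by
  obtain ⟨S, htS⟩ := H.exists_sylow_of_involution hr t ht (by rw [hta]; exact hta1)
  obtain ⟨g, rfl⟩ := MulAction.exists_smul_eq G R S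
  obtain ⟨n, hnN, hn⟩ := H.surj R (π g)
  have hq : g * n⁻¹ ∈ Q := by
    rw [← H.ker, MonoidHom.mem_ker, map_mul, map_inv, hn, mul_inv_cancel]
  have hqR : (g * n⁻¹) • R = g • R := by
    rw [mul_smul, (mem_normalizer_sylow_iff R _).mp (Subgroup.inv_mem _ hnN)]
  refine ⟨g * n⁻¹, hq, ?_⟩
  have ha' := conj_mem_normalizer_smul R a (g * n⁻¹) haN
  rw [hqR] at ha'
  apply H.inj (g • R) _ ha' _ htS
  have : π (g * n⁻¹) = 1 := by rw [← MonoidHom.mem_ker, H.ker]; exact hq
  rw [map_mul, map_mul, map_inv, this, hta]; group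

end Engine

-- DQ4 START
section Count

variable {G : Type*} [Group G] [Finite G] {r : ℕ} [hrp : Fact r.Prime]
  {Q : Subgroup G} {π : G →* DihedralGroup r}

theorem dqHyp_of [hQn : Q.Normal] (hr : r ≠ 2) (hQ2 : IsPGroup 2 ↥Q)
    (hπs : Function.Surjective π)
    (hker : π.ker = Q) (R : Sylow r G)
    (hC : Q ⊓ Subgroup.centralizer ((R : Subgroup G) : Set G) = ⊥) : DQHyp Q π := by
  haveI : NeZero r := ⟨hrp.out.ne_zero⟩
  have hall : ∀ S : Sylow r G, Q ⊓ Subgroup.centralizer ((S : Subgroup G) : Set G) = ⊥ := by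
    intro S
    obtain ⟨g, rfl⟩ := MulAction.exists_smul_eq G R S
    exact dq_conj Q R hC g
  refine ⟨hker, ?_, ?_, ?_⟩
  · intro S
    exact (dq_structure Q π hr hQ2 hπs hker S (hall S)).2.2.2.2.1
  · intro S
    exact (dq_structure Q π hr hQ2 hπs hker S (hall S)).2.2.2.2.2
  · intro y hy
    have hp : IsPGroup r ↥(Subgroup.zpowers y) := by
      apply IsPGroup.of_card (n := 1)
      rw [Nat.card_zpowers, hy, pow_one]
    obtain ⟨S, hS⟩ := hp.exists_le_sylow
    refine ⟨S, ?_⟩
    symm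
    apply Subgroup.eq_of_le_of_card_ge hS
    rw [Nat.card_zpowers, hy]
    obtain ⟨h1, -, h3, -⟩ := dq_structure Q π hr hQ2 hπs hker S (hall S)
    refine le_trans ?_ (le_of_eq (card_dihRot (r := r)))
    have hmem : ∀ x : ↥(S : Subgroup G), π (x : G) ∈ dihRot r := by
      intro x
      rw [← h3]
      exact ⟨x, x.2, rfl⟩
    apply Nat.card_le_card_of_injective (fun x : ↥(S : Subgroup G) =>
      (⟨π (x : G), hmem x⟩ : ↥(dihRot r)))
    intro x y hxy
    have hxy' : π (x : G) = π (y : G) := congrArg Subtype.val hxy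
    have h5 : (x : G)⁻¹ * (y : G) ∈ (S : Subgroup G) ⊓ Q := by
      refine Subgroup.mem_inf.mpr ⟨Subgroup.mul_mem _ (Subgroup.inv_mem _ x.2) y.2, ?_⟩
      rw [← hker, MonoidHom.mem_ker, map_mul, map_inv, hxy', inv_mul_cancel]
    rw [h1, Subgroup.mem_bot] at h5
    exact Subtype.ext (inv_mul_eq_one.mp h5)

variable (H : DQHyp Q π)

include H in
theorem DQHyp.card_rotFibre :
    Nat.card {w : G // π w = DihedralGroup.r (1 : ZMod r)} = Nat.card ↥Q := by
  obtain ⟨S₀⟩ : Nonempty (Sylow r G) := inferInstance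
  obtain ⟨w₀, -, hw₀⟩ := H.surj S₀ (DihedralGroup.r 1)
  have hQ1 : ∀ q : ↥Q, π (q : G) = 1 := by
    intro q
    rw [← MonoidHom.mem_ker, H.ker]; exact q.2
  symm
  apply Nat.card_congr
  exact
    { toFun := fun q => ⟨w₀ * q, by rw [map_mul, hw₀, hQ1 q, mul_one]⟩
      invFun := fun w => ⟨w₀⁻¹ * w, by
        rw [← H.ker, MonoidHom.mem_ker, map_mul, map_inv, hw₀, w.2, inv_mul_cancel]⟩
      left_inv := fun q => by
        apply Subtype.ext
        simp
      right_inv := fun w => by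
        apply Subtype.ext
        simp }

include H in
theorem DQHyp.card_invOver_eq (hr : r ≠ 2) (i j : ZMod r) :
    Nat.card {t : G // t * t = 1 ∧ π t = DihedralGroup.sr i} =
      Nat.card {t : G // t * t = 1 ∧ π t = DihedralGroup.sr j} := by
  obtain ⟨t₀, ht₀⟩ := dih_conj_sr hr i j
  obtain ⟨S₀⟩ : Nonempty (Sylow r G) := inferInstance
  obtain ⟨n, -, hn⟩ := H.surj S₀ (DihedralGroup.r t₀)
  have ht₀' : (DihedralGroup.r t₀)⁻¹ * DihedralGroup.sr j * DihedralGroup.r t₀ =
      DihedralGroup.sr i := by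
    rw [← ht₀]; group
  apply Nat.card_congr
  exact
    { toFun := fun t => ⟨n * t * n⁻¹, by
        have : n * (t : G) * n⁻¹ * (n * t * n⁻¹) = n * (t * t) * n⁻¹ := by group
        rw [this, t.2.1]; group, by
        rw [map_mul, map_mul, map_inv, hn, t.2.2, ht₀]⟩
      invFun := fun s => ⟨n⁻¹ * s * n, by
        have : n⁻¹ * (s : G) * n * (n⁻¹ * s * n) = n⁻¹ * (s * s) * n := by group
        rw [this, s.2.1]; group, by
        rw [map_mul, map_mul, map_inv, hn, s.2.2, ht₀']⟩
      left_inv := fun t => by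
        apply Subtype.ext
        show n⁻¹ * (n * (t : G) * n⁻¹) * n = t
        group
      right_inv := fun s => by
        apply Subtype.ext
        show n * (n⁻¹ * (s : G) * n) * n⁻¹ = s
        group }

include H in
theorem DQHyp.card_invOver_mul (i : ZMod r) :
    Nat.card {t : G // t * t = 1 ∧ π t = DihedralGroup.sr i} *
      Nat.card {t : G // t * t = 1 ∧ π t = DihedralGroup.sr (i + 1)} =
    Nat.card {w : G // π w = DihedralGroup.r (1 : ZMod r)} := by
  rw [← Nat.card_prod]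
  apply Nat.card_congr
  apply Equiv.ofBijective
    (fun p : {t : G // t * t = 1 ∧ π t = DihedralGroup.sr i} ×
        {t : G // t * t = 1 ∧ π t = DihedralGroup.sr (i + 1)} =>
      (⟨(p.1 : G) * (p.2 : G), by
        rw [map_mul, p.1.2.2, p.2.2.2, dih_sr_mul_sr_succ]⟩ :
        {w : G // π w = DihedralGroup.r (1 : ZMod r)}))
  constructor
  · rintro ⟨⟨t, ht, htπ⟩, ⟨t', ht', htπ'⟩⟩ ⟨⟨s, hs, hsπ⟩, ⟨s', hs', hsπ'⟩⟩ h
    have hw : t * t' = s * s' := congrArg Subtype.val h
    have hπw : π (t * t') = DihedralGroup.r (1 : ZMod r) := by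
      rw [map_mul, htπ, htπ', dih_sr_mul_sr_succ]
    obtain ⟨S, -, hS⟩ := H.exists_sylow_of_rot (t * t') hπw
    have hti : t⁻¹ = t := inv_eq_of_mul_eq_one_right ht
    have hti' : t'⁻¹ = t' := inv_eq_of_mul_eq_one_right ht'
    have hsi : s⁻¹ = s := inv_eq_of_mul_eq_one_right hs
    have hsi' : s'⁻¹ = s' := inv_eq_of_mul_eq_one_right hs'
    have h1 : t ∈ Subgroup.normalizer ((S : Subgroup G) : Set G) := by
      apply hS
      rw [mul_inv_rev, hti, hti', ← mul_assoc, ht, one_mul]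
    have h2 : s ∈ Subgroup.normalizer ((S : Subgroup G) : Set G) := by
      apply hS
      rw [hw, mul_inv_rev, hsi, hsi', ← mul_assoc, hs, one_mul]
    have hts : t = s := H.inj S t h1 s h2 (by rw [htπ, hsπ])
    subst hts
    have hts' : t' = s' := mul_left_cancel hw
    subst hts'
    rfl
  · rintro ⟨w, hw⟩
    obtain ⟨S, hwS, -⟩ := H.exists_sylow_of_rot w hw
    obtain ⟨t, htN, ht⟩ := H.surj S (DihedralGroup.sr i)
    obtain ⟨t', htN', ht'⟩ := H.surj S (DihedralGroup.sr (i + 1))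
    refine ⟨⟨⟨t, H.sq_eq_one S t htN i ht, ht⟩, ⟨t', H.sq_eq_one S t' htN' _ ht', ht'⟩⟩, ?_⟩
    apply Subtype.ext
    show t * t' = w
    apply H.inj S _ (Subgroup.mul_mem _ htN htN') _ hwS
    rw [map_mul, ht, ht', dih_sr_mul_sr_succ, hw]

include H in
theorem DQHyp.card_invOver_mul_centralizer (hr : r ≠ 2) (R : Sylow r G) (a : G)
    (haN : a ∈ Subgroup.normalizer ((R : Subgroup G) : Set G)) (ha : a * a = 1)
    (i : ZMod r) (hai : π a = DihedralGroup.sr i) :
    Nat.card ↥(Q ⊓ Subgroup.centralizer ({a} : Set G)) *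
      Nat.card {t : G // t * t = 1 ∧ π t = DihedralGroup.sr i} = Nat.card ↥Q := by
  letI : MulAction ↥Q G := MulAction.compHom G ((MulAut.conj (G := G)).comp Q.subtype)
  have hsm : ∀ (q : ↥Q) (x : G), q • x = (q : G) * x * (q : G)⁻¹ := fun q x => rfl
  have hQ1 : ∀ q : ↥Q, π (q : G) = 1 := by
    intro q
    rw [← MonoidHom.mem_ker, H.ker]; exact q.2
  have h1 := Subgroup.card_mul_index (MulAction.stabilizer ↥Q a)
  rw [MulAction.index_stabilizer, ← Nat.card_coe_set_eq] at h1
  have h2 : Nat.card ↥(MulAction.stabilizer ↥Q a) =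
      Nat.card ↥(Q ⊓ Subgroup.centralizer ({a} : Set G)) := by
    apply Nat.card_congr
    exact
      { toFun := fun q => ⟨(q.1 : G), Subgroup.mem_inf.mpr ⟨q.1.2, by
          rw [Subgroup.mem_centralizer_singleton_iff]
          have := MulAction.mem_stabilizer_iff.mp q.2
          rw [hsm] at this
          exact (mul_inv_eq_iff_eq_mul.mp this)⟩⟩
        invFun := fun c => ⟨⟨(c : G), (Subgroup.mem_inf.mp c.2).1⟩, by
          rw [MulAction.mem_stabilizer_iff, hsm]
          have := Subgroup.mem_centralizer_singleton_iff.mp (Subgroup.mem_inf.mp c.2).2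
          exact mul_inv_eq_iff_eq_mul.mpr this⟩
        left_inv := fun q => rfl
        right_inv := fun c => rfl }
  have h3 : (MulAction.orbit ↥Q a) = {t : G | t * t = 1 ∧ π t = DihedralGroup.sr i} := by
    ext t
    constructor
    · rintro ⟨q, rfl⟩
      show q • a * q • a = 1 ∧ π (q • a) = DihedralGroup.sr i
      rw [hsm]
      constructor
      · have : (q : G) * a * (q : G)⁻¹ * ((q : G) * a * (q : G)⁻¹) =
            (q : G) * (a * a) * (q : G)⁻¹ := by group
        rw [this, ha]; group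
      · rw [map_mul, map_mul, map_inv, hQ1, hai]; group
    · rintro ⟨ht, htπ⟩
      have hne : π a ≠ 1 := by
        rw [hai]; intro h; cases h
      obtain ⟨q, hq, hqa⟩ := H.involution_conj_Q hr R a haN t ht (by rw [htπ, hai]) hne
      exact ⟨⟨q, hq⟩, hqa⟩
  rw [h3, h2] at h1
  exact h1

include H in
/-- the abstract form of the conclusion `|C_Q(a)|² = |Q|`. -/
theorem DQHyp.card_centralizer_sq (hr : r ≠ 2) (R : Sylow r G) (a : G)
    (haN : a ∈ Subgroup.normalizer ((R : Subgroup G) : Set G)) (ha : a * a = 1) (ha1 : a ≠ 1) :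
    Nat.card ↥(Q ⊓ Subgroup.centralizer ({a} : Set G)) ^ 2 = Nat.card ↥Q := by
  obtain ⟨i, hai⟩ := H.exists_sr hr a ha (H.map_ne_one R a haN ha1)
  have h1 := H.card_invOver_mul_centralizer hr R a haN ha i hai
  have h2 := H.card_invOver_mul i
  rw [H.card_rotFibre, ← H.card_invOver_eq hr i (i + 1)] at h2
  have hpos : 0 < Nat.card {t : G // t * t = 1 ∧ π t = DihedralGroup.sr i} := by
    haveI : Nonempty {t : G // t * t = 1 ∧ π t = DihedralGroup.sr i} := ⟨⟨a, ha, hai⟩⟩
    exact Nat.card_pos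
  have h3 : Nat.card ↥(Q ⊓ Subgroup.centralizer ({a} : Set G)) =
      Nat.card {t : G // t * t = 1 ∧ π t = DihedralGroup.sr i} := by
    apply Nat.eq_of_mul_eq_mul_right hpos
    rw [h1, h2]
  rw [h3, sq, h2]

end Count

end Cfsg.Agent.Lib.Helper16
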