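import Mathlib
import Cfsg.Prelude.Def_Transfer
import Cfsg.Prelude.Def_Classical
import Cfsg.Agent.Lib.Helper16.ESQuad1

/-!
# The action of the automorphism group of an extraspecial 2-group on coordinates (helper16)

`Coord.Phi : MulAut P →* isometryGroup (ZMod 2) Qs`.
-/

set_option autoImplicit false
set_option linter.unusedSectionVars false

namespace Cfsg.Agent.Lib.Helper16.ESQuad

open Cfsg.Agent.Lib.Helper16.ES32

section action

variable {P : Type*} [Group P] {z : P} (h : ESData P z) {ι : Type}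
  {Qs : (ι → ZMod 2) → ZMod 2} (C : Coord P Qs)

theorem aut_pz (h : ESData P z) (α : P ≃* P) (e : ZMod 2) : α (pz z e) = pz z e := by
  rcases zmod2_cases e with rfl | rfl
  · simp
  · simpa using map_z h α

/-- automorphisms preserve the coordinate fibres -/
theorem Coord.map_aut_eq (h : ESData P z) (α : P ≃* P) {x y : P} (hxy : C.κ x = C.κ y) :
    C.κ (α x) = C.κ (α y) := by
  obtain ⟨e, rfl⟩ := (C.eq_iff h x y).mp hxy
  rw [_root_.map_mul, C.map_mul, aut_pz h, C.map_pz h, add_zero]

/-- a section of the coordinate map -/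
noncomputable def Coord.sec (v : ι → ZMod 2) : P := Function.surjInv C.surj v

theorem Coord.κ_sec (v : ι → ZMod 2) : C.κ (C.sec v) = v := Function.surjInv_eq C.surj v

/-- the additive map induced by an automorphism -/
noncomputable def Coord.barAdd (h : ESData P z) (α : P ≃* P) : (ι → ZMod 2) →+ (ι → ZMod 2) where
  toFun v := C.κ (α (C.sec v))
  map_zero' := by
    have h1 : C.κ (C.sec 0) = C.κ 1 := by rw [C.κ_sec, C.map_one]
    rw [C.map_aut_eq h α h1, _root_.map_one, C.map_one]
  map_add' u v := by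
    have h1 : C.κ (C.sec (u + v)) = C.κ (C.sec u * C.sec v) := by
      rw [C.map_mul, C.κ_sec, C.κ_sec, C.κ_sec]
    rw [C.map_aut_eq h α h1, _root_.map_mul, C.map_mul]

theorem Coord.barAdd_apply (α : P ≃* P) (x : P) : C.barAdd h α (C.κ x) = C.κ (α x) := by
  show C.κ (α (C.sec (C.κ x))) = C.κ (α x)
  exact C.map_aut_eq h α (C.κ_sec _)

variable [Fintype ι] [DecidableEq ι]

/-- the matrix induced by an automorphism -/
noncomputable def Coord.Psi (h : ESData P z) (α : P ≃* P) : Matrix ι ι (ZMod 2) :=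
  LinearMap.toMatrix' ((C.barAdd h α).toZModLinearMap 2)

theorem Coord.Psi_mulVec (α : P ≃* P) (x : P) : (C.Psi h α).mulVec (C.κ x) = C.κ (α x) := by
  rw [Coord.Psi, LinearMap.toMatrix'_mulVec]
  exact C.barAdd_apply h α x

omit [DecidableEq ι] in
theorem Coord.mat_ext {A B : Matrix ι ι (ZMod 2)} (hAB : ∀ x : P, A.mulVec (C.κ x) = B.mulVec (C.κ x)) :
    A = B := by
  apply Matrix.mulVec_injective
  funext v
  obtain ⟨x, rfl⟩ := C.surj v
  exact hAB x

/-- the matrix representation of `MulAut P`. -/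
noncomputable def Coord.PsiHom (h : ESData P z) : MulAut P →* Matrix ι ι (ZMod 2) where
  toFun α := C.Psi h α
  map_one' := by
    apply C.mat_ext
    intro x
    rw [C.Psi_mulVec h, Matrix.one_mulVec]
    rfl
  map_mul' α β := by
    apply C.mat_ext
    intro x
    rw [C.Psi_mulVec h, ← Matrix.mulVec_mulVec, C.Psi_mulVec h, C.Psi_mulVec h]
    rfl

theorem Coord.PsiHom_mulVec (α : MulAut P) (x : P) :
    (C.PsiHom h α).mulVec (C.κ x) = C.κ (α x) := C.Psi_mulVec h α x

theorem mem_isometryGroup_iff' (g : Matrix.GeneralLinearGroup ι (ZMod 2)) :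
    g ∈ Cfsg.isometryGroup (ZMod 2) Qs ↔ ∀ u, Qs ((g : Matrix ι ι (ZMod 2)).mulVec u) = Qs u := by
  constructor
  · intro hg u
    exact hg u u
  · intro hg u v
    exact hg u

/-- the homomorphism from `MulAut P` to the isometry group of `Qs`. -/
noncomputable def Coord.Phi (h : ESData P z) : MulAut P →* Cfsg.isometryGroup (ZMod 2) Qs :=
  (C.PsiHom h).toHomUnits.codRestrict _ (by
    intro α
    rw [mem_isometryGroup_iff']
    intro u
    obtain ⟨x, rfl⟩ := C.surj u
    rw [MonoidHom.coe_toHomUnits, C.PsiHom_mulVec h, ← C.quad, ← C.quad]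
    exact qq_map α x)

theorem Coord.Phi_mulVec (α : MulAut P) (x : P) :
    ((C.Phi h α : Matrix.GeneralLinearGroup ι (ZMod 2)) : Matrix ι ι (ZMod 2)).mulVec (C.κ x)
      = C.κ (α x) := C.PsiHom_mulVec h α x

theorem Coord.Phi_eq_iff (α : MulAut P) (g : Cfsg.isometryGroup (ZMod 2) Qs) :
    C.Phi h α = g ↔ ∀ x : P, C.κ (α x) =
      ((g : Matrix.GeneralLinearGroup ι (ZMod 2)) : Matrix ι ι (ZMod 2)).mulVec (C.κ x) := by
  constructor
  · rintro rfl x
    exact (C.Phi_mulVec h α x).symm
  · intro hg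
    apply Subtype.ext
    apply Units.ext
    apply C.mat_ext
    intro x
    rw [C.Phi_mulVec h, hg]

end action

end Cfsg.Agent.Lib.Helper16.ESQuad
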