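import Mathlib
import Cfsg.Prelude.Def_Transfer
import Cfsg.Prelude.Def_Classical
import Cfsg.Agent.Lib.Helper11.ExtraspecialCent
import Cfsg.Agent.Lib.Helper16.ESQuad2

/-!
# Kernel and image of `MulAut P → O(Qs)` for an extraspecial 2-group with coordinates (helper16)
-/

set_option autoImplicit false
set_option linter.unusedSectionVars false

namespace Cfsg.Agent.Lib.Helper16.ESQuad

open Cfsg.Agent.Lib.Helper16.ES32

section kernel

variable {P : Type*} [Group P] {z : P} (h : ESData P z)
include h

theorem card_center : Nat.card (Subgroup.center P) = 2 := by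
  rw [Nat.card_eq_two_iff]
  refine ⟨⟨1, Subgroup.one_mem _⟩, ⟨z, (mem_center_iff' h z).mpr (Or.inr rfl)⟩, ?_, ?_⟩
  · intro h1
    exact h.z_ne (congrArg Subtype.val h1).symm
  · ext ⟨w, hw⟩
    simp only [Set.mem_insert_iff, Set.mem_singleton_iff, Set.mem_univ, iff_true]
    rcases (mem_center_iff' h w).mp hw with h1 | h1
    · left; exact Subtype.ext h1
    · right; exact Subtype.ext h1

theorem commElt_eq (x y : P) : x * y * x⁻¹ * y⁻¹ = pz z (cc x y) := by
  have h1 := comm_eq h x y
  have h2 := pz_comm h (cc x y) (y * x)
  rw [h1, h2]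
  group

theorem commElt_mem_center (x y : P) : x * y * x⁻¹ * y⁻¹ ∈ Subgroup.center P := by
  rw [commElt_eq h, mem_center_iff' h]
  rcases zmod2_cases (cc x y) with h1 | h1
  · left; rw [h1]; rfl
  · right; rw [h1]; rfl

variable {ι : Type} [Fintype ι] [DecidableEq ι] {Qs : (ι → ZMod 2) → ZMod 2} (C : Coord P Qs)

theorem Coord.Phi_conj (g : P) : C.Phi h (MulAut.conj g) = 1 := by
  rw [C.Phi_eq_iff h]
  intro x
  show C.κ (g * x * g⁻¹) = (1 : Matrix ι ι (ZMod 2)).mulVec (C.κ x)
  rw [Matrix.one_mulVec, C.map_mul, C.map_mul, C.map_inv, add_comm (C.κ g), add_assoc, fun_add_self,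
    add_zero]

theorem Coord.mem_inn_of_Phi_eq_one [Finite P] (α : MulAut P) (hα : C.Phi h α = 1) :
    α ∈ (MulAut.conj : P →* MulAut P).range := by
  classical
  have hκ : ∀ x : P, C.κ (α x) = C.κ x := by
    intro x
    have := (C.Phi_eq_iff h α 1).mp hα x
    rw [this]
    show (1 : Matrix ι ι (ZMod 2)).mulVec (C.κ x) = C.κ x
    rw [Matrix.one_mulVec]
  have hex : ∀ x : P, ∃ e : ZMod 2, α x = x * pz z e := by
    intro x
    exact (C.eq_iff h x (α x)).mp (hκ x).symm
  choose lam hlam using hex
  have hlam_mul : ∀ x y : P, lam (x * y) = lam x + lam y := by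
    intro x y
    apply pz_injective h
    have h1 : α (x * y) = α x * α y := _root_.map_mul α x y
    rw [hlam, hlam x, hlam y] at h1
    have h2 : x * pz z (lam x) * (y * pz z (lam y)) = x * y * (pz z (lam x) * pz z (lam y)) := by
      have := pz_comm h (lam x) y
      calc x * pz z (lam x) * (y * pz z (lam y)) = x * (pz z (lam x) * y) * pz z (lam y) := by group
        _ = x * (y * pz z (lam x)) * pz z (lam y) := by rw [this]
        _ = _ := by group
    rw [h2, pz_mul_pz h] at h1
    exact mul_left_cancel h1
  by_cases hall : ∀ x : P, lam x = 0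
  · refine ⟨1, ?_⟩
    ext x
    rw [hlam x, hall x]
    simp
  · have hall' : ∃ x₀ : P, lam x₀ = 1 := by
      by_contra hcon
      apply hall
      intro x
      rcases zmod2_cases (lam x) with h1 | h1
      · exact h1
      · exact absurd ⟨x, h1⟩ hcon
    obtain ⟨x₀, hx₀⟩ := hall'
    let f : P →* Multiplicative (ZMod 2) :=
      { toFun := fun x => Multiplicative.ofAdd (lam x)
        map_one' := by
          have := hlam_mul 1 1
          rw [mul_one] at this
          have h0 : lam 1 = 0 := by
            have h3 : lam 1 + 0 = lam 1 + lam 1 := by rw [add_zero]; exact this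
            exact (add_left_cancel h3).symm
          show Multiplicative.ofAdd (lam 1) = 1
          rw [h0]; rfl
        map_mul' := by
          intro x y
          show Multiplicative.ofAdd (lam (x * y)) = Multiplicative.ofAdd (lam x) * Multiplicative.ofAdd (lam y)
          rw [hlam_mul, ofAdd_add] }
    have hfker : ∀ x : P, x ∈ f.ker ↔ lam x = 0 := by
      intro x
      rw [MonoidHom.mem_ker]
      show Multiplicative.ofAdd (lam x) = 1 ↔ lam x = 0
      exact ofAdd_eq_one
    have hfsurj : Function.Surjective f := by
      intro b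
      rcases zmod2_cases (Multiplicative.toAdd b) with h1 | h1
      · refine ⟨1, ?_⟩
        rw [_root_.map_one]
        exact (toAdd_eq_zero.mp h1).symm
      · refine ⟨x₀, ?_⟩
        show Multiplicative.ofAdd (lam x₀) = b
        rw [hx₀, ← h1]
        rfl
    have hidx : f.ker.index = 2 := by
      rw [Subgroup.index_ker, MonoidHom.range_eq_top.mpr hfsurj, Subgroup.card_top,
        Nat.card_eq_fintype_card]
      rfl
    have hKcard : Nat.card f.ker * 2 = Nat.card P := by
      have := f.ker.card_mul_index
      rw [hidx] at this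
      exact this
    have hZK : Subgroup.center P ≤ f.ker := by
      intro w hw
      rw [hfker]
      have h1 : α w = w := by
        rcases (mem_center_iff' h w).mp hw with rfl | rfl
        · exact _root_.map_one α
        · exact ES32.map_z h α
      have h2 := hlam w
      rw [h1] at h2
      have h3 : pz z (lam w) = 1 := by
        have : w * 1 = w * pz z (lam w) := by rw [mul_one]; exact h2
        exact (mul_left_cancel this).symm
      exact (pz_eq_one_iff h _).mp h3
    have e1 := Cfsg.Agent.Lib.Helper11.card_mul_card_centralizer (card_center h)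
      (commElt_mem_center h) f.ker
    rw [Nat.card_congr (Subgroup.subgroupOfEquivOfLe hZK).toEquiv, card_center h, ← hKcard] at e1
    have hKpos : 0 < Nat.card f.ker := Nat.card_pos
    have hC4 : Nat.card (Subgroup.centralizer (f.ker : Set P)) = 4 := by
      have : Nat.card f.ker * Nat.card (Subgroup.centralizer (f.ker : Set P)) = Nat.card f.ker * 4 := by
        rw [e1]; ring
      exact Nat.eq_of_mul_eq_mul_left hKpos this
    have hy : ∃ y ∈ Subgroup.centralizer (f.ker : Set P), y ∉ Subgroup.center P := by
      by_contra hcon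
      have hle : Subgroup.centralizer (f.ker : Set P) ≤ Subgroup.center P := by
        intro y hy
        by_contra hyc
        exact hcon ⟨y, hy, hyc⟩
      have := Subgroup.card_le_of_le hle
      rw [hC4, card_center h] at this
      omega
    obtain ⟨y, hyC, hyZ⟩ := hy
    have hcK : ∀ x : P, lam x = 0 → cc y x = 0 := by
      intro x hx
      rw [cc_eq_zero_iff]
      have := Subgroup.mem_centralizer_iff.mp hyC x ((hfker x).mpr hx)
      exact this.symm
    have hx₁ : ∃ x₁ : P, cc y x₁ = 1 := by
      by_contra hcon
      apply hyZ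
      rw [mem_center_iff' h, ← center_iff h]
      intro g
      rcases zmod2_cases (cc y g) with h1 | h1
      · exact h1
      · exact absurd ⟨g, h1⟩ hcon
    obtain ⟨x₁, hx₁⟩ := hx₁
    have hlx₁ : lam x₁ = 1 := by
      rcases zmod2_cases (lam x₁) with h1 | h1
      · have := hcK x₁ h1
        rw [hx₁] at this
        exact absurd this one_ne_zero
      · exact h1
    have hkey : ∀ x : P, lam x = cc y x := by
      intro x
      rcases zmod2_cases (lam x) with h1 | h1
      · rw [h1, hcK x h1]
      · have h2 : lam (x * x₁) = 0 := by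
          rw [hlam_mul, h1, hlx₁]; decide
        have h3 := hcK _ h2
        rw [cc_mul_right h, hx₁] at h3
        rw [h1]
        rcases zmod2_cases (cc y x) with h4 | h4
        · rw [h4] at h3
          exact absurd h3 (by decide)
        · exact h4.symm
    refine ⟨y, ?_⟩
    ext x
    rw [hlam x, hkey x]
    show y * x * y⁻¹ = _
    exact conj_eq h y x

end kernel

end Cfsg.Agent.Lib.Helper16.ESQuad
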