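import Mathlib
import Cfsg.Prelude.Def_Classical
import Cfsg.Agent.Lib.Helper15.F2Forms

/-!
# Classification of nondegenerate quadratic forms over `ZMod 2` on an abstract space (helper16)

A restatement of helper15's `classify_F2` for an arbitrary finite-dimensional space.
-/

set_option autoImplicit false
set_option linter.unusedSectionVars false

namespace Cfsg.Agent.Lib.Helper16.ESQuad

open Module QuadraticMap Cfsg.Agent.Lib.Helper15

theorem classify_gen {V : Type*} [AddCommGroup V] [Module (ZMod 2) V] [FiniteDimensional (ZMod 2) V]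
    (Q : QuadraticForm (ZMod 2) V) (hQnd : (polarBilin Q).Nondegenerate) (k : ℕ)
    (hfr : finrank (ZMod 2) V = 2 * (k + 1)) :
    (∃ g : V ≃ₗ[ZMod 2] (Fin (k + 1) ⊕ Fin (k + 1) → ZMod 2),
        ∀ v, Q v = Cfsg.quadFormPlus (k + 1) (ZMod 2) (g v)) ∨
    (∃ g : V ≃ₗ[ZMod 2] ((Fin k ⊕ Fin k) ⊕ Fin 2 → ZMod 2),
        ∀ v, Q v = Cfsg.quadFormMinus k (ZMod 2) 1 1 (g v)) := by
  classical
  have h20 : (2 : ZMod 2) = 0 := by decide
  rcases even_family Q k ⊤ (ndOn_top Q hQnd) (by rw [finrank_top, hfr]) with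
    ⟨e, f, H⟩ | ⟨e, f, x, y, ζ, H⟩
  · left
    have hcard : Fintype.card (Fin (k + 1) ⊕ Fin (k + 1)) = finrank (ZMod 2) V := by
      rw [hfr]; simp; ring
    let b := basisOfLinearIndependentOfCardEqFinrank' _ H.linearIndependent hcard
    have hb : ⇑b = Sum.elim e f := coe_basisOfLinearIndependentOfCardEqFinrank' _ _ _
    have H2 := H.2.1
    have H3 := H.2.2.1
    have H4 := H.2.2.2
    refine ⟨b.equivFun, fun v => ?_⟩
    rw [← plusQF_eq]
    apply eq_comp_equivFun b Q (plusQF (k + 1))
    · rintro (i | i)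
      · simp [hb, (H2 i).1, plusQF_apply, Pi.single_apply]
      · simp [hb, (H2 i).2, plusQF_apply, Pi.single_apply]
    · rintro (i | i) (j | j) hij
      · simp [hb, (H4 i j).1, polar_plusQF', Pi.single_apply]
      · simp [hb, H3 i j, polar_plusQF', Pi.single_apply]
        simp only [eq_comm]
      · rw [hb]
        simp only [Sum.elim_inr, Sum.elim_inl]
        rw [polar_comm, H3 j i]
        simp [polar_plusQF', Pi.single_apply, eq_comm]
      · simp [hb, (H4 i j).2, polar_plusQF', Pi.single_apply]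
  · right
    have hcard : Fintype.card ((Fin k ⊕ Fin k) ⊕ Fin 2) = finrank (ZMod 2) V := by
      rw [hfr]; simp; ring
    let b := basisOfLinearIndependentOfCardEqFinrank' _ H.linearIndependent hcard
    have hb : ⇑b = Sum.elim (Sum.elim e f) ![x, y] := coe_basisOfLinearIndependentOfCardEqFinrank' _ _ _
    have H2 := H.1.2.1
    have H3 := H.1.2.2.1
    have H4 := H.1.2.2.2
    have hζ := H.2.2.2.1
    have hQx := H.2.2.2.2.2.1
    have hxy := H.2.2.2.2.2.2.1
    have hQy := H.2.2.2.2.2.2.2.1
    have hζ1 : ζ = 1 := by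
      have h0 := hζ 0
      have : ∀ z : ZMod 2, (0 : ZMod 2) ^ 2 + 0 + z ≠ 0 → z = 1 := by decide
      exact this ζ h0
    have hyx : polar Q y x = 1 := by rw [polar_comm]; exact hxy
    have hxe : ∀ i, polar Q x (e i) = 0 := fun i => (H.2.2.2.2.1 i).1.1
    have hxf : ∀ i, polar Q x (f i) = 0 := fun i => (H.2.2.2.2.1 i).1.2
    have hye : ∀ i, polar Q y (e i) = 0 := fun i => (H.2.2.2.2.1 i).2.1
    have hyf : ∀ i, polar Q y (f i) = 0 := fun i => (H.2.2.2.2.1 i).2.2
    have hex : ∀ i, polar Q (e i) x = 0 := fun i => by rw [polar_comm]; exact hxe i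
    have hfx : ∀ i, polar Q (f i) x = 0 := fun i => by rw [polar_comm]; exact hxf i
    have hey : ∀ i, polar Q (e i) y = 0 := fun i => by rw [polar_comm]; exact hye i
    have hfy : ∀ i, polar Q (f i) y = 0 := fun i => by rw [polar_comm]; exact hyf i
    refine ⟨b.equivFun, fun v => ?_⟩
    rw [← minusQF_eq]
    apply eq_comp_equivFun b Q (minusQF k)
    · rintro ((i | i) | j)
      · simp [hb, (H2 i).1, minusQF_apply, Pi.single_apply]
      · simp [hb, (H2 i).2, minusQF_apply, Pi.single_apply]
      · fin_cases j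
        · simp [hb, hQx, minusQF_apply, Pi.single_apply]
        · simp [hb, hQy, hζ1, minusQF_apply, Pi.single_apply]
    · rintro ((i | i) | j) ((i' | i') | j') hij
      · simp [hb, (H4 i i').1, polar_minusQF, Pi.single_apply]
      · simp [hb, H3 i i', polar_minusQF, Pi.single_apply]
        simp only [eq_comm]
      · fin_cases j' <;> simp [hb, hex, hey, polar_minusQF, Pi.single_apply]
      · rw [hb]
        simp only [Sum.elim_inr, Sum.elim_inl]
        rw [polar_comm, H3 i' i]
        simp [polar_minusQF, Pi.single_apply, eq_comm]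
      · simp [hb, (H4 i i').2, polar_minusQF, Pi.single_apply]
      · fin_cases j' <;> simp [hb, hfx, hfy, polar_minusQF, Pi.single_apply]
      · fin_cases j <;> simp [hb, hxe, hye, polar_minusQF, Pi.single_apply]
      · fin_cases j <;> simp [hb, hxf, hyf, polar_minusQF, Pi.single_apply]
      · fin_cases j <;> fin_cases j'
        · exact absurd rfl hij
        · simp [hb, hxy, polar_minusQF, Pi.single_apply]
        · simp [hb, hyx, polar_minusQF, Pi.single_apply]
        · exact absurd rfl hij

end Cfsg.Agent.Lib.Helper16.ESQuad
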