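import Mathlib
import Cfsg.Prelude.Def_Transfer
import Cfsg.Prelude.Def_Classical
import Cfsg.Agent.Lib.Helper16.ESQuad3
import Cfsg.Agent.Lib.Helper16.ESQuad5

/-!
# Coordinates on an extraspecial 2-group (helper16)

The central quotient as a `ZMod 2`-space with the squaring map as quadratic form; existence of
`Coord` of plus or minus type.
-/

set_option autoImplicit false
set_option linter.unusedSectionVars false

namespace Cfsg.Agent.Lib.Helper16.ESQuad

open Cfsg.Agent.Lib.Helper16.ES32 Module QuadraticMap

universe u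

section quot

variable {P : Type u} [Group P] {z : P}

theorem quot_comm (h : ESData P z) (a b : P ⧸ Subgroup.center P) : a * b = b * a := by
  induction a using QuotientGroup.induction_on with
  | H x =>
    induction b using QuotientGroup.induction_on with
    | H y =>
      rw [← QuotientGroup.mk_mul, ← QuotientGroup.mk_mul, QuotientGroup.eq]
      have := commElt_mem_center h y⁻¹ x⁻¹
      have e : (x * y)⁻¹ * (y * x) = y⁻¹ * x⁻¹ * y⁻¹⁻¹ * x⁻¹⁻¹ := by group
      rw [e]
      exact this

theorem quot_sq (h : ESData P z) (a : P ⧸ Subgroup.center P) : a * a = 1 := by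
  induction a using QuotientGroup.induction_on with
  | H x =>
    rw [← QuotientGroup.mk_mul, QuotientGroup.eq_one_iff, sq_eq h x, mem_center_iff' h]
    rcases zmod2_cases (qq x) with h1 | h1
    · left; rw [h1]; rfl
    · right; rw [h1]; rfl

/-- the central quotient written additively, tagged by the extraspecial data. -/
def AV (_h : ESData P z) : Type u := Additive (P ⧸ Subgroup.center P)

instance instAddGroupAV (h : ESData P z) : AddGroup (AV h) :=
  inferInstanceAs (AddGroup (Additive (P ⧸ Subgroup.center P)))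

instance instAddCommGroupAV (h : ESData P z) : AddCommGroup (AV h) :=
  { instAddGroupAV h with
    add_comm := fun a b => quot_comm h (Additive.toMul a) (Additive.toMul b) }

/-- the projection to the central quotient. -/
def pr (h : ESData P z) (x : P) : AV h := Additive.ofMul (QuotientGroup.mk x : P ⧸ Subgroup.center P)

theorem pr_mul (h : ESData P z) (x y : P) : pr h (x * y) = pr h x + pr h y := rfl

theorem pr_surj (h : ESData P z) : Function.Surjective (pr h) := by
  intro v
  obtain ⟨x, hx⟩ := QuotientGroup.mk_surjective (s := Subgroup.center P) (Additive.toMul v)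
  exact ⟨x, by rw [pr, hx]; rfl⟩

theorem pr_eq_zero_iff (h : ESData P z) (x : P) : pr h x = 0 ↔ x ∈ Subgroup.center P := by
  show Additive.ofMul (QuotientGroup.mk x : P ⧸ Subgroup.center P) = Additive.ofMul 1 ↔ _
  rw [Additive.ofMul.injective.eq_iff, QuotientGroup.eq_one_iff]

theorem add_self_AV (h : ESData P z) (v : AV h) : v + v = 0 := quot_sq h (Additive.toMul v)

instance instModuleAV (h : ESData P z) : Module (ZMod 2) (AV h) :=
  AddCommGroup.zmodModule (n := 2) (fun v => by rw [two_nsmul]; exact add_self_AV h v)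

instance instFiniteAV [Finite P] (h : ESData P z) : Finite (AV h) :=
  inferInstanceAs (Finite (Additive (P ⧸ Subgroup.center P)))

theorem pr_eq_iff (h : ESData P z) (x y : P) : pr h x = pr h y ↔ ∃ e : ZMod 2, y = x * pz z e := by
  constructor
  · intro hxy
    have h1 : pr h (x⁻¹ * y) = 0 := by
      have h2 : pr h x + pr h (x⁻¹ * y) = pr h x + 0 := by
        rw [← pr_mul, mul_inv_cancel_left, add_zero, hxy]
      exact add_left_cancel h2
    rcases (mem_center_iff' h _).mp ((pr_eq_zero_iff h _).mp h1) with h2 | h2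
    · refine ⟨0, ?_⟩
      rw [pz_zero, mul_one]
      exact (inv_mul_eq_one.mp h2).symm
    · refine ⟨1, ?_⟩
      rw [pz_one, ← h2]; group
  · rintro ⟨e, rfl⟩
    rw [pr_mul]
    have : pr h (pz z e) = 0 := by
      rw [pr_eq_zero_iff, mem_center_iff' h]
      rcases zmod2_cases e with h1 | h1
      · left; rw [h1]; rfl
      · right; rw [h1]; rfl
    rw [this, add_zero]

/-- a set-theoretic section of the projection. -/
noncomputable def sc (h : ESData P z) (v : AV h) : P := Function.surjInv (pr_surj h) v

theorem pr_sc (h : ESData P z) (v : AV h) : pr h (sc h v) = v := Function.surjInv_eq (pr_surj h) v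

/-- the quadratic function on the central quotient. -/
noncomputable def qb (h : ESData P z) (v : AV h) : ZMod 2 := qq (sc h v)

/-- the bilinear function on the central quotient. -/
noncomputable def bb (h : ESData P z) (u v : AV h) : ZMod 2 := cc (sc h u) (sc h v)

theorem qq_mul_pz (h : ESData P z) (x : P) (e : ZMod 2) : qq (x * pz z e) = qq x := by
  rw [qq_mul h, qq_pz h, cc_pz_right h, add_zero, add_zero]

theorem qb_pr (h : ESData P z) (x : P) : qb h (pr h x) = qq x := by
  obtain ⟨e, he⟩ := (pr_eq_iff h x (sc h (pr h x))).mp (pr_sc h _).symm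
  rw [qb, he, qq_mul_pz h]

theorem bb_pr (h : ESData P z) (x y : P) : bb h (pr h x) (pr h y) = cc x y := by
  obtain ⟨e, he⟩ := (pr_eq_iff h x (sc h (pr h x))).mp (pr_sc h _).symm
  obtain ⟨e', he'⟩ := (pr_eq_iff h y (sc h (pr h y))).mp (pr_sc h _).symm
  rw [bb, he, he', cc_mul_left h, cc_mul_right h, cc_mul_right h, cc_pz_right h, cc_pz_left h,
    cc_pz_left h, add_zero, add_zero, add_zero]

theorem qb_add (h : ESData P z) (u v : AV h) : qb h (u + v) = qb h u + qb h v + bb h u v := by
  obtain ⟨x, rfl⟩ := pr_surj h u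
  obtain ⟨y, rfl⟩ := pr_surj h v
  rw [← pr_mul, qb_pr, qb_pr, qb_pr, bb_pr, qq_mul h]

theorem bb_add_left (h : ESData P z) (u u' v : AV h) : bb h (u + u') v = bb h u v + bb h u' v := by
  obtain ⟨x, rfl⟩ := pr_surj h u
  obtain ⟨x', rfl⟩ := pr_surj h u'
  obtain ⟨y, rfl⟩ := pr_surj h v
  rw [← pr_mul, bb_pr, bb_pr, bb_pr, cc_mul_left h]

theorem bb_self (h : ESData P z) (u : AV h) : bb h u u = 0 := cc_self _

theorem bb_comm (h : ESData P z) (u v : AV h) : bb h u v = bb h v u := cc_symm _ _

theorem bb_nondeg (h : ESData P z) (u : AV h) (hu : ∀ v, bb h u v = 0) : u = 0 := by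
  obtain ⟨x, rfl⟩ := pr_surj h u
  rw [pr_eq_zero_iff, mem_center_iff' h, ← center_iff h]
  intro g
  rw [← bb_pr h]
  exact hu _

/-- the quadratic form on the central quotient. -/
noncomputable def QV (h : ESData P z) : QuadraticForm (ZMod 2) (AV h) :=
  Cfsg.Agent.Lib.Helper15.mkQF2 (qb h) (bb h) (bb_add_left h) (qb_add h) (bb_self h)

theorem QV_apply (h : ESData P z) (v : AV h) : QV h v = qb h v := rfl

theorem QV_polar (h : ESData P z) (u v : AV h) : polar (QV h) u v = bb h u v :=
  Cfsg.Agent.Lib.Helper15.mkQF2_polar _ _ _ _ _ u v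

theorem QV_nondeg (h : ESData P z) : (polarBilin (QV h)).Nondegenerate := by
  constructor
  · intro x hx
    apply bb_nondeg h
    intro v
    rw [← QV_polar, ← polarBilin_apply_apply]
    exact hx v
  · intro x hx
    apply bb_nondeg h
    intro v
    rw [bb_comm, ← QV_polar, ← polarBilin_apply_apply]
    exact hx v

theorem card_AV [Finite P] (h : ESData P z) : 2 * Nat.card (AV h) = Nat.card P := by
  have h1 := Subgroup.card_eq_card_quotient_mul_card_subgroup (Subgroup.center P)
  rw [card_center h] at h1
  rw [h1, mul_comm]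
  rfl

theorem finrank_AV [Finite P] (h : ESData P z) (n : ℕ) (hcard : Nat.card P = 2 ^ (2 * n + 1)) :
    finrank (ZMod 2) (AV h) = 2 * n := by
  have h1 := card_AV h
  rw [hcard, pow_succ, mul_comm] at h1
  have h2 : Nat.card (AV h) = 2 ^ (2 * n) := Nat.eq_of_mul_eq_mul_right (by norm_num) h1
  have h3 := Module.natCard_eq_pow_finrank (K := ZMod 2) (V := AV h)
  rw [h2, Nat.card_zmod] at h3
  exact (Nat.pow_right_injective (le_refl 2) h3).symm

/-- coordinates exist, of plus or of minus type. -/
theorem exists_coord [Finite P] (h : ESData P z) (k : ℕ) (hcard : Nat.card P = 2 ^ (2 * (k + 1) + 1)) :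
    Nonempty (Coord P (Cfsg.quadFormPlus (k + 1) (ZMod 2))) ∨
      Nonempty (Coord P (Cfsg.quadFormMinus k (ZMod 2) 1 1)) := by
  have hfr := finrank_AV h (k + 1) hcard
  rcases classify_gen (QV h) (QV_nondeg h) k hfr with ⟨g, hg⟩ | ⟨g, hg⟩
  · left
    refine ⟨⟨fun x => g (pr h x), ?_, ?_, ?_, ?_⟩⟩
    · intro x y
      rw [pr_mul, map_add]
    · intro v
      obtain ⟨x, hx⟩ := pr_surj h (g.symm v)
      exact ⟨x, by show g (pr h x) = v; rw [hx, LinearEquiv.apply_symm_apply]⟩
    · intro x
      rw [← pr_eq_zero_iff h]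
      exact g.map_eq_zero_iff
    · intro x
      rw [← hg, QV_apply, qb_pr]
  · right
    refine ⟨⟨fun x => g (pr h x), ?_, ?_, ?_, ?_⟩⟩
    · intro x y
      rw [pr_mul, map_add]
    · intro v
      obtain ⟨x, hx⟩ := pr_surj h (g.symm v)
      exact ⟨x, by show g (pr h x) = v; rw [hx, LinearEquiv.apply_symm_apply]⟩
    · intro x
      rw [← pr_eq_zero_iff h]
      exact g.map_eq_zero_iff
    · intro x
      rw [← hg, QV_apply, qb_pr]

end quot

end Cfsg.Agent.Lib.Helper16.ESQuad
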