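import Mathlib
import Cfsg.Prelude.Def_Transfer
import Cfsg.Prelude.Def_Classical
import Cfsg.Agent.Lib.Helper15.WittBound
import Cfsg.Agent.Lib.Helper16.ESQuad3

/-!
# Plus/minus type of an extraspecial 2-group via elementary abelian subgroups (helper16)
-/

set_option autoImplicit false
set_option linter.unusedSectionVars false

namespace Cfsg.Agent.Lib.Helper16.ESQuad

open Cfsg.Agent.Lib.Helper16.ES32 Module

section typ

variable {P : Type*} [Group P] {z : P}

/-- plus type: a maximal totally singular subspace lifts to an elementary abelian subgroup. -/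
theorem exists_elemAb_of_plus [Finite P] (h : ESData P z) (m : ℕ)
    (C : Coord P (Cfsg.quadFormPlus m (ZMod 2))) :
    ∃ A : Subgroup P, Cfsg.IsElementaryAbelian 2 A ∧ Nat.card A = 2 ^ (m + 1) := by
  classical
  let A : Subgroup P :=
    { carrier := {x | ∀ i : Fin m, C.κ x (Sum.inr i) = 0}
      one_mem' := by
        intro i
        rw [C.map_one]; rfl
      mul_mem' := by
        intro x y hx hy i
        rw [C.map_mul, Pi.add_apply, hx i, hy i, add_zero]
      inv_mem' := by
        intro x hx i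
        rw [C.map_inv]; exact hx i }
  have hAmem : ∀ x : P, x ∈ A ↔ ∀ i : Fin m, C.κ x (Sum.inr i) = 0 := fun x => Iff.rfl
  have hq : ∀ x ∈ A, qq x = 0 := by
    intro x hx
    rw [C.quad, Cfsg.quadFormPlus]
    apply Finset.sum_eq_zero
    intro i _
    rw [hx i, mul_zero]
  have hsq : ∀ x ∈ A, x * x = 1 := fun x hx => (qq_eq_zero_iff x).mp (hq x hx)
  have hcomm : ∀ x ∈ A, ∀ y ∈ A, x * y = y * x := by
    intro x hx y hy
    rw [← cc_eq_zero_iff]
    have h1 := qq_mul h x y
    rw [hq x hx, hq y hy, hq _ (A.mul_mem hx hy), zero_add, zero_add] at h1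
    exact h1.symm
  refine ⟨A, ⟨⟨⟨fun a b => Subtype.ext (hcomm a a.2 b b.2)⟩⟩, fun a ha => by rw [pow_two]; exact hsq a ha⟩, ?_⟩
  -- the cardinality
  let φ : A →* Multiplicative (Fin m → ZMod 2) :=
    { toFun := fun a => Multiplicative.ofAdd (fun i => C.κ (a : P) (Sum.inl i))
      map_one' := by
        show Multiplicative.ofAdd (fun i => C.κ (1 : P) (Sum.inl i)) = 1
        rw [C.map_one]; rfl
      map_mul' := by
        intro a b
        show Multiplicative.ofAdd (fun i => C.κ ((a : P) * (b : P)) (Sum.inl i)) = _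
        rw [C.map_mul]; rfl }
  have hφ : ∀ a : A, Multiplicative.toAdd (φ a) = fun i => C.κ (a : P) (Sum.inl i) := fun a => rfl
  have hsurj : Function.Surjective φ := by
    intro w
    obtain ⟨x, hx⟩ := C.surj (Sum.elim (Multiplicative.toAdd w) 0)
    have hxA : x ∈ A := by
      intro i
      rw [hx]; rfl
    refine ⟨⟨x, hxA⟩, ?_⟩
    apply Multiplicative.toAdd.injective
    rw [hφ]
    funext i
    show C.κ x (Sum.inl i) = _
    rw [hx]; rfl
  have hker : φ.ker = (Subgroup.center P).subgroupOf A := by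
    ext a
    rw [MonoidHom.mem_ker, Subgroup.mem_subgroupOf, ← C.ker]
    constructor
    · intro ha
      have ha' : (fun i => C.κ (a : P) (Sum.inl i)) = 0 := by
        rw [← hφ, ha]; rfl
      funext j
      rcases j with i | i
      · exact congrFun ha' i
      · exact a.2 i
    · intro ha
      apply Multiplicative.toAdd.injective
      rw [hφ, ha]; rfl
  have hZA : Subgroup.center P ≤ A := by
    intro w hw i
    rw [(C.ker w).mpr hw]; rfl
  have h1 := φ.ker.card_mul_index
  rw [Subgroup.index_ker, MonoidHom.range_eq_top.mpr hsurj, Subgroup.card_top, hker,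
    Nat.card_congr (Subgroup.subgroupOfEquivOfLe hZA).toEquiv, card_center h] at h1
  rw [← h1, pow_succ, mul_comm]
  congr 1
  rw [Nat.card_eq_fintype_card]
  simp

/-- minus type: elementary abelian subgroups are small. -/
theorem card_elemAb_le_of_minus [Finite P] (h : ESData P z) (k : ℕ)
    (C : Coord P (Cfsg.quadFormMinus k (ZMod 2) 1 1)) (A : Subgroup P)
    (hA : Cfsg.IsElementaryAbelian 2 A) : Nat.card A ≤ 2 ^ (k + 1) := by
  classical
  let U : Submodule (ZMod 2) ((Fin k ⊕ Fin k) ⊕ Fin 2 → ZMod 2) :=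
    { carrier := {u | ∃ a ∈ A, C.κ a = u}
      zero_mem' := ⟨1, A.one_mem, C.map_one⟩
      add_mem' := by
        rintro u v ⟨a, ha, rfl⟩ ⟨b, hb, rfl⟩
        exact ⟨a * b, A.mul_mem ha hb, C.map_mul a b⟩
      smul_mem' := by
        rintro c u ⟨a, ha, rfl⟩
        rcases zmod2_cases c with rfl | rfl
        · exact ⟨1, A.one_mem, by rw [C.map_one, zero_smul]⟩
        · exact ⟨a, ha, by rw [one_smul]⟩ }
  have hUmem : ∀ u, u ∈ U ↔ ∃ a ∈ A, C.κ a = u := fun u => Iff.rfl
  have hU : ∀ u ∈ U, Cfsg.quadFormMinus k (ZMod 2) 1 1 u = 0 := by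
    rintro u ⟨a, ha, rfl⟩
    rw [← C.quad, qq_eq_zero_iff, ← pow_two]
    exact hA.2 a ha
  have hab : ∀ z₁ z₂ : ZMod 2, z₁ ^ 2 + 1 * z₁ * z₂ + 1 * z₂ ^ 2 = 0 → z₁ = 0 ∧ z₂ = 0 := by decide
  have hfr := Cfsg.Agent.Lib.Helper15.ts_minus_le k 1 1 hab U hU
  have hUcard : Nat.card U ≤ 2 ^ k := by
    rw [Module.natCard_eq_pow_finrank (K := ZMod 2) (V := U), Nat.card_zmod]
    exact Nat.pow_le_pow_right (by norm_num) hfr
  let φ : A →* Multiplicative ((Fin k ⊕ Fin k) ⊕ Fin 2 → ZMod 2) :=
    { toFun := fun a => Multiplicative.ofAdd (C.κ (a : P))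
      map_one' := by
        show Multiplicative.ofAdd (C.κ (1 : P)) = 1
        rw [C.map_one]; rfl
      map_mul' := by
        intro a b
        show Multiplicative.ofAdd (C.κ ((a : P) * (b : P))) = _
        rw [C.map_mul]; rfl }
  have hφ : ∀ a : A, Multiplicative.toAdd (φ a) = C.κ (a : P) := fun a => rfl
  have hker : Nat.card φ.ker ≤ 2 := by
    refine le_of_le_of_eq ?_ (card_center h)
    apply Nat.card_le_card_of_injective
      (fun a : φ.ker => (⟨((a : A) : P), by
        rw [← C.ker, ← hφ, MonoidHom.mem_ker.mp a.2]; rfl⟩ : Subgroup.center P))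
    intro a b hab
    apply Subtype.ext
    apply Subtype.ext
    have := congrArg Subtype.val hab
    exact this
  have hrange : Nat.card φ.range ≤ Nat.card U := by
    apply Nat.card_le_card_of_injective
      (fun b : φ.range => (⟨Multiplicative.toAdd (b : Multiplicative _), by
        obtain ⟨a, ha⟩ := b.2
        exact ⟨a, a.2, by rw [← hφ, ha]⟩⟩ : U))
    intro a b hab
    apply Subtype.ext
    apply Multiplicative.toAdd.injective
    have := congrArg Subtype.val hab
    exact this
  have h1 := φ.ker.card_mul_index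
  rw [Subgroup.index_ker] at h1
  rw [← h1, pow_succ, mul_comm]
  exact Nat.mul_le_mul (hrange.trans hUcard) hker

end typ

end Cfsg.Agent.Lib.Helper16.ESQuad
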