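import Mathlib
import Cfsg.Prelude.Def_Transfer
import Cfsg.Prelude.Def_Classical
import Cfsg.Prelude.Def_KGroupFacts
import Cfsg.Agent.Lib.Helper16.ESQuad3

/-!
# Lifting isometries to automorphisms of an extraspecial 2-group; `Out P ≃* O(Qs)` (helper16)
-/

set_option autoImplicit false
set_option linter.unusedSectionVars false

namespace Cfsg.Agent.Lib.Helper16.ESQuad

open Cfsg.Agent.Lib.Helper16.ES32

section lift

variable {P : Type*} [Group P] {z : P} (h : ESData P z)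
  {ι : Type} [Fintype ι] [DecidableEq ι] {Qs : (ι → ZMod 2) → ZMod 2} (C : Coord P Qs)
include h

/-- the subgroup of `P × P` of pairs compatible with the matrix `gm`. -/
def Coord.Gam (gm : Matrix ι ι (ZMod 2)) : Subgroup (P × P) where
  carrier := {p | C.κ p.2 = gm.mulVec (C.κ p.1)}
  one_mem' := by
    show C.κ (1 : P) = gm.mulVec (C.κ (1 : P))
    rw [C.map_one, Matrix.mulVec_zero]
  mul_mem' := by
    intro p q hp hq
    show C.κ (p.2 * q.2) = gm.mulVec (C.κ (p.1 * q.1))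
    rw [C.map_mul, C.map_mul, Matrix.mulVec_add, ← hp, ← hq]
  inv_mem' := by
    intro p hp
    show C.κ (p.2⁻¹) = gm.mulVec (C.κ (p.1⁻¹))
    rw [C.map_inv, C.map_inv]
    exact hp

omit h in
theorem Coord.mem_Gam (gm : Matrix ι ι (ZMod 2)) (p : P × P) :
    p ∈ C.Gam gm ↔ C.κ p.2 = gm.mulVec (C.κ p.1) := Iff.rfl

theorem Coord.exists_lift [Finite P] (gm gi : Matrix ι ι (ZMod 2)) (hgi : gi * gm = 1)
    (hgm : ∀ u, Qs (gm.mulVec u) = Qs u) :
    ∃ α : MulAut P, ∀ x : P, C.κ (α x) = gm.mulVec (C.κ x) := by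
  classical
  -- the diagonal subgroup
  let D : Subgroup (C.Gam gm) :=
    { carrier := {p | ∃ e : ZMod 2, (p : P × P) = (pz z e, pz z e)}
      one_mem' := ⟨0, rfl⟩
      mul_mem' := by
        rintro p q ⟨e, he⟩ ⟨e', he'⟩
        refine ⟨e + e', ?_⟩
        show (p : P × P) * (q : P × P) = _
        rw [he, he', Prod.mk_mul_mk, pz_mul_pz h]
      inv_mem' := by
        rintro p ⟨e, he⟩
        refine ⟨e, ?_⟩
        show (p : P × P)⁻¹ = _
        rw [he, Prod.inv_mk]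
        have : (pz z e)⁻¹ = pz z e := by
          rw [inv_eq_iff_mul_eq_one, pz_mul_pz h, zmod2_add_self]; rfl
        rw [this] }
  have hD : ∀ p : C.Gam gm, p ∈ D ↔ ∃ e : ZMod 2, (p : P × P) = (pz z e, pz z e) := fun p => Iff.rfl
  have hpres : ∀ x y : P, C.κ y = gm.mulVec (C.κ x) → qq y = qq x := by
    intro x y hxy
    rw [C.quad, C.quad, hxy, hgm]
  have hsq : ∀ a : C.Gam gm, a * a ∈ D := by
    rintro ⟨⟨x, y⟩, hxy⟩
    refine ⟨qq x, ?_⟩
    show (x * x, y * y) = _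
    rw [sq_eq h x, sq_eq h y, hpres x y hxy]
  have hc : ∀ a b : C.Gam gm, a * b * a⁻¹ * b⁻¹ ∈ D := by
    rintro ⟨⟨x, y⟩, hxy⟩ ⟨⟨x', y'⟩, hxy'⟩
    refine ⟨cc x x', ?_⟩
    show (x * x' * x⁻¹ * x'⁻¹, y * y' * y⁻¹ * y'⁻¹) = _
    rw [commElt_eq h, commElt_eq h]
    have : cc y y' = cc x x' := by
      have h1 : C.κ y = gm.mulVec (C.κ x) := hxy
      have h2 : C.κ y' = gm.mulVec (C.κ x') := hxy'
      rw [C.polar h, C.polar h, h1, h2, ← Matrix.mulVec_add, hgm, hgm, hgm]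
    rw [this]
  have hwmem : ((1 : P), z) ∈ C.Gam gm := by
    show C.κ z = gm.mulVec (C.κ 1)
    rw [C.map_z h, C.map_one, Matrix.mulVec_zero]
  have hwD : (⟨((1 : P), z), hwmem⟩ : C.Gam gm) ∉ D := by
    rintro ⟨e, he⟩
    have h1 : (1 : P) = pz z e := congrArg Prod.fst he
    have h2 : z = pz z e := congrArg Prod.snd he
    exact h.z_ne (h2.trans h1.symm)
  obtain ⟨Δ, hDΔ, hwΔ, hcover⟩ := exists_hyperplane D hsq hc _ hwD
  -- the graph relation
  have hex : ∀ x : P, ∃ y : P, ∃ hxy : (x, y) ∈ C.Gam gm, (⟨(x, y), hxy⟩ : C.Gam gm) ∈ Δ := by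
    intro x
    have hmem : (x, C.sec (gm.mulVec (C.κ x))) ∈ C.Gam gm := by
      show C.κ (C.sec (gm.mulVec (C.κ x))) = gm.mulVec (C.κ x)
      exact C.κ_sec _
    rcases hcover ⟨_, hmem⟩ with h1 | h1
    · exact ⟨_, hmem, h1⟩
    · refine ⟨C.sec (gm.mulVec (C.κ x)) * z, ?_, ?_⟩
      · have := (C.Gam gm).mul_mem hmem hwmem
        rwa [Prod.mk_mul_mk, mul_one] at this
      · have h2 : (⟨(x, C.sec (gm.mulVec (C.κ x))), hmem⟩ * ⟨((1 : P), z), hwmem⟩ : C.Gam gm)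
            = ⟨(x, C.sec (gm.mulVec (C.κ x)) * z), by
                have := (C.Gam gm).mul_mem hmem hwmem
                rwa [Prod.mk_mul_mk, mul_one] at this⟩ := by
          apply Subtype.ext
          exact Prod.ext (mul_one x) rfl
        rw [h2] at h1
        exact h1
  have huniq : ∀ x y y' : P, (∃ hxy : (x, y) ∈ C.Gam gm, (⟨(x, y), hxy⟩ : C.Gam gm) ∈ Δ) →
      (∃ hxy : (x, y') ∈ C.Gam gm, (⟨(x, y'), hxy⟩ : C.Gam gm) ∈ Δ) → y = y' := by
    rintro x y y' ⟨h1, h1'⟩ ⟨h2, h2'⟩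
    have h3 := Δ.mul_mem (Δ.inv_mem h1') h2'
    have h4 : C.κ y = C.κ y' := by
      have e1 : C.κ y = gm.mulVec (C.κ x) := h1
      have e2 : C.κ y' = gm.mulVec (C.κ x) := h2
      rw [e1, e2]
    obtain ⟨e, he⟩ := (C.eq_iff h y y').mp h4
    rcases zmod2_cases e with rfl | rfl
    · rw [he]; simp
    · exfalso
      apply hwΔ
      have h5 : ((⟨(x, y), h1⟩ : C.Gam gm)⁻¹ * ⟨(x, y'), h2⟩ : C.Gam gm) = ⟨((1 : P), z), hwmem⟩ := by
        apply Subtype.ext
        show (x⁻¹ * x, y⁻¹ * y') = ((1 : P), z)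
        rw [he, pz_one, inv_mul_cancel, inv_mul_cancel_left]
      rw [h5] at h3
      exact h3
  choose αf hαf using hex
  have hαmul : ∀ x x' : P, αf (x * x') = αf x * αf x' := by
    intro x x'
    apply huniq (x * x') _ _ (hαf (x * x'))
    obtain ⟨h1, h1'⟩ := hαf x
    obtain ⟨h2, h2'⟩ := hαf x'
    have h3 := Δ.mul_mem h1' h2'
    exact ⟨(C.Gam gm).mul_mem h1 h2, h3⟩
  have hακ : ∀ x : P, C.κ (αf x) = gm.mulVec (C.κ x) := by
    intro x
    obtain ⟨h1, -⟩ := hαf x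
    exact h1
  let αhom : P →* P := MonoidHom.mk' αf hαmul
  have hinj : Function.Injective αhom := by
    rw [injective_iff_map_eq_one]
    intro x hx
    have hx' : αf x = 1 := hx
    have h1 : C.κ x = 0 := by
      have h2 := hακ x
      rw [hx', C.map_one] at h2
      have h3 : gi.mulVec (gm.mulVec (C.κ x)) = C.κ x := by
        rw [Matrix.mulVec_mulVec, hgi, Matrix.one_mulVec]
      rw [← h3, ← h2, Matrix.mulVec_zero]
    rcases (mem_center_iff' h x).mp ((C.ker x).mp h1) with h2 | h2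
    · exact h2
    · exfalso
      apply hwΔ
      obtain ⟨h3, h3'⟩ := hαf x
      have hzz : ((z, z) : P × P) ∈ C.Gam gm := by
        show C.κ z = gm.mulVec (C.κ z)
        rw [C.map_z h, Matrix.mulVec_zero]
      have h4 : (⟨(z, z), hzz⟩ : C.Gam gm) ∈ Δ := hDΔ ⟨1, rfl⟩
      have h5 := Δ.mul_mem (Δ.inv_mem h3') h4
      have h6 : ((⟨(x, αf x), h3⟩ : C.Gam gm)⁻¹ * ⟨(z, z), hzz⟩ : C.Gam gm) = ⟨((1 : P), z), hwmem⟩ := by
        apply Subtype.ext
        show (x⁻¹ * z, (αf x)⁻¹ * z) = ((1 : P), z)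
        rw [hx', h2, inv_one, one_mul, inv_mul_cancel]
      rw [h6] at h5
      exact h5
  have hbij : Function.Bijective αhom := ⟨hinj, Finite.injective_iff_surjective.mp hinj⟩
  refine ⟨MulEquiv.ofBijective αhom hbij, ?_⟩
  intro x
  exact hακ x

theorem Coord.Phi_surjective [Finite P] : Function.Surjective (C.Phi h) := by
  intro g
  have hgm := (mem_isometryGroup_iff' g.1).mp g.2
  obtain ⟨α, hα⟩ := C.exists_lift h ((g.1 : Matrix.GeneralLinearGroup ι (ZMod 2)) : Matrix ι ι (ZMod 2))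
    ((g.1⁻¹ : Matrix.GeneralLinearGroup ι (ZMod 2)) : Matrix ι ι (ZMod 2)) (Units.inv_mul g.1) hgm
  exact ⟨α, (C.Phi_eq_iff h α g).mpr hα⟩

theorem Coord.Phi_ker [Finite P] : (C.Phi h).ker = Cfsg.Inn P := by
  apply le_antisymm
  · intro α hα
    exact C.mem_inn_of_Phi_eq_one h α (MonoidHom.mem_ker.mp hα)
  · rintro _ ⟨g, rfl⟩
    rw [MonoidHom.mem_ker]
    exact C.Phi_conj h g

include C in
/-- `Out P` is the isometry group of the coordinate quadratic function. -/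
theorem Coord.out_equiv [Finite P] :
    Nonempty (Cfsg.Out P ≃* Cfsg.isometryGroup (ZMod 2) Qs) :=
  ⟨(QuotientGroup.quotientMulEquivOfEq (C.Phi_ker h).symm).trans
    (QuotientGroup.quotientKerEquivOfSurjective (C.Phi h) (C.Phi_surjective h))⟩

end lift

end Cfsg.Agent.Lib.Helper16.ESQuad
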