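import Mathlib
import Cfsg.Prelude.Def_Transfer
import Cfsg.Prelude.Def_Classical
import Cfsg.Prelude.Def_KGroupFacts
import Cfsg.Agent.Lib.Helper16.ESQuad4

/-!
# Non-splitting of `Aut` over `Inn` for extraspecial 2-groups of width at least 3 (helper16)

The obstruction: for pairwise commuting elements `y₁ y₂ y₃` of order four with independent images, the
isometries `s = r₁ r₂ r₃` and `t = r₁ r₂ r₄` (`r₄` the reflection in `y₁ y₂ y₃`) are commuting involutions
which have no commuting involutory lifts to `Aut P`.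
-/

set_option autoImplicit false
set_option linter.unusedSectionVars false

namespace Cfsg.Agent.Lib.Helper16.ESQuad

open Cfsg.Agent.Lib.Helper16.ES32

section lemmaA

variable {P : Type*} [Group P] {z : P} (h : ESData P z)
include h

theorem sq_sq (w : P) : w * w * (w * w) = 1 := by
  rw [sq_eq h w, pz_mul_pz h, zmod2_add_self]; rfl

/-- for an involutory automorphism `ρ`, the element `w * ρ w` is inverted by `ρ`. -/
theorem mul_apply_inverted (ρ : P ≃* P) (hρ2 : ∀ w, ρ (ρ w) = w) (w : P) :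
    (w * ρ w) * ρ (w * ρ w) = 1 := by
  rw [map_mul, hρ2]
  have h1 : ρ w * ρ w = w * w := by
    rw [← map_mul, sq_eq h w, aut_pz h]
  calc w * ρ w * (ρ w * w) = w * (ρ w * ρ w) * w := by group
    _ = w * (w * w) * w := by rw [h1]
    _ = w * w * (w * w) := by group
    _ = 1 := sq_sq h w

theorem mul_apply_inverted' (ρ : P ≃* P) (hρ2 : ∀ w, ρ (ρ w) = w) (w x : P)
    (hx : ∃ e : ZMod 2, x = w * ρ w * pz z e) : x * ρ x = 1 := by
  obtain ⟨e, rfl⟩ := hx
  rw [map_mul ρ (w * ρ w), aut_pz h]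
  have h1 := pz_comm h e (ρ (w * ρ w))
  calc w * ρ w * pz z e * (ρ (w * ρ w) * pz z e)
      = w * ρ w * (pz z e * ρ (w * ρ w)) * pz z e := by group
    _ = w * ρ w * (ρ (w * ρ w) * pz z e) * pz z e := by rw [h1]
    _ = (w * ρ w * ρ (w * ρ w)) * (pz z e * pz z e) := by group
    _ = 1 := by rw [mul_apply_inverted h ρ hρ2, pz_mul_pz h, zmod2_add_self]; simp

/-- the key obstruction. -/
theorem comm_of_involutory_lifts (σ τ : P ≃* P) (hσ2 : ∀ w, σ (σ w) = w) (hτ2 : ∀ w, τ (τ w) = w)
    (hcomm : ∀ w, σ (τ w) = τ (σ w)) (c u₁ u₂ : P)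
    (h1 : ∃ e : ZMod 2, c * τ c = u₁ * σ u₁ * pz z e)
    (h2 : ∃ e : ZMod 2, c * σ c = u₂ * τ u₂ * pz z e) : cc (σ c) (τ c) = 0 := by
  have e1 := mul_apply_inverted' h σ hσ2 u₁ (c * τ c) h1
  have e2 := mul_apply_inverted' h τ hτ2 u₂ (c * σ c) h2
  rw [map_mul] at e1 e2
  rw [hcomm] at e1
  rw [cc_eq_zero_iff]
  have e3 : c * τ c * (σ c * τ (σ c)) = c * σ c * (τ c * τ (σ c)) := by rw [e1, e2]
  have e4 : c * (τ c * σ c) * τ (σ c) = c * (σ c * τ c) * τ (σ c) := by
    calc c * (τ c * σ c) * τ (σ c) = c * τ c * (σ c * τ (σ c)) := by group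
      _ = c * σ c * (τ c * τ (σ c)) := e3
      _ = _ := by group
  exact (mul_left_cancel (mul_right_cancel e4)).symm

end lemmaA

section rp

variable {P : Type*} [Group P] {z : P} (h : ESData P z) {ι : Type}
  {Qs : (ι → ZMod 2) → ZMod 2} (C : Coord P Qs)
include h

theorem Coord.map_pz_gen (y : P) (e : ZMod 2) : C.κ (pz y e) = e • C.κ y := by
  rcases zmod2_cases e with rfl | rfl
  · rw [pz_zero, C.map_one, zero_smul]
  · rw [pz_one, one_smul]

/-- the commutator indicator only depends on the coordinates. -/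
theorem Coord.cc_congr {x x' y y' : P} (hx : C.κ x = C.κ x') (hy : C.κ y = C.κ y') :
    cc x y = cc x' y' := by
  rw [C.polar h, C.polar h, hx, hy]

omit h in
theorem smul_add_smul_self {ι : Type*} (e : ZMod 2) (v : ι → ZMod 2) : e • v + e • v = 0 :=
  fun_add_self _

/-- `α` acts on coordinates as the product of the three reflections in `a`, `b`, `c`. -/
def Coord.IsRP (α : P ≃* P) (a b c : P) : Prop :=
  ∀ w : P, C.κ (α w) = C.κ w + cc w a • C.κ a + cc w b • C.κ b + cc w c • C.κ c

theorem Coord.IsRP.cc_apply {α : P ≃* P} {a b c : P} (hα : C.IsRP α a b c) (w x : P) :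
    cc (α w) x = cc w x + cc w a * cc a x + cc w b * cc b x + cc w c * cc c x := by
  have h1 : C.κ (α w) = C.κ (w * pz a (cc w a) * pz b (cc w b) * pz c (cc w c)) := by
    rw [hα w, C.map_mul, C.map_mul, C.map_mul, C.map_pz_gen h, C.map_pz_gen h, C.map_pz_gen h]
  rw [C.cc_congr h h1 rfl, cc_mul_left h, cc_mul_left h, cc_mul_left h, cc_pz_gen_left h,
    cc_pz_gen_left h, cc_pz_gen_left h]

theorem Coord.isRP_congr {α β : P ≃* P} {a b c : P} (hα : C.IsRP α a b c)
    (hβ : ∀ w, C.κ (β w) = C.κ (α w)) : C.IsRP β a b c := by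
  intro w
  rw [hβ w, hα w]

theorem Coord.κ_refl [Finite P] (y : P) (hy : qq y = 1) (w : P) :
    C.κ (refl h y hy w) = C.κ w + cc w y • C.κ y := by
  rw [refl_apply, C.map_mul, C.map_pz_gen h]

theorem cc_refl [Finite P] (y : P) (hy : qq y = 1) (w x : P) :
    cc (refl h y hy w) x = cc w x + cc w y * cc y x := by
  rw [refl_apply, cc_mul_left h, cc_pz_gen_left h]

/-- the product of three commuting reflections. -/
theorem Coord.isRP_refl3 [Finite P] (a b c : P) (ha : qq a = 1) (hb : qq b = 1) (hc : qq c = 1)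
    (hab : cc a b = 0) (hac : cc a c = 0) (hbc : cc b c = 0) :
    C.IsRP (refl h a ha * refl h b hb * refl h c hc) a b c := by
  intro w
  show C.κ (refl h a ha (refl h b hb (refl h c hc w))) = _
  have hba : cc b a = 0 := by rw [cc_symm]; exact hab
  have hca : cc c a = 0 := by rw [cc_symm]; exact hac
  have hcb : cc c b = 0 := by rw [cc_symm]; exact hbc
  rw [C.κ_refl h, C.κ_refl h, C.κ_refl h, cc_refl h, cc_refl h, cc_refl h, hcb, hba, hca]
  simp only [mul_zero, add_zero]
  abel

/-- a reflection product with pairwise commuting centres squares to the identity on coordinates. -/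
theorem Coord.IsRP.sq_apply {α : P ≃* P} {a b c : P} (hα : C.IsRP α a b c)
    (hab : cc a b = 0) (hac : cc a c = 0) (hbc : cc b c = 0) (w : P) :
    C.κ (α (α w)) = C.κ w := by
  have hba : cc b a = 0 := by rw [cc_symm]; exact hab
  have hca : cc c a = 0 := by rw [cc_symm]; exact hac
  have hcb : cc c b = 0 := by rw [cc_symm]; exact hbc
  rw [hα (α w), hα.cc_apply h C, hα.cc_apply h C, hα.cc_apply h C, hα w]
  simp only [cc_self, hab, hac, hbc, hba, hca, hcb, mul_zero, add_zero, zero_add]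
  have e1 := smul_add_smul_self (cc w a) (C.κ a)
  have e2 := smul_add_smul_self (cc w b) (C.κ b)
  have e3 := smul_add_smul_self (cc w c) (C.κ c)
  calc C.κ w + cc w a • C.κ a + cc w b • C.κ b + cc w c • C.κ c + cc w a • C.κ a + cc w b • C.κ b
        + cc w c • C.κ c
      = C.κ w + (cc w a • C.κ a + cc w a • C.κ a) + (cc w b • C.κ b + cc w b • C.κ b)
        + (cc w c • C.κ c + cc w c • C.κ c) := by abel
    _ = C.κ w := by rw [e1, e2, e3, add_zero, add_zero, add_zero]

/-- two reflection products with mutually commuting centres commute on coordinates. -/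
theorem Coord.IsRP.comm_apply {α β : P ≃* P} {a b c a' b' c' : P} (hα : C.IsRP α a b c)
    (hβ : C.IsRP β a' b' c')
    (h11 : cc a a' = 0) (h12 : cc a b' = 0) (h13 : cc a c' = 0)
    (h21 : cc b a' = 0) (h22 : cc b b' = 0) (h23 : cc b c' = 0)
    (h31 : cc c a' = 0) (h32 : cc c b' = 0) (h33 : cc c c' = 0) (w : P) :
    C.κ (α (β w)) = C.κ (β (α w)) := by
  have g11 : cc a' a = 0 := by rw [cc_symm]; exact h11
  have g12 : cc b' a = 0 := by rw [cc_symm]; exact h12
  have g13 : cc c' a = 0 := by rw [cc_symm]; exact h13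
  have g21 : cc a' b = 0 := by rw [cc_symm]; exact h21
  have g22 : cc b' b = 0 := by rw [cc_symm]; exact h22
  have g23 : cc c' b = 0 := by rw [cc_symm]; exact h23
  have g31 : cc a' c = 0 := by rw [cc_symm]; exact h31
  have g32 : cc b' c = 0 := by rw [cc_symm]; exact h32
  have g33 : cc c' c = 0 := by rw [cc_symm]; exact h33
  rw [hα (β w), hβ.cc_apply h C, hβ.cc_apply h C, hβ.cc_apply h C, hβ w,
    hβ (α w), hα.cc_apply h C, hα.cc_apply h C, hα.cc_apply h C, hα w]
  simp only [h11, h12, h13, h21, h22, h23, h31, h32, h33, g11, g12, g13, g21, g22, g23, g31, g32, g33,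
    mul_zero, add_zero]
  abel

end rp

end Cfsg.Agent.Lib.Helper16.ESQuad
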