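import Mathlib
import Cfsg.Prelude.Def_Transfer
import Cfsg.Prelude.Def_Classical
import Cfsg.Prelude.Def_KGroupFacts
import Cfsg.Agent.Lib.Helper16.ESQuad8

/-!
# `Inn P` has no complement in `Aut P` when `P` contains a suitable frame (helper16)
-/

set_option autoImplicit false
set_option linter.unusedSectionVars false

namespace Cfsg.Agent.Lib.Helper16.ESQuad

open Cfsg.Agent.Lib.Helper16.ES32

section main

variable {P : Type*} [Group P] [Finite P] {z : P} (h : ESData P z) {ι : Type} [Fintype ι]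
  [DecidableEq ι] {Qs : (ι → ZMod 2) → ZMod 2} (C : Coord P Qs)
include h

/-- an automorphism acting trivially on coordinates is inner. -/
theorem Coord.mem_inn_of_κ (β : MulAut P) (hβ : ∀ x, C.κ (β x) = C.κ x) : β ∈ Cfsg.Inn P := by
  apply C.mem_inn_of_Phi_eq_one h
  rw [C.Phi_eq_iff h]
  intro x
  rw [hβ x]
  show _ = (1 : Matrix ι ι (ZMod 2)).mulVec _
  rw [Matrix.one_mulVec]

omit [Finite P] [Fintype ι] [DecidableEq ι] h in
theorem Coord.κ_inn_apply (i : MulAut P) (hi : i ∈ Cfsg.Inn P) (x : P) : C.κ (i x) = C.κ x := by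
  obtain ⟨a, rfl⟩ := hi
  show C.κ (a * x * a⁻¹) = C.κ x
  rw [C.map_mul, C.map_mul, C.map_inv, add_comm (C.κ a), add_assoc, fun_add_self, add_zero]

omit [Finite P] [Fintype ι] [DecidableEq ι] h in
theorem zmod2_fun_eq_of {ι : Type*} {u v : ι → ZMod 2} (huv : ∀ i, u i = v i) : u = v := funext huv

include C in
/-- no complement to `Inn P` in `Aut P`, given three commuting elements of order four and dual
elements. -/
theorem Coord.no_complement (y₁ y₂ y₃ d₁ d₂ d₃ : P)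
    (hq1 : qq y₁ = 1) (hq2 : qq y₂ = 1) (hq3 : qq y₃ = 1)
    (h12 : cc y₁ y₂ = 0) (h13 : cc y₁ y₃ = 0) (h23 : cc y₂ y₃ = 0)
    (hd11 : cc d₁ y₁ = 1) (hd12 : cc d₁ y₂ = 0) (hd13 : cc d₁ y₃ = 0)
    (hd21 : cc d₂ y₁ = 0) (hd22 : cc d₂ y₂ = 1) (hd23 : cc d₂ y₃ = 0)
    (hd31 : cc d₃ y₁ = 0) (hd32 : cc d₃ y₂ = 0) (hd33 : cc d₃ y₃ = 1)
    (L : Subgroup (MulAut P)) : ¬ (Cfsg.Inn P).IsComplement' L := by
  intro hcompl
  have hdisj : ∀ β : MulAut P, β ∈ Cfsg.Inn P → β ∈ L → β = 1 := fun β h1 h2 =>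
    Subgroup.disjoint_def.mp hcompl.disjoint h1 h2
  have h21 : cc y₂ y₁ = 0 := by rw [cc_symm]; exact h12
  have h31 : cc y₃ y₁ = 0 := by rw [cc_symm]; exact h13
  have h32 : cc y₃ y₂ = 0 := by rw [cc_symm]; exact h23
  have hq4 : qq (y₁ * y₂ * y₃) = 1 := by
    rw [qq_mul h, qq_mul h, cc_mul_left h, hq1, hq2, hq3, h12, h13, h23]; decide
  have h14 : cc y₁ (y₁ * y₂ * y₃) = 0 := by
    rw [cc_mul_right h, cc_mul_right h, cc_self, h12, h13]; decide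
  have h24 : cc y₂ (y₁ * y₂ * y₃) = 0 := by
    rw [cc_mul_right h, cc_mul_right h, cc_self, h21, h23]; decide
  have h34 : cc y₃ (y₁ * y₂ * y₃) = 0 := by
    rw [cc_mul_right h, cc_mul_right h, cc_self, h31, h32]; decide
  have h41 : cc (y₁ * y₂ * y₃) y₁ = 0 := by rw [cc_symm]; exact h14
  have h42 : cc (y₁ * y₂ * y₃) y₂ = 0 := by rw [cc_symm]; exact h24
  have h43 : cc (y₁ * y₂ * y₃) y₃ = 0 := by rw [cc_symm]; exact h34
  have hκ4 : C.κ (y₁ * y₂ * y₃) = C.κ y₁ + C.κ y₂ + C.κ y₃ := by rw [C.map_mul, C.map_mul]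
  have hαs : C.IsRP (refl h y₁ hq1 * refl h y₂ hq2 * refl h y₃ hq3) y₁ y₂ y₃ :=
    C.isRP_refl3 h y₁ y₂ y₃ hq1 hq2 hq3 h12 h13 h23
  have hαt : C.IsRP (refl h y₁ hq1 * refl h y₂ hq2 * refl h (y₁ * y₂ * y₃) hq4) y₁ y₂ (y₁ * y₂ * y₃) :=
    C.isRP_refl3 h y₁ y₂ (y₁ * y₂ * y₃) hq1 hq2 hq4 h12 h14 h24
  obtain ⟨⟨⟨i, hi⟩, ⟨σ, hσL⟩⟩, hx, -⟩ := (Subgroup.isComplement'_def.mp hcompl).existsUnique
    (refl h y₁ hq1 * refl h y₂ hq2 * refl h y₃ hq3)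
  obtain ⟨⟨⟨j, hj⟩, ⟨τ, hτL⟩⟩, hx', -⟩ := (Subgroup.isComplement'_def.mp hcompl).existsUnique
    (refl h y₁ hq1 * refl h y₂ hq2 * refl h (y₁ * y₂ * y₃) hq4)
  simp only at hx hx'
  have hσ : C.IsRP σ y₁ y₂ y₃ := by
    apply C.isRP_congr h hαs
    intro w
    rw [← hx]
    show C.κ (σ w) = C.κ (i (σ w))
    rw [C.κ_inn_apply i hi]
  have hτ : C.IsRP τ y₁ y₂ (y₁ * y₂ * y₃) := by
    apply C.isRP_congr h hαt
    intro w
    rw [← hx']
    show C.κ (τ w) = C.κ (j (τ w))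
    rw [C.κ_inn_apply j hj]
  have hσ2 : σ * σ = 1 :=
    hdisj _ (C.mem_inn_of_κ h _ (fun x => hσ.sq_apply h C h12 h13 h23 x)) (L.mul_mem hσL hσL)
  have hτ2 : τ * τ = 1 :=
    hdisj _ (C.mem_inn_of_κ h _ (fun x => hτ.sq_apply h C h12 h14 h24 x)) (L.mul_mem hτL hτL)
  have hcomm : σ * τ = τ * σ := by
    have h1 : σ * τ * (τ * σ)⁻¹ = 1 := by
      apply hdisj _ (C.mem_inn_of_κ h _ (fun x => ?_))
        (L.mul_mem (L.mul_mem hσL hτL) (L.inv_mem (L.mul_mem hτL hσL)))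
      have hx2 : x = τ (σ ((τ * σ)⁻¹ x)) := by
        show x = (τ * σ) ((τ * σ)⁻¹ x)
        rw [← MulAut.mul_apply, mul_inv_cancel, MulAut.one_apply]
      show C.κ (σ (τ ((τ * σ)⁻¹ x))) = C.κ x
      rw [hσ.comm_apply h C hτ (cc_self _) h12 h14 h21 (cc_self _) h24 h31 h32 h34]
      rw [← hx2]
    exact mul_inv_eq_one.mp h1
  have hσ2' : ∀ w, σ (σ w) = w := fun w => by
    have := congrArg (fun f : MulAut P => f w) hσ2
    simpa using this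
  have hτ2' : ∀ w, τ (τ w) = w := fun w => by
    have := congrArg (fun f : MulAut P => f w) hτ2
    simpa using this
  have hcomm' : ∀ w, σ (τ w) = τ (σ w) := fun w => by
    have := congrArg (fun f : MulAut P => f w) hcomm
    simpa using this
  -- the values on d₁, d₂ d₃, d₁ d₃
  have hd14 : cc d₁ (y₁ * y₂ * y₃) = 1 := by
    rw [cc_mul_right h, cc_mul_right h, hd11, hd12, hd13]; decide
  have hA := comm_of_involutory_lifts h σ τ hσ2' hτ2' hcomm' d₁ (d₂ * d₃) (d₁ * d₃) ?_ ?_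
  · -- contradiction
    rw [hσ.cc_apply h C, cc_symm d₁ (τ d₁), cc_symm y₁ (τ d₁), cc_symm y₂ (τ d₁), cc_symm y₃ (τ d₁),
      hτ.cc_apply h C, hτ.cc_apply h C, hτ.cc_apply h C, hτ.cc_apply h C] at hA
    simp only [cc_self, hd11, hd12, hd13, hd14, h12, h13, h21, h23, h31, h32, h14, h24, h34, h41, h42,
      h43, cc_symm y₁ d₁, cc_symm y₂ d₁, cc_symm y₃ d₁, cc_symm (y₁ * y₂ * y₃) d₁] at hA
    revert hA
    decide
  · -- d₁ * τ d₁ ≈ (d₂ d₃) σ(d₂ d₃)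
    apply (C.eq_iff h _ _).mp
    have c1 : cc (d₂ * d₃) y₁ = 0 := by rw [cc_mul_left h, hd21, hd31]; decide
    have c2 : cc (d₂ * d₃) y₂ = 1 := by rw [cc_mul_left h, hd22, hd32]; decide
    have c3 : cc (d₂ * d₃) y₃ = 1 := by rw [cc_mul_left h, hd23, hd33]; decide
    have e1 : C.κ (d₁ * τ d₁) = C.κ d₁ + (C.κ d₁ + (1 : ZMod 2) • C.κ y₁ + (0 : ZMod 2) • C.κ y₂
        + (1 : ZMod 2) • (C.κ y₁ + C.κ y₂ + C.κ y₃)) := by
      rw [C.map_mul d₁ (τ d₁), hτ d₁, hd11, hd12, hd14, hκ4]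
    have e2 : C.κ (d₂ * d₃ * σ (d₂ * d₃)) = C.κ (d₂ * d₃) + (C.κ (d₂ * d₃) + (0 : ZMod 2) • C.κ y₁
        + (1 : ZMod 2) • C.κ y₂ + (1 : ZMod 2) • C.κ y₃) := by
      rw [C.map_mul (d₂ * d₃) (σ (d₂ * d₃)), hσ (d₂ * d₃), c1, c2, c3]
    rw [e1, e2]
    apply zmod2_fun_eq_of
    intro k
    simp only [Pi.add_apply, Pi.smul_apply, smul_eq_mul]
    generalize C.κ (d₂ * d₃) k = a
    generalize C.κ d₁ k = b
    generalize C.κ y₁ k = c1
    generalize C.κ y₂ k = c2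
    generalize C.κ y₃ k = c3
    revert a b c1 c2 c3
    decide
  · -- d₁ * σ d₁ ≈ (d₁ d₃) τ(d₁ d₃)
    apply (C.eq_iff h _ _).mp
    have c1 : cc (d₁ * d₃) y₁ = 1 := by rw [cc_mul_left h, hd11, hd31]; decide
    have c2 : cc (d₁ * d₃) y₂ = 0 := by rw [cc_mul_left h, hd12, hd32]; decide
    have c4 : cc (d₁ * d₃) (y₁ * y₂ * y₃) = 0 := by
      rw [cc_mul_left h, hd14, cc_mul_right h, cc_mul_right h, hd31, hd32, hd33]; decide
    have e1 : C.κ (d₁ * σ d₁) = C.κ d₁ + (C.κ d₁ + (1 : ZMod 2) • C.κ y₁ + (0 : ZMod 2) • C.κ y₂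
        + (0 : ZMod 2) • C.κ y₃) := by
      rw [C.map_mul d₁ (σ d₁), hσ d₁, hd11, hd12, hd13]
    have e2 : C.κ (d₁ * d₃ * τ (d₁ * d₃)) = C.κ (d₁ * d₃) + (C.κ (d₁ * d₃) + (1 : ZMod 2) • C.κ y₁
        + (0 : ZMod 2) • C.κ y₂ + (0 : ZMod 2) • (C.κ y₁ + C.κ y₂ + C.κ y₃)) := by
      rw [C.map_mul (d₁ * d₃) (τ (d₁ * d₃)), hτ (d₁ * d₃), c1, c2, c4, hκ4]
    rw [e1, e2]
    apply zmod2_fun_eq_of
    intro k
    simp only [Pi.add_apply, Pi.smul_apply, smul_eq_mul]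
    generalize C.κ (d₁ * d₃) k = a
    generalize C.κ d₁ k = b
    generalize C.κ y₁ k = c1
    generalize C.κ y₂ k = c2
    generalize C.κ y₃ k = c3
    revert a b c1 c2 c3
    decide

end main

end Cfsg.Agent.Lib.Helper16.ESQuad
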