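import Mathlib
import Cfsg.Prelude.Def_Transfer
import Cfsg.Prelude.Def_Classical
import Cfsg.Prelude.Def_KGroupFacts
import Cfsg.Agent.Lib.Helper16.ESQuad6
import Cfsg.Agent.Lib.Helper16.ESQuad7
import Cfsg.Agent.Lib.Helper16.ESQuad9

/-!
# Griess: `Aut(2^{1+2n}_+)` does not split over `Inn` for `n ≥ 3` (helper16)
-/

set_option autoImplicit false
set_option linter.unusedSectionVars false

namespace Cfsg.Agent.Lib.Helper16.ESQuad

open Cfsg.Agent.Lib.Helper16.ES32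

section plus

variable {P : Type*} [Group P] {z : P} (h : ESData P z) {m : ℕ}
  (C : Coord P (Cfsg.quadFormPlus m (ZMod 2)))
include h

theorem cc_plus (x y : P) :
    cc x y = ∑ i : Fin m, (C.κ x (Sum.inl i) * C.κ y (Sum.inr i)
      + C.κ y (Sum.inl i) * C.κ x (Sum.inr i)) := by
  rw [C.polar h x y]
  unfold Cfsg.quadFormPlus
  rw [← Finset.sum_add_distrib, ← Finset.sum_add_distrib]
  apply Finset.sum_congr rfl
  intro i _
  simp only [Pi.add_apply]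
  generalize C.κ x (Sum.inl i) = a
  generalize C.κ x (Sum.inr i) = b
  generalize C.κ y (Sum.inl i) = a'
  generalize C.κ y (Sum.inr i) = b'
  revert a b a' b'
  decide

omit h in
theorem qq_plus (x : P) : qq x = ∑ i : Fin m, C.κ x (Sum.inl i) * C.κ x (Sum.inr i) := by
  rw [C.quad]; rfl

/-- the hyperbolic-pair vectors. -/
def yv (i : Fin m) : Fin m ⊕ Fin m → ZMod 2 := Sum.elim (Pi.single i 1) (Pi.single i 1)

/-- the singular basis vectors. -/
def dv (i : Fin m) : Fin m ⊕ Fin m → ZMod 2 := Sum.elim (Pi.single i 1) 0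

include C in
theorem exists_frame_plus (i₁ i₂ i₃ : Fin m) (h12 : i₁ ≠ i₂) (h13 : i₁ ≠ i₃) (h23 : i₂ ≠ i₃) :
    ∃ y₁ y₂ y₃ d₁ d₂ d₃ : P, qq y₁ = 1 ∧ qq y₂ = 1 ∧ qq y₃ = 1 ∧
      cc y₁ y₂ = 0 ∧ cc y₁ y₃ = 0 ∧ cc y₂ y₃ = 0 ∧
      cc d₁ y₁ = 1 ∧ cc d₁ y₂ = 0 ∧ cc d₁ y₃ = 0 ∧
      cc d₂ y₁ = 0 ∧ cc d₂ y₂ = 1 ∧ cc d₂ y₃ = 0 ∧
      cc d₃ y₁ = 0 ∧ cc d₃ y₂ = 0 ∧ cc d₃ y₃ = 1 := by
  classical
  have hy : ∀ i : Fin m, C.κ (C.sec (yv i)) = yv i := fun i => C.κ_sec _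
  have hd : ∀ i : Fin m, C.κ (C.sec (dv i)) = dv i := fun i => C.κ_sec _
  have hqq : ∀ i : Fin m, qq (C.sec (yv i)) = 1 := by
    intro i
    rw [qq_plus C, hy]
    simp [yv, Pi.single_apply]
  have hyy : ∀ i j : Fin m, i ≠ j → cc (C.sec (yv i)) (C.sec (yv j)) = 0 := by
    intro i j hij
    rw [cc_plus h C, hy, hy]
    simp [yv, Pi.single_apply, hij, Finset.sum_add_distrib]
    exact fun hji => hij hji.symm
  have hdy : ∀ i j : Fin m, cc (C.sec (dv i)) (C.sec (yv j)) = if i = j then 1 else 0 := by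
    intro i j
    rw [cc_plus h C, hd, hy]
    simp [yv, dv, Pi.single_apply]
    by_cases hij : i = j
    · rw [if_pos hij, if_pos hij.symm]
    · rw [if_neg hij, if_neg (fun hji => hij hji.symm)]
  refine ⟨C.sec (yv i₁), C.sec (yv i₂), C.sec (yv i₃), C.sec (dv i₁), C.sec (dv i₂), C.sec (dv i₃),
    hqq _, hqq _, hqq _, hyy _ _ h12, hyy _ _ h13, hyy _ _ h23, ?_, ?_, ?_, ?_, ?_, ?_, ?_, ?_, ?_⟩
  · rw [hdy, if_pos rfl]
  · rw [hdy, if_neg h12]
  · rw [hdy, if_neg h13]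
  · rw [hdy, if_neg h12.symm]
  · rw [hdy, if_pos rfl]
  · rw [hdy, if_neg h23]
  · rw [hdy, if_neg h13.symm]
  · rw [hdy, if_neg h23.symm]
  · rw [hdy, if_pos rfl]

end plus

/-- **Griess**: for an extraspecial 2-group of plus type and width at least three, the inner automorphism
group has no complement in the automorphism group. -/
theorem griess_nonsplit {Q : Type*} [Group Q] [Finite Q] (n : ℕ) (hn : 3 ≤ n)
    (hQ : Cfsg.IsExtraspecial 2 Q) (hcard : Nat.card Q = 2 ^ (2 * n + 1))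
    (hplus : ∃ E : Subgroup Q, Cfsg.IsElementaryAbelian 2 E ∧ Nat.card ↥E = 2 ^ (n + 1))
    (L : Subgroup (MulAut Q)) : ¬ (Cfsg.Inn Q).IsComplement' L := by
  classical
  obtain ⟨z, h⟩ := exists_esData hQ
  obtain ⟨k, rfl⟩ : ∃ k, n = k + 1 := ⟨n - 1, by omega⟩
  rcases exists_coord h k hcard with ⟨⟨C⟩⟩ | ⟨⟨C⟩⟩
  · have h0 : (0 : ℕ) < k + 1 := by omega
    have h1 : (1 : ℕ) < k + 1 := by omega
    have h2 : (2 : ℕ) < k + 1 := by omega
    obtain ⟨y₁, y₂, y₃, d₁, d₂, d₃, hq1, hq2, hq3, h12, h13, h23, e11, e12, e13, e21, e22, e23,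
      e31, e32, e33⟩ := exists_frame_plus h C (⟨0, h0⟩ : Fin (k + 1)) ⟨1, h1⟩ ⟨2, h2⟩
        (by intro hh; exact absurd (congrArg Fin.val hh) (by norm_num))
        (by intro hh; exact absurd (congrArg Fin.val hh) (by norm_num))
        (by intro hh; exact absurd (congrArg Fin.val hh) (by norm_num))
    exact C.no_complement h y₁ y₂ y₃ d₁ d₂ d₃ hq1 hq2 hq3 h12 h13 h23 e11 e12 e13 e21 e22 e23
      e31 e32 e33 L
  · exfalso
    obtain ⟨A, hA, hAcard⟩ := hplus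
    have h1 := card_elemAb_le_of_minus h k C A hA
    rw [hAcard] at h1
    have h2 : 2 ^ (k + 1) < 2 ^ (k + 1 + 1) := Nat.pow_lt_pow_right (by norm_num) (by omega)
    omega

end Cfsg.Agent.Lib.Helper16.ESQuad
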