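import Mathlib
import Cfsg.Prelude.Def_LocalStructure
import Cfsg.Prelude.Def_Amalgam
import Cfsg.Prelude.Def_Solvable
import Cfsg.Prelude.Def_Transfer
import Cfsg.Agent.Lib.Helper16.FrakH3
import Cfsg.Agent.Lib.Helper8.FStar

/-! S2851: for `M ∈ 𝔐_G(S)` with `Y_M` asymmetric and `H` of characteristic `p` containing the
preimage of `F*(M†/C_{M†}(Y_M))`: `Y_M ≤ Y_H` (helper16). -/

set_option autoImplicit false
open Cfsg
open scoped Pointwise commutatorElement

namespace Cfsg.Agent.Lib.Helper16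

-- FQ START
section QuotientFStar

variable {A : Type*} [Group A] [Finite A] {p : ℕ} [Fact p.Prime]

/-- a `p`-subgroup normal in a normal subgroup is trivial when `O_p = 1`. -/
theorem eq_bot_of_subnormal_pgroup (hO : pCore p A = ⊥) {B K : Subgroup A} [hK : K.Normal]
    (hBK : B ≤ K) (hKB : K ≤ Subgroup.normalizer (B : Set A)) (hB : IsPGroup p ↥B) : B = ⊥ := by
  have h1 : B ≤ pCoreOf p K := le_pCoreOf hBK hKB hB
  have h2 : (pCoreOf p K).Normal := by
    rw [← Subgroup.normalizer_eq_top_iff, eq_top_iff]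
    refine le_trans ?_ (normalizer_le_normalizer_pCoreOf K)
    rw [Subgroup.normalizer_eq_top_iff.mpr hK]
  have h3 : pCoreOf p K ≤ pCore p A :=
    Cfsg.Agent.Lib.Helper1.le_pCore h2 (pCoreOf_isPGroup K)
  rw [eq_bot_iff, ← hO]
  exact h1.trans h3

variable (N : Subgroup A) [hN : N.Normal]

/-- the image in `A/N` of a subgroup which is a `p`-group modulo `N` is a `p`-group. -/
theorem isPGroup_map_mk_of_pow_mem {B : Subgroup A} (hBp : ∀ b ∈ B, ∃ k : ℕ, b ^ (p ^ k) ∈ N) :
    IsPGroup p ↥(B.map (QuotientGroup.mk' N)) := by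
  rintro ⟨_, b, hb, rfl⟩
  obtain ⟨k, hk⟩ := hBp b hb
  refine ⟨k, ?_⟩
  apply Subtype.ext
  show (QuotientGroup.mk' N b) ^ (p ^ k) = 1
  rw [← map_pow]
  exact (QuotientGroup.eq_one_iff _).mpr hk

/-- (δ) a subgroup of the preimage `F'` of `F*(A/N)`, normal in `F'` and a `p`-group modulo `N`,
lies in `N` (when `O_p(A/N) = 1`). -/
theorem le_of_normal_in_fstar_preimage (hO : pCore p (A ⧸ N) = ⊥) {B : Subgroup A}
    (hBp : ∀ b ∈ B, ∃ k : ℕ, b ^ (p ^ k) ∈ N)
    (hBF : B ≤ (generalizedFittingSubgroup (A ⧸ N)).comap (QuotientGroup.mk' N))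
    (hFB : (generalizedFittingSubgroup (A ⧸ N)).comap (QuotientGroup.mk' N) ≤
      Subgroup.normalizer (B : Set A)) : B ≤ N := by
  haveI := Cfsg.Agent.Lib.Helper8.generalizedFittingSubgroup_normal (A ⧸ N)
  have h1 : B.map (QuotientGroup.mk' N) = ⊥ := by
    apply eq_bot_of_subnormal_pgroup hO (K := generalizedFittingSubgroup (A ⧸ N))
    · rw [Subgroup.map_le_iff_le_comap]; exact hBF
    · intro f hf
      obtain ⟨f', rfl⟩ := QuotientGroup.mk'_surjective N f
      have hf' : f' ∈ Subgroup.normalizer (B : Set A) := hFB hf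
      apply mem_normalizer_of_map_conj_le
      rintro _ ⟨_, ⟨b, hb, rfl⟩, rfl⟩
      refine ⟨f' * b * f'⁻¹, (Subgroup.mem_normalizer_iff.mp hf' b).mp hb, ?_⟩
      simp
    · exact isPGroup_map_mk_of_pow_mem N hBp
  intro b hb
  have : QuotientGroup.mk' N b ∈ B.map (QuotientGroup.mk' N) := ⟨b, hb, rfl⟩
  rw [h1, Subgroup.mem_bot] at this
  exact (QuotientGroup.eq_one_iff b).mp this

/-- (γ) a subgroup which is a `p`-group modulo `N` and centralizes `F*(A/N)` modulo `N` lies
in `N` (when `O_p(A/N) = 1`). -/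
theorem le_of_commutator_fstar_preimage (hO : pCore p (A ⧸ N) = ⊥) {B : Subgroup A}
    (hBp : ∀ b ∈ B, ∃ k : ℕ, b ^ (p ^ k) ∈ N)
    (hc : ⁅B, (generalizedFittingSubgroup (A ⧸ N)).comap (QuotientGroup.mk' N)⁆ ≤ N) :
    B ≤ N := by
  haveI := Cfsg.Agent.Lib.Helper8.generalizedFittingSubgroup_normal (A ⧸ N)
  set FX := generalizedFittingSubgroup (A ⧸ N) with hFX
  set Z : Subgroup (A ⧸ N) := FX ⊓ Subgroup.centralizer (FX : Set (A ⧸ N)) with hZ
  haveI hZn : Z.Normal := by
    rw [hZ]; infer_instance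
  have hBC : B.map (QuotientGroup.mk' N) ≤ Subgroup.centralizer (FX : Set (A ⧸ N)) := by
    rintro _ ⟨b, hb, rfl⟩
    rw [Subgroup.mem_centralizer_iff]
    intro f hf
    obtain ⟨f', rfl⟩ := QuotientGroup.mk'_surjective N f
    have h1 : ⁅b, f'⁆ ∈ N := hc (Subgroup.commutator_mem_commutator hb hf)
    have h2 : QuotientGroup.mk' N ⁅b, f'⁆ = 1 := (QuotientGroup.eq_one_iff _).mpr h1
    rw [map_commutatorElement, commutatorElement_eq_one_iff_mul_comm] at h2
    exact h2.symm
  have hBZ : B.map (QuotientGroup.mk' N) ≤ Z :=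
    le_inf (hBC.trans Cfsg.Agent.Lib.Helper8.centralizer_fstar_le) hBC
  have h1 : B.map (QuotientGroup.mk' N) = ⊥ := by
    apply eq_bot_of_subnormal_pgroup hO (K := Z) hBZ
    · intro z hz
      have hzC : z ∈ Subgroup.centralizer ((B.map (QuotientGroup.mk' N) : Subgroup (A ⧸ N)) :
          Set (A ⧸ N)) := by
        rw [Subgroup.mem_centralizer_iff]
        intro x hx
        exact (Subgroup.mem_centralizer_iff.mp hz.2) x (hBZ hx).1
      exact Subgroup.centralizer_le_normalizer _ hzC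
    · exact isPGroup_map_mk_of_pow_mem N hBp
  intro b hb
  have : QuotientGroup.mk' N b ∈ B.map (QuotientGroup.mk' N) := ⟨b, hb, rfl⟩
  rw [h1, Subgroup.mem_bot] at this
  exact (QuotientGroup.eq_one_iff b).mp this

end QuotientFStar

section FrakMFStar

variable {G : Type*} [Group G] {p : ℕ}

/-- S2851. -/
theorem frakM_le_largestPReducedOf_of_fstar_le [Finite G] [Fact p.Prime] (S : Sylow p G)
    {Q : Subgroup G} (hQp : IsPGroup p ↥Q) (hQ1 : Q ≠ ⊥) (hQS : Q ≤ (S : Subgroup G))
    (hQ : IsLarge Q) {M : Subgroup G} (hSM : (S : Subgroup G) ≤ M) (hM : IsInFrakM p M)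
    (hasym : ¬ IsSymmetricIn (largestPReducedOf p M))
    [hn : ((Subgroup.centralizer ((largestPReducedOf p M : Subgroup G) : Set G)).subgroupOf
      (M ⊔ Subgroup.centralizer ((largestPReducedOf p M : Subgroup G) : Set G))).Normal]
    (F : Subgroup G)
    (hF : F = ((generalizedFittingSubgroup
      (↥(M ⊔ Subgroup.centralizer ((largestPReducedOf p M : Subgroup G) : Set G)) ⧸
        (Subgroup.centralizer ((largestPReducedOf p M : Subgroup G) : Set G)).subgroupOf
          (M ⊔ Subgroup.centralizer ((largestPReducedOf p M : Subgroup G) : Set G)))).comap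
      (QuotientGroup.mk' ((Subgroup.centralizer
        ((largestPReducedOf p M : Subgroup G) : Set G)).subgroupOf
          (M ⊔ Subgroup.centralizer ((largestPReducedOf p M : Subgroup G) : Set G))))).map
      (M ⊔ Subgroup.centralizer ((largestPReducedOf p M : Subgroup G) : Set G)).subtype)
    (H : Subgroup G) (hFH : F ≤ H)
    (hH : Subgroup.centralizer (pCore p ↥H : Set ↥H) ≤ pCore p ↥H) :
    largestPReducedOf p M ≤ largestPReducedOf p H := by
  set P := pCoreOf p M with hP
  set Y := largestPReducedOf p M with hY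
  set C := Subgroup.centralizer ((Y : Subgroup G) : Set G) with hC
  set Md := M ⊔ C with hMd
  set F' : Subgroup ↥Md := (generalizedFittingSubgroup (↥Md ⧸ C.subgroupOf Md)).comap
    (QuotientGroup.mk' (C.subgroupOf Md)) with hF'
  have hCMd : C ≤ Md := le_sup_right
  have hwc := frakM_pCoreOf_weaklyClosed S hQp hQ1 hQS hQ hSM hM hasym
  have hPp : IsPGroup p ↥P := pCoreOf_isPGroup M
  have hNP := frakM_normalizer_pCoreOf_le S hQp hQ hSM hM
  have hMdY := frakM_dagger_le_normalizer hM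
  have hPC : P ≤ C := frakM_pCoreOf_le_centralizer hM
  have hchar := charP_of_mem_charPSubgroups hM.1
  obtain ⟨-, hAPR, -, hYP, -⟩ := largestPReducedOf_spec (p := p) M hchar
  have hYp : IsPGroup p ↥Y := hPp.to_le hYP
  -- `Y` is `p`-reduced for `M†`
  have hchard := charP_of_mem_charPSubgroups hM.2.1.1
  obtain ⟨-, hAPRd, -, -, -⟩ := largestPReducedOf_spec (p := p) Md hchard
  rw [← hM.2.2.2.1] at hAPRd
  -- `O_p(M†/C) = 1`
  have hO : pCore p (↥Md ⧸ C.subgroupOf Md) = ⊥ := by
    haveI := Cfsg.Agent.Lib.Helper1.pCore_normal p (↥Md ⧸ C.subgroupOf Md)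
    set D' : Subgroup ↥Md := (pCore p (↥Md ⧸ C.subgroupOf Md)).comap
      (QuotientGroup.mk' (C.subgroupOf Md)) with hD'
    haveI hD'n : D'.Normal := Subgroup.Normal.comap inferInstance _
    have h1 : D'.map Md.subtype ≤ C := by
      apply hAPRd.2.2 (D'.map Md.subtype) (Subgroup.map_subtype_le _)
        (le_normalizer_map_subtype_of_normal Md D')
      rintro _ ⟨d, hd, rfl⟩
      obtain ⟨k, hk⟩ := (Cfsg.Agent.Lib.Helper1.pCore_isPGroup p (↥Md ⧸ C.subgroupOf Md))
        ⟨QuotientGroup.mk' (C.subgroupOf Md) d, hd⟩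
      refine ⟨k, ?_⟩
      have hk' : (QuotientGroup.mk' (C.subgroupOf Md) d) ^ (p ^ k) = 1 := by
        simpa using congrArg Subtype.val hk
      rw [← map_pow, QuotientGroup.mk'_apply, QuotientGroup.eq_one_iff,
        Subgroup.mem_subgroupOf] at hk'
      simpa using hk'
    rw [eq_bot_iff]
    intro x hx
    obtain ⟨a, rfl⟩ := QuotientGroup.mk'_surjective (C.subgroupOf Md) x
    rw [Subgroup.mem_bot, QuotientGroup.mk'_apply, QuotientGroup.eq_one_iff,
      Subgroup.mem_subgroupOf]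
    exact h1 ⟨a, hx, rfl⟩
  -- membership in `F`
  have hFMd : F ≤ Md := by rw [hF]; exact Subgroup.map_subtype_le _
  have hmemF : ∀ x : ↥Md, (x : G) ∈ F ↔ x ∈ F' := by
    intro x
    rw [hF]
    constructor
    · rintro ⟨f, hf, hfx⟩
      have : f = x := Subtype.ext hfx
      rw [← this]; exact hf
    · intro hx
      exact ⟨x, hx, rfl⟩
  have hCF : C ≤ F := by
    intro c hc
    have : (⟨c, hCMd hc⟩ : ↥Md) ∈ F' := by
      rw [hF', Subgroup.mem_comap]
      have h1 : QuotientGroup.mk' (C.subgroupOf Md) ⟨c, hCMd hc⟩ = 1 := by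
        rw [QuotientGroup.mk'_apply, QuotientGroup.eq_one_iff, Subgroup.mem_subgroupOf]
        exact hc
      rw [h1]; exact Subgroup.one_mem _
    exact (hmemF ⟨c, hCMd hc⟩).mpr this
  haveI hFX := Cfsg.Agent.Lib.Helper8.generalizedFittingSubgroup_normal (↥Md ⧸ C.subgroupOf Md)
  haveI hF'n : F'.Normal := Subgroup.Normal.comap hFX _
  have hMdF : Md ≤ Subgroup.normalizer (F : Set G) := by
    rw [hF]; exact le_normalizer_map_subtype_of_normal Md F'
  -- (δ')
  have hdelta : ∀ B : Subgroup G, B ≤ F → F ≤ Subgroup.normalizer (B : Set G) →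
      (∀ b ∈ B, ∃ k : ℕ, b ^ (p ^ k) ∈ C) → B ≤ C := by
    intro B hBF hFB hBp
    have h1 : B.subgroupOf Md ≤ C.subgroupOf Md := by
      apply le_of_normal_in_fstar_preimage (C.subgroupOf Md) hO
      · intro b hb
        obtain ⟨k, hk⟩ := hBp (b : G) hb
        exact ⟨k, by rw [Subgroup.mem_subgroupOf]; simpa using hk⟩
      · intro b hb
        exact (hmemF b).mp (hBF hb)
      · intro f hf
        have hfN : (f : G) ∈ Subgroup.normalizer (B : Set G) := hFB ((hmemF f).mpr hf)
        rw [Subgroup.mem_normalizer_iff]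
        intro x
        rw [Subgroup.mem_subgroupOf, Subgroup.mem_subgroupOf]
        have := Subgroup.mem_normalizer_iff.mp hfN (x : G)
        simpa using this
    intro b hb
    have := h1 (show (⟨b, hFMd (hBF hb)⟩ : ↥Md) ∈ B.subgroupOf Md from hb)
    exact this
  -- (γ')
  have hgamma : ∀ B : Subgroup G, B ≤ Md → (∀ b ∈ B, ∃ k : ℕ, b ^ (p ^ k) ∈ C) →
      ⁅B, F⁆ ≤ C → B ≤ C := by
    intro B hBMd hBp hBc
    have h1 : B.subgroupOf Md ≤ C.subgroupOf Md := by
      apply le_of_commutator_fstar_preimage (C.subgroupOf Md) hO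
      · intro b hb
        obtain ⟨k, hk⟩ := hBp (b : G) hb
        exact ⟨k, by rw [Subgroup.mem_subgroupOf]; simpa using hk⟩
      · rw [Subgroup.commutator_le]
        intro b hb f hf
        rw [Subgroup.mem_subgroupOf]
        have : ⁅(b : G), (f : G)⁆ ∈ C :=
          hBc (Subgroup.commutator_mem_commutator hb ((hmemF f).mpr hf))
        simpa [commutatorElement_def] using this
    intro b hb
    have := h1 (show (⟨b, hBMd hb⟩ : ↥Md) ∈ B.subgroupOf Md from hb)
    exact this
  have hPH : P ≤ H := (hPC.trans hCF).trans hFH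
  have hYH : Y ≤ H := hYP.trans hPH
  set D := pCoreOf p H with hD
  have hDp : IsPGroup p ↥D := pCoreOf_isPGroup H
  have hHD : H ≤ Subgroup.normalizer (D : Set G) := le_normalizer_pCoreOf H
  -- Step 0
  obtain ⟨T₀, hT₀⟩ := wc_parabolic hPp hwc hPH
  set T₁ : Subgroup G := (T₀ : Subgroup ↥H).map H.subtype with hT₁
  have hT₁H : T₁ ≤ H := Subgroup.map_subtype_le _
  have hT₁p : IsPGroup p ↥T₁ := T₀.isPGroup'.map _
  have hT₁N : T₁ ≤ Subgroup.normalizer (P : Set G) := by
    rintro _ ⟨x, hx, rfl⟩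
    have := hT₀ hx
    rwa [Subgroup.mem_subgroupOf] at this
  have hT₁Md : T₁ ≤ Md := hT₁N.trans hNP
  have hDT : D ≤ T₁ := by
    rintro _ ⟨x, hx, rfl⟩
    exact ⟨x, Cfsg.Agent.Lib.Helper1.pCore_le_sylow T₀ hx, rfl⟩
  have hDMd : D ≤ Md := hDT.trans hT₁Md
  have hpow : ∀ {B : Subgroup G}, IsPGroup p ↥B → ∀ b ∈ B, ∃ k : ℕ, b ^ (p ^ k) ∈ C := by
    intro B hB b hb
    obtain ⟨k, hk⟩ := exists_pow_eq_one_of_isPGroup hB hb
    exact ⟨k, by rw [hk]; exact C.one_mem⟩
  -- Step 1: `O_p(H) ≤ C`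
  have hFD : F ≤ Subgroup.normalizer (D : Set G) := hFH.trans hHD
  have h1a : D ⊓ F ≤ C :=
    hdelta (D ⊓ F) inf_le_right (inf_le_normalizer_inf hFD Subgroup.le_normalizer)
      (hpow (hDp.to_le inf_le_left))
  have h1b : ⁅D, F⁆ ≤ D ⊓ F := by
    refine le_inf (Subgroup.le_normalizer_iff_commutator_le_left.mp hFD) ?_
    rw [Subgroup.commutator_comm]
    exact Subgroup.le_normalizer_iff_commutator_le_left.mp (hDMd.trans hMdF)
  have hDC : D ≤ C := hgamma D hDMd (hpow hDp) (h1b.trans h1a)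
  have hYCD : Y ≤ Subgroup.centralizer (D : Set G) := Subgroup.le_centralizer_iff.mp hDC
  have hYD : Y ≤ D := fun y hy => charP_ambient H hH ⟨hYH hy, hYCD hy⟩
  -- Step 2
  set V := conjClosure H Y with hV
  have hVH : V ≤ H := conjClosure_le hYH le_rfl
  have hHV : H ≤ Subgroup.normalizer (V : Set G) := le_normalizer_conjClosure H Y
  have hYV : Y ≤ V := le_conjClosure H Y
  have hconj : ∀ h ∈ H, Y.map (MulAut.conj h).toMonoidHom ≤
      D ⊓ Subgroup.centralizer (D : Set G) := by
    intro h hh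
    have e1 : D.map (MulAut.conj h).toMonoidHom = D := map_conj_eq_of_mem_normalizer (hHD hh)
    refine le_inf ?_ ?_
    · calc Y.map (MulAut.conj h).toMonoidHom ≤ D.map (MulAut.conj h).toMonoidHom :=
          Subgroup.map_mono hYD
        _ = D := e1
    · have := Subgroup.map_mono (f := (MulAut.conj h).toMonoidHom) hYCD
      rwa [← centralizer_map_conj, e1] at this
  have hVea : IsElementaryAbelian p V := by
    rw [hV]
    unfold conjClosure
    rw [Subgroup.iSup_eq_closure]
    apply isElementaryAbelian_closure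
    · intro a ha b hb
      obtain ⟨i, hi⟩ := Set.mem_iUnion.mp ha
      obtain ⟨j, hj⟩ := Set.mem_iUnion.mp hb
      have ha' := hconj i i.2 hi
      have hb' := hconj j j.2 hj
      exact (Subgroup.mem_centralizer_iff.mp hb'.2 a ha'.1)
    · intro a ha
      obtain ⟨i, hi⟩ := Set.mem_iUnion.mp ha
      obtain ⟨y, hy, rfl⟩ := hi
      rw [← map_pow, hAPR.2.1.2 y hy, map_one]
  -- Step 3
  have hAPRV : APR p H V := by
    refine ⟨hHV, hVea, ?_⟩
    intro D' hD'H hHD' hD'p
    have hCV : Subgroup.centralizer (V : Set G) ≤ C := Subgroup.centralizer_le hYV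
    have hD'pC : ∀ d ∈ D', ∃ k : ℕ, d ^ (p ^ k) ∈ C := fun d hd =>
      (hD'p d hd).imp (fun k hk => hCV hk)
    have hFD' : F ≤ Subgroup.normalizer (D' : Set G) := hFH.trans hHD'
    have h3a : D' ⊓ F ≤ C :=
      hdelta (D' ⊓ F) inf_le_right (inf_le_normalizer_inf hFD' Subgroup.le_normalizer)
        (fun b hb => hD'pC b hb.1)
    have h3b : ⁅D' ⊓ Md, F⁆ ≤ D' ⊓ F := by
      refine le_inf ((Subgroup.commutator_mono inf_le_left le_rfl).trans
        (Subgroup.le_normalizer_iff_commutator_le_left.mp hFD')) ?_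
      rw [Subgroup.commutator_comm]
      exact Subgroup.le_normalizer_iff_commutator_le_left.mp (inf_le_right.trans hMdF)
    have h3c : D' ⊓ Md ≤ C :=
      hgamma (D' ⊓ Md) inf_le_right (fun b hb => hD'pC b hb.1) (h3b.trans h3a)
    -- a Sylow subgroup of `D'`
    obtain ⟨T, -⟩ := (IsPGroup.of_bot : IsPGroup p ↥(⊥ : Subgroup ↥D')).exists_le_sylow
    set T_D : Subgroup G := (T : Subgroup ↥D').map D'.subtype with hT_D
    have hT_Dp : IsPGroup p ↥T_D := T.isPGroup'.map _
    have hT_DD' : T_D ≤ D' := Subgroup.map_subtype_le _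
    obtain ⟨y, hyH, hyle⟩ := exists_conj_le_of_maximal (C := H) (R1 := T_D) (R2 := T₁)
      (hT_DD'.trans hD'H) hT_Dp hT₁H hT₁p (fun R'' h1 h2 h3 => sylow_map_maximal T₀ h1 h2 h3)
    have e2 : D'.map (MulAut.conj y).toMonoidHom = D' :=
      map_conj_eq_of_mem_normalizer (hHD' hyH)
    have h4 : T_D.map (MulAut.conj y).toMonoidHom ≤ C := by
      refine (le_inf ?_ (hyle.trans hT₁Md)).trans h3c
      rw [← e2]; exact Subgroup.map_mono hT_DD'
    set Y' : Subgroup G := Y.map (MulAut.conj y⁻¹).toMonoidHom with hY'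
    have hT_DY' : T_D ≤ Subgroup.centralizer (Y' : Set G) := by
      rw [hY', centralizer_map_conj, le_map_conj_iff, inv_inv]; exact h4
    have hY'V : Y' ≤ V := map_conj_le_conjClosure H Y (H.inv_mem hyH)
    have hOp : OpOf p D' ≤ Subgroup.centralizer (V : Set G) := by
      apply OpOf_le_of_forall
      intro x hx hc
      obtain ⟨k, hk⟩ := hD'p x hx
      obtain ⟨m, hm⟩ := exists_pow_eq_self_of_coprime (x := x) (n := p ^ k)
        (Nat.Coprime.pow_left k hc.symm)
      rw [← hm]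
      exact Subgroup.pow_mem _ hk m
    have hD'Y' : D' ≤ Subgroup.centralizer (Y' : Set G) := by
      intro d hd
      obtain ⟨t, ht, b, hb, hdb⟩ := exists_sylow_mul_pResidual T ⟨d, hd⟩
      have e : d = (t : G) * (b : G) := congrArg Subtype.val hdb
      rw [e]
      have hb' : (b : G) ∈ OpOf p D' := by
        rw [← pResidual_map_subtype]; exact ⟨b, hb, rfl⟩
      exact Subgroup.mul_mem _ (hT_DY' ⟨t, ht, rfl⟩) (Subgroup.centralizer_le hY'V (hOp hb'))
    have hD'Y : D' ≤ C := by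
      have := Subgroup.map_mono (f := (MulAut.conj y).toMonoidHom) hD'Y'
      rw [e2, ← centralizer_map_conj, hY', map_conj_map_conj_inv] at this
      exact this
    rw [Subgroup.le_centralizer_iff, hV]
    unfold conjClosure
    apply iSup_le
    rintro ⟨h, hh⟩
    have := Subgroup.map_mono (f := (MulAut.conj h).toMonoidHom)
      (Subgroup.le_centralizer_iff.mp hD'Y)
    rwa [← centralizer_map_conj, map_conj_eq_of_mem_normalizer (hHD' hh)] at this
  exact hYV.trans ((largestPReducedOf_spec (p := p) H hH).2.2.1 V hVH hAPRV)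

end FrakMFStar

end Cfsg.Agent.Lib.Helper16
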