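import Mathlib
import Cfsg.Agent.Lib.Helper3.Fus.Simple
import Cfsg.Agent.Lib.Helper29.DihedralLike

set_option autoImplicit false

/-! Simplicity of the 2-fusion system of a finite group whose Sylow 2-subgroups are dihedral of
order at least 8, in which all involutions are conjugate and no element of odd order centralizes
a four-group. -/

namespace Cfsg.Agent.Lib.Helper16.FusDih

open Cfsg Subgroup

variable {G : Type*} [Group G]

/-- The complement of a proper subgroup generates. -/
theorem closure_diff_eq {P K : Subgroup G} (hne : ¬ P ≤ K) :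
    closure ((P : Set G) \ (K : Set G)) = P := by
  apply le_antisymm
  · rw [closure_le]
    intro x hx
    exact hx.1
  · obtain ⟨x₀, hx₀P, hx₀K⟩ := SetLike.not_le_iff_exists.mp hne
    intro x hx
    by_cases hxK : x ∈ K
    · have h1 : x * x₀ ∈ closure ((P : Set G) \ (K : Set G)) := by
        apply Subgroup.subset_closure
        refine ⟨P.mul_mem hx hx₀P, ?_⟩
        intro h
        apply hx₀K
        have := K.mul_mem (K.inv_mem hxK) h
        simpa using this
      have h2 : x₀ ∈ closure ((P : Set G) \ (K : Set G)) := Subgroup.subset_closure ⟨hx₀P, hx₀K⟩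
      have := (closure ((P : Set G) \ (K : Set G))).mul_mem h1
        ((closure ((P : Set G) \ (K : Set G))).inv_mem h2)
      simpa using this
    · exact Subgroup.subset_closure ⟨hx, hxK⟩

/-- A Sylow 2-subgroup of a dihedral group `D_m`, `m` even, is generated by its involutions. -/
theorem sylow_dihedral_closure (m : ℕ) (_hm : 2 ∣ m) (hm0 : m ≠ 0)
    (P : Sylow 2 (DihedralGroup m)) :
    closure {x : DihedralGroup m | x ∈ (P : Subgroup (DihedralGroup m)) ∧ orderOf x = 2} =
      (P : Subgroup (DihedralGroup m)) := by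
  have : NeZero m := ⟨hm0⟩
  set R : Subgroup (DihedralGroup m) := zpowers (DihedralGroup.r 1) with hR
  have hRcard : Nat.card R = m := by
    rw [hR, Nat.card_zpowers, DihedralGroup.orderOf_r_one]
  have hPcard : Nat.card (P : Subgroup (DihedralGroup m)) = 2 ^ (2 * m).factorization 2 := by
    rw [Sylow.card_eq_multiplicity, DihedralGroup.nat_card]
  have hne : ¬ (P : Subgroup (DihedralGroup m)) ≤ R := by
    intro hle
    have h1 : Nat.card (P : Subgroup (DihedralGroup m)) ∣ Nat.card R := Subgroup.card_dvd_of_le hle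
    rw [hPcard, hRcard] at h1
    have h2 : (2 * m).factorization 2 = m.factorization 2 + 1 := by
      rw [Nat.factorization_mul (by norm_num) hm0]
      simp [Nat.Prime.factorization_self Nat.prime_two]
      ring
    rw [h2] at h1
    have h3 := (Nat.Prime.pow_dvd_iff_le_factorization Nat.prime_two hm0).mp h1
    omega
  apply le_antisymm
  · rw [closure_le]
    intro x hx
    exact hx.1
  · refine (closure_diff_eq hne).symm.le.trans (Subgroup.closure_mono ?_)
    rintro x ⟨hxP, hxR⟩
    refine ⟨hxP, ?_⟩
    cases x with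
    | r i =>
      exfalso
      apply hxR
      rw [hR]
      show DihedralGroup.r i ∈ zpowers (DihedralGroup.r 1)
      rw [Subgroup.mem_zpowers_iff]
      refine ⟨(i.val : ℤ), ?_⟩
      rw [zpow_natCast, DihedralGroup.r_one_pow]
      simp
    | sr i => exact DihedralGroup.orderOf_sr i

variable [Finite G]

/-- The main criterion. -/
theorem isSimple_of_dihedral (m : ℕ) (hm : 4 ∣ m) (hm0 : m ≠ 0)
    (f : DihedralGroup m →* G) (hf : Function.Injective f)
    (hval : (2 * m).factorization 2 = (Nat.card G).factorization 2)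
    (hconj : ∀ x y : G, orderOf x = 2 → orderOf y = 2 → IsConj x y)
    (hF3 : ∀ a b y : G, orderOf a = 2 → orderOf b = 2 → a ≠ b → Commute a b →
      Odd (orderOf y) → Commute y a → Commute y b → y = 1)
    (S : Sylow 2 G) : (groupFusionSystem (S : Subgroup G)).IsSimple 2 := by
  classical
  have : NeZero m := ⟨hm0⟩
  have hm2 : 2 ∣ m := Dvd.dvd.trans (by norm_num) hm
  obtain ⟨P⟩ : Nonempty (Sylow 2 (DihedralGroup m)) := inferInstance
  set S₀ : Subgroup G := (P : Subgroup (DihedralGroup m)).map f with hS₀
  have hPcard : Nat.card (P : Subgroup (DihedralGroup m)) = 2 ^ (2 * m).factorization 2 := by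
    rw [Sylow.card_eq_multiplicity, DihedralGroup.nat_card]
  have hcard : Nat.card S₀ = 2 ^ (Nat.card G).factorization 2 := by
    rw [hS₀, Subgroup.card_map_of_injective hf, hPcard, hval]
  -- the order is at least 8
  have h8 : 8 ≤ Nat.card S₀ := by
    rw [hS₀, Subgroup.card_map_of_injective hf, hPcard]
    have h1 : 8 ∣ 2 * m := by
      obtain ⟨k, rfl⟩ := hm
      exact ⟨k, by ring⟩
    have h2 : 3 ≤ (2 * m).factorization 2 := by
      have : (2 : ℕ) ^ 3 ∣ 2 * m := by norm_num; exact h1
      exact (Nat.Prime.pow_dvd_iff_le_factorization Nat.prime_two (by omega)).mp this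
    calc 8 = 2 ^ 3 := by norm_num
      _ ≤ 2 ^ (2 * m).factorization 2 := Nat.pow_le_pow_right (by norm_num) h2
  have hS₀p : IsPGroup 2 S₀ := IsPGroup.of_card hcard
  -- generation by involutions
  have hgen : closure {x : G | x ∈ S₀ ∧ orderOf x = 2} = S₀ := by
    apply le_antisymm
    · rw [closure_le]
      intro x hx
      exact hx.1
    · have h0 : S₀ = (closure {x : DihedralGroup m |
          x ∈ (P : Subgroup (DihedralGroup m)) ∧ orderOf x = 2}).map f := by
        rw [sylow_dihedral_closure m hm2 hm0 P]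
      refine h0.le.trans ?_
      rw [MonoidHom.map_closure, closure_le]
      rintro _ ⟨x, ⟨hxP, hx2⟩, rfl⟩
      apply Subgroup.subset_closure
      refine ⟨Subgroup.mem_map_of_mem f hxP, ?_⟩
      rw [orderOf_injective f hf, hx2]
  have hDL : Cfsg.Agent.Lib.Helper29.DihLike S₀ := by
    have h1 : Cfsg.Agent.Lib.Helper29.DihLike (P : Subgroup (DihedralGroup m)) :=
      (Cfsg.Agent.Lib.Helper29.dihLike_top_dihedralGroup m).of_le le_top
    exact h1.map f hf
  have hnK : ¬ IsKleinFour S₀ := by
    intro hK
    have := hK.card_four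
    omega
  -- two distinct commuting involutions, one central
  have hzs : ∃ z s : G, z ∈ S₀ ∧ s ∈ S₀ ∧ orderOf z = 2 ∧ orderOf s = 2 ∧ z ≠ s ∧ Commute z s := by
    have : Nontrivial S₀ := by
      rw [← Finite.one_lt_card_iff_nontrivial]
      omega
    have := hS₀p.center_nontrivial
    have hcp : IsPGroup 2 (center S₀) := hS₀p.to_subgroup (center S₀)
    obtain ⟨k, hk⟩ := IsPGroup.iff_card.mp hcp
    have hk0 : k ≠ 0 := by
      rintro rfl
      have h1 : 1 < Nat.card (center S₀) := Finite.one_lt_card
      omega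
    have hdvd : 2 ∣ Nat.card (center S₀) := by
      rw [hk]
      exact dvd_pow_self 2 hk0
    have : Fact (Nat.Prime 2) := ⟨Nat.prime_two⟩
    obtain ⟨z, hz⟩ := exists_prime_orderOf_dvd_card' 2 hdvd
    have hzc : (z : S₀) ∈ center S₀ := z.2
    have hz2 : orderOf ((z : S₀) : G) = 2 := by
      rw [Subgroup.orderOf_coe, Subgroup.orderOf_coe]
      exact hz
    by_cases hall : ∀ x : G, x ∈ S₀ → orderOf x = 2 → x = ((z : S₀) : G)
    · exfalso
      have hle : S₀ ≤ zpowers ((z : S₀) : G) := by
        refine hgen.symm.le.trans ((closure_le _).mpr ?_)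
        rintro x ⟨hx, hx2⟩
        rw [hall x hx hx2]
        exact mem_zpowers _
      have h1 := Subgroup.card_le_of_le hle
      rw [Nat.card_zpowers, hz2] at h1
      omega
    · push Not at hall
      obtain ⟨s, hs, hs2, hsz⟩ := hall
      refine ⟨((z : S₀) : G), s, (z : S₀).2, hs, hz2, hs2, fun h => hsz h.symm, ?_⟩
      have := Subgroup.mem_center_iff.mp hzc ⟨s, hs⟩
      have h2 := congrArg (Subtype.val) this
      simp only [Subgroup.coe_mul] at h2
      exact h2.symm
  obtain ⟨z, s, hzS, hsS, hz2, hs2, hzs, hcomm⟩ := hzs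
  -- odd-order elements of the normalizer are trivial
  have hodd : ∀ y : G, y ∈ normalizer (S₀ : Set G) → Odd (orderOf y) → y = 1 := by
    intro y hy hyo
    have hcop : (orderOf y).Coprime 2 := by
      exact Nat.coprime_two_right.mpr hyo
    rcases Cfsg.Agent.Lib.Helper29.mem_centralizer_or_isKleinFour S₀ hS₀p hDL y hy hcop with h | h
    · have h1 : Commute y z := by
        have := Subgroup.mem_centralizer_iff.mp h z hzS
        exact this.symm
      have h2 : Commute y s := by
        have := Subgroup.mem_centralizer_iff.mp h s hsS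
        exact this.symm
      exact hF3 z s y hz2 hs2 hzs hcomm hyo h1 h2
    · exact absurd h hnK
  refine Cfsg.Agent.Lib.Helper3.Fus.isSimple_of_subgroup S₀ hcard ?_ ?_ ?_ S
  · intro h
    rw [h, Subgroup.card_bot] at h8
    omega
  · -- self-normalizing
    intro x hx
    have hx0 : 0 < orderOf x := orderOf_pos x
    obtain ⟨a, b, hb, hab⟩ := Nat.exists_eq_two_pow_mul_odd (n := orderOf x) (by omega)
    have hyN : x ^ (2 ^ a) ∈ normalizer (S₀ : Set G) := Subgroup.pow_mem _ hx _
    have hyo : orderOf (x ^ (2 ^ a)) = b := by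
      rw [orderOf_pow' x (by positivity), hab, Nat.gcd_eq_right (Dvd.intro _ rfl)]
      exact Nat.mul_div_cancel_left b (by positivity)
    have hy1 : x ^ (2 ^ a) = 1 := hodd _ hyN (by rw [hyo]; exact hb)
    have hxp : IsPGroup 2 (zpowers x) := by
      apply IsPGroup.of_card (n := a)
      rw [Nat.card_zpowers]
      have h1 : orderOf x ∣ 2 ^ a := orderOf_dvd_of_pow_eq_one hy1
      have h2 : 2 ^ a ∣ orderOf x := by rw [hab]; exact Dvd.intro _ rfl
      exact Nat.dvd_antisymm h1 h2
    have : Fact (Nat.Prime 2) := ⟨Nat.prime_two⟩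
    let Q : Sylow 2 G := Sylow.ofCard S₀ hcard
    have hQ : (Q : Subgroup G) = S₀ := rfl
    have h1 := hxp.inf_normalizer_sylow Q
    have h2 : x ∈ zpowers x ⊓ (Q : Subgroup G) := by
      rw [← h1]
      exact ⟨mem_zpowers x, hx⟩
    exact h2.2
  · -- fusion-closed subgroups
    intro T hTS hT hcl
    apply le_antisymm hTS
    have hTp : IsPGroup 2 T := hS₀p.to_le hTS
    obtain ⟨k, hk⟩ := IsPGroup.iff_card.mp hTp
    have hk0 : k ≠ 0 := by
      rintro rfl
      apply hT
      rw [pow_zero] at hk
      exact Subgroup.eq_bot_of_card_eq T hk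
    have : Fact (Nat.Prime 2) := ⟨Nat.prime_two⟩
    obtain ⟨t, ht⟩ := exists_prime_orderOf_dvd_card' (G := T) 2 (by rw [hk]; exact dvd_pow_self 2 hk0)
    have ht2 : orderOf ((t : T) : G) = 2 := by
      rw [Subgroup.orderOf_coe]; exact ht
    refine hgen.symm.le.trans ((closure_le _).mpr ?_)
    rintro x ⟨hxS, hx2⟩
    obtain ⟨g, hg⟩ := isConj_iff.mp (hconj ((t : T) : G) x ht2 hx2)
    have := hcl ((t : T) : G) t.2 g (by rw [hg]; exact hxS)
    rw [hg] at this
    exact this

end Cfsg.Agent.Lib.Helper16.FusDih
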