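import Cfsg.Agent.Lib.Helper14.J2EsD

set_option autoImplicit false

/-!
helper16: data and Boolean certificates for the 2-fusion system of the Hall–Janko group (on
helper14's 315-point model `PJ`): centralizer of `Q = O₂(C(z))` inside `C(z) = KJ`, generation of
`KJ` by 2-elements, the conjugates of `z` inside `Q`, and a fusion of an element of `Q` out of `Q`.
(data generated by scratch/j2/gen.py)
-/

namespace Cfsg.Agent.Lib.Helper16.FusJ2

open Cfsg.Agent.Lib.Helper10.SW Cfsg.Agent.Lib.Helper14.J2

/-- all codes used in words -/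
def aG : List ℕ := [c0, c1, c2, c3, c4, c4i, c5, c5i, c6, c6i, c7, c8, c8i]

/-- an element of the stabiliser either is `1` or `z`, or does not commute with one of the 32 -/
def centOK (W : List ℕ) : Bool :=
  bimg W == bimg [] || bimg W == bimg [c0] || esE.any fun q => bimg (q ++ W) != bimg (W ++ q)

set_option maxRecDepth 1000000 in
set_option maxHeartbeats 4000000 in
theorem cent_ok : (nfWords 315 [lv1, lv2, lv3]).all centOK = true := by decide +kernel

/-- factorisations of the generators `c4, c6, c8` of the stabiliser into 2-elements: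
`(generator, first factor, second factor)` -/
def factL : List (ℕ × List ℕ × List ℕ) := [
  (c4, [c8i, c5, c8], [c8i, c5i, c8, c4]),
  (c6, [c8i, c5, c8], [c8i, c5i, c8, c6]),
  (c8, [c5, c8, c4, c4], [c8i, c4i, c6, c8i, c5])]

/-- the eighth power of a word is trivial -/
def pow8OK (u : List ℕ) : Bool := bimg (List.replicate 8 u).flatten == bimg []

def factOK (e : ℕ × List ℕ × List ℕ) : Bool :=
  bimg [e.1] == bimg (e.2.1 ++ e.2.2) && pow8OK e.2.1 && pow8OK e.2.2 &&
    e.2.1.all (fun c => kG.contains c) && e.2.2.all (fun c => kG.contains c)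

set_option maxRecDepth 1000000 in
theorem fact_ok : factL.all factOK = true := by decide +kernel

set_option maxRecDepth 1000000 in
theorem pow8_gens : ([[c0], [c5], [c7]].all pow8OK) = true := by decide +kernel

/-- words `t` over the involutions `c0, …, c3`, with the index in `esE` of `t z t⁻¹` -/
def zvL : List (List ℕ × ℕ) := [
  ([c3, c2, c1, c0, c3], 5),
  ([c1, c2, c1], 9),
  ([c3, c0, c1, c2, c3], 4),
  ([c1, c3, c1, c3, c2], 14),
  ([c3, c1, c0, c2, c1, c3], 17),
  ([c1, c3, c2, c1, c3], 25),
  ([c1, c3, c0, c2, c3, c1], 11),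
  ([c1, c2, c3, c2, c1], 24),
  ([c3, c2, c3, c2], 22),
  ([c2, c3, c1, c3, c1], 8)]

def zvOK (e : List ℕ × ℕ) : Bool :=
  bimg (e.1 ++ c0 :: e.1.reverse) == bimg (esE.getD e.2 []) && decide (e.2 < 32) &&
    e.1.all (fun c => [c0, c1, c2, c3].contains c)

set_option maxRecDepth 1000000 in
theorem zv_ok : zvL.all zvOK = true := by decide +kernel

/-- the indices in `esE` of `z` and of its ten conjugates -/
def zIdx : List ℕ := [1, 5, 9, 4, 14, 17, 25, 11, 24, 22, 8]

theorem zIdx_eq : zIdx = 1 :: zvL.map Prod.snd := by decide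

/-- each of the 32 elements as a product of conjugates of `z` -/
def decomp : List (List ℕ) := [[], [1], [17, 4], [11, 14], [4], [5], [25, 14], [24, 4], [8], [9], [22, 5], [11], [11, 5], [14, 5], [14], [14, 4], [24, 5], [17], [4, 5], [22, 4], [8, 5], [25, 5], [22], [17, 5], [24], [25], [25, 4], [17, 14], [24, 14], [11, 4], [25, 17], [11, 17]]

def decompOK (i : ℕ) : Bool :=
  bimg (esE.getD i []) == bimg (((decomp.getD i []).map fun j => esE.getD j []).flatten) &&
    (decomp.getD i []).all (fun j => zIdx.contains j)

set_option maxRecDepth 1000000 in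
theorem decomp_ok : (List.range 32).all decompOK = true := by decide +kernel

/-- the top generators are involutions -/
def invOK (c : ℕ) : Bool := bimg [c, c] == bimg []

set_option maxRecDepth 1000000 in
theorem inv_ok : [c0, c1, c2, c3].all invOK = true := by decide +kernel

/-- the word of `x = t⁻¹ q t` with `q = c5 c7` in `Q` -/
def xW : List ℕ := [c1, c3, c2, c0, c3, c1, c5, c7, c1, c3, c0, c2, c3, c1]

/-- a word of an element of order 3 normalising the Sylow subgroup -/
def nW : List ℕ := [c8i, c5i]

/-- the word of `y = n x n⁻¹` -/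
def yW : List ℕ := nW ++ xW ++ [c5, c8]

/-- the images of the five pairs under a word -/
def psiL (Wd : List ℕ) : List ℕ := (List.range 5).map fun k => blkN (evalL 315 Wd (repN k))

set_option maxRecDepth 1000000 in
theorem psi_x : psiL xW = [1, 0, 3, 2, 4] ∧ evalL 315 xW 0 = 0 := by decide +kernel

set_option maxRecDepth 1000000 in
theorem psi_y : psiL yW = [2, 3, 0, 1, 4] ∧ evalL 315 yW 0 = 0 := by decide +kernel

set_option maxRecDepth 1000000 in
theorem n_inv : bimg (nW ++ [c5, c8]) = bimg [] := by decide +kernel

set_option maxRecDepth 1000000 in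
theorem q_mem : [c5, c7] ∈ esE := by decide +kernel

end Cfsg.Agent.Lib.Helper16.FusJ2
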