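import Mathlib
import Cfsg.Prelude.Def_FusionSystem
import Cfsg.Agent.Lib.Helper16.FusGen
import Cfsg.Agent.Lib.Helper16.FusGenIso
import Cfsg.Agent.Lib.Helper10.PGroupBasic

set_option autoImplicit false

/-! Simplicity of the 2-fusion system of a finite group `G'` from the centralizer of a 2-central
involution (shape of `J₂`, `J₃`: `C_G(z) = Q.A₅` with `Q = O₂(C_G(z))` self-centralizing).

Hypotheses (all on a model `G ≃* G'`): `S₀` a subgroup of the order of a Sylow 2-subgroup,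
`z ∈ Z(S₀)` with `Z(S₀) ⊆ {1, z}`, `Q ≤ S₀` normalized by `C_G(z)` with `C_{S₀}(Q) ≤ Q`,
`C_G(z)` generated by its 2-elements, and no proper fusion-closed subgroup of `S₀` contains `z`. -/

namespace Cfsg.Agent.Lib.Helper16.FusSpor

open Cfsg Cfsg.FusionSystem Cfsg.Agent.Lib.Helper16.FusGen Cfsg.Agent.Lib.Helper3.Fus

variable {G G' : Type*} [Group G] [Group G']

theorem isSimple_of_invol_cent [Finite G] [Finite G'] (φ : G ≃* G') (S₀ Q : Subgroup G) (z : G)
    (hcard : Nat.card S₀ = 2 ^ (Nat.card G).factorization 2)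
    (hz1 : z ≠ 1) (hzS : z ∈ S₀)
    (hSz : ∀ s ∈ S₀, s * z = z * s)
    (hcen : ∀ x ∈ S₀, (∀ y ∈ S₀, x * y = y * x) → x = 1 ∨ x = z)
    (hQS : Q ≤ S₀)
    (hQn : ∀ g : G, g * z = z * g → g ∈ Subgroup.normalizer (Q : Set G))
    (hCQ : ∀ x ∈ S₀, (∀ q ∈ Q, q * x = x * q) → x ∈ Q)
    (hgen2 : ∀ g : G, g * z = z * g →
      g ∈ Subgroup.closure {y : G | y * z = z * y ∧ ∃ k : ℕ, orderOf y = 2 ^ k})
    (hclosed : ∀ T : Subgroup G, T ≤ S₀ → z ∈ T → FClosed S₀ T → T = S₀)
    (S : Sylow 2 G') : (groupFusionSystem (S : Subgroup G')).IsSimple 2 := by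
  have : Fact (Nat.Prime 2) := ⟨Nat.prime_two⟩
  have hS₀p : IsPGroup 2 S₀ := IsPGroup.of_card hcard
  have hSN : S₀ ≤ Subgroup.normalizer (Q : Set G) := fun s hs => hQn s (hSz s hs)
  apply Cfsg.Agent.Lib.Helper16.FusGen.isSimple_of_iso φ S₀ hcard
  · intro h
    rw [h, Subgroup.mem_bot] at hzS
    exact hz1 hzS
  · intro g hg
    apply Subgroup.subset_closure
    refine ⟨hg, Q, hQS, hSN, ?_, ?_⟩
    · intro x hx
      rw [Cfsg.Agent.Lib.Helper26.mem_centralizerIn_iff] at hx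
      exact hCQ x hx.1 hx.2
    · -- `g` centralizes `z`
      have hgz : g * z * g⁻¹ ∈ S₀ := (Subgroup.mem_normalizer_iff.mp hg z).mp hzS
      have hc : ∀ y ∈ S₀, (g * z * g⁻¹) * y = y * (g * z * g⁻¹) := by
        intro y hy
        have hy' : g⁻¹ * y * g ∈ S₀ := by
          have := (Subgroup.mem_normalizer_iff.mp hg (g⁻¹ * y * g))
          rw [this]
          have e : g * (g⁻¹ * y * g) * g⁻¹ = y := by group
          rw [e]; exact hy
        have h1 := hSz _ hy'
        calc g * z * g⁻¹ * y = g * (z * (g⁻¹ * y * g)) * g⁻¹ := by group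
          _ = g * ((g⁻¹ * y * g) * z) * g⁻¹ := by rw [h1]
          _ = y * (g * z * g⁻¹) := by group
      have hgz' : g * z = z * g := by
        rcases hcen _ hgz hc with h | h
        · exfalso
          apply hz1
          have : z = g⁻¹ * (g * z * g⁻¹) * g := by group
          rw [this, h]; group
        · calc g * z = (g * z * g⁻¹) * g := by group
            _ = z * g := by rw [h]
      have h2 := hgen2 g hgz'
      refine Subgroup.closure_mono ?_ h2
      rintro y ⟨hyz, k, hk⟩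
      exact ⟨hQn y hyz, k, hk⟩
  · intro T hTS hT hcl
    -- `T` is normal in `S₀`
    have hTn : ∀ s ∈ S₀, ∀ t ∈ T, s * t * s⁻¹ ∈ T := fun s hs t ht =>
      hcl t ht s (S₀.mul_mem (S₀.mul_mem hs (hTS ht)) (S₀.inv_mem hs))
    haveI : Finite S₀ := Subgroup.instFiniteSubtypeMem S₀
    haveI : (T.subgroupOf S₀).Normal := by
      constructor
      intro n hn g
      rw [Subgroup.mem_subgroupOf] at hn ⊢
      simpa using hTn g g.2 n hn
    have hne : T.subgroupOf S₀ ≠ ⊥ := by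
      intro h
      apply hT
      rw [Subgroup.eq_bot_iff_forall]
      intro x hx
      have : (⟨x, hTS hx⟩ : S₀) ∈ T.subgroupOf S₀ := by
        rw [Subgroup.mem_subgroupOf]; exact hx
      rw [h, Subgroup.mem_bot] at this
      exact congrArg Subtype.val this
    obtain ⟨x, hxT, hxc, hx1⟩ :=
      Cfsg.Agent.Lib.Helper10.exists_mem_center_of_normal_ne_bot 2 hS₀p (T.subgroupOf S₀) hne
    have hxz : (x : G) = z := by
      rcases hcen x x.2 (fun y hy => by
        have := Subgroup.mem_center_iff.mp hxc ⟨y, hy⟩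
        have h3 := congrArg Subtype.val this
        simpa using h3.symm) with h | h
      · exfalso; apply hx1; exact Subtype.ext h
      · exact h
    have hzT : z ∈ T := by
      rw [← hxz]; exact Subgroup.mem_subgroupOf.mp hxT
    exact hclosed T hTS hzT hcl

/-- the same criterion, for a subgroup `P` of an ambient group `A` (e.g. a permutation group) -/
theorem isSimple_of_invol_cent_sub {A : Type*} [Group A] [Finite G'] (P : Subgroup A) [Finite P]
    (φ : ↥P ≃* G') (S₀ Q : Subgroup A) (z : A)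
    (hSP : S₀ ≤ P)
    (hcard : Nat.card S₀ = 2 ^ (Nat.card P).factorization 2)
    (hz1 : z ≠ 1) (hzS : z ∈ S₀)
    (hSz : ∀ s ∈ S₀, s * z = z * s)
    (hcen : ∀ x ∈ S₀, (∀ y ∈ S₀, x * y = y * x) → x = 1 ∨ x = z)
    (hQS : Q ≤ S₀)
    (hQn : ∀ g ∈ P, g * z = z * g → g ∈ Subgroup.normalizer (Q : Set A))
    (hCQ : ∀ x ∈ S₀, (∀ q ∈ Q, q * x = x * q) → x ∈ Q)
    (hgen2 : ∀ g ∈ P, g * z = z * g →
      g ∈ Subgroup.closure {y : A | y ∈ P ∧ y * z = z * y ∧ ∃ k : ℕ, orderOf y = 2 ^ k})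
    (hclosed : ∀ T : Subgroup A, T ≤ S₀ → z ∈ T →
      (∀ x ∈ T, ∀ g ∈ P, g * x * g⁻¹ ∈ S₀ → g * x * g⁻¹ ∈ T) → T = S₀)
    (S : Sylow 2 G') : (groupFusionSystem (S : Subgroup G')).IsSimple 2 := by
  have hzP : z ∈ P := hSP hzS
  apply isSimple_of_invol_cent φ (S₀.subgroupOf P) (Q.subgroupOf P) ⟨z, hzP⟩
  · rw [Nat.card_congr (Subgroup.subgroupOfEquivOfLe hSP).toEquiv]
    exact hcard
  · intro h
    exact hz1 (congrArg Subtype.val h)
  · exact Subgroup.mem_subgroupOf.mpr hzS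
  · intro s hs
    apply Subtype.ext
    exact hSz s.1 (Subgroup.mem_subgroupOf.mp hs)
  · intro x hx hc
    rcases hcen x.1 (Subgroup.mem_subgroupOf.mp hx) (fun y hy => by
      have := hc ⟨y, hSP hy⟩ (Subgroup.mem_subgroupOf.mpr hy)
      exact congrArg Subtype.val this) with h | h
    · left; exact Subtype.ext h
    · right; exact Subtype.ext h
  · intro x hx
    exact Subgroup.mem_subgroupOf.mpr (hQS (Subgroup.mem_subgroupOf.mp hx))
  · intro g hg
    have h1 := hQn g.1 g.2 (congrArg Subtype.val hg)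
    rw [Subgroup.mem_normalizer_iff] at h1 ⊢
    intro x
    rw [Subgroup.mem_subgroupOf, Subgroup.mem_subgroupOf]
    exact h1 x.1
  · intro x hx hc
    apply Subgroup.mem_subgroupOf.mpr
    apply hCQ x.1 (Subgroup.mem_subgroupOf.mp hx)
    intro q hq
    have := hc ⟨q, hSP (hQS hq)⟩ (Subgroup.mem_subgroupOf.mpr hq)
    exact congrArg Subtype.val this
  · intro g hg
    have h1 := hgen2 g.1 g.2 (congrArg Subtype.val hg)
    have h2 : Subgroup.closure {y : A | y ∈ P ∧ y * z = z * y ∧ ∃ k : ℕ, orderOf y = 2 ^ k} ≤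
        (Subgroup.closure {y : ↥P | y * ⟨z, hzP⟩ = ⟨z, hzP⟩ * y ∧
          ∃ k : ℕ, orderOf y = 2 ^ k}).map P.subtype := by
      rw [Subgroup.closure_le]
      rintro y ⟨hyP, hyz, k, hk⟩
      refine ⟨⟨y, hyP⟩, Subgroup.subset_closure ⟨Subtype.ext hyz, k, ?_⟩, rfl⟩
      rw [← hk]
      exact (Subgroup.orderOf_mk y hyP)
    obtain ⟨g', hg', e⟩ := h2 h1
    have : g' = g := Subtype.ext e
    rw [← this]
    exact hg'
  · intro T hTS hzT hcl
    have hT' : T.map P.subtype ≤ S₀ := by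
      rintro _ ⟨t, ht, rfl⟩
      exact Subgroup.mem_subgroupOf.mp (hTS ht)
    have h3 := hclosed (T.map P.subtype) hT' ⟨⟨z, hzP⟩, hzT, rfl⟩ (by
      rintro _ ⟨t, ht, rfl⟩ g hg hgs
      have := hcl t ht ⟨g, hg⟩ (Subgroup.mem_subgroupOf.mpr hgs)
      exact ⟨_, this, rfl⟩)
    apply le_antisymm hTS
    intro x hx
    have hx' : x.1 ∈ T.map P.subtype := by
      rw [h3]; exact Subgroup.mem_subgroupOf.mp hx
    obtain ⟨t, ht, e⟩ := hx'
    have : t = x := Subtype.ext e
    rw [← this]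
    exact ht

end Cfsg.Agent.Lib.Helper16.FusSpor
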