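import Cfsg.Agent.Lib.Helper16.FusJ2A
import Cfsg.Agent.Lib.Helper16.FusSporA

set_option autoImplicit false
set_option linter.style.haveILetI false
set_option linter.unusedSectionVars false
set_option linter.unusedVariables false

/-!
helper16: the 2-fusion system of the Hall–Janko group is simple (on helper14's 315-point model).
Structural part: the Sylow 2-subgroup `S₀` = preimage of a four-group under `psi : KJ → S₅`,
`Q₀ = ker psi`, and the hypotheses of `FusSpor.isSimple_of_invol_cent_sub`.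
-/

namespace Cfsg.Agent.Lib.Helper16.FusJ2

open Cfsg.Agent.Lib.Helper10.SW Cfsg.Agent.Lib.Helper14.J2 MulAction

attribute [local irreducible] perm

/-! ### words -/

set_option maxRecDepth 1000000 in
theorem aG_cases : ∀ c ∈ aG, c ∈ topGens ∨ c ∈ kG := by decide +kernel

theorem aG_ok {c : ℕ} (hc : c ∈ aG) : Valid 315 c ∧ perm 315 c ∈ PJ := by
  rcases aG_cases c hc with h | h
  · exact ⟨valid_top h, perm_mem_PJ h⟩
  · exact ⟨(kG_ok h).1, KJ_le_PJ (kG_ok h).2⟩

theorem aG_aut {W : List ℕ} (hW : ∀ c ∈ W, c ∈ aG) :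
    ∀ c ∈ W, Valid 315 c ∧ perm 315 c ∈ autGroup 315 gam :=
  fun c hc => ⟨(aG_ok (hW c hc)).1, PJ_le_aut (aG_ok (hW c hc)).2⟩

theorem aG_PJ {W : List ℕ} (hW : ∀ c ∈ W, c ∈ aG) : prodL 315 W ∈ PJ :=
  prodL_mem fun c hc => (aG_ok (hW c hc)).2

set_option maxRecDepth 1000000 in
theorem kG_sub_aG : ∀ c ∈ kG, c ∈ aG := by decide +kernel

set_option maxRecDepth 1000000 in
theorem top_sub_aG : ∀ c ∈ topGens, c ∈ aG := by decide +kernel

theorem kG_KJ {W : List ℕ} (hW : ∀ c ∈ W, c ∈ kG) : prodL 315 W ∈ KJ :=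
  prodL_mem fun c hc => (kG_ok (hW c hc)).2

theorem prodL_single (c : ℕ) : prodL 315 [c] = perm 315 c := by
  rw [prodL_cons, prodL_nil, mul_one]

theorem nil_aut : ∀ c ∈ ([] : List ℕ), Valid 315 c ∧ perm 315 c ∈ autGroup 315 gam :=
  fun c hc => absurd hc List.not_mem_nil

/-! ### the involution `z` -/

/-- the 2-central involution -/
noncomputable def z : Equiv.Perm (Fin 315) := perm 315 c0

theorem z_KJ : z ∈ KJ := c0_ker.fst

theorem z_PJ : z ∈ PJ := KJ_le_PJ z_KJ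

theorem c0_aG : ∀ c ∈ [c0], c ∈ aG := by
  intro c hc
  rw [List.mem_singleton] at hc
  rw [hc]
  unfold aG
  exact List.mem_cons_self

theorem z_ne_one : z ≠ 1 := by
  intro h
  have h1 : prodL 315 [c0] = prodL 315 [] := by rw [prodL_single, prodL_nil]; exact h
  have h2 := bimg_eq_of_prodL (fun c hc => (aG_aut c0_aG c hc).1)
    (fun c hc => absurd hc List.not_mem_nil) h1
  revert h2
  decide +kernel

theorem comm_z {k : Equiv.Perm (Fin 315)} (hk : k ∈ KJ) : k * z = z * k := by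
  have hmem : (⟨k, KJ_le_PJ hk⟩ : ↥PJ) ∈ stabilizer ↥PJ v0 := by
    rw [mem_stabilizer_iff]
    exact KJ_fix hk
  rw [← centralizer_gen0, Subgroup.mem_centralizer_singleton_iff] at hmem
  have := congrArg Subtype.val hmem
  exact this

theorem mem_KJ_of_comm {g : Equiv.Perm (Fin 315)} (hg : g ∈ PJ) (h : g * z = z * g) : g ∈ KJ := by
  have hmem : (⟨g, hg⟩ : ↥PJ) ∈ Subgroup.centralizer {gen c0 h0} := by
    rw [Subgroup.mem_centralizer_singleton_iff]
    exact Subtype.ext h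
  rw [centralizer_gen0, mem_stabilizer_iff] at hmem
  rw [← stabP]
  exact Subgroup.mem_inf.mpr ⟨hg, mem_stabilizer_iff.mpr hmem⟩

/-! ### the four-group and the subgroups `Q₀ ≤ S₀` -/

def va : Equiv.Perm (Fin 5) := Equiv.swap 0 1 * Equiv.swap 2 3

def vb : Equiv.Perm (Fin 5) := Equiv.swap 0 2 * Equiv.swap 1 3

/-- the four-group -/
def V4 : Subgroup (Equiv.Perm (Fin 5)) where
  carrier := {σ | σ = 1 ∨ σ = va ∨ σ = vb ∨ σ = va * vb}
  mul_mem' := by
    rintro x y (rfl | rfl | rfl | rfl) (rfl | rfl | rfl | rfl) <;>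
      show _ = 1 ∨ _ = va ∨ _ = vb ∨ _ = va * vb <;> decide
  one_mem' := Or.inl rfl
  inv_mem' := by
    rintro x (rfl | rfl | rfl | rfl) <;>
      show _ = 1 ∨ _ = va ∨ _ = vb ∨ _ = va * vb <;> decide

theorem mem_V4 {σ : Equiv.Perm (Fin 5)} : σ ∈ V4 ↔ σ = 1 ∨ σ = va ∨ σ = vb ∨ σ = va * vb :=
  Iff.rfl

instance : DecidablePred (fun σ : Equiv.Perm (Fin 5) => σ ∈ V4) := fun σ =>
  inferInstanceAs (Decidable (σ = 1 ∨ σ = va ∨ σ = vb ∨ σ = va * vb))

theorem card_V4 : Nat.card ↥V4 = 4 := by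
  rw [Nat.card_eq_fintype_card]
  decide

theorem V4_le_range : V4 ≤ psi.range := by
  rw [range_eq]
  intro σ hσ
  rw [Equiv.Perm.mem_alternatingGroup]
  rcases hσ with rfl | rfl | rfl | rfl <;> decide

/-- `O₂(C(z))` -/
noncomputable def Q₀ : Subgroup (Equiv.Perm (Fin 315)) := psi.ker.map KJ.subtype

/-- the Sylow 2-subgroup -/
noncomputable def S₀ : Subgroup (Equiv.Perm (Fin 315)) := (V4.comap psi).map KJ.subtype

theorem mem_Q₀ {x : Equiv.Perm (Fin 315)} : x ∈ Q₀ ↔ ∃ hx : x ∈ KJ, psi ⟨x, hx⟩ = 1 := by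
  constructor
  · rintro ⟨y, hy, rfl⟩
    exact ⟨y.2, MonoidHom.mem_ker.mp hy⟩
  · rintro ⟨hx, h⟩
    exact ⟨⟨x, hx⟩, MonoidHom.mem_ker.mpr h, rfl⟩

theorem mem_S₀ {x : Equiv.Perm (Fin 315)} : x ∈ S₀ ↔ ∃ hx : x ∈ KJ, psi ⟨x, hx⟩ ∈ V4 := by
  constructor
  · rintro ⟨y, hy, rfl⟩
    exact ⟨y.2, hy⟩
  · rintro ⟨hx, h⟩
    exact ⟨⟨x, hx⟩, h, rfl⟩

theorem Q₀_le_S₀ : Q₀ ≤ S₀ := by
  intro x hx
  obtain ⟨h1, h2⟩ := mem_Q₀.mp hx
  exact mem_S₀.mpr ⟨h1, by rw [h2]; exact V4.one_mem⟩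

theorem S₀_le_KJ : S₀ ≤ KJ := fun x hx => (mem_S₀.mp hx).1

theorem S₀_le_PJ : S₀ ≤ PJ := S₀_le_KJ.trans KJ_le_PJ

theorem mem_Q₀_iff_word {x : Equiv.Perm (Fin 315)} : x ∈ Q₀ ↔ ∃ w ∈ esE, x = prodL 315 w := by
  rw [mem_Q₀]; exact mem_ker_iff x

theorem z_Q₀ : z ∈ Q₀ := mem_Q₀.mpr ⟨c0_ker.fst, c0_ker.snd⟩

theorem card_S₀ : Nat.card ↥S₀ = 128 := by
  unfold S₀
  rw [Subgroup.card_map_of_injective (Subgroup.subtype_injective _)]
  have h1 := Subgroup.card_mul_index (V4.comap psi)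
  rw [Subgroup.index_comap, card_KJ] at h1
  have h2 : V4.relIndex psi.range * Nat.card ↥V4 = Nat.card ↥psi.range := by
    unfold Subgroup.relIndex
    rw [← Nat.card_congr (Subgroup.subgroupOfEquivOfLe V4_le_range).toEquiv, mul_comm]
    exact Subgroup.card_mul_index _
  rw [card_V4, card_range] at h2
  have h3 : V4.relIndex psi.range = 15 := by omega
  rw [h3] at h1
  omega

/-! ### the action `psi` on words -/

theorem psi_word {W : List ℕ} (hv : ∀ c ∈ W, Valid 315 c) (hW : prodL 315 W ∈ KJ) (k : Fin 5) :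
    ((psi ⟨prodL 315 W, hW⟩ k : Fin 5) : ℕ) = blkN (evalL 315 W (repN k.val)) % 5 := by
  rw [psi_apply]
  show blkN ((prodL 315 W) (rep5 k)).val % 5 = _
  rw [prodL_apply_val _ hv, rep5_val]

theorem psi_eq_of_tab {W : List ℕ} (hv : ∀ c ∈ W, Valid 315 c) (hW : prodL 315 W ∈ KJ)
    (σ : Equiv.Perm (Fin 5))
    (h : ∀ k : Fin 5, blkN (evalL 315 W (repN k.val)) % 5 = (σ k).val) :
    psi ⟨prodL 315 W, hW⟩ = σ := by
  ext k
  rw [psi_word hv hW k, h k]

/-! ### centralizers -/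

theorem cent_Q {x : Equiv.Perm (Fin 315)} (hx : x ∈ KJ) (hc : ∀ q ∈ Q₀, q * x = x * q) :
    x = 1 ∨ x = z := by
  obtain ⟨W, hW, rfl, hv⟩ := esKJ_nf hx
  have h := List.all_eq_true.mp cent_ok W hW
  unfold centOK at h
  rw [Bool.or_eq_true, Bool.or_eq_true] at h
  rcases h with (h | h) | h
  · left
    have := prodL_eq_of_bimg hv nil_aut (beq_iff_eq.mp h)
    rw [this, prodL_nil]
  · right
    have := prodL_eq_of_bimg hv (aG_aut c0_aG) (beq_iff_eq.mp h)
    rw [this, prodL_single]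
    rfl
  · exfalso
    rw [List.any_eq_true] at h
    obtain ⟨q, hq, hne⟩ := h
    have hqQ : prodL 315 q ∈ Q₀ := mem_Q₀_iff_word.mpr ⟨q, hq, rfl⟩
    have h1 := hc _ hqQ
    rw [← prodL_append, ← prodL_append] at h1
    have h2 := bimg_eq_of_prodL (L1 := q ++ W) (L2 := W ++ q)
      (fun c hc => by
        rcases List.mem_append.mp hc with hc | hc
        · exact esE_valid hq c hc
        · exact (hv c hc).1)
      (fun c hc => by
        rcases List.mem_append.mp hc with hc | hc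
        · exact (hv c hc).1
        · exact esE_valid hq c hc) h1
    rw [h2] at hne
    simp at hne

/-! ### generation of `C(z)` by 2-elements -/

/-- the 2-elements of `C(z)` -/
def X2 : Set (Equiv.Perm (Fin 315)) :=
  {y | y ∈ PJ ∧ y * z = z * y ∧ ∃ k : ℕ, orderOf y = 2 ^ k}

theorem mem_X2_of_pow8 {u : List ℕ} (hu : ∀ c ∈ u, c ∈ kG) (h8 : pow8OK u = true) :
    prodL 315 u ∈ X2 := by
  have hK := kG_KJ hu
  refine ⟨KJ_le_PJ hK, comm_z hK, ?_⟩
  have hL : ∀ c ∈ (List.replicate 8 u).flatten,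
      Valid 315 c ∧ perm 315 c ∈ autGroup 315 gam := by
    intro c hc
    rw [List.mem_flatten] at hc
    obtain ⟨l, hl, hc⟩ := hc
    rw [List.eq_of_mem_replicate hl] at hc
    exact kG_aut (hu c hc)
  unfold pow8OK at h8
  have h1 := prodL_eq_of_bimg hL nil_aut (beq_iff_eq.mp h8)
  rw [prodL_flatten_replicate, prodL_nil] at h1
  have hd : orderOf (prodL 315 u) ∣ 2 ^ 3 := orderOf_dvd_of_pow_eq_one h1
  obtain ⟨j, -, hj⟩ := (Nat.dvd_prime_pow Nat.prime_two).mp hd
  exact ⟨j, hj⟩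

theorem contains_kG {u : List ℕ} (h : u.all (fun c => kG.contains c) = true) :
    ∀ c ∈ u, c ∈ kG := by
  intro c hc
  have := List.all_eq_true.mp h c hc
  simpa using this

theorem gen2 {g : Equiv.Perm (Fin 315)} (hg : g ∈ PJ) (h : g * z = z * g) :
    g ∈ Subgroup.closure X2 := by
  have hK := mem_KJ_of_comm hg h
  rw [KJ_eq] at hK
  revert hK g
  intro g _ _ hK
  refine (grp_le_iff.mpr ?_) hK
  intro c hc
  have hsingle : ∀ c', pow8OK [c'] = true → c' ∈ kG → perm 315 c' ∈ Subgroup.closure X2 := by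
    intro c' h8 hk
    rw [← prodL_single]
    exact Subgroup.subset_closure (mem_X2_of_pow8 (fun d hd => by
      rw [List.mem_singleton] at hd; rw [hd]; exact hk) h8)
  have hfact : ∀ e ∈ factL, perm 315 e.1 ∈ Subgroup.closure X2 := by
    intro e he
    have h := List.all_eq_true.mp fact_ok e he
    unfold factOK at h
    simp only [Bool.and_eq_true] at h
    obtain ⟨⟨⟨⟨h1, h2⟩, h3⟩, h4⟩, h5⟩ := h
    have hu1 := contains_kG h4
    have hu2 := contains_kG h5
    have hgk : e.1 ∈ kG := by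
      revert e
      decide +kernel
    have e1 := prodL_eq_of_bimg (L1 := [e.1]) (L2 := e.2.1 ++ e.2.2)
      (fun c hc => by rw [List.mem_singleton] at hc; rw [hc]; exact kG_aut hgk)
      (fun c hc => by
        rcases List.mem_append.mp hc with hc | hc
        · exact kG_aut (hu1 c hc)
        · exact kG_aut (hu2 c hc)) (beq_iff_eq.mp h1)
    rw [prodL_single, prodL_append] at e1
    rw [e1]
    exact Subgroup.mul_mem _ (Subgroup.subset_closure (mem_X2_of_pow8 hu1 h2))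
      (Subgroup.subset_closure (mem_X2_of_pow8 hu2 h3))
  have h8 := List.all_eq_true.mp pow8_gens
  have hc' : c = c0 ∨ c = c4 ∨ c = c5 ∨ c = c6 ∨ c = c7 ∨ c = c8 := by simpa using hc
  rcases hc' with rfl | rfl | rfl | rfl | rfl | rfl
  · exact hsingle _ (h8 [c0] (by simp)) (by decide +kernel)
  · exact hfact _ (show (c4, _, _) ∈ factL from List.mem_cons_self)
  · exact hsingle _ (h8 [c5] (by simp)) (by decide +kernel)
  · exact hfact _ (show (c6, _, _) ∈ factL from List.mem_cons_of_mem _ List.mem_cons_self)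
  · exact hsingle _ (h8 [c7] (by simp)) (by decide +kernel)
  · exact hfact _ (show (c8, _, _) ∈ factL from
      List.mem_cons_of_mem _ (List.mem_cons_of_mem _ List.mem_cons_self))

end Cfsg.Agent.Lib.Helper16.FusJ2
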