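import Cfsg.Agent.Lib.Helper16.FusJ2B

set_option autoImplicit false
set_option linter.style.haveILetI false
set_option linter.unusedSectionVars false
set_option linter.unusedVariables false

/-!
helper16: the 2-fusion system of the Hall–Janko group is simple (on helper14's 315-point model).
Fusion part: no proper fusion-closed subgroup of `S₀` contains `z`; final assembly.
-/

namespace Cfsg.Agent.Lib.Helper16.FusJ2

open Cfsg.Agent.Lib.Helper10.SW Cfsg.Agent.Lib.Helper14.J2 MulAction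

attribute [local irreducible] perm

/-! ### involutions and inverses of words -/

theorem top_inv {c : ℕ} (hc : c ∈ topGens) : perm 315 c * perm 315 c = 1 := by
  have h := List.all_eq_true.mp inv_ok c hc
  unfold invOK at h
  have hcc : ∀ d ∈ [c, c], d ∈ aG := by
    intro d hd
    have : d = c := by simpa using hd
    rw [this]; exact top_sub_aG c hc
  have h1 := prodL_eq_of_bimg (aG_aut hcc) nil_aut (beq_iff_eq.mp h)
  rw [prodL_cons, prodL_single, prodL_nil] at h1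
  exact h1

theorem prodL_reverse {L : List ℕ} (h : ∀ c ∈ L, perm 315 c * perm 315 c = 1) :
    prodL 315 L * prodL 315 L.reverse = 1 := by
  induction L with
  | nil => rw [List.reverse_nil, prodL_nil, mul_one]
  | cons c L ih =>
    rw [List.reverse_cons, prodL_cons, prodL_append, prodL_single]
    have h1 := ih (fun d hd => h d (List.mem_cons_of_mem _ hd))
    have h2 := h c List.mem_cons_self
    calc perm 315 c * prodL 315 L * (prodL 315 L.reverse * perm 315 c)
        = perm 315 c * (prodL 315 L * prodL 315 L.reverse) * perm 315 c := by group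
      _ = 1 := by rw [h1, mul_one, h2]

theorem prodL_flatten_mem (T : Subgroup (Equiv.Perm (Fin 315))) (f : ℕ → List ℕ) (L : List ℕ)
    (h : ∀ j ∈ L, prodL 315 (f j) ∈ T) : prodL 315 ((L.map f).flatten) ∈ T := by
  induction L with
  | nil => rw [List.map_nil, List.flatten_nil, prodL_nil]; exact T.one_mem
  | cons j L ih =>
    rw [List.map_cons, List.flatten_cons, prodL_append]
    exact T.mul_mem (h j List.mem_cons_self) (ih fun i hi => h i (List.mem_cons_of_mem _ hi))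

/-- the `j`-th of the 32 words -/
def esW (j : ℕ) : List ℕ := esE.getD j []

theorem esW_mem {j : ℕ} (hj : j < 32) : esW j ∈ esE := by
  unfold esW
  have hj' : j < esE.length := by rw [esE_length]; exact hj
  rw [List.getD_eq_getElem _ _ hj']
  exact List.getElem_mem hj'

theorem esW_aut (j : ℕ) : ∀ c ∈ esW j, Valid 315 c ∧ perm 315 c ∈ autGroup 315 gam := by
  by_cases hj : j < 32
  · exact esE_aut (esW_mem hj)
  · unfold esW
    rw [List.getD_eq_default _ _ (by rw [esE_length]; omega)]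
    exact nil_aut

theorem exists_esW {w : List ℕ} (hw : w ∈ esE) : ∃ j < 32, w = esW j := by
  obtain ⟨i, hi, rfl⟩ := List.mem_iff_getElem.mp hw
  refine ⟨i, by rw [← esE_length]; exact hi, ?_⟩
  unfold esW
  rw [List.getD_eq_getElem _ _ hi]

/-! ### the fusion data -/

def tW : List ℕ := [c1, c3, c0, c2, c3, c1]

theorem xW_eq : xW = tW.reverse ++ ([c5, c7] ++ tW) := by decide +kernel

set_option maxRecDepth 1000000 in
theorem tW_top : ∀ c ∈ tW, c ∈ topGens := by decide +kernel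

set_option maxRecDepth 1000000 in
theorem xW_aG : ∀ c ∈ xW, c ∈ aG := by decide +kernel

set_option maxRecDepth 1000000 in
theorem nW_kG : ∀ c ∈ nW, c ∈ kG := by decide +kernel

set_option maxRecDepth 1000000 in
theorem c58_kG : ∀ c ∈ [c5, c8], c ∈ kG := by decide +kernel

set_option maxRecDepth 1000000 in
theorem psi_x' : ∀ k : Fin 5, blkN (evalL 315 xW (repN k.val)) % 5 = (va k).val := by
  decide +kernel

set_option maxRecDepth 1000000 in
theorem psi_y' : ∀ k : Fin 5, blkN (evalL 315 yW (repN k.val)) % 5 = (vb k).val := by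
  decide +kernel

theorem mem_KJ_of_fix {W : List ℕ} (hW : ∀ c ∈ W, c ∈ aG) (h0 : evalL 315 W 0 = 0) :
    prodL 315 W ∈ KJ := by
  rw [← stabP]
  refine Subgroup.mem_inf.mpr ⟨aG_PJ hW, mem_stabilizer_iff.mpr ?_⟩
  apply Fin.ext
  show ((prodL 315 W) v0).val = v0.val
  rw [prodL_apply_val _ (fun c hc => (aG_ok (hW c hc)).1), v0_val]
  exact h0

/-- `x` -/
noncomputable def x : Equiv.Perm (Fin 315) := prodL 315 xW

/-- `y` -/
noncomputable def y : Equiv.Perm (Fin 315) := prodL 315 yW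

theorem yW_aG : ∀ c ∈ yW, c ∈ aG := by
  intro c hc
  unfold yW at hc
  rcases List.mem_append.mp hc with hc | hc
  · rcases List.mem_append.mp hc with hc | hc
    · exact kG_sub_aG c (nW_kG c hc)
    · exact xW_aG c hc
  · exact kG_sub_aG c (c58_kG c hc)

theorem x_KJ : x ∈ KJ := mem_KJ_of_fix xW_aG psi_x.2

theorem y_KJ : y ∈ KJ := mem_KJ_of_fix yW_aG psi_y.2

theorem psi_x_eq : psi ⟨x, x_KJ⟩ = va :=
  psi_eq_of_tab (fun c hc => (aG_ok (xW_aG c hc)).1) x_KJ va psi_x'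

theorem psi_y_eq : psi ⟨y, y_KJ⟩ = vb :=
  psi_eq_of_tab (fun c hc => (aG_ok (yW_aG c hc)).1) y_KJ vb psi_y'

theorem x_S₀ : x ∈ S₀ := mem_S₀.mpr ⟨x_KJ, by rw [psi_x_eq]; exact Or.inr (Or.inl rfl)⟩

theorem y_S₀ : y ∈ S₀ := mem_S₀.mpr ⟨y_KJ, by rw [psi_y_eq]; exact Or.inr (Or.inr (Or.inl rfl))⟩

/-! ### fusion-closed subgroups containing `z` -/

section closed

variable (T : Subgroup (Equiv.Perm (Fin 315))) (hTS : T ≤ S₀) (hzT : z ∈ T)
  (hcl : ∀ t ∈ T, ∀ g ∈ PJ, g * t * g⁻¹ ∈ S₀ → g * t * g⁻¹ ∈ T)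

include hTS hzT hcl

theorem zv_mem {e : List ℕ × ℕ} (he : e ∈ zvL) : prodL 315 (esW e.2) ∈ T := by
  have h := List.all_eq_true.mp zv_ok e he
  unfold zvOK at h
  simp only [Bool.and_eq_true, decide_eq_true_eq] at h
  obtain ⟨⟨h1, h2⟩, h3⟩ := h
  have htop : ∀ c ∈ e.1, c ∈ topGens := by
    intro c hc
    have := List.all_eq_true.mp h3 c hc
    unfold topGens
    simpa using this
  have hinv : ∀ c ∈ e.1, perm 315 c * perm 315 c = 1 := fun c hc => top_inv (htop c hc)
  have htaG : ∀ c ∈ e.1, c ∈ aG := fun c hc => top_sub_aG c (htop c hc)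
  have hrev : prodL 315 e.1.reverse = (prodL 315 e.1)⁻¹ :=
    eq_inv_of_mul_eq_one_right (prodL_reverse hinv)
  have hw : ∀ c ∈ e.1 ++ c0 :: e.1.reverse, c ∈ aG := by
    intro c hc
    rcases List.mem_append.mp hc with hc | hc
    · exact htaG c hc
    · rcases List.mem_cons.mp hc with rfl | hc
      · exact c0_aG _ List.mem_cons_self
      · exact htaG c (List.mem_reverse.mp hc)
  have e1 := prodL_eq_of_bimg (aG_aut hw) (esW_aut e.2) (beq_iff_eq.mp h1)
  rw [prodL_append, prodL_cons, hrev] at e1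
  have hQ : prodL 315 (esW e.2) ∈ Q₀ := mem_Q₀_iff_word.mpr ⟨_, esW_mem h2, rfl⟩
  have h4 := hcl z hzT (prodL 315 e.1) (aG_PJ htaG)
  have e2 : prodL 315 e.1 * z * (prodL 315 e.1)⁻¹ = prodL 315 (esW e.2) := by
    rw [← e1]; unfold z; group
  rw [e2] at h4
  exact h4 (Q₀_le_S₀ hQ)

theorem zIdx_mem {j : ℕ} (hj : j ∈ zIdx) : prodL 315 (esW j) ∈ T := by
  rw [zIdx_eq] at hj
  rcases List.mem_cons.mp hj with rfl | hj
  · have : esW 1 = [c0] := by decide +kernel
    rw [this, prodL_single]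
    exact hzT
  · obtain ⟨e, he, rfl⟩ := List.mem_map.mp hj
    exact zv_mem T hTS hzT hcl he

theorem Q₀_le_T : Q₀ ≤ T := by
  intro q hq
  obtain ⟨w, hw, rfl⟩ := mem_Q₀_iff_word.mp hq
  obtain ⟨i, hi, rfl⟩ := exists_esW hw
  have h := List.all_eq_true.mp decomp_ok i (List.mem_range.mpr hi)
  unfold decompOK at h
  rw [Bool.and_eq_true] at h
  obtain ⟨h1, h2⟩ := h
  have haut : ∀ c ∈ ((decomp.getD i []).map fun j => esE.getD j []).flatten,
      Valid 315 c ∧ perm 315 c ∈ autGroup 315 gam := by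
    intro c hc
    rw [List.mem_flatten] at hc
    obtain ⟨l, hl, hc⟩ := hc
    obtain ⟨j, -, rfl⟩ := List.mem_map.mp hl
    exact esW_aut j c hc
  have e1 := prodL_eq_of_bimg (esW_aut i) haut (beq_iff_eq.mp h1)
  show prodL 315 (esW i) ∈ T
  rw [e1]
  apply prodL_flatten_mem T (fun j => esE.getD j [])
  intro j hj
  have : j ∈ zIdx := by
    have := List.all_eq_true.mp h2 j hj
    simpa using this
  exact zIdx_mem T hTS hzT hcl this

theorem x_mem_T : x ∈ T := by
  have hinv : ∀ c ∈ tW.reverse, perm 315 c * perm 315 c = 1 :=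
    fun c hc => top_inv (tW_top c (List.mem_reverse.mp hc))
  have h1 := prodL_reverse hinv
  rw [List.reverse_reverse] at h1
  have hg : prodL 315 tW.reverse ∈ PJ :=
    aG_PJ fun c hc => top_sub_aG c (tW_top c (List.mem_reverse.mp hc))
  have hq : prodL 315 [c5, c7] ∈ T :=
    Q₀_le_T T hTS hzT hcl (mem_Q₀_iff_word.mpr ⟨_, q_mem, rfl⟩)
  have e : x = prodL 315 tW.reverse * prodL 315 [c5, c7] * (prodL 315 tW.reverse)⁻¹ := by
    unfold x
    rw [xW_eq, prodL_append, prodL_append, ← eq_inv_of_mul_eq_one_right h1]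
    group
  have h2 := hcl _ hq _ hg
  rw [← e] at h2
  exact h2 x_S₀

theorem y_mem_T : y ∈ T := by
  have hn : prodL 315 nW ∈ PJ := KJ_le_PJ (kG_KJ nW_kG)
  have h1 : prodL 315 nW * prodL 315 [c5, c8] = 1 := by
    rw [← prodL_append]
    have haut : ∀ c ∈ nW ++ [c5, c8], Valid 315 c ∧ perm 315 c ∈ autGroup 315 gam := by
      intro c hc
      rcases List.mem_append.mp hc with hc | hc
      · exact kG_aut (nW_kG c hc)
      · exact kG_aut (c58_kG c hc)
    have := prodL_eq_of_bimg haut nil_aut n_inv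
    rw [this, prodL_nil]
  have e : y = prodL 315 nW * x * (prodL 315 nW)⁻¹ := by
    unfold y yW x
    rw [prodL_append, prodL_append, ← eq_inv_of_mul_eq_one_right h1]
  have h2 := hcl _ (x_mem_T T hTS hzT hcl) _ hn
  rw [← e] at h2
  exact h2 y_S₀

theorem S₀_le_T : S₀ ≤ T := by
  intro s hs
  obtain ⟨hsK, hV⟩ := mem_S₀.mp hs
  have hQT := Q₀_le_T T hTS hzT hcl
  have key : ∀ u : Equiv.Perm (Fin 315), ∀ hu : u ∈ KJ, u ∈ T → psi ⟨s, hsK⟩ = psi ⟨u, hu⟩ →
      s ∈ T := by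
    intro u hu huT hpsi
    have hk : (⟨s, hsK⟩ * ⟨u, hu⟩⁻¹ : ↥KJ) ∈ psi.ker := by
      rw [MonoidHom.mem_ker, map_mul, map_inv, hpsi, mul_inv_cancel]
    have hq : s * u⁻¹ ∈ Q₀ := ⟨_, hk, rfl⟩
    have : s = (s * u⁻¹) * u := by group
    rw [this]
    exact T.mul_mem (hQT hq) huT
  rcases hV with h | h | h | h
  · exact key 1 KJ.one_mem T.one_mem (by rw [h]; exact (map_one psi).symm)
  · exact key x x_KJ (x_mem_T T hTS hzT hcl) (by rw [h, psi_x_eq])
  · exact key y y_KJ (y_mem_T T hTS hzT hcl) (by rw [h, psi_y_eq])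
  · refine key (x * y) (KJ.mul_mem x_KJ y_KJ)
      (T.mul_mem (x_mem_T T hTS hzT hcl) (y_mem_T T hTS hzT hcl)) ?_
    have : (⟨x * y, KJ.mul_mem x_KJ y_KJ⟩ : ↥KJ) = ⟨x, x_KJ⟩ * ⟨y, y_KJ⟩ := rfl
    rw [h, this, map_mul, psi_x_eq, psi_y_eq]

end closed

/-! ### the normalizer of `Q₀` -/

theorem KJ_norm_Q₀ {g : Equiv.Perm (Fin 315)} (hg : g ∈ KJ) :
    g ∈ Subgroup.normalizer (Q₀ : Set (Equiv.Perm (Fin 315))) := by
  have key : ∀ g ∈ KJ, ∀ q ∈ Q₀, g * q * g⁻¹ ∈ Q₀ := by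
    intro g hg q hq
    obtain ⟨hqK, hq1⟩ := mem_Q₀.mp hq
    refine mem_Q₀.mpr ⟨KJ.mul_mem (KJ.mul_mem hg hqK) (KJ.inv_mem hg), ?_⟩
    have : (⟨g * q * g⁻¹, KJ.mul_mem (KJ.mul_mem hg hqK) (KJ.inv_mem hg)⟩ : ↥KJ) =
        ⟨g, hg⟩ * ⟨q, hqK⟩ * ⟨g, hg⟩⁻¹ := rfl
    rw [this, map_mul, map_mul, hq1, mul_one, map_inv, mul_inv_cancel]
  rw [Subgroup.mem_normalizer_iff]
  intro q
  constructor
  · exact key g hg q
  · intro h
    have := key g⁻¹ (KJ.inv_mem hg) _ h
    have e : g⁻¹ * (g * q * g⁻¹) * g⁻¹⁻¹ = q := by group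
    rwa [e] at this

/-! ### the theorem -/

theorem fact_604800 : (604800 : ℕ).factorization 2 = 7 := by
  have h : (604800 : ℕ) = 2 ^ 7 * 4725 := by norm_num
  rw [h, Nat.factorization_mul (by norm_num) (by norm_num), Finsupp.add_apply,
    Nat.Prime.factorization_pow Nat.prime_two, Finsupp.single_eq_same,
    Nat.factorization_eq_zero_of_not_dvd (by norm_num)]

theorem isSimple_PJ {G' : Type*} [Group G'] [Finite G'] (φ : ↥PJ ≃* G') (S : Sylow 2 G') :
    (Cfsg.groupFusionSystem (S : Subgroup G')).IsSimple 2 := by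
  apply Cfsg.Agent.Lib.Helper16.FusSpor.isSimple_of_invol_cent_sub PJ φ S₀ Q₀ z S₀_le_PJ
  · rw [card_S₀, card_PJ, fact_604800]; norm_num
  · exact z_ne_one
  · exact Q₀_le_S₀ z_Q₀
  · exact fun s hs => comm_z (S₀_le_KJ hs)
  · intro u hu hc
    exact cent_Q (S₀_le_KJ hu) (fun q hq => (hc q (Q₀_le_S₀ hq)).symm)
  · exact Q₀_le_S₀
  · exact fun g hg h => KJ_norm_Q₀ (mem_KJ_of_comm hg h)
  · intro u hu hc
    rcases cent_Q (S₀_le_KJ hu) hc with h | h
    · rw [h]; exact Q₀.one_mem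
    · rw [h]; exact z_Q₀
  · exact fun g hg h => gen2 hg h
  · intro T hTS hzT hcl
    exact le_antisymm hTS (S₀_le_T T hTS hzT hcl)

end Cfsg.Agent.Lib.Helper16.FusJ2
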