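import Cfsg.Agent.Lib.Helper16.FusSporA

set_option autoImplicit false
set_option linter.style.haveILetI false
set_option linter.unusedSectionVars false
set_option linter.unusedVariables false

/-!
helper16: simplicity of the 2-fusion system of a finite group whose involutions are all conjugate
and in which the centraliser of an involution `t` is a split extension `Q ⋊ H`, everything being
given by the multiplication tables of `Q` and `H` and the table of the action of `H` on `Q`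
(shape of the third Janko group).  A Sylow 2-subgroup is `Q ⋊ V` for a list `VL` of indices of `H`.
-/

namespace Cfsg.Agent.Lib.Helper16.FusSpor

open Cfsg Cfsg.FusionSystem Cfsg.Agent.Lib.Helper3.Fus

variable {G G' : Type*} [Group G] [Group G']

/-- a set containing `1` and closed under multiplication in a finite group, as a subgroup -/
def subgroupOfMulClosed [Finite G] (s : Set G) (h1 : (1 : G) ∈ s)
    (hmul : ∀ a ∈ s, ∀ b ∈ s, a * b ∈ s) : Subgroup G where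
  carrier := s
  one_mem' := h1
  mul_mem' := fun ha hb => hmul _ ha _ hb
  inv_mem' := by
    intro g hg
    have hpow : ∀ n : ℕ, g ^ n ∈ s := by
      intro n
      induction n with
      | zero => rw [pow_zero]; exact h1
      | succ n ih => rw [pow_succ]; exact hmul _ ih _ hg
    have : g⁻¹ = g ^ (orderOf g - 1) := by
      rw [inv_eq_iff_mul_eq_one, ← pow_succ', Nat.sub_add_cancel (orderOf_pos g),
        pow_orderOf_eq_one]
    rw [this]
    exact hpow _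

theorem mem_subgroupOfMulClosed [Finite G] (s : Set G) (h1 : (1 : G) ∈ s)
    (hmul : ∀ a ∈ s, ∀ b ∈ s, a * b ∈ s) (g : G) :
    g ∈ subgroupOfMulClosed s h1 hmul ↔ g ∈ s := Iff.rfl

/-- the data of a split involution centraliser given by tables -/
structure SplitData (t : G) (qq hh : ℕ → G) (mtQ mtH nQ : ℕ → ℕ → ℕ) (nq nh : ℕ)
    (VL : List ℕ) : Prop where
  nq_gt : 1 < nq
  nh_pos : 0 < nh
  qq_zero : qq 0 = 1
  hh_zero : hh 0 = 1
  qq_one : qq 1 = t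
  t_ne : t ≠ 1
  t_sq : t * t = 1
  qq_mul : ∀ i < nq, ∀ k < nq, mtQ i k < nq ∧ qq i * qq k = qq (mtQ i k)
  hh_mul : ∀ j < nh, ∀ l < nh, mtH j l < nh ∧ hh j * hh l = hh (mtH j l)
  hh_qq : ∀ j < nh, ∀ i < nq, nQ j i < nq ∧ hh j * qq i = qq (nQ j i) * hh j
  inj : ∀ i < nq, ∀ j < nh, ∀ k < nq, ∀ l < nh, qq i * hh j = qq k * hh l → i = k ∧ j = l
  surj : ∀ g : G, g * t = t * g → ∃ i < nq, ∃ j < nh, g = qq i * hh j
  comm : ∀ i < nq, ∀ j < nh, (qq i * hh j) * t = t * (qq i * hh j)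
  q2 : ∀ i < nq, ∃ k : ℕ, orderOf (qq i) = 2 ^ k
  conj : ∀ x y : G, orderOf x = 2 → orderOf y = 2 → IsConj x y
  VL_lt : ∀ j ∈ VL, j < nh
  VL_zero : 0 ∈ VL
  VL_nodup : VL.Nodup
  VL_mul : ∀ j ∈ VL, ∀ l ∈ VL, mtH j l ∈ VL
  card : nq * VL.length = 2 ^ (Nat.card G).factorization 2
  tab_cen : ∀ i < nq, ∀ j ∈ VL,
    (∀ k < nq, ∀ l ∈ VL, mtQ i (nQ j k) = mtQ k (nQ l i) ∧ mtH j l = mtH l j) →
      (j = 0 ∧ (i = 0 ∨ i = 1))
  tab_CQ : ∀ i < nq, ∀ j ∈ VL, (∀ k < nq, mtQ k (nQ 0 i) = mtQ i (nQ j k)) → j = 0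
  tab_gen2 : ∀ j < nh, ∃ a < nh, ∃ b < nh, mtH a a = 0 ∧ mtH b b = 0 ∧ mtH a b = j
  tab_inv2 : ∀ i < nq, ∀ j ∈ VL, ∃ a < nq, ∃ b ∈ VL,
    (mtQ a (nQ b a) = 0 ∧ mtH b b = 0) ∧ ∃ c < nq, ∃ d ∈ VL,
      (mtQ c (nQ d c) = 0 ∧ mtH d d = 0) ∧ mtQ a (nQ b c) = i ∧ mtH b d = j

namespace SplitData

variable [Finite G] {t : G} {qq hh : ℕ → G} {mtQ mtH nQ : ℕ → ℕ → ℕ} {nq nh : ℕ} {VL : List ℕ}
  (D : SplitData t qq hh mtQ mtH nQ nq nh VL)

include D

theorem nq_pos : 0 < nq := lt_trans Nat.zero_lt_one D.nq_gt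

theorem el_mul {i j k l : ℕ} (hi : i < nq) (hj : j < nh) (hk : k < nq) (hl : l < nh) :
    (qq i * hh j) * (qq k * hh l) = qq (mtQ i (nQ j k)) * hh (mtH j l) := by
  rw [← (D.qq_mul i hi _ (D.hh_qq j hj k hk).1).2, ← (D.hh_mul j hj l hl).2]
  calc qq i * hh j * (qq k * hh l) = qq i * (hh j * qq k) * hh l := by group
    _ = qq i * (qq (nQ j k) * hh j) * hh l := by rw [(D.hh_qq j hj k hk).2]
    _ = qq i * qq (nQ j k) * (hh j * hh l) := by group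

theorem el_mul_lt {i j k l : ℕ} (hi : i < nq) (hj : j < nh) (hk : k < nq) (hl : l < nh) :
    mtQ i (nQ j k) < nq ∧ mtH j l < nh :=
  ⟨(D.qq_mul i hi _ (D.hh_qq j hj k hk).1).1, (D.hh_mul j hj l hl).1⟩

/-- the Sylow 2-subgroup `Q ⋊ V` -/
def S0 : Subgroup G :=
  subgroupOfMulClosed {g | ∃ i < nq, ∃ j ∈ VL, g = qq i * hh j}
    ⟨0, D.nq_pos, 0, D.VL_zero, by rw [D.qq_zero, D.hh_zero, mul_one]⟩
    (by
      rintro _ ⟨i, hi, j, hj, rfl⟩ _ ⟨k, hk, l, hl, rfl⟩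
      refine ⟨mtQ i (nQ j k), (D.el_mul_lt hi (D.VL_lt j hj) hk (D.VL_lt l hl)).1, mtH j l,
        D.VL_mul j hj l hl, D.el_mul hi (D.VL_lt j hj) hk (D.VL_lt l hl)⟩)

/-- the normal subgroup `Q` -/
def Q : Subgroup G :=
  subgroupOfMulClosed {g | ∃ i < nq, g = qq i}
    ⟨0, D.nq_pos, D.qq_zero.symm⟩
    (by
      rintro _ ⟨i, hi, rfl⟩ _ ⟨k, hk, rfl⟩
      exact ⟨mtQ i k, (D.qq_mul i hi k hk).1, (D.qq_mul i hi k hk).2⟩)

theorem mem_S0 (g : G) : g ∈ D.S0 ↔ ∃ i < nq, ∃ j ∈ VL, g = qq i * hh j := Iff.rfl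

theorem mem_Q (g : G) : g ∈ D.Q ↔ ∃ i < nq, g = qq i := Iff.rfl

theorem card_S0 : Nat.card D.S0 = nq * VL.length := by
  let f : Fin nq × Fin VL.length → ↥D.S0 := fun p =>
    ⟨qq p.1.val * hh (VL.get p.2), p.1.val, p.1.isLt, VL.get p.2, List.get_mem _ _, rfl⟩
  have hf : Function.Bijective f := by
    constructor
    · intro p p' h
      have h1 := congrArg Subtype.val h
      have h2 := D.inj _ p.1.isLt _ (D.VL_lt _ (List.get_mem _ _)) _ p'.1.isLt _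
        (D.VL_lt _ (List.get_mem _ _)) h1
      apply Prod.ext
      · exact Fin.ext h2.1
      · exact (List.Nodup.get_inj_iff D.VL_nodup).mp h2.2
    · rintro ⟨g, i, hi, j, hj, rfl⟩
      obtain ⟨a, ha⟩ := List.mem_iff_get.mp hj
      exact ⟨(⟨i, hi⟩, a), Subtype.ext (by show qq i * hh (VL.get a) = _; rw [ha])⟩
  rw [← Nat.card_congr (Equiv.ofBijective f hf), Nat.card_prod, Nat.card_eq_fintype_card,
    Nat.card_eq_fintype_card, Fintype.card_fin, Fintype.card_fin]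

theorem t_mem_Q : t ∈ D.Q := ⟨1, D.nq_gt, D.qq_one.symm⟩

theorem Q_le_S0 : D.Q ≤ D.S0 := by
  rintro _ ⟨i, hi, rfl⟩
  exact ⟨i, hi, 0, D.VL_zero, by rw [D.hh_zero, mul_one]⟩

theorem S0_comm : ∀ s ∈ D.S0, s * t = t * s := by
  rintro _ ⟨i, hi, j, hj, rfl⟩
  exact D.comm i hi j (D.VL_lt j hj)

theorem S0_cen : ∀ x ∈ D.S0, (∀ y ∈ D.S0, x * y = y * x) → x = 1 ∨ x = t := by
  rintro _ ⟨i, hi, j, hj, rfl⟩ hc
  have hjn := D.VL_lt j hj
  have key := D.tab_cen i hi j hj (by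
    intro k hk l hl
    have hln := D.VL_lt l hl
    have h1 := hc (qq k * hh l) ⟨k, hk, l, hl, rfl⟩
    rw [D.el_mul hi hjn hk hln, D.el_mul hk hln hi hjn] at h1
    exact D.inj _ (D.el_mul_lt hi hjn hk hln).1 _ (D.el_mul_lt hi hjn hk hln).2 _
      (D.el_mul_lt hk hln hi hjn).1 _ (D.el_mul_lt hk hln hi hjn).2 h1)
  obtain ⟨rfl, rfl | rfl⟩ := key
  · left; rw [D.qq_zero, D.hh_zero, mul_one]
  · right; rw [D.qq_one, D.hh_zero, mul_one]

theorem S0_CQ : ∀ x ∈ D.S0, (∀ q ∈ D.Q, q * x = x * q) → x ∈ D.Q := by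
  rintro _ ⟨i, hi, j, hj, rfl⟩ hc
  have hjn := D.VL_lt j hj
  have key := D.tab_CQ i hi j hj (by
    intro k hk
    have h1 := hc (qq k) ⟨k, hk, rfl⟩
    have h2 : qq k = qq k * hh 0 := by rw [D.hh_zero, mul_one]
    rw [h2, D.el_mul hk D.nh_pos hi hjn, D.el_mul hi hjn hk D.nh_pos] at h1
    exact (D.inj _ (D.el_mul_lt hk D.nh_pos hi hjn).1 _ (D.el_mul_lt hk D.nh_pos hi hjn).2 _
      (D.el_mul_lt hi hjn hk D.nh_pos).1 _ (D.el_mul_lt hi hjn hk D.nh_pos).2 h1).1)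
  subst key
  exact ⟨i, hi, by rw [D.hh_zero, mul_one]⟩

theorem hh_norm {j : ℕ} (hj : j < nh) : ∀ q ∈ D.Q, hh j * q * (hh j)⁻¹ ∈ D.Q := by
  rintro _ ⟨i, hi, rfl⟩
  refine ⟨nQ j i, (D.hh_qq j hj i hi).1, ?_⟩
  rw [(D.hh_qq j hj i hi).2]
  group

theorem cent_norm : ∀ g : G, g * t = t * g → g ∈ Subgroup.normalizer (D.Q : Set G) := by
  have key : ∀ g : G, g * t = t * g → ∀ q ∈ D.Q, g * q * g⁻¹ ∈ D.Q := by
    intro g hg q hq
    obtain ⟨i, hi, j, hj, rfl⟩ := D.surj g hg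
    have h1 := D.hh_norm hj q hq
    have h2 : qq i ∈ D.Q := ⟨i, hi, rfl⟩
    have e : qq i * hh j * q * (qq i * hh j)⁻¹ = qq i * (hh j * q * (hh j)⁻¹) * (qq i)⁻¹ := by
      group
    rw [e]
    exact D.Q.mul_mem (D.Q.mul_mem h2 h1) (D.Q.inv_mem h2)
  intro g hg
  rw [Subgroup.mem_normalizer_iff]
  intro q
  constructor
  · exact key g hg q
  · intro h
    have hg' : g⁻¹ * t = t * g⁻¹ := by
      have : g⁻¹ * t = g⁻¹ * (t * g) * g⁻¹ := by group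
      rw [this, ← hg]
      group
    have := key g⁻¹ hg' _ h
    have e : g⁻¹ * (g * q * g⁻¹) * g⁻¹⁻¹ = q := by group
    rwa [e] at this

theorem orderOf_two_pow_of_sq {y : G} (h : y * y = 1) : ∃ k : ℕ, orderOf y = 2 ^ k := by
  have h1 : orderOf y ∣ 2 ^ 1 := by
    apply orderOf_dvd_of_pow_eq_one
    rw [pow_one, pow_two]
    exact h
  obtain ⟨k, -, hk⟩ := (Nat.dvd_prime_pow Nat.prime_two).mp h1
  exact ⟨k, hk⟩

theorem gen2 : ∀ g : G, g * t = t * g →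
    g ∈ Subgroup.closure {y : G | y * t = t * y ∧ ∃ k : ℕ, orderOf y = 2 ^ k} := by
  intro g hg
  obtain ⟨i, hi, j, hj, rfl⟩ := D.surj g hg
  have hcq : ∀ i < nq, qq i * t = t * qq i := by
    intro i hi
    have := D.comm i hi 0 D.nh_pos
    rwa [D.hh_zero, mul_one] at this
  have hch : ∀ j < nh, hh j * t = t * hh j := by
    intro j hj
    have := D.comm 0 D.nq_pos j hj
    rwa [D.qq_zero, one_mul] at this
  apply Subgroup.mul_mem
  · exact Subgroup.subset_closure ⟨hcq i hi, D.q2 i hi⟩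
  · obtain ⟨a, ha, b, hb, haa, hbb, hab⟩ := D.tab_gen2 j hj
    rw [← hab, ← (D.hh_mul a ha b hb).2]
    apply Subgroup.mul_mem
    · refine Subgroup.subset_closure ⟨hch a ha, D.orderOf_two_pow_of_sq ?_⟩
      rw [(D.hh_mul a ha a ha).2, haa, D.hh_zero]
    · refine Subgroup.subset_closure ⟨hch b hb, D.orderOf_two_pow_of_sq ?_⟩
      rw [(D.hh_mul b hb b hb).2, hbb, D.hh_zero]

theorem sq_mem (T : Subgroup G) (htT : t ∈ T) (hcl : FClosed D.S0 T) :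
    ∀ y ∈ D.S0, y * y = 1 → y ∈ T := by
  intro y hyS hy
  by_cases h1 : y = 1
  · rw [h1]; exact T.one_mem
  · have hot : orderOf t = 2 :=
      orderOf_eq_prime (by rw [pow_two]; exact D.t_sq) D.t_ne
    have hoy : orderOf y = 2 := orderOf_eq_prime (by rw [pow_two]; exact hy) h1
    obtain ⟨g, hg⟩ := isConj_iff.mp (D.conj t y hot hoy)
    have := hcl t htT g (by rw [hg]; exact hyS)
    rwa [hg] at this

theorem closed : ∀ T : Subgroup G, T ≤ D.S0 → t ∈ T → FClosed D.S0 T → T = D.S0 := by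
  intro T hTS htT hcl
  apply le_antisymm hTS
  rintro _ ⟨i, hi, j, hj, rfl⟩
  obtain ⟨a, ha, b, hb, ⟨hab1, hab2⟩, c, hc, d, hd, ⟨hcd1, hcd2⟩, e1, e2⟩ := D.tab_inv2 i hi j hj
  have hbn := D.VL_lt b hb
  have hdn := D.VL_lt d hd
  rw [← e1, ← e2, ← D.el_mul ha hbn hc hdn]
  apply T.mul_mem
  · apply D.sq_mem T htT hcl _ ⟨a, ha, b, hb, rfl⟩
    rw [D.el_mul ha hbn ha hbn, hab1, hab2, D.qq_zero, D.hh_zero, mul_one]
  · apply D.sq_mem T htT hcl _ ⟨c, hc, d, hd, rfl⟩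
    rw [D.el_mul hc hdn hc hdn, hcd1, hcd2, D.qq_zero, D.hh_zero, mul_one]

/-- the 2-fusion system is simple -/
theorem isSimple [Finite G'] (φ : G ≃* G') (S : Sylow 2 G') :
    (groupFusionSystem (S : Subgroup G')).IsSimple 2 := by
  apply isSimple_of_invol_cent φ D.S0 D.Q t
  · rw [D.card_S0, D.card]
  · exact D.t_ne
  · exact D.Q_le_S0 D.t_mem_Q
  · exact D.S0_comm
  · exact D.S0_cen
  · exact D.Q_le_S0
  · exact D.cent_norm
  · exact D.S0_CQ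
  · exact D.gen2
  · exact D.closed

end SplitData

end Cfsg.Agent.Lib.Helper16.FusSpor
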