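import Cfsg.Agent.Lib.Helper10.J3WFinal
import Cfsg.Agent.Lib.Helper16.FusSporB

set_option autoImplicit false
set_option linter.style.haveILetI false
set_option linter.unusedSectionVars false
set_option linter.unusedVariables false

/-!
helper16: the 2-fusion system of the third Janko group is simple (on helper10's 20520-point model).
The centraliser of the involution `t` is `SQ ⋊ SH` with `SQ` extraspecial of order 32 and `SH ≅ A5`;
a Sylow 2-subgroup is `S0 = SQ ⋊ V` with `V` a four-group of `SH`.  Everything is read off the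
multiplication tables `mtQ`, `mtH` and the action table `nQ`.
-/

namespace Cfsg.Agent.Lib.Helper16.FusJ3

open Cfsg.Agent.Lib.Helper10.SX Cfsg.Agent.Lib.Helper10.J3M Cfsg.Agent.Lib.Helper10.J3W
open Cfsg.Agent.Lib.Helper3.Fus

noncomputable section

/-! ### the elements `q_i h_j` -/

/-- the `i`-th element of the normal subgroup of order 32 -/
def qq (i : ℕ) : ↥G := gw (wd Qs i)

/-- the `j`-th element of the complement of order 60 -/
def hh (j : ℕ) : ↥G := gw (wd Hs j)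

/-- the product `q_i h_j` -/
def el (i j : ℕ) : ↥G := qq i * hh j

theorem qq_zero : qq 0 = 1 := gw_Q0

theorem hh_zero : hh 0 = 1 := gw_H0

theorem qq_one : qq 1 = t := t_eq.symm

theorem el_zero_zero : el 0 0 = 1 := by unfold el; rw [qq_zero, hh_zero, mul_one]

theorem el_zero_right (i : ℕ) : el i 0 = qq i := by unfold el; rw [hh_zero, mul_one]

theorem el_zero_left (j : ℕ) : el 0 j = hh j := by unfold el; rw [qq_zero, one_mul]

theorem qq_mul {i k : ℕ} (hi : i < 32) (hk : k < 32) : qq i * qq k = qq (mtQ i k) :=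
  wgQ.mul_eq hi hk

theorem hh_mul {j l : ℕ} (hj : j < 60) (hl : l < 60) : hh j * hh l = hh (mtH j l) :=
  wgH.mul_eq hj hl

theorem mtQ_lt {i k : ℕ} (hi : i < 32) (hk : k < 32) : mtQ i k < 32 := wgQ.mt_lt hi hk

theorem mtH_lt {j l : ℕ} (hj : j < 60) (hl : l < 60) : mtH j l < 60 := wgH.mt_lt hj hl

theorem nQ_spec {j i : ℕ} (hj : j < 60) (hi : i < 32) :
    nQ j i < 32 ∧ hh j * qq i = qq (nQ j i) * hh j := by
  have h := normQ
  rw [allLt_iff] at h
  have h := h j hj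
  rw [allLt_iff] at h
  have h := h i hi
  rw [Bool.and_eq_true] at h
  have h1 : nQ j i < 32 := by simpa [Nat.blt] using h.1
  have h2 := (sigEq_iff _ _).mp h.2
  rw [gw_append, gw_append, gw_winv] at h2
  refine ⟨h1, ?_⟩
  unfold qq hh
  rw [← h2]
  group

theorem nQ_lt {j i : ℕ} (hj : j < 60) (hi : i < 32) : nQ j i < 32 := (nQ_spec hj hi).1

theorem hh_qq {j i : ℕ} (hj : j < 60) (hi : i < 32) : hh j * qq i = qq (nQ j i) * hh j :=
  (nQ_spec hj hi).2

theorem el_mul {i j k l : ℕ} (hi : i < 32) (hj : j < 60) (hk : k < 32) (hl : l < 60) :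
    el i j * el k l = el (mtQ i (nQ j k)) (mtH j l) := by
  unfold el
  rw [← qq_mul hi (nQ_lt hj hk), ← hh_mul hj hl]
  calc qq i * hh j * (qq k * hh l) = qq i * (hh j * qq k) * hh l := by group
    _ = qq i * (qq (nQ j k) * hh j) * hh l := by rw [hh_qq hj hk]
    _ = qq i * qq (nQ j k) * (hh j * hh l) := by group

theorem qq_mem {i : ℕ} (hi : i < 32) : qq i ∈ SQ := wgQ.gw_mem hi

theorem hh_mem {j : ℕ} (hj : j < 60) : hh j ∈ SH := wgH.gw_mem hj

theorem el_inj {i j k l : ℕ} (hi : i < 32) (hj : j < 60) (hk : k < 32) (hl : l < 60)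
    (h : el i j = el k l) : i = k ∧ j = l := by
  have h1 := @Subgroup.mul_injective_of_disjoint _ _ SQ SH disj
    (⟨⟨qq i, qq_mem hi⟩, ⟨hh j, hh_mem hj⟩⟩ : ↥SQ × ↥SH)
    (⟨⟨qq k, qq_mem hk⟩, ⟨hh l, hh_mem hl⟩⟩ : ↥SQ × ↥SH) h
  have h2 := congrArg (fun p : ↥SQ × ↥SH => p.1.val) h1
  have h3 := congrArg (fun p : ↥SQ × ↥SH => p.2.val) h1
  exact ⟨wgQ.inj hi hk h2, wgH.inj hj hl h3⟩

theorem el_surj {g : ↥G} (hg : g * t = t * g) : ∃ i, i < 32 ∧ ∃ j, j < 60 ∧ g = el i j := by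
  have hg' : g ∈ Subgroup.centralizer ({t} : Set ↥G) :=
    Subgroup.mem_centralizer_singleton_iff.mpr hg
  obtain ⟨⟨⟨_, i, hi, rfl⟩, ⟨_, j, hj, rfl⟩⟩, hqh⟩ := prodC_surjective ⟨g, hg'⟩
  exact ⟨i, hi, j, hj, (congrArg Subtype.val hqh).symm⟩

theorem qq_comm_t {i : ℕ} (hi : i < 32) : qq i * t = t * qq i :=
  Subgroup.mem_centralizer_singleton_iff.mp (SQ_le (qq_mem hi))

theorem hh_comm_t {j : ℕ} (hj : j < 60) : hh j * t = t * hh j :=
  Subgroup.mem_centralizer_singleton_iff.mp (SH_le (hh_mem hj))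

theorem el_comm_t {i j : ℕ} (hi : i < 32) (hj : j < 60) : el i j * t = t * el i j := by
  unfold el
  rw [mul_assoc, hh_comm_t hj, ← mul_assoc, qq_comm_t hi, mul_assoc]

/-! ### the table checks -/

/-- the indices of a four-group of the complement -/
def VL : List ℕ := [0, 1, 2, 7]

theorem VL_lt : ∀ j ∈ VL, j < 60 := by decide

theorem VL_mul : ∀ j ∈ VL, ∀ l ∈ VL, mtH j l ∈ VL := by decide +kernel

theorem VL_get : ∀ a < 4, VL.getD a 0 ∈ VL := by decide

theorem VL_get_inj : ∀ a < 4, ∀ b < 4, VL.getD a 0 = VL.getD b 0 → a = b := by decide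

theorem VL_get_surj : ∀ j ∈ VL, ∃ a < 4, VL.getD a 0 = j := by decide

theorem tab_cen : ∀ i < 32, ∀ j ∈ VL,
    (∀ k < 32, ∀ l ∈ VL, mtQ i (nQ j k) = mtQ k (nQ l i) ∧ mtH j l = mtH l j) →
      (j = 0 ∧ (i = 0 ∨ i = 1)) := by
  decide +kernel

theorem tab_CQ : ∀ i < 32, ∀ j ∈ VL, (∀ k < 32, mtQ k (nQ 0 i) = mtQ i (nQ j k)) → j = 0 := by
  decide +kernel

theorem tab_gen2 : ∀ j < 60, ∃ a < 60, ∃ b < 60, mtH a a = 0 ∧ mtH b b = 0 ∧ mtH a b = j := by
  decide +kernel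

theorem tab_inv2 : ∀ i < 32, ∀ j ∈ VL, ∃ a < 32, ∃ b ∈ VL,
    (mtQ a (nQ b a) = 0 ∧ mtH b b = 0) ∧ ∃ c < 32, ∃ d ∈ VL,
      (mtQ c (nQ d c) = 0 ∧ mtH d d = 0) ∧ mtQ a (nQ b c) = i ∧ mtH b d = j := by
  decide +kernel

/-! ### the theorem -/

theorem fact_card : (50232960 : ℕ).factorization 2 = 7 := by
  have h : (50232960 : ℕ) = 2 ^ 7 * 392445 := by norm_num
  rw [h, Nat.factorization_mul (by norm_num) (by norm_num), Finsupp.add_apply,
    Nat.Prime.factorization_pow Nat.prime_two, Finsupp.single_eq_same,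
    Nat.factorization_eq_zero_of_not_dvd (by norm_num)]

theorem qq_two_pow {i : ℕ} (hi : i < 32) : ∃ k : ℕ, orderOf (qq i) = 2 ^ k := by
  have h1 : orderOf (qq i) ∣ 2 ^ 5 := by
    have := Subgroup.orderOf_dvd_natCard SQ (qq_mem hi)
    rw [card_SQ] at this
    exact this
  obtain ⟨k, -, hk⟩ := (Nat.dvd_prime_pow Nat.prime_two).mp h1
  exact ⟨k, hk⟩

theorem splitData : Cfsg.Agent.Lib.Helper16.FusSpor.SplitData t qq hh mtQ mtH nQ 32 60 VL where
  nq_gt := by norm_num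
  nh_pos := by norm_num
  qq_zero := qq_zero
  hh_zero := hh_zero
  qq_one := qq_one
  t_ne := t_ne
  t_sq := t_sq
  qq_mul := fun i hi k hk => ⟨mtQ_lt hi hk, qq_mul hi hk⟩
  hh_mul := fun j hj l hl => ⟨mtH_lt hj hl, hh_mul hj hl⟩
  hh_qq := fun j hj i hi => nQ_spec hj hi
  inj := fun i hi j hj k hk l hl h => el_inj hi hj hk hl h
  surj := fun g hg => by
    obtain ⟨i, hi, j, hj, e⟩ := el_surj hg
    exact ⟨i, hi, j, hj, e⟩
  comm := fun i hi j hj => el_comm_t hi hj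
  q2 := fun i hi => qq_two_pow hi
  conj := G_involutions_conj
  VL_lt := VL_lt
  VL_zero := by decide
  VL_nodup := by decide
  VL_mul := VL_mul
  card := by
    rw [card_G, fact_card]
    decide
  tab_cen := tab_cen
  tab_CQ := tab_CQ
  tab_gen2 := tab_gen2
  tab_inv2 := tab_inv2

/-- the 2-fusion system of a group isomorphic to the group on 20520 points is simple -/
theorem isSimple_J3M {G' : Type*} [Group G'] [Finite G'] (φ : ↥G ≃* G') (S : Sylow 2 G') :
    (Cfsg.groupFusionSystem (S : Subgroup G')).IsSimple 2 := by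
  have := finite_G
  exact splitData.isSimple φ S

end

end Cfsg.Agent.Lib.Helper16.FusJ3
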