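import Mathlib
import Cfsg.Agent.Lib.Helper13.SL2OrderFour
import Cfsg.Agent.Lib.Helper13.CAGroup

set_option autoImplicit false

/-! In `PSL₂(F)`, `F` of characteristic not 2: an element of odd order centralizing a four-group is
trivial. -/

namespace Cfsg.Agent.Lib.Helper16.FusPSL2

open Matrix Cfsg.Agent.Lib.Helper13

variable {F : Type*} [Field F]

local notation "SL2" => SpecialLinearGroup (Fin 2) F
local notation "PSL2" => ProjectiveSpecialLinearGroup (Fin 2) F

theorem mk_eq_one_iff (g : SL2) : (QuotientGroup.mk g : PSL2) = 1 ↔ g ∈ Subgroup.center SL2 :=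
  QuotientGroup.eq_one_iff g

theorem mk_zSL : (QuotientGroup.mk (zSL F) : PSL2) = 1 :=
  (mk_eq_one_iff _).mpr zSL_mem_center

/-- central elements have square one -/
theorem center_mul_self (c : SL2) (hc : c ∈ Subgroup.center SL2) : c * c = 1 := by
  rcases center_cases c hc with h | h
  · rw [h, one_mul]
  · rw [h, zSL_mul_self]

/-- An odd-order element of `PSL₂` has a lift of the same (odd) exponent. -/
theorem exists_lift_odd (y : PSL2) (n : ℕ) (hn : Odd n) (hy : y ^ n = 1) :
    ∃ Y : SL2, (QuotientGroup.mk Y : PSL2) = y ∧ Y ^ n = 1 := by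
  obtain ⟨Y₀, rfl⟩ := QuotientGroup.mk_surjective y
  have h1 : Y₀ ^ n ∈ Subgroup.center SL2 := by
    rw [← mk_eq_one_iff, QuotientGroup.mk_pow]
    exact hy
  rcases center_cases _ h1 with h | h
  · exact ⟨Y₀, rfl, h⟩
  · refine ⟨zSL F * Y₀, ?_, ?_⟩
    · rw [QuotientGroup.mk_mul, mk_zSL, one_mul]
    · have hcomm : Commute (zSL F) Y₀ := (Subgroup.mem_center_iff.mp zSL_mem_center Y₀).symm
      rw [hcomm.mul_pow, h]
      obtain ⟨k, rfl⟩ := hn
      rw [pow_succ, pow_mul, pow_two, zSL_mul_self, one_pow, one_mul, zSL_mul_self]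

/-- If `Y` has odd exponent and commutes with `A` modulo the centre, then it commutes with `A`. -/
theorem commute_of_odd (Y A : SL2) (n : ℕ) (hn : Odd n) (hY : Y ^ n = 1)
    (h : Y * A * Y⁻¹ * A⁻¹ ∈ Subgroup.center SL2) : Commute Y A := by
  set c := Y * A * Y⁻¹ * A⁻¹ with hc
  have hcc : c * c = 1 := center_mul_self c h
  have hc1 : ∀ X : SL2, c * X = X * c := fun X => (Subgroup.mem_center_iff.mp h X).symm
  have h1 : Y * A = c * A * Y := by
    rw [hc]; group
  have h2 : Commute (Y * Y) A := by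
    show Y * Y * A = A * (Y * Y)
    calc Y * Y * A = Y * (Y * A) := by group
      _ = Y * (c * A * Y) := by rw [h1]
      _ = (Y * c) * A * Y := by group
      _ = (c * Y) * A * Y := by rw [hc1 Y]
      _ = c * (Y * A) * Y := by group
      _ = c * (c * A * Y) * Y := by rw [h1]
      _ = (c * c) * A * Y * Y := by group
      _ = A * (Y * Y) := by rw [hcc]; group
  obtain ⟨k, rfl⟩ := hn
  have h3 : Y = (Y * Y) ^ (k + 1) := by
    have : (Y * Y) ^ (k + 1) = Y ^ (2 * k + 1) * Y := by
      rw [← pow_two, ← pow_mul, ← pow_succ]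
      congr 1
    rw [this, hY, one_mul]
  rw [h3]
  exact h2.pow_left _

/-- The key fact. -/
theorem odd_centralizer_trivial [Fintype F] (h2 : (2 : F) ≠ 0) (a b y : PSL2) (ha : orderOf a = 2)
    (hb : orderOf b = 2) (hab : a ≠ b) (hcomm : Commute a b) (hy : Odd (orderOf y))
    (hya : Commute y a) (hyb : Commute y b) : y = 1 := by
  obtain ⟨A, rfl, hA⟩ := exists_lift_of_orderOf_two h2 a ha
  obtain ⟨B, rfl, hB⟩ := exists_lift_of_orderOf_two h2 b hb
  obtain ⟨Y, rfl, hY⟩ := exists_lift_odd y (orderOf y) hy (pow_orderOf_eq_one y)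
  set n := orderOf (QuotientGroup.mk Y : PSL2) with hn
  -- commutation at the level of SL₂
  have key : ∀ X Z : SL2, Commute (QuotientGroup.mk X : PSL2) (QuotientGroup.mk Z) →
      X * Z * X⁻¹ * Z⁻¹ ∈ Subgroup.center SL2 := by
    intro X Z hXZ
    rw [← mk_eq_one_iff]
    simp only [QuotientGroup.mk_mul, QuotientGroup.mk_inv]
    rw [hXZ.eq]
    group
  have hYA : Commute Y A := commute_of_odd Y A n hy hY (key Y A hya)
  have hYB : Commute Y B := commute_of_odd Y B n hy hY (key Y B hyb)
  have hAA : A * A = zSL F := mul_self_of_trace_eq_zero A hA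
  have hBB : B * B = zSL F := mul_self_of_trace_eq_zero B hB
  -- A and B anticommute
  have hAB : A * B = zSL F * (B * A) := by
    rcases center_cases _ (key A B hcomm) with h | h
    · exfalso
      have h1 : A * B = B * A := by
        have := congrArg (fun X => X * B * A) h
        beta_reduce at this
        rw [one_mul] at this
        rw [← this]; group
      have h3 : (A * B) * (A * B) = 1 := by
        calc (A * B) * (A * B) = A * (B * A) * B := by group
          _ = A * (A * B) * B := by rw [h1]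
          _ = (A * A) * (B * B) := by group
          _ = 1 := by rw [hAA, hBB, zSL_mul_self]
      have h4 : A * B ∈ Subgroup.center SL2 := by
        rcases sq_eq_one_cases h2 (A * B) h3 with h' | h'
        · rw [h']; exact Subgroup.one_mem _
        · rw [h']; exact zSL_mem_center
      apply hab
      have h5 : (QuotientGroup.mk A : PSL2) * QuotientGroup.mk B = 1 := by
        rw [← QuotientGroup.mk_mul]
        exact (mk_eq_one_iff _).mpr h4
      have h6 : (QuotientGroup.mk B : PSL2) * QuotientGroup.mk B = 1 := by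
        rw [← QuotientGroup.mk_mul, hBB]; exact mk_zSL
      have h7 : (QuotientGroup.mk A : PSL2) = (QuotientGroup.mk B : PSL2)⁻¹ := eq_inv_of_mul_eq_one_left h5
      have h8 : (QuotientGroup.mk B : PSL2) = (QuotientGroup.mk B : PSL2)⁻¹ := eq_inv_of_mul_eq_one_left h6
      rw [h7, ← h8]
    · calc A * B = (A * B * A⁻¹ * B⁻¹) * (B * A) := by group
        _ = zSL F * (B * A) := by rw [h]
  -- matrix computations
  have hABm : (A : Matrix (Fin 2) (Fin 2) F) * (B : Matrix (Fin 2) (Fin 2) F) =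
      -((B : Matrix (Fin 2) (Fin 2) F) * (A : Matrix (Fin 2) (Fin 2) F)) := by
    have this : (A : Matrix (Fin 2) (Fin 2) F) * (B : Matrix (Fin 2) (Fin 2) F) =
        !![-1, 0; 0, -1] * ((B : Matrix (Fin 2) (Fin 2) F) * (A : Matrix (Fin 2) (Fin 2) F)) :=
      congrArg (fun X : SL2 => (X : Matrix (Fin 2) (Fin 2) F)) hAB
    rw [this]
    ext i j
    fin_cases i <;> fin_cases j <;> simp [Matrix.mul_apply, Fin.sum_univ_two]
  have hnonscalar : ¬ ((A : Matrix (Fin 2) (Fin 2) F) 0 1 = 0 ∧ (A : Matrix (Fin 2) (Fin 2) F) 1 0 = 0 ∧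
      (A : Matrix (Fin 2) (Fin 2) F) 0 0 = (A : Matrix (Fin 2) (Fin 2) F) 1 1) := by
    rintro ⟨h01, h10, h00⟩
    have htr := hA
    rw [Matrix.trace_fin_two, ← h00] at htr
    have h0 : (A : Matrix (Fin 2) (Fin 2) F) 0 0 = 0 := by
      have : (2 : F) * (A : Matrix (Fin 2) (Fin 2) F) 0 0 = 0 := by linear_combination htr
      exact (mul_eq_zero.mp this).resolve_left h2
    have hdet := A.2
    rw [Matrix.det_fin_two, h01, h10, h0] at hdet
    simp at hdet
  have hYAm : (Y : Matrix (Fin 2) (Fin 2) F) * (A : Matrix (Fin 2) (Fin 2) F) =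
      (A : Matrix (Fin 2) (Fin 2) F) * (Y : Matrix (Fin 2) (Fin 2) F) := by
    exact congrArg (fun X : SL2 => (X : Matrix (Fin 2) (Fin 2) F)) hYA.eq
  have hYBm : (Y : Matrix (Fin 2) (Fin 2) F) * (B : Matrix (Fin 2) (Fin 2) F) =
      (B : Matrix (Fin 2) (Fin 2) F) * (Y : Matrix (Fin 2) (Fin 2) F) := by
    exact congrArg (fun X : SL2 => (X : Matrix (Fin 2) (Fin 2) F)) hYB.eq
  obtain ⟨α, β, hαβ⟩ := exists_eq_smul_add_of_commute (A : Matrix (Fin 2) (Fin 2) F)
    (Y : Matrix (Fin 2) (Fin 2) F) hnonscalar hYAm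
  have hβ : β = 0 := by
    rw [hαβ] at hYBm
    have h1 : (2 * β) • ((A : Matrix (Fin 2) (Fin 2) F) * (B : Matrix (Fin 2) (Fin 2) F)) = 0 := by
      have e1 : (α • (1 : Matrix (Fin 2) (Fin 2) F) + β • (A : Matrix (Fin 2) (Fin 2) F)) *
          (B : Matrix (Fin 2) (Fin 2) F) = α • (B : Matrix (Fin 2) (Fin 2) F) +
            β • ((A : Matrix (Fin 2) (Fin 2) F) * (B : Matrix (Fin 2) (Fin 2) F)) := by
        rw [add_mul, Matrix.smul_mul, Matrix.smul_mul, one_mul]
      have e2 : (B : Matrix (Fin 2) (Fin 2) F) *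
          (α • (1 : Matrix (Fin 2) (Fin 2) F) + β • (A : Matrix (Fin 2) (Fin 2) F)) =
            α • (B : Matrix (Fin 2) (Fin 2) F) -
            β • ((A : Matrix (Fin 2) (Fin 2) F) * (B : Matrix (Fin 2) (Fin 2) F)) := by
        have hBAm : (B : Matrix (Fin 2) (Fin 2) F) * (A : Matrix (Fin 2) (Fin 2) F) =
            -((A : Matrix (Fin 2) (Fin 2) F) * (B : Matrix (Fin 2) (Fin 2) F)) := by
          rw [hABm, neg_neg]
        rw [mul_add, Matrix.mul_smul, Matrix.mul_smul, mul_one, hBAm, smul_neg, sub_eq_add_neg]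
      rw [e1, e2] at hYBm
      have e3 : β • ((A : Matrix (Fin 2) (Fin 2) F) * (B : Matrix (Fin 2) (Fin 2) F)) +
          β • ((A : Matrix (Fin 2) (Fin 2) F) * (B : Matrix (Fin 2) (Fin 2) F)) = 0 := by
        have := congrArg (fun M => M - α • (B : Matrix (Fin 2) (Fin 2) F) +
          β • ((A : Matrix (Fin 2) (Fin 2) F) * (B : Matrix (Fin 2) (Fin 2) F))) hYBm
        beta_reduce at this
        rw [add_sub_cancel_left, sub_sub_cancel_left, neg_add_cancel] at this
        exact this
      rw [mul_smul, two_smul]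
      exact e3
    rcases smul_eq_zero.mp h1 with h | h
    · exact (mul_eq_zero.mp h).resolve_left h2
    · exfalso
      have hdet : ((A : Matrix (Fin 2) (Fin 2) F) * (B : Matrix (Fin 2) (Fin 2) F)).det = 1 := by
        rw [Matrix.det_mul, A.2, B.2, one_mul]
      rw [h] at hdet
      simp at hdet
  rw [hβ, zero_smul, add_zero] at hαβ
  exact (mk_eq_one_iff Y).mpr (mem_center_of_scalar Y α hαβ)

end Cfsg.Agent.Lib.Helper16.FusPSL2
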