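import Mathlib
import Cfsg.Agent.Lib.Helper16.FusDih
import Cfsg.Agent.Lib.Helper16.FusPSL2a
import Cfsg.Agent.Lib.Helper13.DkDihExist
import Cfsg.Agent.Lib.Helper13.PSL2

set_option autoImplicit false

/-! The 2-fusion system of `PSL₂(q)`, `q² ≡ 1 mod 16`, is simple. -/

namespace Cfsg.Agent.Lib.Helper16.FusPSL2

open Matrix Cfsg Cfsg.Agent.Lib.Helper13

variable {F : Type*} [Field F] [Fintype F]

theorem two_ne_zero_of_odd_card (hodd : Fintype.card F % 2 = 1) : (2 : F) ≠ 0 := by
  intro h
  obtain ⟨p, hp⟩ := CharP.exists F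
  have hprime : p.Prime := CharP.char_is_prime F p
  have h2 : ((2 : ℕ) : F) = 0 := by exact_mod_cast h
  have hdvd : p ∣ 2 := (CharP.cast_eq_zero_iff F p 2).mp h2
  have hp2 : p = 2 := (Nat.prime_dvd_prime_iff_eq hprime Nat.prime_two).mp hdvd
  obtain ⟨n, hpr, hcard⟩ := FiniteField.card F p
  rw [hp2] at hcard
  rw [hcard] at hodd
  have : 2 ∣ 2 ^ (n : ℕ) := dvd_pow_self 2 n.ne_zero
  omega

theorem fact2_odd {x : ℕ} (h : x % 2 = 1) : x.factorization 2 = 0 := by
  apply Nat.factorization_eq_zero_of_not_dvd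
  omega

theorem fact2_mod_four {x : ℕ} (h : x % 4 = 2) : x.factorization 2 = 1 := by
  obtain ⟨c, hc⟩ : ∃ c, x = 2 * (2 * c + 1) := ⟨x / 4, by omega⟩
  rw [hc, Nat.factorization_mul (by norm_num) (by omega), Finsupp.add_apply,
    Nat.Prime.factorization_self Nat.prime_two,
    Nat.factorization_eq_zero_of_not_dvd (by omega)]

/-- arithmetic: `q` odd with `16 ∣ q² - 1` is `±1 mod 8`. -/
theorem mod_eight_of_sq {q : ℕ} (h16 : 16 ∣ q ^ 2 - 1) (hodd : q % 2 = 1) :
    q % 8 = 1 ∨ q % 8 = 7 := by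
  have hq1 : 1 ≤ q ^ 2 := Nat.one_le_pow _ _ (by omega)
  have h1 : q ^ 2 % 16 = 1 := by
    obtain ⟨c, hc⟩ := h16
    have : q ^ 2 = 16 * c + 1 := by omega
    rw [this]
    omega
  rw [Nat.pow_mod] at h1
  have hr : q % 16 < 16 := Nat.mod_lt _ (by norm_num)
  have hq8 : q % 8 = (q % 16) % 8 := by omega
  rw [hq8]
  generalize q % 16 = r at h1 hr
  interval_cases r <;> simp_all

theorem main (hodd : Fintype.card F % 2 = 1) (h16 : 16 ∣ Fintype.card F ^ 2 - 1)
    (S : Sylow 2 (ProjectiveSpecialLinearGroup (Fin 2) F)) :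
    (groupFusionSystem (S : Subgroup (ProjectiveSpecialLinearGroup (Fin 2) F))).IsSimple 2 := by
  classical
  have h2 : (2 : F) ≠ 0 := two_ne_zero_of_odd_card hodd
  obtain ⟨p, hp⟩ := CharP.exists F
  haveI := hp
  haveI : Fact p.Prime := ⟨CharP.char_is_prime F p⟩
  set q := Fintype.card F with hq
  have hq8 := mod_eight_of_sq h16 hodd
  have hq5 : 5 ≤ q := by
    have : 1 < q := Fintype.one_lt_card
    omega
  have hgcd : Nat.gcd 2 (q - 1) = 2 := by
    apply Nat.gcd_eq_left
    omega
  have hcard := card_PSL2_mul_two (F := F) h2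
  rw [← hq] at hcard
  have hsq : q ^ 2 - 1 = (q - 1) * (q + 1) := by
    have : q ^ 2 = (q - 1) * (q + 1) + 1 := by
      obtain ⟨k, hk⟩ : ∃ k, q = k + 1 := ⟨q - 1, by omega⟩
      rw [hk]
      simp only [Nat.add_sub_cancel]
      ring
    omega
  have hG0 : Nat.card (ProjectiveSpecialLinearGroup (Fin 2) F) ≠ 0 := Nat.card_pos.ne'
  have hvalG : (Nat.card (ProjectiveSpecialLinearGroup (Fin 2) F)).factorization 2 + 1 =
      (q - 1).factorization 2 + (q + 1).factorization 2 := by
    have h1 : (Nat.card (ProjectiveSpecialLinearGroup (Fin 2) F) * 2).factorization 2 =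
        (q * ((q - 1) * (q + 1))).factorization 2 := by rw [hcard, hsq]
    rw [Nat.factorization_mul hG0 (by norm_num), Finsupp.add_apply,
      Nat.Prime.factorization_self Nat.prime_two,
      Nat.factorization_mul (by omega) (Nat.mul_ne_zero (by omega) (by omega)), Finsupp.add_apply,
      Nat.factorization_mul (by omega) (by omega), Finsupp.add_apply, fact2_odd hodd, zero_add] at h1
    exact h1
  have hconj := isConj_of_orderOf_two (F := F) h2
  have hF3 := odd_centralizer_trivial (F := F) h2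
  rcases hq8 with h8 | h8
  · -- q ≡ 1 mod 8: use the dihedral group of order q - 1
    obtain ⟨H, ⟨e⟩⟩ := Cfsg.Agent.Lib.Helper13.Dk.exists_dihedral_sub_one (F := F) p (by omega)
    rw [← hq, hgcd] at e
    set m := (q - 1) / 2 with hm
    have hm4 : 4 ∣ m := by omega
    have hm0 : m ≠ 0 := by omega
    have h2m : 2 * m = q - 1 := by omega
    have hval : (2 * m).factorization 2 =
        (Nat.card (ProjectiveSpecialLinearGroup (Fin 2) F)).factorization 2 := by
      rw [h2m]
      have : (q + 1).factorization 2 = 1 := fact2_mod_four (by omega)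
      omega
    exact Cfsg.Agent.Lib.Helper16.FusDih.isSimple_of_dihedral m hm4 hm0
      (H.subtype.comp e.symm.toMonoidHom) (H.subtype_injective.comp e.symm.injective) hval
      hconj hF3 S
  · obtain ⟨H, ⟨e⟩⟩ := Cfsg.Agent.Lib.Helper13.Dk.exists_dihedral_add_one (F := F) p
    rw [← hq, hgcd] at e
    set m := (q + 1) / 2 with hm
    have hm4 : 4 ∣ m := by omega
    have hm0 : m ≠ 0 := by omega
    have h2m : 2 * m = q + 1 := by omega
    have hval : (2 * m).factorization 2 =
        (Nat.card (ProjectiveSpecialLinearGroup (Fin 2) F)).factorization 2 := by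
      rw [h2m]
      have : (q - 1).factorization 2 = 1 := fact2_mod_four (by omega)
      omega
    exact Cfsg.Agent.Lib.Helper16.FusDih.isSimple_of_dihedral m hm4 hm0
      (H.subtype.comp e.symm.toMonoidHom) (H.subtype_injective.comp e.symm.injective) hval
      hconj hF3 S

end Cfsg.Agent.Lib.Helper16.FusPSL2
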