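import Mathlib
import Cfsg.Agent.Lib.Helper18.PSL3Invol
import Cfsg.Agent.Lib.Helper2.GLCard
import Cfsg.Agent.Lib.Helper13.GL2SylowTwo

set_option autoImplicit false

/-! Facts on `PSL(3, F)`, `|F|` odd, for the simplicity of its 2-fusion system: the 2-part of the
order, the embedding of a Sylow 2-subgroup of `GL(2, F)`, conjugacy of involutions. -/

namespace Cfsg.Agent.Lib.Helper16.FusPSL3

open Matrix Cfsg.Agent.Lib.Helper18.PSL3Invol

variable {F : Type*} [Field F]

section card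

variable [Fintype F]

theorem fact2_card_PSL3 (hodd : Odd (Fintype.card F)) :
    (Nat.card (Matrix.ProjectiveSpecialLinearGroup (Fin 3) F)).factorization 2 =
      (Nat.card (GL (Fin 2) F)).factorization 2 := by
  have hq : 2 ≤ Fintype.card F := Fintype.one_lt_card
  have h1 := Cfsg.Agent.Lib.Helper2.card_PSL_field (F := F) 3 (by norm_num)
  have h2 := Cfsg.Agent.Lib.Helper13.card_GL2_oddq (F := F)
  set q := Fintype.card F with hqdef
  simp only [Fin.prod_univ_three, Fin.val_zero, Fin.val_one, Fin.val_two, pow_zero, pow_one] at h1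
  obtain ⟨r, hr⟩ : ∃ r, q = r + 2 := ⟨q - 2, by omega⟩
  have e1 : q ^ 3 - 1 = (q - 1) * (q ^ 2 + q + 1) := by
    rw [hr]
    have : (r + 2) ^ 3 - 1 = (r + 1) * ((r + 2) ^ 2 + (r + 2) + 1) := by
      rw [Nat.sub_eq_iff_eq_add (Nat.one_le_pow _ _ (by omega))]
      ring
    rw [this]; rfl
  have e2 : q ^ 3 - q = q * (q ^ 2 - 1) := by
    rw [hr]
    have h3 : (r + 2) ^ 2 - 1 = (r + 1) * (r + 3) := by
      rw [Nat.sub_eq_iff_eq_add (Nat.one_le_pow _ _ (by omega))]
      ring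
    rw [h3, Nat.sub_eq_iff_eq_add (by nlinarith)]
    ring
  have e3 : q ^ 3 - q ^ 2 = q * (q ^ 2 - q) := by
    rw [hr]
    have h3 : (r + 2) ^ 2 - (r + 2) = (r + 2) * (r + 1) := by
      rw [Nat.sub_eq_iff_eq_add (by nlinarith)]
      ring
    rw [h3, Nat.sub_eq_iff_eq_add (by nlinarith)]
    ring
  have hq1 : 0 < q - 1 := by omega
  have key : Nat.gcd 3 (q - 1) * Nat.card (Matrix.ProjectiveSpecialLinearGroup (Fin 3) F) =
      (q ^ 2 * (q ^ 2 + q + 1)) * Nat.card (GL (Fin 2) F) := by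
    apply Nat.eq_of_mul_eq_mul_left hq1
    rw [h2]
    calc (q - 1) * (Nat.gcd 3 (q - 1) * Nat.card (Matrix.ProjectiveSpecialLinearGroup (Fin 3) F))
        = Nat.gcd 3 (q - 1) * ((q - 1) * Nat.card (Matrix.ProjectiveSpecialLinearGroup (Fin 3) F)) := by
          ring
      _ = (q ^ 3 - 1) * (q ^ 3 - q) * (q ^ 3 - q ^ 2) := h1
      _ = _ := by rw [e1, e2, e3]; ring
  have hG0 : Nat.card (Matrix.ProjectiveSpecialLinearGroup (Fin 3) F) ≠ 0 := Nat.card_pos.ne'
  have hL0 : Nat.card (GL (Fin 2) F) ≠ 0 := Nat.card_pos.ne'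
  have hg0 : Nat.gcd 3 (q - 1) ≠ 0 := by
    intro h; rw [Nat.gcd_eq_zero_iff] at h; omega
  have hgodd : ¬ 2 ∣ Nat.gcd 3 (q - 1) := by
    intro h
    have := Nat.dvd_trans h (Nat.gcd_dvd_left 3 (q - 1))
    omega
  have hc0 : q ^ 2 * (q ^ 2 + q + 1) ≠ 0 := by positivity
  have hcodd : ¬ 2 ∣ q ^ 2 * (q ^ 2 + q + 1) := by
    obtain ⟨s, hs⟩ := hodd
    rw [Nat.Prime.dvd_mul Nat.prime_two]
    rintro (h | h)
    · have := Nat.Prime.dvd_of_dvd_pow Nat.prime_two h
      omega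
    · rw [hs] at h
      have : (2 * s + 1) ^ 2 + (2 * s + 1) + 1 = 2 * (2 * s ^ 2 + 3 * s + 1) + 1 := by ring
      rw [this] at h
      omega
  have h3 := congrArg (fun n : ℕ => n.factorization 2) key
  beta_reduce at h3
  rw [Nat.factorization_mul hg0 hG0, Nat.factorization_mul hc0 hL0] at h3
  simp only [Finsupp.coe_add, Pi.add_apply] at h3
  rw [Nat.factorization_eq_zero_of_not_dvd hgodd, Nat.factorization_eq_zero_of_not_dvd hcodd,
    zero_add, zero_add] at h3
  exact h3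

end card

section inj

/-- the kernel of `psi` meets every 2-subgroup trivially -/
theorem eq_one_of_psi_eq_one (A : GL (Fin 2) F) (k : ℕ) (hA : A ^ (2 ^ k) = 1) (h : psi A = 1) :
    A = 1 := by
  have hk : A ∈ (psi : GL (Fin 2) F →* _).ker := h
  rw [psi_ker] at hk
  obtain ⟨r, hr, rfl⟩ := hk
  rw [SetLike.mem_coe, MonoidHom.mem_ker, powMonoidHom_apply] at hr
  have h3 : (sc r : GL (Fin 2) F) ^ 3 = 1 := by rw [← map_pow, hr, map_one]
  have d1 := orderOf_dvd_of_pow_eq_one h3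
  have d2 := orderOf_dvd_of_pow_eq_one hA
  have hcop : Nat.Coprime 3 (2 ^ k) := Nat.Coprime.pow_right k (by norm_num)
  exact orderOf_eq_one_iff.mp (Nat.eq_one_of_dvd_coprimes hcop d1 d2)

theorem psi_injOn (P : Subgroup (GL (Fin 2) F)) (hP : IsPGroup 2 P) :
    Function.Injective ((psi : GL (Fin 2) F →* _).comp P.subtype) := by
  rw [injective_iff_map_eq_one]
  intro a ha
  obtain ⟨k, hk⟩ := hP a
  apply Subtype.ext
  rw [Subgroup.coe_one]
  apply eq_one_of_psi_eq_one (a : GL (Fin 2) F) k _ ha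
  have := congrArg Subtype.val hk
  simpa using this

theorem range_psi_comp (P : Subgroup (GL (Fin 2) F)) :
    ((psi : GL (Fin 2) F →* _).comp P.subtype).range = P.map (psi : GL (Fin 2) F →* _) := by
  rw [MonoidHom.range_comp, Subgroup.range_subtype]

/-- the image of a 2-subgroup under `psi` is isomorphic to it -/
noncomputable def psiEquiv (P : Subgroup (GL (Fin 2) F)) (hP : IsPGroup 2 P) :
    ↥P ≃* ↥(P.map (psi : GL (Fin 2) F →* _)) :=
  (MonoidHom.ofInjective (psi_injOn P hP)).trans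
    (MulEquiv.subgroupCongr (range_psi_comp P))

theorem psiEquiv_apply (P : Subgroup (GL (Fin 2) F)) (hP : IsPGroup 2 P) (a : P) :
    ((psiEquiv P hP a : ↥(P.map (psi : GL (Fin 2) F →* _))) :
      Matrix.ProjectiveSpecialLinearGroup (Fin 3) F) = psi (a : GL (Fin 2) F) := rfl

end inj

section invol

/-- all involutions of `PSL(3, F)` are conjugate to the image of `diag(-1,-1,1)` -/
theorem exists_conj_invol (h2 : (2 : F) ≠ 0) (t : Matrix.ProjectiveSpecialLinearGroup (Fin 3) F)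
    (ht : orderOf t = 2) :
    ∃ g : Matrix.ProjectiveSpecialLinearGroup (Fin 3) F,
      g * (QuotientGroup.mk dSL : Matrix.ProjectiveSpecialLinearGroup (Fin 3) F) * g⁻¹ = t := by
  obtain ⟨T, hTt, hTT, hT1⟩ := exists_lift t ht
  obtain ⟨P, hP⟩ := exists_conj_dSL h2 T hTT hT1
  refine ⟨QuotientGroup.mk P, ?_⟩
  rw [← hTt, ← hP, QuotientGroup.mk_mul, QuotientGroup.mk_mul, QuotientGroup.mk_inv]

theorem exists_conj_of_invol (h2 : (2 : F) ≠ 0) (s t : Matrix.ProjectiveSpecialLinearGroup (Fin 3) F)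
    (hs : orderOf s = 2) (ht : orderOf t = 2) :
    ∃ g : Matrix.ProjectiveSpecialLinearGroup (Fin 3) F, g * s * g⁻¹ = t := by
  obtain ⟨a, ha⟩ := exists_conj_invol h2 s hs
  obtain ⟨b, hb⟩ := exists_conj_invol h2 t ht
  refine ⟨b * a⁻¹, ?_⟩
  rw [← ha, ← hb]; group

end invol

end Cfsg.Agent.Lib.Helper16.FusPSL3
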