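import Mathlib
import Cfsg.Agent.Lib.Helper16.FusPSL3a

set_option autoImplicit false

/-! Fusion in `PSL(3, F)`: elements with the same involution as square are conjugate
(`|F| ≡ 3 mod 4`), and the Weyl group conjugation of diagonal elements. -/

namespace Cfsg.Agent.Lib.Helper16.FusPSL3

open Matrix Cfsg.Agent.Lib.Helper18.PSL3Invol

variable {F : Type*} [Field F]

/-- the matrix `[[0,-1],[1,0]]` -/
def jGL : GL (Fin 2) F where
  val := !![0, -1; 1, 0]
  inv := !![0, 1; -1, 0]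
  val_inv := by ext i j; fin_cases i <;> fin_cases j <;> simp
  inv_val := by ext i j; fin_cases i <;> fin_cases j <;> simp

/-- if `-1` is not a square, every `M` with `M² = -1` is conjugate to `[[0,-1],[1,0]]` -/
theorem exists_conj_jGL (hns : ¬ IsSquare (-1 : F)) (M : GL (Fin 2) F)
    (hM : (M : Matrix (Fin 2) (Fin 2) F) * (M : Matrix (Fin 2) (Fin 2) F) = -1) :
    ∃ C : GL (Fin 2) F, C * jGL * C⁻¹ = M := by
  set a := (M : Matrix (Fin 2) (Fin 2) F) 0 0 with ha
  set b := (M : Matrix (Fin 2) (Fin 2) F) 0 1 with hb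
  set c := (M : Matrix (Fin 2) (Fin 2) F) 1 0 with hc
  set d := (M : Matrix (Fin 2) (Fin 2) F) 1 1 with hd
  have hMe : (M : Matrix (Fin 2) (Fin 2) F) = !![a, b; c, d] := Matrix.eta_fin_two _
  have h00 : a * a + b * c = -1 := by
    have := congrFun (congrFun hM 0) 0
    rw [hMe] at this
    simpa [Matrix.mul_apply, Fin.sum_univ_two] using this
  have h10 : c * a + d * c = 0 := by
    have := congrFun (congrFun hM 1) 0
    rw [hMe] at this
    simpa [Matrix.mul_apply, Fin.sum_univ_two] using this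
  have hc0 : c ≠ 0 := by
    intro h0
    apply hns
    refine ⟨a, ?_⟩
    rw [← h00, h0, mul_zero, add_zero]
  have hda : d = -a := by
    have : c * (a + d) = 0 := by linear_combination h10
    rcases mul_eq_zero.mp this with h | h
    · exact absurd h hc0
    · linear_combination h
  have hdet : (!![1, a; 0, c] : Matrix (Fin 2) (Fin 2) F).det ≠ 0 := by
    rw [Matrix.det_fin_two_of]
    simpa using hc0
  refine ⟨Matrix.GeneralLinearGroup.mkOfDetNeZero _ hdet, ?_⟩
  have key : Matrix.GeneralLinearGroup.mkOfDetNeZero _ hdet * jGL =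
      M * Matrix.GeneralLinearGroup.mkOfDetNeZero _ hdet := by
    apply Units.ext
    show (!![1, a; 0, c] : Matrix (Fin 2) (Fin 2) F) * !![0, -1; 1, 0] =
      (M : Matrix (Fin 2) (Fin 2) F) * !![1, a; 0, c]
    rw [hMe]
    ext i j
    fin_cases i <;> fin_cases j
    · simp [Matrix.mul_apply, Fin.sum_univ_two]
    · simp [Matrix.mul_apply, Fin.sum_univ_two]
      linear_combination -h00
    · simp [Matrix.mul_apply, Fin.sum_univ_two]
    · simp [Matrix.mul_apply, Fin.sum_univ_two]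
      linear_combination -h10
  rw [key]; group

theorem sc_comm (r : Fˣ) (A : GL (Fin 2) F) : sc r * A = A * sc r := by
  apply Units.ext
  rw [Units.val_mul, Units.val_mul, sc_val]
  exact (Matrix.scalar_commute (r : F) (fun r' => Commute.all _ r')
    (A : Matrix (Fin 2) (Fin 2) F)).eq

theorem psi_sc_neg_one :
    psi (sc (-1 : Fˣ)) =
      (QuotientGroup.mk dSL : Matrix.ProjectiveSpecialLinearGroup (Fin 3) F) := by
  rw [psi_apply]
  congr 1
  apply Subtype.ext
  rw [emb_val, sc_val]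
  show _ = dMat
  ext i j
  fin_cases i <;> fin_cases j <;> simp [embMat, dMat, Matrix.det_fin_two]

/-- a square root of the image of `diag(-1,-1,1)` comes from a matrix with square `-1` -/
theorem exists_lift_sq (h2 : (2 : F) ≠ 0) (w : Matrix.ProjectiveSpecialLinearGroup (Fin 3) F)
    (hw : w * w = (QuotientGroup.mk dSL : Matrix.ProjectiveSpecialLinearGroup (Fin 3) F)) :
    ∃ A : GL (Fin 2) F, psi A = w ∧
      (A : Matrix (Fin 2) (Fin 2) F) * (A : Matrix (Fin 2) (Fin 2) F) = -1 := by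
  have hmem : w ∈ (psi : GL (Fin 2) F →* _).range := by
    rw [psi_range h2, Subgroup.mem_centralizer_iff]
    intro y hy
    rw [Set.mem_singleton_iff] at hy
    subst hy
    rw [← hw, mul_assoc]
  obtain ⟨A₀, rfl⟩ := hmem
  have hker : A₀ * A₀ * (sc (-1 : Fˣ))⁻¹ ∈ (psi : GL (Fin 2) F →* _).ker := by
    rw [MonoidHom.mem_ker, map_mul, map_mul, map_inv, psi_sc_neg_one, hw, mul_inv_cancel]
  rw [psi_ker] at hker
  obtain ⟨r, hr, hr2⟩ := hker
  rw [SetLike.mem_coe, MonoidHom.mem_ker, powMonoidHom_apply] at hr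
  have hAA : A₀ * A₀ = sc r * sc (-1 : Fˣ) := by
    rw [hr2]; group
  have hpsir : psi (sc r) = 1 := by
    have : sc r ∈ (psi : GL (Fin 2) F →* _).ker := by
      rw [psi_ker]
      exact ⟨r, by rw [SetLike.mem_coe, MonoidHom.mem_ker, powMonoidHom_apply]; exact hr, rfl⟩
    exact this
  refine ⟨A₀ * sc r, by rw [map_mul, hpsir, mul_one], ?_⟩
  have h1 : (A₀ * sc r) * (A₀ * sc r) = sc (-1 : Fˣ) := by
    calc (A₀ * sc r) * (A₀ * sc r) = A₀ * (sc r * A₀) * sc r := by group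
      _ = A₀ * (A₀ * sc r) * sc r := by rw [sc_comm]
      _ = (A₀ * A₀) * (sc r * sc r) := by group
      _ = sc (r * (-1) * (r * r)) := by rw [hAA, ← map_mul, ← map_mul, ← map_mul]
      _ = sc (-1 : Fˣ) := by
          congr 1
          have : r * (-1) * (r * r) = -(r ^ 3) := by
            apply Units.ext
            simp only [Units.val_mul, Units.val_neg, Units.val_one, Units.val_pow_eq_pow_val]
            ring
          rw [this, hr]
  have h3 := congrArg (fun X : GL (Fin 2) F => (X : Matrix (Fin 2) (Fin 2) F)) h1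
  beta_reduce at h3
  rw [Units.val_mul, sc_val] at h3
  rw [h3]
  ext i j
  fin_cases i <;> fin_cases j <;> simp [Matrix.scalar_apply]

/-- for `|F| ≡ 3 mod 4`, two elements of `PSL(3, F)` with the same involution as square are
conjugate -/
theorem exists_conj_of_sq_eq [Fintype F] (hq : Fintype.card F % 4 = 3)
    (u v : Matrix.ProjectiveSpecialLinearGroup (Fin 3) F) (huv : u * u = v * v)
    (ho : orderOf (u * u) = 2) :
    ∃ g : Matrix.ProjectiveSpecialLinearGroup (Fin 3) F, g * u * g⁻¹ = v := by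
  have hodd : Odd (Fintype.card F) := by rw [Nat.odd_iff]; omega
  have h2 : (2 : F) ≠ 0 := two_ne_zero_of_odd_card hodd
  have hns : ¬ IsSquare (-1 : F) := by
    rw [FiniteField.isSquare_neg_one_iff]
    omega
  obtain ⟨g₀, hg₀⟩ := exists_conj_invol h2 (u * u) ho
  have hu' : (g₀⁻¹ * u * g₀) * (g₀⁻¹ * u * g₀) =
      (QuotientGroup.mk dSL : Matrix.ProjectiveSpecialLinearGroup (Fin 3) F) := by
    calc (g₀⁻¹ * u * g₀) * (g₀⁻¹ * u * g₀) = g₀⁻¹ * (u * u) * g₀ := by group
      _ = _ := by rw [← hg₀]; group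
  have hv' : (g₀⁻¹ * v * g₀) * (g₀⁻¹ * v * g₀) =
      (QuotientGroup.mk dSL : Matrix.ProjectiveSpecialLinearGroup (Fin 3) F) := by
    calc (g₀⁻¹ * v * g₀) * (g₀⁻¹ * v * g₀) = g₀⁻¹ * (v * v) * g₀ := by group
      _ = _ := by rw [← huv, ← hg₀]; group
  obtain ⟨A, hA, hAA⟩ := exists_lift_sq h2 _ hu'
  obtain ⟨B, hB, hBB⟩ := exists_lift_sq h2 _ hv'
  obtain ⟨C, hC⟩ := exists_conj_jGL hns A hAA
  obtain ⟨D, hD⟩ := exists_conj_jGL hns B hBB
  have hAB : (D * C⁻¹) * A * (D * C⁻¹)⁻¹ = B := by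
    rw [← hC, ← hD]; group
  have h3 := congrArg (psi : GL (Fin 2) F →* _) hAB
  rw [map_mul, map_mul, map_inv, hA, hB] at h3
  refine ⟨g₀ * psi (D * C⁻¹) * g₀⁻¹, ?_⟩
  calc g₀ * psi (D * C⁻¹) * g₀⁻¹ * u * (g₀ * psi (D * C⁻¹) * g₀⁻¹)⁻¹
      = g₀ * (psi (D * C⁻¹) * (g₀⁻¹ * u * g₀) * (psi (D * C⁻¹))⁻¹) * g₀⁻¹ := by group
    _ = g₀ * (g₀⁻¹ * v * g₀) * g₀⁻¹ := by rw [h3]
    _ = v := by group

/-- the diagonal matrix `diag(a, b)` -/
def dg (a b : Fˣ) : GL (Fin 2) F where
  val := !![(a : F), 0; 0, (b : F)]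
  inv := !![((a⁻¹ : Fˣ) : F), 0; 0, ((b⁻¹ : Fˣ) : F)]
  val_inv := by ext i j; fin_cases i <;> fin_cases j <;> simp
  inv_val := by ext i j; fin_cases i <;> fin_cases j <;> simp

theorem dg_val (a b : Fˣ) :
    ((dg a b : GL (Fin 2) F) : Matrix (Fin 2) (Fin 2) F) = !![(a : F), 0; 0, (b : F)] := rfl

theorem dg_mul (a b c d : Fˣ) : dg a b * dg c d = dg (a * c) (b * d) := by
  apply Units.ext
  rw [Units.val_mul, dg_val, dg_val, dg_val]
  ext i j; fin_cases i <;> fin_cases j <;> simp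

theorem dg_one : dg (1 : Fˣ) 1 = 1 := by
  apply Units.ext
  rw [dg_val]
  ext i j; fin_cases i <;> fin_cases j <;> simp

/-- the cyclic permutation matrix in `SL(3, F)` -/
def wSL : SpecialLinearGroup (Fin 3) F :=
  ⟨!![0, 0, 1; 1, 0, 0; 0, 1, 0], by simp [Matrix.det_fin_three]⟩

theorem weyl_conj (c : Fˣ) :
    (QuotientGroup.mk wSL : Matrix.ProjectiveSpecialLinearGroup (Fin 3) F) * psi (dg c c⁻¹) *
      (QuotientGroup.mk wSL)⁻¹ = psi (dg 1 c) := by
  have key : wSL * emb (dg c c⁻¹) = emb (dg 1 c) * wSL := by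
    apply Subtype.ext
    show (!![0, 0, 1; 1, 0, 0; 0, 1, 0] : Matrix (Fin 3) (Fin 3) F) * (emb (dg c c⁻¹)).1 =
      (emb (dg 1 c)).1 * !![0, 0, 1; 1, 0, 0; 0, 1, 0]
    rw [emb_val, emb_val, dg_val, dg_val]
    ext i j
    fin_cases i <;> fin_cases j <;>
      simp [embMat, Matrix.mul_apply, Fin.sum_univ_three, Matrix.det_fin_two]
  rw [psi_apply, psi_apply, ← QuotientGroup.mk_mul, key, QuotientGroup.mk_mul]
  group

end Cfsg.Agent.Lib.Helper16.FusPSL3
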