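import Mathlib
import Cfsg.Agent.Lib.Helper16.FusPSL3b
import Cfsg.Agent.Lib.Helper16.FusCrit
import Cfsg.Agent.Lib.Helper18.QuasiDihedral
import Cfsg.Agent.S1217
import Cfsg.Agent.S3116

set_option autoImplicit false

/-! The 2-fusion system of `PSL(3, F)`, `|F| ≡ 3 mod 4`, is simple. -/

namespace Cfsg.Agent.Lib.Helper16.FusPSL3

open Matrix Cfsg Cfsg.Agent.Lib.Helper18.PSL3Invol Cfsg.Agent.Lib.Helper18
  Cfsg.Agent.Lib.Helper3.Fus Cfsg.Agent.Lib.Helper16.FusCrit

variable {F : Type*} [Field F] [Fintype F]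

theorem card_map_psi (hodd : Odd (Fintype.card F)) (P : Sylow 2 (GL (Fin 2) F)) :
    Nat.card ((P : Subgroup (GL (Fin 2) F)).map (psi : GL (Fin 2) F →* _)) =
      2 ^ (Nat.card (Matrix.ProjectiveSpecialLinearGroup (Fin 3) F)).factorization 2 := by
  rw [← Nat.card_congr (psiEquiv (P : Subgroup (GL (Fin 2) F)) P.2).toEquiv,
    Sylow.card_eq_multiplicity, fact2_card_PSL3 hodd]

theorem main_qd (hq : Fintype.card F % 4 = 3)
    (S : Sylow 2 (Matrix.ProjectiveSpecialLinearGroup (Fin 3) F)) :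
    (groupFusionSystem (S : Subgroup (Matrix.ProjectiveSpecialLinearGroup (Fin 3) F))).IsSimple 2 := by
  classical
  have hodd : Odd (Fintype.card F) := by rw [Nat.odd_iff]; omega
  have h2F : (2 : F) ≠ 0 := two_ne_zero_of_odd_card hodd
  obtain ⟨P⟩ := (inferInstance : Nonempty (Sylow 2 (GL (Fin 2) F)))
  have hQD := (Cfsg.Agent.S1217.result P).1 hq
  obtain ⟨m, x, y, h⟩ := exists_isQD hQD
  have hPp : IsPGroup 2 ↥(P : Subgroup (GL (Fin 2) F)) := P.2
  have hinj := psi_injOn (P : Subgroup (GL (Fin 2) F)) hPp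
  set f : ↥(P : Subgroup (GL (Fin 2) F)) →* Matrix.ProjectiveSpecialLinearGroup (Fin 3) F :=
    (psi : GL (Fin 2) F →* _).comp (P : Subgroup (GL (Fin 2) F)).subtype with hf
  set S₀ := (P : Subgroup (GL (Fin 2) F)).map (psi : GL (Fin 2) F →* _) with hS₀
  have hfS₀ : ∀ a, f a ∈ S₀ := fun a => ⟨a, a.2, rfl⟩
  have hford : ∀ a, orderOf (f a) = orderOf a := fun a => orderOf_injective f hinj a
  have hS₀p : IsPGroup 2 S₀ := hPp.map _
  have hcard := card_map_psi hodd P
  apply isSimple_of_subgroup_aut S₀ hcard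
  · intro hbot
    have h1 : Nat.card S₀ = 1 := by rw [hbot]; exact Subgroup.card_bot
    rw [← Nat.card_congr (psiEquiv (P : Subgroup (GL (Fin 2) F)) hPp).toEquiv, h.card] at h1
    have : 2 ^ 1 ≤ 2 ^ (m + 4) := Nat.pow_le_pow_right (by norm_num) (by omega)
    omega
  · exact (Cfsg.Agent.S3116.result hPp (Or.inr hQD)).of_equiv
      (MulAut.congr (psiEquiv (P : Subgroup (GL (Fin 2) F)) hPp))
  · intro T hTS hT hcl
    have hinv := invol_mem_of_fclosed S₀ T hS₀p hTS hT hcl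
      (fun s t hs ht => exists_conj_of_invol h2F s t hs ht)
    have hy : f y ∈ T := hinv _ (hfS₀ y) (by rw [hford, h.hy])
    have hx2y : f (x ^ 2 * y) ∈ T := hinv _ (hfS₀ _) (by
      rw [hford]
      have := h.orderOf_xy_even 1
      rwa [mul_one] at this)
    have hx2 : f (x ^ 2) ∈ T := by
      have e : f (x ^ 2) = f (x ^ 2 * y) * (f y)⁻¹ := by
        rw [map_mul]; group
      rw [e]; exact T.mul_mem hx2y (T.inv_mem hy)
    have hv : f (x ^ (2 ^ (m + 1))) ∈ T := by
      have e : x ^ (2 ^ (m + 1)) = (x ^ 2) ^ (2 ^ m) := by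
        rw [← pow_mul]; congr 1; ring
      rw [e, map_pow]
      exact T.pow_mem hx2 _
    have hxy : f (x * y) ∈ T := by
      obtain ⟨g, hg⟩ := exists_conj_of_sq_eq hq (f (x ^ (2 ^ (m + 1)))) (f (x * y)) (by
          rw [← map_mul, ← map_mul, h.xy_mul_self, ← pow_two, h.v_sq]) (by
          rw [← map_mul, hford, ← pow_two, h.v_sq, h.z_orderOf])
      have := hcl _ hv g (by rw [hg]; exact hfS₀ _)
      rwa [hg] at this
    have hx : f x ∈ T := by
      have e : f x = f (x * y) * (f y)⁻¹ := by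
        rw [map_mul]; group
      rw [e]; exact T.mul_mem hxy (T.inv_mem hy)
    apply le_antisymm hTS
    rintro _ ⟨a, ha, rfl⟩
    obtain ⟨i, hi | hi⟩ := h.cover ⟨a, ha⟩
    · have e : psi a = f (x ^ i) := by rw [← hi]; rfl
      rw [e, map_pow]; exact T.pow_mem hx i
    · have e : psi a = f (x ^ i * y) := by rw [← hi]; rfl
      rw [e, map_mul, map_pow]; exact T.mul_mem (T.pow_mem hx i) hy

end Cfsg.Agent.Lib.Helper16.FusPSL3
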