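import Mathlib
import Cfsg.Agent.Lib.Helper16.FusPSL3c
import Cfsg.Agent.Lib.Helper18.WreathedInvol
import Cfsg.Agent.Lib.Helper13.PSL2Spectrum
import Cfsg.Agent.S1202

set_option autoImplicit false

/-! The 2-fusion system of `PSL(3, F)`, `|F| ≡ 1 mod 4`, is simple. -/

namespace Cfsg.Agent.Lib.Helper16.FusPSL3

open Matrix Cfsg Cfsg.Agent.Lib.Helper18.PSL3Invol Cfsg.Agent.Lib.Helper18
  Cfsg.Agent.Lib.Helper3.Fus Cfsg.Agent.Lib.Helper16.FusCrit

/-- the automorphism group of a wreathed 2-group is a 2-group -/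
theorem isPGroup_mulAut_of_isWreathed {W : Type*} [Group W] [Finite W] (hW : Cfsg.IsWreathed W) :
    IsPGroup 2 (MulAut W) := by
  obtain ⟨n, -, hcard, -⟩ := id hW
  by_contra hA
  have hA' : ¬ IsPGroup 2 (MulAut (⊤ : Subgroup W)) := fun h =>
    hA (h.of_equiv (MulAut.congr Subgroup.topEquiv))
  have := (Cfsg.Agent.S1202.result hW n hcard ⊤ le_top hA').1
  rw [Subgroup.relIndex_top_left] at this
  omega

variable {F : Type*} [Field F]

theorem dg_inv (a b : Fˣ) : (dg a b)⁻¹ = dg a⁻¹ b⁻¹ := by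
  apply inv_eq_of_mul_eq_one_right
  rw [dg_mul, mul_inv_cancel, mul_inv_cancel, dg_one]

/-- `a ↦ diag(a, 1)` -/
def dgL : Fˣ →* GL (Fin 2) F where
  toFun a := dg a 1
  map_one' := dg_one
  map_mul' a b := by rw [dg_mul, mul_one]

/-- `a ↦ diag(1, a)` -/
def dgR : Fˣ →* GL (Fin 2) F where
  toFun a := dg 1 a
  map_one' := dg_one
  map_mul' a b := by rw [dg_mul, mul_one]

theorem dgL_injective : Function.Injective (dgL : Fˣ →* GL (Fin 2) F) := by
  intro a b h
  have := congrArg (fun A : GL (Fin 2) F => (A : Matrix (Fin 2) (Fin 2) F) 0 0) h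
  apply Units.ext
  simpa [dgL, dg_val] using this

theorem swap_conj (a : Fˣ) :
    (Cfsg.Agent.Lib.Helper13.swapGL : GL (Fin 2) F) * dg a 1 *
      (Cfsg.Agent.Lib.Helper13.swapGL)⁻¹ = dg 1 a := by
  have h1 : (Cfsg.Agent.Lib.Helper13.swapGL : GL (Fin 2) F)⁻¹ =
      Cfsg.Agent.Lib.Helper13.swapGL :=
    inv_eq_of_mul_eq_one_right Cfsg.Agent.Lib.Helper13.swapGL_mul_self
  rw [h1]
  apply Units.ext
  show (!![0, 1; 1, 0] : Matrix (Fin 2) (Fin 2) F) * !![(a : F), 0; 0, ((1 : Fˣ) : F)] *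
    !![0, 1; 1, 0] = !![((1 : Fˣ) : F), 0; 0, (a : F)]
  ext i j; fin_cases i <;> fin_cases j <;> simp

variable [Fintype F]

theorem main_wr (hq : Fintype.card F % 4 = 1)
    (S : Sylow 2 (Matrix.ProjectiveSpecialLinearGroup (Fin 3) F)) :
    (groupFusionSystem (S : Subgroup (Matrix.ProjectiveSpecialLinearGroup (Fin 3) F))).IsSimple 2 := by
  classical
  have hq2 : 2 ≤ Fintype.card F := Fintype.one_lt_card
  have hodd : Odd (Fintype.card F) := by rw [Nat.odd_iff]; omega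
  have h2F : (2 : F) ≠ 0 := two_ne_zero_of_odd_card hodd
  set n := (Fintype.card F - 1).factorization 2 with hn
  have hn2 : 2 ≤ n :=
    Cfsg.Agent.Lib.Helper13.two_le_fact_two_of_four_dvd (Fintype.card F - 1) (by omega) (by omega)
  obtain ⟨m, hm⟩ : ∃ m, n = m + 2 := ⟨n - 2, by omega⟩
  -- an element of order `2^n` in `Fˣ`
  obtain ⟨g, hg⟩ := IsCyclic.exists_generator (α := Fˣ)
  have hgo : orderOf g = Fintype.card F - 1 := by
    rw [orderOf_eq_card_of_forall_mem_zpowers hg, Nat.card_eq_fintype_card, Fintype.card_units]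
  obtain ⟨a, ha⟩ := Cfsg.Agent.Lib.Helper13.exists_orderOf_eq_of_dvd g (2 ^ n)
    (by rw [hgo]; exact Nat.ordProj_dvd _ 2) (by rw [hgo]; omega)
  set X : GL (Fin 2) F := dg a 1 with hX
  set Y : GL (Fin 2) F := dg 1 a with hY
  set Z : GL (Fin 2) F := Cfsg.Agent.Lib.Helper13.swapGL with hZ
  have hoX : orderOf X = 2 ^ n := by
    have := orderOf_injective (dgL : Fˣ →* GL (Fin 2) F) dgL_injective a
    rw [ha] at this
    exact this
  have hoZ : orderOf Z = 2 := Cfsg.Agent.Lib.Helper13.orderOf_swapGL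
  have hrel : Z * X * Z⁻¹ = Y := swap_conj a
  have hoY : orderOf Y = 2 ^ n := by
    rw [← hrel, Cfsg.Agent.Lib.Helper13.orderOf_conj', hoX]
  have hXY : X * Y = Y * X := by
    rw [hX, hY, dg_mul, dg_mul, mul_one, one_mul]
  have hZZ : Z * Z = 1 := Cfsg.Agent.Lib.Helper13.swapGL_mul_self
  have hZinv : Z⁻¹ = Z := inv_eq_of_mul_eq_one_right hZZ
  have hrel' : Z * Y * Z⁻¹ = X := by
    rw [← hrel, hZinv]
    calc Z * (Z * X * Z) * Z = (Z * Z) * X * (Z * Z) := by group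
      _ = X := by rw [hZZ, one_mul, mul_one]
  -- a Sylow 2-subgroup containing `X`, `Y`, `Z`
  have hD : IsPGroup 2 (Subgroup.zpowers X ⊔ Subgroup.zpowers Y : Subgroup (GL (Fin 2) F)) := by
    apply IsPGroup.to_sup_of_normal_right'
    · exact Cfsg.Agent.Lib.Helper13.isPGroup_zpowers_of_orderOf 2 n X hoX
    · exact Cfsg.Agent.Lib.Helper13.isPGroup_zpowers_of_orderOf 2 n Y hoY
    · apply Cfsg.Agent.Lib.Helper13.zpowers_le_normalizer_of_conj Y X 1
      rw [pow_one]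
      calc X * Y * X⁻¹ = (Y * X) * X⁻¹ := by rw [hXY]
        _ = Y := by group
  have hznorm : Subgroup.zpowers Z ≤ Subgroup.normalizer
      ((Subgroup.zpowers X ⊔ Subgroup.zpowers Y : Subgroup (GL (Fin 2) F)) : Set (GL (Fin 2) F)) := by
    rw [Subgroup.zpowers_le, Subgroup.mem_normalizer_iff_map_conj_eq]
    change (Subgroup.zpowers X ⊔ Subgroup.zpowers Y).map (MulAut.conj Z).toMonoidHom = _
    rw [Subgroup.map_sup, MonoidHom.map_zpowers, MonoidHom.map_zpowers]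
    have e1 : (MulAut.conj Z).toMonoidHom X = Y := hrel
    have e2 : (MulAut.conj Z).toMonoidHom Y = X := hrel'
    rw [e1, e2, sup_comm]
  have hQ : IsPGroup 2 (Subgroup.zpowers Z ⊔ (Subgroup.zpowers X ⊔ Subgroup.zpowers Y) :
      Subgroup (GL (Fin 2) F)) := by
    apply IsPGroup.to_sup_of_normal_right'
    · exact Cfsg.Agent.Lib.Helper13.isPGroup_zpowers_of_orderOf 2 1 Z (by rw [hoZ, pow_one])
    · exact hD
    · exact hznorm
  obtain ⟨P, hP⟩ := hQ.exists_le_sylow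
  have hXP : X ∈ (P : Subgroup (GL (Fin 2) F)) :=
    hP ((le_sup_right : (Subgroup.zpowers X ⊔ Subgroup.zpowers Y) ≤ _)
      ((le_sup_left : Subgroup.zpowers X ≤ _) (Subgroup.mem_zpowers X)))
  have hYP : Y ∈ (P : Subgroup (GL (Fin 2) F)) :=
    hP ((le_sup_right : (Subgroup.zpowers X ⊔ Subgroup.zpowers Y) ≤ _)
      ((le_sup_right : Subgroup.zpowers Y ≤ _) (Subgroup.mem_zpowers Y)))
  have hZP : Z ∈ (P : Subgroup (GL (Fin 2) F)) :=
    hP ((le_sup_left : Subgroup.zpowers Z ≤ _) (Subgroup.mem_zpowers Z))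
  have hcardP : Nat.card (P : Subgroup (GL (Fin 2) F)) = 2 ^ (2 * (m + 2) + 1) := by
    rw [Cfsg.Agent.Lib.Helper13.card_sylow_two_GL2 hodd P,
      Cfsg.Agent.Lib.Helper13.fact_two_of_mod_four_eq_two (Fintype.card F + 1) (by omega), ← hn, hm]
  have h : IsWr ↥(P : Subgroup (GL (Fin 2) F)) m ⟨X, hXP⟩ ⟨Y, hYP⟩ ⟨Z, hZP⟩ := by
    refine ⟨hcardP, ?_, ?_, ?_, ?_, ?_⟩
    · rw [Subgroup.orderOf_mk, hoX, hm]
    · exact Subtype.ext hXY
    · rw [eq_bot_iff]
      rintro ⟨w, hwP⟩ hw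
      obtain ⟨hw1, hw2⟩ := Subgroup.mem_inf.mp hw
      obtain ⟨i, hi⟩ := Subgroup.mem_zpowers_iff.mp hw1
      obtain ⟨j, hj⟩ := Subgroup.mem_zpowers_iff.mp hw2
      have hi' : X ^ i = w := by
        have := congrArg Subtype.val hi
        simpa using this
      have hj' : Y ^ j = w := by
        have := congrArg Subtype.val hj
        simpa using this
      have e1 : X ^ i = dg (a ^ i) 1 := (map_zpow (dgL : Fˣ →* GL (Fin 2) F) a i).symm
      have e2 : Y ^ j = dg 1 (a ^ j) := (map_zpow (dgR : Fˣ →* GL (Fin 2) F) a j).symm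
      have h3 : dg (a ^ i) 1 = dg 1 (a ^ j) := by rw [← e1, ← e2, hi', hj']
      have h4 := congrArg (fun A : GL (Fin 2) F => (A : Matrix (Fin 2) (Fin 2) F) 0 0) h3
      have h5 : a ^ i = 1 := by
        apply Units.ext
        simpa [dg_val] using h4
      rw [Subgroup.mem_bot]
      apply Subtype.ext
      show w = 1
      rw [← hi', e1, h5, dg_one]
    · rw [Subgroup.orderOf_mk, hoZ]
    · exact Subtype.ext hrel
  have hW : Cfsg.IsWreathed ↥(P : Subgroup (GL (Fin 2) F)) := h.isWreathed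
  have hPp : IsPGroup 2 ↥(P : Subgroup (GL (Fin 2) F)) := P.2
  have hinj := psi_injOn (P : Subgroup (GL (Fin 2) F)) hPp
  set f : ↥(P : Subgroup (GL (Fin 2) F)) →* Matrix.ProjectiveSpecialLinearGroup (Fin 3) F :=
    (psi : GL (Fin 2) F →* _).comp (P : Subgroup (GL (Fin 2) F)).subtype with hf
  set S₀ := (P : Subgroup (GL (Fin 2) F)).map (psi : GL (Fin 2) F →* _) with hS₀
  have hfS₀ : ∀ b, f b ∈ S₀ := fun b => ⟨b, b.2, rfl⟩
  have hford : ∀ b, orderOf (f b) = orderOf b := fun b => orderOf_injective f hinj b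
  have hS₀p : IsPGroup 2 S₀ := hPp.map _
  have hcard := card_map_psi hodd P
  set x : ↥(P : Subgroup (GL (Fin 2) F)) := ⟨X, hXP⟩ with hx
  set y : ↥(P : Subgroup (GL (Fin 2) F)) := ⟨Y, hYP⟩ with hy
  set z : ↥(P : Subgroup (GL (Fin 2) F)) := ⟨Z, hZP⟩ with hz
  apply isSimple_of_subgroup_aut S₀ hcard
  · intro hbot
    have h1 : Nat.card S₀ = 1 := by rw [hbot]; exact Subgroup.card_bot
    rw [← Nat.card_congr (psiEquiv (P : Subgroup (GL (Fin 2) F)) hPp).toEquiv, hcardP] at h1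
    have : 2 ^ 1 ≤ 2 ^ (2 * (m + 2) + 1) := Nat.pow_le_pow_right (by norm_num) (by omega)
    omega
  · haveI : Finite ↥(P : Subgroup (GL (Fin 2) F)) := inferInstance
    exact (isPGroup_mulAut_of_isWreathed hW).of_equiv
      (MulAut.congr (psiEquiv (P : Subgroup (GL (Fin 2) F)) hPp))
  · intro T hTS hT hcl
    have hinv := invol_mem_of_fclosed S₀ T hS₀p hTS hT hcl
      (fun s t hs ht => exists_conj_of_invol h2F s t hs ht)
    have hzT : f z ∈ T := hinv _ (hfS₀ z) (by rw [hford, h.hz])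
    have hczT : f (x * y⁻¹ * z) ∈ T := hinv _ (hfS₀ _) (by
      rw [hford]
      have := h.cz_orderOf 1
      rwa [zpow_one] at this)
    have hcT : f (x * y⁻¹) ∈ T := by
      have e : f (x * y⁻¹) = f (x * y⁻¹ * z) * (f z)⁻¹ := by
        rw [map_mul (f := f) (x * y⁻¹) z]; group
      rw [e]; exact T.mul_mem hczT (T.inv_mem hzT)
    have hyT : f y ∈ T := by
      have e1 : f (x * y⁻¹) = psi (dg a a⁻¹) := by
        show psi (X * Y⁻¹) = _
        rw [hX, hY, dg_inv, dg_mul, inv_one, mul_one, one_mul]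
      have e2 : f y = psi (dg 1 a) := rfl
      have := hcl _ hcT (QuotientGroup.mk wSL) (by
        rw [e1, weyl_conj, ← e2]; exact hfS₀ y)
      rwa [e1, weyl_conj, ← e2] at this
    have hxT : f x ∈ T := by
      have e : f x = f z * f y * (f z)⁻¹ := by
        rw [← map_inv, ← map_mul, ← map_mul, h.rel_y]
      rw [e]; exact T.mul_mem (T.mul_mem hzT hyT) (T.inv_mem hzT)
    apply le_antisymm hTS
    rintro _ ⟨b, hb, rfl⟩
    obtain ⟨i, j, hi | hi⟩ := h.cover ⟨b, hb⟩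
    · have e : psi b = f (x ^ i * y ^ j) := by rw [← hi]; rfl
      rw [e, map_mul, map_zpow, map_zpow]
      exact T.mul_mem (T.zpow_mem hxT i) (T.zpow_mem hyT j)
    · have e : psi b = f (x ^ i * y ^ j * z) := by rw [← hi]; rfl
      rw [e, map_mul, map_mul, map_zpow, map_zpow]
      exact T.mul_mem (T.mul_mem (T.zpow_mem hxT i) (T.zpow_mem hyT j)) hzT

end Cfsg.Agent.Lib.Helper16.FusPSL3
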