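import Mathlib
import Cfsg.Agent.Lib.Helper16.FusPSLnA
import Cfsg.Agent.Lib.Helper16.FusGen
import Cfsg.Agent.Lib.Helper18.PSLnRoot
import Cfsg.Agent.Lib.Helper10.PGroupBasic

set_option autoImplicit false

/-! The `p`-fusion system of `PSL_n(F)`, `F` finite of characteristic `p`, `n ≥ 3`, is simple. -/

namespace Cfsg.Agent.Lib.Helper16.FusPSLn

open Matrix Cfsg Cfsg.FusionSystem Cfsg.Agent.Lib.Helper18.PSLnAut
  Cfsg.Agent.Lib.Helper25 Cfsg.Agent.Lib.Helper25.SLRoot
  Cfsg.Agent.Lib.Helper16.FusGen Cfsg.Agent.Lib.Helper3.Fus Cfsg.Agent.Lib.Helper26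

variable {n : ℕ} {F : Type*} [Field F] [Fintype F]

/-- the image of `Qs` in `PSL_n` -/
def Qb (i j : Fin n) (hij : i.val + 1 = j.val) :
    Subgroup (ProjectiveSpecialLinearGroup (Fin n) F) :=
  (Qs i j hij).map pi

theorem Qb_le (i j : Fin n) (hij : i.val + 1 = j.val) : Qb (F := F) i j hij ≤ Ub n F :=
  Subgroup.map_mono (Qs_le i j hij)

omit [Fintype F] in
theorem transvection_pow {i j : Fin n} (hij : i ≠ j) (c : F) (k : ℕ) :
    (SpecialLinearGroup.transvection hij c) ^ k = SpecialLinearGroup.transvection hij (k • c) := by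
  induction k with
  | zero => rw [pow_zero, zero_smul, SpecialLinearGroup.transvection_coeff_zero]
  | succ k ih => rw [pow_succ, ih, ← SpecialLinearGroup.transvection_add, succ_nsmul]

section main

variable (p : ℕ) [Fact p.Prime] [CharP F p]

include p in
/-- images of elementary matrices are `p`-elements -/
theorem exists_orderOf_pi_transvection {i j : Fin n} (hij : i ≠ j) (c : F) :
    ∃ k : ℕ, orderOf (pi (SpecialLinearGroup.transvection hij c)) = p ^ k := by
  have hp : p.Prime := Fact.out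
  have h1 : (pi (SpecialLinearGroup.transvection hij c)) ^ p = 1 := by
    rw [← map_pow, transvection_pow, nsmul_eq_mul, CharP.cast_eq_zero, zero_mul,
      SpecialLinearGroup.transvection_coeff_zero, map_one]
  have h2 := orderOf_dvd_of_pow_eq_one h1
  rcases (Nat.dvd_prime hp).mp h2 with h | h
  · exact ⟨0, by rw [h, pow_zero]⟩
  · exact ⟨1, by rw [h, pow_one]⟩

include p in
/-- an element of `SL_n` whose image normalizes `Ub` normalizes the unitriangular subgroup -/
theorem normalizes_of_pi_mem_normalizer (hn : 1 ≤ n) (s : SpecialLinearGroup (Fin n) F)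
    (hs : pi s ∈ Subgroup.normalizer ((Ub n F : Subgroup _) : Set _)) :
    ∀ u ∈ unitri n F, s⁻¹ * u * s ∈ unitri n F := by
  intro u hu
  have hs' : (pi s)⁻¹ ∈ Subgroup.normalizer ((Ub n F : Subgroup _) : Set _) := Subgroup.inv_mem _ hs
  have h1 : (pi s)⁻¹ * pi u * ((pi s)⁻¹)⁻¹ ∈ Ub n F :=
    (Subgroup.mem_normalizer_iff.mp hs' (pi u)).mp ⟨u, hu, rfl⟩
  rw [inv_inv, ← map_inv, ← map_mul, ← map_mul] at h1
  obtain ⟨u', hu', hpi⟩ := h1
  rw [pi_eq_iff] at hpi
  obtain ⟨r, -, hr⟩ := hpi
  have h2 : ((s⁻¹ * u * s⁻¹⁻¹ : SpecialLinearGroup (Fin n) F) : Matrix (Fin n) (Fin n) F) =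
      r • (u' : Matrix (Fin n) (Fin n) F) := by
    rw [inv_inv]; exact hr
  have hr1 := scalar_eq_one_of_conj p hn s⁻¹ u u' hu hu' r h2
  rw [hr1, one_smul] at hr
  have : s⁻¹ * u * s = u' := Subtype.ext hr
  rw [this]
  exact hu'

/-- the image of a unitriangular matrix lies in `GenSet` -/
theorem pi_unitri_mem_genSet (hn : 1 ≤ n) {u : SpecialLinearGroup (Fin n) F} (hu : u ∈ unitri n F) :
    pi u ∈ GenSet p (Ub n F) := by
  have hmem : pi u ∈ Ub n F := ⟨u, hu, rfl⟩
  have hP : IsPGroup p (Ub n F) := by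
    rw [← coe_sylowUb p hn]
    exact (sylowUb (F := F) p hn).isPGroup'
  refine ⟨Subgroup.le_normalizer hmem, Ub n F, le_rfl, Subgroup.le_normalizer, inf_le_left, ?_⟩
  apply Subgroup.subset_closure
  refine ⟨Subgroup.le_normalizer hmem, ?_⟩
  obtain ⟨k, hk⟩ := (IsPGroup.iff_orderOf.mp hP) ⟨pi u, hmem⟩
  exact ⟨k, by rw [← hk, Subgroup.orderOf_mk]⟩

theorem pi_conj_mem_Ub_of_diag (d : SpecialLinearGroup (Fin n) F) (f : Fin n → F)
    (hd : (d : Matrix (Fin n) (Fin n) F) = diagonal f) (hf : ∀ k, f k ≠ 0) :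
    pi d ∈ Subgroup.normalizer ((Ub n F : Subgroup _) : Set _) := by
  apply Subgroup.mem_normalizer_fintype
  rintro _ ⟨u, hu, rfl⟩
  rw [← map_inv, ← map_mul, ← map_mul]
  exact ⟨_, diag_conj_mem_unitri d f hd hf hu, rfl⟩

theorem Ub_le_normalizer_Qb (i j : Fin n) (hij : i.val + 1 = j.val) :
    Ub n F ≤ Subgroup.normalizer ((Qb (F := F) i j hij : Subgroup _) : Set _) := by
  rintro _ ⟨u, hu, rfl⟩
  apply Subgroup.mem_normalizer_fintype
  rintro _ ⟨v, hv, rfl⟩
  rw [← map_inv, ← map_mul, ← map_mul]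
  exact ⟨_, conj_mem_Qs hij hu hv, rfl⟩

theorem pi_lower_mem_normalizer_Qb (i j : Fin n) (hij : i.val + 1 = j.val) (hji : j ≠ i) (c : F) :
    pi (SpecialLinearGroup.transvection hji c) ∈
      Subgroup.normalizer ((Qb (F := F) i j hij : Subgroup _) : Set _) := by
  apply Subgroup.mem_normalizer_fintype
  rintro _ ⟨v, hv, rfl⟩
  rw [← map_inv, ← map_mul, ← map_mul]
  exact ⟨_, lower_conj_mem_Qs hij hji c hv, rfl⟩

/-- commuting images of unitriangular matrices come from commuting matrices -/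
theorem commute_of_pi_commute {u y : SpecialLinearGroup (Fin n) F} (hn : 1 ≤ n) (hu : u ∈ unitri n F)
    (hy : y ∈ unitri n F) (h : pi u * pi y = pi y * pi u) :
    (u : Matrix (Fin n) (Fin n) F) * (y : Matrix (Fin n) (Fin n) F) =
      (y : Matrix (Fin n) (Fin n) F) * (u : Matrix (Fin n) (Fin n) F) := by
  rw [← map_mul, ← map_mul, pi_eq_iff] at h
  obtain ⟨r, -, hr⟩ := h
  have h1 : IsUni ((u * y : SpecialLinearGroup (Fin n) F) : Matrix (Fin n) (Fin n) F) :=
    mul_mem hu hy
  have h2 : IsUni ((y * u : SpecialLinearGroup (Fin n) F) : Matrix (Fin n) (Fin n) F) :=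
    mul_mem hy hu
  have h3 := congrFun (congrFun hr ⟨0, hn⟩) ⟨0, hn⟩
  rw [Matrix.smul_apply, h1.2, h2.2, smul_eq_mul, mul_one] at h3
  rw [← h3, one_smul] at hr
  rw [← Matrix.SpecialLinearGroup.coe_mul, ← Matrix.SpecialLinearGroup.coe_mul, hr]

theorem centralizerIn_Qb_le (hn : 3 ≤ n) (i j : Fin n) (hij : i.val + 1 = j.val) :
    centralizerIn (Ub n F) (Qb (F := F) i j hij) ≤ Qb i j hij := by
  intro x hx
  rw [mem_centralizerIn_iff] at hx
  obtain ⟨⟨u, hu, rfl⟩, hcomm⟩ := hx
  have hne : i ≠ j := by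
    intro h
    rw [h] at hij
    omega
  refine ⟨u, ⟨hu, ?_⟩, rfl⟩
  by_cases hi : 1 ≤ i.val
  · -- use the elementary matrix at `(i - 1, i)`
    let a : Fin n := ⟨i.val - 1, by omega⟩
    have hai : a < i := by
      rw [Fin.lt_def]
      show i.val - 1 < i.val
      omega
    have hyU := transvection_mem_unitri (F := F) hai 1
    have hyQ : SpecialLinearGroup.transvection (ne_of_lt hai) (1 : F) ∈ Qs i j hij := by
      refine ⟨hyU, ?_⟩
      rw [SpecialLinearGroup.transvection_coe, Matrix.add_apply, Matrix.one_apply_ne hne, zero_add,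
        Matrix.single_apply, if_neg]
      rintro ⟨h1, -⟩
      exact absurd h1 (ne_of_lt hai)
    have h1 := hcomm _ ⟨_, hyQ, rfl⟩
    have h2 := commute_of_pi_commute (by omega) hyU hu h1
    rw [SpecialLinearGroup.transvection_coe, Matrix.add_mul, Matrix.mul_add, Matrix.one_mul,
      Matrix.mul_one] at h2
    have h3 := add_left_cancel h2
    have h4 := congrFun (congrFun h3 a) j
    rw [Matrix.single_mul_apply_same, Matrix.mul_single_apply_of_ne _ _ _ _ _ hne.symm, one_mul] at h4
    exact h4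
  · -- `i = 0`, `j = 1`, use the elementary matrix at `(1, 2)`
    let b : Fin n := ⟨2, by omega⟩
    have hjb : j < b := by
      rw [Fin.lt_def]
      show j.val < 2
      omega
    have hyU := transvection_mem_unitri (F := F) hjb 1
    have hyQ : SpecialLinearGroup.transvection (ne_of_lt hjb) (1 : F) ∈ Qs i j hij := by
      refine ⟨hyU, ?_⟩
      rw [SpecialLinearGroup.transvection_coe, Matrix.add_apply, Matrix.one_apply_ne hne, zero_add,
        Matrix.single_apply, if_neg]
      rintro ⟨h1, -⟩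
      exact hne h1.symm
    have h1 := hcomm _ ⟨_, hyQ, rfl⟩
    have h2 := commute_of_pi_commute (by omega) hyU hu h1
    rw [SpecialLinearGroup.transvection_coe, Matrix.add_mul, Matrix.mul_add, Matrix.one_mul,
      Matrix.mul_one] at h2
    have h3 := add_left_cancel h2
    have h4 := congrFun (congrFun h3 i) b
    rw [Matrix.single_mul_apply_of_ne _ _ _ _ _ hne, Matrix.mul_single_apply_same, mul_one] at h4
    exact h4.symm

include p in
/-- the images of the diagonal matrices `diag(.., t, t⁻¹, ..)` lie in `GenSet` -/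
theorem pi_diag2n_mem_genSet (hn : 3 ≤ n) (i j : Fin n) (hij : i.val + 1 = j.val) (hne : i ≠ j)
    (t : F) (ht : t ≠ 0) : pi (SpecialLinearGroup.diag2n hne t ht) ∈ GenSet p (Ub n F) := by
  have hlt : i < j := by
    rw [Fin.lt_def]
    omega
  have hnorm : pi (SpecialLinearGroup.diag2n hne t ht) ∈
      Subgroup.normalizer ((Ub n F : Subgroup _) : Set _) := by
    apply pi_conj_mem_Ub_of_diag _ _ (SpecialLinearGroup.diag2n_coe hne t ht)
    intro k
    by_cases h1 : k = i
    · rw [if_pos h1]; exact ht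
    · rw [if_neg h1]
      by_cases h2 : k = j
      · rw [if_pos h2]; exact inv_ne_zero ht
      · rw [if_neg h2]; exact one_ne_zero
  refine ⟨hnorm, Qb i j hij, Qb_le i j hij, Ub_le_normalizer_Qb i j hij,
    centralizerIn_Qb_le hn i j hij, ?_⟩
  have hup : ∀ c : F, pi (SpecialLinearGroup.transvection hne c) ∈ Subgroup.closure
      {y | y ∈ Subgroup.normalizer ((Qb (F := F) i j hij : Subgroup _) : Set _) ∧
        ∃ k : ℕ, orderOf y = p ^ k} := by
    intro c
    apply Subgroup.subset_closure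
    refine ⟨Ub_le_normalizer_Qb i j hij ⟨_, ?_, rfl⟩, exists_orderOf_pi_transvection p hne c⟩
    have := transvection_mem_unitri (F := F) hlt c
    exact this
  have hlow : ∀ c : F, pi (SpecialLinearGroup.transvection hne.symm c) ∈ Subgroup.closure
      {y | y ∈ Subgroup.normalizer ((Qb (F := F) i j hij : Subgroup _) : Set _) ∧
        ∃ k : ℕ, orderOf y = p ^ k} := by
    intro c
    apply Subgroup.subset_closure
    exact ⟨pi_lower_mem_normalizer_Qb i j hij hne.symm c,
      exists_orderOf_pi_transvection p hne.symm c⟩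
  rw [Cfsg.Agent.Lib.Helper2.diag2n_decompose hne t ht]
  simp only [map_mul]
  exact Subgroup.mul_mem _ (Subgroup.mul_mem _ (Subgroup.mul_mem _ (Subgroup.mul_mem _
    (Subgroup.mul_mem _ (hup _) (hlow _)) (hup _)) (hup _)) (hlow _)) (hup _)

include p in
/-- every element of the normalizer of `Ub` lies in the closure of `GenSet` -/
theorem normalizer_le_closure_genSet (hn : 3 ≤ n) :
    ∀ g ∈ Subgroup.normalizer ((Ub n F : Subgroup _) : Set _),
      g ∈ Subgroup.closure (GenSet p (Ub n F)) := by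
  intro g hg
  obtain ⟨s, rfl⟩ := pi_surjective g
  have h1 := normalizes_of_pi_mem_normalizer p (by omega) s hg
  have h2 := upper_of_normalizes s h1
  have h3 := upper_mem ((Subgroup.closure (GenSet p (Ub n F))).comap pi)
    (fun u hu => Subgroup.subset_closure (pi_unitri_mem_genSet p (by omega) hu))
    (fun i j hij hne t ht => Subgroup.subset_closure (pi_diag2n_mem_genSet p hn i j hij hne t ht))
    s h2
  exact h3

end main

end Cfsg.Agent.Lib.Helper16.FusPSLn
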