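import Mathlib
import Cfsg.Agent.Lib.Helper16.FusPSLnB

set_option autoImplicit false

/-! The `p`-fusion system of `PSL_n(F)`, `F` finite of characteristic `p`, `n ≥ 3`, is simple:
fusion-closed subgroups of the unitriangular subgroup and the final statement. -/

namespace Cfsg.Agent.Lib.Helper16.FusPSLn

open Matrix Cfsg Cfsg.FusionSystem Cfsg.Agent.Lib.Helper18.PSLnAut
  Cfsg.Agent.Lib.Helper25 Cfsg.Agent.Lib.Helper25.SLRoot
  Cfsg.Agent.Lib.Helper16.FusGen Cfsg.Agent.Lib.Helper3.Fus Cfsg.Agent.Lib.Helper26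
  Cfsg.Agent.Lib.Helper10

variable {F : Type*} [Field F] [Fintype F] {m : ℕ} (p : ℕ) [Fact p.Prime] [CharP F p]

include p in
/-- a nontrivial fusion-closed subgroup of `Ub` is all of `Ub` -/
theorem fclosed_eq_Ub (hm : 1 ≤ m) (T : Subgroup (ProjectiveSpecialLinearGroup (Fin (m + 2)) F))
    (hT : T ≤ Ub (m + 2) F) (hne : T ≠ ⊥) (hcl : FClosed (Ub (m + 2) F) T) :
    T = Ub (m + 2) F := by
  have hP : IsPGroup p (Ub (m + 2) F) := by
    rw [← coe_sylowUb p (by omega)]
    exact (sylowUb (F := F) p (by omega)).isPGroup'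
  have h01 : (0 : Fin (m + 2)) ≠ Fin.last (m + 1) := ne_of_lt zero_lt_last
  -- step 1: a nontrivial central element of `Ub` in `T`
  haveI : (T.subgroupOf (Ub (m + 2) F)).Normal := by
    constructor
    intro x hx g
    rw [Subgroup.mem_subgroupOf] at hx ⊢
    exact hcl _ hx g (g * x * g⁻¹).2
  have hne' : T.subgroupOf (Ub (m + 2) F) ≠ ⊥ := by
    intro h
    apply hne
    rw [Subgroup.eq_bot_iff_forall] at h ⊢
    intro x hx
    have := h ⟨x, hT hx⟩ (Subgroup.mem_subgroupOf.mpr hx)
    exact congrArg Subtype.val this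
  obtain ⟨x, hxT, hxZ, hx1⟩ :=
    exists_mem_center_of_normal_ne_bot p hP (T.subgroupOf (Ub (m + 2) F)) hne'
  have hz : (x : ProjectiveSpecialLinearGroup (Fin (m + 2)) F) ∈
      RB (bv 0) (bv (Fin.last (m + 1))) (bv_last_dot_bv_zero (F := F)) := by
    rw [mem_R0_iff]
    refine ⟨x.2, fun y hy => ?_⟩
    have := Subgroup.mem_center_iff.mp hxZ ⟨y, hy⟩
    exact (congrArg Subtype.val this).symm
  obtain ⟨c, hc⟩ := mem_RB.mp hz
  have hc0 : c ≠ 0 := by
    rintro rfl
    rw [tvSL_zero, map_one] at hc
    exact hx1 (Subtype.ext hc.symm)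
  rw [tvSL_bv_eq_transvection h01] at hc
  have hxT' : (x : ProjectiveSpecialLinearGroup (Fin (m + 2)) F) ∈ T := Subgroup.mem_subgroupOf.mp hxT
  -- step 2: the whole highest root subgroup lies in `T`
  have step2 : ∀ c' : F, pi (SpecialLinearGroup.transvection h01 c') ∈ T := by
    intro c'
    by_cases hc' : c' = 0
    · rw [hc', SpecialLinearGroup.transvection_coeff_zero, map_one]
      exact Subgroup.one_mem _
    · have h01' : (0 : Fin (m + 2)) ≠ 1 := by
        intro h
        have := congrArg Fin.val h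
        simp at this
      have ha : c' / c ≠ 0 := div_ne_zero hc' hc0
      have hf : ∀ k : Fin (m + 2),
          (if k = 0 then c' / c else if k = 1 then (c' / c)⁻¹ else 1) ≠ 0 := by
        intro k
        by_cases h1 : k = 0
        · rw [if_pos h1]; exact ha
        · rw [if_neg h1]
          by_cases h2 : k = 1
          · rw [if_pos h2]; exact inv_ne_zero ha
          · rw [if_neg h2]; exact one_ne_zero
      have h3 := diag_conj_transvection (SpecialLinearGroup.diag2n h01' (c' / c) ha) _
        (SpecialLinearGroup.diag2n_coe h01' (c' / c) ha) hf h01 c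
      have hl0 : Fin.last (m + 1) ≠ (0 : Fin (m + 2)) := h01.symm
      have hl1 : Fin.last (m + 1) ≠ (1 : Fin (m + 2)) := by
        intro h
        have := congrArg Fin.val h
        simp at this
        omega
      rw [if_pos rfl, if_neg hl0, if_neg hl1, inv_one, mul_one, div_mul_cancel₀ _ hc0] at h3
      have h4 := hcl _ hxT' (pi (SpecialLinearGroup.diag2n h01' (c' / c) ha)) (by
        rw [← hc, ← map_inv, ← map_mul, ← map_mul, h3]
        exact ⟨_, transvection_mem_unitri zero_lt_last c', rfl⟩)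
      rw [← hc, ← map_inv, ← map_mul, ← map_mul, h3] at h4
      exact h4
  -- step 3: all root subgroups above the diagonal lie in `T`
  have step3 : ∀ (i j : Fin (m + 2)) (hij : i < j) (c' : F),
      pi (SpecialLinearGroup.transvection (ne_of_lt hij) c') ∈ T := by
    intro i j hij c'
    obtain ⟨g, hg⟩ := exists_conj_std (F := F) (bv_dot_bv (ne_of_lt hij)) (bv_ne_zero i) (bv_ne_zero j)
    have h1 : pi (SpecialLinearGroup.transvection (ne_of_lt hij) c') ∈
        RB (bv i) (bv j) (bv_dot_bv (ne_of_lt hij)) := by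
      rw [← tvSL_bv_eq_transvection]
      exact pi_tvSL_mem _ c'
    have h2 := (hg _).mp h1
    obtain ⟨c'', hc''⟩ := mem_RB.mp h2
    rw [tvSL_bv_eq_transvection h01] at hc''
    have h3 := step2 c''
    rw [hc''] at h3
    have h4 := hcl _ h3 (pi g) (by
      have e : pi g * ((pi g)⁻¹ * pi (SpecialLinearGroup.transvection (ne_of_lt hij) c') * pi g) *
          (pi g)⁻¹ = pi (SpecialLinearGroup.transvection (ne_of_lt hij) c') := by group
      rw [e]
      exact ⟨_, transvection_mem_unitri hij c', rfl⟩)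
    have e : pi g * ((pi g)⁻¹ * pi (SpecialLinearGroup.transvection (ne_of_lt hij) c') * pi g) *
        (pi g)⁻¹ = pi (SpecialLinearGroup.transvection (ne_of_lt hij) c') := by group
    rw [e] at h4
    exact h4
  -- step 4: generation
  apply le_antisymm hT
  rintro _ ⟨u, hu, rfl⟩
  have h5 := unitri_le_closure hu
  have h6 : Subgroup.closure {x | ∃ (i j : Fin (m + 2)) (h : i < j) (c : F),
      x = SpecialLinearGroup.transvection (ne_of_lt h) c} ≤ T.comap pi := by
    rw [Subgroup.closure_le]
    rintro _ ⟨i, j, hij, c', rfl⟩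
    exact step3 i j hij c'
  exact h6 h5

/-- **S5163**: the `p`-fusion system of `PSL_n(F)` (`n ≥ 3`, `F` finite of characteristic `p`) on a
Sylow `p`-subgroup is simple. -/
theorem isSimple_PSL (hm : 1 ≤ m) (S : Sylow p (ProjectiveSpecialLinearGroup (Fin (m + 2)) F)) :
    (groupFusionSystem (S : Subgroup (ProjectiveSpecialLinearGroup (Fin (m + 2)) F))).IsSimple p := by
  apply isSimple_of_subgroup_gen (Ub (m + 2) F) ?_ ?_ (normalizer_le_closure_genSet p (by omega))
    (fun T hT hne hcl => fclosed_eq_Ub p hm T hT hne hcl) S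
  · rw [← coe_sylowUb p (by omega)]
    exact Sylow.card_eq_multiplicity _
  · intro hbot
    have h01 : (0 : Fin (m + 2)) ≠ Fin.last (m + 1) := ne_of_lt zero_lt_last
    have h1 : pi (SpecialLinearGroup.transvection h01 (1 : F)) ∈ Ub (m + 2) F :=
      ⟨_, transvection_mem_unitri zero_lt_last 1, rfl⟩
    rw [hbot, Subgroup.mem_bot, pi_eq_one_iff, SpecialLinearGroup.transvection_mem_center_iff] at h1
    exact one_ne_zero h1

end Cfsg.Agent.Lib.Helper16.FusPSLn
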