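import Mathlib
import Cfsg.Agent.Lib.Helper16.FusCrit
import Cfsg.Agent.Lib.Helper18.QDTransfer
import Cfsg.Agent.Lib.Helper18.QDFusion
import Cfsg.Agent.Lib.Helper18.WrCentralizer
import Cfsg.Agent.Lib.Helper10.PGroupBasic
import Cfsg.Agent.S3116
import Cfsg.Agent.S1202

set_option autoImplicit false

/-! A finite group without subgroups of index two whose Sylow 2-subgroups are quasi-dihedral or
wreathed has a simple 2-fusion system. -/

namespace Cfsg.Agent.Lib.Helper16.FusQDWr

open Subgroup Cfsg Cfsg.Agent.Lib.Helper18 Cfsg.Agent.Lib.Helper3.Fus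
  Cfsg.Agent.Lib.Helper16.FusCrit

variable {G : Type*} [Group G] [Finite G]

/-- Thompson transfer for an involution -/
theorem exists_conj_mem_of_invol (S : Sylow 2 G) (hG : ∀ H : Subgroup G, H.index ≠ 2)
    (M : Subgroup ↥(S : Subgroup G)) (hM : M.index = 2) (u : ↥(S : Subgroup G))
    (hu : orderOf u = 2) :
    ∃ (g : G) (hg : g⁻¹ * (u : G) * g ∈ (S : Subgroup G)), (⟨_, hg⟩ : ↥(S : Subgroup G)) ∈ M := by
  by_contra hcon
  push Not at hcon
  have huu : (u : G) * (u : G) = 1 := by
    have := pow_orderOf_eq_one u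
    rw [hu, pow_two] at this
    exact congrArg Subtype.val this
  obtain ⟨K, -, hKi, -⟩ := exists_normal_index_two_of_transfer S M hM (u : G) u.2
    (by
      intro j g hg hj
      obtain ⟨l, rfl⟩ := hj
      have e : (u : G) ^ (2 * l + 1) = u := by
        rw [pow_succ, pow_mul, pow_two, huu, one_pow, one_mul]
      have hg' : g⁻¹ * (u : G) * g ∈ (S : Subgroup G) := by rw [← e]; exact hg
      have e2 : (⟨_, hg⟩ : ↥(S : Subgroup G)) = ⟨_, hg'⟩ := Subtype.ext (by simp only [e])
      rw [e2]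
      exact hcon g hg')
    (by
      intro j g hg hj
      obtain ⟨l, rfl⟩ := hj
      have e : (u : G) ^ (l + l) = 1 := by
        rw [← two_mul, pow_mul, pow_two, huu, one_pow]
      have e2 : (⟨_, hg⟩ : ↥(S : Subgroup G)) = 1 := Subtype.ext (by simp [e])
      rw [e2]; exact one_mem _)
  exact hG K hKi

/-- Thompson transfer for an element of order four -/
theorem exists_conj_mem_of_order_four (S : Sylow 2 G) (hG : ∀ H : Subgroup G, H.index ≠ 2)
    (M : Subgroup ↥(S : Subgroup G)) (hM : M.index = 2) (u : ↥(S : Subgroup G))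
    (hu : orderOf u = 4) (hinv : ∀ t : ↥(S : Subgroup G), orderOf t = 2 → t ∈ M) :
    ∃ (g : G) (hg : g⁻¹ * (u : G) * g ∈ (S : Subgroup G)), (⟨_, hg⟩ : ↥(S : Subgroup G)) ∈ M := by
  by_contra hcon
  push Not at hcon
  have hu4 : (u : G) ^ 4 = 1 := by
    have := pow_orderOf_eq_one u
    rw [hu] at this
    have := congrArg Subtype.val this
    simpa using this
  obtain ⟨K, -, hKi, -⟩ := exists_normal_index_two_of_transfer S M hM (u : G) u.2
    (by
      intro j g hg hj hmem
      obtain ⟨l, rfl⟩ := hj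
      rcases Nat.even_or_odd' l with ⟨k, rfl | rfl⟩
      · -- j = 4k+1
        have e : (u : G) ^ (2 * (2 * k) + 1) = u := by
          rw [pow_succ, show 2 * (2 * k) = 4 * k by ring, pow_mul, hu4, one_pow, one_mul]
        have hg' : g⁻¹ * (u : G) * g ∈ (S : Subgroup G) := by rw [← e]; exact hg
        have e2 : (⟨_, hg⟩ : ↥(S : Subgroup G)) = ⟨_, hg'⟩ := Subtype.ext (by simp only [e])
        rw [e2] at hmem
        exact hcon g hg' hmem
      · -- j = 4k+3
        have e : (u : G) ^ (2 * (2 * k + 1) + 1) = (u : G)⁻¹ := by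
          rw [show 2 * (2 * k + 1) + 1 = 4 * k + 3 by ring, pow_add, pow_mul, hu4, one_pow, one_mul]
          apply eq_inv_of_mul_eq_one_left
          rw [← pow_succ]; exact hu4
        have hg' : g⁻¹ * (u : G)⁻¹ * g ∈ (S : Subgroup G) := by rw [← e]; exact hg
        have e2 : (⟨_, hg⟩ : ↥(S : Subgroup G)) = ⟨_, hg'⟩ := Subtype.ext (by simp only [e])
        rw [e2] at hmem
        have hg'' : g⁻¹ * (u : G) * g ∈ (S : Subgroup G) := by
          have := (S : Subgroup G).inv_mem hg'
          have e3 : (g⁻¹ * (u : G)⁻¹ * g)⁻¹ = g⁻¹ * (u : G) * g := by group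
          rwa [e3] at this
        have e4 : (⟨_, hg''⟩ : ↥(S : Subgroup G)) = (⟨_, hg'⟩ : ↥(S : Subgroup G))⁻¹ := by
          apply Subtype.ext
          show g⁻¹ * (u : G) * g = (g⁻¹ * (u : G)⁻¹ * g)⁻¹
          group
        apply hcon g hg''
        rw [e4]; exact M.inv_mem hmem)
    (by
      intro j g hg hj
      obtain ⟨l, rfl⟩ := hj
      set t : ↥(S : Subgroup G) := ⟨_, hg⟩ with ht
      have htt : t * t = 1 := by
        apply Subtype.ext
        show (g⁻¹ * (u : G) ^ (l + l) * g) * (g⁻¹ * (u : G) ^ (l + l) * g) = 1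
        have : (u : G) ^ (l + l) * (u : G) ^ (l + l) = 1 := by
          rw [← pow_add, show l + l + (l + l) = 4 * l by ring, pow_mul, hu4, one_pow]
        calc (g⁻¹ * (u : G) ^ (l + l) * g) * (g⁻¹ * (u : G) ^ (l + l) * g)
            = g⁻¹ * ((u : G) ^ (l + l) * (u : G) ^ (l + l)) * g := by group
          _ = 1 := by rw [this]; group
      by_cases h1 : t = 1
      · rw [h1]; exact one_mem _
      · apply hinv
        have : Fact (Nat.Prime 2) := ⟨Nat.prime_two⟩
        exact orderOf_eq_prime (by rw [pow_two]; exact htt) h1)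
  exact hG K hKi

/-- the quasi-dihedral case -/
theorem isSimple_of_isQD (S : Sylow 2 G) (hQD : Cfsg.IsQuasiDihedral ↥(S : Subgroup G))
    (hG : ∀ H : Subgroup G, H.index ≠ 2) :
    (groupFusionSystem (S : Subgroup G)).IsSimple 2 := by
  obtain ⟨m, x, y, h⟩ := exists_isQD hQD
  have hSp : IsPGroup 2 ↥(S : Subgroup G) := S.2
  have hfin : Finite ↥(S : Subgroup G) := inferInstance
  -- involutions of `S`
  have hinvS : ∀ t : ↥(S : Subgroup G), orderOf t = 2 →
      t = x ^ (2 ^ (m + 2)) ∨ ∃ k : ℕ, t = x ^ (2 * k) * y := by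
    intro t ht
    obtain ⟨i, hi | hi⟩ := h.cover t
    · left
      exact h.eq_z_of_orderOf_two t (hi ▸ pow_mem (mem_zpowers x) i) ht
    · right
      rcases Nat.even_or_odd' i with ⟨k, rfl | rfl⟩
      · exact ⟨k, hi⟩
      · exfalso
        rw [hi, h.orderOf_xy_odd k] at ht
        omega
  -- fusion: `z ∼ y`
  have hyz : ∃ g : G, g * ((x : G) ^ (2 ^ (m + 2))) * g⁻¹ = (y : G) := by
    obtain ⟨g, hg, hmem⟩ := exists_conj_mem_of_invol S hG (zpowers x) h.index_zpowers y h.hy
    have ho : orderOf (⟨_, hg⟩ : ↥(S : Subgroup G)) = 2 := by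
      rw [← Subgroup.orderOf_coe]
      show orderOf (g⁻¹ * (y : G) * g) = 2
      have := (MulAut.conj g⁻¹).orderOf_eq (y : G)
      rw [MulAut.conj_apply, inv_inv] at this
      rw [this, Subgroup.orderOf_coe, h.hy]
    have := h.eq_z_of_orderOf_two _ hmem ho
    have e := congrArg Subtype.val this
    have e' : g⁻¹ * (y : G) * g = (x : G) ^ (2 ^ (m + 2)) := by simpa using e
    refine ⟨g, ?_⟩
    rw [← e']; group
  -- fusion: `v ∼ xy`
  have hvxy : ∃ g : G, g * ((x : G) ^ (2 ^ (m + 1))) * g⁻¹ = (x : G) * (y : G) := by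
    have hoxy : orderOf (x * y) = 4 := by
      have := h.orderOf_xy_odd 0
      simpa using this
    obtain ⟨g, hg, hmem⟩ := exists_conj_mem_of_order_four S hG (zpowers (x ^ 2) ⊔ zpowers y)
      h.index_D (x * y) hoxy (by
        intro t ht
        rcases hinvS t ht with e | ⟨k, e⟩
        · rw [e]
          exact mem_sup_left h.z_mem_sq
        · rw [e, pow_mul]
          exact mul_mem (mem_sup_left (pow_mem (mem_zpowers _) k)) (mem_sup_right (mem_zpowers y)))
    set w : ↥(S : Subgroup G) := ⟨_, hg⟩ with hw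
    have ho : orderOf w = 4 := by
      rw [← Subgroup.orderOf_coe]
      show orderOf (g⁻¹ * ((x * y : ↥(S : Subgroup G)) : G) * g) = 4
      have := (MulAut.conj g⁻¹).orderOf_eq ((x * y : ↥(S : Subgroup G)) : G)
      rw [MulAut.conj_apply, inv_inv] at this
      rw [this, Subgroup.orderOf_coe, hoxy]
    -- `w ∈ ⟨x⟩`
    have hwx : w ∈ zpowers x := by
      obtain ⟨i, hi | hi⟩ := h.cover w
      · rw [hi]; exact pow_mem (mem_zpowers x) i
      · exfalso
        rcases Nat.even_or_odd' i with ⟨k, rfl | rfl⟩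
        · rw [hi, h.orderOf_xy_even k] at ho
          omega
        · -- `x^(2k+1) y ∈ D` forces `x ∈ D`
          apply h.x_not_mem_D
          have h1 : x ^ (2 * k + 1) * y ∈ zpowers (x ^ 2) ⊔ zpowers y := hi ▸ hmem
          have h2 : x ^ (2 * k + 1) ∈ zpowers (x ^ 2) ⊔ zpowers y := by
            have := mul_mem h1 (inv_mem (mem_sup_right (mem_zpowers y) :
              y ∈ zpowers (x ^ 2) ⊔ zpowers y))
            rwa [mul_inv_cancel_right] at this
          have h3 : (x ^ 2) ^ k ∈ zpowers (x ^ 2) ⊔ zpowers y :=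
            mem_sup_left (pow_mem (mem_zpowers _) k)
          have := mul_mem (inv_mem h3) h2
          have e : ((x ^ 2) ^ k)⁻¹ * x ^ (2 * k + 1) = x := by
            rw [← pow_mul, pow_succ]; group
          rwa [e] at this
    rcases h.eq_v_of_orderOf_four w hwx ho with e | e
    · have e' := congrArg Subtype.val e
      have e'' : g⁻¹ * ((x : G) * (y : G)) * g = (x : G) ^ (2 ^ (m + 1)) := by simpa [hw] using e'
      refine ⟨g, ?_⟩
      rw [← e'']; group
    · have e' := congrArg Subtype.val e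
      have e'' : g⁻¹ * ((x : G) * (y : G)) * g = ((x : G) ^ (2 ^ (m + 1)))⁻¹ := by
        simpa [hw] using e'
      have hcv := congrArg Subtype.val h.conj_v
      have hcv' : (y : G) * (x : G) ^ (2 ^ (m + 1)) * (y : G)⁻¹ = ((x : G) ^ (2 ^ (m + 1)))⁻¹ := by
        simpa using hcv
      refine ⟨g * y, ?_⟩
      calc g * (y : G) * (x : G) ^ (2 ^ (m + 1)) * (g * (y : G))⁻¹
          = g * ((y : G) * (x : G) ^ (2 ^ (m + 1)) * (y : G)⁻¹) * g⁻¹ := by group
        _ = g * (g⁻¹ * ((x : G) * (y : G)) * g) * g⁻¹ := by rw [hcv', e'']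
        _ = _ := by group
  apply isSimple_of_inner S
  · intro hbot
    have h1 : Nat.card ↥(S : Subgroup G) = 1 := by rw [hbot]; exact Subgroup.card_bot
    rw [h.card] at h1
    have : 2 ^ 1 ≤ 2 ^ (m + 4) := Nat.pow_le_pow_right (by norm_num) (by omega)
    omega
  · exact inner_of_isPGroup_mulAut S (Cfsg.Agent.S3116.result hSp (Or.inr hQD))
  · intro T hTS hT hcl
    -- `T` is normal in `S`, so it meets the centre
    have hTn : (T.subgroupOf (S : Subgroup G)).Normal := by
      constructor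
      intro a ha s
      rw [mem_subgroupOf] at ha ⊢
      exact hcl _ ha (s : G) ((S : Subgroup G).mul_mem ((S : Subgroup G).mul_mem s.2 a.2)
        ((S : Subgroup G).inv_mem s.2))
    have hTne : T.subgroupOf (S : Subgroup G) ≠ ⊥ := by
      intro hb
      apply hT
      rw [Subgroup.eq_bot_iff_forall] at hb ⊢
      intro a ha
      have := hb ⟨a, hTS ha⟩ (by rw [mem_subgroupOf]; exact ha)
      exact congrArg Subtype.val this
    have : Fact (Nat.Prime 2) := ⟨Nat.prime_two⟩
    obtain ⟨c, hcT, hcZ, hc1⟩ := Cfsg.Agent.Lib.Helper10.exists_mem_center_of_normal_ne_bot 2 hSp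
      (T.subgroupOf (S : Subgroup G)) hTne
    rw [h.center_eq] at hcZ
    have hcz : c = x ^ (2 ^ (m + 2)) := by
      rcases eq_one_or_eq_of_mem_zpowers_of_orderOf_two _ _ h.z_orderOf hcZ with e | e
      · exact absurd e hc1
      · exact e
    have hzT : (x : G) ^ (2 ^ (m + 2)) ∈ T := by
      have := (mem_subgroupOf.mp hcT)
      rw [hcz] at this
      simpa using this
    -- `y ∈ T`
    have hyT : (y : G) ∈ T := by
      obtain ⟨g, hg⟩ := hyz
      have := hcl _ hzT g (by rw [hg]; exact y.2)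
      rwa [hg] at this
    -- `x² y ∈ T`, hence `x² ∈ T`
    have hx2yT : ((x ^ 2 * y : ↥(S : Subgroup G)) : G) ∈ T := by
      obtain ⟨s, hs⟩ := isConj_iff.mp (h.isConj_y 1)
      have := hcl _ hyT (s : G) (by
        have : (s : G) * (y : G) * (s : G)⁻¹ = ((s * y * s⁻¹ : ↥(S : Subgroup G)) : G) := by simp
        rw [this]; exact (s * y * s⁻¹).2)
      have e : (s : G) * (y : G) * (s : G)⁻¹ = ((x ^ 2 * y : ↥(S : Subgroup G)) : G) := by
        have := congrArg Subtype.val hs
        simpa using this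
      rwa [e] at this
    have hx2T : (x : G) ^ 2 ∈ T := by
      have := T.mul_mem hx2yT (T.inv_mem hyT)
      simpa using this
    have hvT : (x : G) ^ (2 ^ (m + 1)) ∈ T := by
      have e : (x : G) ^ (2 ^ (m + 1)) = ((x : G) ^ 2) ^ (2 ^ m) := by
        rw [← pow_mul]; congr 1; ring
      rw [e]; exact T.pow_mem hx2T _
    have hxyT : (x : G) * (y : G) ∈ T := by
      obtain ⟨g, hg⟩ := hvxy
      have := hcl _ hvT g (by rw [hg]; exact (x * y).2)
      rwa [hg] at this
    have hxT : (x : G) ∈ T := by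
      have := T.mul_mem hxyT (T.inv_mem hyT)
      simpa using this
    apply le_antisymm hTS
    intro a ha
    obtain ⟨i, hi | hi⟩ := h.cover_val a ha
    · rw [hi]; exact T.pow_mem hxT i
    · rw [hi]; exact T.mul_mem (T.pow_mem hxT i) hyT

/-- the automorphism group of a wreathed 2-group is a 2-group -/
theorem isPGroup_mulAut_of_isWreathed {W : Type*} [Group W] [Finite W] (hW : Cfsg.IsWreathed W) :
    IsPGroup 2 (MulAut W) := by
  obtain ⟨n, -, hcard, -⟩ := id hW
  by_contra hA
  have hA' : ¬ IsPGroup 2 (MulAut (⊤ : Subgroup W)) := fun h =>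
    hA (h.of_equiv (MulAut.congr Subgroup.topEquiv))
  have := (Cfsg.Agent.S1202.result hW n hcard ⊤ le_top hA').1
  rw [Subgroup.relIndex_top_left] at this
  omega

/-- the wreathed case -/
theorem isSimple_of_isWreathed (S : Sylow 2 G) (hW : Cfsg.IsWreathed ↥(S : Subgroup G))
    (hG : ∀ H : Subgroup G, H.index ≠ 2) :
    (groupFusionSystem (S : Subgroup G)).IsSimple 2 := by
  obtain ⟨m, x, y, z, h⟩ := exists_isWr hW
  have hSp : IsPGroup 2 ↥(S : Subgroup G) := S.2
  obtain ⟨h₁, -⟩ := h.three_dvd_of_no_index_two hG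
  obtain ⟨d, hdN, -, hd⟩ := h.exists_odd_conj_center h₁
  apply isSimple_of_inner S
  · intro hbot
    have h1 : Nat.card ↥(S : Subgroup G) = 1 := by rw [hbot]; exact Subgroup.card_bot
    rw [h.card] at h1
    have : 2 ^ 1 ≤ 2 ^ (2 * (m + 2) + 1) := Nat.pow_le_pow_right (by norm_num) (by omega)
    omega
  · exact inner_of_isPGroup_mulAut S (isPGroup_mulAut_of_isWreathed hW)
  · intro T hTS hT hcl
    have hinv := invol_mem_of_fclosed (S : Subgroup G) T hSp hTS hT hcl (by
      intro s t hs ht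
      have h1 := h.invol_isConj_c0 hG s hs
      have h2 := h.invol_isConj_c0 hG t ht
      exact isConj_iff.mp (h1.symm.trans h2))
    have hzT : (z : G) ∈ T := hinv _ z.2 (by rw [Subgroup.orderOf_coe, h.hz])
    have hczT : ((x * y⁻¹ * z : ↥(S : Subgroup G)) : G) ∈ T := hinv _ (x * y⁻¹ * z).2 (by
      rw [Subgroup.orderOf_coe]
      have := h.cz_orderOf 1
      rwa [zpow_one] at this)
    have hcT : ((x * y⁻¹ : ↥(S : Subgroup G)) : G) ∈ T := by
      have := T.mul_mem hczT (T.inv_mem hzT)
      simpa using this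
    -- the conjugate of `x y⁻¹` under `d`
    have hcB : ((x * y⁻¹ : ↥(S : Subgroup G)) : G) ∈ h.baseG := by
      rw [h.mem_baseG_iff]
      exact ⟨1, -1, by simp⟩
    have hb2B : d * ((x * y⁻¹ : ↥(S : Subgroup G)) : G) * d⁻¹ ∈ h.baseG :=
      (mem_normalizer_iff.mp hdN _).mp hcB
    have hb2T : d * ((x * y⁻¹ : ↥(S : Subgroup G)) : G) * d⁻¹ ∈ T :=
      hcl _ hcT d (h.baseG_le hb2B)
    obtain ⟨i, j, hij⟩ := (h.mem_baseG_iff _).mp hb2B
    -- the power map
    have hcpow : (x * y⁻¹) ^ (2 ^ (m + 1)) = x ^ (2 ^ (m + 1)) * y ^ (2 ^ (m + 1)) := by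
      rw [(show Commute x y⁻¹ from (show Commute x y from h.comm).inv_right).mul_pow, inv_pow]
      congr 1
      exact inv_eq_of_mul_eq_one_left h.u'_mul_self
    have hpow : (d * ((x * y⁻¹ : ↥(S : Subgroup G)) : G) * d⁻¹) ^ (2 ^ (m + 1)) =
        d * ((x : G) ^ (2 ^ (m + 1)) * (y : G) ^ (2 ^ (m + 1))) * d⁻¹ := by
      rw [conj_pow]
      congr 2
      have := congrArg Subtype.val hcpow
      simpa using this
    have hodd : Odd (i + j) := by
      rcases hd with hd | hd
      · have e : (x ^ i * y ^ j) ^ (2 ^ (m + 1)) = x ^ (2 ^ (m + 1)) := by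
          apply Subtype.ext
          have : (((x ^ i * y ^ j) ^ (2 ^ (m + 1)) : ↥(S : Subgroup G)) : G) =
              ((x : G) ^ i * (y : G) ^ j) ^ (2 ^ (m + 1)) := by simp
          rw [this, ← hij, hpow, hd]
          simp
        obtain ⟨h1, h2⟩ := h.parity_of_pow_eq_u i j e
        exact h1.add_even h2
      · have e : (x ^ i * y ^ j) ^ (2 ^ (m + 1)) = y ^ (2 ^ (m + 1)) := by
          apply Subtype.ext
          have : (((x ^ i * y ^ j) ^ (2 ^ (m + 1)) : ↥(S : Subgroup G)) : G) =
              ((x : G) ^ i * (y : G) ^ j) ^ (2 ^ (m + 1)) := by simp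
          rw [this, ← hij, hpow, hd]
          simp
        obtain ⟨h1, h2⟩ := h.parity_of_pow_eq_u' i j e
        exact h1.add_odd h2
    -- `x^(i+j) ∈ T`
    have hxijT : (x : G) ^ (i + j) ∈ T := by
      have h1 := T.mul_mem hb2T (T.zpow_mem hcT j)
      have e : d * ((x * y⁻¹ : ↥(S : Subgroup G)) : G) * d⁻¹ *
          ((x * y⁻¹ : ↥(S : Subgroup G)) : G) ^ j = (x : G) ^ (i + j) := by
        rw [hij]
        have e1 : (x * y⁻¹) ^ j = x ^ j * y ^ (-j) := h.c_zpow j
        have e2 : ((x * y⁻¹ : ↥(S : Subgroup G)) : G) ^ j = (x : G) ^ j * (y : G) ^ (-j) := by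
          have := congrArg Subtype.val e1
          simpa using this
        rw [e2]
        have hc : Commute ((y : G) ^ j) ((x : G) ^ j) := by
          have := (h.commute_xy j j).symm
          have h3 := congrArg Subtype.val this.eq
          show (y : G) ^ j * (x : G) ^ j = (x : G) ^ j * (y : G) ^ j
          simpa using h3
        calc (x : G) ^ i * (y : G) ^ j * ((x : G) ^ j * (y : G) ^ (-j))
            = (x : G) ^ i * ((y : G) ^ j * (x : G) ^ j) * (y : G) ^ (-j) := by group
          _ = (x : G) ^ i * ((x : G) ^ j * (y : G) ^ j) * (y : G) ^ (-j) := by rw [hc.eq]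
          _ = (x : G) ^ (i + j) := by rw [zpow_add]; group
      rwa [e] at h1
    have hxT : (x : G) ∈ T := by
      have hcop : IsCoprime (i + j) (((2 ^ (m + 2) : ℕ)) : ℤ) := by
        have h2 : IsCoprime (i + j) (2 : ℤ) := by
          rw [Int.isCoprime_iff_gcd_eq_one]
          obtain ⟨k, hk⟩ := hodd
          rw [hk]
          simp
        push_cast
        exact h2.pow_right
      obtain ⟨a, b, hab⟩ := hcop
      have hxo : (x : G) ^ (((2 ^ (m + 2) : ℕ)) : ℤ) = 1 := by
        rw [zpow_natCast]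
        have := congrArg Subtype.val h.x_pow_card
        simpa using this
      have e : (x : G) = ((x : G) ^ (i + j)) ^ a := by
        have h3 : (x : G) ^ (a * (i + j) + b * (((2 ^ (m + 2) : ℕ)) : ℤ)) = x := by
          rw [hab, zpow_one]
        rw [zpow_add, mul_comm b, zpow_mul _ _ b, hxo, one_zpow, mul_one, mul_comm a,
          zpow_mul] at h3
        exact h3.symm
      rw [e]; exact T.zpow_mem hxijT a
    have hyT : (y : G) ∈ T := by
      have e : (y : G) = (z : G) * (x : G) * (z : G)⁻¹ := by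
        have := congrArg Subtype.val h.rel
        simpa using this.symm
      rw [e]; exact T.mul_mem (T.mul_mem hzT hxT) (T.inv_mem hzT)
    apply le_antisymm hTS
    intro a ha
    obtain ⟨i', j', hi | hi⟩ := h.cover_val a ha
    · rw [hi]; exact T.mul_mem (T.zpow_mem hxT i') (T.zpow_mem hyT j')
    · rw [hi]; exact T.mul_mem (T.mul_mem (T.zpow_mem hxT i') (T.zpow_mem hyT j')) hzT

end Cfsg.Agent.Lib.Helper16.FusQDWr
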