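import Mathlib
import Cfsg.Agent.Lib.Helper16.FusQDWr
import Cfsg.Agent.Lib.Helper18.PSL3Invol
import Cfsg.Agent.Lib.Helper18.SU3Sylow
import Cfsg.Agent.Lib.Helper18.SylowTransport
import Cfsg.Agent.Lib.Helper13.GU2SylowTwo
import Cfsg.Agent.Lib.Helper14.Unitary3
import Cfsg.Agent.Lib.Helper5.PSUSimple
import Cfsg.Agent.S1218

set_option autoImplicit false

/-! The 2-fusion system of `PSU(3, q)`, `q` odd, is simple. -/

namespace Cfsg.Agent.Lib.Helper16.FusPSU3

open Matrix Cfsg Cfsg.Agent.Lib.Helper18.PSL3Invol Cfsg.Agent.Lib.Helper14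

variable {F : Type*} [Field F] [Fintype F] {q : ℕ}

/-- `diag(A, (det A)⁻¹)` is unitary when `A` is -/
theorem emb_mem_SU (hF : Fintype.card F = q ^ 2) (A : GL (Fin 2) F) (hA : A ∈ Cfsg.GU 2 F q) :
    emb A ∈ Cfsg.SU 3 F q := by
  classical
  have hq : 2 ≤ q := herm_two_le hF
  have hq0 : q ≠ 0 := by omega
  rw [mem_SU_iff]
  intro u v
  apply hermForm_mulVec_of_orthoN hF
  have hO := orthoN_cols_of_mem_GU hF A hA
  have hdet := det_mul_det_pow_of_orthoN hF (A : Matrix (Fin 2) (Fin 2) F) hO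
  have hd0 : (A : Matrix (Fin 2) (Fin 2) F).det ≠ 0 := det_ne_zero_of_GL A
  have hdinv : ((A : Matrix (Fin 2) (Fin 2) F).det)⁻¹ * (((A : Matrix (Fin 2) (Fin 2) F).det)⁻¹) ^ q = 1 := by
    rw [inv_pow, ← mul_inv, hdet, inv_one]
  have h00 := hO 0 0
  have h01 := hO 0 1
  have h10 := hO 1 0
  have h11 := hO 1 1
  simp only [Cfsg.hermForm, Fin.sum_univ_two] at h00 h01 h10 h11
  intro j l
  rw [emb_val]
  have hdinv' : ((A : Matrix (Fin 2) (Fin 2) F).det)⁻¹ * (((A : Matrix (Fin 2) (Fin 2) F).det) ^ q)⁻¹ = 1 := by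
    rw [← mul_inv, hdet, inv_one]
  fin_cases j <;> fin_cases l <;>
    simp [Cfsg.hermForm, Fin.sum_univ_three, embMat, hq0, h00, h01, h10, h11] <;>
    first | assumption | exact hdinv'

/-- the embedding `GU(2) → SU(3)` -/
def embU (hF : Fintype.card F = q ^ 2) : ↥(Cfsg.GU 2 F q) →* ↥(Cfsg.SU 3 F q) where
  toFun A := ⟨emb A.1, emb_mem_SU hF A.1 A.2⟩
  map_one' := Subtype.ext (map_one emb)
  map_mul' A B := Subtype.ext (map_mul emb A.1 B.1)

theorem embU_injective (hF : Fintype.card F = q ^ 2) : Function.Injective (embU hF) := by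
  intro A B h
  apply Subtype.ext
  apply emb_injective
  exact congrArg Subtype.val h

/-- the map `GU(2) → PSU(3)` -/
def psiU (hF : Fintype.card F = q ^ 2) : ↥(Cfsg.GU 2 F q) →* Cfsg.PSU 3 F q :=
  (QuotientGroup.mk' (Subgroup.center ↥(Cfsg.SU 3 F q))).comp (embU hF)

theorem eq_one_of_psiU_eq_one (hF : Fintype.card F = q ^ 2) (A : ↥(Cfsg.GU 2 F q)) (k : ℕ)
    (hA : A ^ (2 ^ k) = 1) (h : psiU hF A = 1) : A = 1 := by
  classical
  have hmem : embU hF A ∈ Subgroup.center ↥(Cfsg.SU 3 F q) := by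
    have : (QuotientGroup.mk (embU hF A) : Cfsg.PSU 3 F q) = 1 := h
    exact (QuotientGroup.eq_one_iff _).mp this
  have hcard := card_center_SU hF 3 (by norm_num)
  have h3 : (embU hF A) ^ 3 = 1 := by
    have h1 : (⟨embU hF A, hmem⟩ : Subgroup.center ↥(Cfsg.SU 3 F q)) ^
        Nat.card (Subgroup.center ↥(Cfsg.SU 3 F q)) = 1 := pow_card_eq_one'
    have hd : Nat.card (Subgroup.center ↥(Cfsg.SU 3 F q)) ∣ 3 := by
      rw [hcard]; exact Nat.gcd_dvd_left 3 (q + 1)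
    have h2 : ∀ n : ℕ, Nat.card (Subgroup.center ↥(Cfsg.SU 3 F q)) ∣ n →
        (⟨embU hF A, hmem⟩ : Subgroup.center ↥(Cfsg.SU 3 F q)) ^ n = 1 := by
      rintro n ⟨c, rfl⟩
      rw [pow_mul, h1, one_pow]
    exact congrArg Subtype.val (h2 3 hd)
  have h3' : A ^ 3 = 1 := by
    apply embU_injective hF
    rw [map_pow, h3, map_one]
  have d1 := orderOf_dvd_of_pow_eq_one h3'
  have d2 := orderOf_dvd_of_pow_eq_one hA
  have hcop : Nat.Coprime 3 (2 ^ k) := Nat.Coprime.pow_right k (by norm_num)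
  exact orderOf_eq_one_iff.mp (Nat.eq_one_of_dvd_coprimes hcop d1 d2)

theorem psiU_injOn (hF : Fintype.card F = q ^ 2) (P : Subgroup ↥(Cfsg.GU 2 F q))
    (hP : IsPGroup 2 P) : Function.Injective ((psiU hF).comp P.subtype) := by
  rw [injective_iff_map_eq_one]
  intro a ha
  obtain ⟨k, hk⟩ := hP a
  apply Subtype.ext
  rw [Subgroup.coe_one]
  apply eq_one_of_psiU_eq_one hF (a : ↥(Cfsg.GU 2 F q)) k _ ha
  have := congrArg Subtype.val hk
  simpa using this

/-- the image of a 2-subgroup under `psiU` is isomorphic to it -/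
noncomputable def psiUEquiv (hF : Fintype.card F = q ^ 2) (P : Subgroup ↥(Cfsg.GU 2 F q))
    (hP : IsPGroup 2 P) : ↥P ≃* ↥(P.map (psiU hF)) :=
  (MonoidHom.ofInjective (psiU_injOn hF P hP)).trans
    (MulEquiv.subgroupCongr (by rw [MonoidHom.range_comp, Subgroup.range_subtype]))

theorem fact2_card_PSU3 (hF : Fintype.card F = q ^ 2) (hodd : Odd q) :
    (Nat.card (Cfsg.PSU 3 F q)).factorization 2 =
      (Nat.card ↥(Cfsg.GU 2 F q)).factorization 2 := by
  classical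
  have hq : 2 ≤ q := herm_two_le hF
  have h1 := Cfsg.Agent.Lib.Helper18.SU3Model.card_SU3 hF
  have h2 := Cfsg.Agent.Lib.Helper13.card_GU2 hF
  have h3 := card_center_SU hF 3 (by norm_num)
  have h4 := Subgroup.card_eq_card_quotient_mul_card_subgroup
    (Subgroup.center ↥(Cfsg.SU 3 F q))
  rw [h1, h3] at h4
  have h4' : q ^ 3 * ((q ^ 2 - 1) * (q ^ 3 + 1)) = Nat.card (Cfsg.PSU 3 F q) * Nat.gcd 3 (q + 1) :=
    h4
  obtain ⟨r, hr⟩ : ∃ r, q = r + 2 := ⟨q - 2, by omega⟩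
  have e1 : q ^ 3 + 1 = (q + 1) * (q ^ 2 - q + 1) := by
    rw [hr]
    have : (r + 2) ^ 2 - (r + 2) = (r + 2) * (r + 1) := by
      rw [Nat.sub_eq_iff_eq_add (by nlinarith)]
      ring
    rw [this]; ring
  have key : Nat.card (Cfsg.PSU 3 F q) * Nat.gcd 3 (q + 1) =
      (q ^ 2 * (q ^ 2 - q + 1)) * Nat.card ↥(Cfsg.GU 2 F q) := by
    rw [← h4', h2, e1]; ring
  have hG0 : Nat.card (Cfsg.PSU 3 F q) ≠ 0 := Nat.card_pos.ne'
  have hL0 : Nat.card ↥(Cfsg.GU 2 F q) ≠ 0 := Nat.card_pos.ne'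
  have hg0 : Nat.gcd 3 (q + 1) ≠ 0 := by
    intro h; rw [Nat.gcd_eq_zero_iff] at h; omega
  have hgodd : ¬ 2 ∣ Nat.gcd 3 (q + 1) := by
    intro h
    have := Nat.dvd_trans h (Nat.gcd_dvd_left 3 (q + 1))
    omega
  have hc0 : q ^ 2 * (q ^ 2 - q + 1) ≠ 0 := by positivity
  have hcodd : ¬ 2 ∣ q ^ 2 * (q ^ 2 - q + 1) := by
    obtain ⟨s, hs⟩ := hodd
    rw [Nat.Prime.dvd_mul Nat.prime_two]
    rintro (h | h)
    · have := Nat.Prime.dvd_of_dvd_pow Nat.prime_two h
      omega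
    · rw [hs] at h
      have : (2 * s + 1) ^ 2 - (2 * s + 1) + 1 = 2 * (2 * s ^ 2 + s) + 1 := by
        have : (2 * s + 1) ^ 2 - (2 * s + 1) = 2 * (2 * s ^ 2 + s) := by
          rw [Nat.sub_eq_iff_eq_add (by nlinarith)]
          ring
        rw [this]
      rw [this] at h
      omega
  have h5 := congrArg (fun n : ℕ => n.factorization 2) key
  beta_reduce at h5
  rw [Nat.factorization_mul hG0 hg0, Nat.factorization_mul hc0 hL0] at h5
  simp only [Finsupp.coe_add, Pi.add_apply] at h5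
  rw [Nat.factorization_eq_zero_of_not_dvd hgodd, Nat.factorization_eq_zero_of_not_dvd hcodd,
    zero_add, add_zero] at h5
  exact h5

/-- `PSU(3, q)` has no subgroup of index two -/
theorem no_index_two (hF : Fintype.card F = q ^ 2) (hodd : Odd q) (H : Subgroup (Cfsg.PSU 3 F q)) :
    H.index ≠ 2 := by
  classical
  intro hH
  have hs := Cfsg.Agent.Lib.Helper5.PSUSimple.isSimpleGroup_PSU (F := F) (q := q) (n := 3) hF
    (le_refl 3) (by
      rintro ⟨-, h2⟩
      obtain ⟨s, hs⟩ := hodd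
      omega)
  have hn : H.Normal := Subgroup.normal_of_index_eq_two hH
  rcases hn.eq_bot_or_eq_top with h | h
  · -- `|G| = 2`, impossible since `G` is not commutative
    rw [h, Subgroup.index_bot] at hH
    have : IsCyclic (Cfsg.PSU 3 F q) := isCyclic_of_prime_card (p := 2) hH
    have hcomm : ∀ a b : Cfsg.PSU 3 F q, a * b = b * a := fun a b =>
      (IsCyclic.commGroup (α := Cfsg.PSU 3 F q)).mul_comm a b
    -- a simple commutative group of order 2 has a Sylow 2-subgroup of order 2, but `4 ∣ |G|`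
    have h4 : 4 ∣ Nat.card (Cfsg.PSU 3 F q) := by
      have hf := fact2_card_PSU3 hF hodd
      have hq : 2 ≤ q := herm_two_le hF
      have h2 := Cfsg.Agent.Lib.Helper13.card_GU2 hF
      have hdvd : 4 ∣ Nat.card ↥(Cfsg.GU 2 F q) := by
        rw [h2]
        obtain ⟨s, hs⟩ := hodd
        have : (q + 1) = 2 * (s + 1) := by omega
        have h3 : 2 ∣ q ^ 2 - 1 := by
          rw [hs]
          have : (2 * s + 1) ^ 2 - 1 = 2 * (2 * s ^ 2 + 2 * s) := by
            rw [Nat.sub_eq_iff_eq_add (Nat.one_le_pow _ _ (by omega))]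
            ring
          rw [this]; exact Dvd.intro _ rfl
        obtain ⟨c, hc⟩ := h3
        rw [this, hc]
        exact ⟨q * ((s + 1) * c), by ring⟩
      have h5 : 2 ≤ (Nat.card ↥(Cfsg.GU 2 F q)).factorization 2 := by
        rw [← Nat.Prime.pow_dvd_iff_le_factorization Nat.prime_two Nat.card_pos.ne']
        exact hdvd
      rw [← hf] at h5
      have := (Nat.Prime.pow_dvd_iff_le_factorization Nat.prime_two Nat.card_pos.ne').mpr h5
      simpa using this
    rw [hH] at h4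
    omega
  · rw [h, Subgroup.index_top] at hH
    omega

end Cfsg.Agent.Lib.Helper16.FusPSU3

namespace Cfsg.Agent.Lib.Helper16.FusPSU3

open Matrix Cfsg Cfsg.Agent.Lib.Helper14

variable {F : Type*} [Field F] [Fintype F] {q : ℕ}

theorem main (hF : Fintype.card F = q ^ 2) (hodd : q % 2 = 1) (S : Sylow 2 (Cfsg.PSU 3 F q)) :
    (Cfsg.groupFusionSystem (S : Subgroup (Cfsg.PSU 3 F q))).IsSimple 2 := by
  classical
  have hodd' : Odd q := Nat.odd_iff.mpr hodd
  have hG := no_index_two hF hodd'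
  obtain ⟨P⟩ := (inferInstance : Nonempty (Sylow 2 ↥(Cfsg.GU 2 F q)))
  have hPp : IsPGroup 2 ↥(P : Subgroup ↥(Cfsg.GU 2 F q)) := P.2
  have hcard : Nat.card ((P : Subgroup ↥(Cfsg.GU 2 F q)).map (psiU hF)) =
      2 ^ (Nat.card (Cfsg.PSU 3 F q)).factorization 2 := by
    rw [← Nat.card_congr (psiUEquiv hF (P : Subgroup ↥(Cfsg.GU 2 F q)) hPp).toEquiv,
      Sylow.card_eq_multiplicity, fact2_card_PSU3 hF hodd']
  let P₀ : Sylow 2 (Cfsg.PSU 3 F q) := Sylow.ofCard _ hcard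
  have e : ↥(P : Subgroup ↥(Cfsg.GU 2 F q)) ≃* ↥(S : Subgroup (Cfsg.PSU 3 F q)) :=
    (psiUEquiv hF (P : Subgroup ↥(Cfsg.GU 2 F q)) hPp).trans (Sylow.equiv P₀ S)
  have h4 : q % 4 = 1 ∨ q % 4 = 3 := by omega
  rcases h4 with h4 | h4
  · have hQD := (Cfsg.Agent.S1218.result q hF hodd' P).1 h4
    exact Cfsg.Agent.Lib.Helper16.FusQDWr.isSimple_of_isQD S
      (Cfsg.Agent.Lib.Helper18.isQuasiDihedral_of_mulEquiv e hQD) hG
  · have hW := (Cfsg.Agent.S1218.result q hF hodd' P).2 h4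
    exact Cfsg.Agent.Lib.Helper16.FusQDWr.isSimple_of_isWreathed S
      (Cfsg.Agent.Lib.Helper18.isWreathed_of_mulEquiv e hW) hG

end Cfsg.Agent.Lib.Helper16.FusPSU3
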