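import Mathlib
import Cfsg.Agent.Lib.Helper18.PSpAutE

set_option autoImplicit false

/-! Block calculus in `Sp_{2m}(F)` for the fusion system of `PSp_{2m}(F)` in the defining
characteristic: Levi elements, the Siegel unipotent radical and its opposite, a triangularity
criterion for elements normalizing the standard maximal unipotent subgroup. -/

namespace Cfsg.Agent.Lib.Helper16.FusSp

open Matrix Cfsg.Agent.Lib.Helper18.PSpAut

open Cfsg.Agent.Lib.Helper18.PSLnAut (IsUni)

variable {m : ℕ} {F : Type*} [Field F]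

/-- a triangularity criterion: if for every consecutive pair `(i, a)` of indices (with respect to
the rank function `r`) there are a matrix `t` whose `i`-th row is `e_i + e_a` and a
unitriangular matrix `u` with `s * u = t * s`, then `s` is upper triangular. -/
theorem upper_of_conj {ι : Type*} [Fintype ι] [DecidableEq ι] (r : ι → ℕ)
    (hr : Function.Injective r) (hpred : ∀ a, r a ≠ 0 → ∃ i, r i + 1 = r a)
    (s : Matrix ι ι F)
    (h : ∀ i a, r i + 1 = r a → ∃ t u : Matrix ι ι F, s * u = t * s ∧
      (∀ c, t i c = if c = i ∨ c = a then 1 else 0) ∧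
      (∀ c b, r b < r c → u c b = 0) ∧ ∀ b, u b b = 1) :
    ∀ a b, r b < r a → s a b = 0 := by
  have key : ∀ n : ℕ, ∀ b : ι, r b = n → ∀ a : ι, r b < r a → s a b = 0 := by
    intro n
    induction n using Nat.strong_induction_on with
    | _ n ih =>
      intro b hb a hba
      obtain ⟨i, hi⟩ := hpred a (by omega)
      obtain ⟨t, u, e, ht, hu1, hu2⟩ := h i a hi
      have hia : i ≠ a := by
        intro h'
        rw [h'] at hi
        omega
      have e' := congrFun (congrFun e i) b
      have hL : (s * u) i b = s i b := by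
        rw [Matrix.mul_apply, Finset.sum_eq_single b]
        · rw [hu2, mul_one]
        · intro c _ hc
          have hc' : r c ≠ r b := fun h' => hc (hr h')
          rcases lt_or_gt_of_ne hc' with h1 | h1
          · have h2 : s i c = 0 := ih (r c) (by omega) c rfl i (by omega)
            rw [h2, zero_mul]
          · rw [hu1 c b h1, mul_zero]
        · intro h'
          exact absurd (Finset.mem_univ b) h'
      have hR : (t * s) i b = s i b + s a b := by
        rw [Matrix.mul_apply, Finset.sum_eq_add_of_mem i a (Finset.mem_univ _) (Finset.mem_univ _) hia]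
        · rw [ht i, ht a, if_pos (Or.inl rfl), if_pos (Or.inr rfl), one_mul, one_mul]
        · intro c _ hc
          rw [ht c, if_neg (by tauto), zero_mul]
      rw [hL, hR] at e'
      exact (left_eq_add.mp e')
  intro a b hba
  exact key (r b) b rfl a hba

/-! ### Levi elements -/

/-- the Levi element `[[A,0],[0,A⁻ᵀ]]` -/
def ell (A : GL (Fin m) F) : symplecticGroup (Fin m) F :=
  levi (A : Matrix (Fin m) (Fin m) F) ((A⁻¹ : GL (Fin m) F) : Matrix (Fin m) (Fin m) F)ᵀ (by
    rw [← Matrix.transpose_mul, ← Units.val_mul, inv_mul_cancel, Units.val_one,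
      Matrix.transpose_one])

theorem ell_coe (A : GL (Fin m) F) :
    ((ell A : symplecticGroup (Fin m) F) : Matrix (Fin m ⊕ Fin m) (Fin m ⊕ Fin m) F) =
      fromBlocks (A : Matrix (Fin m) (Fin m) F) 0 0
        ((A⁻¹ : GL (Fin m) F) : Matrix (Fin m) (Fin m) F)ᵀ := rfl

/-- `ell` as a homomorphism -/
def ellHom : GL (Fin m) F →* symplecticGroup (Fin m) F where
  toFun := ell
  map_one' := by
    apply Subtype.ext
    rw [ell_coe, inv_one, Units.val_one, Matrix.transpose_one, fromBlocks_one]
    rfl
  map_mul' A B := by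
    apply Subtype.ext
    show _ = ((ell A : symplecticGroup (Fin m) F) : Matrix (Fin m ⊕ Fin m) (Fin m ⊕ Fin m) F) *
      ((ell B : symplecticGroup (Fin m) F) : Matrix (Fin m ⊕ Fin m) (Fin m ⊕ Fin m) F)
    rw [ell_coe, ell_coe, ell_coe, fromBlocks_multiply, _root_.mul_inv_rev, Units.val_mul, Units.val_mul,
      Matrix.transpose_mul]
    simp

theorem ellHom_apply (A : GL (Fin m) F) : ellHom A = ell A := rfl

/-- the Siegel unipotent element `[[1,S],[0,1]]` is multiplicative in `S` -/
theorem symU_mul (S S' : Matrix (Fin m) (Fin m) F) (hS : Sᵀ = S) (hS' : S'ᵀ = S') :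
    symU S hS * symU S' hS' = symU (S + S') (by rw [Matrix.transpose_add, hS, hS']) := by
  apply Subtype.ext
  show fromBlocks 1 S 0 1 * fromBlocks 1 S' 0 1 = fromBlocks 1 (S + S') 0 1
  rw [fromBlocks_multiply]
  simp [add_comm]

theorem symU_zero : symU (0 : Matrix (Fin m) (Fin m) F) (Matrix.transpose_zero) = 1 := by
  apply Subtype.ext
  show fromBlocks 1 0 0 1 = (1 : Matrix (Fin m ⊕ Fin m) (Fin m ⊕ Fin m) F)
  exact fromBlocks_one

theorem symU_congr {S S' : Matrix (Fin m) (Fin m) F} (h : S = S') (hS : Sᵀ = S) (hS' : S'ᵀ = S') :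
    symU S hS = symU S' hS' := by
  subst h
  rfl

theorem symU_inv (S : Matrix (Fin m) (Fin m) F) (hS : Sᵀ = S) :
    (symU S hS)⁻¹ = symU (-S) (by rw [Matrix.transpose_neg, hS]) := by
  rw [inv_eq_iff_mul_eq_one, symU_mul, ← symU_zero]
  exact symU_congr (by rw [add_neg_cancel]) _ _

theorem symU_coe (S : Matrix (Fin m) (Fin m) F) (hS : Sᵀ = S) :
    ((symU S hS : symplecticGroup (Fin m) F) : Matrix (Fin m ⊕ Fin m) (Fin m ⊕ Fin m) F) =
      fromBlocks 1 S 0 1 := rfl

/-- conjugating a Siegel unipotent element by an element with zero lower left block -/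
theorem mul_symU_of_block {g : symplecticGroup (Fin m) F} {A B D : Matrix (Fin m) (Fin m) F}
    (hg : (g : Matrix (Fin m ⊕ Fin m) (Fin m ⊕ Fin m) F) = fromBlocks A B 0 D)
    (S : Matrix (Fin m) (Fin m) F) (hS : Sᵀ = S) :
    g * symU S hS = symU (A * S * Aᵀ) (by
      rw [Matrix.transpose_mul, Matrix.transpose_mul, Matrix.transpose_transpose, hS,
        Matrix.mul_assoc]) * g := by
  have h2 := g.2
  rw [hg, SymplecticGroup.fromBlocks_mem_iff] at h2
  obtain ⟨-, -, h4⟩ := h2
  rw [Matrix.transpose_zero, Matrix.zero_mul, sub_zero] at h4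
  apply Subtype.ext
  show (g : Matrix (Fin m ⊕ Fin m) (Fin m ⊕ Fin m) F) * fromBlocks 1 S 0 1 =
    fromBlocks 1 (A * S * Aᵀ) 0 1 * (g : Matrix (Fin m ⊕ Fin m) (Fin m ⊕ Fin m) F)
  rw [hg, fromBlocks_multiply, fromBlocks_multiply]
  congr 1
  · simp
  · rw [Matrix.mul_one, Matrix.one_mul, Matrix.mul_assoc, h4, Matrix.mul_one, add_comm]
  · simp
  · simp

/-! ### the opposite Siegel unipotent elements -/

/-- `[[1,0],[C,1]]` -/
def symL (C : Matrix (Fin m) (Fin m) F) (hC : Cᵀ = C) : symplecticGroup (Fin m) F :=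
  ⟨fromBlocks 1 0 C 1, by
    rw [SymplecticGroup.fromBlocks_mem_iff]
    refine ⟨by simp [hC], by simp, by simp⟩⟩

theorem symL_coe (C : Matrix (Fin m) (Fin m) F) (hC : Cᵀ = C) :
    ((symL C hC : symplecticGroup (Fin m) F) : Matrix (Fin m ⊕ Fin m) (Fin m ⊕ Fin m) F) =
      fromBlocks 1 0 C 1 := rfl

theorem symL_mul (C C' : Matrix (Fin m) (Fin m) F) (hC : Cᵀ = C) (hC' : C'ᵀ = C') :
    symL C hC * symL C' hC' = symL (C + C') (by rw [Matrix.transpose_add, hC, hC']) := by
  apply Subtype.ext
  show fromBlocks 1 0 C 1 * fromBlocks 1 0 C' 1 = fromBlocks 1 0 (C + C') 1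
  rw [fromBlocks_multiply]
  simp

theorem symL_zero : symL (0 : Matrix (Fin m) (Fin m) F) (Matrix.transpose_zero) = 1 := by
  apply Subtype.ext
  show fromBlocks 1 0 0 1 = (1 : Matrix (Fin m ⊕ Fin m) (Fin m ⊕ Fin m) F)
  exact fromBlocks_one

theorem symL_congr {C C' : Matrix (Fin m) (Fin m) F} (h : C = C') (hC : Cᵀ = C) (hC' : C'ᵀ = C') :
    symL C hC = symL C' hC' := by
  subst h
  rfl

theorem symL_inv (C : Matrix (Fin m) (Fin m) F) (hC : Cᵀ = C) :
    (symL C hC)⁻¹ = symL (-C) (by rw [Matrix.transpose_neg, hC]) := by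
  rw [inv_eq_iff_mul_eq_one, symL_mul, ← symL_zero]
  exact symL_congr (by rw [add_neg_cancel]) _ _

theorem single_add_single_transpose (i j : Fin m) (c : F) :
    (Matrix.single i j c + Matrix.single j i c)ᵀ = Matrix.single i j c + Matrix.single j i c := by
  rw [Matrix.transpose_add, Matrix.transpose_single, Matrix.transpose_single, add_comm]

/-- conjugating the short root element `x_{e_i+e_j}(c)` by the negative long root element
`x_{-2e_j}(d)`: the matrix of the result -/
theorem symL_conj_symU_coe {i j : Fin m} (hij : i ≠ j) (c d : F) :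
    ((symL (Matrix.single j j d) (Matrix.transpose_single j j d) *
      symU (Matrix.single i j c + Matrix.single j i c) (single_add_single_transpose i j c) *
      (symL (Matrix.single j j d) (Matrix.transpose_single j j d))⁻¹ : symplecticGroup (Fin m) F) :
        Matrix (Fin m ⊕ Fin m) (Fin m ⊕ Fin m) F) =
      fromBlocks (1 - Matrix.single i j (c * d)) (Matrix.single i j c + Matrix.single j i c) 0
        (1 + Matrix.single j i (c * d)) := by
  obtain ⟨W, hW⟩ : ∃ W, W = symL (Matrix.single j j d) (Matrix.transpose_single j j d) *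
      symU (Matrix.single i j c + Matrix.single j i c) (single_add_single_transpose i j c) *
      (symL (Matrix.single j j d) (Matrix.transpose_single j j d))⁻¹ := ⟨_, rfl⟩
  rw [← hW]
  have e : W * symL (Matrix.single j j d) (Matrix.transpose_single j j d) =
      symL (Matrix.single j j d) (Matrix.transpose_single j j d) *
      symU (Matrix.single i j c + Matrix.single j i c) (single_add_single_transpose i j c) := by
    rw [hW]; group
  have e2 : W = symL (Matrix.single j j d) (Matrix.transpose_single j j d) *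
      symU (Matrix.single i j c + Matrix.single j i c) (single_add_single_transpose i j c) *
      symL (-Matrix.single j j d) (by rw [Matrix.transpose_neg, Matrix.transpose_single]) := by
    rw [hW, symL_inv]
  rw [e2]
  show fromBlocks 1 0 (Matrix.single j j d) 1 *
    fromBlocks 1 (Matrix.single i j c + Matrix.single j i c) 0 1 *
    fromBlocks 1 0 (-Matrix.single j j d) 1 = _
  rw [fromBlocks_multiply, fromBlocks_multiply]
  have h1 : Matrix.single j i c * Matrix.single j j d = (0 : Matrix (Fin m) (Fin m) F) :=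
    Matrix.single_mul_single_of_ne _ _ _ _ hij _
  have h2 : Matrix.single j j d * Matrix.single i j c = (0 : Matrix (Fin m) (Fin m) F) :=
    Matrix.single_mul_single_of_ne _ _ _ _ (Ne.symm hij) _
  have h3 : Matrix.single i j c * Matrix.single j j d = Matrix.single i j (c * d) :=
    Matrix.single_mul_single_same _ _ _ _ _
  have h4 : Matrix.single j j d * Matrix.single j i c = Matrix.single j i (d * c) :=
    Matrix.single_mul_single_same _ _ _ _ _
  have h5 : Matrix.single j i (d * c) * Matrix.single j j d = (0 : Matrix (Fin m) (Fin m) F) :=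
    Matrix.single_mul_single_of_ne _ _ _ _ hij _
  congr 1
  · simp only [Matrix.mul_one, Matrix.one_mul, Matrix.mul_zero, Matrix.zero_mul, add_zero,
      Matrix.mul_neg, Matrix.add_mul, h1, h3]
    rw [sub_eq_add_neg]
  · simp only [Matrix.mul_one, Matrix.one_mul, Matrix.mul_zero, Matrix.zero_mul, add_zero, zero_add]
  · simp only [Matrix.mul_one, Matrix.one_mul, Matrix.mul_zero, Matrix.zero_mul, add_zero,
      Matrix.mul_neg, Matrix.mul_add, Matrix.add_mul, h2, h4, h5, zero_add, neg_zero]
    rw [add_neg_cancel]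
  · simp only [Matrix.mul_one, Matrix.one_mul, Matrix.mul_zero, Matrix.zero_mul, add_zero,
      Matrix.mul_add, h2, h4, zero_add, mul_comm d c]
    rw [add_comm]

/-! ### the shape of the elements of `spU` and of its normalizer -/

/-- the lower right block of an element of `spU` is lower unitriangular -/
theorem spU_D [Finite F] {g : symplecticGroup (Fin m) F} (hg : g ∈ spU m F) :
    (∀ a b : Fin m, a < b →
      (g : Matrix (Fin m ⊕ Fin m) (Fin m ⊕ Fin m) F).toBlocks₂₂ a b = 0) ∧
    ∀ a : Fin m, (g : Matrix (Fin m ⊕ Fin m) (Fin m ⊕ Fin m) F).toBlocks₂₂ a a = 1 := by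
  obtain ⟨A, B, D, hgb, hA, -, hAD⟩ := spU_blocks hg
  obtain ⟨A', B', D', hgb', hA', -, -⟩ := spU_blocks ((spU m F).inv_mem hg)
  have h1 : ((g⁻¹ * g : symplecticGroup (Fin m) F) :
      Matrix (Fin m ⊕ Fin m) (Fin m ⊕ Fin m) F) = 1 := by
    rw [inv_mul_cancel]; rfl
  have h2 : ((g⁻¹ * g : symplecticGroup (Fin m) F) :
      Matrix (Fin m ⊕ Fin m) (Fin m ⊕ Fin m) F) =
      (g⁻¹ : symplecticGroup (Fin m) F).1 * g.1 := rfl
  rw [h2, hgb, hgb', fromBlocks_multiply, ← fromBlocks_one, fromBlocks_inj] at h1
  have h3 : A' * A = 1 := by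
    have := h1.1
    rwa [Matrix.mul_zero, add_zero] at this
  have h4 : Aᵀ * A'ᵀ = 1 := by
    rw [← Matrix.transpose_mul, h3, Matrix.transpose_one]
  have h5 : A'ᵀ * Aᵀ = 1 := mul_eq_one_comm.mp h4
  have h6 : D = A'ᵀ := by
    calc D = (A'ᵀ * Aᵀ) * D := by rw [h5, Matrix.one_mul]
      _ = A'ᵀ * (Aᵀ * D) := by rw [Matrix.mul_assoc]
      _ = A'ᵀ := by rw [hAD, Matrix.mul_one]
  rw [hgb, toBlocks_fromBlocks₂₂, h6]
  constructor
  · intro a b hab
    rw [Matrix.transpose_apply]
    exact hA'.1 b a hab
  · intro a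
    rw [Matrix.transpose_apply]
    exact hA'.2 a

/-- the rank function of the order `e_0 < ⋯ < e_{m-1} < f_{m-1} < ⋯ < f_0` -/
def rk : Fin m ⊕ Fin m → ℕ
  | Sum.inl i => i.val
  | Sum.inr i => 2 * m - 1 - i.val

theorem rk_inl (i : Fin m) : rk (Sum.inl i : Fin m ⊕ Fin m) = i.val := rfl

theorem rk_inr (i : Fin m) : rk (Sum.inr i : Fin m ⊕ Fin m) = 2 * m - 1 - i.val := rfl

theorem rk_injective : Function.Injective (rk (m := m)) := by
  intro a b h
  rcases a with a | a <;> rcases b with b | b
  · rw [rk_inl, rk_inl] at h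
    rw [Fin.ext h]
  · rw [rk_inl, rk_inr] at h
    have := a.2
    have := b.2
    omega
  · rw [rk_inl, rk_inr] at h
    have := a.2
    have := b.2
    omega
  · rw [rk_inr, rk_inr] at h
    have := a.2
    have := b.2
    have h' : a.val = b.val := by omega
    rw [Fin.ext h']

theorem rk_pred (a : Fin m ⊕ Fin m) (ha : rk a ≠ 0) : ∃ i : Fin m ⊕ Fin m, rk i + 1 = rk a := by
  rcases a with a | a
  · rw [rk_inl] at ha
    refine ⟨Sum.inl ⟨a.val - 1, by have := a.2; omega⟩, ?_⟩
    rw [rk_inl, rk_inl]
    show a.val - 1 + 1 = a.val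
    omega
  · by_cases h : a.val + 1 < m
    · refine ⟨Sum.inr ⟨a.val + 1, h⟩, ?_⟩
      rw [rk_inr, rk_inr]
      show 2 * m - 1 - (a.val + 1) + 1 = 2 * m - 1 - a.val
      omega
    · refine ⟨Sum.inl a, ?_⟩
      rw [rk_inl, rk_inr]
      have := a.2
      omega

/-- elements of `spU` are upper unitriangular for the order given by `rk` -/
theorem spU_upper [Finite F] {g : symplecticGroup (Fin m) F} (hg : g ∈ spU m F) :
    (∀ c b : Fin m ⊕ Fin m, rk b < rk c →
      (g : Matrix (Fin m ⊕ Fin m) (Fin m ⊕ Fin m) F) c b = 0) ∧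
    ∀ b : Fin m ⊕ Fin m, (g : Matrix (Fin m ⊕ Fin m) (Fin m ⊕ Fin m) F) b b = 1 := by
  have hD := spU_D hg
  have hU := mem_spU.1 hg
  constructor
  · intro c b hbc
    rcases c with c | c <;> rcases b with b | b
    · rw [rk_inl, rk_inl] at hbc
      exact hU.2.1 c b (by rw [Fin.lt_def]; exact hbc)
    · rw [rk_inl, rk_inr] at hbc
      have := c.2
      have := b.2
      omega
    · have := congrFun (congrFun hU.1 c) b
      exact this
    · rw [rk_inr, rk_inr] at hbc
      have := c.2
      have := b.2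
      exact hD.1 c b (by rw [Fin.lt_def]; omega)
  · intro b
    rcases b with b | b
    · exact hU.2.2 b
    · exact hD.2 b

theorem transvection_transpose_mul' {i j : Fin m} (hij : i ≠ j) (c : F) :
    (Matrix.transvection i j c)ᵀ * Matrix.transvection j i (-c) = 1 := by
  have : (Matrix.transvection i j c)ᵀ = Matrix.transvection j i c := by
    unfold Matrix.transvection
    rw [Matrix.transpose_add, Matrix.transpose_one, Matrix.transpose_single]
  rw [this, Matrix.transvection_mul_transvection_same _ _ (Ne.symm hij), add_neg_cancel,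
    Matrix.transvection_zero]

theorem isUni_transvection' [Finite F] {i j : Fin m} (hij : i < j) (c : F) :
    IsUni (Matrix.transvection i j c) :=
  isUni_transvection hij c

/-- the Levi element of an elementary matrix -/
def ellT (i j : Fin m) (hij : i ≠ j) (c : F) : symplecticGroup (Fin m) F :=
  levi (Matrix.transvection i j c) (Matrix.transvection j i (-c)) (transvection_transpose_mul' hij c)

theorem ellT_coe (i j : Fin m) (hij : i ≠ j) (c : F) :
    ((ellT i j hij c : symplecticGroup (Fin m) F) : Matrix (Fin m ⊕ Fin m) (Fin m ⊕ Fin m) F) =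
      fromBlocks (Matrix.transvection i j c) 0 0 (Matrix.transvection j i (-c)) := rfl

theorem ellT_mem_spU [Finite F] {i j : Fin m} (hij : i < j) (c : F) :
    ellT i j (ne_of_lt hij) c ∈ spU m F :=
  levi_mem _ (isUni_transvection hij c)

/-- an element normalizing `spU` is upper triangular for the order given by `rk` -/
theorem upper_of_normalizes [Finite F] (s : symplecticGroup (Fin m) F)
    (h : ∀ u ∈ spU m F, s⁻¹ * u * s ∈ spU m F) :
    ∀ a b : Fin m ⊕ Fin m, rk b < rk a →
      (s : Matrix (Fin m ⊕ Fin m) (Fin m ⊕ Fin m) F) a b = 0 := by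
  apply upper_of_conj rk rk_injective rk_pred
  intro i a hia
  -- it is enough to find an element of `spU` with the right row
  suffices hs : ∃ t ∈ spU m F, ∀ c, (t : Matrix (Fin m ⊕ Fin m) (Fin m ⊕ Fin m) F) i c =
      if c = i ∨ c = a then 1 else 0 by
    obtain ⟨t, ht, hrow⟩ := hs
    have hu := h t ht
    refine ⟨t.1, (s⁻¹ * t * s : symplecticGroup (Fin m) F).1, ?_, hrow, (spU_upper hu).1,
      (spU_upper hu).2⟩
    have e : s * (s⁻¹ * t * s) = t * s := by group
    exact congrArg Subtype.val e
  rcases i with i | i <;> rcases a with a | a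
  · rw [rk_inl, rk_inl] at hia
    have hlt : i < a := by rw [Fin.lt_def]; omega
    refine ⟨ellT i a (ne_of_lt hlt) 1, ellT_mem_spU hlt 1, ?_⟩
    intro c
    rw [ellT_coe]
    rcases c with c | c
    · rw [fromBlocks_apply₁₁, Matrix.transvection, Matrix.add_apply, Matrix.single_apply]
      by_cases h1 : c = i
      · subst h1
        rw [Matrix.one_apply_eq, if_neg (fun hh => (ne_of_lt hlt) hh.2.symm), add_zero,
          if_pos (Or.inl rfl)]
      · rw [Matrix.one_apply_ne (Ne.symm h1), zero_add]
        by_cases h2 : c = a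
        · subst h2
          rw [if_pos ⟨rfl, rfl⟩, if_pos (Or.inr rfl)]
        · rw [if_neg (fun hh => h2 hh.2.symm), if_neg]
          rintro (hh | hh)
          · exact h1 (Sum.inl.inj hh)
          · exact h2 (Sum.inl.inj hh)
    · rw [fromBlocks_apply₁₂, if_neg]
      · rfl
      · rintro (hh | hh) <;> exact absurd hh (by simp)
  · rw [rk_inl, rk_inr] at hia
    have hi := i.2
    have ha := a.2
    have hia' : i = a := Fin.ext (by omega)
    subst hia'
    refine ⟨symU (Matrix.single i i 1) (Matrix.transpose_single i i 1), symU_mem _ _, ?_⟩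
    intro c
    rw [symU_coe]
    rcases c with c | c
    · rw [fromBlocks_apply₁₁]
      by_cases h1 : c = i
      · subst h1
        rw [Matrix.one_apply_eq, if_pos (Or.inl rfl)]
      · rw [Matrix.one_apply_ne (Ne.symm h1), if_neg]
        rintro (hh | hh)
        · exact h1 (Sum.inl.inj hh)
        · exact absurd hh (by simp)
    · rw [fromBlocks_apply₁₂, Matrix.single_apply]
      by_cases h1 : c = i
      · subst h1
        rw [if_pos ⟨rfl, rfl⟩, if_pos (Or.inr rfl)]
      · rw [if_neg (fun hh => h1 hh.2.symm), if_neg]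
        rintro (hh | hh)
        · exact absurd hh (by simp)
        · exact h1 (Sum.inr.inj hh)
  · rw [rk_inr, rk_inl] at hia
    have hi := i.2
    have ha := a.2
    omega
  · rw [rk_inr, rk_inr] at hia
    have hi := i.2
    have ha := a.2
    have hlt : a < i := by rw [Fin.lt_def]; omega
    refine ⟨ellT a i (ne_of_lt hlt) (-1), ellT_mem_spU hlt (-1), ?_⟩
    intro c
    rw [ellT_coe]
    rcases c with c | c
    · rw [fromBlocks_apply₂₁, if_neg]
      · rfl
      · rintro (hh | hh) <;> exact absurd hh (by simp)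
    · rw [fromBlocks_apply₂₂, neg_neg, Matrix.transvection, Matrix.add_apply, Matrix.single_apply]
      by_cases h1 : c = i
      · subst h1
        rw [Matrix.one_apply_eq, if_neg (fun hh => (ne_of_lt hlt) hh.2), add_zero,
          if_pos (Or.inl rfl)]
      · rw [Matrix.one_apply_ne (Ne.symm h1), zero_add]
        by_cases h2 : c = a
        · subst h2
          rw [if_pos ⟨rfl, rfl⟩, if_pos (Or.inr rfl)]
        · rw [if_neg (fun hh => h2 hh.2.symm), if_neg]
          rintro (hh | hh)
          · exact h1 (Sum.inr.inj hh)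
          · exact h2 (Sum.inr.inj hh)

/-! ### the torus -/

/-- diagonal matrices in `GL` -/
def dgl : (Fin m → Fˣ) →* GL (Fin m) F where
  toFun t := ⟨Matrix.diagonal (fun k => ((t k : Fˣ) : F)),
    Matrix.diagonal (fun k => (((t k)⁻¹ : Fˣ) : F)),
    by rw [Matrix.diagonal_mul_diagonal]; simp, by rw [Matrix.diagonal_mul_diagonal]; simp⟩
  map_one' := by
    apply Units.ext
    simp
  map_mul' s t := by
    apply Units.ext
    simp [Matrix.diagonal_mul_diagonal]

theorem dgl_coe (t : Fin m → Fˣ) :
    ((dgl t : GL (Fin m) F) : Matrix (Fin m) (Fin m) F) =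
      Matrix.diagonal (fun k => ((t k : Fˣ) : F)) := rfl

/-- the torus of `Sp` -/
def dg : (Fin m → Fˣ) →* symplecticGroup (Fin m) F := ellHom.comp dgl

theorem dg_coe (t : Fin m → Fˣ) :
    ((dg t : symplecticGroup (Fin m) F) : Matrix (Fin m ⊕ Fin m) (Fin m ⊕ Fin m) F) =
      fromBlocks (Matrix.diagonal (fun k => ((t k : Fˣ) : F))) 0 0
        (Matrix.diagonal (fun k => (((t k)⁻¹ : Fˣ) : F))) := by
  show ((ell (dgl t) : symplecticGroup (Fin m) F) :
    Matrix (Fin m ⊕ Fin m) (Fin m ⊕ Fin m) F) = _
  rw [ell_coe, ← map_inv, dgl_coe, dgl_coe, Matrix.diagonal_transpose]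
  rfl

/-- upper triangular symplectic matrices are products of torus elements and elements of `spU` -/
theorem upper_mem [Finite F] (H : Subgroup (symplecticGroup (Fin m) F)) (hU : spU m F ≤ H)
    (hD : ∀ t : Fin m → Fˣ, dg t ∈ H) (s : symplecticGroup (Fin m) F)
    (hs : ∀ a b : Fin m ⊕ Fin m, rk b < rk a →
      (s : Matrix (Fin m ⊕ Fin m) (Fin m ⊕ Fin m) F) a b = 0) : s ∈ H := by
  obtain ⟨A, B, C, D, hsb⟩ : ∃ A B C D, (s : Matrix (Fin m ⊕ Fin m) (Fin m ⊕ Fin m) F) =
      fromBlocks A B C D := ⟨_, _, _, _, (fromBlocks_toBlocks _).symm⟩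
  have hC : C = 0 := by
    ext a b
    have := hs (Sum.inr a) (Sum.inl b) (by
      rw [rk_inl, rk_inr]
      have := a.2
      have := b.2
      omega)
    rw [hsb, fromBlocks_apply₂₁] at this
    exact this
  subst hC
  have hA : ∀ a b : Fin m, b < a → A a b = 0 := by
    intro a b hba
    have := hs (Sum.inl a) (Sum.inl b) (by rw [rk_inl, rk_inl]; exact hba)
    rw [hsb, fromBlocks_apply₁₁] at this
    exact this
  have h2 := s.2
  rw [hsb, SymplecticGroup.fromBlocks_mem_iff] at h2
  obtain ⟨-, -, h4⟩ := h2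
  rw [Matrix.transpose_zero, Matrix.zero_mul, sub_zero] at h4
  have hdet : A.det ≠ 0 := by
    intro h0
    have := congrArg Matrix.det h4
    rw [Matrix.det_mul, Matrix.det_transpose, h0, zero_mul, Matrix.det_one] at this
    exact zero_ne_one this
  have htri : A.BlockTriangular id := by
    intro a b hba
    exact hA a b hba
  rw [Matrix.det_of_upperTriangular htri, Finset.prod_ne_zero_iff] at hdet
  let t : Fin m → Fˣ := fun k => Units.mk0 (A k k) (hdet k (Finset.mem_univ k))
  have hmem : (dg t)⁻¹ * s ∈ spU m F := by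
    rw [mem_spU]
    have e : (((dg t)⁻¹ * s : symplecticGroup (Fin m) F) :
        Matrix (Fin m ⊕ Fin m) (Fin m ⊕ Fin m) F) =
        ((dg t⁻¹ : symplecticGroup (Fin m) F) : Matrix (Fin m ⊕ Fin m) (Fin m ⊕ Fin m) F) *
          (s : Matrix (Fin m ⊕ Fin m) (Fin m ⊕ Fin m) F) := by
      rw [map_inv]; rfl
    rw [e, dg_coe, hsb, fromBlocks_multiply, isSpU_fromBlocks]
    refine ⟨by simp, ?_, ?_⟩
    · intro a b hba
      rw [Matrix.zero_mul, add_zero, Matrix.diagonal_mul, hA a b hba, mul_zero]
    · intro a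
      rw [Matrix.zero_mul, add_zero, Matrix.diagonal_mul]
      show (((t⁻¹) a : Fˣ) : F) * A a a = 1
      rw [Pi.inv_apply, Units.val_inv_eq_inv_val]
      exact inv_mul_cancel₀ (hdet a (Finset.mem_univ a))
  have e : s = dg t * ((dg t)⁻¹ * s) := by group
  rw [e]
  exact H.mul_mem (hD t) (hU hmem)

/-- the torus is generated by the coroot elements of the simple roots -/
theorem dg_mem (H : Subgroup (symplecticGroup (Fin m) F))
    (hlast : ∀ il : Fin m, il.val + 1 = m → ∀ a : Fˣ, dg (Pi.mulSingle il a) ∈ H)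
    (hshort : ∀ k k' : Fin m, k.val + 1 = k'.val → ∀ a : Fˣ,
      dg (Pi.mulSingle k a * Pi.mulSingle k' a⁻¹) ∈ H) (t : Fin m → Fˣ) : dg t ∈ H := by
  have key : ∀ n : ℕ, ∀ k : Fin m, k.val + n + 1 = m → ∀ a : Fˣ, dg (Pi.mulSingle k a) ∈ H := by
    intro n
    induction n with
    | zero =>
      intro k hk a
      exact hlast k (by omega) a
    | succ n ih =>
      intro k hk a
      let k' : Fin m := ⟨k.val + 1, by omega⟩
      have h1 := hshort k k' rfl a
      have h2 := ih k' (by show k.val + 1 + n + 1 = m; omega) a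
      have e : (Pi.mulSingle k a : Fin m → Fˣ) =
          (Pi.mulSingle k a * Pi.mulSingle k' a⁻¹) * Pi.mulSingle k' a := by
        rw [mul_assoc, ← Pi.mulSingle_mul, inv_mul_cancel, Pi.mulSingle_one, mul_one]
      rw [e, map_mul]
      exact H.mul_mem h1 h2
  have e : t = ∏ k, Pi.mulSingle k (t k) := (Finset.univ_prod_mulSingle t).symm
  have h : t ∈ H.comap dg := by
    rw [e]
    apply Subgroup.prod_mem
    intro k _
    exact key (m - k.val - 1) k (by have := k.2; omega) (t k)
  exact h

end Cfsg.Agent.Lib.Helper16.FusSp
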