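import Mathlib
import Cfsg.Agent.Lib.Helper16.FusSpA
import Cfsg.Agent.Lib.Helper16.FusPSLnA

set_option autoImplicit false

/-! The unipotent radicals of the minimal parabolic subgroups of `Sp_{2m}(F)` containing the
standard Borel subgroup: normalizers, centralizers, and the coroot elements of the simple roots as
products of root elements. -/

namespace Cfsg.Agent.Lib.Helper16.FusSp

open Matrix Cfsg.Agent.Lib.Helper18.PSpAut

open Cfsg.Agent.Lib.Helper18.PSLnAut (IsUni unitri mem_unitri)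

variable {m : ℕ} {F : Type*} [Field F]

/-! ### kernels of additive functionals on a subgroup -/

section kerOn

variable {G : Type*} [Group G] {A : Type*} [AddCommGroup A]

/-- the kernel of a function which is additive on the subgroup `U` -/
def kerOn (U : Subgroup G) (φ : G → A) (hφ : ∀ u ∈ U, ∀ v ∈ U, φ (u * v) = φ u + φ v) :
    Subgroup G where
  carrier := {u | u ∈ U ∧ φ u = 0}
  one_mem' := by
    refine ⟨U.one_mem, ?_⟩
    have := hφ 1 U.one_mem 1 U.one_mem
    rw [mul_one] at this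
    exact left_eq_add.mp this
  mul_mem' := by
    rintro a b ⟨ha, ha0⟩ ⟨hb, hb0⟩
    exact ⟨U.mul_mem ha hb, by rw [hφ a ha b hb, ha0, hb0, add_zero]⟩
  inv_mem' := by
    rintro a ⟨ha, ha0⟩
    refine ⟨U.inv_mem ha, ?_⟩
    have h1 : φ 1 = 0 := by
      have := hφ 1 U.one_mem 1 U.one_mem
      rw [mul_one] at this
      exact left_eq_add.mp this
    have := hφ a ha a⁻¹ (U.inv_mem ha)
    rw [mul_inv_cancel, h1, ha0, zero_add] at this
    exact this.symm

theorem mem_kerOn {U : Subgroup G} {φ : G → A}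
    {hφ : ∀ u ∈ U, ∀ v ∈ U, φ (u * v) = φ u + φ v} {u : G} :
    u ∈ kerOn U φ hφ ↔ u ∈ U ∧ φ u = 0 := Iff.rfl

theorem kerOn_le (U : Subgroup G) (φ : G → A) (hφ : ∀ u ∈ U, ∀ v ∈ U, φ (u * v) = φ u + φ v) :
    kerOn U φ hφ ≤ U := fun _ h => h.1

theorem conj_mem_kerOn {U : Subgroup G} {φ : G → A}
    {hφ : ∀ u ∈ U, ∀ v ∈ U, φ (u * v) = φ u + φ v} {u v : G} (hu : u ∈ U)
    (hv : v ∈ kerOn U φ hφ) : u * v * u⁻¹ ∈ kerOn U φ hφ := by
  refine ⟨U.mul_mem (U.mul_mem hu hv.1) (U.inv_mem hu), ?_⟩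
  have h1 : φ 1 = 0 := (kerOn U φ hφ).one_mem.2
  have h2 := hφ u hu u⁻¹ (U.inv_mem hu)
  rw [mul_inv_cancel, h1] at h2
  rw [hφ _ (U.mul_mem hu hv.1) _ (U.inv_mem hu), hφ u hu v hv.1, hv.2, add_zero]
  exact h2.symm

end kerOn

/-! ### products in `spU` -/

section blocks

variable [Finite F]

theorem spU_mul_11 {u v : symplecticGroup (Fin m) F} (hu : u ∈ spU m F) (hv : v ∈ spU m F) :
    ((u * v : symplecticGroup (Fin m) F) : Matrix (Fin m ⊕ Fin m) (Fin m ⊕ Fin m) F).toBlocks₁₁ =
      (u : Matrix (Fin m ⊕ Fin m) (Fin m ⊕ Fin m) F).toBlocks₁₁ *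
        (v : Matrix (Fin m ⊕ Fin m) (Fin m ⊕ Fin m) F).toBlocks₁₁ := by
  have h1 := (mem_spU.1 hu).eq_fromBlocks
  have h2 := (mem_spU.1 hv).eq_fromBlocks
  have e : ((u * v : symplecticGroup (Fin m) F) : Matrix (Fin m ⊕ Fin m) (Fin m ⊕ Fin m) F) =
      (u : Matrix (Fin m ⊕ Fin m) (Fin m ⊕ Fin m) F) *
        (v : Matrix (Fin m ⊕ Fin m) (Fin m ⊕ Fin m) F) := rfl
  rw [e]
  conv_lhs => rw [h1, h2, fromBlocks_multiply, toBlocks_fromBlocks₁₁]
  rw [Matrix.mul_zero, add_zero]

theorem spU_mul_12 {u v : symplecticGroup (Fin m) F} (hu : u ∈ spU m F) (hv : v ∈ spU m F) :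
    ((u * v : symplecticGroup (Fin m) F) : Matrix (Fin m ⊕ Fin m) (Fin m ⊕ Fin m) F).toBlocks₁₂ =
      (u : Matrix (Fin m ⊕ Fin m) (Fin m ⊕ Fin m) F).toBlocks₁₁ *
        (v : Matrix (Fin m ⊕ Fin m) (Fin m ⊕ Fin m) F).toBlocks₁₂ +
      (u : Matrix (Fin m ⊕ Fin m) (Fin m ⊕ Fin m) F).toBlocks₁₂ *
        (v : Matrix (Fin m ⊕ Fin m) (Fin m ⊕ Fin m) F).toBlocks₂₂ := by
  have h1 := (mem_spU.1 hu).eq_fromBlocks
  have h2 := (mem_spU.1 hv).eq_fromBlocks
  have e : ((u * v : symplecticGroup (Fin m) F) : Matrix (Fin m ⊕ Fin m) (Fin m ⊕ Fin m) F) =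
      (u : Matrix (Fin m ⊕ Fin m) (Fin m ⊕ Fin m) F) *
        (v : Matrix (Fin m ⊕ Fin m) (Fin m ⊕ Fin m) F) := rfl
  rw [e]
  conv_lhs => rw [h1, h2, fromBlocks_multiply, toBlocks_fromBlocks₁₂]

/-- the entry `(k, k+1)` of the upper left block is additive on `spU` -/
theorem spU_short_add {k k' : Fin m} (h : k.val + 1 = k'.val) :
    ∀ u ∈ spU m F, ∀ v ∈ spU m F,
      ((u * v : symplecticGroup (Fin m) F) : Matrix (Fin m ⊕ Fin m) (Fin m ⊕ Fin m) F)
        (Sum.inl k) (Sum.inl k') =
      (u : Matrix (Fin m ⊕ Fin m) (Fin m ⊕ Fin m) F) (Sum.inl k) (Sum.inl k') +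
        (v : Matrix (Fin m ⊕ Fin m) (Fin m ⊕ Fin m) F) (Sum.inl k) (Sum.inl k') := by
  intro u hu v hv
  have h1 := congrFun (congrFun (spU_mul_11 hu hv) k) k'
  rw [FusPSLn.isUni_mul_apply_succ (mem_spU.1 hu).2 (mem_spU.1 hv).2 h] at h1
  exact h1

/-- the entry `(il, il)` of the upper right block is additive on `spU`, for the last index `il` -/
theorem spU_long_add {il : Fin m} (h : il.val + 1 = m) :
    ∀ u ∈ spU m F, ∀ v ∈ spU m F,
      ((u * v : symplecticGroup (Fin m) F) : Matrix (Fin m ⊕ Fin m) (Fin m ⊕ Fin m) F)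
        (Sum.inl il) (Sum.inr il) =
      (u : Matrix (Fin m ⊕ Fin m) (Fin m ⊕ Fin m) F) (Sum.inl il) (Sum.inr il) +
        (v : Matrix (Fin m ⊕ Fin m) (Fin m ⊕ Fin m) F) (Sum.inl il) (Sum.inr il) := by
  intro u hu v hv
  have h1 := congrFun (congrFun (spU_mul_12 hu hv) il) il
  have hlast : ∀ c : Fin m, c ≠ il → c < il := by
    intro c hc
    rw [Fin.lt_def]
    have := c.2
    have : c.val ≠ il.val := fun h' => hc (Fin.ext h')
    omega
  have hA : ∀ c : Fin m, (u : Matrix (Fin m ⊕ Fin m) (Fin m ⊕ Fin m) F).toBlocks₁₁ il c =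
      if c = il then 1 else 0 := by
    intro c
    by_cases hc : c = il
    · rw [if_pos hc, hc]
      exact (mem_spU.1 hu).2.2 il
    · rw [if_neg hc]
      exact (mem_spU.1 hu).2.1 il c (hlast c hc)
  have hD : ∀ c : Fin m, (v : Matrix (Fin m ⊕ Fin m) (Fin m ⊕ Fin m) F).toBlocks₂₂ c il =
      if c = il then 1 else 0 := by
    intro c
    by_cases hc : c = il
    · rw [if_pos hc, hc]
      exact (spU_D hv).2 il
    · rw [if_neg hc]
      exact (spU_D hv).1 c il (hlast c hc)
  rw [Matrix.add_apply, Matrix.mul_apply, Matrix.mul_apply] at h1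
  simp only [hA, hD, ite_mul, one_mul, zero_mul, mul_ite, mul_one, mul_zero,
    Finset.sum_ite_eq', Finset.mem_univ, if_true] at h1
  rw [add_comm] at h1
  exact h1

/-- unipotent radical of the minimal parabolic subgroup of the short simple root `e_k - e_{k+1}` -/
def Qk (k k' : Fin m) (h : k.val + 1 = k'.val) : Subgroup (symplecticGroup (Fin m) F) :=
  kerOn (spU m F) (fun u => (u : Matrix (Fin m ⊕ Fin m) (Fin m ⊕ Fin m) F) (Sum.inl k) (Sum.inl k'))
    (spU_short_add h)

/-- unipotent radical of the minimal parabolic subgroup of the long simple root `2e_{m-1}` -/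
def Ql (il : Fin m) (h : il.val + 1 = m) : Subgroup (symplecticGroup (Fin m) F) :=
  kerOn (spU m F) (fun u => (u : Matrix (Fin m ⊕ Fin m) (Fin m ⊕ Fin m) F) (Sum.inl il) (Sum.inr il))
    (spU_long_add h)

end blocks

/-! ### normalizing elements -/

theorem ellT_mul (i j : Fin m) (hij : i ≠ j) (c d : F) :
    ellT i j hij c * ellT i j hij d = ellT i j hij (c + d) := by
  apply Subtype.ext
  show fromBlocks (Matrix.transvection i j c) 0 0 (Matrix.transvection j i (-c)) *
    fromBlocks (Matrix.transvection i j d) 0 0 (Matrix.transvection j i (-d)) =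
    fromBlocks (Matrix.transvection i j (c + d)) 0 0 (Matrix.transvection j i (-(c + d)))
  rw [fromBlocks_multiply, Matrix.transvection_mul_transvection_same _ _ hij,
    Matrix.transvection_mul_transvection_same _ _ (Ne.symm hij), neg_add]
  simp

theorem ellT_zero (i j : Fin m) (hij : i ≠ j) : ellT i j hij (0 : F) = 1 := by
  apply Subtype.ext
  show fromBlocks (Matrix.transvection i j (0 : F)) 0 0 (Matrix.transvection j i (-0)) = 1
  rw [neg_zero, Matrix.transvection_zero, Matrix.transvection_zero, fromBlocks_one]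

theorem ellT_inv (i j : Fin m) (hij : i ≠ j) (c : F) :
    (ellT i j hij c)⁻¹ = ellT i j hij (-c) := by
  rw [inv_eq_iff_mul_eq_one, ellT_mul, add_neg_cancel, ellT_zero]

section normalizers

variable [Finite F]

theorem mem_Qk {k k' : Fin m} {h : k.val + 1 = k'.val} {u : symplecticGroup (Fin m) F} :
    u ∈ Qk k k' h ↔ u ∈ spU m F ∧
      (u : Matrix (Fin m ⊕ Fin m) (Fin m ⊕ Fin m) F) (Sum.inl k) (Sum.inl k') = 0 := Iff.rfl

theorem mem_Ql {il : Fin m} {h : il.val + 1 = m} {u : symplecticGroup (Fin m) F} :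
    u ∈ Ql il h ↔ u ∈ spU m F ∧
      (u : Matrix (Fin m ⊕ Fin m) (Fin m ⊕ Fin m) F) (Sum.inl il) (Sum.inr il) = 0 := Iff.rfl

/-- the negative root elements of the short simple root normalize `Qk` -/
theorem lower_conj_mem_Qk {k k' : Fin m} (h : k.val + 1 = k'.val) (hne : k' ≠ k) (c : F)
    {v : symplecticGroup (Fin m) F} (hv : v ∈ Qk k k' h) :
    ellT k' k hne c * v * (ellT k' k hne c)⁻¹ ∈ Qk k k' h := by
  obtain ⟨hvU, hv0⟩ := mem_Qk.1 hv
  obtain ⟨A, B, D, hvb, hA, -, -⟩ := spU_blocks hvU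
  have hA0 : A k k' = 0 := by
    rw [hvb, fromBlocks_apply₁₁] at hv0
    exact hv0
  -- the `SL_m` statement
  let vA : SpecialLinearGroup (Fin m) F := ⟨A, hA.det⟩
  have hvA : vA ∈ FusPSLn.Qs k k' h := ⟨hA, hA0⟩
  have h1 := FusPSLn.lower_conj_mem_Qs h hne c hvA
  obtain ⟨h2, h3⟩ := FusPSLn.mem_Qs.1 h1
  rw [mem_unitri] at h2
  rw [SpecialLinearGroup.transvection_inv, Matrix.SpecialLinearGroup.coe_mul,
    Matrix.SpecialLinearGroup.coe_mul, SpecialLinearGroup.transvection_coe,
    SpecialLinearGroup.transvection_coe] at h2 h3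
  have e : ((ellT k' k hne c * v * (ellT k' k hne c)⁻¹ : symplecticGroup (Fin m) F) :
      Matrix (Fin m ⊕ Fin m) (Fin m ⊕ Fin m) F) =
      fromBlocks ((1 + Matrix.single k' k c) * A * (1 + Matrix.single k' k (-c)))
        (Matrix.transvection k' k c * B * Matrix.transvection k k' (- -c)) 0
        (Matrix.transvection k k' (-c) * D * Matrix.transvection k k' (- -c)) := by
    rw [ellT_inv]
    show fromBlocks (Matrix.transvection k' k c) 0 0 (Matrix.transvection k k' (-c)) *
      (v : Matrix (Fin m ⊕ Fin m) (Fin m ⊕ Fin m) F) *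
      fromBlocks (Matrix.transvection k' k (-c)) 0 0 (Matrix.transvection k k' (- -c)) = _
    rw [hvb, fromBlocks_multiply, fromBlocks_multiply]
    unfold Matrix.transvection
    simp
  rw [mem_Qk, mem_spU, e, isSpU_fromBlocks, fromBlocks_apply₁₁]
  exact ⟨⟨rfl, h2⟩, h3⟩

/-- the negative root elements of the long simple root normalize `Ql` -/
theorem lower_conj_mem_Ql {il : Fin m} (h : il.val + 1 = m) (c : F)
    {v : symplecticGroup (Fin m) F} (hv : v ∈ Ql il h) :
    symL (Matrix.single il il c) (Matrix.transpose_single il il c) * v *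
      (symL (Matrix.single il il c) (Matrix.transpose_single il il c))⁻¹ ∈ Ql il h := by
  obtain ⟨hvU, hv0⟩ := mem_Ql.1 hv
  obtain ⟨A, B, D, hvb, hA, -, -⟩ := spU_blocks hvU
  have hB0 : B il il = 0 := by
    rw [hvb, fromBlocks_apply₁₂] at hv0
    exact hv0
  have hDl := spU_D hvU
  rw [hvb, toBlocks_fromBlocks₂₂] at hDl
  have hlast : ∀ a : Fin m, a ≠ il → a < il := by
    intro a ha
    rw [Fin.lt_def]
    have := a.2
    have : a.val ≠ il.val := fun h' => ha (Fin.ext h')
    omega
  have hCA : Matrix.single il il c * A = Matrix.single il il c := by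
    ext a b
    by_cases ha : a = il
    · subst ha
      rw [Matrix.single_mul_apply_same, Matrix.single_apply]
      by_cases hb : b = a
      · subst hb
        rw [hA.2, mul_one, if_pos ⟨rfl, rfl⟩]
      · rw [hA.1 a b (hlast b hb), mul_zero, if_neg (fun hh => hb hh.2.symm)]
    · rw [Matrix.single_mul_apply_of_ne _ _ _ _ _ ha, Matrix.single_apply,
        if_neg (fun hh => ha hh.1.symm)]
  have hDC : D * Matrix.single il il c = Matrix.single il il c := by
    ext a b
    by_cases hb : b = il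
    · subst hb
      rw [Matrix.mul_single_apply_same, Matrix.single_apply]
      by_cases ha : a = b
      · subst ha
        rw [hDl.2, one_mul, if_pos ⟨rfl, rfl⟩]
      · rw [hDl.1 a b (hlast a ha), zero_mul, if_neg (fun hh => ha hh.1.symm)]
    · rw [Matrix.mul_single_apply_of_ne _ _ _ _ _ hb, Matrix.single_apply,
        if_neg (fun hh => hb hh.2.symm)]
  have hCBC : Matrix.single il il c * B * Matrix.single il il c = 0 := by
    rw [Matrix.single_mul_mul_single, hB0, mul_zero, zero_mul, Matrix.single_zero]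
  have e : ((symL (Matrix.single il il c) (Matrix.transpose_single il il c) * v *
      (symL (Matrix.single il il c) (Matrix.transpose_single il il c))⁻¹ :
        symplecticGroup (Fin m) F) : Matrix (Fin m ⊕ Fin m) (Fin m ⊕ Fin m) F) =
      fromBlocks (A - B * Matrix.single il il c) B 0 (Matrix.single il il c * B + D) := by
    rw [symL_inv]
    show fromBlocks 1 0 (Matrix.single il il c) 1 *
      (v : Matrix (Fin m ⊕ Fin m) (Fin m ⊕ Fin m) F) *
      fromBlocks 1 0 (-Matrix.single il il c) 1 = _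
    rw [hvb, fromBlocks_multiply, fromBlocks_multiply]
    congr 1
    · simp [sub_eq_add_neg]
    · simp
    · simp only [Matrix.one_mul, Matrix.zero_mul, Matrix.mul_zero, add_zero, zero_add,
        Matrix.mul_one, Matrix.mul_neg, Matrix.add_mul, hCA, hDC, hCBC]
      rw [add_neg_cancel]
    · simp
  rw [mem_Ql, mem_spU, e, isSpU_fromBlocks, fromBlocks_apply₁₂]
  refine ⟨⟨rfl, ?_, ?_⟩, hB0⟩
  · intro a b hba
    rw [Matrix.sub_apply, hA.1 a b hba, zero_sub, neg_eq_zero]
    have hb : b ≠ il := by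
      intro hh
      rw [hh] at hba
      rw [Fin.lt_def] at hba
      have := a.2
      omega
    exact Matrix.mul_single_apply_of_ne _ _ _ _ _ hb _
  · intro a
    rw [Matrix.sub_apply, hA.2]
    by_cases ha : a = il
    · subst ha
      rw [Matrix.mul_single_apply_same, hB0, zero_mul, sub_zero]
    · rw [Matrix.mul_single_apply_of_ne _ _ _ _ _ ha, sub_zero]

end normalizers

/-! ### centralizers -/

section centralizers

variable [Finite F]

theorem symU_single_mem_Qk {k k' : Fin m} (h : k.val + 1 = k'.val) (j : Fin m) (c : F) :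
    symU (Matrix.single j j c) (Matrix.transpose_single j j c) ∈ Qk k k' h := by
  refine mem_Qk.2 ⟨symU_mem _ _, ?_⟩
  rw [symU_coe, fromBlocks_apply₁₁, Matrix.one_apply_ne]
  intro hh
  rw [hh] at h
  omega

/-- an element of `spU` commuting with `x_{2e_{k'}}(1)` has zero `(k, k')` entry -/
theorem short_entry_zero_of_comm {k k' : Fin m} (hne : k ≠ k') {u : symplecticGroup (Fin m) F}
    (hu : u ∈ spU m F)
    (hc : u * symU (Matrix.single k' k' 1) (Matrix.transpose_single k' k' 1) =
      symU (Matrix.single k' k' 1) (Matrix.transpose_single k' k' 1) * u) :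
    (u : Matrix (Fin m ⊕ Fin m) (Fin m ⊕ Fin m) F) (Sum.inl k) (Sum.inl k') = 0 := by
  obtain ⟨A, B, D, hub, -, -, -⟩ := spU_blocks hu
  have h1 := comm_symU hub (Matrix.transpose_single k' k' (1 : F)) hc
  have h2 := congrFun (congrFun h1 k) k'
  rw [Matrix.mul_single_apply_same, Matrix.single_mul_apply_of_ne _ _ _ _ _ hne, mul_one] at h2
  rw [hub, fromBlocks_apply₁₁]
  exact h2

theorem ellT_mem_Ql {il : Fin m} (h : il.val + 1 = m) {k : Fin m} (hk : k < il) (c : F) :
    ellT k il (ne_of_lt hk) c ∈ Ql il h := by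
  refine mem_Ql.2 ⟨ellT_mem_spU hk c, ?_⟩
  rw [ellT_coe, fromBlocks_apply₁₂]
  rfl

/-- an element of `spU` commuting with `x_{e_k - e_{il}}(1)` has zero `(il, il)` entry in the
upper right block -/
theorem long_entry_zero_of_comm {k il : Fin m} (hne : k ≠ il) {u : symplecticGroup (Fin m) F}
    (hu : u ∈ spU m F) (hc : u * ellT k il hne 1 = ellT k il hne 1 * u) :
    (u : Matrix (Fin m ⊕ Fin m) (Fin m ⊕ Fin m) F) (Sum.inl il) (Sum.inr il) = 0 := by
  obtain ⟨A, B, D, hub, -, -, -⟩ := spU_blocks hu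
  have h1 : (u : Matrix (Fin m ⊕ Fin m) (Fin m ⊕ Fin m) F) *
      fromBlocks (Matrix.transvection k il 1) 0 0 (Matrix.transvection il k (-1)) =
      fromBlocks (Matrix.transvection k il 1) 0 0 (Matrix.transvection il k (-1)) *
        (u : Matrix (Fin m ⊕ Fin m) (Fin m ⊕ Fin m) F) :=
    congrArg Subtype.val hc
  rw [hub, fromBlocks_multiply, fromBlocks_multiply, fromBlocks_inj] at h1
  have h2 := h1.2.1
  rw [Matrix.mul_zero, zero_add, Matrix.zero_mul, add_zero] at h2
  unfold Matrix.transvection at h2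
  rw [Matrix.mul_add, Matrix.add_mul, Matrix.mul_one, Matrix.one_mul] at h2
  have h3 := add_left_cancel h2
  have h4 := congrFun (congrFun h3 il) k
  rw [Matrix.mul_single_apply_same, Matrix.single_mul_apply_of_ne _ _ _ _ _ (Ne.symm hne)] at h4
  rw [hub, fromBlocks_apply₁₂]
  have : B il il * -1 = 0 := h4
  rw [mul_neg, mul_one, neg_eq_zero] at this
  exact this

end centralizers

/-! ### coroot elements -/

section coroots

theorem ell_toGL_transvection {i j : Fin m} (hij : i ≠ j) (c : F) :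
    ellHom (SpecialLinearGroup.toGL (SpecialLinearGroup.transvection hij c)) = ellT i j hij c := by
  apply Subtype.ext
  rw [ellHom_apply, ell_coe, ellT_coe, ← map_inv, SpecialLinearGroup.transvection_inv,
    Matrix.SpecialLinearGroup.coe_GL_coe_matrix, Matrix.SpecialLinearGroup.coe_GL_coe_matrix,
    SpecialLinearGroup.transvection_coe, SpecialLinearGroup.transvection_coe,
    Matrix.transpose_add, Matrix.transpose_one, Matrix.transpose_single]
  rfl

theorem toGL_diag2n {k k' : Fin m} (hne : k ≠ k') (a : Fˣ) :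
    SpecialLinearGroup.toGL (SpecialLinearGroup.diag2n hne (a : F) a.ne_zero) =
      dgl (Pi.mulSingle k a * Pi.mulSingle k' a⁻¹) := by
  apply Units.ext
  rw [Matrix.SpecialLinearGroup.coe_GL_coe_matrix, SpecialLinearGroup.diag2n_coe, dgl_coe]
  congr 1
  funext x
  rw [Pi.mul_apply, Pi.mulSingle_apply, Pi.mulSingle_apply]
  by_cases h1 : x = k
  · subst h1
    rw [if_pos rfl, if_pos rfl, if_neg hne, mul_one]
  · rw [if_neg h1, if_neg h1, one_mul]
    by_cases h2 : x = k'
    · rw [if_pos h2, if_pos h2, Units.val_inv_eq_inv_val]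
    · rw [if_neg h2, if_neg h2, Units.val_one]

/-- the coroot element of a short root as a product of root elements -/
theorem dg_short_decompose {k k' : Fin m} (hne : k ≠ k') (a : Fˣ) :
    dg (Pi.mulSingle k a * Pi.mulSingle k' a⁻¹) =
      ellT k k' hne (a : F) * ellT k' k hne.symm (-(a : F)⁻¹) * ellT k k' hne (a : F) *
        ellT k k' hne (-1) * ellT k' k hne.symm 1 * ellT k k' hne (-1) := by
  show ellHom (dgl _) = _
  rw [← toGL_diag2n hne a, Cfsg.Agent.Lib.Helper2.diag2n_decompose hne (a : F) a.ne_zero]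
  simp only [map_mul, ell_toGL_transvection]

theorem fromBlocks_one_single_upper (j : Fin m) (c : F) :
    (fromBlocks 1 (Matrix.single j j c) 0 1 : Matrix (Fin m ⊕ Fin m) (Fin m ⊕ Fin m) F) =
      1 + Matrix.single (Sum.inl j) (Sum.inr j) c := by
  ext a b
  rw [Matrix.add_apply, Matrix.single_apply]
  rcases a with a | a <;> rcases b with b | b
  · rw [fromBlocks_apply₁₁, if_neg (by simp), add_zero]
    by_cases h : a = b
    · subst h
      rw [Matrix.one_apply_eq, Matrix.one_apply_eq]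
    · rw [Matrix.one_apply_ne h, Matrix.one_apply_ne (fun hh => h (Sum.inl.inj hh))]
  · rw [fromBlocks_apply₁₂, Matrix.single_apply, Matrix.one_apply_ne (by simp), zero_add]
    by_cases h : j = a ∧ j = b
    · rw [if_pos h, if_pos ⟨by rw [h.1], by rw [h.2]⟩]
    · rw [if_neg h, if_neg]
      rintro ⟨h1, h2⟩
      exact h ⟨Sum.inl.inj h1, Sum.inr.inj h2⟩
  · rw [fromBlocks_apply₂₁, if_neg (by simp), add_zero, Matrix.one_apply_ne (by simp)]
    rfl
  · rw [fromBlocks_apply₂₂, if_neg (by simp), add_zero]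
    by_cases h : a = b
    · subst h
      rw [Matrix.one_apply_eq, Matrix.one_apply_eq]
    · rw [Matrix.one_apply_ne h, Matrix.one_apply_ne (fun hh => h (Sum.inr.inj hh))]

theorem fromBlocks_one_single_lower (j : Fin m) (c : F) :
    (fromBlocks 1 0 (Matrix.single j j c) 1 : Matrix (Fin m ⊕ Fin m) (Fin m ⊕ Fin m) F) =
      1 + Matrix.single (Sum.inr j) (Sum.inl j) c := by
  ext a b
  rw [Matrix.add_apply, Matrix.single_apply]
  rcases a with a | a <;> rcases b with b | b
  · rw [fromBlocks_apply₁₁, if_neg (by simp), add_zero]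
    by_cases h : a = b
    · subst h
      rw [Matrix.one_apply_eq, Matrix.one_apply_eq]
    · rw [Matrix.one_apply_ne h, Matrix.one_apply_ne (fun hh => h (Sum.inl.inj hh))]
  · rw [fromBlocks_apply₁₂, if_neg (by simp), add_zero, Matrix.one_apply_ne (by simp)]
    rfl
  · rw [fromBlocks_apply₂₁, Matrix.single_apply, Matrix.one_apply_ne (by simp), zero_add]
    by_cases h : j = a ∧ j = b
    · rw [if_pos h, if_pos ⟨by rw [h.1], by rw [h.2]⟩]
    · rw [if_neg h, if_neg]
      rintro ⟨h1, h2⟩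
      exact h ⟨Sum.inr.inj h1, Sum.inl.inj h2⟩
  · rw [fromBlocks_apply₂₂, if_neg (by simp), add_zero]
    by_cases h : a = b
    · subst h
      rw [Matrix.one_apply_eq, Matrix.one_apply_eq]
    · rw [Matrix.one_apply_ne h, Matrix.one_apply_ne (fun hh => h (Sum.inr.inj hh))]

/-- the coroot element of a long root as a product of root elements -/
theorem dg_long_decompose (j : Fin m) (a : Fˣ) :
    dg (Pi.mulSingle j a) =
      symU (Matrix.single j j (a : F)) (Matrix.transpose_single j j _) *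
      symL (Matrix.single j j (-(a : F)⁻¹)) (Matrix.transpose_single j j _) *
      symU (Matrix.single j j (a : F)) (Matrix.transpose_single j j _) *
      symU (Matrix.single j j (-1)) (Matrix.transpose_single j j _) *
      symL (Matrix.single j j 1) (Matrix.transpose_single j j _) *
      symU (Matrix.single j j (-1)) (Matrix.transpose_single j j _) := by
  apply Subtype.ext
  show _ = fromBlocks 1 (Matrix.single j j (a : F)) 0 1 *
    fromBlocks 1 0 (Matrix.single j j (-(a : F)⁻¹)) 1 *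
    fromBlocks 1 (Matrix.single j j (a : F)) 0 1 *
    fromBlocks 1 (Matrix.single j j (-1)) 0 1 *
    fromBlocks 1 0 (Matrix.single j j 1) 1 *
    fromBlocks 1 (Matrix.single j j (-1)) 0 1
  rw [fromBlocks_one_single_upper, fromBlocks_one_single_upper, fromBlocks_one_single_lower,
    fromBlocks_one_single_lower,
    ← Cfsg.Agent.Lib.Helper2.diag2n_decompose_mat (show (Sum.inl j : Fin m ⊕ Fin m) ≠ Sum.inr j by simp)
      (a : F) a.ne_zero, dg_coe, Matrix.fromBlocks_diagonal]
  congr 1
  funext x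
  rcases x with x | x
  · rw [Sum.elim_inl, Pi.mulSingle_apply]
    by_cases h : x = j
    · subst h
      rw [if_pos rfl, if_pos rfl]
    · rw [if_neg h, if_neg (fun hh => h (Sum.inl.inj hh)), if_neg (by simp), Units.val_one]
  · rw [Sum.elim_inr, Pi.mulSingle_apply, if_neg (show ¬ (Sum.inr x : Fin m ⊕ Fin m) = Sum.inl j by simp)]
    by_cases h : x = j
    · subst h
      rw [if_pos rfl, if_pos rfl, Units.val_inv_eq_inv_val]
    · rw [if_neg h, if_neg (fun hh => h (Sum.inr.inj hh)), inv_one, Units.val_one]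

end coroots

end Cfsg.Agent.Lib.Helper16.FusSp
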