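import Mathlib
import Cfsg.Agent.Lib.Helper16.FusSpB
import Cfsg.Agent.Lib.Helper16.FusGen

set_option autoImplicit false

/-! The normalizer of the standard Sylow `p`-subgroup of `PSp_{2m}(F)`, `F` finite of
characteristic `p`, `m ≥ 2`, is generated by elements lying in `GenSet`. -/

namespace Cfsg.Agent.Lib.Helper16.FusSp

open Matrix Cfsg Cfsg.FusionSystem Cfsg.Agent.Lib.Helper18.PSpAut
  Cfsg.Agent.Lib.Helper16.FusGen Cfsg.Agent.Lib.Helper3.Fus Cfsg.Agent.Lib.Helper26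

open Cfsg.Agent.Lib.Helper18.PSLnAut (IsUni)

variable {m : ℕ} {F : Type*} [Field F] [Fintype F]

/-- the image of `Qk` in `PSp` -/
def Qkb (k k' : Fin m) (h : k.val + 1 = k'.val) : Subgroup (Cfsg.PSp m F) :=
  (Qk (F := F) k k' h).map pi

/-- the image of `Ql` in `PSp` -/
def Qlb (il : Fin m) (h : il.val + 1 = m) : Subgroup (Cfsg.PSp m F) :=
  (Ql (F := F) il h).map pi

theorem Qkb_le (k k' : Fin m) (h : k.val + 1 = k'.val) : Qkb (F := F) k k' h ≤ Ubar m F :=
  Subgroup.map_mono (kerOn_le _ _ _)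

theorem Qlb_le (il : Fin m) (h : il.val + 1 = m) : Qlb (F := F) il h ≤ Ubar m F :=
  Subgroup.map_mono (kerOn_le _ _ _)

omit [Fintype F] in
theorem symU_pow (S : Matrix (Fin m) (Fin m) F) (hS : Sᵀ = S) (n : ℕ) :
    (symU S hS) ^ n = symU (n • S) (by rw [Matrix.transpose_smul, hS]) := by
  induction n with
  | zero =>
    rw [pow_zero, ← symU_zero]
    exact symU_congr (zero_smul _ _).symm _ _
  | succ n ih =>
    rw [pow_succ, ih, symU_mul]
    exact symU_congr (succ_nsmul _ _).symm _ _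

omit [Fintype F] in
theorem symL_pow (S : Matrix (Fin m) (Fin m) F) (hS : Sᵀ = S) (n : ℕ) :
    (symL S hS) ^ n = symL (n • S) (by rw [Matrix.transpose_smul, hS]) := by
  induction n with
  | zero =>
    rw [pow_zero, ← symL_zero]
    exact symL_congr (zero_smul _ _).symm _ _
  | succ n ih =>
    rw [pow_succ, ih, symL_mul]
    exact symL_congr (succ_nsmul _ _).symm _ _

omit [Fintype F] in
theorem ellT_pow (i j : Fin m) (hij : i ≠ j) (c : F) (n : ℕ) :
    (ellT i j hij c) ^ n = ellT i j hij (n • c) := by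
  induction n with
  | zero => rw [pow_zero, zero_smul, ellT_zero]
  | succ n ih => rw [pow_succ, ih, ellT_mul, succ_nsmul]

section main

variable (p : ℕ) [Fact p.Prime] [CharP F p]

omit [Fintype F] in
include p in
theorem exists_orderOf_of_pow_eq_one {G : Type*} [Group G] {x : G} (h : x ^ p = 1) :
    ∃ k : ℕ, orderOf x = p ^ k := by
  have hp : p.Prime := Fact.out
  rcases (Nat.dvd_prime hp).mp (orderOf_dvd_of_pow_eq_one h) with h' | h'
  · exact ⟨0, by rw [h', pow_zero]⟩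
  · exact ⟨1, by rw [h', pow_one]⟩

omit [Fintype F] in
include p in
theorem exists_orderOf_pi_symU (S : Matrix (Fin m) (Fin m) F) (hS : Sᵀ = S) :
    ∃ k : ℕ, orderOf (pi (symU S hS)) = p ^ k := by
  apply exists_orderOf_of_pow_eq_one p
  have e : symU (p • S) (by rw [Matrix.transpose_smul, hS]) = 1 := by
    rw [← symU_zero]
    apply symU_congr
    ext a b
    rw [Matrix.smul_apply, nsmul_eq_mul, CharP.cast_eq_zero, zero_mul]
    rfl
  rw [← map_pow, symU_pow, e, map_one]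

omit [Fintype F] in
include p in
theorem exists_orderOf_pi_symL (S : Matrix (Fin m) (Fin m) F) (hS : Sᵀ = S) :
    ∃ k : ℕ, orderOf (pi (symL S hS)) = p ^ k := by
  apply exists_orderOf_of_pow_eq_one p
  have e : symL (p • S) (by rw [Matrix.transpose_smul, hS]) = 1 := by
    rw [← symL_zero]
    apply symL_congr
    ext a b
    rw [Matrix.smul_apply, nsmul_eq_mul, CharP.cast_eq_zero, zero_mul]
    rfl
  rw [← map_pow, symL_pow, e, map_one]

omit [Fintype F] in
include p in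
theorem exists_orderOf_pi_ellT (i j : Fin m) (hij : i ≠ j) (c : F) :
    ∃ k : ℕ, orderOf (pi (ellT i j hij c)) = p ^ k := by
  apply exists_orderOf_of_pow_eq_one p
  rw [← map_pow, ellT_pow, nsmul_eq_mul, CharP.cast_eq_zero, zero_mul, ellT_zero, map_one]

include p in
/-- if a conjugate of an element of `spU` is minus an element of `spU`, then `-1 = 1` -/
theorem neg_one_eq_one_of_conj (hm : 1 ≤ m) (s u u' : symplecticGroup (Fin m) F)
    (hu : u ∈ spU m F) (hu' : u' ∈ spU m F)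
    (h : ((s * u * s⁻¹ : symplecticGroup (Fin m) F) :
      Matrix (Fin m ⊕ Fin m) (Fin m ⊕ Fin m) F) =
      -(u' : Matrix (Fin m ⊕ Fin m) (Fin m ⊕ Fin m) F)) : (-1 : F) = 1 := by
  obtain ⟨k, hk⟩ := IsPGroup.iff_card.mp (isPGroup_spU (m := m) (F := F) p)
  have hpow : ∀ v : symplecticGroup (Fin m) F, v ∈ spU m F → v ^ (p ^ k) = 1 := by
    intro v hv
    have h1 : (⟨v, hv⟩ : spU m F) ^ Nat.card (spU m F) = 1 := pow_card_eq_one'
    rw [hk] at h1
    have h2 := congrArg (fun w : spU m F => (w : symplecticGroup (Fin m) F)) h1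
    simpa using h2
  have h2 : (s * u * s⁻¹) ^ (p ^ k) = 1 := by
    rw [conj_pow, hpow u hu]; group
  have h3 := congrArg (fun M : symplecticGroup (Fin m) F =>
    (M : Matrix (Fin m ⊕ Fin m) (Fin m ⊕ Fin m) F)) h2
  beta_reduce at h3
  rw [SubmonoidClass.coe_pow, h] at h3
  have h4 : (-(u' : Matrix (Fin m ⊕ Fin m) (Fin m ⊕ Fin m) F)) ^ (p ^ k) =
      (-1 : F) • (1 : Matrix (Fin m ⊕ Fin m) (Fin m ⊕ Fin m) F) := by
    have e : -(u' : Matrix (Fin m ⊕ Fin m) (Fin m ⊕ Fin m) F) =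
        (-1 : F) • (u' : Matrix (Fin m ⊕ Fin m) (Fin m ⊕ Fin m) F) := by
      rw [neg_smul, one_smul]
    rw [e, smul_pow, neg_one_pow_char_pow, ← SubmonoidClass.coe_pow, hpow u' hu']
    rfl
  rw [h4] at h3
  have h5 := congrFun (congrFun h3 (Sum.inl ⟨0, hm⟩)) (Sum.inl ⟨0, hm⟩)
  have h6 : ((1 : symplecticGroup (Fin m) F) : Matrix (Fin m ⊕ Fin m) (Fin m ⊕ Fin m) F) = 1 := rfl
  rw [h6, Matrix.smul_apply, Matrix.one_apply_eq, smul_eq_mul, mul_one] at h5
  exact h5

include p in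
/-- an element of `Sp` whose image normalizes `Ubar` normalizes `spU` -/
theorem normalizes_of_pi_mem_normalizer (hm : 1 ≤ m) (s : symplecticGroup (Fin m) F)
    (hs : pi s ∈ Subgroup.normalizer ((Ubar m F : Subgroup _) : Set _)) :
    ∀ u ∈ spU m F, s⁻¹ * u * s ∈ spU m F := by
  intro u hu
  have hs' : (pi s)⁻¹ ∈ Subgroup.normalizer ((Ubar m F : Subgroup _) : Set _) :=
    Subgroup.inv_mem _ hs
  have h1 : (pi s)⁻¹ * pi u * ((pi s)⁻¹)⁻¹ ∈ Ubar m F :=
    (Subgroup.mem_normalizer_iff.mp hs' (pi u)).mp ⟨u, hu, rfl⟩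
  rw [inv_inv, ← map_inv, ← map_mul, ← map_mul] at h1
  obtain ⟨u', hu', hpi⟩ := h1
  rw [pi_eq_iff hm] at hpi
  rcases hpi with hpi | hpi
  · have : s⁻¹ * u * s = u' := Subtype.ext hpi
    rw [this]
    exact hu'
  · have h2 : ((s⁻¹ * u * s⁻¹⁻¹ : symplecticGroup (Fin m) F) :
        Matrix (Fin m ⊕ Fin m) (Fin m ⊕ Fin m) F) =
        -(u' : Matrix (Fin m ⊕ Fin m) (Fin m ⊕ Fin m) F) := by
      rw [inv_inv]; exact hpi
    have h3 := neg_one_eq_one_of_conj p hm s⁻¹ u u' hu hu' h2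
    have h4 : -(u' : Matrix (Fin m ⊕ Fin m) (Fin m ⊕ Fin m) F) =
        (u' : Matrix (Fin m ⊕ Fin m) (Fin m ⊕ Fin m) F) := by
      have e : -(u' : Matrix (Fin m ⊕ Fin m) (Fin m ⊕ Fin m) F) =
          (-1 : F) • (u' : Matrix (Fin m ⊕ Fin m) (Fin m ⊕ Fin m) F) := by
        rw [neg_smul, one_smul]
      rw [e, h3, one_smul]
    rw [h4] at hpi
    have : s⁻¹ * u * s = u' := Subtype.ext hpi
    rw [this]
    exact hu'

/-- commuting images of elements of `spU` come from commuting elements -/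
theorem commute_of_pi_commute {u y : symplecticGroup (Fin m) F} (hm : 1 ≤ m) (hu : u ∈ spU m F)
    (hy : y ∈ spU m F) (h : pi u * pi y = pi y * pi u) : u * y = y * u := by
  rw [← map_mul, ← map_mul, pi_eq_iff hm] at h
  rcases h with h | h
  · exact (Subtype.ext h).symm
  · have h1 := (mem_spU.1 ((spU m F).mul_mem hu hy)).2.2 ⟨0, hm⟩
    have h2 := (mem_spU.1 ((spU m F).mul_mem hy hu)).2.2 ⟨0, hm⟩
    have h3 := congrFun (congrFun h (Sum.inl ⟨0, hm⟩)) (Sum.inl ⟨0, hm⟩)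
    rw [Matrix.neg_apply] at h3
    change ((y * u : symplecticGroup (Fin m) F) :
      Matrix (Fin m ⊕ Fin m) (Fin m ⊕ Fin m) F).toBlocks₁₁ ⟨0, hm⟩ ⟨0, hm⟩ =
      -((u * y : symplecticGroup (Fin m) F) :
      Matrix (Fin m ⊕ Fin m) (Fin m ⊕ Fin m) F).toBlocks₁₁ ⟨0, hm⟩ ⟨0, hm⟩ at h3
    rw [h1, h2] at h3
    have h4 : -((u * y : symplecticGroup (Fin m) F) :
        Matrix (Fin m ⊕ Fin m) (Fin m ⊕ Fin m) F) =
        ((u * y : symplecticGroup (Fin m) F) : Matrix (Fin m ⊕ Fin m) (Fin m ⊕ Fin m) F) := by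
      have e : -((u * y : symplecticGroup (Fin m) F) :
          Matrix (Fin m ⊕ Fin m) (Fin m ⊕ Fin m) F) =
          (-1 : F) • ((u * y : symplecticGroup (Fin m) F) :
            Matrix (Fin m ⊕ Fin m) (Fin m ⊕ Fin m) F) := by
        rw [neg_smul, one_smul]
      rw [e, ← h3, one_smul]
    rw [h4] at h
    exact (Subtype.ext h).symm

end main

/-- the torus normalizes `spU` -/
theorem dg_conj_mem_spU (t : Fin m → Fˣ) {u : symplecticGroup (Fin m) F} (hu : u ∈ spU m F) :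
    dg t * u * (dg t)⁻¹ ∈ spU m F := by
  obtain ⟨A, B, D, hub, hA, -, -⟩ := spU_blocks hu
  have e : ((dg t * u * (dg t)⁻¹ : symplecticGroup (Fin m) F) :
      Matrix (Fin m ⊕ Fin m) (Fin m ⊕ Fin m) F) =
      ((dg t : symplecticGroup (Fin m) F) : Matrix (Fin m ⊕ Fin m) (Fin m ⊕ Fin m) F) *
        (u : Matrix (Fin m ⊕ Fin m) (Fin m ⊕ Fin m) F) *
        ((dg t⁻¹ : symplecticGroup (Fin m) F) : Matrix (Fin m ⊕ Fin m) (Fin m ⊕ Fin m) F) := by
    rw [map_inv]; rfl
  rw [mem_spU, e, dg_coe, dg_coe, hub, fromBlocks_multiply, fromBlocks_multiply, isSpU_fromBlocks]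
  refine ⟨by simp, ?_, ?_⟩
  · intro a b hba
    simp only [Matrix.zero_mul, Matrix.mul_zero, add_zero]
    rw [Matrix.mul_diagonal, Matrix.diagonal_mul, hA.1 a b hba, mul_zero, zero_mul]
  · intro a
    simp only [Matrix.zero_mul, Matrix.mul_zero, add_zero]
    rw [Matrix.mul_diagonal, Matrix.diagonal_mul, hA.2, mul_one, Pi.inv_apply,
      Units.mul_inv]

section main2

variable (p : ℕ) [Fact p.Prime] [CharP F p]

theorem pi_dg_mem_normalizer (t : Fin m → Fˣ) :
    pi (dg t) ∈ Subgroup.normalizer ((Ubar m F : Subgroup _) : Set _) := by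
  apply Subgroup.mem_normalizer_fintype
  rintro _ ⟨u, hu, rfl⟩
  rw [← map_inv, ← map_mul, ← map_mul]
  exact ⟨_, dg_conj_mem_spU t hu, rfl⟩

theorem isPGroup_Ubar : IsPGroup p (Ubar m F) := by
  rw [← coe_sylowUbar p]
  exact (sylowUbar (m := m) (F := F) p).isPGroup'

/-- the image of an element of `spU` lies in `GenSet` -/
theorem pi_spU_mem_genSet {u : symplecticGroup (Fin m) F} (hu : u ∈ spU m F) :
    pi u ∈ GenSet p (Ubar m F) := by
  have hmem : pi u ∈ Ubar m F := ⟨u, hu, rfl⟩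
  have hP : IsPGroup p (Ubar m F) := isPGroup_Ubar p
  refine ⟨Subgroup.le_normalizer hmem, Ubar m F, le_rfl, Subgroup.le_normalizer, inf_le_left, ?_⟩
  apply Subgroup.subset_closure
  refine ⟨Subgroup.le_normalizer hmem, ?_⟩
  obtain ⟨k, hk⟩ := (IsPGroup.iff_orderOf.mp hP) ⟨pi u, hmem⟩
  exact ⟨k, by rw [← hk, Subgroup.orderOf_mk]⟩

theorem Ubar_le_normalizer_Qkb (k k' : Fin m) (h : k.val + 1 = k'.val) :
    Ubar m F ≤ Subgroup.normalizer ((Qkb (F := F) k k' h : Subgroup _) : Set _) := by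
  rintro _ ⟨u, hu, rfl⟩
  apply Subgroup.mem_normalizer_fintype
  rintro _ ⟨v, hv, rfl⟩
  rw [← map_inv, ← map_mul, ← map_mul]
  exact ⟨_, conj_mem_kerOn hu hv, rfl⟩

theorem Ubar_le_normalizer_Qlb (il : Fin m) (h : il.val + 1 = m) :
    Ubar m F ≤ Subgroup.normalizer ((Qlb (F := F) il h : Subgroup _) : Set _) := by
  rintro _ ⟨u, hu, rfl⟩
  apply Subgroup.mem_normalizer_fintype
  rintro _ ⟨v, hv, rfl⟩
  rw [← map_inv, ← map_mul, ← map_mul]
  exact ⟨_, conj_mem_kerOn hu hv, rfl⟩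

theorem pi_lower_mem_normalizer_Qkb (k k' : Fin m) (h : k.val + 1 = k'.val) (hne : k' ≠ k)
    (c : F) : pi (ellT k' k hne c) ∈
      Subgroup.normalizer ((Qkb (F := F) k k' h : Subgroup _) : Set _) := by
  apply Subgroup.mem_normalizer_fintype
  rintro _ ⟨v, hv, rfl⟩
  rw [← map_inv, ← map_mul, ← map_mul]
  exact ⟨_, lower_conj_mem_Qk h hne c hv, rfl⟩

theorem pi_lower_mem_normalizer_Qlb (il : Fin m) (h : il.val + 1 = m) (c : F) :
    pi (symL (Matrix.single il il c) (Matrix.transpose_single il il c)) ∈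
      Subgroup.normalizer ((Qlb (F := F) il h : Subgroup _) : Set _) := by
  apply Subgroup.mem_normalizer_fintype
  rintro _ ⟨v, hv, rfl⟩
  rw [← map_inv, ← map_mul, ← map_mul]
  exact ⟨_, lower_conj_mem_Ql h c hv, rfl⟩

theorem centralizerIn_Qkb_le (hm : 1 ≤ m) (k k' : Fin m) (h : k.val + 1 = k'.val) :
    centralizerIn (Ubar m F) (Qkb (F := F) k k' h) ≤ Qkb k k' h := by
  intro x hx
  rw [mem_centralizerIn_iff] at hx
  obtain ⟨⟨u, hu, rfl⟩, hcomm⟩ := hx
  have hne : k ≠ k' := by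
    intro hh
    rw [hh] at h
    omega
  refine ⟨u, mem_Qk.2 ⟨hu, ?_⟩, rfl⟩
  have hy := symU_single_mem_Qk (F := F) h k' 1
  have h1 := hcomm _ ⟨_, hy, rfl⟩
  have h2 := commute_of_pi_commute hm (symU_mem _ _) hu h1
  exact short_entry_zero_of_comm hne hu h2.symm

theorem centralizerIn_Qlb_le (hm : 2 ≤ m) (il : Fin m) (h : il.val + 1 = m) :
    centralizerIn (Ubar m F) (Qlb (F := F) il h) ≤ Qlb il h := by
  intro x hx
  rw [mem_centralizerIn_iff] at hx
  obtain ⟨⟨u, hu, rfl⟩, hcomm⟩ := hx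
  let k : Fin m := ⟨il.val - 1, by have := il.2; omega⟩
  have hk : k < il := by
    rw [Fin.lt_def]
    show il.val - 1 < il.val
    omega
  refine ⟨u, mem_Ql.2 ⟨hu, ?_⟩, rfl⟩
  have hy := ellT_mem_Ql (F := F) h hk 1
  have h1 := hcomm _ ⟨_, hy, rfl⟩
  have h2 := commute_of_pi_commute (by omega) (ellT_mem_spU hk 1) hu h1
  exact long_entry_zero_of_comm (ne_of_lt hk) hu h2.symm

include p in
/-- the images of the coroot elements of the short simple roots lie in `GenSet` -/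
theorem pi_dg_short_mem_genSet (hm : 1 ≤ m) (k k' : Fin m) (h : k.val + 1 = k'.val) (a : Fˣ) :
    pi (dg (Pi.mulSingle k a * Pi.mulSingle k' a⁻¹)) ∈ GenSet p (Ubar m F) := by
  have hlt : k < k' := by
    rw [Fin.lt_def]
    omega
  have hne : k ≠ k' := ne_of_lt hlt
  refine ⟨pi_dg_mem_normalizer _, Qkb k k' h, Qkb_le k k' h, Ubar_le_normalizer_Qkb k k' h,
    centralizerIn_Qkb_le hm k k' h, ?_⟩
  have hup : ∀ c : F, pi (ellT k k' hne c) ∈ Subgroup.closure
      {y | y ∈ Subgroup.normalizer ((Qkb (F := F) k k' h : Subgroup _) : Set _) ∧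
        ∃ n : ℕ, orderOf y = p ^ n} := by
    intro c
    apply Subgroup.subset_closure
    exact ⟨Ubar_le_normalizer_Qkb k k' h ⟨_, ellT_mem_spU hlt c, rfl⟩,
      exists_orderOf_pi_ellT p k k' hne c⟩
  have hlow : ∀ c : F, pi (ellT k' k hne.symm c) ∈ Subgroup.closure
      {y | y ∈ Subgroup.normalizer ((Qkb (F := F) k k' h : Subgroup _) : Set _) ∧
        ∃ n : ℕ, orderOf y = p ^ n} := by
    intro c
    apply Subgroup.subset_closure
    exact ⟨pi_lower_mem_normalizer_Qkb k k' h hne.symm c, exists_orderOf_pi_ellT p k' k hne.symm c⟩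
  rw [dg_short_decompose hne a]
  simp only [map_mul]
  exact Subgroup.mul_mem _ (Subgroup.mul_mem _ (Subgroup.mul_mem _ (Subgroup.mul_mem _
    (Subgroup.mul_mem _ (hup _) (hlow _)) (hup _)) (hup _)) (hlow _)) (hup _)

include p in
/-- the image of the coroot element of the long simple root lies in `GenSet` -/
theorem pi_dg_long_mem_genSet (hm : 2 ≤ m) (il : Fin m) (h : il.val + 1 = m) (a : Fˣ) :
    pi (dg (Pi.mulSingle il a)) ∈ GenSet p (Ubar m F) := by
  refine ⟨pi_dg_mem_normalizer _, Qlb il h, Qlb_le il h, Ubar_le_normalizer_Qlb il h,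
    centralizerIn_Qlb_le hm il h, ?_⟩
  have hup : ∀ c : F, pi (symU (Matrix.single il il c) (Matrix.transpose_single il il c)) ∈
      Subgroup.closure
      {y | y ∈ Subgroup.normalizer ((Qlb (F := F) il h : Subgroup _) : Set _) ∧
        ∃ n : ℕ, orderOf y = p ^ n} := by
    intro c
    apply Subgroup.subset_closure
    exact ⟨Ubar_le_normalizer_Qlb il h ⟨_, symU_mem _ _, rfl⟩, exists_orderOf_pi_symU p _ _⟩
  have hlow : ∀ c : F, pi (symL (Matrix.single il il c) (Matrix.transpose_single il il c)) ∈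
      Subgroup.closure
      {y | y ∈ Subgroup.normalizer ((Qlb (F := F) il h : Subgroup _) : Set _) ∧
        ∃ n : ℕ, orderOf y = p ^ n} := by
    intro c
    apply Subgroup.subset_closure
    exact ⟨pi_lower_mem_normalizer_Qlb il h c, exists_orderOf_pi_symL p _ _⟩
  rw [dg_long_decompose il a]
  simp only [map_mul]
  exact Subgroup.mul_mem _ (Subgroup.mul_mem _ (Subgroup.mul_mem _ (Subgroup.mul_mem _
    (Subgroup.mul_mem _ (hup _) (hlow _)) (hup _)) (hup _)) (hlow _)) (hup _)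

include p in
/-- every element of the normalizer of `Ubar` lies in the closure of `GenSet` -/
theorem normalizer_le_closure_genSet (hm : 2 ≤ m) :
    ∀ g ∈ Subgroup.normalizer ((Ubar m F : Subgroup _) : Set _),
      g ∈ Subgroup.closure (GenSet p (Ubar m F)) := by
  intro g hg
  obtain ⟨s, rfl⟩ := pi_surjective g
  have h1 := normalizes_of_pi_mem_normalizer p (by omega) s hg
  have h2 := upper_of_normalizes s h1
  have h3 := upper_mem ((Subgroup.closure (GenSet p (Ubar m F))).comap pi)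
    (fun u hu => Subgroup.subset_closure (pi_spU_mem_genSet p hu))
    (fun t => dg_mem ((Subgroup.closure (GenSet p (Ubar m F))).comap pi)
      (fun il h a => Subgroup.subset_closure (pi_dg_long_mem_genSet p hm il h a))
      (fun k k' h a => Subgroup.subset_closure (pi_dg_short_mem_genSet p (by omega) k k' h a)) t)
    s h2
  exact h3

end main2

end Cfsg.Agent.Lib.Helper16.FusSp
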