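import Mathlib
import Cfsg.Agent.Lib.Helper16.FusSpC
import Cfsg.Agent.Lib.Helper10.PGroupBasic

set_option autoImplicit false

/-! Fusion-closed subgroups of the standard Sylow `p`-subgroup of `PSp_{2m}(F)`: the symmetric
matrices `S` with `[[1,S],[0,1]]` in the subgroup. -/

namespace Cfsg.Agent.Lib.Helper16.FusSp

open Matrix Cfsg Cfsg.FusionSystem Cfsg.Agent.Lib.Helper18.PSpAut
  Cfsg.Agent.Lib.Helper16.FusGen Cfsg.Agent.Lib.Helper3.Fus Cfsg.Agent.Lib.Helper26

open Cfsg.Agent.Lib.Helper18.PSLnAut (IsUni unitri mem_unitri)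

variable {m : ℕ} {F : Type*} [Field F]

/-- the symplectic matrix of a permutation of the coordinates -/
def ellP (σ : Equiv.Perm (Fin m)) : symplecticGroup (Fin m) F :=
  ⟨fromBlocks (σ.permMatrix F) 0 0 (σ.permMatrix F), by
    rw [SymplecticGroup.fromBlocks_mem_iff]
    refine ⟨by simp, by simp, ?_⟩
    rw [Matrix.transpose_permMatrix, ← Matrix.permMatrix_mul, mul_inv_cancel,
      Matrix.permMatrix_one]
    simp⟩

theorem ellP_coe (σ : Equiv.Perm (Fin m)) :
    ((ellP σ : symplecticGroup (Fin m) F) : Matrix (Fin m ⊕ Fin m) (Fin m ⊕ Fin m) F) =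
      fromBlocks (σ.permMatrix F) 0 0 (σ.permMatrix F) := rfl

theorem permMatrix_congr (σ : Equiv.Perm (Fin m)) (S : Matrix (Fin m) (Fin m) F) :
    σ.permMatrix F * S * (σ.permMatrix F)ᵀ = S.submatrix σ σ := by
  rw [Matrix.transpose_permMatrix]
  show σ.toPEquiv.toMatrix * S * (σ⁻¹).toPEquiv.toMatrix = _
  rw [PEquiv.toMatrix_toPEquiv_mul, PEquiv.mul_toMatrix_toPEquiv]
  rfl

/-- the symmetric matrices `S` with `[[1,S],[0,1]]` in `T` -/
def SS (T : Subgroup (Cfsg.PSp m F)) : AddSubgroup (Matrix (Fin m) (Fin m) F) where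
  carrier := {S | ∃ hS : Sᵀ = S, pi (symU S hS) ∈ T}
  zero_mem' := ⟨Matrix.transpose_zero, by rw [symU_zero, map_one]; exact T.one_mem⟩
  add_mem' := by
    rintro S S' ⟨hS, h⟩ ⟨hS', h'⟩
    refine ⟨by rw [Matrix.transpose_add, hS, hS'], ?_⟩
    rw [← symU_mul S S' hS hS', map_mul]
    exact T.mul_mem h h'
  neg_mem' := by
    rintro S ⟨hS, h⟩
    refine ⟨by rw [Matrix.transpose_neg, hS], ?_⟩
    rw [← symU_inv S hS, map_inv]
    exact T.inv_mem h

theorem mem_SS {T : Subgroup (Cfsg.PSp m F)} {S : Matrix (Fin m) (Fin m) F} :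
    S ∈ SS T ↔ ∃ hS : Sᵀ = S, pi (symU S hS) ∈ T := Iff.rfl

section closed

variable [Finite F] {T : Subgroup (Cfsg.PSp m F)}

/-- `SS T` is stable under congruence by the upper left block of elements of the Siegel parabolic
subgroup -/
theorem SS_conj (hcl : FClosed (Ubar m F) T) {g : symplecticGroup (Fin m) F}
    {A B D : Matrix (Fin m) (Fin m) F}
    (hg : (g : Matrix (Fin m ⊕ Fin m) (Fin m ⊕ Fin m) F) = fromBlocks A B 0 D)
    {S : Matrix (Fin m) (Fin m) F} (hS : S ∈ SS T) : A * S * Aᵀ ∈ SS T := by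
  obtain ⟨hS', h⟩ := hS
  have e := mul_symU_of_block hg S hS'
  have hAS : (A * S * Aᵀ)ᵀ = A * S * Aᵀ := by
    rw [Matrix.transpose_mul, Matrix.transpose_mul, Matrix.transpose_transpose, hS',
      Matrix.mul_assoc]
  have e2 : pi g * pi (symU S hS') * (pi g)⁻¹ = pi (symU (A * S * Aᵀ) hAS) := by
    rw [← map_mul, e, map_mul, mul_inv_cancel_right]
  refine ⟨hAS, ?_⟩
  rw [← e2]
  apply hcl _ h
  rw [e2]
  exact ⟨_, symU_mem _ _, rfl⟩

/-- commutators of elements of `T` with Siegel unipotent elements -/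
theorem SS_comm (hcl : FClosed (Ubar m F) T) {g : symplecticGroup (Fin m) F}
    (hgU : g ∈ spU m F) (hgT : pi g ∈ T) {A B D : Matrix (Fin m) (Fin m) F}
    (hg : (g : Matrix (Fin m ⊕ Fin m) (Fin m ⊕ Fin m) F) = fromBlocks A B 0 D)
    (S : Matrix (Fin m) (Fin m) F) (hS : Sᵀ = S) : A * S * Aᵀ - S ∈ SS T := by
  have hAS : (A * S * Aᵀ)ᵀ = A * S * Aᵀ := by
    rw [Matrix.transpose_mul, Matrix.transpose_mul, Matrix.transpose_transpose, hS,
      Matrix.mul_assoc]
  have e := mul_symU_of_block hg S hS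
  have hAS2 : (A * S * Aᵀ - S)ᵀ = A * S * Aᵀ - S := by rw [Matrix.transpose_sub, hAS, hS]
  have e2 : symU (A * S * Aᵀ - S) hAS2 =
      g * (symU S hS * g⁻¹ * (symU S hS)⁻¹) := by
    have : symU (A * S * Aᵀ) hAS = g * symU S hS * g⁻¹ := by
      rw [e, mul_inv_cancel_right]
    rw [← mul_assoc, ← mul_assoc, ← this, symU_inv, symU_mul]
    exact symU_congr (sub_eq_add_neg _ _) _ _
  refine ⟨hAS2, ?_⟩
  rw [e2, map_mul]
  apply T.mul_mem hgT
  rw [map_mul, map_mul, map_inv, map_inv]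
  apply hcl _ (T.inv_mem hgT)
  rw [← map_inv, ← map_inv, ← map_mul, ← map_mul]
  exact ⟨_, (spU m F).mul_mem ((spU m F).mul_mem (symU_mem _ _) ((spU m F).inv_mem hgU))
    ((spU m F).inv_mem (symU_mem _ _)), rfl⟩

/-- elements of `spU` are products of a Levi element and a Siegel unipotent element -/
theorem spU_decomp {g : symplecticGroup (Fin m) F} (hg : g ∈ spU m F) :
    ∃ (v : SpecialLinearGroup (Fin m) F) (S : Matrix (Fin m) (Fin m) F) (hS : Sᵀ = S),
      v ∈ unitri m F ∧
      (v : Matrix (Fin m) (Fin m) F) =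
        (g : Matrix (Fin m ⊕ Fin m) (Fin m ⊕ Fin m) F).toBlocks₁₁ ∧
      g = ellHom (SpecialLinearGroup.toGL v) * symU S hS := by
  obtain ⟨A, B, D, hgb, hA, hBD, hAD⟩ := spU_blocks hg
  have hS : (Dᵀ * B)ᵀ = Dᵀ * B := by
    rw [Matrix.transpose_mul, Matrix.transpose_transpose, hBD]
  refine ⟨⟨A, hA.det⟩, Dᵀ * B, hS, hA, by rw [hgb, toBlocks_fromBlocks₁₁], ?_⟩
  have h3 : A * Dᵀ = 1 := by
    have : Dᵀ * A = 1 := by
      rw [← Matrix.transpose_transpose A, ← Matrix.transpose_mul, hAD, Matrix.transpose_one]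
    exact mul_eq_one_comm.mp this
  have h4 : (A⁻¹)ᵀ = D := by
    rw [Matrix.transpose_nonsing_inv]
    exact Matrix.inv_eq_right_inv hAD
  have hv1 : ((SpecialLinearGroup.toGL (⟨A, hA.det⟩ : SpecialLinearGroup (Fin m) F) :
      GL (Fin m) F) : Matrix (Fin m) (Fin m) F) = A := rfl
  have hv2 : (((SpecialLinearGroup.toGL (⟨A, hA.det⟩ : SpecialLinearGroup (Fin m) F))⁻¹ :
      GL (Fin m) F) : Matrix (Fin m) (Fin m) F) = A⁻¹ := by
    rw [Matrix.coe_units_inv, hv1]
  apply Subtype.ext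
  show (g : Matrix (Fin m ⊕ Fin m) (Fin m ⊕ Fin m) F) =
    ((ell (SpecialLinearGroup.toGL (⟨A, hA.det⟩ : SpecialLinearGroup (Fin m) F)) :
      symplecticGroup (Fin m) F) : Matrix (Fin m ⊕ Fin m) (Fin m ⊕ Fin m) F) *
      fromBlocks 1 (Dᵀ * B) 0 1
  rw [ell_coe, hv1, hv2, h4, fromBlocks_multiply, hgb]
  congr 1
  · simp
  · rw [Matrix.zero_mul, add_zero, ← Matrix.mul_assoc, h3, Matrix.one_mul]
  · simp
  · simp

end closed

/-! ### auxiliary matrix identities -/

theorem single_neg' (i j : Fin m) (c : F) :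
    Matrix.single i j (-c) = -Matrix.single i j c := by
  ext a b
  rw [Matrix.neg_apply, Matrix.single_apply, Matrix.single_apply]
  split_ifs <;> simp

theorem one_sub_single (i j : Fin m) (c : F) :
    (1 : Matrix (Fin m) (Fin m) F) - Matrix.single i j c = Matrix.transvection i j (-c) := by
  unfold Matrix.transvection
  rw [single_neg', sub_eq_add_neg]

theorem diag_single_diag (f : Fin m → F) (i j : Fin m) (c : F) :
    Matrix.diagonal f * Matrix.single i j c * (Matrix.diagonal f)ᵀ =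
      Matrix.single i j (f i * c * f j) := by
  rw [Matrix.diagonal_transpose]
  ext x y
  rw [Matrix.mul_diagonal, Matrix.diagonal_mul, Matrix.single_apply, Matrix.single_apply]
  by_cases h : i = x ∧ j = y
  · obtain ⟨rfl, rfl⟩ := h
    rw [if_pos ⟨rfl, rfl⟩, if_pos ⟨rfl, rfl⟩]
  · rw [if_neg h, if_neg h, mul_zero, zero_mul]

/-- an additive subgroup of matrices containing the symmetric elementary matrices contains all
symmetric matrices -/
theorem sym_mem_of_gens (𝒮 : AddSubgroup (Matrix (Fin m) (Fin m) F))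
    (hd : ∀ (k : Fin m) (c : F), Matrix.single k k c ∈ 𝒮)
    (ho : ∀ k l : Fin m, k ≠ l → ∀ c : F, Matrix.single k l c + Matrix.single l k c ∈ 𝒮)
    {S : Matrix (Fin m) (Fin m) F} (hS : Sᵀ = S) : S ∈ 𝒮 := by
  classical
  let R : Matrix (Fin m) (Fin m) F := Matrix.of fun a b => if a < b then S a b else 0
  let Dg : Matrix (Fin m) (Fin m) F := Matrix.of fun a b => if a = b then S a a else 0
  have hS' : ∀ a b, S b a = S a b := fun a b => by
    have := congrFun (congrFun hS a) b
    rwa [Matrix.transpose_apply] at this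
  have e : S = Dg + (R + Rᵀ) := by
    ext x y
    simp only [Matrix.add_apply, Matrix.transpose_apply, R, Dg, Matrix.of_apply]
    rcases lt_trichotomy x y with h | h | h
    · rw [if_neg (ne_of_lt h), if_pos h, if_neg (not_lt.mpr (le_of_lt h))]
      ring
    · subst h
      rw [if_pos rfl, if_neg (lt_irrefl _)]
      ring
    · rw [if_neg (ne_of_gt h), if_neg (not_lt.mpr (le_of_lt h)), if_pos h, hS']
      ring
  rw [e]
  apply 𝒮.add_mem
  · rw [Matrix.matrix_eq_sum_single Dg]
    apply 𝒮.sum_mem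
    intro a _
    apply 𝒮.sum_mem
    intro b _
    by_cases hab : a = b
    · subst hab
      exact hd a _
    · have : Dg a b = 0 := by simp [Dg, hab]
      rw [this, Matrix.single_zero]
      exact 𝒮.zero_mem
  · have e2 : R + Rᵀ = ∑ a, ∑ b, (Matrix.single a b (R a b) + Matrix.single b a (R a b)) := by
      simp only [Finset.sum_add_distrib]
      congr 1
      · exact Matrix.matrix_eq_sum_single R
      · conv_lhs => rw [Matrix.matrix_eq_sum_single R]
        simp only [Matrix.transpose_sum, Matrix.transpose_single]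
    rw [e2]
    apply 𝒮.sum_mem
    intro a _
    apply 𝒮.sum_mem
    intro b _
    by_cases hab : a < b
    · exact ho a b (ne_of_lt hab) _
    · have : R a b = 0 := by simp [R, hab]
      rw [this, Matrix.single_zero, Matrix.single_zero, add_zero]
      exact 𝒮.zero_mem

/-- a permutation with prescribed values at two points -/
theorem exists_perm_two {i j k l : Fin m} (hij : i ≠ j) (hkl : k ≠ l) :
    ∃ σ : Equiv.Perm (Fin m), σ k = i ∧ σ l = j := by
  refine ⟨Equiv.swap (Equiv.swap k i l) j * Equiv.swap k i, ?_, ?_⟩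
  · rw [Equiv.Perm.mul_apply, Equiv.swap_apply_left, Equiv.swap_apply_of_ne_of_ne]
    · intro h
      have := (Equiv.swap k i).injective (h.symm.trans (Equiv.swap_apply_left k i).symm)
      exact hkl this.symm
    · exact hij
  · rw [Equiv.Perm.mul_apply, Equiv.swap_apply_left]

end Cfsg.Agent.Lib.Helper16.FusSp
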