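import Mathlib
import Cfsg.Agent.Lib.Helper16.FusSpD

set_option autoImplicit false

/-! A nontrivial fusion-closed subgroup of the standard Sylow `p`-subgroup of `PSp_{2m}(F)` is the
whole Sylow subgroup; simplicity of the `p`-fusion system of `PSp_{2m}(F)`. -/

namespace Cfsg.Agent.Lib.Helper16.FusSp

open Matrix Cfsg Cfsg.FusionSystem Cfsg.Agent.Lib.Helper18.PSpAut
  Cfsg.Agent.Lib.Helper16.FusGen Cfsg.Agent.Lib.Helper3.Fus Cfsg.Agent.Lib.Helper26
  Cfsg.Agent.Lib.Helper10

open Cfsg.Agent.Lib.Helper18.PSLnAut (IsUni unitri mem_unitri)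

variable {m : ℕ} {F : Type*} [Field F] [Fintype F] {T : Subgroup (Cfsg.PSp m F)}

/-- `SS T` is stable under simultaneous permutations of rows and columns -/
theorem SS_perm (hcl : FClosed (Ubar m F) T) (σ : Equiv.Perm (Fin m))
    {S : Matrix (Fin m) (Fin m) F} (hS : S ∈ SS T) : S.submatrix σ σ ∈ SS T := by
  have := SS_conj hcl (ellP_coe σ) hS
  rwa [permMatrix_congr] at this

/-- `SS T` is stable under congruence by diagonal matrices -/
theorem SS_diag (hcl : FClosed (Ubar m F) T) (t : Fin m → Fˣ)
    {S : Matrix (Fin m) (Fin m) F} (hS : S ∈ SS T) :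
    Matrix.diagonal (fun k => ((t k : Fˣ) : F)) * S *
      (Matrix.diagonal (fun k => ((t k : Fˣ) : F)))ᵀ ∈ SS T :=
  SS_conj hcl (dg_coe t) hS

/-- from one off-diagonal symmetric elementary matrix to all of them -/
theorem SS_offdiag_all (hcl : FClosed (Ubar m F) T) {i j : Fin m} (hij : i ≠ j) {c : F}
    (hc : c ≠ 0) (h : Matrix.single i j c + Matrix.single j i c ∈ SS T) :
    ∀ k l : Fin m, k ≠ l → ∀ d : F, Matrix.single k l d + Matrix.single l k d ∈ SS T := by
  -- first all scalars at `(i, j)`
  have h1 : ∀ d : F, Matrix.single i j d + Matrix.single j i d ∈ SS T := by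
    intro d
    by_cases hd : d = 0
    · rw [hd, Matrix.single_zero, Matrix.single_zero, add_zero]
      exact (SS T).zero_mem
    · have hdc : d / c ≠ 0 := div_ne_zero hd hc
      have h2 := SS_diag hcl (Pi.mulSingle i (Units.mk0 (d / c) hdc)) h
      rw [Matrix.mul_add, Matrix.add_mul, diag_single_diag, diag_single_diag] at h2
      simp only [Pi.mulSingle_apply, if_pos, if_neg hij.symm, Units.val_one, Units.val_mk0,
        mul_one, one_mul, if_true] at h2
      rw [div_mul_cancel₀ _ hc, mul_comm c, div_mul_cancel₀ _ hc] at h2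
      exact h2
  intro k l hkl d
  obtain ⟨σ, hσk, hσl⟩ := exists_perm_two hij hkl
  have h3 := SS_perm hcl σ (h1 d)
  rw [Matrix.submatrix_add, Pi.add_apply] at h3
  have e1 : σ.symm i = k := by rw [Equiv.symm_apply_eq, hσk]
  have e2 : σ.symm j = l := by rw [Equiv.symm_apply_eq, hσl]
  change (Matrix.single i j d).submatrix σ σ + (Matrix.single j i d).submatrix σ σ ∈ SS T at h3
  rw [Matrix.submatrix_single_equiv, Matrix.submatrix_single_equiv, e1, e2] at h3
  exact h3

section Wel

variable [Finite F]

/-- the conjugate of the short root element `x_{e_i+e_j}(c)` by `x_{-2e_j}(d)` -/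
def Wel (i j : Fin m) (c d : F) : symplecticGroup (Fin m) F :=
  symL (Matrix.single j j d) (Matrix.transpose_single j j d) *
    symU (Matrix.single i j c + Matrix.single j i c) (single_add_single_transpose i j c) *
    (symL (Matrix.single j j d) (Matrix.transpose_single j j d))⁻¹

omit [Fintype F] in
theorem Wel_coe {i j : Fin m} (hij : i ≠ j) (c d : F) :
    ((Wel i j c d : symplecticGroup (Fin m) F) : Matrix (Fin m ⊕ Fin m) (Fin m ⊕ Fin m) F) =
      fromBlocks (Matrix.transvection i j (-(c * d))) (Matrix.single i j c + Matrix.single j i c) 0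
        (1 + Matrix.single j i (c * d)) := by
  unfold Wel
  rw [symL_conj_symU_coe hij, one_sub_single]

omit [Fintype F] in
theorem Wel_mem_spU {i j : Fin m} (hij : i < j) (c d : F) : Wel i j c d ∈ spU m F := by
  rw [mem_spU, Wel_coe (ne_of_lt hij), isSpU_fromBlocks]
  exact ⟨rfl, isUni_transvection hij _⟩

omit [Fintype F] in
theorem pi_Wel_mem (hcl : FClosed (Ubar m F) T) {i j : Fin m} (hij : i < j) (c d : F)
    (h : Matrix.single i j c + Matrix.single j i c ∈ SS T) : pi (Wel i j c d) ∈ T := by
  obtain ⟨hS, h1⟩ := h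
  unfold Wel
  rw [map_mul, map_mul, map_inv]
  apply hcl _ h1
  rw [← map_inv, ← map_mul, ← map_mul]
  exact ⟨_, Wel_mem_spU hij c d, rfl⟩

end Wel

/-- the diagonal symmetric elementary matrices -/
theorem SS_diag_all (hm : 2 ≤ m) (hcl : FClosed (Ubar m F) T)
    (hoff : ∀ k l : Fin m, k ≠ l → ∀ d : F, Matrix.single k l d + Matrix.single l k d ∈ SS T) :
    ∀ (k : Fin m) (d : F), Matrix.single k k d ∈ SS T := by
  let i0 : Fin m := ⟨0, by omega⟩
  let i1 : Fin m := ⟨1, by omega⟩
  have h01 : i0 < i1 := by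
    rw [Fin.lt_def]
    show 0 < 1
    omega
  have hne : i0 ≠ i1 := ne_of_lt h01
  have h0 : ∀ d : F, Matrix.single i0 i0 d ∈ SS T := by
    intro d
    have hW := pi_Wel_mem hcl h01 1 1 (hoff i0 i1 hne 1)
    have h2 := SS_comm hcl (Wel_mem_spU h01 1 1) hW (Wel_coe hne 1 1) (Matrix.single i1 i1 d)
      (Matrix.transpose_single i1 i1 d)
    have e : Matrix.transvection i0 i1 (-(1 * 1 : F)) * Matrix.single i1 i1 d *
        (Matrix.transvection i0 i1 (-(1 * 1 : F)))ᵀ - Matrix.single i1 i1 d =
        Matrix.single i0 i0 d - (Matrix.single i0 i1 d + Matrix.single i1 i0 d) := by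
      unfold Matrix.transvection
      rw [Matrix.transpose_add, Matrix.transpose_one, Matrix.transpose_single]
      simp only [Matrix.add_mul, Matrix.mul_add, Matrix.one_mul, Matrix.mul_one,
        Matrix.single_mul_single_same, Matrix.single_mul_single_of_ne _ _ _ _ hne.symm,
        mul_one, one_mul]
      have a1 : (-1 : F) * d = -d := by ring
      have a2 : d * (-1 : F) = -d := by ring
      have a3 : -d * (-1 : F) = d := by ring
      rw [a1, a2, a3, single_neg', single_neg']
      abel
    rw [e] at h2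
    have h3 := (SS T).add_mem h2 (hoff i0 i1 hne d)
    rwa [sub_add_cancel] at h3
  intro k d
  have h4 := SS_perm hcl (Equiv.swap i0 k) (h0 d)
  rw [Matrix.submatrix_single_equiv, Equiv.symm_swap, Equiv.swap_apply_left] at h4
  exact h4

/-- once all Siegel unipotent elements are in `T`, so are the Levi root elements -/
theorem pi_ellT_mem (hcl : FClosed (Ubar m F) T)
    (hall : ∀ S : Matrix (Fin m) (Fin m) F, Sᵀ = S → S ∈ SS T) {i j : Fin m} (hij : i < j)
    (t : F) : pi (ellT i j (ne_of_lt hij) t) ∈ T := by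
  have hne : i ≠ j := ne_of_lt hij
  have hW := pi_Wel_mem hcl hij 1 (-t) (hall _ (single_add_single_transpose i j 1))
  obtain ⟨v, S, hS, hv, hv1, hdec⟩ := spU_decomp (Wel_mem_spU hij (1 : F) (-t))
  rw [Wel_coe hne, toBlocks_fromBlocks₁₁, one_mul, neg_neg] at hv1
  have hv2 : v = SpecialLinearGroup.transvection hne t := by
    apply Subtype.ext
    rw [hv1, SpecialLinearGroup.transvection_coe]
    rfl
  rw [hv2, ell_toGL_transvection] at hdec
  obtain ⟨hS', hS2⟩ := hall S hS
  have e : ellT i j hne t = Wel i j 1 (-t) * (symU S hS)⁻¹ := by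
    rw [hdec, mul_inv_cancel_right]
  rw [e, map_mul, map_inv]
  exact T.mul_mem hW (T.inv_mem hS2)

section central

variable (p : ℕ) [Fact p.Prime] [CharP F p]

include p in
/-- a nontrivial fusion-closed subgroup contains a nontrivial central Siegel unipotent element -/
theorem exists_central_mem_SS (hm : 2 ≤ m) (hT : T ≤ Ubar m F) (hne : T ≠ ⊥)
    (hcl : FClosed (Ubar m F) T) :
    ∃ a b : F, (a ≠ 0 ∨ b ≠ 0) ∧
      Matrix.single (⟨0, by omega⟩ : Fin m) ⟨0, by omega⟩ a +
        (Matrix.single (⟨0, by omega⟩ : Fin m) ⟨1, by omega⟩ b +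
          Matrix.single (⟨1, by omega⟩ : Fin m) ⟨0, by omega⟩ b) ∈ SS T := by
  have hP : IsPGroup p (Ubar m F) := isPGroup_Ubar p
  have : (T.subgroupOf (Ubar m F)).Normal := by
    constructor
    intro x hx g
    rw [Subgroup.mem_subgroupOf] at hx ⊢
    exact hcl _ hx g (g * x * g⁻¹).2
  have hne' : T.subgroupOf (Ubar m F) ≠ ⊥ := by
    intro h
    apply hne
    rw [Subgroup.eq_bot_iff_forall] at h ⊢
    intro x hx
    have := h ⟨x, hT hx⟩ (Subgroup.mem_subgroupOf.mpr hx)
    exact congrArg Subtype.val this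
  obtain ⟨x, hxT, hxZ, hx1⟩ :=
    exists_mem_center_of_normal_ne_bot p hP (T.subgroupOf (Ubar m F)) hne'
  obtain ⟨z, hz, hzx⟩ := x.2
  have hzT : pi z ∈ T := by
    rw [hzx]
    exact Subgroup.mem_subgroupOf.mp hxT
  have hzc : ∀ u ∈ spU m F, z * u = u * z := by
    intro u hu
    apply commute_of_pi_commute (by omega) hz hu
    have := Subgroup.mem_center_iff.mp hxZ ⟨pi u, ⟨u, hu, rfl⟩⟩
    have h2 := congrArg Subtype.val this
    rw [hzx]
    exact h2.symm
  let i0 : Fin m := ⟨0, by omega⟩
  let i1 : Fin m := ⟨1, by omega⟩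
  have h0 : ∀ k : Fin m, i0 ≤ k := fun k => Fin.mk_le_of_le_val (Nat.zero_le _)
  have h01 : i0 < i1 := by
    rw [Fin.lt_def]
    show 0 < 1
    omega
  have h1 : ∀ k : Fin m, k ≠ i0 → i1 ≤ k := by
    intro k hk
    rw [Fin.le_def]
    show 1 ≤ k.val
    have : k.val ≠ 0 := fun h => hk (Fin.ext h)
    omega
  obtain ⟨a, b, hab⟩ := central_three h0 h01 h1 hz hzc
  have hS : (Matrix.single i0 i0 a + (Matrix.single i0 i1 b + Matrix.single i1 i0 b))ᵀ =
      Matrix.single i0 i0 a + (Matrix.single i0 i1 b + Matrix.single i1 i0 b) := by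
    rw [Matrix.transpose_add, Matrix.transpose_single, single_add_single_transpose]
  have hzS : z = symU _ hS := Subtype.ext hab
  refine ⟨a, b, ?_, hS, by rw [← hzS]; exact hzT⟩
  by_contra hcon
  rw [not_or, not_not, not_not] at hcon
  apply hx1
  apply Subtype.ext
  rw [← hzx, hzS]
  have : symU _ hS = (1 : symplecticGroup (Fin m) F) := by
    rw [← symU_zero]
    apply symU_congr
    rw [hcon.1, hcon.2, Matrix.single_zero, Matrix.single_zero, Matrix.single_zero, add_zero,
      add_zero]
  rw [this, map_one]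
  rfl

end central

/-- from a nontrivial central element to an off-diagonal symmetric elementary matrix -/
theorem exists_offdiag_mem_SS (hm : 2 ≤ m) (hex : m = 2 → 3 ≤ Fintype.card F)
    (hcl : FClosed (Ubar m F) T) {a b : F} (hab : a ≠ 0 ∨ b ≠ 0)
    (h : Matrix.single (⟨0, by omega⟩ : Fin m) ⟨0, by omega⟩ a +
        (Matrix.single (⟨0, by omega⟩ : Fin m) ⟨1, by omega⟩ b +
          Matrix.single (⟨1, by omega⟩ : Fin m) ⟨0, by omega⟩ b) ∈ SS T) :
    ∃ (i j : Fin m) (c : F), i ≠ j ∧ c ≠ 0 ∧
      Matrix.single i j c + Matrix.single j i c ∈ SS T := by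
  obtain ⟨i0, hi0⟩ : ∃ i0 : Fin m, i0 = ⟨0, by omega⟩ := ⟨_, rfl⟩
  obtain ⟨i1, hi1⟩ : ∃ i1 : Fin m, i1 = ⟨1, by omega⟩ := ⟨_, rfl⟩
  rw [← hi0, ← hi1] at h
  have h01 : i0 ≠ i1 := by
    rw [hi0, hi1]
    intro hh
    have := congrArg Fin.val hh
    simp at this
  by_cases hb : b = 0
  · -- the long root element case
    have ha : a ≠ 0 := by
      rcases hab with ha | hb'
      · exact ha
      · exact absurd hb hb'
    rw [hb, Matrix.single_zero, Matrix.single_zero, add_zero, add_zero] at h
    have h1 := SS_conj hcl (ellT_coe i1 i0 h01.symm (1 : F)) h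
    have h2 := SS_perm hcl (Equiv.swap i0 i1) h
    rw [Matrix.submatrix_single_equiv, Equiv.symm_swap, Equiv.swap_apply_left] at h2
    have e : Matrix.transvection i1 i0 (1 : F) * Matrix.single i0 i0 a *
        (Matrix.transvection i1 i0 (1 : F))ᵀ =
        (Matrix.single i0 i1 a + Matrix.single i1 i0 a) +
          (Matrix.single i0 i0 a + Matrix.single i1 i1 a) := by
      unfold Matrix.transvection
      rw [Matrix.transpose_add, Matrix.transpose_one, Matrix.transpose_single]
      simp only [Matrix.add_mul, Matrix.mul_add, Matrix.one_mul, Matrix.mul_one,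
        Matrix.single_mul_single_same, mul_one, one_mul]
      abel
    rw [e] at h1
    have h3 := (SS T).sub_mem h1 ((SS T).add_mem h h2)
    rw [add_sub_cancel_right] at h3
    exact ⟨i0, i1, a, h01, ha, h3⟩
  · by_cases hm3 : 3 ≤ m
    · -- conjugate by a lower elementary matrix
      let i2 : Fin m := ⟨2, by omega⟩
      have h02 : i0 ≠ i2 := by
        rw [hi0]
        intro hh
        have := congrArg Fin.val hh
        simp [i2] at this
      have h12 : i1 ≠ i2 := by
        rw [hi1]
        intro hh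
        have := congrArg Fin.val hh
        simp [i2] at this
      have h1 := SS_conj hcl (ellT_coe i2 i1 h12.symm (1 : F)) h
      have e : Matrix.transvection i2 i1 (1 : F) *
          (Matrix.single i0 i0 a + (Matrix.single i0 i1 b + Matrix.single i1 i0 b)) *
          (Matrix.transvection i2 i1 (1 : F))ᵀ =
          (Matrix.single i0 i2 b + Matrix.single i2 i0 b) +
            (Matrix.single i0 i0 a + (Matrix.single i0 i1 b + Matrix.single i1 i0 b)) := by
        unfold Matrix.transvection
        rw [Matrix.transpose_add, Matrix.transpose_one, Matrix.transpose_single]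
        simp only [Matrix.add_mul, Matrix.mul_add, Matrix.one_mul, Matrix.mul_one,
          Matrix.single_mul_single_same, Matrix.single_mul_single_of_ne _ _ _ _ h01.symm,
          Matrix.single_mul_single_of_ne _ _ _ _ h01, Matrix.zero_mul, Matrix.mul_zero,
          mul_one, one_mul, add_zero, zero_add]
        abel
      rw [e] at h1
      have h3 := (SS T).sub_mem h1 h
      rw [add_sub_cancel_right] at h3
      exact ⟨i0, i2, b, h02, hb, h3⟩
    · -- `m = 2`: conjugate by a torus element
      have hm2 : m = 2 := by omega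
      have hcard := hex hm2
      obtain ⟨t, ht0, ht1⟩ : ∃ t : F, t ≠ 0 ∧ t ≠ 1 := by
        classical
        by_contra hcon
        have hle : Fintype.card F ≤ 2 := by
          have : ∀ x : F, x = 0 ∨ x = 1 := by
            intro x
            by_contra hx
            rw [not_or] at hx
            exact hcon ⟨x, hx.1, hx.2⟩
          calc Fintype.card F = (Finset.univ : Finset F).card := rfl
            _ ≤ ({0, 1} : Finset F).card := by
              apply Finset.card_le_card
              intro x _
              rcases this x with h' | h'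
              · rw [h']; simp
              · rw [h']; simp
            _ ≤ 2 := Finset.card_le_two
        omega
      have h1 := SS_diag hcl (Pi.mulSingle i1 (Units.mk0 t ht0)) h
      rw [Matrix.mul_add, Matrix.mul_add, Matrix.add_mul, Matrix.add_mul, diag_single_diag,
        diag_single_diag, diag_single_diag] at h1
      simp only [Pi.mulSingle_apply, if_neg h01, if_true, Units.val_one, Units.val_mk0,
        mul_one, one_mul] at h1
      have h3 := (SS T).sub_mem h1 h
      have e : Matrix.single i0 i0 a + (Matrix.single i0 i1 (b * t) + Matrix.single i1 i0 (t * b)) -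
          (Matrix.single i0 i0 a + (Matrix.single i0 i1 b + Matrix.single i1 i0 b)) =
          Matrix.single i0 i1 ((t - 1) * b) + Matrix.single i1 i0 ((t - 1) * b) := by
        have a1 : b * t = (t - 1) * b + b := by ring
        have a2 : t * b = (t - 1) * b + b := by ring
        rw [a1, a2, Matrix.single_add, Matrix.single_add]
        abel
      rw [e] at h3
      exact ⟨i0, i1, (t - 1) * b, h01, mul_ne_zero (sub_ne_zero.mpr ht1) hb, h3⟩

section final

variable (p : ℕ) [Fact p.Prime] [CharP F p]

include p in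
/-- a nontrivial fusion-closed subgroup of `Ubar` is all of `Ubar` -/
theorem fclosed_eq_Ubar (hm : 2 ≤ m) (hex : m = 2 → 3 ≤ Fintype.card F)
    (T : Subgroup (Cfsg.PSp m F)) (hT : T ≤ Ubar m F) (hne : T ≠ ⊥)
    (hcl : FClosed (Ubar m F) T) : T = Ubar m F := by
  obtain ⟨a, b, hab, h0⟩ := exists_central_mem_SS p hm hT hne hcl
  obtain ⟨i, j, c, hij, hc, h1⟩ := exists_offdiag_mem_SS hm hex hcl hab h0
  have hoff := SS_offdiag_all hcl hij hc h1
  have hdiag := SS_diag_all hm hcl hoff
  have hall : ∀ S : Matrix (Fin m) (Fin m) F, Sᵀ = S → S ∈ SS T :=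
    fun S hS => sym_mem_of_gens (SS T) hdiag hoff hS
  apply le_antisymm hT
  rintro _ ⟨g, hg, rfl⟩
  obtain ⟨v, S, hS, hv, -, hdec⟩ := spU_decomp hg
  obtain ⟨hS', hS2⟩ := hall S hS
  rw [hdec, map_mul]
  apply T.mul_mem _ hS2
  have h5 := FusPSLn.unitri_le_closure hv
  have h6 : Subgroup.closure {x | ∃ (i j : Fin m) (h : i < j) (c : F),
      x = SpecialLinearGroup.transvection (ne_of_lt h) c} ≤
      T.comap (pi.comp (ellHom.comp SpecialLinearGroup.toGL)) := by
    rw [Subgroup.closure_le]
    rintro _ ⟨i, j, hij, c', rfl⟩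
    show pi (ellHom (SpecialLinearGroup.toGL (SpecialLinearGroup.transvection (ne_of_lt hij) c'))) ∈ T
    rw [ell_toGL_transvection]
    exact pi_ellT_mem hcl hall hij c'
  exact h6 h5

/-- the `p`-fusion system of `PSp_{2m}(F)` (`m ≥ 2`, `F` finite of characteristic `p`, not
`PSp_4(2)`) on a Sylow `p`-subgroup is simple. -/
theorem isSimple_PSp (hm : 2 ≤ m) (hex : m = 2 → 3 ≤ Fintype.card F)
    (S : Sylow p (Cfsg.PSp m F)) :
    (groupFusionSystem (S : Subgroup (Cfsg.PSp m F))).IsSimple p := by
  apply isSimple_of_subgroup_gen (Ubar m F) ?_ ?_ (normalizer_le_closure_genSet p hm)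
    (fun T hT hne hcl => fclosed_eq_Ubar p hm hex T hT hne hcl) S
  · rw [← coe_sylowUbar p]
    exact Sylow.card_eq_multiplicity _
  · intro hbot
    let i0 : Fin m := ⟨0, by omega⟩
    have h1 : pi (symU (Matrix.single i0 i0 (1 : F)) (Matrix.transpose_single i0 i0 1)) ∈
        Ubar m F := ⟨_, symU_mem _ _, rfl⟩
    rw [hbot, Subgroup.mem_bot] at h1
    have h2 : pi (symU (Matrix.single i0 i0 (1 : F)) (Matrix.transpose_single i0 i0 1)) =
        pi 1 := by rw [h1, map_one]
    rw [pi_eq_iff (by omega)] at h2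
    have h3 : ((1 : symplecticGroup (Fin m) F) : Matrix (Fin m ⊕ Fin m) (Fin m ⊕ Fin m) F) = 1 :=
      rfl
    rcases h2 with h2 | h2
    · have h4 := congrFun (congrFun h2 (Sum.inl i0)) (Sum.inr i0)
      rw [h3, symU_coe, fromBlocks_apply₁₂, Matrix.single_apply_same,
        Matrix.one_apply_ne (by simp)] at h4
      exact zero_ne_one h4
    · have h4 := congrFun (congrFun h2 (Sum.inl i0)) (Sum.inr i0)
      rw [h3, symU_coe, Matrix.neg_apply, fromBlocks_apply₁₂, Matrix.single_apply_same,
        Matrix.one_apply_ne (by simp)] at h4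
      have : (1 : F) = 0 := by
        have := congrArg Neg.neg h4
        rw [neg_neg, neg_zero] at this
        exact this.symm
      exact one_ne_zero this

end final

end Cfsg.Agent.Lib.Helper16.FusSp
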