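import Cfsg.Agent.Lib.Helper16.TwoRank5

set_option autoImplicit false

namespace Cfsg.Agent.Lib.Helper16.GLRank

open Matrix

variable {F : Type*} [Field F] {l : Type*} [Fintype l] [DecidableEq l]

theorem spEmb_mem (g : GL l F) :
    fromBlocks (g : Matrix l l F) 0 0 ((g⁻¹ : GL l F) : Matrix l l F)ᵀ ∈ symplecticGroup l F := by
  rw [SymplecticGroup.mem_iff]
  unfold Matrix.J
  rw [fromBlocks_transpose, fromBlocks_multiply, fromBlocks_multiply]
  simp only [Matrix.mul_zero, Matrix.zero_mul, add_zero, zero_add, Matrix.transpose_zero,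
    Matrix.mul_one, Matrix.mul_neg, Matrix.transpose_transpose, Matrix.neg_mul]
  have h1 : (g : Matrix l l F) * ((g⁻¹ : GL l F) : Matrix l l F) = 1 := by
    rw [← Units.val_mul, mul_inv_cancel, Units.val_one]
  have h2 : ((g⁻¹ : GL l F) : Matrix l l F)ᵀ * (g : Matrix l l F)ᵀ = 1 := by
    rw [← Matrix.transpose_mul, h1, Matrix.transpose_one]
  rw [h1, h2, neg_zero]

/-- `g ↦ diag(g, g⁻ᵀ)` -/
def spEmb (F : Type*) [Field F] (l : Type*) [Fintype l] [DecidableEq l] :
    GL l F →* symplecticGroup l F :=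
  MonoidHom.mk' (fun g => ⟨_, spEmb_mem g⟩) (by
    intro g h
    apply Subtype.ext
    show fromBlocks ((g * h : GL l F) : Matrix l l F) 0 0 (((g * h)⁻¹ : GL l F) : Matrix l l F)ᵀ =
      fromBlocks (g : Matrix l l F) 0 0 ((g⁻¹ : GL l F) : Matrix l l F)ᵀ *
        fromBlocks (h : Matrix l l F) 0 0 ((h⁻¹ : GL l F) : Matrix l l F)ᵀ
    rw [fromBlocks_multiply]
    simp only [Matrix.mul_zero, Matrix.zero_mul, add_zero, zero_add]
    rw [_root_.mul_inv_rev, Units.val_mul, Units.val_mul, Matrix.transpose_mul])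

theorem spEmb_injective : Function.Injective (spEmb F l) := by
  intro g h hgh
  have h1 : fromBlocks (g : Matrix l l F) 0 0 ((g⁻¹ : GL l F) : Matrix l l F)ᵀ =
      fromBlocks (h : Matrix l l F) 0 0 ((h⁻¹ : GL l F) : Matrix l l F)ᵀ := congrArg Subtype.val hgh
  rw [fromBlocks_inj] at h1
  exact Units.ext h1.1

theorem card_le_of_elementary_abelian_GL (h2 : (2 : F) ≠ 0) {X : Type*} [Group X] [Finite X]
    (ρ : X →* GL l F) (hρ : Function.Injective ρ)
    (hc : ∀ x y : X, x * y = y * x) (hsq : ∀ x : X, x ^ 2 = 1) :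
    Nat.card X ≤ 2 ^ Fintype.card l :=
  Cfsg.Agent.Lib.Helper16.TwoRank.card_le_of_elementary_abelian h2 ((spEmb F l).comp ρ)
    (spEmb_injective.comp hρ) hc hsq

end Cfsg.Agent.Lib.Helper16.GLRank
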