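import Cfsg.Agent.Lib.Helper16.GLRank9

set_option autoImplicit false

namespace Cfsg.Agent.Lib.Helper16.GLRank

open Matrix Cfsg.Agent.Lib.Helper16.SylAb

section lower

variable {F : Type*} [Field F] {ι : Type*} [Fintype ι] [DecidableEq ι] {m t : ℕ}

/-- `ε ↦ ε • 1` -/
def scHom (F : Type*) [Field F] (ι : Type*) [Fintype ι] [DecidableEq ι] : ℤˣ →* GL ι F :=
  Units.map (((Matrix.scalar ι).comp (Int.castRingHom F)) : ℤ →+* Matrix ι ι F).toMonoidHom

theorem scHom_val (ε : ℤˣ) :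
    ((scHom F ι ε : GL ι F) : Matrix ι ι F) = Matrix.scalar ι (((ε : ℤ) : F)) := rfl

theorem scHom_central (ε : ℤˣ) (g : GL ι F) : g * scHom F ι ε * g⁻¹ = scHom F ι ε := by
  rw [mul_inv_eq_iff_eq_mul]
  apply Units.ext
  rw [Units.val_mul, Units.val_mul, scHom_val]
  exact ((Matrix.scalar_commute _ (fun r' => Commute.all _ r') _).eq).symm

theorem int_unit_cast_injective (h2 : (2 : F) ≠ 0) (a b : ℤˣ)
    (h : (((a : ℤ) : F)) = (((b : ℤ) : F))) : a = b := by
  rcases Int.units_eq_one_or a with rfl | rfl <;> rcases Int.units_eq_one_or b with rfl | rfl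
  · rfl
  · exfalso
    apply h2
    have : (1 : F) = -1 := by simpa using h
    calc (2 : F) = 1 + 1 := by ring
      _ = 1 + -1 := by rw [← this]
      _ = 0 := by ring
  · exfalso
    apply h2
    have : (-1 : F) = 1 := by simpa using h
    calc (2 : F) = 1 + 1 := by ring
      _ = 1 + -1 := by rw [this]
      _ = 0 := by ring
  · rfl

theorem scHom_injective [Nonempty ι] (h2 : (2 : F) ≠ 0) : Function.Injective (scHom F ι) := by
  intro a b hab
  have h1 := congrArg Units.val hab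
  rw [scHom_val, scHom_val, Matrix.scalar_inj] at h1
  exact int_unit_cast_injective h2 a b h1

/-- diagonal matrices with entries `±1` -/
def dgHom (F : Type*) [Field F] (t : ℕ) : (Fin t → ℤˣ) →* GL (Fin t) F :=
  (Units.map (((Matrix.diagonalRingHom (Fin t) F).comp
    ((Int.castRingHom F).compLeft (Fin t))) : (Fin t → ℤ) →+* Matrix (Fin t) (Fin t) F).toMonoidHom).comp
    (MulEquiv.piUnits (ι := Fin t) (M := fun _ => ℤ)).symm.toMonoidHom

theorem dgHom_val (δ : Fin t → ℤˣ) :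
    ((dgHom F t δ : GL (Fin t) F) : Matrix (Fin t) (Fin t) F) =
      Matrix.diagonal (fun d => (((δ d : ℤ)) : F)) := rfl

theorem dgHom_injective (h2 : (2 : F) ≠ 0) : Function.Injective (dgHom F t) := by
  intro a b hab
  have h1 := congrArg Units.val hab
  rw [dgHom_val, dgHom_val] at h1
  have h3 := Matrix.diagonal_injective h1
  funext d
  exact int_unit_cast_injective h2 _ _ (congrFun h3 d)

theorem commute_of_le_one (ht : t ≤ 1) (g h : GL (Fin t) F) : g * h = h * g := by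
  have : Subsingleton (Fin t) := by
    rcases Nat.le_one_iff_eq_zero_or_eq_one.mp ht with rfl | rfl
    · infer_instance
    · infer_instance
  apply Units.ext
  rw [Units.val_mul, Units.val_mul]
  ext a b
  rw [Matrix.mul_apply, Matrix.mul_apply, Fintype.sum_subsingleton _ a,
    Fintype.sum_subsingleton _ a, Subsingleton.elim b a, mul_comm]

/-- the elementary abelian subgroup of block scalars -/
def zBlk (F : Type*) [Field F] (ι : Type*) [Fintype ι] [DecidableEq ι] (m t : ℕ) :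
    (Fin m → ℤˣ) × (Fin t → ℤˣ) →* GL ((ι × Fin m) ⊕ Fin t) F :=
  (dBU F (ι × Fin m) (Fin t)).comp
    (MonoidHom.prodMap ((bdHom F ι m).comp ((scHom F ι).compLeft (Fin m))) (dgHom F t))

theorem zBlk_apply (ε : Fin m → ℤˣ) (δ : Fin t → ℤˣ) :
    zBlk F ι m t (ε, δ) =
      dBU F (ι × Fin m) (Fin t) (bdHom F ι m (fun k => scHom F ι (ε k)), dgHom F t δ) := rfl

theorem zBlk_injective [Nonempty ι] (h2 : (2 : F) ≠ 0) : Function.Injective (zBlk F ι m t) := by
  rintro ⟨ε, δ⟩ ⟨ε', δ'⟩ h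
  rw [zBlk_apply, zBlk_apply] at h
  have h1 := dBU_injective h
  rw [Prod.mk.injEq] at h1
  have h3 := bdHom_injective h1.1
  have h4 := dgHom_injective h2 h1.2
  refine Prod.ext ?_ h4
  funext k
  exact scHom_injective h2 (congrFun h3 k)

/-- the odd index subgroup `(GL_ι wr S_m) × GL_t` -/
def wrL (F : Type*) [Field F] (ι : Type*) [Fintype ι] [DecidableEq ι] (m t : ℕ) :
    Subgroup (GL ((ι × Fin m) ⊕ Fin t) F) :=
  (((bdHom F ι m).range ⊔ (ppHom F ι m).range).prod (⊤ : Subgroup (GL (Fin t) F))).map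
    (dBU F (ι × Fin m) (Fin t))

theorem le_normalizer_sc :
    (bdHom F ι m).range ⊔ (ppHom F ι m).range ≤ Subgroup.normalizer
      ((((bdHom F ι m).comp ((scHom F ι).compLeft (Fin m))).range : Subgroup (GL (ι × Fin m) F)) :
        Set (GL (ι × Fin m) F)) := by
  refine sup_le ?_ ?_
  · have key : ∀ (g : Fin m → GL ι F) (ε : Fin m → ℤˣ),
        bdHom F ι m g * bdHom F ι m (fun k => scHom F ι (ε k)) * (bdHom F ι m g)⁻¹ =
          bdHom F ι m (fun k => scHom F ι (ε k)) := by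
      intro g ε
      rw [← map_inv, ← map_mul, ← map_mul]
      congr 1
      funext k
      exact scHom_central (ε k) (g k)
    rintro _ ⟨g, rfl⟩
    apply mem_normalizer_of_conj
    · rintro _ ⟨ε, rfl⟩
      show bdHom F ι m g * bdHom F ι m (fun k => scHom F ι (ε k)) * (bdHom F ι m g)⁻¹ ∈ _
      rw [key]
      exact ⟨ε, rfl⟩
    · rintro _ ⟨ε, rfl⟩
      have := key g⁻¹ ε
      rw [map_inv, inv_inv] at this
      show (bdHom F ι m g)⁻¹ * bdHom F ι m (fun k => scHom F ι (ε k)) * bdHom F ι m g ∈ _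
      rw [this]
      exact ⟨ε, rfl⟩
  · have key : ∀ (σ : Equiv.Perm (Fin m)) (ε : Fin m → ℤˣ),
        ppHom F ι m σ * bdHom F ι m (fun k => scHom F ι (ε k)) * (ppHom F ι m σ)⁻¹ ∈
          ((bdHom F ι m).comp ((scHom F ι).compLeft (Fin m))).range := by
      intro σ ε
      refine ⟨fun k => ε (σ⁻¹ k), ?_⟩
      rw [ppHom_mul_bdHom]
      rfl
    rintro _ ⟨σ, rfl⟩
    apply mem_normalizer_of_conj
    · rintro _ ⟨ε, rfl⟩
      exact key σ ε
    · rintro _ ⟨ε, rfl⟩
      have := key σ⁻¹ ε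
      rwa [map_inv, inv_inv] at this

theorem wrL_le_normalizer (ht : t ≤ 1) :
    wrL F ι m t ≤ Subgroup.normalizer ((zBlk F ι m t).range : Set (GL ((ι × Fin m) ⊕ Fin t) F)) := by
  have key : ∀ (x : GL (ι × Fin m) F) (y : GL (Fin t) F),
      x ∈ (bdHom F ι m).range ⊔ (ppHom F ι m).range → ∀ (ε : Fin m → ℤˣ) (δ : Fin t → ℤˣ),
      dBU F (ι × Fin m) (Fin t) (x, y) * zBlk F ι m t (ε, δ) *
        (dBU F (ι × Fin m) (Fin t) (x, y))⁻¹ ∈ (zBlk F ι m t).range := by
    intro x y hx ε δ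
    have h1 := le_normalizer_sc hx
    have h2 : x * bdHom F ι m (fun k => scHom F ι (ε k)) * x⁻¹ ∈
        ((bdHom F ι m).comp ((scHom F ι).compLeft (Fin m))).range :=
      (Subgroup.mem_normalizer_iff.mp h1 _).mp ⟨ε, rfl⟩
    obtain ⟨ε', hε'⟩ := h2
    refine ⟨(ε', δ), ?_⟩
    rw [zBlk_apply, zBlk_apply, ← map_inv, ← map_mul, ← map_mul]
    congr 1
    rw [Prod.inv_mk, Prod.mk_mul_mk, Prod.mk_mul_mk]
    refine Prod.ext ?_ ?_
    · exact hε'
    · show dgHom F t δ = y * dgHom F t δ * y⁻¹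
      rw [commute_of_le_one ht y, mul_inv_cancel_right]
  rintro _ ⟨⟨x, y⟩, ⟨hx, _⟩, rfl⟩
  apply mem_normalizer_of_conj
  · rintro _ ⟨⟨ε, δ⟩, rfl⟩
    exact key x y hx ε δ
  · rintro _ ⟨⟨ε, δ⟩, rfl⟩
    have := key x⁻¹ y⁻¹ (Subgroup.inv_mem _ hx) ε δ
    rw [← Prod.inv_mk, map_inv, inv_inv] at this
    exact this

end lower

end Cfsg.Agent.Lib.Helper16.GLRank
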