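import Cfsg.Agent.Lib.Helper16.GLRank10

set_option autoImplicit false

namespace Cfsg.Agent.Lib.Helper16.GLRank

open Matrix Cfsg.Agent.Lib.Helper16.SylAb

section lower2

variable {F : Type*} [Field F] [Fintype F] {ι : Type*} [Fintype ι] [DecidableEq ι] {m t : ℕ}

theorem card_wreath [Nonempty ι] :
    Nat.card ↥((bdHom F ι m).range ⊔ (ppHom F ι m).range) =
      Nat.card (GL ι F) ^ m * (Nat.factorial m) := by
  classical
  have hK : (ppHom F ι m).range ≤ Subgroup.normalizer ((bdHom F ι m).range : Set _) := by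
    rintro _ ⟨σ, rfl⟩
    apply mem_normalizer_of_conj
    · rintro _ ⟨g, rfl⟩
      exact ⟨_, (ppHom_mul_bdHom σ g).symm⟩
    · rintro _ ⟨g, rfl⟩
      have := ppHom_mul_bdHom σ⁻¹ g
      rw [map_inv, inv_inv] at this
      exact ⟨_, this.symm⟩
  have hdisj : (bdHom F ι m).range ⊓ (ppHom F ι m).range = ⊥ := by
    ext x
    rw [Subgroup.mem_inf, Subgroup.mem_bot]
    constructor
    · rintro ⟨⟨g, rfl⟩, ⟨σ, hσ⟩⟩
      have h1 := congrArg Units.val hσ
      rw [ppHom_val, bdHom_val] at h1
      have h2 : σ = 1 := pp_eq_blockDiagonal σ _ h1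
      rw [← hσ, h2, map_one]
    · rintro rfl
      exact ⟨one_mem _, one_mem _⟩
  rw [sup_comm, card_sup_of_normalizer _ _ hK hdisj,
    Nat.card_congr (MonoidHom.ofInjective bdHom_injective).toEquiv.symm,
    Nat.card_congr (MonoidHom.ofInjective ppHom_injective).toEquiv.symm,
    Nat.card_fun, Nat.card_fin, Nat.card_perm, Nat.card_fin]

theorem card_wrL [Nonempty ι] :
    Nat.card ↥(wrL F ι m t) =
      Nat.card (GL ι F) ^ m * (Nat.factorial m) * Nat.card (GL (Fin t) F) := by
  unfold wrL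
  rw [← Nat.card_congr (Subgroup.equivMapOfInjective _ _ dBU_injective).toEquiv,
    Nat.card_congr (Subgroup.prodEquiv _ _).toEquiv, Nat.card_prod, card_wreath,
    Nat.card_congr (Subgroup.topEquiv).toEquiv]

theorem wrL_index [Nonempty ι]
    (hv : (Nat.card (GL ((ι × Fin m) ⊕ Fin t) F)).factorization 2 =
      m * (Nat.card (GL ι F)).factorization 2 + (Nat.factorial m).factorization 2 +
        (Nat.card (GL (Fin t) F)).factorization 2) :
    ¬ 2 ∣ (wrL F ι m t).index := by
  apply not_dvd_index_of_factorization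
  rw [card_wrL, hv,
    Nat.factorization_mul (Nat.mul_ne_zero (pow_ne_zero _ Nat.card_pos.ne')
      (Nat.factorial_ne_zero m)) Nat.card_pos.ne',
    Nat.factorization_mul (pow_ne_zero _ Nat.card_pos.ne') (Nat.factorial_ne_zero m),
    Nat.factorization_pow, Finsupp.add_apply, Finsupp.add_apply, Finsupp.smul_apply, smul_eq_mul]

theorem NLB_wr [Nonempty ι] (h2 : (2 : F) ≠ 0) (ht : t ≤ 1)
    (hv : (Nat.card (GL ((ι × Fin m) ⊕ Fin t) F)).factorization 2 =
      m * (Nat.card (GL ι F)).factorization 2 + (Nat.factorial m).factorization 2 +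
        (Nat.card (GL (Fin t) F)).factorization 2) :
    NLB (GL ((ι × Fin m) ⊕ Fin t) F) (m + t) := by
  refine ⟨wrL F ι m t, (zBlk F ι m t).range, wrL_index hv, ?_, wrL_le_normalizer ht, ?_, ?_⟩
  · rw [Nat.card_congr (MonoidHom.ofInjective (zBlk_injective h2)).toEquiv.symm,
      Nat.card_prod, Nat.card_fun, Nat.card_fun, Nat.card_fin, Nat.card_fin,
      Nat.card_eq_fintype_card, Fintype.card_units_int, pow_add]
  · rintro _ ⟨a, rfl⟩ _ ⟨b, rfl⟩
    rw [← map_mul, ← map_mul, mul_comm]
  · rintro _ ⟨a, rfl⟩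
    rw [← map_pow]
    have : a ^ 2 = 1 := by
      refine Prod.ext ?_ ?_
      · funext k
        exact Int.units_sq (a.1 k)
      · funext k
        exact Int.units_sq (a.2 k)
    rw [this, map_one]

end lower2

end Cfsg.Agent.Lib.Helper16.GLRank
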