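import Cfsg.Agent.Lib.Helper16.GLRank11

set_option autoImplicit false

namespace Cfsg.Agent.Lib.Helper16.GLRank

open Matrix Cfsg.Agent.Lib.Helper16.SylAb

section numeric

theorem val_term_one_mod_four (q : ℕ) (hq : q % 4 = 1) (hq1 : 1 < q) (k : ℕ) (hk : k ≠ 0) :
    (q ^ k - 1).factorization 2 = (q - 1).factorization 2 + k.factorization 2 := by
  have hodd : Odd q := by rw [Nat.odd_iff]; omega
  rcases Nat.even_or_odd' k with ⟨j, rfl | rfl⟩
  · have hj : j ≠ 0 := by rintro rfl; exact hk rfl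
    rw [val_even_term q hodd hq1 j hj, Nat.factorization_mul (by norm_num) hj,
      Finsupp.add_apply, Nat.Prime.factorization_self Nat.prime_two]
    have h1 : (q + 1).factorization 2 = 1 := by
      obtain ⟨c, hc⟩ : ∃ c, q + 1 = 2 * (2 * c + 1) := ⟨q / 4, by omega⟩
      rw [hc, Nat.factorization_mul (by norm_num) (by omega), Finsupp.add_apply,
        Nat.Prime.factorization_self Nat.prime_two,
        Nat.factorization_eq_zero_of_not_dvd (by omega)]
    rw [h1]; ring
  · rw [val_odd_term q hodd hq1 j,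
      Nat.factorization_eq_zero_of_not_dvd (n := 2 * j + 1) (p := 2) (by omega), add_zero]

theorem tsum_one_mod_four (q : ℕ) (hq : q % 4 = 1) (hq1 : 1 < q) (n : ℕ) :
    tsum q n = n * (q - 1).factorization 2 + (Nat.factorial n).factorization 2 := by
  induction n with
  | zero => simp [SylAb.tsum]
  | succ n ih =>
    rw [tsum_succ, ih, val_term_one_mod_four q hq hq1 (n + 1) (by omega), Nat.factorial_succ,
      Nat.factorization_mul (by omega) (Nat.factorial_ne_zero n), Finsupp.add_apply]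
    ring

theorem tsum_zero (q : ℕ) : tsum q 0 = 0 := by simp [SylAb.tsum]

theorem tsum_one (q : ℕ) : tsum q 1 = (q - 1).factorization 2 := by simp [SylAb.tsum]

theorem tsum_split (q : ℕ) (hq : Odd q) (hq1 : 1 < q) (n : ℕ) :
    tsum q n = (n / 2) * (2 * (q - 1).factorization 2 + (q + 1).factorization 2) +
      (Nat.factorial (n / 2)).factorization 2 + tsum q (n % 2) := by
  obtain ⟨m, rfl | rfl⟩ := Nat.even_or_odd' n
  · have h1 : 2 * m / 2 = m := by omega
    have h2 : 2 * m % 2 = 0 := by omega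
    rw [h1, h2, tsum_zero, add_zero, tsum_even q hq hq1]
  · have h1 : (2 * m + 1) / 2 = m := by omega
    have h2 : (2 * m + 1) % 2 = 1 := by omega
    rw [h1, h2, tsum_one, tsum_odd q hq hq1, tsum_even q hq hq1]

variable {F : Type*} [Field F] [Fintype F]

theorem val_GL_fin (hodd : Odd (Fintype.card F)) (k : ℕ) :
    (Nat.card (GL (Fin k) F)).factorization 2 = tsum (Fintype.card F) k := by
  rw [card_GL_of_equiv (Equiv.refl (Fin k)), val_prod_gl _ hodd Fintype.one_lt_card]

theorem val_GL_of_equiv (hodd : Odd (Fintype.card F)) {κ : Type*} [Fintype κ] [DecidableEq κ]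
    {k : ℕ} (e : κ ≃ Fin k) :
    (Nat.card (GL κ F)).factorization 2 = tsum (Fintype.card F) k := by
  rw [card_GL_of_equiv e, val_prod_gl _ hodd Fintype.one_lt_card]

/-- reindexing isomorphism of general linear groups -/
def glReindex (F : Type*) [Field F] {κ κ' : Type*} [Fintype κ] [DecidableEq κ] [Fintype κ']
    [DecidableEq κ'] (e : κ ≃ κ') : GL κ F ≃* GL κ' F :=
  Units.mapEquiv (Matrix.reindexRingEquiv F e).toMulEquiv

theorem NLB_GL_one (hq : Fintype.card F % 4 = 1) (n : ℕ) : NLB (GL (Fin n) F) n := by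
  have hodd : Odd (Fintype.card F) := by rw [Nat.odd_iff]; omega
  have h2 : (2 : F) ≠ 0 := Cfsg.Agent.Lib.Helper16.TwoRank.two_ne_zero_of_odd hodd
  have e : (Fin 1 × Fin n) ⊕ Fin 0 ≃ Fin n := Fintype.equivFinOfCardEq (by simp)
  have h := NLB_wr (F := F) (ι := Fin 1) (m := n) (t := 0) h2 (by omega) (by
    rw [val_GL_of_equiv hodd e, val_GL_fin hodd 1, val_GL_fin hodd 0, tsum_zero, tsum_one,
      tsum_one_mod_four _ hq Fintype.one_lt_card, add_zero])
  rw [add_zero] at h
  exact h.of_equiv (glReindex F e)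

theorem NLB_GL_three (hq : Fintype.card F % 4 = 3) (n : ℕ) :
    NLB (GL (Fin n) F) ((n + 1) / 2) := by
  have hodd : Odd (Fintype.card F) := by rw [Nat.odd_iff]; omega
  have h2 : (2 : F) ≠ 0 := Cfsg.Agent.Lib.Helper16.TwoRank.two_ne_zero_of_odd hodd
  have hq1 : 1 < Fintype.card F := Fintype.one_lt_card
  have e : (Fin 2 × Fin (n / 2)) ⊕ Fin (n % 2) ≃ Fin n :=
    Fintype.equivFinOfCardEq (by simp; omega)
  have ht : n % 2 ≤ 1 := by omega
  have h := NLB_wr (F := F) (ι := Fin 2) (m := n / 2) (t := n % 2) h2 ht (by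
    rw [val_GL_of_equiv hodd e, val_GL_fin hodd (n % 2), Cfsg.Agent.Lib.Helper13.card_GL2_oddq,
      Cfsg.Agent.Lib.Helper13.fact_two_card_GL2 _ hq1 hodd]
    exact tsum_split _ hodd hq1 n)
  have hk : n / 2 + n % 2 = (n + 1) / 2 := by omega
  rw [hk] at h
  exact h.of_equiv (glReindex F e)

theorem NUB_GL_three' (hq : Fintype.card F % 4 = 3) (n : ℕ) :
    NUB (GL (Fin n) F) ((n + 1) / 2) := by
  have e : (Fin 2 × Fin (n / 2)) ⊕ Fin (n % 2) ≃ Fin n :=
    Fintype.equivFinOfCardEq (by simp; omega)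
  have ht : n % 2 ≤ 1 := by omega
  have h := NUB_GL_three (F := F) (m := n / 2) (t := n % 2) hq ht
  have hk : n / 2 + n % 2 = (n + 1) / 2 := by omega
  rw [hk] at h
  exact h.of_equiv (glReindex F e)

end numeric

end Cfsg.Agent.Lib.Helper16.GLRank
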