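import Cfsg.Agent.Lib.Helper16.GLRank1

set_option autoImplicit false

namespace Cfsg.Agent.Lib.Helper16.GLRank

open scoped commutatorElement

section comm

variable {H : Type*} [Group H]

/-- iterated commutators with `r` -/
def cseq (a r : H) : ℕ → H
  | 0 => a
  | (j + 1) => ⁅cseq a r j, r⁆

theorem cseq_mem_lcs (T : Subgroup H) (a r : H) (ha : a ∈ T) (hr : r ∈ T) (j : ℕ) :
    cseq a r j ∈ T.lowerCentralSeries j := by
  induction j with
  | zero => exact ha
  | succ j ih =>
    show ⁅cseq a r j, r⁆ ∈ T.lowerCentralSeries (j + 1)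
    rw [Subgroup.lowerCentralSeries_succ]
    exact Subgroup.commutator_mem_commutator ih hr

theorem cseq_mem (A : Subgroup H) (a r : H) (ha : a ∈ A)
    (hr : r ∈ Subgroup.normalizer (A : Set H)) (j : ℕ) :
    cseq a r j ∈ A := by
  induction j with
  | zero => exact ha
  | succ j ih =>
    show ⁅cseq a r j, r⁆ ∈ A
    rw [commutatorElement_def, mul_assoc, mul_assoc]
    apply A.mul_mem ih
    rw [← mul_assoc]
    exact (Subgroup.mem_normalizer_iff.mp hr _).mp (A.inv_mem ih)

/-- in a nilpotent subgroup `T`, a subgroup `A` normalized but not centralized by `r ∈ T`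
contains `e` with `⁅e, r⁆ ≠ 1` commuting with `r` -/
theorem exists_comm_of_not_centralized (T : Subgroup H) (hT : Group.IsNilpotent T)
    (A : Subgroup H) (hAT : A ≤ T) (r : H) (hrT : r ∈ T)
    (hr : r ∈ Subgroup.normalizer (A : Set H))
    (a : H) (ha : a ∈ A) (har : a * r ≠ r * a) :
    ∃ e ∈ A, ⁅e, r⁆ ∈ A ∧ ⁅e, r⁆ ≠ 1 ∧ ⁅e, r⁆ * r = r * ⁅e, r⁆ := by
  classical
  obtain ⟨n, hn⟩ := (Subgroup.isNilpotent_iff_lowerCentralSeries T).mp hT
  have hex : ∃ j, cseq a r j = 1 := by
    refine ⟨n, ?_⟩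
    have := cseq_mem_lcs T a r (hAT ha) hrT n
    rw [hn, Subgroup.mem_bot] at this
    exact this
  have hmin := fun m => Nat.find_min hex (m := m)
  have hspec := Nat.find_spec hex
  have h1 : cseq a r 1 ≠ 1 := by
    show ⁅a, r⁆ ≠ 1
    intro h
    rw [commutatorElement_eq_one_iff_mul_comm] at h
    exact har h
  have h0 : cseq a r 0 ≠ 1 := by
    show a ≠ 1
    rintro rfl
    exact har (by rw [one_mul, mul_one])
  obtain ⟨k, hk⟩ : ∃ k, Nat.find hex = k + 2 := by
    rcases Nat.lt_or_ge (Nat.find hex) 2 with h | h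
    · exfalso
      rcases Nat.lt_or_ge (Nat.find hex) 1 with h' | h'
      · have : Nat.find hex = 0 := by omega
        rw [this] at hspec
        exact h0 hspec
      · have : Nat.find hex = 1 := by omega
        rw [this] at hspec
        exact h1 hspec
    · exact ⟨Nat.find hex - 2, by omega⟩
  refine ⟨cseq a r k, cseq_mem A a r ha hr k, cseq_mem A a r ha hr (k + 1), ?_, ?_⟩
  · exact hmin (k + 1) (by omega)
  · have h2 : ⁅cseq a r (k + 1), r⁆ = 1 := by
      have := hspec
      rw [hk] at this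
      exact this
    rw [commutatorElement_eq_one_iff_mul_comm] at h2
    exact h2

end comm

end Cfsg.Agent.Lib.Helper16.GLRank
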