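import Cfsg.Agent.Lib.Helper16.GLRank2

set_option autoImplicit false

namespace Cfsg.Agent.Lib.Helper16.GLRank

section npair

variable {G : Type*} [Group G] {G' : Type*} [Group G']

/-- `A` is an elementary abelian subgroup normalized by the 2-group `T ≥ A` -/
structure NPair (T A : Subgroup G) : Prop where
  pT : IsPGroup 2 T
  le : A ≤ T
  norm : T ≤ Subgroup.normalizer (A : Set G)
  comm : ∀ x ∈ A, ∀ y ∈ A, x * y = y * x
  sq : ∀ x ∈ A, x ^ 2 = 1

theorem NPair.map {T A : Subgroup G} (h : NPair T A) (e : G ≃* G') :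
    NPair (T.map e.toMonoidHom) (A.map e.toMonoidHom) where
  pT := h.pT.map _
  le := Subgroup.map_mono h.le
  norm := by
    rw [← Subgroup.map_equiv_normalizer_eq]
    exact Subgroup.map_mono h.norm
  comm := by
    rintro _ ⟨x, hx, rfl⟩ _ ⟨y, hy, rfl⟩
    rw [← map_mul, ← map_mul, h.comm x hx y hy]
  sq := by
    rintro _ ⟨x, hx, rfl⟩
    rw [← map_pow, h.sq x hx, map_one]

theorem card_map_equiv (A : Subgroup G) (e : G ≃* G') :
    Nat.card ↥(A.map e.toMonoidHom) = Nat.card ↥A :=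
  (Nat.card_congr (A.equivMapOfInjective e.toMonoidHom e.injective).toEquiv).symm

/-- the upper bound property: normal elementary abelian subgroups of Sylow 2-subgroups have order
at most `2 ^ k` -/
def NUB (G : Type*) [Group G] (k : ℕ) : Prop :=
  ∀ T A : Subgroup G, NPair T A → ¬ 2 ∣ T.index → Nat.card ↥A ≤ 2 ^ k

theorem NUB.of_equiv {k : ℕ} (h : NUB G k) (e : G ≃* G') : NUB G' k := by
  intro T A hTA hidx
  have h1 := hTA.map e.symm
  have h2 : ¬ 2 ∣ (T.map e.symm.toMonoidHom).index := by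
    rw [show (e.symm.toMonoidHom : G' →* G) = ((e.symm : G' ≃* G) : G' →* G) from rfl,
      Subgroup.index_map_equiv]
    exact hidx
  have := h _ _ h1 h2
  rwa [card_map_equiv] at this

/-- it suffices to bound the subgroups normalized by 2-groups containing a fixed 2-group `R` -/
theorem NUB.of_contains [Finite G] {k : ℕ} (R : Subgroup G) (hR : IsPGroup 2 R)
    (h : ∀ T A : Subgroup G, NPair T A → R ≤ T → Nat.card ↥A ≤ 2 ^ k) : NUB G k := by
  intro T A hTA hidx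
  obtain ⟨S', hS'⟩ := hR.exists_le_sylow
  obtain ⟨g, hg⟩ := MulAction.exists_smul_eq G (hTA.pT.toSylow hidx) S'
  have h1 := hTA.map (MulAut.conj g)
  have hT : T.map (MulAut.conj g).toMonoidHom = (S' : Subgroup G) := by
    have := congrArg (fun P : Sylow 2 G => (P : Subgroup G)) hg
    simp only [Sylow.coe_subgroup_smul, IsPGroup.toSylow_coe] at this
    rw [← this, Subgroup.pointwise_smul_def]
    rfl
  have := h _ _ h1 (by rw [hT]; exact hS')
  rwa [card_map_equiv] at this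

/-- the upper bound in the form of the statements -/
theorem NUB.sylow [Finite G] {k : ℕ} (h : NUB G k) (S : Sylow 2 G)
    (E : Subgroup ↥(S : Subgroup G)) (hE : E.Normal) (hc : ∀ a b : ↥E, a * b = b * a)
    (hs : ∀ a ∈ E, a ^ 2 = 1) : Nat.card ↥E ≤ 2 ^ k := by
  have hinj : Function.Injective (S : Subgroup G).subtype := Subtype.coe_injective
  have hcard : Nat.card ↥(E.map (S : Subgroup G).subtype) = Nat.card ↥E :=
    (Nat.card_congr (E.equivMapOfInjective _ hinj).toEquiv).symm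
  rw [← hcard]
  apply h (S : Subgroup G) _ _ S.not_dvd_index
  refine ⟨S.isPGroup', ?_, ?_, ?_, ?_⟩
  · rintro _ ⟨x, _, rfl⟩
    exact x.2
  · intro s hs'
    apply Cfsg.Agent.Lib.Helper16.SylAb.mem_normalizer_of_conj
    · rintro _ ⟨x, hx, rfl⟩
      exact ⟨⟨s, hs'⟩ * x * ⟨s, hs'⟩⁻¹, hE.conj_mem x hx ⟨s, hs'⟩, rfl⟩
    · rintro _ ⟨x, hx, rfl⟩
      refine ⟨⟨s, hs'⟩⁻¹ * x * ⟨s, hs'⟩, ?_, rfl⟩
      have := hE.conj_mem x hx (⟨s, hs'⟩⁻¹)
      rwa [inv_inv] at this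
  · rintro _ ⟨x, hx, rfl⟩ _ ⟨y, hy, rfl⟩
    have := hc ⟨x, hx⟩ ⟨y, hy⟩
    have h2 : x * y = y * x := congrArg Subtype.val this
    show ((x : G) * (y : G)) = (y : G) * (x : G)
    exact_mod_cast congrArg Subtype.val h2
  · rintro _ ⟨x, hx, rfl⟩
    have := hs x hx
    show (x : G) ^ 2 = 1
    exact_mod_cast congrArg Subtype.val this

end npair

section lower

variable {G : Type*} [Group G] {G' : Type*} [Group G']

/-- the lower bound data: an elementary abelian subgroup of order `2 ^ k` normalized by a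
subgroup of odd index -/
def NLB (G : Type*) [Group G] (k : ℕ) : Prop :=
  ∃ L E₀ : Subgroup G, ¬ 2 ∣ L.index ∧ Nat.card ↥E₀ = 2 ^ k ∧
    L ≤ Subgroup.normalizer (E₀ : Set G) ∧ (∀ x ∈ E₀, ∀ y ∈ E₀, x * y = y * x) ∧
    ∀ x ∈ E₀, x ^ 2 = 1

theorem NLB.of_equiv {k : ℕ} (h : NLB G k) (e : G ≃* G') : NLB G' k := by
  obtain ⟨L, E₀, h1, h2, h3, h4, h5⟩ := h
  refine ⟨L.map e.toMonoidHom, E₀.map e.toMonoidHom, ?_, ?_, ?_, ?_, ?_⟩
  · rw [show (e.toMonoidHom : G →* G') = ((e : G ≃* G') : G →* G') from rfl,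
      Subgroup.index_map_equiv]
    exact h1
  · rw [card_map_equiv, h2]
  · rw [← Subgroup.map_equiv_normalizer_eq]
    exact Subgroup.map_mono h3
  · rintro _ ⟨x, hx, rfl⟩ _ ⟨y, hy, rfl⟩
    rw [← map_mul, ← map_mul, h4 x hx y hy]
  · rintro _ ⟨x, hx, rfl⟩
    rw [← map_pow, h5 x hx, map_one]

theorem NLB.sylow [Finite G] {k : ℕ} (h : NLB G k) (S : Sylow 2 G) :
    ∃ E : Subgroup ↥(S : Subgroup G), E.Normal ∧ (∀ a b : ↥E, a * b = b * a) ∧
      (∀ a ∈ E, a ^ 2 = 1) ∧ Nat.card ↥E = 2 ^ k := by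
  obtain ⟨L, E₀, h1, h2, h3, h4, h5⟩ := h
  obtain ⟨E, hE1, hE2, hE3, hE4⟩ :=
    Cfsg.Agent.Lib.Helper16.TwoRank.exists_normal_of_normalized L E₀ h1 (IsPGroup.of_card h2)
      h3 h4 h5 S
  exact ⟨E, hE1, hE2, hE3, hE4.trans h2⟩

end lower

end Cfsg.Agent.Lib.Helper16.GLRank
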