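import Cfsg.Agent.Lib.Helper16.GLRank3

set_option autoImplicit false

namespace Cfsg.Agent.Lib.Helper16.GLRank

section ring

variable {F : Type*} [Field F] {M : Type*} [Ring M] [Algebra F M]

/-- data of a "block": idempotent `P`, `K` with `K² = -P` living in the corner of `P` -/
structure BlockData (F : Type*) [Field F] (M : Type*) [Ring M] [Algebra F M] where
  P : M
  K : M
  PP : P * P = P
  PK : P * K = K
  KP : K * P = K
  KK : K * K = -P

namespace BlockData

variable (B : BlockData F M)

/-- the element acting as `J` on the block -/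
def j : M := 1 - B.P + B.K

/-- the element acting as `α + β J` on the block -/
def r (α β : F) : M := 1 - B.P + (α • B.P + β • B.K)

theorem r_mul_r (α β : F) (h1 : α ^ 2 = β ^ 2) (h2 : 2 * α * β = 1) :
    B.r α β * B.r α β = B.j := by
  unfold r j
  have e : (1 - B.P + (α • B.P + β • B.K)) * (1 - B.P + (α • B.P + β • B.K)) =
      1 - B.P + ((α ^ 2 - β ^ 2) • B.P + (2 * α * β) • B.K) := by
    simp only [mul_add, add_mul, mul_sub, sub_mul, mul_one, one_mul, smul_mul_assoc, mul_smul_comm,
      B.PP, B.PK, B.KP, B.KK, smul_neg]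
    module
  rw [e, h1, sub_self, zero_smul, zero_add, h2, one_smul]

theorem j_mul_j : B.j * B.j = 1 - (2 : F) • B.P := by
  unfold j
  simp only [mul_add, add_mul, mul_sub, sub_mul, mul_one, one_mul, B.PP, B.PK, B.KP, B.KK]
  module

theorem j_pow_four : B.j * B.j * (B.j * B.j) = 1 := by
  rw [j_mul_j]
  simp only [mul_sub, sub_mul, mul_one, one_mul, smul_mul_assoc, mul_smul_comm, B.PP]
  module

theorem commute_K_of_commute_j (h2 : (2 : F) ≠ 0) (x : M) (hx : Commute x B.j) :
    Commute x B.K := by
  have hN : Commute x (B.K - B.P) := by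
    have : B.K - B.P = B.j - 1 := by unfold j; abel
    rw [this]
    exact hx.sub_right (Commute.one_right x)
  have hNN : (B.K - B.P) * (B.K - B.P) = (-2 : F) • B.K := by
    simp only [mul_sub, sub_mul, B.PP, B.PK, B.KP, B.KK]
    module
  have h3 : Commute x ((-2 : F) • B.K) := by
    rw [← hNN]
    exact hN.mul_right hN
  have h4 : B.K = ((-2 : F)⁻¹) • ((-2 : F) • B.K) := by
    rw [smul_smul, inv_mul_cancel₀ (neg_ne_zero.mpr h2), one_smul]
  rw [h4]
  exact h3.smul_right _

theorem commute_P_of_commute_j (h2 : (2 : F) ≠ 0) (x : M) (hx : Commute x B.j) :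
    Commute x B.P := by
  have hK := B.commute_K_of_commute_j h2 x hx
  have : B.P = 1 + B.K - B.j := by unfold j; abel
  rw [this]
  exact ((Commute.one_right x).add_right hK).sub_right hx

theorem commute_r_of_commute_j (h2 : (2 : F) ≠ 0) (α β : F) (x : M) (hx : Commute x B.j) :
    Commute x (B.r α β) := by
  have hK := B.commute_K_of_commute_j h2 x hx
  have hP := B.commute_P_of_commute_j h2 x hx
  unfold r
  exact ((Commute.one_right x).sub_right hP).add_right
    ((hP.smul_right α).add_right (hK.smul_right β))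

end BlockData

end ring

section field

variable {F : Type*} [Field F] [Fintype F]

theorem exists_alpha_beta (hq : Fintype.card F % 4 = 3) :
    ∃ α β : F, α ^ 2 = β ^ 2 ∧ 2 * α * β = 1 := by
  have h2 : (2 : F) ≠ 0 := by
    apply Cfsg.Agent.Lib.Helper16.TwoRank.two_ne_zero_of_odd
    rw [Nat.odd_iff]; omega
  have key : ∀ u : F, u ^ 2 = 1 → IsSquare (2 * u) → ∃ α β : F, α ^ 2 = β ^ 2 ∧ 2 * α * β = 1 := by
    rintro u hu ⟨s, hs⟩
    have hu0 : u ≠ 0 := by
      rintro rfl
      simp at hu
    have hs0 : s ≠ 0 := by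
      rintro rfl
      rw [mul_zero] at hs
      exact (mul_ne_zero h2 hu0) hs
    refine ⟨u / s, 1 / s, ?_, ?_⟩
    · rw [div_pow, div_pow, hu, one_pow]
    · field_simp
      rw [pow_two, ← hs]
  rcases Nat.lt_or_ge (Fintype.card F % 8) 4 with h | h
  · -- card % 8 = 3 : -2 is a square
    have h8 : Fintype.card F % 8 = 3 := by omega
    have := (FiniteField.isSquare_neg_two_iff (F := F)).mpr ⟨by omega, by omega⟩
    apply key (-1) (by ring)
    rwa [mul_neg, mul_one]
  · have h8 : Fintype.card F % 8 = 7 := by omega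
    have := (FiniteField.isSquare_two_iff (F := F)).mpr ⟨by omega, by omega⟩
    apply key 1 (by ring)
    rwa [mul_one]

theorem not_isSquare_neg_one (hq : Fintype.card F % 4 = 3) : ¬ IsSquare (-1 : F) := by
  rw [FiniteField.isSquare_neg_one_iff]
  omega

end field

end Cfsg.Agent.Lib.Helper16.GLRank
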