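import Cfsg.Agent.Lib.Helper16.SylAb2
import Cfsg.Agent.Lib.Helper16.SylAb3
import Cfsg.Agent.Lib.Helper13.GL2SylowTwo

set_option autoImplicit false

namespace Cfsg.Agent.Lib.Helper16.SylAb

open scoped commutatorElement

variable {G : Type*} [Group G]

theorem sqS_of_closure (S : Set G) (h : ∀ s ∈ S, s ^ 2 ∈ ⁅Subgroup.closure S, Subgroup.closure S⁆) :
    SqS (Subgroup.closure S) := by
  intro x hx
  induction hx using Subgroup.closure_induction with
  | mem x hx => exact h x hx
  | one => rw [one_pow]; exact one_mem _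
  | mul x y hx hy ihx ihy =>
    have e : (x * y) ^ 2 = x ^ 2 * ⁅x⁻¹, y⁆ * y ^ 2 := by
      simp [commutatorElement_def, pow_two, mul_assoc]
    rw [e]
    exact mul_mem (mul_mem ihx (Subgroup.commutator_mem_commutator (inv_mem hx) hy)) ihy
  | inv x hx ihx =>
    rw [inv_pow]
    exact inv_mem ihx

/-- semidihedral-type data gives a subgroup with `SqS` of order `2 * orderOf x` -/
theorem sqS_of_qd_data [Finite G] (x y : G) (k : ℕ) (hk : 2 ≤ k) (hx : orderOf x = 2 ^ (k + 1))
    (hy : orderOf y = 2) (hyx : y * x * y⁻¹ = x ^ (2 ^ k - 1)) :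
    ∃ R : Subgroup G, Nat.card R = 2 ^ (k + 2) ∧ SqS R := by
  have hy2 : y ^ 2 = 1 := by rw [← hy]; exact pow_orderOf_eq_one y
  have hyinv : y⁻¹ = y := by
    rw [inv_eq_iff_mul_eq_one, ← pow_two]; exact hy2
  have hpos : 2 ^ k ≥ 4 := by
    calc 2 ^ k ≥ 2 ^ 2 := Nat.pow_le_pow_right (by norm_num) hk
      _ = 4 := by norm_num
  have hconj : ∀ i : ℤ, y * x ^ i * y⁻¹ = (x ^ (2 ^ k - 1)) ^ i := by
    intro i
    rw [← hyx]
    exact conj_zpow.symm
  have hnorm : Subgroup.zpowers y ≤ Subgroup.normalizer ((Subgroup.zpowers x : Subgroup G) : Set G) := by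
    rw [Subgroup.zpowers_le]
    apply mem_normalizer_of_conj
    · rintro _ ⟨i, rfl⟩
      show y * x ^ i * y⁻¹ ∈ Subgroup.zpowers x
      rw [hconj i]
      exact (Subgroup.zpowers x).zpow_mem
        ((Subgroup.zpowers x).pow_mem (Subgroup.mem_zpowers x) _) i
    · rintro _ ⟨i, rfl⟩
      show y⁻¹ * x ^ i * y ∈ Subgroup.zpowers x
      have := hconj i
      rw [hyinv] at this ⊢
      rw [this]
      exact (Subgroup.zpowers x).zpow_mem
        ((Subgroup.zpowers x).pow_mem (Subgroup.mem_zpowers x) _) i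
  have hynot : y ∉ Subgroup.zpowers x := by
    rintro ⟨j, hj⟩
    have hcomm : y * x * y⁻¹ = x := by
      rw [← hj]
      group
    rw [hyx] at hcomm
    have h1 : x ^ (2 ^ k - 2) = 1 := by
      have : x ^ (2 ^ k - 1) = x ^ (2 ^ k - 2) * x := by
        rw [← pow_succ]; congr 1; omega
      rw [this] at hcomm
      exact mul_eq_right.mp hcomm
    have h2 := orderOf_dvd_of_pow_eq_one h1
    rw [hx] at h2
    have h3 := Nat.le_of_dvd (by omega) h2
    have : 2 ^ (k + 1) = 2 * 2 ^ k := by rw [pow_succ]; ring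
    omega
  have hdisj : Subgroup.zpowers x ⊓ Subgroup.zpowers y = ⊥ := by
    rw [eq_bot_iff]
    rintro g ⟨hgx, ⟨i, hi⟩⟩
    rw [Subgroup.mem_bot]
    have hi' : y ^ i = g := hi
    rcases Int.even_or_odd i with ⟨c, rfl⟩ | ⟨c, rfl⟩
    · rw [← hi', ← two_mul, zpow_mul, zpow_ofNat, hy2, one_zpow]
    · exfalso
      apply hynot
      have : y ^ (2 * c + 1) = y := by
        rw [zpow_add, zpow_mul, zpow_ofNat, hy2, one_zpow, one_mul, zpow_one]
      rw [SetLike.mem_coe, ← hi', this] at hgx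
      exact hgx
  have hcard := card_sup_of_normalizer (Subgroup.zpowers x) (Subgroup.zpowers y) hnorm hdisj
  rw [Nat.card_zpowers, Nat.card_zpowers, hx, hy] at hcard
  refine ⟨Subgroup.zpowers y ⊔ Subgroup.zpowers x, by rw [hcard]; ring, ?_⟩
  have hcl : Subgroup.zpowers y ⊔ Subgroup.zpowers x = Subgroup.closure ({y} ∪ {x}) := by
    rw [Subgroup.closure_union, Subgroup.zpowers_eq_closure, Subgroup.zpowers_eq_closure]
  rw [hcl]
  apply sqS_of_closure
  have hxm : x ∈ Subgroup.closure ({y} ∪ {x} : Set G) := Subgroup.subset_closure (by simp)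
  have hym : y ∈ Subgroup.closure ({y} ∪ {x} : Set G) := Subgroup.subset_closure (by simp)
  rintro s (hs | hs)
  · rw [Set.mem_singleton_iff] at hs
    rw [hs, hy2]
    exact one_mem _
  · rw [Set.mem_singleton_iff] at hs
    rw [hs]
    have hc : ⁅y, x⁆ = (x ^ 2) ^ (2 ^ (k - 1) - 1) := by
      rw [commutatorElement_def, hyx, ← pow_mul]
      have : 2 * (2 ^ (k - 1) - 1) = 2 ^ k - 2 := by
        have : 2 ^ k = 2 * 2 ^ (k - 1) := by
          rw [← pow_succ']; congr 1; omega
        omega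
      rw [this]
      have : x ^ (2 ^ k - 1) = x ^ (2 ^ k - 2) * x := by
        rw [← pow_succ]; congr 1; omega
      rw [this, mul_inv_cancel_right]
    have hcm : ⁅y, x⁆ ∈ ⁅Subgroup.closure ({y} ∪ {x} : Set G), Subgroup.closure ({y} ∪ {x})⁆ :=
      Subgroup.commutator_mem_commutator hym hxm
    have hord : orderOf (x ^ 2) ∣ 2 ^ k := by
      apply orderOf_dvd_of_pow_eq_one
      rw [← pow_mul, ← pow_succ', ← hx]
      exact pow_orderOf_eq_one x
    have hcop : Nat.Coprime (2 ^ (k - 1) - 1) (orderOf (x ^ 2)) := by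
      apply Nat.Coprime.coprime_dvd_right hord
      apply Nat.Coprime.pow_right
      apply Odd.coprime_two_right
      have : 2 ^ (k - 1) = 2 * 2 ^ (k - 2) := by
        rw [← pow_succ']; congr 1; omega
      rw [this]
      have h4 : 2 ^ (k - 2) ≥ 1 := Nat.one_le_two_pow
      exact ⟨2 ^ (k - 2) - 1, by omega⟩
    obtain ⟨m, hm⟩ := exists_pow_eq_self_of_coprime hcop
    rw [← hm, ← hc]
    exact pow_mem hcm m

open Matrix in
theorem E2_GL2 {F : Type*} [Field F] [Fintype F] (hq3 : Fintype.card F % 4 = 3) :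
    E2 (GL (Fin 2) F) := by
  classical
  obtain ⟨x, y, hx, hy, hyx⟩ := Cfsg.Agent.Lib.Helper13.exists_qd_data hq3
  set k := (Fintype.card F + 1).factorization 2 with hk
  have hk2 : 2 ≤ k := Cfsg.Agent.Lib.Helper13.two_le_fact_two_of_four_dvd _ (by omega) (by omega)
  obtain ⟨R, hRcard, hR⟩ := sqS_of_qd_data x y k hk2 hx hy hyx
  have hodd : Odd (Fintype.card F) := by rw [Nat.odd_iff]; omega
  have hv1 : (Fintype.card F - 1).factorization 2 = 1 :=
    Cfsg.Agent.Lib.Helper13.fact_two_of_mod_four_eq_two _ (by omega)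
  have hcard : Nat.card R = 2 ^ (Nat.card (GL (Fin 2) F)).factorization 2 := by
    rw [hRcard, Cfsg.Agent.Lib.Helper13.card_GL2_oddq,
      Cfsg.Agent.Lib.Helper13.fact_two_card_GL2 _ Fintype.one_lt_card hodd, hv1]
    congr 1; omega
  exact E2_of_sylow (Sylow.ofCard R hcard) hR

end Cfsg.Agent.Lib.Helper16.SylAb
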