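import Cfsg.Agent.Lib.Helper16.SpWreath
import Cfsg.Agent.Lib.Helper16.SylAb4
import Cfsg.Agent.Lib.Helper13.GL2SylowTwo
import Cfsg.Agent.Lib.Helper2.GLCard

/-
helper16 library: the odd-index subgroup `GL_2(q) wr S_m` of `GL_{2m}(q)` (`q = 3 mod 4`), the
embedding `GL_{2m}(q) -> SL_{2m+1}(q)` and `E2 (SL_{2m+1}(q))`.
-/

set_option autoImplicit false

namespace Cfsg.Agent.Lib.Helper16.SylAb


theorem odd_geom_sum (q : ℕ) (hq : Odd q) (t : ℕ) :
    Odd (∑ i ∈ Finset.range (2 * t + 1), q ^ i) := by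
  induction t with
  | zero => simp
  | succ t ih =>
    have : 2 * (t + 1) + 1 = (2 * t + 1) + 1 + 1 := by ring
    rw [this, Finset.sum_range_succ, Finset.sum_range_succ, add_assoc]
    exact ih.add_even ((hq.pow).add_odd (hq.pow))

theorem val_odd_term (q : ℕ) (hq : Odd q) (hq1 : 1 < q) (t : ℕ) :
    (q ^ (2 * t + 1) - 1).factorization 2 = (q - 1).factorization 2 := by
  have h := geom_sum_mul_of_one_le (x := q) (by omega) (2 * t + 1)
  have hodd := odd_geom_sum q hq t
  have hne : (∑ i ∈ Finset.range (2 * t + 1), q ^ i) ≠ 0 := by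
    intro h0; rw [h0] at hodd; exact absurd hodd (by decide)
  rw [← h, Nat.factorization_mul hne (by omega), Finsupp.add_apply,
    Nat.factorization_eq_zero_of_not_dvd, zero_add]
  rw [← even_iff_two_dvd, Nat.not_even_iff_odd]
  exact hodd

theorem val_even_term (q : ℕ) (hq : Odd q) (hq1 : 1 < q) (j : ℕ) (hj : j ≠ 0) :
    (q ^ (2 * j) - 1).factorization 2 =
      (q - 1).factorization 2 + (q + 1).factorization 2 + j.factorization 2 := by
  have h2q : ¬ 2 ∣ q := by
    rw [← even_iff_two_dvd, Nat.not_even_iff_odd]; exact hq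
  have h := val_term q hq hq1 j hj
  rw [Nat.factorization_def _ Nat.prime_two, Nat.factorization_def _ Nat.prime_two,
    Nat.factorization_def _ Nat.prime_two, Nat.factorization_def _ Nat.prime_two, h,
    padicValNat.mul (Nat.mul_ne_zero (by omega) (by omega)) (by omega),
    padicValNat.mul (by omega) (by omega),
    padicValNat.eq_zero_of_not_dvd h2q, zero_add]

/-- `T n = ∑_{j=1}^n v₂(q^j - 1)` -/
def tsum (q n : ℕ) : ℕ := ∑ j ∈ Finset.range n, (q ^ (j + 1) - 1).factorization 2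

theorem tsum_succ (q n : ℕ) : tsum q (n + 1) = tsum q n + (q ^ (n + 1) - 1).factorization 2 := by
  unfold tsum
  rw [Finset.sum_range_succ]

theorem val_prod_gl (q : ℕ) (hq : Odd q) (hq1 : 1 < q) (n : ℕ) :
    (∏ i : Fin n, (q ^ n - q ^ (i : ℕ))).factorization 2 = tsum q n := by
  have h2q : ¬ 2 ∣ q := by
    rw [← even_iff_two_dvd, Nat.not_even_iff_odd]; exact hq
  rw [Fin.prod_univ_eq_prod_range (fun i => q ^ n - q ^ i) n, Nat.factorization_prod_apply]
  · unfold tsum
    rw [← Finset.sum_range_reflect]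
    apply Finset.sum_congr rfl
    intro i hi
    rw [Finset.mem_range] at hi
    have e : q ^ n - q ^ (n - 1 - i) = q ^ (n - 1 - i) * (q ^ (i + 1) - 1) := by
      rw [Nat.mul_sub, mul_one, ← pow_add]
      congr 2; omega
    have hpos : q ^ (i + 1) - 1 ≠ 0 := by
      have : 1 < q ^ (i + 1) := Nat.one_lt_pow (by omega) hq1
      omega
    rw [e, Nat.factorization_mul (pow_ne_zero _ (by omega)) hpos, Finsupp.add_apply,
      Nat.factorization_eq_zero_of_not_dvd, zero_add]
    intro hd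
    exact h2q (Nat.Prime.dvd_of_dvd_pow Nat.prime_two hd)
  · intro i hi
    rw [Finset.mem_range] at hi
    have : q ^ i < q ^ n := Nat.pow_lt_pow_right hq1 hi
    omega

theorem tsum_even (q : ℕ) (hq : Odd q) (hq1 : 1 < q) (m : ℕ) :
    tsum q (2 * m) = m * (2 * (q - 1).factorization 2 + (q + 1).factorization 2) +
      (Nat.factorial m).factorization 2 := by
  induction m with
  | zero => simp [tsum]
  | succ m ih =>
    have e : 2 * (m + 1) = 2 * m + 1 + 1 := by ring
    rw [e, tsum_succ, tsum_succ, ih, val_odd_term q hq hq1 m]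
    have e2 : 2 * m + 1 + 1 = 2 * (m + 1) := by ring
    rw [e2, val_even_term q hq hq1 (m + 1) (by omega), Nat.factorial_succ,
      Nat.factorization_mul (by omega) (Nat.factorial_ne_zero m), Finsupp.add_apply]
    ring

theorem tsum_odd (q : ℕ) (hq : Odd q) (hq1 : 1 < q) (m : ℕ) :
    tsum q (2 * m + 1) = tsum q (2 * m) + (q - 1).factorization 2 := by
  rw [tsum_succ, val_odd_term q hq hq1 m]


open Matrix

section blocks



variable {F : Type*} [Field F] {ι : Type*} [Fintype ι] [DecidableEq ι] {m : ℕ}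

/-- block diagonal embedding `GL_ι(F)^m → GL_{ι × m}(F)` -/
def bdHom (F : Type*) [Field F] (ι : Type*) [Fintype ι] [DecidableEq ι] (m : ℕ) :
    (Fin m → GL ι F) →* GL (ι × Fin m) F :=
  (Units.map (Matrix.blockDiagonalRingHom ι (Fin m) F).toMonoidHom).comp
    (MulEquiv.piUnits (ι := Fin m) (M := fun _ => Matrix ι ι F)).symm.toMonoidHom

theorem bdHom_val (g : Fin m → GL ι F) :
    ((bdHom F ι m g : GL (ι × Fin m) F) : Matrix (ι × Fin m) (ι × Fin m) F) =
      blockDiagonal (fun k => ((g k : GL ι F) : Matrix ι ι F)) := rfl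

theorem bdHom_injective : Function.Injective (bdHom F ι m) := by
  intro g h hgh
  have h1 := congrArg Units.val hgh
  rw [bdHom_val, bdHom_val] at h1
  have h2 := Matrix.blockDiagonal_injective h1
  funext k
  exact Units.ext (congrFun h2 k)

/-- permutation matrix of the blocks -/
def pp (F : Type*) [Field F] (ι : Type*) {m : ℕ} [DecidableEq ι] (σ : Equiv.Perm (Fin m)) :
    Matrix (ι × Fin m) (ι × Fin m) F :=
  Matrix.of fun x y => if x.1 = y.1 ∧ x.2 = σ y.2 then 1 else 0

omit [Fintype ι] in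
theorem pp_apply (σ : Equiv.Perm (Fin m)) (x y : ι × Fin m) :
    pp F ι σ x y = if x.1 = y.1 ∧ x.2 = σ y.2 then 1 else 0 := rfl

theorem pp_mul_apply (σ : Equiv.Perm (Fin m)) (A : Matrix (ι × Fin m) (ι × Fin m) F)
    (x y : ι × Fin m) : (pp F ι σ * A) x y = A (x.1, σ⁻¹ x.2) y := by
  rw [Matrix.mul_apply, Finset.sum_eq_single (x.1, σ⁻¹ x.2)]
  · rw [pp_apply, if_pos, one_mul]
    refine ⟨rfl, ?_⟩
    show x.2 = σ (σ⁻¹ x.2)
    rw [Equiv.Perm.inv_def, Equiv.apply_symm_apply]
  · intro z _ hz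
    rw [pp_apply, if_neg, zero_mul]
    rintro ⟨h1, h2⟩
    apply hz
    apply Prod.ext
    · exact h1.symm
    · show z.2 = σ⁻¹ x.2
      rw [h2, Equiv.Perm.inv_def, Equiv.symm_apply_apply]
  · intro h
    exact absurd (Finset.mem_univ _) h

theorem mul_pp_apply (σ : Equiv.Perm (Fin m)) (A : Matrix (ι × Fin m) (ι × Fin m) F)
    (x y : ι × Fin m) : (A * pp F ι σ) x y = A x (y.1, σ y.2) := by
  rw [Matrix.mul_apply, Finset.sum_eq_single (y.1, σ y.2)]
  · rw [pp_apply, if_pos ⟨rfl, rfl⟩, mul_one]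
  · intro z _ hz
    rw [pp_apply, if_neg, mul_zero]
    rintro ⟨h1, h2⟩
    apply hz
    exact Prod.ext h1 h2
  · intro h
    exact absurd (Finset.mem_univ _) h

omit [Fintype ι] in
theorem pp_one : pp F ι (1 : Equiv.Perm (Fin m)) = 1 := by
  ext x y
  rw [pp_apply, Matrix.one_apply]
  congr 1
  rw [eq_iff_iff]
  exact ⟨fun h => Prod.ext h.1 h.2, fun h => by rw [h]; exact ⟨rfl, rfl⟩⟩

theorem pp_mul (σ τ : Equiv.Perm (Fin m)) : pp F ι (σ * τ) = pp F ι σ * pp F ι τ := by
  ext x y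
  rw [pp_mul_apply, pp_apply, pp_apply]
  congr 1
  rw [eq_iff_iff]
  show (x.1 = y.1 ∧ x.2 = σ (τ y.2)) ↔ (x.1 = y.1 ∧ σ⁻¹ x.2 = τ y.2)
  rw [Equiv.Perm.inv_def, Equiv.symm_apply_eq]

/-- the permutation homomorphism -/
def ppHom (F : Type*) [Field F] (ι : Type*) [Fintype ι] [DecidableEq ι] (m : ℕ) :
    Equiv.Perm (Fin m) →* GL (ι × Fin m) F :=
  MonoidHom.mk' (fun σ => ⟨pp F ι σ, pp F ι σ⁻¹, by rw [← pp_mul, mul_inv_cancel, pp_one],
    by rw [← pp_mul, inv_mul_cancel, pp_one]⟩) (by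
    intro g h
    apply Units.ext
    exact pp_mul g h)

theorem ppHom_val (σ : Equiv.Perm (Fin m)) :
    ((ppHom F ι m σ : GL (ι × Fin m) F) : Matrix (ι × Fin m) (ι × Fin m) F) = pp F ι σ := rfl

omit [Fintype ι] in
theorem pp_eq_blockDiagonal [Nonempty ι] (σ : Equiv.Perm (Fin m)) (M : Fin m → Matrix ι ι F)
    (h : pp F ι σ = blockDiagonal M) : σ = 1 := by
  obtain ⟨i⟩ := ‹Nonempty ι›
  ext l
  by_contra hne
  have h3 := congrFun (congrFun h (i, σ l)) (i, l)
  rw [pp_apply, if_pos ⟨rfl, rfl⟩, blockDiagonal_apply, if_neg] at h3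
  · exact one_ne_zero h3
  · intro h4
    apply hne
    have h5 : σ l = l := h4
    rw [h5]; rfl

theorem ppHom_injective [Nonempty ι] : Function.Injective (ppHom F ι m) := by
  rw [injective_iff_map_eq_one]
  intro σ hσ
  have h1 := congrArg Units.val hσ
  rw [ppHom_val, Units.val_one] at h1
  apply pp_eq_blockDiagonal (F := F) (ι := ι) σ (fun _ => 1)
  rw [h1]
  exact (blockDiagonal_one (m := ι) (o := Fin m) (α := F)).symm

theorem pp_mul_blockDiagonal (σ : Equiv.Perm (Fin m)) (M : Fin m → Matrix ι ι F) :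
    pp F ι σ * blockDiagonal M = blockDiagonal (fun k => M (σ⁻¹ k)) * pp F ι σ := by
  ext x y
  rw [pp_mul_apply, mul_pp_apply, blockDiagonal_apply, blockDiagonal_apply]
  by_cases h : σ⁻¹ x.2 = y.2
  · rw [if_pos h, if_pos]
    rw [← h]
    show x.2 = σ (σ⁻¹ x.2)
    rw [Equiv.Perm.inv_def, Equiv.apply_symm_apply]
  · rw [if_neg h, if_neg]
    intro h2
    apply h
    show σ⁻¹ x.2 = y.2
    rw [h2]
    show σ⁻¹ (σ y.2) = y.2
    rw [Equiv.Perm.inv_def, Equiv.symm_apply_apply]

theorem ppHom_mul_bdHom (σ : Equiv.Perm (Fin m)) (g : Fin m → GL ι F) :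
    ppHom F ι m σ * bdHom F ι m g * (ppHom F ι m σ)⁻¹ = bdHom F ι m (fun k => g (σ⁻¹ k)) := by
  rw [mul_inv_eq_iff_eq_mul]
  apply Units.ext
  rw [Units.val_mul, Units.val_mul, ppHom_val, bdHom_val, bdHom_val]
  exact pp_mul_blockDiagonal σ _

theorem card_GL_of_equiv [Fintype F] {κ : Type*} [Fintype κ] [DecidableEq κ] {n : ℕ}
    (e : κ ≃ Fin n) :
    Nat.card (GL κ F) = ∏ i : Fin n, (Fintype.card F ^ n - Fintype.card F ^ (i : ℕ)) := by
  rw [← Matrix.card_GL_field]
  exact Nat.card_congr (Units.mapEquiv (Matrix.reindexRingEquiv F e).toMulEquiv).toEquiv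

theorem E2_GL_prod [Fintype F] [Nonempty ι]
    (hv : (Nat.card (GL (ι × Fin m) F)).factorization 2 =
      m * (Nat.card (GL ι F)).factorization 2 + (Nat.factorial m).factorization 2)
    (h : E2 (GL ι F)) : E2 (GL (ι × Fin m) F) := by
  classical
  apply E2_of_semidirect' (bdHom F ι m).range (ppHom F ι m).range
  · rintro _ ⟨σ, rfl⟩
    apply mem_normalizer_of_conj
    · rintro _ ⟨g, rfl⟩
      exact ⟨_, (ppHom_mul_bdHom σ g).symm⟩
    · rintro _ ⟨g, rfl⟩
      have := ppHom_mul_bdHom σ⁻¹ g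
      rw [map_inv, inv_inv] at this
      exact ⟨_, this.symm⟩
  · ext x
    rw [Subgroup.mem_inf, Subgroup.mem_bot]
    constructor
    · rintro ⟨⟨g, rfl⟩, ⟨σ, hσ⟩⟩
      have h1 := congrArg Units.val hσ
      rw [ppHom_val, bdHom_val] at h1
      have h2 : σ = 1 := pp_eq_blockDiagonal σ _ h1
      rw [← hσ, h2, map_one]
    · rintro rfl
      exact ⟨one_mem _, one_mem _⟩
  · rw [Nat.card_congr (MonoidHom.ofInjective bdHom_injective).toEquiv.symm,
      Nat.card_congr (MonoidHom.ofInjective ppHom_injective).toEquiv.symm,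
      Nat.card_fun, Nat.card_fin, Nat.card_perm, Nat.card_fin, Nat.factorization_pow,
      Finsupp.smul_apply, smul_eq_mul, hv]
  · exact E2_of_mulEquiv (MonoidHom.ofInjective bdHom_injective) (E2_pi h m)
  · exact E2_of_mulEquiv (MonoidHom.ofInjective ppHom_injective) (E2_perm m)


end blocks

section aug



variable {F : Type*} [Field F] {κ : Type*} [Fintype κ] [DecidableEq κ] {n : ℕ}

/-- the matrix `diag(A, (det A)⁻¹)` -/
def augMat (A : Matrix κ κ F) : Matrix (κ ⊕ Unit) (κ ⊕ Unit) F :=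
  fromBlocks A 0 0 (Matrix.of fun _ _ => (A.det)⁻¹)

theorem augMat_mul (A B : Matrix κ κ F) : augMat (A * B) = augMat A * augMat B := by
  unfold augMat
  rw [fromBlocks_multiply]
  congr 1
  · simp
  · simp
  · simp
  · ext i j
    simp [Matrix.mul_apply, Matrix.det_mul, mul_comm]

theorem augMat_det (A : Matrix κ κ F) (hA : A.det ≠ 0) : (augMat A).det = 1 := by
  unfold augMat
  rw [Matrix.det_fromBlocks_zero₂₁,
    Matrix.det_unique (Matrix.of fun (_ : Unit) (_ : Unit) => (A.det)⁻¹)]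
  exact mul_inv_cancel₀ hA

/-- embedding `GL_κ(F) → SL_n(F)` where `n = |κ| + 1` -/
def augHom (e : κ ⊕ Unit ≃ Fin n) : GL κ F →* SpecialLinearGroup (Fin n) F :=
  MonoidHom.mk' (fun A => ⟨Matrix.reindex e e (augMat (A : Matrix κ κ F)), by
    rw [Matrix.det_reindex_self]
    apply augMat_det
    exact ((Matrix.isUnit_iff_isUnit_det _).mp A.isUnit).ne_zero⟩) (by
    intro A B
    apply Subtype.ext
    show Matrix.reindex e e (augMat ((A * B : GL κ F) : Matrix κ κ F)) =
      Matrix.reindex e e (augMat (A : Matrix κ κ F)) * Matrix.reindex e e (augMat (B : Matrix κ κ F))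
    rw [Units.val_mul, augMat_mul, Matrix.reindex_apply, Matrix.reindex_apply, Matrix.reindex_apply,
      Matrix.submatrix_mul_equiv])

theorem augHom_injective (e : κ ⊕ Unit ≃ Fin n) : Function.Injective (augHom (F := F) e) := by
  intro A B h
  have h1 : Matrix.reindex e e (augMat (A : Matrix κ κ F)) =
      Matrix.reindex e e (augMat (B : Matrix κ κ F)) := congrArg Subtype.val h
  have h2 := (Matrix.reindex e e).injective h1
  unfold augMat at h2
  rw [fromBlocks_inj] at h2
  exact Units.ext h2.1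


end aug

section final

variable {F : Type*} [Field F] [Fintype F]

theorem val_GL_even (hodd : Odd (Fintype.card F)) (m : ℕ) :
    (Nat.card (GL (Fin 2 × Fin m) F)).factorization 2 = tsum (Fintype.card F) (2 * m) := by
  rw [card_GL_of_equiv (finProdFinEquiv (m := 2) (n := m)),
    val_prod_gl _ hodd Fintype.one_lt_card]

theorem E2_GL_even (hq3 : Fintype.card F % 4 = 3) (m : ℕ) : E2 (GL (Fin 2 × Fin m) F) := by
  have hodd : Odd (Fintype.card F) := by rw [Nat.odd_iff]; omega
  apply E2_GL_prod _ (E2_GL2 hq3)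
  rw [val_GL_even hodd, tsum_even _ hodd Fintype.one_lt_card, Cfsg.Agent.Lib.Helper13.card_GL2_oddq,
    Cfsg.Agent.Lib.Helper13.fact_two_card_GL2 _ Fintype.one_lt_card hodd]

theorem val_SL_odd (hodd : Odd (Fintype.card F)) (m : ℕ) :
    (Nat.card (SpecialLinearGroup (Fin (2 * m + 1)) F)).factorization 2 =
      tsum (Fintype.card F) (2 * m) := by
  have h := Cfsg.Agent.Lib.Helper2.card_SL_field (F := F) (2 * m + 1) (by omega)
  have h1 : ((Fintype.card F - 1) *
      Nat.card (SpecialLinearGroup (Fin (2 * m + 1)) F)).factorization 2 =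
      (∏ i : Fin (2 * m + 1),
        (Fintype.card F ^ (2 * m + 1) - Fintype.card F ^ (i : ℕ))).factorization 2 := by
    rw [h]
  have hq1 : 1 < Fintype.card F := Fintype.one_lt_card
  rw [val_prod_gl _ hodd hq1, tsum_odd _ hodd hq1,
    Nat.factorization_mul (by omega) Nat.card_pos.ne', Finsupp.add_apply] at h1
  omega

theorem E2_SL_odd (hq3 : Fintype.card F % 4 = 3) (m : ℕ) :
    E2 (SpecialLinearGroup (Fin (2 * m + 1)) F) := by
  classical
  have hodd : Odd (Fintype.card F) := by rw [Nat.odd_iff]; omega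
  have e : (Fin 2 × Fin m) ⊕ Unit ≃ Fin (2 * m + 1) := Fintype.equivFinOfCardEq (by simp)
  have : Finite (SpecialLinearGroup (Fin (2 * m + 1)) F) := Subtype.finite
  apply E2_of_injective' (augHom e) (augHom_injective e) _ (E2_GL_even hq3 m)
  rw [val_SL_odd hodd, val_GL_even hodd]

end final

end Cfsg.Agent.Lib.Helper16.SylAb
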