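import Cfsg.Agent.Lib.Helper16.GLRank4
import Cfsg.Agent.Lib.Helper16.GLWreath

set_option autoImplicit false

namespace Cfsg.Agent.Lib.Helper16.GLRank

open Matrix

section frame

variable {F : Type*} [Field F] {m t : ℕ}

/-- inclusion of the `i`-th block -/
def U (F : Type*) [Field F] (m t : ℕ) (i : Fin m) :
    Matrix ((Fin 2 × Fin m) ⊕ Fin t) (Fin 2) F :=
  Matrix.of fun z c => if z = Sum.inl (c, i) then 1 else 0

/-- inclusion of the tail -/
def U0 (F : Type*) [Field F] (m t : ℕ) :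
    Matrix ((Fin 2 × Fin m) ⊕ Fin t) (Fin t) F :=
  Matrix.of fun z d => if z = Sum.inr d then 1 else 0

theorem Ut_mul_U (i : Fin m) : (U F m t i)ᵀ * U F m t i = 1 := by
  ext c c'
  simp only [Matrix.mul_apply, Matrix.transpose_apply, U, Matrix.of_apply, Matrix.one_apply,
    ite_mul, one_mul, zero_mul, Finset.sum_ite_eq', Finset.mem_univ, if_true]
  simp

theorem U0t_mul_U0 : (U0 F m t)ᵀ * U0 F m t = 1 := by
  ext c c'
  simp only [Matrix.mul_apply, Matrix.transpose_apply, U0, Matrix.of_apply, Matrix.one_apply,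
    ite_mul, one_mul, zero_mul, Finset.sum_ite_eq', Finset.mem_univ, if_true]
  simp

theorem U_mul_Ut_eq (i : Fin m) (x : Matrix (Fin 2) (Fin 2) F) :
    U F m t i * x * (U F m t i)ᵀ =
      fromBlocks (blockDiagonal (Pi.single i x)) 0 0 (0 : Matrix (Fin t) (Fin t) F) := by
  ext z w
  rcases z with ⟨a, k⟩ | d <;> rcases w with ⟨b, l⟩ | d'
  · simp only [Matrix.mul_apply, Matrix.transpose_apply, U, Matrix.of_apply, fromBlocks_apply₁₁,
      blockDiagonal_apply, Sum.inl.injEq, Prod.mk.injEq]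
    by_cases hk : k = i
    · subst hk
      by_cases hl : l = k
      · subst hl
        simp [Finset.sum_ite_eq]
      · have hl' : ¬ k = l := fun h => hl h.symm
        simp [hl, hl']
    · by_cases hl : k = l
      · subst hl
        simp [hk]
      · simp [hk, hl]
  · simp [Matrix.mul_apply, U]
  · simp [Matrix.mul_apply, U]
  · simp [Matrix.mul_apply, U]

theorem U0_mul_U0t :
    U0 F m t * (U0 F m t)ᵀ =
      fromBlocks (0 : Matrix (Fin 2 × Fin m) (Fin 2 × Fin m) F) 0 0 1 := by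
  ext z w
  rcases z with ⟨a, k⟩ | d <;> rcases w with ⟨b, l⟩ | d'
  · simp [Matrix.mul_apply, U0]
  · simp [Matrix.mul_apply, U0]
  · simp [Matrix.mul_apply, U0]
  · simp [Matrix.mul_apply, U0, Matrix.one_apply]

/-- embedding of `2 × 2` matrices into the `i`-th block -/
def emb (F : Type*) [Field F] (m t : ℕ) (i : Fin m) (x : Matrix (Fin 2) (Fin 2) F) :
    Matrix ((Fin 2 × Fin m) ⊕ Fin t) ((Fin 2 × Fin m) ⊕ Fin t) F :=
  U F m t i * x * (U F m t i)ᵀ

theorem emb_mul (i : Fin m) (x y : Matrix (Fin 2) (Fin 2) F) :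
    emb F m t i x * emb F m t i y = emb F m t i (x * y) := by
  unfold emb
  calc U F m t i * x * (U F m t i)ᵀ * (U F m t i * y * (U F m t i)ᵀ)
      = U F m t i * x * ((U F m t i)ᵀ * U F m t i) * y * (U F m t i)ᵀ := by
        simp only [Matrix.mul_assoc]
    _ = U F m t i * (x * y) * (U F m t i)ᵀ := by
        rw [Ut_mul_U, Matrix.mul_one, Matrix.mul_assoc (U F m t i)]

theorem emb_add (i : Fin m) (x y : Matrix (Fin 2) (Fin 2) F) :
    emb F m t i (x + y) = emb F m t i x + emb F m t i y := by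
  unfold emb
  rw [Matrix.mul_add, Matrix.add_mul]

theorem emb_smul (i : Fin m) (c : F) (x : Matrix (Fin 2) (Fin 2) F) :
    emb F m t i (c • x) = c • emb F m t i x := by
  unfold emb
  rw [Matrix.mul_smul, Matrix.smul_mul]

theorem emb_neg (i : Fin m) (x : Matrix (Fin 2) (Fin 2) F) :
    emb F m t i (-x) = - emb F m t i x := by
  unfold emb
  rw [Matrix.mul_neg, Matrix.neg_mul]

theorem emb_eq (i : Fin m) (x : Matrix (Fin 2) (Fin 2) F) :
    emb F m t i x =
      fromBlocks (blockDiagonal (Pi.single i x)) 0 0 (0 : Matrix (Fin t) (Fin t) F) :=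
  U_mul_Ut_eq i x

/-- the matrix `J` -/
def J2 (F : Type*) [Field F] : Matrix (Fin 2) (Fin 2) F := !![0, -1; 1, 0]

theorem J2_mul_J2 : J2 F * J2 F = -1 := by
  unfold J2
  ext a b
  fin_cases a <;> fin_cases b <;> simp [Matrix.mul_apply, Fin.sum_univ_two]

/-- the block data of the `i`-th block -/
def blockData (F : Type*) [Field F] (m t : ℕ) (i : Fin m) :
    BlockData F (Matrix ((Fin 2 × Fin m) ⊕ Fin t) ((Fin 2 × Fin m) ⊕ Fin t) F) where
  P := emb F m t i 1
  K := emb F m t i (J2 F)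
  PP := by rw [emb_mul, Matrix.mul_one]
  PK := by rw [emb_mul, Matrix.one_mul]
  KP := by rw [emb_mul, Matrix.mul_one]
  KK := by rw [emb_mul, J2_mul_J2, emb_neg]

theorem frame_sum :
    ∑ i : Fin m, (blockData F m t i).P + U0 F m t * (U0 F m t)ᵀ = 1 := by
  have h1 : ∀ i : Fin m, (blockData F m t i).P =
      fromBlocks (blockDiagonal (Pi.single i 1)) 0 0 (0 : Matrix (Fin t) (Fin t) F) :=
    fun i => emb_eq i 1
  have h2 : ∀ s : Finset (Fin m), ∑ i ∈ s, (blockData F m t i).P =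
      fromBlocks (blockDiagonal (∑ i ∈ s, Pi.single i (1 : Matrix (Fin 2) (Fin 2) F))) 0 0
        (0 : Matrix (Fin t) (Fin t) F) := by
    intro s
    induction s using Finset.induction_on with
    | empty => simp
    | insert a s ha ih =>
      rw [Finset.sum_insert ha, Finset.sum_insert ha, ih, h1, fromBlocks_add, blockDiagonal_add]
      simp
  rw [h2, U0_mul_U0t, fromBlocks_add, Finset.univ_sum_single]
  have : (blockDiagonal fun _ : Fin m => (1 : Matrix (Fin 2) (Fin 2) F)) = 1 := blockDiagonal_one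
  simp only [add_zero, zero_add]
  rw [this, fromBlocks_one]

end frame

section dB

variable {F : Type*} [Field F] {a b : Type*} [Fintype a] [Fintype b] [DecidableEq a]
  [DecidableEq b]

/-- block diagonal ring hom -/
def dB (F : Type*) [Field F] (a b : Type*) [Fintype a] [Fintype b] [DecidableEq a]
    [DecidableEq b] : Matrix a a F × Matrix b b F →+* Matrix (a ⊕ b) (a ⊕ b) F where
  toFun p := fromBlocks p.1 0 0 p.2
  map_one' := fromBlocks_one
  map_mul' p q := by
    rw [fromBlocks_multiply]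
    simp
  map_zero' := by simp
  map_add' p q := by
    rw [fromBlocks_add]
    simp

/-- block diagonal embedding of units -/
def dBU (F : Type*) [Field F] (a b : Type*) [Fintype a] [Fintype b] [DecidableEq a]
    [DecidableEq b] : GL a F × GL b F →* GL (a ⊕ b) F :=
  (Units.map (dB F a b).toMonoidHom).comp
    (MulEquiv.prodUnits (M := Matrix a a F) (N := Matrix b b F)).symm.toMonoidHom

theorem dBU_val (g : GL a F) (h : GL b F) :
    ((dBU F a b (g, h) : GL (a ⊕ b) F) : Matrix (a ⊕ b) (a ⊕ b) F) =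
      fromBlocks (g : Matrix a a F) 0 0 (h : Matrix b b F) := rfl

theorem dBU_injective : Function.Injective (dBU F a b) := by
  rintro ⟨g, h⟩ ⟨g', h'⟩ hh
  have h1 := congrArg Units.val hh
  rw [dBU_val, dBU_val, fromBlocks_inj] at h1
  exact Prod.ext (Units.ext h1.1) (Units.ext h1.2.2.2)

end dB

section rho

variable {F : Type*} [Field F] {m t : ℕ}

/-- the matrix `α + β J` -/
def rhoMat (α β : F) : Matrix (Fin 2) (Fin 2) F := α • 1 + β • J2 F

theorem rhoMat_mul_rhoMat (α β : F) (h1 : α ^ 2 = β ^ 2) (h2 : 2 * α * β = 1) :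
    rhoMat α β * rhoMat α β = J2 F := by
  unfold rhoMat
  have e : (α • (1 : Matrix (Fin 2) (Fin 2) F) + β • J2 F) * (α • 1 + β • J2 F) =
      (α ^ 2 - β ^ 2) • 1 + (2 * α * β) • J2 F := by
    simp only [mul_add, add_mul, smul_mul_assoc, mul_smul_comm, mul_one, one_mul, J2_mul_J2,
      smul_neg]
    module
  rw [e, h1, sub_self, zero_smul, zero_add, h2, one_smul]

theorem rhoMat_pow_eight (α β : F) (h1 : α ^ 2 = β ^ 2) (h2 : 2 * α * β = 1) :
    rhoMat α β ^ 8 = 1 := by
  have e : rhoMat α β ^ 8 = ((rhoMat α β * rhoMat α β) * (rhoMat α β * rhoMat α β)) *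
      ((rhoMat α β * rhoMat α β) * (rhoMat α β * rhoMat α β)) := by
    noncomm_ring
  rw [e, rhoMat_mul_rhoMat α β h1 h2, J2_mul_J2]
  simp

/-- `α + β J` as a unit -/
def rhoU (α β : F) (h1 : α ^ 2 = β ^ 2) (h2 : 2 * α * β = 1) : GL (Fin 2) F where
  val := rhoMat α β
  inv := rhoMat α β ^ 7
  val_inv := by rw [← pow_succ', rhoMat_pow_eight α β h1 h2]
  inv_val := by rw [← pow_succ, rhoMat_pow_eight α β h1 h2]

theorem rhoU_pow_eight (α β : F) (h1 : α ^ 2 = β ^ 2) (h2 : 2 * α * β = 1) :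
    rhoU α β h1 h2 ^ 8 = 1 := by
  apply Units.ext
  rw [Units.val_pow_eq_pow_val]
  exact rhoMat_pow_eight α β h1 h2

open Cfsg.Agent.Lib.Helper16.SylAb in
/-- the element acting as `g` on the `i`-th block -/
def blockEl (F : Type*) [Field F] (m t : ℕ) (i : Fin m) (g : GL (Fin 2) F) :
    GL ((Fin 2 × Fin m) ⊕ Fin t) F :=
  dBU F (Fin 2 × Fin m) (Fin t) (bdHom F (Fin 2) m (Pi.mulSingle i g), 1)

open Cfsg.Agent.Lib.Helper16.SylAb in
theorem blockEl_val (i : Fin m) (g : GL (Fin 2) F) :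
    ((blockEl F m t i g : GL ((Fin 2 × Fin m) ⊕ Fin t) F) :
      Matrix ((Fin 2 × Fin m) ⊕ Fin t) ((Fin 2 × Fin m) ⊕ Fin t) F) =
      1 - (blockData F m t i).P + emb F m t i (g : Matrix (Fin 2) (Fin 2) F) := by
  unfold blockEl
  rw [dBU_val, bdHom_val]
  show _ = 1 - emb F m t i 1 + emb F m t i (g : Matrix (Fin 2) (Fin 2) F)
  rw [emb_eq, emb_eq, ← fromBlocks_one, sub_eq_add_neg, fromBlocks_neg, fromBlocks_add,
    fromBlocks_add, ← blockDiagonal_one, ← blockDiagonal_neg, ← blockDiagonal_add,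
    ← blockDiagonal_add]
  simp only [neg_zero, add_zero, Units.val_one]
  congr 2
  funext k
  by_cases hk : k = i
  · subst hk
    simp
  · simp [hk]

theorem blockEl_rho_val (i : Fin m) (α β : F) (h1 : α ^ 2 = β ^ 2) (h2 : 2 * α * β = 1) :
    ((blockEl F m t i (rhoU α β h1 h2) : GL ((Fin 2 × Fin m) ⊕ Fin t) F) :
      Matrix ((Fin 2 × Fin m) ⊕ Fin t) ((Fin 2 × Fin m) ⊕ Fin t) F) =
      (blockData F m t i).r α β := by
  rw [blockEl_val]
  unfold BlockData.r
  show _ + emb F m t i (rhoMat α β) = _ + (α • emb F m t i 1 + β • emb F m t i (J2 F))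
  unfold rhoMat
  rw [emb_add, emb_smul, emb_smul]

end rho

end Cfsg.Agent.Lib.Helper16.GLRank
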