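import Cfsg.Agent.Lib.Helper16.GLRank5

set_option autoImplicit false

namespace Cfsg.Agent.Lib.Helper16.GLRank

open Matrix

section corner

variable {F : Type*} [Field F] {κ ι : Type*} [Fintype κ] [Fintype ι] [DecidableEq κ]
  [DecidableEq ι]

theorem corner_sq (U : Matrix κ ι F) (hU : Uᵀ * U = 1) (e : Matrix κ κ F) (he : e * e = 1)
    (hc : e * (U * Uᵀ) = (U * Uᵀ) * e) : (Uᵀ * e * U) * (Uᵀ * e * U) = 1 := by
  calc (Uᵀ * e * U) * (Uᵀ * e * U) = Uᵀ * (e * (U * Uᵀ)) * e * U := by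
        simp only [Matrix.mul_assoc]
    _ = Uᵀ * ((U * Uᵀ) * e) * e * U := by rw [hc]
    _ = (Uᵀ * U) * Uᵀ * (e * e) * U := by simp only [Matrix.mul_assoc]
    _ = 1 := by rw [hU, he, Matrix.one_mul, Matrix.mul_one, hU]

omit [DecidableEq κ] in
theorem corner_eq (U : Matrix κ ι F) (hU : Uᵀ * U = 1) (e : Matrix κ κ F)
    (hc : e * (U * Uᵀ) = (U * Uᵀ) * e) : e * (U * Uᵀ) = U * (Uᵀ * e * U) * Uᵀ := by
  calc e * (U * Uᵀ) = (U * Uᵀ) * e := hc
    _ = U * (Uᵀ * U) * Uᵀ * e := by rw [hU, Matrix.mul_one]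
    _ = (U * Uᵀ) * ((U * Uᵀ) * e) := by simp only [Matrix.mul_assoc]
    _ = (U * Uᵀ) * (e * (U * Uᵀ)) := by rw [hc]
    _ = U * (Uᵀ * e * U) * Uᵀ := by simp only [Matrix.mul_assoc]

omit [DecidableEq κ] in
theorem corner_comm (U : Matrix κ ι F) (hU : Uᵀ * U = 1) (e : Matrix κ κ F) (x : Matrix ι ι F)
    (hc : e * (U * x * Uᵀ) = (U * x * Uᵀ) * e) : (Uᵀ * e * U) * x = x * (Uᵀ * e * U) := by
  calc (Uᵀ * e * U) * x = Uᵀ * e * U * x * (Uᵀ * U) := by rw [hU, Matrix.mul_one]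
    _ = Uᵀ * (e * (U * x * Uᵀ)) * U := by simp only [Matrix.mul_assoc]
    _ = Uᵀ * ((U * x * Uᵀ) * e) * U := by rw [hc]
    _ = (Uᵀ * U) * x * (Uᵀ * e * U) := by simp only [Matrix.mul_assoc]
    _ = x * (Uᵀ * e * U) := by rw [hU, Matrix.one_mul]

theorem two_by_two (hneg : ¬ IsSquare (-1 : F)) (h2 : (2 : F) ≠ 0)
    (M : Matrix (Fin 2) (Fin 2) F) (hJ : M * J2 F = J2 F * M) (hM : M * M = 1) :
    M = 1 ∨ M = -1 := by
  have e00 := congrFun (congrFun hJ 0) 0
  have e01 := congrFun (congrFun hJ 0) 1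
  simp only [J2, Matrix.mul_apply, Fin.sum_univ_two, Matrix.of_apply, Matrix.cons_val',
    Matrix.cons_val_zero, Matrix.cons_val_one, Matrix.empty_val', Matrix.cons_val_fin_one,
    mul_zero, mul_one, zero_mul, one_mul, mul_neg, neg_mul, zero_add, add_zero] at e00 e01
  have m00 := congrFun (congrFun hM 0) 0
  have m01 := congrFun (congrFun hM 0) 1
  simp only [Matrix.mul_apply, Fin.sum_univ_two, Matrix.one_apply_eq, Matrix.one_apply_ne,
    ne_eq, Fin.zero_eq_one_iff, Nat.succ_ne_self, not_false_eq_true] at m00 m01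
  have h11 : M 1 1 = M 0 0 := by
    have := neg_injective e01
    exact this.symm
  have h10 : M 1 0 = -M 0 1 := by rw [e00, neg_neg]
  rw [h10] at m00
  rw [h11] at m01
  have hpq : M 0 0 * M 0 1 = 0 := by
    have : (2 : F) * (M 0 0 * M 0 1) = 0 := by
      rw [← m01]; ring
    rcases mul_eq_zero.mp this with h | h
    · exact absurd h h2
    · exact h
  have hq : M 0 1 = 0 := by
    rcases mul_eq_zero.mp hpq with h | h
    · exfalso
      apply hneg
      refine ⟨M 0 1, ?_⟩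
      rw [h] at m00
      rw [← m00]; ring
    · exact h
  rw [hq] at m00 h10
  have hp : (M 0 0 - 1) * (M 0 0 + 1) = 0 := by
    have : M 0 0 * M 0 0 = 1 := by rw [← m00]; ring
    calc (M 0 0 - 1) * (M 0 0 + 1) = M 0 0 * M 0 0 - 1 := by ring
      _ = 0 := by rw [this, sub_self]
  rcases mul_eq_zero.mp hp with h | h
  · left
    have hp1 : M 0 0 = 1 := sub_eq_zero.mp h
    ext a b
    fin_cases a <;> fin_cases b
    · simpa using hp1
    · simpa using hq
    · simpa using h10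
    · simpa [hp1] using h11
  · right
    have hp1 : M 0 0 = -1 := eq_neg_of_add_eq_zero_left h
    ext a b
    fin_cases a <;> fin_cases b
    · simpa using hp1
    · simpa using hq
    · simpa using h10
    · simpa [hp1] using h11

end corner

end Cfsg.Agent.Lib.Helper16.GLRank
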