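import Cfsg.Agent.Lib.Helper16.GLRank6

set_option autoImplicit false

namespace Cfsg.Agent.Lib.Helper16.GLRank

open Matrix
open scoped commutatorElement

section key

variable {F : Type*} [Field F] [Fintype F] {m t : ℕ}

/-- Key lemma: the block element `r_i` centralizes every elementary abelian subgroup normalized
by a 2-group containing it. -/
theorem key_centralize (h2F : (2 : F) ≠ 0) (α β : F) (h1 : α ^ 2 = β ^ 2) (h2 : 2 * α * β = 1)
    (T A : Subgroup (GL ((Fin 2 × Fin m) ⊕ Fin t) F)) (hTA : NPair T A) (i : Fin m)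
    (hr : blockEl F m t i (rhoU α β h1 h2) ∈ T) :
    ∀ a ∈ A, a * blockEl F m t i (rhoU α β h1 h2) = blockEl F m t i (rhoU α β h1 h2) * a := by
  obtain ⟨r, hrdef⟩ : ∃ r, r = blockEl F m t i (rhoU α β h1 h2) := ⟨_, rfl⟩
  rw [← hrdef] at hr ⊢
  by_contra hcon
  obtain ⟨a, ha, har⟩ : ∃ a ∈ A, a * r ≠ r * a := by
    by_contra h
    apply hcon
    intro a ha
    by_contra h'
    exact h ⟨a, ha, h'⟩
  have : Fact (Nat.Prime 2) := ⟨Nat.prime_two⟩
  have hnil : Group.IsNilpotent ↥T := hTA.pT.isNilpotent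
  obtain ⟨e, heA, hcA, hc1, hcr⟩ :=
    exists_comm_of_not_centralized T hnil A hTA.le r hr (hTA.norm hr) a ha har
  have hc2 : ⁅e, r⁆ * ⁅e, r⁆ = 1 := by
    have := hTA.sq _ hcA
    rwa [pow_two] at this
  have h3 : e * r * e⁻¹ = ⁅e, r⁆ * r := by
    rw [commutatorElement_def]; group
  have h4 : e * (r * r) * e⁻¹ = r * r := by
    calc e * (r * r) * e⁻¹ = (e * r * e⁻¹) * (e * r * e⁻¹) := by group
      _ = (⁅e, r⁆ * r) * (⁅e, r⁆ * r) := by rw [h3]
      _ = ⁅e, r⁆ * (r * ⁅e, r⁆) * r := by simp only [mul_assoc]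
      _ = (⁅e, r⁆ * ⁅e, r⁆) * (r * r) := by rw [← hcr]; simp only [mul_assoc]
      _ = r * r := by rw [hc2, one_mul]
  have h5 : e * (r * r) = (r * r) * e := by
    calc e * (r * r) = (e * (r * r) * e⁻¹) * e := by group
      _ = (r * r) * e := by rw [h4]
  have h6 : Commute (e : Matrix ((Fin 2 × Fin m) ⊕ Fin t) ((Fin 2 × Fin m) ⊕ Fin t) F)
      (blockData F m t i).j := by
    have := congrArg Units.val h5
    simp only [Units.val_mul] at this
    rw [hrdef, blockEl_rho_val, BlockData.r_mul_r _ α β h1 h2] at this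
    exact this
  have h7 := (blockData F m t i).commute_r_of_commute_j h2F α β _ h6
  have h8 : e * r = r * e := by
    apply Units.ext
    rw [Units.val_mul, Units.val_mul, hrdef, blockEl_rho_val]
    exact h7
  exact hc1 (commutatorElement_eq_one_iff_mul_comm.mpr h8)

end key

end Cfsg.Agent.Lib.Helper16.GLRank
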