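import Cfsg.Agent.Lib.Helper16.GLRank7

set_option autoImplicit false

namespace Cfsg.Agent.Lib.Helper16.GLRank

open Matrix

section count

variable {F : Type*} [Field F] {m t : ℕ}

/-- the `i`-th diagonal block of a matrix -/
def hatI (i : Fin m) (e : Matrix ((Fin 2 × Fin m) ⊕ Fin t) ((Fin 2 × Fin m) ⊕ Fin t) F) :
    Matrix (Fin 2) (Fin 2) F := (U F m t i)ᵀ * e * U F m t i

/-- the tail block of a matrix -/
def hat0 (e : Matrix ((Fin 2 × Fin m) ⊕ Fin t) ((Fin 2 × Fin m) ⊕ Fin t) F) :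
    Matrix (Fin t) (Fin t) F := (U0 F m t)ᵀ * e * U0 F m t

open Classical in
/-- the signs of a block scalar matrix -/
noncomputable def sig (e : Matrix ((Fin 2 × Fin m) ⊕ Fin t) ((Fin 2 × Fin m) ⊕ Fin t) F) :
    (Fin m → ℤˣ) × (Fin t → ℤˣ) :=
  (fun i => if hatI i e = 1 then 1 else -1, fun d => if hat0 e d d = 1 then 1 else -1)

/-- the block scalar matrix with given signs -/
def recon (F : Type*) [Field F] (m t : ℕ) (s : (Fin m → ℤˣ) × (Fin t → ℤˣ)) :
    Matrix ((Fin 2 × Fin m) ⊕ Fin t) ((Fin 2 × Fin m) ⊕ Fin t) F :=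
  ∑ i : Fin m, U F m t i * ((((s.1 i : ℤˣ) : ℤ) : F) • (1 : Matrix (Fin 2) (Fin 2) F)) *
      (U F m t i)ᵀ +
    U0 F m t * Matrix.diagonal (fun d => (((s.2 d : ℤˣ) : ℤ) : F)) * (U0 F m t)ᵀ

open Classical in
theorem tail_diag (ht : t ≤ 1) (M : Matrix (Fin t) (Fin t) F) (hM : M * M = 1) :
    M = Matrix.diagonal (fun d => (((if M d d = 1 then (1 : ℤˣ) else -1 : ℤˣ) : ℤ) : F)) := by
  have : Subsingleton (Fin t) := by
    rcases Nat.le_one_iff_eq_zero_or_eq_one.mp ht with rfl | rfl
    · infer_instance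
    · infer_instance
  ext d d'
  have hdd : d' = d := Subsingleton.elim _ _
  subst hdd
  rw [Matrix.diagonal_apply_eq]
  by_cases h : M d' d' = 1
  · rw [if_pos h, h]; simp
  · rw [if_neg h]
    have h1 := congrFun (congrFun hM d') d'
    rw [Matrix.mul_apply, Fintype.sum_subsingleton _ d', Matrix.one_apply_eq] at h1
    have h2 : (M d' d' - 1) * (M d' d' + 1) = 0 := by
      calc (M d' d' - 1) * (M d' d' + 1) = M d' d' * M d' d' - 1 := by ring
        _ = 0 := by rw [h1, sub_self]
    rcases mul_eq_zero.mp h2 with h3 | h3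
    · exact absurd (sub_eq_zero.mp h3) h
    · rw [eq_neg_of_add_eq_zero_left h3]; simp

open Classical in
theorem eq_recon_sig (hneg : ¬ IsSquare (-1 : F)) (h2F : (2 : F) ≠ 0) (ht : t ≤ 1)
    (e : Matrix ((Fin 2 × Fin m) ⊕ Fin t) ((Fin 2 × Fin m) ⊕ Fin t) F) (he : e * e = 1)
    (hc : ∀ i : Fin m, Commute e (blockData F m t i).j) : e = recon F m t (sig e) := by
  have hP : ∀ i, e * (U F m t i * (U F m t i)ᵀ) = (U F m t i * (U F m t i)ᵀ) * e := by
    intro i
    have := (blockData F m t i).commute_P_of_commute_j h2F e (hc i)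
    have hPi : (blockData F m t i).P = U F m t i * (U F m t i)ᵀ := by
      show emb F m t i 1 = _
      unfold emb
      rw [Matrix.mul_one]
    rw [hPi] at this
    exact this
  have hK : ∀ i, e * (U F m t i * J2 F * (U F m t i)ᵀ) = (U F m t i * J2 F * (U F m t i)ᵀ) * e :=
    fun i => (blockData F m t i).commute_K_of_commute_j h2F e (hc i)
  have hP0 : e * (U0 F m t * (U0 F m t)ᵀ) = (U0 F m t * (U0 F m t)ᵀ) * e := by
    have h1 : U0 F m t * (U0 F m t)ᵀ = 1 - ∑ i : Fin m, (blockData F m t i).P := by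
      rw [← frame_sum (F := F) (m := m) (t := t)]; abel
    rw [h1, Matrix.mul_sub, Matrix.sub_mul, Matrix.mul_one, Matrix.one_mul, Finset.mul_sum,
      Finset.sum_mul]
    congr 1
    apply Finset.sum_congr rfl
    intro i _
    exact (blockData F m t i).commute_P_of_commute_j h2F e (hc i)
  -- the blocks
  have hI : ∀ i, hatI i e = ((((sig e).1 i : ℤˣ) : ℤ) : F) • (1 : Matrix (Fin 2) (Fin 2) F) := by
    intro i
    have h1 := two_by_two hneg h2F (hatI i e)
      (corner_comm (U F m t i) (Ut_mul_U i) e (J2 F) (hK i))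
      (corner_sq (U F m t i) (Ut_mul_U i) e he (hP i))
    show hatI i e = (((if hatI i e = 1 then (1 : ℤˣ) else -1 : ℤˣ) : ℤ) : F) • 1
    by_cases h : hatI i e = 1
    · rw [if_pos h, h]; simp
    · rw [if_neg h]
      rcases h1 with h1 | h1
      · exact absurd h1 h
      · rw [h1]; simp
  have h0 : hat0 e = Matrix.diagonal (fun d => ((((sig e).2 d : ℤˣ) : ℤ) : F)) :=
    tail_diag ht (hat0 e) (corner_sq (U0 F m t) U0t_mul_U0 e he hP0)
  calc e = e * (∑ i : Fin m, (blockData F m t i).P + U0 F m t * (U0 F m t)ᵀ) := by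
        rw [frame_sum, Matrix.mul_one]
    _ = ∑ i : Fin m, e * (U F m t i * (U F m t i)ᵀ) + e * (U0 F m t * (U0 F m t)ᵀ) := by
        rw [Matrix.mul_add, Finset.mul_sum]
        congr 1
        apply Finset.sum_congr rfl
        intro i _
        show e * emb F m t i 1 = _
        unfold emb
        rw [Matrix.mul_one]
    _ = recon F m t (sig e) := by
        unfold recon
        congr 1
        · apply Finset.sum_congr rfl
          intro i _
          rw [corner_eq (U F m t i) (Ut_mul_U i) e (hP i), ← hI i]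
          rfl
        · rw [corner_eq (U0 F m t) U0t_mul_U0 e hP0, ← h0]
          rfl

end count

end Cfsg.Agent.Lib.Helper16.GLRank
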