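import Cfsg.Agent.Lib.Helper16.GLRank8

set_option autoImplicit false

namespace Cfsg.Agent.Lib.Helper16.GLRank

open Matrix Cfsg.Agent.Lib.Helper16.SylAb

section count2

variable {F : Type*} [Field F] [Fintype F] {m t : ℕ}

omit [Fintype F] in
theorem card_le_of_commute (hneg : ¬ IsSquare (-1 : F)) (h2F : (2 : F) ≠ 0) (ht : t ≤ 1)
    (A : Subgroup (GL ((Fin 2 × Fin m) ⊕ Fin t) F)) (hsq : ∀ x ∈ A, x ^ 2 = 1)
    (hc : ∀ i : Fin m, ∀ a ∈ A,
      Commute (a : Matrix ((Fin 2 × Fin m) ⊕ Fin t) ((Fin 2 × Fin m) ⊕ Fin t) F)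
        (blockData F m t i).j) :
    Nat.card ↥A ≤ 2 ^ (m + t) := by
  have hinj : Function.Injective (fun a : ↥A =>
      sig ((a : GL ((Fin 2 × Fin m) ⊕ Fin t) F) :
        Matrix ((Fin 2 × Fin m) ⊕ Fin t) ((Fin 2 × Fin m) ⊕ Fin t) F)) := by
    intro a b hab
    have key : ∀ x : ↥A, ((x : GL ((Fin 2 × Fin m) ⊕ Fin t) F) :
        Matrix ((Fin 2 × Fin m) ⊕ Fin t) ((Fin 2 × Fin m) ⊕ Fin t) F) =
        recon F m t (sig ((x : GL ((Fin 2 × Fin m) ⊕ Fin t) F) :
          Matrix ((Fin 2 × Fin m) ⊕ Fin t) ((Fin 2 × Fin m) ⊕ Fin t) F)) := by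
      intro x
      apply eq_recon_sig hneg h2F ht
      · have := hsq x.1 x.2
        rw [pow_two] at this
        have h1 := congrArg Units.val this
        rwa [Units.val_mul, Units.val_one] at h1
      · intro i
        exact hc i x.1 x.2
    apply Subtype.ext
    apply Units.ext
    rw [key a, key b]
    exact congrArg _ hab
  have h1 := Nat.card_le_card_of_injective _ hinj
  have h2 : Nat.card ((Fin m → ℤˣ) × (Fin t → ℤˣ)) = 2 ^ (m + t) := by
    rw [Nat.card_prod, Nat.card_fun, Nat.card_fun, Nat.card_fin, Nat.card_fin,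
      Nat.card_eq_fintype_card, Fintype.card_units_int, pow_add]
  rwa [h2] at h1

/-- the 2-group generated by the block elements -/
def blockHom (F : Type*) [Field F] (m t : ℕ) (Z : Subgroup (GL (Fin 2) F)) :
    (Fin m → ↥Z) →* GL ((Fin 2 × Fin m) ⊕ Fin t) F :=
  (dBU F (Fin 2 × Fin m) (Fin t)).comp
    ((MonoidHom.inl (GL (Fin 2 × Fin m) F) (GL (Fin t) F)).comp
      ((bdHom F (Fin 2) m).comp (Z.subtype.compLeft (Fin m))))

omit [Fintype F] in
theorem blockHom_mulSingle (Z : Subgroup (GL (Fin 2) F)) (i : Fin m) (g : ↥Z) :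
    blockHom F m t Z (Pi.mulSingle i g) = blockEl F m t i (g : GL (Fin 2) F) := by
  unfold blockHom blockEl
  simp only [MonoidHom.comp_apply, MonoidHom.inl_apply]
  congr 3
  funext k
  by_cases hk : k = i
  · subst hk
    simp
  · simp [hk]

/-- the upper bound for `q ≡ 3 mod 4` -/
theorem NUB_GL_three (hq : Fintype.card F % 4 = 3) (ht : t ≤ 1) :
    NUB (GL ((Fin 2 × Fin m) ⊕ Fin t) F) (m + t) := by
  have h2F : (2 : F) ≠ 0 := by
    apply Cfsg.Agent.Lib.Helper16.TwoRank.two_ne_zero_of_odd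
    rw [Nat.odd_iff]; omega
  have hneg := not_isSquare_neg_one hq
  obtain ⟨α, β, h1, h2⟩ := exists_alpha_beta hq
  obtain ⟨Z, hZ⟩ : ∃ Z : Subgroup (GL (Fin 2) F), Z = Subgroup.zpowers (rhoU α β h1 h2) :=
    ⟨_, rfl⟩
  have hρZ : rhoU α β h1 h2 ∈ Z := by rw [hZ]; exact Subgroup.mem_zpowers _
  have hZ8 : ∀ g ∈ Z, g ^ 8 = 1 := by
    intro g hg
    rw [hZ] at hg
    obtain ⟨z, hz⟩ := Subgroup.mem_zpowers_iff.mp hg
    rw [← hz, ← zpow_natCast, ← _root_.zpow_mul, mul_comm, _root_.zpow_mul, zpow_natCast,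
      rhoU_pow_eight, _root_.one_zpow]
  have hX : IsPGroup 2 (Fin m → ↥Z) := by
    intro x
    refine ⟨3, ?_⟩
    funext k
    apply Subtype.ext
    show ((x k : GL (Fin 2) F)) ^ (2 ^ 3) = 1
    exact hZ8 _ (x k).2
  have hR : IsPGroup 2 ↥(blockHom F m t Z).range :=
    hX.of_surjective (blockHom F m t Z).rangeRestrict (blockHom F m t Z).rangeRestrict_surjective
  apply NUB.of_contains _ hR
  intro T A hTA hRT
  apply card_le_of_commute hneg h2F ht A hTA.sq
  intro i a ha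
  have hr : blockEl F m t i (rhoU α β h1 h2) ∈ T := by
    apply hRT
    exact ⟨Pi.mulSingle i ⟨_, hρZ⟩, blockHom_mulSingle Z i ⟨_, hρZ⟩⟩
  have h3 := key_centralize h2F α β h1 h2 T A hTA i hr a ha
  have h4 := congrArg Units.val h3
  rw [Units.val_mul, Units.val_mul, blockEl_rho_val] at h4
  have h5 : Commute (a : Matrix ((Fin 2 × Fin m) ⊕ Fin t) ((Fin 2 × Fin m) ⊕ Fin t) F)
      ((blockData F m t i).r α β) := h4
  rw [← BlockData.r_mul_r _ α β h1 h2]
  exact h5.mul_right h5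

end count2

end Cfsg.Agent.Lib.Helper16.GLRank
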