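/-
helper16: S3371 market "HT" (planner helper26, `notes/S3371_leaves.lean`), leaf HT-COORDA: the structure of `G` when `|W 0| = q`
(monomial matrices `diag(a, s a⁻¹)`, `antidiag(a, s a⁻¹)`, `s = ± 1`, in the basis `e0`, `e1 = ρ t e0`).
-/
import Mathlib
import Cfsg.Prelude.Def_CaseTheorems
import Cfsg.Agent.Lib.Helper26.HTDefs

set_option autoImplicit false

namespace Cfsg.Agent.Lib.Helper16.HTCOORDA

open Subgroup Cfsg.Agent.Lib.Helper26.HT

variable {q : ℕ} [Fact q.Prime] {V : Type*} [AddCommGroup V] [Module (ZMod q) V]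
  {G : Type*} [Group G]

/-- **HT-COORDA** the structure of `G` in the case `|W 0| = q`. -/
theorem coords_struct [Finite V] [Finite G] (hq2 : q ≠ 2)
    (ρ : G →* (V ≃ₗ[ZMod q] V)) (hρ : Function.Injective ρ) (hT : HalfT ρ) (hns : ¬ Semireg ρ)
    (H : Subgroup G) (W : Fin 2 → Submodule (ZMod q) V) (h : Imp2 ρ H W)
    (hmix : ∀ w0 ∈ W 0, ∀ w1 ∈ W 1, w0 ≠ 0 → w1 ≠ 0 →
      ∃ g : G, g ∉ H ∧ ρ g (w0 + w1) = w0 + w1)
    (hW0 : Nat.card (W 0) = q) :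
    ∃ e0 e1 : V, e0 ∈ W 0 ∧ e1 ∈ W 1 ∧ e0 ≠ 0 ∧ e1 ≠ 0 ∧
      (∀ g : G, ∃ a s : ZMod q, a ≠ 0 ∧ (s = 1 ∨ s = -1) ∧
        ((ρ g e0 = a • e0 ∧ ρ g e1 = (s * a⁻¹) • e1) ∨
         (ρ g e0 = a • e1 ∧ ρ g e1 = (s * a⁻¹) • e0))) ∧
      (∀ a s : ZMod q, a ≠ 0 → (s = 1 ∨ s = -1) →
        (∃ g : G, ρ g e0 = a • e0 ∧ ρ g e1 = (s * a⁻¹) • e1) ∧
        (∃ g : G, ρ g e0 = a • e1 ∧ ρ g e1 = (s * a⁻¹) • e0)) := by
  classical
  have hq : q.Prime := Fact.out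
  -- `e0`
  have hW0nt : ∃ e0 ∈ W 0, e0 ≠ 0 := by
    by_contra hcon
    push Not at hcon
    have h1 : Nat.card (W 0) = 1 := by
      rw [Nat.card_eq_one_iff_unique]
      exact ⟨⟨fun a b => Subtype.ext (by rw [hcon a a.2, hcon b b.2])⟩, ⟨0⟩⟩
    rw [hW0] at h1
    exact hq.one_lt.ne' h1
  obtain ⟨e0, he0, hne0⟩ := hW0nt
  obtain ⟨t, ht⟩ := h.exists_not_mem
  have ht' : t⁻¹ ∉ H := Imp2.inv_not_mem ht
  obtain ⟨e1, he1def⟩ : ∃ e1, e1 = ρ t e0 := ⟨_, rfl⟩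
  have he1 : e1 ∈ W 1 := by rw [he1def]; exact (h.map_mem ht).1 e0 he0
  have hne1 : e1 ≠ 0 := by
    rw [he1def]
    exact fun h0 => hne0 ((ρ t).map_eq_zero_iff.mp h0)
  have hA : ∀ w ∈ W 0, ∃ c : ZMod q, w = c • e0 := by
    have hinj : Function.Injective
        (fun c : ZMod q => (⟨c • e0, (W 0).smul_mem c he0⟩ : W 0)) := by
      intro a b hab
      exact smul_left_injective (ZMod q) hne0 (congrArg Subtype.val hab)
    have hbij := hinj.bijective_of_nat_card_le (by rw [hW0, Nat.card_zmod])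
    intro w hw
    obtain ⟨c, hc⟩ := hbij.2 ⟨w, hw⟩
    exact ⟨c, (congrArg Subtype.val hc).symm⟩
  have hB : ∀ w ∈ W 1, ∃ c : ZMod q, w = c • e1 := by
    intro w hw
    obtain ⟨c, hc⟩ := hA _ ((h.map_mem ht').2 w hw)
    refine ⟨c, ?_⟩
    have h1 := congrArg (ρ t) hc
    rw [apply_inv_apply, map_smul, ← he1def] at h1
    exact h1
  have hinj0 : ∀ a b : ZMod q, a • e0 = b • e0 → a = b :=
    fun a b hab => smul_left_injective (ZMod q) hne0 hab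
  have hinj1 : ∀ a b : ZMod q, a • e1 = b • e1 → a = b :=
    fun a b hab => smul_left_injective (ZMod q) hne1 hab
  -- faithfulness on `e0, e1`
  have hfaith : ∀ g g' : G, ρ g e0 = ρ g' e0 → ρ g e1 = ρ g' e1 → g = g' := by
    intro g g' h0 h1
    apply hρ
    apply LinearEquiv.ext
    intro v
    obtain ⟨w0, hw0, w1, hw1, rfl⟩ := h.decomp v
    obtain ⟨c0, rfl⟩ := hA w0 hw0
    obtain ⟨c1, rfl⟩ := hB w1 hw1
    rw [map_add, map_add, map_smul, map_smul, map_smul, map_smul, h0, h1]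
  have hdiag : ∀ g ∈ H, ∃ α β : ZMod q, ρ g e0 = α • e0 ∧ ρ g e1 = β • e1 := by
    intro g hg
    obtain ⟨α, hα⟩ := hA _ (h.inv g hg 0 e0 he0)
    obtain ⟨β, hβ⟩ := hB _ (h.inv g hg 1 e1 he1)
    exact ⟨α, β, hα, hβ⟩
  have hanti : ∀ g, g ∉ H → ∃ γ δ : ZMod q, ρ g e0 = γ • e1 ∧ ρ g e1 = δ • e0 := by
    intro g hg
    obtain ⟨γ, hγ⟩ := hB _ ((h.map_mem hg).1 e0 he0)
    obtain ⟨δ, hδ⟩ := hA _ ((h.map_mem hg).2 e1 he1)
    exact ⟨γ, δ, hγ, hδ⟩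
  -- all stabilizers of nonzero vectors have order 2
  have hv01 : e0 + e1 ≠ 0 := by
    intro h0
    have h1 := h.uniq he0 he1 (W 0).zero_mem (W 1).zero_mem (by rw [h0, add_zero])
    exact hne0 h1.1
  have hN : H.Normal := h.normal
  have hdvd : Nat.card (stab ρ (e0 + e1)) ∣ 2 := by
    have h1 : H.relIndex (stab ρ (e0 + e1)) ∣ H.index :=
      Subgroup.relIndex_dvd_index_of_normal H _
    have h2 : H.subgroupOf (stab ρ (e0 + e1)) = ⊥ := by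
      rw [Subgroup.subgroupOf_eq_bot, Subgroup.disjoint_def]
      intro g hgH hgK
      have hgK' : ρ g (e0 + e1) = e0 + e1 := hgK
      rw [map_add] at hgK'
      have h3 := h.uniq (h.inv g hgH 0 e0 he0) (h.inv g hgH 1 e1 he1) he0 he1 hgK'
      exact hfaith g 1 (by rw [h3.1, one_apply']) (by rw [h3.2, one_apply'])
    have h3 := Subgroup.index_mul_card (H.subgroupOf (stab ρ (e0 + e1)))
    rw [h2, Subgroup.card_bot, mul_one] at h3
    rw [Subgroup.relIndex, h2, h.index] at h1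
    rw [← h3]
    exact h1
  have hstab2 : ∀ v : V, v ≠ 0 → Nat.card (stab ρ v) = 2 := by
    unfold Semireg at hns
    push Not at hns
    obtain ⟨v0, hv0, g0, hg0, hg01⟩ := hns
    have hne1' : Nat.card (stab ρ v0) ≠ 1 := by
      intro hc
      have hbot : stab ρ v0 = ⊥ := Subgroup.card_eq_one.mp hc
      have h1 : g0 ∈ stab ρ v0 := hg0
      rw [hbot, Subgroup.mem_bot] at h1
      exact hg01 h1
    have h2 : Nat.card (stab ρ (e0 + e1)) = 2 := by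
      rcases (Nat.dvd_prime Nat.prime_two).mp hdvd with h1 | h1
      · exact absurd ((hT v0 (e0 + e1) hv0 hv01).trans h1) hne1'
      · exact h1
    intro v hv
    rw [hT v (e0 + e1) hv hv01, h2]
  -- the element `k`
  obtain ⟨k, hkH, hk1, hkW⟩ := h.ker 0
  have hk0 : ρ k e0 = e0 := hkW e0 he0
  have hstabe0 : ∀ g : G, ρ g e0 = e0 → g = 1 ∨ g = k := by
    intro g hg
    have hc := hstab2 e0 hne0
    rw [Nat.card_eq_two_iff' (1 : stab ρ e0)] at hc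
    obtain ⟨y, -, hyu⟩ := hc
    by_cases hg1 : g = 1
    · exact Or.inl hg1
    · right
      have h1 : (⟨g, hg⟩ : stab ρ e0) = y :=
        hyu _ (fun he => hg1 (congrArg Subtype.val he))
      have h2 : (⟨k, hk0⟩ : stab ρ e0) = y :=
        hyu _ (fun he => hk1 (congrArg Subtype.val he))
      exact congrArg Subtype.val (h1.trans h2.symm)
  have hk1' : ρ k e1 = -e1 := by
    obtain ⟨α, β, -, hβ⟩ := hdiag k hkH
    have hkk : ρ (k * k) e0 = e0 := by rw [mul_apply', hk0, hk0]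
    have hkk1 : k * k = 1 := by
      rcases hstabe0 _ hkk with h1 | h1
      · exact h1
      · exfalso
        apply hk1
        exact mul_left_cancel (a := k) (by rw [h1, mul_one])
    have hbb : β * β = 1 := by
      have h1 : ρ (k * k) e1 = (β * β) • e1 := by
        rw [mul_apply', hβ, map_smul, hβ, smul_smul]
      rw [hkk1, one_apply'] at h1
      exact (hinj1 _ _ (by rw [one_smul]; exact h1)).symm
    rcases mul_self_eq_one_iff.mp hbb with h1 | h1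
    · exfalso
      apply hk1
      exact hfaith k 1 (by rw [hk0, one_apply']) (by rw [hβ, h1, one_smul, one_apply'])
    · rw [hβ, h1, neg_one_smul]
  -- the elements `τ_c`
  have htau : ∀ c : ZMod q, c ≠ 0 → ∃ τ : G, τ ∉ H ∧ ρ τ e0 = c • e1 ∧ ρ τ e1 = c⁻¹ • e0 := by
    intro c hc
    obtain ⟨τ, hτH, hτ⟩ := hmix e0 he0 (c • e1) ((W 1).smul_mem c he1) hne0
      (smul_ne_zero hc hne1)
    obtain ⟨γ, δ, hγ, hδ⟩ := hanti τ hτH
    rw [map_add, map_smul, hγ, hδ, smul_smul] at hτ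
    have hτ' : (c * δ) • e0 + γ • e1 = e0 + c • e1 := by rw [add_comm]; exact hτ
    have h1 := h.uniq ((W 0).smul_mem _ he0) ((W 1).smul_mem _ he1) he0 ((W 1).smul_mem c he1) hτ'
    have h2 : c * δ = 1 := hinj0 _ _ (by rw [one_smul]; exact h1.1)
    have h3 : γ = c := hinj1 _ _ h1.2
    have h4 : δ = c⁻¹ := eq_inv_of_mul_eq_one_right h2
    exact ⟨τ, hτH, by rw [hγ, h3], by rw [hδ, h4]⟩
  obtain ⟨τ1, hτ1H, hτ10, hτ11⟩ := htau 1 one_ne_zero
  rw [one_smul] at hτ10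
  rw [inv_one, one_smul] at hτ11
  have hD : ∀ a : ZMod q, a ≠ 0 → ∃ d : G, d ∈ H ∧ ρ d e0 = a • e0 ∧ ρ d e1 = a⁻¹ • e1 := by
    intro a ha
    obtain ⟨τ, hτH, hτ0, hτ1⟩ := htau a⁻¹ (inv_ne_zero ha)
    refine ⟨τ * τ1, h.mul_mem_of_not_mem hτH hτ1H, ?_, ?_⟩
    · rw [mul_apply', hτ10, hτ1, inv_inv]
    · rw [mul_apply', hτ11, hτ0]
  have hall' : ∀ a s : ZMod q, a ≠ 0 → (s = 1 ∨ s = -1) →
      (∃ g : G, ρ g e0 = a • e0 ∧ ρ g e1 = (s * a⁻¹) • e1) ∧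
      (∃ g : G, ρ g e0 = a • e1 ∧ ρ g e1 = (s * a⁻¹) • e0) := by
    intro a s ha hs
    obtain ⟨d, -, hd0, hd1⟩ := hD a ha
    obtain ⟨τ, -, hτ0, hτ1⟩ := htau a ha
    rcases hs with rfl | rfl
    · exact ⟨⟨d, hd0, by rw [one_mul]; exact hd1⟩, ⟨τ, hτ0, by rw [one_mul]; exact hτ1⟩⟩
    · refine ⟨⟨d * k, ?_, ?_⟩, ⟨τ * k, ?_, ?_⟩⟩
      · rw [mul_apply', hk0, hd0]
      · rw [mul_apply', hk1', map_neg, hd1, neg_one_mul, neg_smul]
      · rw [mul_apply', hk0, hτ0]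
      · rw [mul_apply', hk1', map_neg, hτ1, neg_one_mul, neg_smul]
  -- the shape of the elements of `H`
  have hH : ∀ g ∈ H, ∀ α β : ZMod q, ρ g e0 = α • e0 → ρ g e1 = β • e1 →
      α ≠ 0 ∧ (α * β = 1 ∨ α * β = -1) := by
    intro g hg α β hα hβ
    have hα0 : α ≠ 0 := by
      rintro rfl
      rw [zero_smul] at hα
      exact hne0 ((ρ g).map_eq_zero_iff.mp hα)
    refine ⟨hα0, ?_⟩
    obtain ⟨τ, hτH, hτ0, hτ1⟩ := htau α hα0
    have h0 : ρ (g * τ * τ1) e0 = e0 := by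
      rw [mul_apply', mul_apply', hτ10, hτ1, map_smul, hα, smul_smul, inv_mul_cancel₀ hα0,
        one_smul]
    have h1 : ρ (g * τ * τ1) e1 = (α * β) • e1 := by
      rw [mul_apply', mul_apply', hτ11, hτ0, map_smul, hβ, smul_smul]
    rcases hstabe0 _ h0 with h2 | h2
    · left
      rw [h2, one_apply'] at h1
      exact (hinj1 _ _ (by rw [one_smul]; exact h1)).symm
    · right
      rw [h2, hk1'] at h1
      exact (hinj1 _ _ (by rw [neg_one_smul]; exact h1)).symm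
  refine ⟨e0, e1, he0, he1, hne0, hne1, ?_, hall'⟩
  intro g
  by_cases hg : g ∈ H
  · obtain ⟨α, β, hα, hβ⟩ := hdiag g hg
    obtain ⟨hα0, hs⟩ := hH g hg α β hα hβ
    refine ⟨α, α * β, hα0, hs, Or.inl ⟨hα, ?_⟩⟩
    rw [hβ, mul_comm α β, mul_assoc, mul_inv_cancel₀ hα0, mul_one]
  · obtain ⟨γ, δ, hγ, hδ⟩ := hanti g hg
    have hgH : g * τ1 ∈ H := h.mul_mem_of_not_mem hg hτ1H
    have h0 : ρ (g * τ1) e0 = δ • e0 := by rw [mul_apply', hτ10, hδ]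
    have h1 : ρ (g * τ1) e1 = γ • e1 := by rw [mul_apply', hτ11, hγ]
    obtain ⟨-, hs⟩ := hH _ hgH δ γ h0 h1
    have hγ0 : γ ≠ 0 := by
      rintro rfl
      rw [zero_smul] at hγ
      exact hne0 ((ρ g).map_eq_zero_iff.mp hγ)
    refine ⟨γ, δ * γ, hγ0, hs, Or.inr ⟨hγ, ?_⟩⟩
    rw [hδ, mul_assoc, mul_inv_cancel₀ hγ0, mul_one]

end Cfsg.Agent.Lib.Helper16.HTCOORDA
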