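/-
helper16: S3371 market "HT" (planner helper26, `notes/S3371_leaves.lean`), leaf HT-COORDB: coordinates with respect to the basis `e0, e1`.
-/
import Mathlib
import Cfsg.Prelude.Def_CaseTheorems
import Cfsg.Agent.Lib.Helper26.HTDefs

set_option autoImplicit false

namespace Cfsg.Agent.Lib.Helper16.HTCOORDB

open Subgroup Cfsg.Agent.Lib.Helper26.HT

variable {q : ℕ} [Fact q.Prime] {V : Type*} [AddCommGroup V] [Module (ZMod q) V]
  {G : Type*} [Group G]

/-- **HT-COORDB** coordinates: from the structure to the statement's third alternative. -/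
theorem coords_iff [Finite V] (ρ : G →* (V ≃ₗ[ZMod q] V))
    (W : Fin 2 → Submodule (ZMod q) V) (hV : Nat.card V = q ^ 2)
    (hdisj : ∀ w : V, w ∈ W 0 → w ∈ W 1 → w = 0)
    (e0 e1 : V) (he0 : e0 ∈ W 0) (he1 : e1 ∈ W 1) (hne0 : e0 ≠ 0) (hne1 : e1 ≠ 0)
    (hform : ∀ g : G, ∃ a s : ZMod q, a ≠ 0 ∧ (s = 1 ∨ s = -1) ∧
        ((ρ g e0 = a • e0 ∧ ρ g e1 = (s * a⁻¹) • e1) ∨
         (ρ g e0 = a • e1 ∧ ρ g e1 = (s * a⁻¹) • e0)))
    (hall : ∀ a s : ZMod q, a ≠ 0 → (s = 1 ∨ s = -1) →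
        (∃ g : G, ρ g e0 = a • e0 ∧ ρ g e1 = (s * a⁻¹) • e1) ∧
        (∃ g : G, ρ g e0 = a • e1 ∧ ρ g e1 = (s * a⁻¹) • e0)) :
    ∃ e : V ≃ₗ[ZMod q] (Fin 2 → ZMod q),
      ∀ f : (Fin 2 → ZMod q) ≃ₗ[ZMod q] (Fin 2 → ZMod q),
        (∃ g : G, f = e.symm.trans ((ρ g).trans e)) ↔
        ∃ a s : ZMod q, a ≠ 0 ∧ (s = 1 ∨ s = -1) ∧
          ((∀ v, f v = ![a * v 0, s * a⁻¹ * v 1]) ∨ (∀ v, f v = ![s * a⁻¹ * v 1, a * v 0])) := by
  classical
  have hq : q.Prime := Fact.out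
  -- the basis
  have hli : LinearIndependent (ZMod q) ![e0, e1] := by
    rw [LinearIndependent.pair_iff]
    intro s t hst
    have h1 : s • e0 = -(t • e1) := eq_neg_of_add_eq_zero_left hst
    have h2 : s • e0 = 0 :=
      hdisj _ ((W 0).smul_mem s he0) (h1 ▸ (W 1).neg_mem ((W 1).smul_mem t he1))
    have h3 : t • e1 = 0 := by
      rw [h2, zero_add] at hst
      exact hst
    exact ⟨(smul_eq_zero.mp h2).resolve_right hne0, (smul_eq_zero.mp h3).resolve_right hne1⟩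
  have hfr : Module.finrank (ZMod q) V = 2 := by
    have h1 := Module.natCard_eq_pow_finrank (K := ZMod q) (V := V)
    rw [hV, Nat.card_zmod] at h1
    exact (Nat.pow_right_injective hq.two_le h1).symm
  let b : Module.Basis (Fin 2) (ZMod q) V :=
    basisOfLinearIndependentOfCardEqFinrank hli (by rw [Fintype.card_fin, hfr])
  have hb : ⇑b = ![e0, e1] := coe_basisOfLinearIndependentOfCardEqFinrank hli _
  have hb0 : b 0 = e0 := by rw [hb]; rfl
  have hb1 : b 1 = e1 := by rw [hb]; rfl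
  let e : V ≃ₗ[ZMod q] (Fin 2 → ZMod q) := b.equivFun
  have hsymm : ∀ c : Fin 2 → ZMod q, e.symm c = c 0 • e0 + c 1 • e1 := by
    intro c
    show b.equivFun.symm c = _
    rw [Module.Basis.equivFun_symm_apply, Fin.sum_univ_two, hb0, hb1]
  have hcoord : ∀ α β : ZMod q, e (α • e0 + β • e1) = ![α, β] := by
    intro α β
    have h1 : α • e0 + β • e1 = e.symm ![α, β] := by
      rw [hsymm]
      simp
    rw [h1, LinearEquiv.apply_symm_apply]
  -- the two shapes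
  have hdiag : ∀ (g : G) (a c : ZMod q), ρ g e0 = a • e0 → ρ g e1 = c • e1 →
      ∀ v, (e.symm.trans ((ρ g).trans e)) v = ![a * v 0, c * v 1] := by
    intro g a c h0 h1 v
    show e (ρ g (e.symm v)) = _
    rw [hsymm, map_add, map_smul, map_smul, h0, h1, smul_smul, smul_smul, hcoord, mul_comm (v 0),
      mul_comm (v 1)]
  have hanti : ∀ (g : G) (a c : ZMod q), ρ g e0 = a • e1 → ρ g e1 = c • e0 →
      ∀ v, (e.symm.trans ((ρ g).trans e)) v = ![c * v 1, a * v 0] := by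
    intro g a c h0 h1 v
    show e (ρ g (e.symm v)) = _
    rw [hsymm, map_add, map_smul, map_smul, h0, h1, smul_smul, smul_smul, add_comm, hcoord,
      mul_comm (v 0), mul_comm (v 1)]
  refine ⟨e, fun f => ⟨?_, ?_⟩⟩
  · rintro ⟨g, rfl⟩
    obtain ⟨a, s, ha, hs, h | h⟩ := hform g
    · exact ⟨a, s, ha, hs, Or.inl (hdiag g a _ h.1 h.2)⟩
    · exact ⟨a, s, ha, hs, Or.inr (hanti g a _ h.1 h.2)⟩
  · rintro ⟨a, s, ha, hs, h | h⟩
    · obtain ⟨g, hg0, hg1⟩ := (hall a s ha hs).1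
      refine ⟨g, LinearEquiv.ext (fun v => ?_)⟩
      rw [h v, hdiag g a _ hg0 hg1 v]
    · obtain ⟨g, hg0, hg1⟩ := (hall a s ha hs).2
      refine ⟨g, LinearEquiv.ext (fun v => ?_)⟩
      rw [h v, hanti g a _ hg0 hg1 v]

end Cfsg.Agent.Lib.Helper16.HTCOORDB
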