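/-
helper16: S3371 market "HT" (planner helper26, `notes/S3371_leaves.lean`), leaf HT-S3370: apply S3370 to the image of `H` in `GL(W 0)`.
-/
import Mathlib
import Cfsg.Prelude.Def_CaseTheorems
import Cfsg.Agent.Lib.Helper26.HTDefs
import Cfsg.Agent.S3370

set_option autoImplicit false

namespace Cfsg.Agent.Lib.Helper16.HTS3370

open Subgroup Cfsg.Agent.Lib.Helper26.HT

variable {q : ℕ} [Fact q.Prime] {V : Type*} [AddCommGroup V] [Module (ZMod q) V]
  {G : Type*} [Group G]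

/-- the restriction of the action of `H` to an `H`-invariant subspace -/
noncomputable def resRep (ρ : G →* (V ≃ₗ[ZMod q] V)) (H : Subgroup G) (U : Submodule (ZMod q) V)
    (hinv : ∀ h ∈ H, ∀ w ∈ U, ρ h w ∈ U) : H →* (U ≃ₗ[ZMod q] U) where
  toFun h := LinearEquiv.ofLinear
    ((ρ (h : G) : V →ₗ[ZMod q] V).restrict (fun w hw => hinv h h.2 w hw))
    ((ρ ((h : G)⁻¹) : V →ₗ[ZMod q] V).restrict (fun w hw => hinv _ (H.inv_mem h.2) w hw))
    (by
      apply LinearMap.ext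
      intro w
      apply Subtype.ext
      simp only [LinearMap.coe_comp, Function.comp_apply, LinearMap.restrict_coe_apply,
        LinearEquiv.coe_coe, LinearMap.id_coe, id_eq]
      exact apply_inv_apply ρ (h : G) (w : V))
    (by
      apply LinearMap.ext
      intro w
      apply Subtype.ext
      simp only [LinearMap.coe_comp, Function.comp_apply, LinearMap.restrict_coe_apply,
        LinearEquiv.coe_coe, LinearMap.id_coe, id_eq]
      exact inv_apply_apply ρ (h : G) (w : V))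
  map_one' := by
    apply LinearEquiv.ext
    intro w
    apply Subtype.ext
    show ρ ((1 : H) : G) (w : V) = ((1 : U ≃ₗ[ZMod q] U) w : V)
    rw [Subgroup.coe_one, one_apply']
    rfl
  map_mul' := by
    intro a b
    apply LinearEquiv.ext
    intro w
    apply Subtype.ext
    show ρ ((a * b : H) : G) (w : V) = ρ (a : G) (ρ (b : G) (w : V))
    rw [Subgroup.coe_mul, mul_apply']

theorem resRep_apply (ρ : G →* (V ≃ₗ[ZMod q] V)) (H : Subgroup G) (U : Submodule (ZMod q) V)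
    (hinv : ∀ h ∈ H, ∀ w ∈ U, ρ h w ∈ U) (h : H) (w : U) :
    ((resRep ρ H U hinv h) w : V) = ρ (h : G) (w : V) := rfl

/-- **HT-S3370** apply S3370 to the image of `H` in `GL(W 0)`. -/
theorem card_W0 [Finite V] [Nontrivial V] [Finite G] (hG : IsPGroup 2 G) (hq2 : q ≠ 2)
    (ρ : G →* (V ≃ₗ[ZMod q] V))
    (H : Subgroup G) (W : Fin 2 → Submodule (ZMod q) V) (h : Imp2 ρ H W)
    (htr : ∀ w ∈ W 0, ∀ w' ∈ W 0, w ≠ 0 → w' ≠ 0 → ∃ g ∈ H, ρ g w = w') :
    (q = 3 ∧ Nat.card (W 0) = 9) ∨ (Nat.card (W 0) = q ∧ ∃ m : ℕ, q = 2 ^ m + 1) := by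
  classical
  have hq : q.Prime := Fact.out
  -- `W 0 ≠ ⊥`
  have hW0 : ∃ w ∈ W 0, w ≠ 0 := by
    by_contra hcon
    push Not at hcon
    obtain ⟨v, hv⟩ := exists_ne (0 : V)
    obtain ⟨w0, hw0, w1, hw1, hvw⟩ := h.decomp v
    obtain ⟨t, ht⟩ := h.exists_not_mem
    have ht' : t⁻¹ ∉ H := Imp2.inv_not_mem ht
    have h1 : ρ t⁻¹ w1 = 0 := hcon _ ((h.map_mem ht').2 w1 hw1)
    have h2 : w1 = 0 := by
      have := (ρ t⁻¹).map_eq_zero_iff.mp h1
      exact this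
    apply hv
    rw [hvw, hcon w0 hw0, h2, add_zero]
  obtain ⟨w, hwW, hw0⟩ := hW0
  have hinv : ∀ g ∈ H, ∀ u ∈ W 0, ρ g u ∈ W 0 := fun g hg u hu => h.inv g hg 0 u hu
  set ρ' := resRep ρ H (W 0) hinv with hρ'
  haveI : Finite (↥(W 0) ≃ₗ[ZMod q] ↥(W 0)) := DFunLike.finite _
  haveI : Nontrivial ↥(W 0) := ⟨⟨⟨w, hwW⟩, 0, fun he => hw0 (congrArg Subtype.val he)⟩⟩
  -- `-w ≠ w`
  have h2ne : (2 : ZMod q) ≠ 0 := by
    intro h20
    have h1 : ((2 : ℕ) : ZMod q) = 0 := by exact_mod_cast h20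
    rw [ZMod.natCast_eq_zero_iff] at h1
    have := (Nat.prime_dvd_prime_iff_eq hq Nat.prime_two).mp h1
    exact hq2 this
  have hneg : -w ≠ w := by
    intro he
    have h1 : (2 : ZMod q) • w = 0 := by
      rw [two_smul]
      nth_rewrite 1 [← he]
      exact neg_add_cancel w
    rcases smul_eq_zero.mp h1 with h3 | h3
    · exact h2ne h3
    · exact hw0 h3
  obtain ⟨g0, hg0H, hg0⟩ := htr w hwW (-w) ((W 0).neg_mem hwW) hw0 (neg_ne_zero.mpr hw0)
  haveI : Nontrivial ↥ρ'.range := by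
    refine ⟨⟨⟨ρ' ⟨g0, hg0H⟩, MonoidHom.mem_range.mpr ⟨_, rfl⟩⟩, 1, ?_⟩⟩
    intro he
    have h1 : ρ' ⟨g0, hg0H⟩ = 1 := congrArg Subtype.val he
    have h2 : ((ρ' ⟨g0, hg0H⟩) ⟨w, hwW⟩ : V) = w := by rw [h1]; rfl
    rw [hρ', resRep_apply] at h2
    exact hneg (hg0.symm.trans h2)
  have hG' : IsPGroup 2 ↥ρ'.range :=
    (hG.to_subgroup H).of_surjective ρ'.rangeRestrict ρ'.rangeRestrict_surjective
  have htrans : ∀ v u : ↥(W 0), v ≠ 0 → u ≠ 0 → ∃ g : ↥ρ'.range, (ρ'.range.subtype g) v = u := by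
    intro v u hv hu
    have hv' : (v : V) ≠ 0 := fun he => hv (Subtype.ext he)
    have hu' : (u : V) ≠ 0 := fun he => hu (Subtype.ext he)
    obtain ⟨g, hgH, hg⟩ := htr v v.2 u u.2 hv' hu'
    refine ⟨⟨ρ' ⟨g, hgH⟩, MonoidHom.mem_range.mpr ⟨_, rfl⟩⟩, ?_⟩
    apply Subtype.ext
    show ((ρ' ⟨g, hgH⟩) v : V) = u
    rw [hρ', resRep_apply]
    exact hg
  rcases Cfsg.Agent.S3370.result q (V := ↥(W 0)) (G := ↥ρ'.range) 2 hG' ρ'.range.subtype
    (Subgroup.subtype_injective _) htrans with h1 | h1 | h1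
  · exact absurd h1.1 hq2
  · obtain ⟨-, hc, ⟨m, hm, -⟩, -⟩ := h1
    exact Or.inr ⟨hc, m, hm⟩
  · obtain ⟨-, h3, hc, -⟩ := h1
    exact Or.inl ⟨h3, hc⟩

end Cfsg.Agent.Lib.Helper16.HTS3370
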