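/-
helper16: S3371 market "HT" (planner helper26, `notes/S3371_leaves.lean`), leaf HT-STAB2.
-/
import Mathlib
import Cfsg.Prelude.Def_CaseTheorems
import Cfsg.Agent.Lib.Helper26.HTDefs

set_option autoImplicit false

namespace Cfsg.Agent.Lib.Helper16.HTSTAB2

open Subgroup Cfsg.Agent.Lib.Helper26.HT

variable {q : ℕ} [Fact q.Prime] {V : Type*} [AddCommGroup V] [Module (ZMod q) V]
  {G : Type*} [Group G]

/-- **HT-STAB2** if a subgroup `C` of index 2 acts semiregularly and `G` does not, then all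
stabilizers of nonzero vectors have order 2. -/
theorem card_stab_eq_two [Finite G] (ρ : G →* (V ≃ₗ[ZMod q] V)) (hT : HalfT ρ)
    (hns : ¬ Semireg ρ) (C : Subgroup G) (hCi : C.index = 2)
    (hsub : ∀ v : V, v ≠ 0 → ∀ g ∈ C, ρ g v = v → g = 1) :
    ∀ v : V, v ≠ 0 → Nat.card {g : G // ρ g v = v} = 2 := by
  have hN : C.Normal := Subgroup.normal_of_index_eq_two hCi
  have hK : ∀ v : V, v ≠ 0 → Nat.card (stab ρ v) ∣ 2 := by
    intro v hv
    have h1 : C.relIndex (stab ρ v) ∣ C.index := Subgroup.relIndex_dvd_index_of_normal C (stab ρ v)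
    have h2 : C.subgroupOf (stab ρ v) = ⊥ := by
      rw [Subgroup.subgroupOf_eq_bot, Subgroup.disjoint_def]
      intro g hgC hgK
      exact hsub v hv g hgC hgK
    have h3 := Subgroup.index_mul_card (C.subgroupOf (stab ρ v))
    rw [h2, Subgroup.card_bot, mul_one] at h3
    rw [Subgroup.relIndex, h2, hCi] at h1
    rw [← h3]
    exact h1
  unfold Semireg at hns
  push Not at hns
  obtain ⟨v0, hv0, g0, hg0, hg01⟩ := hns
  have h0 : Nat.card (stab ρ v0) = 2 := by
    rcases (Nat.dvd_prime Nat.prime_two).mp (hK v0 hv0) with h | h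
    · exfalso
      have hbot : stab ρ v0 = ⊥ := Subgroup.card_eq_one.mp h
      have : g0 ∈ stab ρ v0 := hg0
      rw [hbot, Subgroup.mem_bot] at this
      exact hg01 this
    · exact h
  intro v hv
  have := hT v v0 hv hv0
  rw [h0] at this
  exact this

end Cfsg.Agent.Lib.Helper16.HTSTAB2
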