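/-
helper16: S3371 market "HT" (planner helper26, `notes/S3371_leaves.lean`), leaf HT-SUBSEMI.
-/
import Mathlib
import Cfsg.Prelude.Def_CaseTheorems
import Cfsg.Agent.Lib.Helper26.HTDefs

set_option autoImplicit false

namespace Cfsg.Agent.Lib.Helper16.HTSUBSEMI

open Subgroup Cfsg.Agent.Lib.Helper26.HT

variable {q : ℕ} [Fact q.Prime] {V : Type*} [AddCommGroup V] [Module (ZMod q) V]
  {G : Type*} [Group G]

/-- **HT-SUBSEMI** a subgroup all of whose involutions are central in `G` acts semiregularly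
(given that central involutions fix no nonzero vector, cf. HT-FPF). -/
theorem eq_one_of_mem_of_fix [Finite G] (hG : IsPGroup 2 G)
    (ρ : G →* (V ≃ₗ[ZMod q] V))
    (hfpf : ∀ z : G, z ∈ center G → orderOf z = 2 → ∀ v : V, ρ z v = v → v = 0)
    (C : Subgroup G) (hC : ∀ t ∈ C, orderOf t = 2 → t ∈ center G)
    (v : V) (hv : v ≠ 0) (g : G) (hg : g ∈ C) (hgv : ρ g v = v) : g = 1 := by
  by_contra hg1
  obtain ⟨k, hk⟩ := (IsPGroup.iff_orderOf.mp hG) g
  have hk0 : k ≠ 0 := by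
    rintro rfl
    rw [pow_zero, orderOf_eq_one_iff] at hk
    exact hg1 hk
  obtain ⟨j, rfl⟩ : ∃ j, k = j + 1 := ⟨k - 1, by omega⟩
  have ht : orderOf (g ^ 2 ^ j) = 2 := by
    rw [orderOf_pow_of_dvd (by positivity) (by rw [hk]; exact pow_dvd_pow 2 (Nat.le_succ j)), hk,
      pow_succ, Nat.mul_div_cancel_left _ (by positivity)]
  have htC : g ^ 2 ^ j ∈ C := C.pow_mem hg _
  have htv : ρ (g ^ 2 ^ j) v = v := (stab ρ v).pow_mem (show g ∈ stab ρ v from hgv) _
  exact hv (hfpf _ (hC _ htC ht) ht v htv)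

end Cfsg.Agent.Lib.Helper16.HTSUBSEMI
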