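/-
helper16: S4715 leaf (OC).  Two subsections `(z, e)`, `(z', e')` with `z' = g z g⁻¹` but `e'` not the
`g`-conjugate of `e` give orthogonal section functions.
-/
import Mathlib
import Cfsg.Agent.Lib.Helper6.HtBoundDefs
import Cfsg.Agent.Lib.Helper23.MajSubLI
import Cfsg.Agent.Lib.Helper6.StabIndex

set_option autoImplicit false
set_option linter.unusedSectionVars false
set_option linter.unusedVariables false

namespace Cfsg.Agent.Lib.Helper16.HtBoundOC

open Cfsg Cfsg.Agent.CharLib Cfsg.Agent.Lib.Helper24 Cfsg.Agent.Lib.Helper6 Cfsg.Agent.Lib.Helper23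
open Cfsg.Agent.Lib.Helper23.Subsec Cfsg.Agent.Lib.Helper27.MajSub
open Cfsg.Agent.Lib.Helper23.MajSubOM Cfsg.Agent.Lib.Helper23.MajSubH5
open Cfsg.Agent.Lib.Helper6.HtBound
open scoped ComplexConjugate

universe u w

variable {G : Type u} [Group G] [Fintype G] {M : Ideal AlgInt} {p : ℕ} [hpp : Fact p.Prime]

/-- Regular orthogonality of a block part with the transported block part of a disjoint block. -/
theorem sum_regular_blockPart_disjoint {X : Type u} [Group X] [Fintype X] (hM : IsPModular p M)
    (e₁ e₂ : Set (IrrCharacter X)) (he₁ : IsPBlock M e₁) (hdisj : ∀ ζ ∈ e₁, ζ ∉ e₂)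
    (θ₁ θ₂ : X → ℂ) :
    ∑ s : X, (if p ∣ orderOf s then 0 else blockPart e₁ θ₁ s * conj (blockPart e₂ θ₂ s)) = 0 := by
  classical
  let _ := fintypeIrr X
  have hb : ∀ (e : Set (IrrCharacter X)) (θ : X → ℂ) (s : X), blockPart e θ s =
      ∑ ζ : IrrCharacter X, (if ζ ∈ e then classInner θ (ζ : X → ℂ) else 0) * (ζ : X → ℂ) s := by
    intro e θ s
    rw [Cfsg.Agent.CharLib.blockPart_apply, finsum_mem_eq_sum_ite]
    apply Finset.sum_congr rfl
    intro ζ _
    by_cases hζ : ζ ∈ e
    · simp only [if_pos hζ]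
    · simp only [if_neg hζ, zero_mul]
  have hterm : ∀ s : X, (if p ∣ orderOf s then (0 : ℂ) else
      blockPart e₁ θ₁ s * conj (blockPart e₂ θ₂ s)) =
      ∑ ζ : IrrCharacter X, ∑ ζ' : IrrCharacter X,
        ((if ζ ∈ e₁ then classInner θ₁ (ζ : X → ℂ) else 0) *
          conj (if ζ' ∈ e₂ then classInner θ₂ (ζ' : X → ℂ) else 0)) *
        (if p ∣ orderOf s then 0 else (ζ : X → ℂ) s * conj ((ζ' : X → ℂ) s)) := by
    intro s
    by_cases hs : p ∣ orderOf s
    · simp only [if_pos hs, mul_zero, Finset.sum_const_zero]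
    · simp only [if_neg hs]
      rw [hb e₁ θ₁ s, hb e₂ θ₂ s, map_sum, Finset.sum_mul_sum]
      apply Finset.sum_congr rfl
      intro ζ _
      apply Finset.sum_congr rfl
      intro ζ' _
      rw [map_mul]
      ring
  rw [Finset.sum_congr rfl (fun s _ => hterm s), Finset.sum_comm]
  apply Finset.sum_eq_zero
  intro ζ _
  rw [Finset.sum_comm]
  apply Finset.sum_eq_zero
  intro ζ' _
  rw [← Finset.mul_sum]
  by_cases hζ : ζ ∈ e₁
  · by_cases hζ' : ζ' ∈ e₂
    · have hζ'1 : ζ' ∉ e₁ := fun h => hdisj ζ' h hζ'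
      rw [sum_regular_irr_eq_zero hM e₁ he₁ hζ hζ'1, mul_zero]
    · simp only [if_neg hζ', map_zero, mul_zero, zero_mul]
  · simp only [if_neg hζ, zero_mul]

theorem sum_secFun_conj_secFun_of_conj (hM : IsPModular p M) (z z' g : G)
    (hz : ∃ k : ℕ, orderOf z = p ^ k) (hzz' : z' = g * z * g⁻¹)
    (C C' : Subgroup G) [Fintype C] [Fintype C']
    (hC : C = Subgroup.centralizer ({z} : Set G)) (hC' : C' = Subgroup.centralizer ({z'} : Set G))
    (e : Set (IrrCharacter C)) (he : IsPBlock M e) (e' : Set (IrrCharacter C'))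
    (he' : IsPBlock M e') (hne : ¬ BlockConjTo g e e') (χ : IrrCharacter G) :
    ∑ x : G, secFun p z C (decFun C e z χ) x * conj (secFun p z' C' (decFun C' e' z' χ) x) = 0 := by
  classical
  have hprime : M.IsPrime := isPrime_of_isPModular hM
  -- the conjugation isomorphism `C ≃* C'`
  have hmem : ∀ x : G, x ∈ C ↔ g * x * g⁻¹ ∈ C' := by
    intro x
    rw [hC, hC', Subgroup.mem_centralizer_singleton_iff, Subgroup.mem_centralizer_singleton_iff, hzz']
    constructor
    · intro h
      have e1 : g * x * g⁻¹ * (g * z * g⁻¹) = g * (x * z) * g⁻¹ := by group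
      have e2 : g * z * g⁻¹ * (g * x * g⁻¹) = g * (z * x) * g⁻¹ := by group
      rw [e1, e2, h]
    · intro h
      have e1 : x * z = g⁻¹ * (g * x * g⁻¹ * (g * z * g⁻¹)) * g := by group
      have e2 : z * x = g⁻¹ * (g * z * g⁻¹ * (g * x * g⁻¹)) * g := by group
      rw [e1, e2, h]
  set κ : C ≃* C' := cjX g C C' hmem with hκ
  -- the `g`-conjugate of `e`, a block of `C'`
  set eg : Set (IrrCharacter C') := BlockIso.pullBlock κ.symm e with heg
  have hegB : IsPBlock M eg := BlockIso.isPBlock_pullBlock κ.symm he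
  -- `eg` and `e'` are disjoint
  have hdisj : ∀ ζ' ∈ e', ζ' ∉ eg := by
    intro ζ' hζ' hζ'g
    have heq : e' = eg := isPBlock_eq_of_mem he' hegB hζ' hζ'g
    apply hne
    intro ζ hζ
    refine ⟨irrCompIso κ.symm ζ, ?_, ?_⟩
    · rw [heq]
      exact BlockIso.irrCompIso_mem_pullBlock κ.symm hζ
    · intro c c' hcc'
      rw [irrCompIso_apply]
      have hcc : κ.symm c' = c := by
        apply Subtype.ext
        rw [hκ, cjX_symm_coe, hcc']
        group
      rw [hcc]
  -- the two class functions
  set F : C → ℂ := decFun C e z χ with hF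
  set F' : C' → ℂ := decFun C' e' z' χ with hF'
  have hFcl : IsClassFunction C F := blockPart_isClassFunction _ _
  set A : G → ℂ := secFun p z C F with hA
  have hAcl : IsClassFunction G A := secFun_isClassFunction z C F
  have hΦ : IsClassFunction G (fun x => conj (A x)) := by
    intro x h
    show conj (A (h * x * h⁻¹)) = conj (A x)
    rw [hAcl x h]
  -- swap the two factors by conjugating
  have hswap : ∑ x : G, A x * conj (secFun p z' C' F' x) =
      conj (∑ x : G, secFun p z' C' F' x * conj (A x)) := by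
    rw [map_sum]
    apply Finset.sum_congr rfl
    intro x _
    rw [map_mul, Complex.conj_conj, mul_comm]
  rw [hswap, sum_secFun_mul z' C' F' (fun x => conj (A x)) hΦ]
  -- values of `A` on the section of `z'`
  have hval : ∀ s' : C', ¬ p ∣ orderOf s' → A (z' * (s' : G)) = F (κ.symm s') := by
    intro s' hs'
    have hord : ¬ p ∣ orderOf (κ.symm s') := by
      rw [MulEquiv.orderOf_eq]
      exact hs'
    have h1 := secFun_eq_of_conj (p := p) z hz C hC F hFcl g (κ.symm s') hord
    have h2 : g * (z * ((κ.symm s' : C) : G)) * g⁻¹ = z' * (s' : G) := by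
      rw [hκ, cjX_symm_coe, hzz']
      group
    rw [h2] at h1
    exact h1
  -- `F ∘ κ.symm` is the block part for `eg` of the transported function
  have hsum0 : ∑ s' : C', (if p ∣ orderOf s' then (0 : ℂ) else
      F' s' * conj (A (z' * (s' : G)))) = 0 := by
    have hFκ : ∀ s' : C', F (κ.symm s') =
        blockPart eg (fun c' : C' => (χ : G → ℂ) (z * ((κ.symm c' : C) : G))) s' := by
      intro s'
      let _ := fintypeIrr C
      let _ := fintypeIrr C'
      rw [hF]
      unfold decFun
      rw [Cfsg.Agent.CharLib.blockPart_apply, Cfsg.Agent.CharLib.blockPart_apply,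
        finsum_mem_eq_sum_ite, finsum_mem_eq_sum_ite]
      -- reindex along `ζ ↦ irrCompIso κ.symm ζ`
      let E : IrrCharacter C ≃ IrrCharacter C' :=
        { toFun := fun ζ => irrCompIso κ.symm ζ
          invFun := fun ζ' => irrCompIso κ ζ'
          left_inv := fun ζ => by
            have := BlockIso.irrCompIso_irrCompIso_symm κ ζ
            exact this
          right_inv := fun ζ' => by
            have := BlockIso.irrCompIso_symm_irrCompIso κ ζ'
            exact this }
      rw [← Equiv.sum_comp E]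
      apply Finset.sum_congr rfl
      intro ζ _
      have hmemiff : (E ζ ∈ eg) ↔ ζ ∈ e := by
        show irrCompIso κ.symm ζ ∈ BlockIso.pullBlock κ.symm e ↔ ζ ∈ e
        rw [BlockIso.mem_pullBlock_iff]
        have : irrCompIso κ.symm.symm (irrCompIso κ.symm ζ) = ζ := by
          have := BlockIso.irrCompIso_symm_irrCompIso κ.symm ζ
          exact this
        rw [this]
      by_cases hζ : ζ ∈ e
      · rw [if_pos hζ, if_pos (hmemiff.mpr hζ)]
        have hval2 : ((E ζ : IrrCharacter C') : C' → ℂ) s' = (ζ : C → ℂ) (κ.symm s') := rfl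
        rw [hval2]
        congr 1
        -- the inner products agree
        unfold classInner
        rw [Nat.card_congr κ.toEquiv]
        congr 1
        rw [← Equiv.sum_comp κ.toEquiv]
        apply Finset.sum_congr rfl
        intro c _
        show _ = (χ : G → ℂ) (z * ((κ.symm (κ c) : C) : G)) *
          conj (((E ζ : IrrCharacter C') : C' → ℂ) (κ c))
        have : ((E ζ : IrrCharacter C') : C' → ℂ) (κ c) = (ζ : C → ℂ) c := by
          show (ζ : C → ℂ) (κ.symm (κ c)) = (ζ : C → ℂ) c
          rw [MulEquiv.symm_apply_apply]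
        rw [this, MulEquiv.symm_apply_apply]
      · rw [if_neg hζ, if_neg (fun h => hζ (hmemiff.mp h))]
    have hrew : ∀ s' : C', (if p ∣ orderOf s' then (0 : ℂ) else
        F' s' * conj (A (z' * (s' : G)))) =
        (if p ∣ orderOf s' then (0 : ℂ) else
          blockPart e' (fun c : C' => (χ : G → ℂ) (z' * (c : G))) s' *
          conj (blockPart eg (fun c' : C' => (χ : G → ℂ) (z * ((κ.symm c' : C) : G))) s')) := by
      intro s'
      by_cases hs' : p ∣ orderOf s'
      · simp only [if_pos hs']
      · simp only [if_neg hs']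
        rw [hval s' hs', hFκ s']
        rfl
    rw [Finset.sum_congr rfl (fun s' _ => hrew s')]
    exact sum_regular_blockPart_disjoint hM e' eg he' hdisj _ _
  have hfun : (∑ s : C', if p ∣ orderOf s then (0 : ℂ) else
      F' s * (fun x => conj (A x)) (z' * (s : G))) = 0 := hsum0
  rw [hfun, mul_zero, mul_zero, map_zero]

end Cfsg.Agent.Lib.Helper16.HtBoundOC
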