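/-
helper16: S4715 leaf (ON).  The section functions of two non-conjugate `p`-elements have disjoint
supports (uniqueness of `p`-parts), hence are orthogonal.
-/
import Mathlib
import Cfsg.Agent.Lib.Helper6.HtBoundDefs
import Cfsg.Agent.Lib.Helper23.MajSubLI
import Cfsg.Agent.Lib.Helper6.StabIndex

set_option autoImplicit false
set_option linter.unusedSectionVars false
set_option linter.unusedVariables false

namespace Cfsg.Agent.Lib.Helper16.HtBoundON

open Cfsg Cfsg.Agent.CharLib Cfsg.Agent.Lib.Helper24 Cfsg.Agent.Lib.Helper6 Cfsg.Agent.Lib.Helper23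
open Cfsg.Agent.Lib.Helper23.Subsec Cfsg.Agent.Lib.Helper27.MajSub
open Cfsg.Agent.Lib.Helper23.MajSubOM Cfsg.Agent.Lib.Helper23.MajSubH5
open Cfsg.Agent.Lib.Helper6.HtBound
open scoped ComplexConjugate

universe u w

variable {G : Type u} [Group G] [Fintype G] {M : Ideal AlgInt} {p : ℕ} [hpp : Fact p.Prime]

/-- The `p`-part of an element `a (z s) a⁻¹` of the `p`-section of `z` is `a z a⁻¹`. -/
theorem isPPart_section (z : G) (hz : ∃ k : ℕ, orderOf z = p ^ k) (C : Subgroup G)
    (hC : C = Subgroup.centralizer ({z} : Set G)) (a : G) (s : C) (hs : ¬ p ∣ orderOf s) :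
    IsPPart p (a * (z * (s : G)) * a⁻¹) (a * z * a⁻¹) := by
  have hsz : (s : G) * z = z * (s : G) := by
    have hcomm : ∀ c : G, c ∈ C → c * z = z * c := by
      intro c hc
      rw [hC, Subgroup.mem_centralizer_singleton_iff] at hc
      exact hc
    exact hcomm _ s.2
  refine ⟨a * (s : G) * a⁻¹, by group, ?_, ?_, ?_⟩
  · show (a * z * a⁻¹) * (a * (s : G) * a⁻¹) = (a * (s : G) * a⁻¹) * (a * z * a⁻¹)
    have e1 : (a * z * a⁻¹) * (a * (s : G) * a⁻¹) = a * (z * (s : G)) * a⁻¹ := by group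
    have e2 : (a * (s : G) * a⁻¹) * (a * z * a⁻¹) = a * ((s : G) * z) * a⁻¹ := by group
    rw [e1, e2, hsz]
  · obtain ⟨k, hk⟩ := hz
    refine ⟨k, ?_⟩
    have := orderOf_injective (MulAut.conj a).toMonoidHom (MulAut.conj a).injective z
    simp only [MulEquiv.coe_toMonoidHom, MulAut.conj_apply] at this
    rw [this, hk]
  · have := orderOf_injective (MulAut.conj a).toMonoidHom (MulAut.conj a).injective (s : G)
    simp only [MulEquiv.coe_toMonoidHom, MulAut.conj_apply] at this
    rw [this, Subgroup.orderOf_coe]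
    exact hs

theorem sum_secFun_conj_secFun_of_not_conj (z z' : G) (hz : ∃ k : ℕ, orderOf z = p ^ k)
    (hz' : ∃ k : ℕ, orderOf z' = p ^ k) (C C' : Subgroup G) [Fintype C] [Fintype C']
    (hC : C = Subgroup.centralizer ({z} : Set G)) (hC' : C' = Subgroup.centralizer ({z'} : Set G))
    (F : C → ℂ) (F' : C' → ℂ) (hne : ∀ g : G, z' ≠ g * z * g⁻¹) :
    ∑ x : G, secFun p z C F x * conj (secFun p z' C' F' x) = 0 := by
  classical
  apply Finset.sum_eq_zero
  intro x _
  by_cases h1 : ∃ a : G, ∃ s : C, ¬ p ∣ orderOf s ∧ x = a * (z * (s : G)) * a⁻¹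
  · by_cases h2 : ∃ a' : G, ∃ s' : C', ¬ p ∣ orderOf s' ∧ x = a' * (z' * (s' : G)) * a'⁻¹
    · exfalso
      obtain ⟨a, s, hs, hx⟩ := h1
      obtain ⟨a', s', hs', hx'⟩ := h2
      have hP1 : IsPPart p x (a * z * a⁻¹) := by
        rw [hx]
        exact isPPart_section z hz C hC a s hs
      have hP2 : IsPPart p x (a' * z' * a'⁻¹) := by
        rw [hx']
        exact isPPart_section z' hz' C' hC' a' s' hs'
      have h3 : a * z * a⁻¹ = a' * z' * a'⁻¹ := isPPart_unique hP1 hP2
      apply hne (a'⁻¹ * a)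
      have h4 : z' = a'⁻¹ * (a' * z' * a'⁻¹) * a' := by group
      rw [h4, ← h3]
      group
    · rw [secFun_eq_zero z' C' F' x h2, map_zero, mul_zero]
  · rw [secFun_eq_zero z C F x h1, zero_mul]

end Cfsg.Agent.Lib.Helper16.HtBoundON
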