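/-
helper16: S3928 leaf J `card_le_bd2` (planner helper25, notes/S3928_leaves.lean): Schur twice.
-/
import Cfsg.Agent.Lib.Helper25.InvAutDefs

set_option autoImplicit false

namespace Cfsg.Agent.Lib.Helper16.IAJ

open Cfsg.Agent.Lib.Helper25.InvAut
open scoped commutatorElement

theorem abOf_surjective {L : Type*} [Group L] :
    Function.Surjective (Abelianization.of : L → Abelianization L) :=
  QuotientGroup.mk_surjective

/-- the number of commutators is at most `|L : Z(L)| ^ 2` -/
theorem card_commutatorSet_le {L : Type*} [Group L] [Finite L] :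
    Nat.card (commutatorSet L) ≤ (Subgroup.center L).index ^ 2 := by
  classical
  have hsurj : Function.Surjective
      (fun xy : (L ⧸ Subgroup.center L) × (L ⧸ Subgroup.center L) =>
        (⟨⁅xy.1.out, xy.2.out⁆, ⟨_, _, rfl⟩⟩ : commutatorSet L)) := by
    rintro ⟨c, g, h, rfl⟩
    refine ⟨((g : L ⧸ Subgroup.center L), (h : L ⧸ Subgroup.center L)), ?_⟩
    apply Subtype.ext
    show ⁅(g : L ⧸ Subgroup.center L).out, (h : L ⧸ Subgroup.center L).out⁆ = ⁅g, h⁆
    obtain ⟨z, hz⟩ : ∃ z : L, z ∈ Subgroup.center L ∧ (g : L ⧸ Subgroup.center L).out = g * z := by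
      have := QuotientGroup.mk_out_eq_mul (Subgroup.center L) g
      obtain ⟨z, hz⟩ := this
      exact ⟨z, z.2, hz⟩
    obtain ⟨w, hw⟩ : ∃ w : L, w ∈ Subgroup.center L ∧ (h : L ⧸ Subgroup.center L).out = h * w := by
      have := QuotientGroup.mk_out_eq_mul (Subgroup.center L) h
      obtain ⟨w, hw⟩ := this
      exact ⟨w, w.2, hw⟩
    rw [hz.2, hw.2]
    have hzc := Subgroup.mem_center_iff.mp hz.1
    have hwc := Subgroup.mem_center_iff.mp hw.1
    simp only [commutatorElement_def, mul_inv_rev]
    calc g * z * (h * w) * (z⁻¹ * g⁻¹) * (w⁻¹ * h⁻¹)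
        = g * (z * (h * w) * z⁻¹) * g⁻¹ * (w⁻¹ * h⁻¹) := by group
      _ = g * (h * w) * g⁻¹ * (w⁻¹ * h⁻¹) := by rw [← hzc (h * w)]; group
      _ = g * h * (w * (g⁻¹ * w⁻¹)) * h⁻¹ := by group
      _ = g * h * g⁻¹ * h⁻¹ := by rw [← hwc (g⁻¹ * w⁻¹)]; group
  have := Nat.card_le_card_of_surjective _ hsurj
  rw [Nat.card_prod, ← Subgroup.index_eq_card] at this
  rw [sq]; exact this

/-- Step 1: a finite group generated by at most `m` elements of order at most `m`. -/
theorem card_le_schurB_mul {L : Type*} [Group L] [Finite L] (S : Finset L)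
    (hS : Subgroup.closure (S : Set L) = ⊤) (m : ℕ) (hm : S.card ≤ m)
    (hord : ∀ s ∈ S, orderOf s ≤ m) :
    Nat.card L ≤ schurB (Subgroup.center L).index * m.factorial ^ m := by
  classical
  obtain ⟨n, hn⟩ : ∃ n, n = (Subgroup.center L).index := ⟨_, rfl⟩
  rw [← hn]
  have hn0 : 0 < n := by rw [hn]; exact Nat.pos_of_ne_zero (Subgroup.index_ne_zero_of_finite)
  -- the commutator subgroup
  have h1 : Nat.card (commutator L) ≤ schurB n := by
    have hd := Subgroup.card_commutator_dvd_index_center_pow L
    rw [← hn] at hd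
    have hle := Nat.le_of_dvd (pow_pos hn0 _) hd
    refine hle.trans ?_
    unfold schurB
    apply Nat.pow_le_pow_right hn0
    have := card_commutatorSet_le (L := L)
    rw [← hn] at this
    have : n * Nat.card (commutatorSet L) ≤ n * n ^ 2 := Nat.mul_le_mul_left _ this
    omega
  -- the abelianization
  have h2 : Nat.card (Abelianization L) ≤ m.factorial ^ m := by
    have hexp : ∀ g : Abelianization L, g ^ m.factorial = 1 := by
      intro g
      have hgen : Subgroup.closure ((Abelianization.of : L →* Abelianization L) '' (S : Set L)) = ⊤ := by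
        rw [← MonoidHom.map_closure, hS, ← MonoidHom.range_eq_map,
          MonoidHom.range_eq_top.mpr abOf_surjective]
      have hg : g ∈ Subgroup.closure ((Abelianization.of : L →* Abelianization L) '' (S : Set L)) := by
        rw [hgen]; trivial
      refine Subgroup.closure_induction (p := fun x _ => x ^ m.factorial = 1) ?_ ?_ ?_ ?_ hg
      · rintro x ⟨s, hs, rfl⟩
        rw [← map_pow]
        have hdvd : orderOf s ∣ m.factorial :=
          Nat.dvd_factorial (orderOf_pos s) (hord s hs)
        rw [orderOf_dvd_iff_pow_eq_one.mp hdvd, map_one]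
      · exact one_pow _
      · intro x y _ _ hx hy
        rw [mul_pow, hx, hy, one_mul]
      · intro x _ hx
        rw [inv_pow, hx, inv_one]
    have hd := card_dvd_exponent_pow_rank' (Abelianization L) hexp
    have hrank : Group.rank (Abelianization L) ≤ m := by
      have hgen : Subgroup.closure ((S.image (Abelianization.of : L →* Abelianization L) :
          Finset (Abelianization L)) : Set (Abelianization L)) = ⊤ := by
        rw [Finset.coe_image, ← MonoidHom.map_closure, hS, ← MonoidHom.range_eq_map,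
          MonoidHom.range_eq_top.mpr abOf_surjective]
      exact (Group.rank_le hgen).trans (Finset.card_image_le.trans hm)
    have hpos : 0 < m.factorial := Nat.factorial_pos m
    exact (Nat.le_of_dvd (pow_pos hpos _) hd).trans (Nat.pow_le_pow_right hpos hrank)
  have h3 : Nat.card L = Nat.card (commutator L) * Nat.card (Abelianization L) := by
    rw [← (commutator L).card_mul_index, Subgroup.index_eq_card]
    rfl
  rw [h3]
  exact Nat.mul_le_mul h1 h2

/-- LEAF J (Schur twice). -/
theorem card_le_bd2 {K : Type*} [Group K] [Finite K] (S : Finset K)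
    (hS : Subgroup.closure (S : Set K) = ⊤) (m : ℕ) (hm : S.card ≤ m)
    (hord : ∀ s ∈ S, orderOf s ≤ m) (N₀ : Subgroup K) [N₀.Normal]
    (hN : ∀ n ∈ N₀, ∀ g : K, n * g * n⁻¹ * g⁻¹ ∈ Subgroup.center K) (B : ℕ)
    (hB : N₀.index ≤ B) :
    Nat.card K ≤ bd2 m B := by
  classical
  set Z := Subgroup.center K with hZ
  set π : K →* K ⧸ Z := QuotientGroup.mk' Z with hπ
  have hπs : Function.Surjective π := QuotientGroup.mk'_surjective Z
  -- step 2: the quotient by the centre
  have hgenQ : Subgroup.closure ((S.image π : Finset (K ⧸ Z)) : Set (K ⧸ Z)) = ⊤ := by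
    rw [Finset.coe_image, ← MonoidHom.map_closure, hS, ← MonoidHom.range_eq_map,
      MonoidHom.range_eq_top.mpr hπs]
  have hordQ : ∀ s ∈ S.image π, orderOf s ≤ m := by
    intro s hs
    obtain ⟨s₀, hs₀, rfl⟩ := Finset.mem_image.mp hs
    exact (Nat.le_of_dvd (orderOf_pos s₀) (orderOf_map_dvd π s₀)).trans (hord s₀ hs₀)
  have hQ := card_le_schurB_mul (S.image π) hgenQ m (Finset.card_image_le.trans hm) hordQ
  have hcen : N₀.map π ≤ Subgroup.center (K ⧸ Z) := by
    rintro _ ⟨n, hn, rfl⟩
    rw [Subgroup.mem_center_iff]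
    intro y
    obtain ⟨g, rfl⟩ := hπs y
    have h1 := hN n hn g
    have h2 : π (n * g * n⁻¹ * g⁻¹) = 1 := (QuotientGroup.eq_one_iff _).mpr h1
    rw [map_mul, map_mul, map_mul, map_inv, map_inv] at h2
    have h3 : π n * π g = π g * π n := by
      have := congrArg (fun x => x * (π g * π n)) h2
      simpa [mul_assoc] using this
    exact h3.symm
  have hidx : (Subgroup.center (K ⧸ Z)).index ≤ B := by
    have h1 : (Subgroup.center (K ⧸ Z)).index ∣ (N₀.map π).index := Subgroup.index_dvd_of_le hcen
    have h2 : (N₀.map π).index ∣ N₀.index := Subgroup.index_map_dvd N₀ hπs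
    have h3 : 0 < N₀.index := Nat.pos_of_ne_zero Subgroup.index_ne_zero_of_finite
    exact (Nat.le_of_dvd h3 (h1.trans h2)).trans hB
  have hQ' : Z.index ≤ schurB B * m.factorial ^ m := by
    rw [Subgroup.index_eq_card]
    exact hQ.trans (Nat.mul_le_mul_right _ (schurB_mono hidx))
  -- step 3
  have hK := card_le_schurB_mul S hS m hm hord
  unfold bd2
  exact hK.trans (Nat.mul_le_mul_right _ (schurB_mono hQ'))

end Cfsg.Agent.Lib.Helper16.IAJ
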