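/-
helper16: S3928 leaf K `card_le_of_almost_central` (planner helper25, notes/S3928_leaves.lean):
glue in `G₀ = closure (JJ a)` (normal of index at most 2), then leaf J.
-/
import Cfsg.Agent.Lib.Helper16.IAJ

set_option autoImplicit false

namespace Cfsg.Agent.Lib.Helper16.IAK

open Cfsg.Agent.Lib.Helper25.InvAut

variable {H : Type*} [Group H]

theorem inv_mem_JJ {a x : H} (hx : x ∈ JJ a) : x⁻¹ ∈ JJ a := by
  refine ⟨by rw [orderOf_inv]; exact hx.1, ?_⟩
  rw [inv_inv]
  have := hx.2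
  calc a * x⁻¹ * a⁻¹ = (a * x * a⁻¹)⁻¹ := by group
    _ = x := by rw [this, inv_inv]

theorem pow_mem_JJ {a x : H} (hx : x ∈ JJ a) (k : ℕ) : x ^ k ∈ JJ a := by
  refine ⟨?_, ?_⟩
  · exact Odd.of_dvd_nat hx.1 (orderOf_pow_dvd k)
  · have h2 := hx.2
    calc a * x ^ k * a⁻¹ = (a * x * a⁻¹) ^ k := by rw [conj_pow]
      _ = (x ^ k)⁻¹ := by rw [h2, inv_pow]

theorem orderOf_le_card_JJ [Finite H] {a x : H} (hx : x ∈ JJ a) :
    orderOf x ≤ Nat.card (JJ a) := by
  classical
  rw [← Nat.card_zpowers]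
  have hsub : ((Subgroup.zpowers x : Subgroup H) : Set H) ⊆ JJ a := by
    intro y hy
    obtain ⟨k, rfl⟩ := (mem_powers_iff_mem_zpowers (x := x)).mpr hy
    exact pow_mem_JJ hx k
  exact Nat.card_mono (Set.toFinite _) hsub

/-- conjugation by `a` maps `JJ a` into itself -/
theorem conj_mem_JJ {a x : H} (hx : x ∈ JJ a) : a * x * a⁻¹ ∈ JJ a := by
  rw [hx.2]; exact inv_mem_JJ hx

/-- `[n, g] ∈ P` for all `n ∈ N`, `g : H`. -/
theorem comm_mem_of_pair {a : H} (h : IsPair a) (N P : Subgroup H) [N.Normal] [P.Normal]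
    (hNa : ∀ n ∈ N, n * a * n⁻¹ * a⁻¹ ∈ P) :
    ∀ g : H, ∀ n ∈ N, n * g * n⁻¹ * g⁻¹ ∈ P := by
  let T : Subgroup H :=
    { carrier := {g | ∀ n ∈ N, n * g * n⁻¹ * g⁻¹ ∈ P}
      one_mem' := by
        intro n _
        simp
      mul_mem' := by
        intro g g' hg hg' n hn
        have h1 := hg n hn
        have h2 := hg' n hn
        have h3 : g * (n * g' * n⁻¹ * g'⁻¹) * g⁻¹ ∈ P :=
          (inferInstance : P.Normal).conj_mem _ h2 g
        have : n * (g * g') * n⁻¹ * (g * g')⁻¹ =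
            (n * g * n⁻¹ * g⁻¹) * (g * (n * g' * n⁻¹ * g'⁻¹) * g⁻¹) := by group
        rw [this]
        exact P.mul_mem h1 h3
      inv_mem' := by
        intro g hg n hn
        have h1 := P.inv_mem (hg n hn)
        have h3 : g⁻¹ * (n * g * n⁻¹ * g⁻¹)⁻¹ * g⁻¹⁻¹ ∈ P :=
          (inferInstance : P.Normal).conj_mem _ h1 g⁻¹
        have : n * g⁻¹ * n⁻¹ * g⁻¹⁻¹ = g⁻¹ * (n * g * n⁻¹ * g⁻¹)⁻¹ * g⁻¹⁻¹ := by group
        rw [this]
        exact h3 }
  have hTn : T.Normal := by
    refine ⟨fun g hg k n hn => ?_⟩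
    have hn' : k⁻¹ * n * k ∈ N := by
      have := (inferInstance : N.Normal).conj_mem n hn k⁻¹
      simpa using this
    have h1 := hg _ hn'
    have h2 : k * ((k⁻¹ * n * k) * g * (k⁻¹ * n * k)⁻¹ * g⁻¹) * k⁻¹ ∈ P :=
      (inferInstance : P.Normal).conj_mem _ h1 k
    have : n * (k * g * k⁻¹) * n⁻¹ * (k * g * k⁻¹)⁻¹ =
        k * ((k⁻¹ * n * k) * g * (k⁻¹ * n * k)⁻¹ * g⁻¹) * k⁻¹ := by group
    rw [this]
    exact h2
  have hT : T = ⊤ := by
    rw [eq_top_iff, ← h.gen]
    apply Subgroup.normalClosure_le_normal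
    · intro x hx
      rw [Set.mem_singleton_iff] at hx
      subst hx
      intro n hn
      exact hNa n hn
    -- normality of T
  intro g
  have : g ∈ T := by rw [hT]; trivial
  exact this

/-- `G₀ = closure (JJ a)` has index at most `2` when `H = ⟨a, JJ a⟩`, `a * a = 1`. -/
theorem card_le_two_mul_card_closure [Finite H] {a : H} (ha : a * a = 1)
    (hgen : Subgroup.closure (insert a (JJ a)) = ⊤) :
    Nat.card H ≤ 2 * Nat.card (Subgroup.closure (JJ a)) := by
  classical
  set G₀ := Subgroup.closure (JJ a) with hG₀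
  -- `a` normalizes `G₀`
  have hconj : ∀ g ∈ G₀, a * g * a⁻¹ ∈ G₀ := by
    intro g hg
    have : G₀.map (MulAut.conj a).toMonoidHom ≤ G₀ := by
      rw [hG₀, MonoidHom.map_closure, Subgroup.closure_le]
      rintro _ ⟨x, hx, rfl⟩
      exact Subgroup.subset_closure (conj_mem_JJ hx)
    exact this ⟨g, hg, rfl⟩
  have hainv : a⁻¹ = a := inv_eq_of_mul_eq_one_right ha
  -- `G₀ ⊔ zpowers a = ⊤`
  have hsup : G₀ ⊔ Subgroup.zpowers a = ⊤ := by
    rw [eq_top_iff, ← hgen, Subgroup.closure_le]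
    intro x hx
    rcases Set.mem_insert_iff.mp hx with rfl | hx
    · exact (le_sup_right : Subgroup.zpowers x ≤ G₀ ⊔ Subgroup.zpowers x)
        (Subgroup.mem_zpowers x)
    · exact (le_sup_left : G₀ ≤ G₀ ⊔ Subgroup.zpowers a) (Subgroup.subset_closure hx)
  -- `zpowers a` normalizes `G₀`
  have hnorm : Subgroup.zpowers a ≤ Subgroup.normalizer (G₀ : Set H) := by
    rw [Subgroup.zpowers_le]
    rw [Subgroup.mem_normalizer_iff]
    intro g
    constructor
    · intro hg; exact hconj g hg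
    · intro hg
      have := hconj _ hg
      rw [hainv] at this hg
      have e : a * (a * g * a) * a = g := by
        calc a * (a * g * a) * a = (a * a) * g * (a * a) := by group
          _ = g := by rw [ha]; group
      rwa [e] at this
  have hN : G₀.Normal := by
    rw [← Subgroup.normalizer_eq_top_iff, eq_top_iff, ← hsup]
    exact sup_le Subgroup.le_normalizer hnorm
  -- the quotient is generated by the image of `a`
  set π : H →* H ⧸ G₀ := QuotientGroup.mk' G₀ with hπ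
  have hπs : Function.Surjective π := QuotientGroup.mk'_surjective G₀
  have htop : (⊤ : Subgroup (H ⧸ G₀)) ≤ Subgroup.zpowers (π a) := by
    have h1 : (⊤ : Subgroup (H ⧸ G₀)) = Subgroup.map π (Subgroup.closure (insert a (JJ a))) := by
      rw [hgen, ← MonoidHom.range_eq_map, MonoidHom.range_eq_top.mpr hπs]
    rw [h1, MonoidHom.map_closure, Subgroup.closure_le]
    rintro _ ⟨x, hx, rfl⟩
    rcases Set.mem_insert_iff.mp hx with rfl | hx
    · exact Subgroup.mem_zpowers _
    · have : π x = 1 := (QuotientGroup.eq_one_iff x).mpr (Subgroup.subset_closure hx)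
      rw [this]; exact Subgroup.one_mem _
  have hq : Nat.card (H ⧸ G₀) ≤ 2 := by
    have h1 : Nat.card (H ⧸ G₀) = Nat.card (⊤ : Subgroup (H ⧸ G₀)) := Subgroup.card_top.symm
    have h2 : Nat.card (⊤ : Subgroup (H ⧸ G₀)) ≤ Nat.card (Subgroup.zpowers (π a)) :=
      Nat.le_of_dvd Nat.card_pos (Subgroup.card_dvd_of_le htop)
    have h3 : orderOf (π a) ≤ 2 := by
      apply Nat.le_of_dvd (by norm_num)
      apply orderOf_dvd_of_pow_eq_one
      rw [sq, ← map_mul, ha, map_one]
    rw [h1]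
    exact h2.trans ((Nat.card_zpowers (π a)).le.trans h3)
  have hidx : Nat.card H = Nat.card G₀ * Nat.card (H ⧸ G₀) := by
    rw [← G₀.card_mul_index, Subgroup.index_eq_card]
  rw [hidx, mul_comm]
  exact Nat.mul_le_mul_right _ hq

/-- LEAF K (glue). -/
theorem card_le_of_almost_central {H : Type*} [Group H] [Finite H] {a : H} (h : IsPair a)
    (hgen : Subgroup.closure (insert a (JJ a)) = ⊤) (N P : Subgroup H) [N.Normal] [P.Normal]
    (hPN : P ≤ N) (hNa : ∀ n ∈ N, n * a * n⁻¹ * a⁻¹ ∈ P)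
    (hPJ : ∀ x ∈ JJ a, ∀ u ∈ P, u * x = x * u) (B : ℕ) (hB : N.index ≤ B) :
    Nat.card H ≤ 2 * bd2 (Nat.card (JJ a)) B := by
  classical
  have h2 := card_le_two_mul_card_closure h.sq hgen
  suffices hmain : Nat.card (Subgroup.closure (JJ a)) ≤ bd2 (Nat.card (JJ a)) B by omega
  set G₀ := Subgroup.closure (JJ a) with hG₀
  haveI : Fintype ↥G₀ := Fintype.ofFinite _
  let S : Finset ↥G₀ := Finset.univ.filter (fun k => (k : H) ∈ JJ a)
  have hSmem : ∀ k : ↥G₀, k ∈ S ↔ (k : H) ∈ JJ a := by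
    intro k; simp [S]
  have hScard : S.card ≤ Nat.card (JJ a) := by
    have hinj : Function.Injective
        (fun k : S => (⟨((k : ↥G₀) : H), (hSmem k.1).mp k.2⟩ : JJ a)) := by
      intro k k' hk
      apply Subtype.ext
      apply Subtype.ext
      exact congrArg (fun z : JJ a => (z : H)) hk
    have := Nat.card_le_card_of_injective _ hinj
    rwa [Nat.card_eq_fintype_card, Fintype.card_coe] at this
  have hSgen : Subgroup.closure (S : Set ↥G₀) = ⊤ := by
    have : (S : Set ↥G₀) = ((↑) : ↥(Subgroup.closure (JJ a)) → H) ⁻¹' (JJ a) := by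
      ext k
      simp only [Finset.mem_coe, Set.mem_preimage]
      exact hSmem k
    rw [this]
    exact Subgroup.closure_closure_coe_preimage
  have hord : ∀ s ∈ S, orderOf s ≤ Nat.card (JJ a) := by
    intro s hs
    rw [← Subgroup.orderOf_coe]
    exact orderOf_le_card_JJ ((hSmem s).mp hs)
  -- `P` centralizes `G₀`
  have hPG : ∀ u ∈ P, ∀ k ∈ G₀, u * k = k * u := by
    intro u hu k hk
    refine Subgroup.closure_induction (p := fun k _ => u * k = k * u) ?_ ?_ ?_ ?_ hk
    · intro x hx; exact hPJ x hx u hu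
    · simp
    · intro x y _ _ hx hy
      rw [← mul_assoc, hx, mul_assoc, hy, mul_assoc]
    · intro x _ hx
      have : x⁻¹ * (u * x) * x⁻¹ = x⁻¹ * (x * u) * x⁻¹ := by rw [hx]
      have e1 : x⁻¹ * (u * x) * x⁻¹ = x⁻¹ * u := by group
      have e2 : x⁻¹ * (x * u) * x⁻¹ = u * x⁻¹ := by group
      rw [e1, e2] at this
      exact this.symm
  have hcomm := comm_mem_of_pair h N P hNa
  have hN₀ : ∀ n ∈ N.subgroupOf G₀, ∀ g : ↥G₀,
      n * g * n⁻¹ * g⁻¹ ∈ Subgroup.center ↥G₀ := by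
    intro n hn g
    rw [Subgroup.mem_center_iff]
    intro k
    apply Subtype.ext
    have hz : ((n * g * n⁻¹ * g⁻¹ : ↥G₀) : H) ∈ P := by
      have := hcomm (g : H) (n : H) (Subgroup.mem_subgroupOf.mp hn)
      simpa using this
    have := hPG _ hz (k : H) k.2
    simpa using this.symm
  have hidx : (N.subgroupOf G₀).index ≤ B := by
    have h1 : N.relIndex G₀ ∣ N.index := Subgroup.relIndex_dvd_index_of_normal N G₀
    have h3 : 0 < N.index := Nat.pos_of_ne_zero Subgroup.index_ne_zero_of_finite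
    exact (Nat.le_of_dvd h3 h1).trans hB
  exact Cfsg.Agent.Lib.Helper16.IAJ.card_le_bd2 S hSgen (Nat.card (JJ a)) hScard hord
    (N.subgroupOf G₀) hN₀ B hidx

end Cfsg.Agent.Lib.Helper16.IAK
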