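import Mathlib
import Cfsg.Agent.Lib.Helper1.Commutator
import Cfsg.Agent.Lib.Helper19.Index

/-!
# Tools for `J(T)`-components (S2946): four-groups, fixed points, the `2`-group `C_X(W)`
-/

set_option autoImplicit false
open scoped commutatorElement

namespace Cfsg.Agent.Lib.Helper16.JComp

variable {G : Type*} [Group G]

/-- a group of exponent two is commutative -/
theorem comm_of_exp_two {W : Subgroup G} (hexp : ∀ w ∈ W, w * w = 1) :
    ∀ x ∈ W, ∀ y ∈ W, x * y = y * x := by
  intro x hx y hy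
  have h1 := hexp (x * y) (W.mul_mem hx hy)
  have hx' : x⁻¹ = x := inv_eq_of_mul_eq_one_left (hexp x hx)
  have hy' : y⁻¹ = y := inv_eq_of_mul_eq_one_left (hexp y hy)
  have h2 : x * y = (x * y)⁻¹ := (inv_eq_of_mul_eq_one_left h1).symm
  rw [h2, mul_inv_rev, hx', hy']

/-- a four-group consists of `1, u, v, u * v` -/
theorem four_group_elems [Finite G] {W : Subgroup G} (hcard : Nat.card W = 4)
    (hexp : ∀ w ∈ W, w * w = 1) {u v : G} (hu : u ∈ W) (hv : v ∈ W) (hu1 : u ≠ 1) (hv1 : v ≠ 1)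
    (huv : u ≠ v) : ∀ t ∈ W, t = 1 ∨ t = u ∨ t = v ∨ t = u * v := by
  classical
  intro t ht
  by_contra hcon
  simp only [not_or] at hcon
  obtain ⟨ht1, htu, htv, htuv⟩ := hcon
  have huv1 : u * v ≠ 1 := by
    intro h
    apply huv
    have h2 : u * v = u * u := h.trans (hexp u hu).symm
    exact (mul_left_cancel h2).symm
  have huvu : u * v ≠ u := fun h => hv1 (by simpa using h)
  have huvv : u * v ≠ v := fun h => hu1 (by simpa using h)
  have hnd : [1, u, v, u * v, t].Nodup := by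
    simp only [List.nodup_cons, List.mem_cons, List.not_mem_nil, or_false, not_or, List.nodup_nil,
      and_true, not_false_eq_true]
    refine ⟨⟨fun h => hu1 h.symm, fun h => hv1 h.symm, fun h => huv1 h.symm, fun h => ht1 h.symm⟩,
      ⟨huv, fun h => huvu h.symm, fun h => htu h.symm⟩, ⟨fun h => huvv h.symm, fun h => htv h.symm⟩,
      fun h => htuv h.symm⟩
  have hcard5 : ([1, u, v, u * v, t].toFinset).card = 5 := by
    rw [List.toFinset_card_of_nodup hnd]; rfl
  have hsub : (([1, u, v, u * v, t].toFinset : Finset G) : Set G) ⊆ (W : Set G) := by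
    intro x hx
    simp only [List.coe_toFinset, List.mem_cons, List.not_mem_nil, or_false, Set.mem_setOf_eq] at hx
    rcases hx with rfl | rfl | rfl | rfl | rfl
    · exact W.one_mem
    · exact hu
    · exact hv
    · exact W.mul_mem hu hv
    · exact ht
  have h1 := Set.ncard_le_ncard hsub (Set.toFinite _)
  rw [Set.ncard_coe_finset, hcard5] at h1
  have h2 : (W : Set G).ncard = Nat.card W := (Nat.card_coe_set_eq (W : Set G)).symm
  rw [h2, hcard] at h1
  omega

/-- conjugation by an element of the normalizer preserves the subgroup -/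
theorem conj_mem_of_mem_normalizer {W : Subgroup G} {x w : G}
    (hx : x ∈ Subgroup.normalizer (W : Set G)) (hw : w ∈ W) : x * w * x⁻¹ ∈ W :=
  (Subgroup.mem_normalizer_iff.mp hx w).mp hw

theorem conj_inv_mem_of_mem_normalizer {W : Subgroup G} {x w : G}
    (hx : x ∈ Subgroup.normalizer (W : Set G)) (hw : w ∈ W) : x⁻¹ * w * x ∈ W := by
  have := (Subgroup.mem_normalizer_iff.mp (Subgroup.inv_mem _ hx) w).mp hw
  rwa [inv_inv] at this

/-- an element of odd order whose square commutes with `u` commutes with `u` -/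
theorem commute_of_sq_commute {d u : G} (hodd : Odd (orderOf d)) (h : (d * d) * u = u * (d * d)) :
    d * u = u * d := by
  obtain ⟨k, hk⟩ := hodd
  have h1 : Commute (d * d) u := h
  have h2 : Commute ((d * d) ^ (k + 1)) u := h1.pow_left (k + 1)
  have h3 : (d * d) ^ (k + 1) = d := by
    rw [← pow_two, ← pow_mul]
    have : 2 * (k + 1) = orderOf d + 1 := by omega
    rw [this, pow_succ, pow_orderOf_eq_one, one_mul]
  rw [h3] at h2
  exact h2

/-- an element of odd order normalizing but not centralizing a four-group acts on it without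
nontrivial fixed points -/
theorem fpf_of_odd [Finite G] {W : Subgroup G} (hcard : Nat.card W = 4)
    (hexp : ∀ w ∈ W, w * w = 1) {d : G} (hdN : d ∈ Subgroup.normalizer (W : Set G))
    (hodd : Odd (orderOf d)) (hdC : d ∉ Subgroup.centralizer (W : Set G)) :
    ∀ w ∈ W, w ≠ 1 → d * w * d⁻¹ ≠ w := by
  intro w hw hw1 hfix
  have hex : ∃ u ∈ W, d * u ≠ u * d := by
    by_contra hcon
    apply hdC
    rw [Subgroup.mem_centralizer_iff]
    intro u hu
    by_contra h
    exact hcon ⟨u, hu, fun h' => h h'.symm⟩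
  obtain ⟨u, hu, hud⟩ := hex
  have hdw : d * w = w * d := by
    calc d * w = (d * w * d⁻¹) * d := by group
      _ = w * d := by rw [hfix]
  have hu1 : u ≠ 1 := by
    rintro rfl
    exact hud (by simp)
  have huw : u ≠ w := by
    rintro rfl
    exact hud hdw
  have hv : d * u * d⁻¹ ∈ W := conj_mem_of_mem_normalizer hdN hu
  have hvu : d * u * d⁻¹ ≠ u := by
    intro h
    apply hud
    calc d * u = (d * u * d⁻¹) * d := by group
      _ = u * d := by rw [h]
  rcases four_group_elems hcard hexp hu hw hu1 hw1 huw _ hv with h | h | h | h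
  · apply hu1
    have : d * u * d⁻¹ = d * 1 * d⁻¹ := by rw [h]; group
    exact mul_left_cancel (mul_right_cancel this)
  · exact hvu h
  · apply huw
    have : d * u * d⁻¹ = d * w * d⁻¹ := by rw [h, hfix]
    exact mul_left_cancel (mul_right_cancel this)
  · -- d u d⁻¹ = u w, so d² centralizes u
    apply hud
    apply commute_of_sq_commute hodd
    have h2 : d * (d * u * d⁻¹) * d⁻¹ = u := by
      rw [h]
      calc d * (u * w) * d⁻¹ = (d * u * d⁻¹) * (d * w * d⁻¹) := by group
        _ = (u * w) * w := by rw [h, hfix]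
        _ = u := by rw [mul_assoc, hexp w hw, mul_one]
    calc d * d * u = (d * (d * u * d⁻¹) * d⁻¹) * (d * d) := by group
      _ = u * (d * d) := by rw [h2]

/-- the cyclic action of an odd order element on a four-group -/
theorem cyc_of_odd [Finite G] {W : Subgroup G} (hcard : Nat.card W = 4)
    (hexp : ∀ w ∈ W, w * w = 1) {d : G} (hdN : d ∈ Subgroup.normalizer (W : Set G))
    (hodd : Odd (orderOf d)) (hdC : d ∉ Subgroup.centralizer (W : Set G)) {u : G} (hu : u ∈ W)
    (hu1 : u ≠ 1) :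
    d * u * d⁻¹ ∈ W ∧ d * u * d⁻¹ ≠ 1 ∧ d * u * d⁻¹ ≠ u ∧
      d * (d * u * d⁻¹) * d⁻¹ = u * (d * u * d⁻¹) ∧ d * (u * (d * u * d⁻¹)) * d⁻¹ = u := by
  have hfpf := fpf_of_odd hcard hexp hdN hodd hdC
  have hcomm := comm_of_exp_two hexp
  have hv : d * u * d⁻¹ ∈ W := conj_mem_of_mem_normalizer hdN hu
  have hv1 : d * u * d⁻¹ ≠ 1 := by
    intro h
    apply hu1
    have : d * u * d⁻¹ = d * 1 * d⁻¹ := by rw [h]; group
    exact mul_left_cancel (mul_right_cancel this)
  have hvu : d * u * d⁻¹ ≠ u := hfpf u hu hu1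
  have hvv : d * (d * u * d⁻¹) * d⁻¹ ∈ W := conj_mem_of_mem_normalizer hdN hv
  have hvv2 : d * (d * u * d⁻¹) * d⁻¹ ≠ d * u * d⁻¹ := hfpf _ hv hv1
  have hvv1 : d * (d * u * d⁻¹) * d⁻¹ ≠ 1 := by
    intro h
    apply hv1
    have : d * (d * u * d⁻¹) * d⁻¹ = d * 1 * d⁻¹ := by rw [h]; group
    exact mul_left_cancel (mul_right_cancel this)
  have key : d * (d * u * d⁻¹) * d⁻¹ = u * (d * u * d⁻¹) := by
    rcases four_group_elems hcard hexp hu hv hu1 hv1 (Ne.symm hvu) _ hvv with h | h | h | h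
    · exact absurd h hvv1
    · exfalso
      apply hvu
      have h3 : d * d * u = u * (d * d) := by
        calc d * d * u = (d * (d * u * d⁻¹) * d⁻¹) * (d * d) := by group
          _ = u * (d * d) := by rw [h]
      have h4 := commute_of_sq_commute hodd h3
      calc d * u * d⁻¹ = u * d * d⁻¹ := by rw [h4]
        _ = u := by group
    · exact absurd h hvv2
    · exact h
  refine ⟨hv, hv1, hvu, key, ?_⟩
  calc d * (u * (d * u * d⁻¹)) * d⁻¹ = (d * u * d⁻¹) * (d * (d * u * d⁻¹) * d⁻¹) := by group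
    _ = (d * u * d⁻¹) * (u * (d * u * d⁻¹)) := by rw [key]
    _ = (u * (d * u * d⁻¹)) * (d * u * d⁻¹) := hcomm _ hv _ (W.mul_mem hu hv)
    _ = u := by rw [mul_assoc, hexp _ hv, mul_one]

/-- a `2`-group normalizing a four-group fixes one of its involutions -/
theorem exists_fixed_of_two_group [Finite G] {J W : Subgroup G} (hJ : IsPGroup 2 J)
    (hJW : J ≤ Subgroup.normalizer (W : Set G)) (hcard : Nat.card W = 4) :
    ∃ w ∈ W, w ≠ 1 ∧ ∀ j ∈ J, j * w * j⁻¹ = w := by
  letI : MulAction J W :=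
    { smul := fun j w => ⟨j * w * j⁻¹, conj_mem_of_mem_normalizer (hJW j.2) w.2⟩
      one_smul := fun w => Subtype.ext (by
        show ((1 : J) : G) * w * ((1 : J) : G)⁻¹ = w
        simp)
      mul_smul := fun j k w => Subtype.ext (by
        show ((j * k : J) : G) * w * ((j * k : J) : G)⁻¹ = (j : G) * ((k : G) * w * (k : G)⁻¹) * (j : G)⁻¹
        simp [mul_assoc]) }
  haveI : Fact (Nat.Prime 2) := ⟨Nat.prime_two⟩
  have hfix : (1 : W) ∈ MulAction.fixedPoints J W := by
    intro j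
    apply Subtype.ext
    show (j : G) * ((1 : W) : G) * (j : G)⁻¹ = ((1 : W) : G)
    simp
  obtain ⟨b, hb, hne⟩ := hJ.exists_fixed_point_of_prime_dvd_card_of_fixed_point W
    (by rw [hcard]; norm_num) hfix
  refine ⟨b, b.2, ?_, ?_⟩
  · intro h
    apply hne
    exact Subtype.ext h.symm
  · intro j hj
    have := hb ⟨j, hj⟩
    exact congrArg Subtype.val this

/-- `X / K` is a `2`-group when `X = K J` with `J` a `2`-group normalizing `K` -/
theorem exists_pow_mem [Finite G] {K J : Subgroup G}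
    (hJK : J ≤ Subgroup.normalizer (K : Set G)) (hJ : IsPGroup 2 J) :
    ∃ e : ℕ, ∀ g ∈ K ⊔ J, g ^ (2 ^ e) ∈ K := by
  have hidx : ∃ e : ℕ, K.relIndex (J ⊔ K) = 2 ^ e := by
    rw [Cfsg.Agent.Lib.Helper19.relIndex_sup_of_le_normalizer J K hJK]
    obtain ⟨e, he'⟩ := IsPGroup.iff_card.mp hJ
    have h1 : K.relIndex J ∣ Nat.card J := Subgroup.index_dvd_card _
    rw [he'] at h1
    obtain ⟨k, -, hk⟩ := (Nat.dvd_prime_pow Nat.prime_two).mp h1
    exact ⟨k, hk⟩
  obtain ⟨e, hidx⟩ := hidx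
  refine ⟨e, ?_⟩
  intro g hg
  rw [sup_comm] at hg
  haveI := Subgroup.normal_subgroupOf_sup_of_le_normalizer hJK
  have h1 := Subgroup.pow_index_mem (K.subgroupOf (J ⊔ K)) (⟨g, hg⟩ : ↥(J ⊔ K))
  have h2 : (K.subgroupOf (J ⊔ K)).index = 2 ^ e := hidx
  rw [h2, Subgroup.mem_subgroupOf] at h1
  exact h1

/-- a subgroup between `Q` and `K`, where `|K : Q|` is prime, is `Q` or `K` -/
theorem eq_of_relIndex_prime {Q H K : Subgroup G} (hQH : Q ≤ H) (hHK : H ≤ K)
    (hp : (Q.relIndex K).Prime) (hne : ¬ K ≤ H) : H = Q := by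
  have h1 := Subgroup.relIndex_mul_relIndex Q H K hQH hHK
  have h2 : H.relIndex K ∣ Q.relIndex K := Dvd.intro_left _ h1
  rcases (Nat.dvd_prime hp).mp h2 with h | h
  · exact absurd (Subgroup.relIndex_eq_one.mp h) hne
  · rw [h] at h1
    have h3 : Q.relIndex H = 1 := by
      have hpos : 0 < Q.relIndex K := hp.pos
      exact Nat.eq_of_mul_eq_mul_right hpos (by rw [h1, one_mul])
    exact le_antisymm (Subgroup.relIndex_eq_one.mp h3) hQH

/-- `C_X(W)` is a `2`-group -/
theorem isPGroup_inf_centralizer [Finite G] {K J W Q : Subgroup G}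
    (hJK : J ≤ Subgroup.normalizer (K : Set G)) (hJ : IsPGroup 2 J) (hQ2 : IsPGroup 2 Q)
    (hQeq : K ⊓ Subgroup.centralizer (W : Set G) = Q) :
    IsPGroup 2 ↥((K ⊔ J) ⊓ Subgroup.centralizer (W : Set G)) := by
  obtain ⟨e, he⟩ := exists_pow_mem hJK hJ
  rintro ⟨g, hgX, hgC⟩
  have h1 : g ^ (2 ^ e) ∈ Q := by
    rw [← hQeq]
    exact ⟨he g hgX, Subgroup.pow_mem _ hgC _⟩
  obtain ⟨k, hk⟩ := hQ2 ⟨_, h1⟩
  refine ⟨e + k, ?_⟩
  apply Subtype.ext
  have h2 : (g ^ (2 ^ e)) ^ (2 ^ k) = 1 := by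
    have := congrArg Subtype.val hk
    simpa using this
  show g ^ (2 ^ (e + k)) = 1
  rw [pow_add, pow_mul]
  exact h2

/-- a normal `2`-subgroup lies in every Sylow `2`-subgroup -/
theorem le_of_odd_relIndex [Finite G] {X S R : Subgroup G} (hSX : S ≤ X) (hS2 : IsPGroup 2 S)
    (hodd : Odd (S.relIndex X)) (hRX : R ≤ X) (hR2 : IsPGroup 2 R)
    (hXR : X ≤ Subgroup.normalizer (R : Set G)) : R ≤ S := by
  have hP : IsPGroup 2 ↥(R ⊔ S) := hR2.to_sup_of_normal_left' hS2 (hSX.trans hXR)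
  have hSP : S ≤ R ⊔ S := le_sup_right
  have hPX : R ⊔ S ≤ X := sup_le hRX hSX
  have h1 := Subgroup.relIndex_mul_relIndex S (R ⊔ S) X hSP hPX
  have h2 : Odd (S.relIndex (R ⊔ S)) := by
    rw [← h1] at hodd
    exact (Nat.odd_mul.mp hodd).1
  obtain ⟨n, hn⟩ := IsPGroup.iff_card.mp hP
  have h3 : S.relIndex (R ⊔ S) ∣ 2 ^ n := by
    rw [← hn]; exact Subgroup.index_dvd_card _
  obtain ⟨k, -, hk⟩ := (Nat.dvd_prime_pow Nat.prime_two).mp h3
  have hk0 : k = 0 := by
    by_contra hk0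
    rw [hk] at h2
    have : Even (2 ^ k) := (Nat.even_pow' hk0).mpr even_two
    exact (Nat.not_odd_iff_even.mpr this) h2
  rw [hk0, pow_zero] at hk
  exact le_sup_left.trans (Subgroup.relIndex_eq_one.mp hk)

end Cfsg.Agent.Lib.Helper16.JComp
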