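import Mathlib
import Cfsg.Agent.Lib.Helper27.Thompson
import Cfsg.Agent.Lib.Helper4.ElemAb
import Cfsg.Agent.Lib.Helper10.CyclicSup
import Cfsg.Agent.Lib.Helper16.JCompA

/-!
# Thompson replacement with a four-group (S2946)
-/

set_option autoImplicit false

namespace Cfsg.Agent.Lib.Helper16.JComp

open Cfsg Cfsg.Agent.Lib.Helper27 Cfsg.Agent.Lib.Helper4

universe u
variable {G : Type u} [Group G]

/-- an elementary abelian subgroup of `S` commuting with a member `A` of `𝒜(S)` lies in `A` -/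
theorem le_of_mem_maxEAIn [Finite G] {S A V : Subgroup G} (hA : A ∈ maxEAIn 2 S) (hVS : V ≤ S)
    (hV : IsElementaryAbelian 2 V) (hcomm : ∀ a ∈ A, ∀ v ∈ V, a * v = v * a) : V ≤ A := by
  have h1 : IsElementaryAbelian 2 (A ⊔ V) := elemAb_sup hA.2.1 hV hcomm
  have h2 : A ⊔ V ≤ S := sup_le hA.1 hVS
  have h3 := hA.2.2 _ h2 h1
  have h4 : A = A ⊔ V := Subgroup.eq_of_le_of_card_ge le_sup_left h3
  rw [h4]; exact le_sup_right

theorem card_eq_two_mul_of_index_two [Finite G] {A A₀ : Subgroup G} (hle : A₀ ≤ A) {a : G}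
    (haA : a ∈ A) (ha : a ∉ A₀) (h : ∀ x ∈ A, x ∉ A₀ → ∀ y ∈ A, y ∉ A₀ → x * y ∈ A₀) :
    Nat.card A = 2 * Nat.card A₀ := by
  have hidx : (A₀.subgroupOf A).index = 2 := by
    rw [Subgroup.index_eq_two_iff]
    refine ⟨⟨a, haA⟩, ?_⟩
    intro b
    rw [Subgroup.mem_subgroupOf, Subgroup.mem_subgroupOf]
    by_cases hb : (b : G) ∈ A₀
    · refine Or.inr ⟨hb, ?_⟩
      intro hba
      apply ha
      have hba' : (b : G) * a ∈ A₀ := hba
      have : a = (b : G)⁻¹ * ((b : G) * a) := by group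
      rw [this]; exact A₀.mul_mem (A₀.inv_mem hb) hba'
    · exact Or.inl ⟨h b b.2 hb a haA ha, hb⟩
  have h1 := Subgroup.card_mul_index (A₀.subgroupOf A)
  rw [hidx] at h1
  have h2 : Nat.card (A₀.subgroupOf A) = Nat.card A₀ :=
    Nat.card_congr (Subgroup.subgroupOfEquivOfLe hle).toEquiv
  omega

/-- Thompson replacement: if `A ∈ 𝒜(S)` acts on the elementary abelian `W ≤ S` with `|A : C_A(W)| = 2`
and does not centralize it then `W C_A(W) ∈ 𝒜(S)`. -/
theorem replacement [Finite G] {S A W : Subgroup G} (hA : A ∈ maxEAIn 2 S) (hWS : W ≤ S)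
    (hW : IsElementaryAbelian 2 W)
    (hidx : ∀ x ∈ A, x ∉ Subgroup.centralizer (W : Set G) → ∀ y ∈ A,
      y ∉ Subgroup.centralizer (W : Set G) → x * y ∈ Subgroup.centralizer (W : Set G))
    (hnc : ¬ A ≤ Subgroup.centralizer (W : Set G)) :
    W ⊔ (A ⊓ Subgroup.centralizer (W : Set G)) ∈ maxEAIn 2 S := by
  obtain ⟨a, haA, haC⟩ := SetLike.not_le_iff_exists.mp hnc
  have hA₀ea : IsElementaryAbelian 2 (A ⊓ Subgroup.centralizer (W : Set G)) :=
    elemAb_mono inf_le_left hA.2.1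
  have hcomm : ∀ w ∈ W, ∀ x ∈ A ⊓ Subgroup.centralizer (W : Set G), w * x = x * w :=
    fun w hw x hx => (Subgroup.mem_centralizer_iff.mp hx.2) w hw
  have hB : IsElementaryAbelian 2 (W ⊔ (A ⊓ Subgroup.centralizer (W : Set G))) :=
    elemAb_sup hW hA₀ea hcomm
  have hBS : W ⊔ (A ⊓ Subgroup.centralizer (W : Set G)) ≤ S :=
    sup_le hWS (inf_le_left.trans hA.1)
  have hcardA : Nat.card A = 2 * Nat.card ↥(A ⊓ Subgroup.centralizer (W : Set G)) :=
    card_eq_two_mul_of_index_two inf_le_left haA (fun h => haC h.2)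
      (fun x hx hx' y hy hy' => ⟨A.mul_mem hx hy,
        hidx x hx (fun h => hx' ⟨hx, h⟩) y hy (fun h => hy' ⟨hy, h⟩)⟩)
  have hlt : ¬ W ≤ A ⊓ Subgroup.centralizer (W : Set G) := by
    intro h
    apply haC
    rw [Subgroup.mem_centralizer_iff]
    intro w hw
    exact elemAb_comm hA.2.1 w (h hw).1 a haA
  have hdvd : Nat.card ↥(A ⊓ Subgroup.centralizer (W : Set G)) ∣
      Nat.card ↥(W ⊔ (A ⊓ Subgroup.centralizer (W : Set G))) :=
    Subgroup.card_dvd_of_le le_sup_right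
  obtain ⟨k, hk⟩ := hdvd
  have hpos : 0 < Nat.card ↥(W ⊔ (A ⊓ Subgroup.centralizer (W : Set G))) := Nat.card_pos
  have hk2 : 2 ≤ k := by
    by_contra hk2
    have hk1 : k = 1 := by
      rcases Nat.lt_or_ge k 1 with h | h
      · have : k = 0 := by omega
        rw [this, mul_zero] at hk
        omega
      · omega
    rw [hk1, mul_one] at hk
    have h4 : A ⊓ Subgroup.centralizer (W : Set G) = W ⊔ (A ⊓ Subgroup.centralizer (W : Set G)) :=
      Subgroup.eq_of_le_of_card_ge le_sup_right hk.le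
    apply hlt
    rw [h4]; exact le_sup_left
  refine ⟨hBS, hB, ?_⟩
  intro B' hB'S hB'
  have := hA.2.2 B' hB'S hB'
  calc Nat.card B' ≤ Nat.card A := this
    _ = 2 * Nat.card ↥(A ⊓ Subgroup.centralizer (W : Set G)) := hcardA
    _ ≤ k * Nat.card ↥(A ⊓ Subgroup.centralizer (W : Set G)) := Nat.mul_le_mul_right _ hk2
    _ = Nat.card ↥(W ⊔ (A ⊓ Subgroup.centralizer (W : Set G))) := by rw [hk, mul_comm]

/-- the intersection of the members of `𝒜(S)` centralizing `W` -/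
def Ebig (S W : Subgroup G) : Subgroup G :=
  sInf {B | B ∈ maxEAIn 2 S ∧ B ≤ Subgroup.centralizer (W : Set G)}

theorem mem_Ebig {S W : Subgroup G} {e : G} :
    e ∈ Ebig S W ↔ ∀ B ∈ maxEAIn 2 S, B ≤ Subgroup.centralizer (W : Set G) → e ∈ B := by
  unfold Ebig
  rw [Subgroup.mem_sInf]
  constructor
  · intro h B hB hBC
    exact h B ⟨hB, hBC⟩
  · rintro h B ⟨hB, hBC⟩
    exact h B hB hBC

/-- `W ≤ E` -/
theorem le_Ebig [Finite G] {S W : Subgroup G} (hWS : W ≤ S) (hW : IsElementaryAbelian 2 W) :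
    W ≤ Ebig S W := by
  intro w hw
  rw [mem_Ebig]
  intro B hB hBC
  exact le_of_mem_maxEAIn hB hWS hW
    (fun a ha v hv => ((Subgroup.mem_centralizer_iff.mp (hBC ha)) v hv).symm) hw

/-- `E` is normalized by `X` when `C_X(W) ≤ S ≤ X ≤ N(W)` -/
theorem Ebig_conj_mem [Finite G] {X S W : Subgroup G} (hSX : S ≤ X)
    (hRS : X ⊓ Subgroup.centralizer (W : Set G) ≤ S)
    (hXW : X ≤ Subgroup.normalizer (W : Set G)) {x : G} (hx : x ∈ X) {e : G}
    (he : e ∈ Ebig S W) : x * e * x⁻¹ ∈ Ebig S W := by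
  rw [mem_Ebig] at he ⊢
  intro B hB hBC
  -- B' := x⁻¹ B x
  have hcent : ∀ b ∈ B, x⁻¹ * b * x ∈ Subgroup.centralizer (W : Set G) := by
    intro b hb
    rw [Subgroup.mem_centralizer_iff]
    intro w hw
    have hw' : x * w * x⁻¹ ∈ W := conj_mem_of_mem_normalizer (hXW hx) hw
    have h1 := (Subgroup.mem_centralizer_iff.mp (hBC hb)) _ hw'
    calc w * (x⁻¹ * b * x) = x⁻¹ * ((x * w * x⁻¹) * b) * x := by group
      _ = x⁻¹ * (b * (x * w * x⁻¹)) * x := by rw [h1]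
      _ = x⁻¹ * b * x * w := by group
  have hB'S : B.map (MulAut.conj x⁻¹).toMonoidHom ≤ S := by
    rintro _ ⟨b, hb, rfl⟩
    apply hRS
    have h1 : (MulAut.conj x⁻¹).toMonoidHom b = x⁻¹ * b * x := by
      simp [MulAut.conj_apply]
    rw [h1]
    refine ⟨?_, hcent b hb⟩
    exact X.mul_mem (X.mul_mem (X.inv_mem hx) (hSX (hB.1 hb))) hx
  have hB' : B.map (MulAut.conj x⁻¹).toMonoidHom ∈ maxEAIn 2 S := by
    refine ⟨hB'S, isElementaryAbelian_map_equiv _ hB.2.1, ?_⟩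
    intro B'' hB''S hB''
    rw [card_map_equiv]
    exact hB.2.2 B'' hB''S hB''
  have hB'C : B.map (MulAut.conj x⁻¹).toMonoidHom ≤ Subgroup.centralizer (W : Set G) := by
    rintro _ ⟨b, hb, rfl⟩
    have h1 : (MulAut.conj x⁻¹).toMonoidHom b = x⁻¹ * b * x := by
      simp [MulAut.conj_apply]
    rw [h1]
    exact hcent b hb
  obtain ⟨b, hb, hbe⟩ := he _ hB' hB'C
  have h1 : (MulAut.conj x⁻¹).toMonoidHom b = x⁻¹ * b * x := by
    simp [MulAut.conj_apply]
  rw [h1] at hbe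
  have : x * e * x⁻¹ = b := by
    rw [← hbe]; group
  rw [this]; exact hb

/-- every member of `𝒜(S)` acts trivially on `E / W` -/
theorem comm_mem_of_mem_maxEAIn [Finite G] {S A W : Subgroup G} (hA : A ∈ maxEAIn 2 S)
    (hWS : W ≤ S) (hW : IsElementaryAbelian 2 W)
    (hAW : A ≤ Subgroup.normalizer (W : Set G))
    (hidx : ∀ x ∈ A, x ∉ Subgroup.centralizer (W : Set G) → ∀ y ∈ A,
      y ∉ Subgroup.centralizer (W : Set G) → x * y ∈ Subgroup.centralizer (W : Set G))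
    {x : G} (hx : x ∈ A) {e : G} (he : e ∈ Ebig S W) : x * e * x⁻¹ * e⁻¹ ∈ W := by
  by_cases hnc : A ≤ Subgroup.centralizer (W : Set G)
  · have heA : e ∈ A := (mem_Ebig.mp he) A hA hnc
    have h1 : x * e = e * x := elemAb_comm hA.2.1 x hx e heA
    have : x * e * x⁻¹ * e⁻¹ = 1 := by rw [h1]; group
    rw [this]; exact W.one_mem
  · have hB := replacement hA hWS hW hidx hnc
    have hBC : W ⊔ (A ⊓ Subgroup.centralizer (W : Set G)) ≤ Subgroup.centralizer (W : Set G) := by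
      apply sup_le
      · intro w hw
        rw [Subgroup.mem_centralizer_iff]
        intro w' hw'
        exact elemAb_comm hW w' hw' w hw
      · exact inf_le_right
    have heB := (mem_Ebig.mp he) _ hB hBC
    obtain ⟨w, hw, a₀, ha₀, rfl⟩ :=
      Cfsg.Agent.Lib.Helper10.exists_mul_of_mem_sup_of_commute W
        (A ⊓ Subgroup.centralizer (W : Set G))
        (fun w hw x hx => (Subgroup.mem_centralizer_iff.mp (Subgroup.mem_inf.mp hx).2) w hw) heB
    have h1 : x * a₀ = a₀ * x := elemAb_comm hA.2.1 x hx a₀ ha₀.1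
    have : x * (w * a₀) * x⁻¹ * (w * a₀)⁻¹ = (x * w * x⁻¹) * w⁻¹ := by
      calc x * (w * a₀) * x⁻¹ * (w * a₀)⁻¹ = x * w * (a₀ * x⁻¹ * a₀⁻¹) * w⁻¹ := by group
        _ = x * w * x⁻¹ * w⁻¹ := by
          have : a₀ * x⁻¹ * a₀⁻¹ = x⁻¹ := by
            have h2 : a₀ * x⁻¹ = x⁻¹ * a₀ := by
              calc a₀ * x⁻¹ = x⁻¹ * (x * a₀) * x⁻¹ := by group
                _ = x⁻¹ * (a₀ * x) * x⁻¹ := by rw [h1]
                _ = x⁻¹ * a₀ := by group
            rw [h2]; group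
          rw [this]
    rw [this]
    exact W.mul_mem (conj_mem_of_mem_normalizer (hAW hx) hw) (W.inv_mem hw)

end Cfsg.Agent.Lib.Helper16.JComp
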