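import Mathlib
import Cfsg.Prelude.Def_JComponents
import Cfsg.Agent.Lib.Helper16.JCompB
import Cfsg.Agent.Lib.Helper16.Trace3
import Cfsg.Agent.Lib.Helper4.ThompsonFact1

/-!
# `Ω₁(Z(J(T)))` and the four-group of a `J(T)`-component (S2946): the core argument
-/

set_option autoImplicit false
open scoped commutatorElement

namespace Cfsg.Agent.Lib.Helper16.JComp

open Cfsg Cfsg.Agent.Lib.Helper27 Cfsg.Agent.Lib.Helper4 Cfsg.Agent.Lib.Helper16

universe u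
variable {G : Type u} [Group G]

theorem conj_mem_centralizer {W : Subgroup G} {x c : G}
    (hx : x ∈ Subgroup.normalizer (W : Set G)) (hc : c ∈ Subgroup.centralizer (W : Set G)) :
    x * c * x⁻¹ ∈ Subgroup.centralizer (W : Set G) := by
  rw [Subgroup.mem_centralizer_iff]
  intro w hw
  have hw' : x⁻¹ * w * x ∈ W := conj_inv_mem_of_mem_normalizer hx hw
  have h1 := (Subgroup.mem_centralizer_iff.mp hc) _ hw'
  calc w * (x * c * x⁻¹) = x * ((x⁻¹ * w * x) * c) * x⁻¹ := by group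
    _ = x * (c * (x⁻¹ * w * x)) * x⁻¹ := by rw [h1]
    _ = x * c * x⁻¹ * w := by group

theorem comm_of_conj_eq {j t : G} (h : j * t * j⁻¹ = t) : t * j = j * t := by
  calc t * j = (j * t * j⁻¹) * j := by rw [h]
    _ = j * t := by group

theorem conj_eq_of_comm {j t : G} (h : t * j = j * t) : j * t * j⁻¹ = t := by
  calc j * t * j⁻¹ = (t * j) * j⁻¹ := by rw [h]
    _ = t := by group

set_option maxHeartbeats 1600000 in
/-- The core statement. -/
theorem core [Finite G] (K J S W Q X Z₀ : Subgroup G) (hX : X = K ⊔ J)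
    (hZ₀ : Z₀ = omegaCenterOf J)
    (hgen : Subgroup.closure {g : G | g ∈ K ∧ Odd (orderOf g)} = K)
    (hKJ : ⁅K, J⁆ = K)
    (hQ2 : IsPGroup 2 Q) (hQK : Q ≤ K) (hQidx : Q.relIndex K = 3)
    (hQW : Q ≤ Subgroup.centralizer (W : Set G))
    (hWK : W ≤ K) (hWcard : Nat.card W = 4) (hWexp : ∀ w ∈ W, w * w = 1)
    (hNW : X ≤ Subgroup.normalizer (W : Set G))
    (hKW : ¬ K ≤ Subgroup.centralizer (W : Set G))
    (hJ2 : IsPGroup 2 J)
    (hSX : S ≤ X) (hS2 : IsPGroup 2 S) (hSodd : Odd (S.relIndex X))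
    (hJeq : thompsonSubgroupOf 2 S = J) :
    Nat.card ↥(Z₀ ⊓ W) = 2 ∧
      (Z₀ ⊓ (X ⊓ Subgroup.centralizer (X : Set G))) ⊔ (Z₀ ⊓ W) = Z₀ := by
  classical
  have hKX : K ≤ X := by rw [hX]; exact le_sup_left
  have hJX : J ≤ X := by rw [hX]; exact le_sup_right
  have hJK : J ≤ Subgroup.normalizer (K : Set G) := by
    have := Cfsg.Agent.Lib.Helper1.le_normalizer_commutator_right K J
    rwa [hKJ] at this
  have hWcomm := comm_of_exp_two hWexp
  have hWea : IsElementaryAbelian 2 W :=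
    elemAb_of_comm hWcomm (fun a ha => by rw [pow_two]; exact hWexp a ha)
  have hJsup : J = sSup (maxEAIn 2 S) := by rw [← hJeq, thompsonSubgroupOf_eq]
  have hJS : J ≤ S := by
    rw [← hJeq]; unfold thompsonSubgroupOf; exact Subgroup.map_subtype_le _
  -- the element `d`
  obtain ⟨d, hdK, hdodd, hdC⟩ :
      ∃ d ∈ K, Odd (orderOf d) ∧ d ∉ Subgroup.centralizer (W : Set G) := by
    by_contra hcon
    apply hKW
    have h1 : Subgroup.closure {g : G | g ∈ K ∧ Odd (orderOf g)} ≤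
        Subgroup.centralizer (W : Set G) := by
      rw [Subgroup.closure_le]
      rintro g ⟨hgK, hgo⟩
      by_contra hg
      exact hcon ⟨g, hgK, hgo, hg⟩
    rwa [hgen] at h1
  have hdX : d ∈ X := hKX hdK
  have hdN : d ∈ Subgroup.normalizer (W : Set G) := hNW hdX
  -- `J` does not centralize `W`
  have hJC : ¬ J ≤ Subgroup.centralizer (W : Set G) := by
    intro h
    apply hKW
    have h1 : ⁅K, J⁆ ≤ Subgroup.centralizer (W : Set G) := by
      rw [Subgroup.commutator_le]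
      intro k hk j hj
      rw [commutatorElement_def]
      exact Subgroup.mul_mem _ (conj_mem_centralizer (hNW (hKX hk)) (h hj))
        (Subgroup.inv_mem _ (h hj))
    rwa [hKJ] at h1
  -- the involutions of `W`
  obtain ⟨w₀, hw₀W, hw₀1, hw₀fix⟩ := exists_fixed_of_two_group hJ2 (hJX.trans hNW) hWcard
  obtain ⟨hw₁W, hw₁1, hw₁0, hd1, hd2⟩ := cyc_of_odd hWcard hWexp hdN hdodd hdC hw₀W hw₀1
  obtain ⟨w₁, hd0⟩ : ∃ w₁, d * w₀ * d⁻¹ = w₁ := ⟨_, rfl⟩
  rw [hd0] at hw₁W hw₁1 hw₁0 hd1 hd2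
  obtain ⟨w₂, hw₂⟩ : ∃ w₂, w₀ * w₁ = w₂ := ⟨_, rfl⟩
  rw [hw₂] at hd1 hd2
  have hw₂W : w₂ ∈ W := by rw [← hw₂]; exact W.mul_mem hw₀W hw₁W
  have hWelems : ∀ t ∈ W, t = 1 ∨ t = w₀ ∨ t = w₁ ∨ t = w₂ := by
    intro t ht
    have := four_group_elems hWcard hWexp hw₀W hw₁W hw₀1 hw₁1 (Ne.symm hw₁0) t ht
    rwa [hw₂] at this
  have hw₀inv : w₀⁻¹ = w₀ := inv_eq_of_mul_eq_one_left (hWexp w₀ hw₀W)
  have hw₁inv : w₁⁻¹ = w₁ := inv_eq_of_mul_eq_one_left (hWexp w₁ hw₁W)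
  have hw₂1 : w₂ ≠ 1 := by
    intro h
    rw [← hw₂] at h
    apply hw₁0
    have : w₁ = w₀⁻¹ := (inv_eq_of_mul_eq_one_right h).symm
    rw [this, hw₀inv]
  have hw₂0 : w₂ ≠ w₀ := by
    intro h
    rw [← hw₂] at h
    exact hw₁1 (by simpa using h)
  have hw₂1' : w₂ ≠ w₁ := by
    intro h
    rw [← hw₂] at h
    exact hw₀1 (by simpa using h)
  have hw₀₂ : w₀ * w₂ = w₁ := by
    rw [← hw₂, ← mul_assoc, hWexp w₀ hw₀W, one_mul]
  have hw₂₁ : w₂ * w₁ = w₀ := by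
    rw [← hw₂, mul_assoc, hWexp w₁ hw₁W, mul_one]
  -- centralizing `W` can be checked on `w₀, w₁`
  have hcentOf : ∀ g : G, g * w₀ * g⁻¹ = w₀ → g * w₁ * g⁻¹ = w₁ →
      g ∈ Subgroup.centralizer (W : Set G) := by
    intro g h0 h1
    have h2 : g * w₂ * g⁻¹ = w₂ := by
      calc g * w₂ * g⁻¹ = (g * w₀ * g⁻¹) * (g * w₁ * g⁻¹) := by rw [← hw₂]; group
        _ = w₂ := by rw [h0, h1, hw₂]
    rw [Subgroup.mem_centralizer_iff]
    intro t ht
    rcases hWelems t ht with rfl | rfl | rfl | rfl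
    · simp
    · exact comm_of_conj_eq h0
    · exact comm_of_conj_eq h1
    · exact comm_of_conj_eq h2
  -- the action of `J` on `W`
  have hJact : ∀ j ∈ J, j ∉ Subgroup.centralizer (W : Set G) →
      j * w₁ * j⁻¹ = w₂ ∧ j * w₂ * j⁻¹ = w₁ := by
    intro j hj hjC
    have hjN := hNW (hJX hj)
    have hj0 := hw₀fix j hj
    have h1 : j * w₁ * j⁻¹ ∈ W := conj_mem_of_mem_normalizer hjN hw₁W
    have key : j * w₁ * j⁻¹ = w₂ := by
      rcases hWelems _ h1 with h | h | h | h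
      · exfalso
        apply hw₁1
        have : j * w₁ * j⁻¹ = j * 1 * j⁻¹ := by rw [h]; group
        exact mul_left_cancel (mul_right_cancel this)
      · exfalso
        apply hw₁0
        have : j * w₁ * j⁻¹ = j * w₀ * j⁻¹ := by rw [h, hj0]
        exact mul_left_cancel (mul_right_cancel this)
      · exact absurd (hcentOf j hj0 h) hjC
      · exact h
    refine ⟨key, ?_⟩
    calc j * w₂ * j⁻¹ = (j * w₀ * j⁻¹) * (j * w₁ * j⁻¹) := by rw [← hw₂]; group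
      _ = w₁ := by rw [hj0, key, hw₀₂]
  have hJidx : ∀ x ∈ J, x ∉ Subgroup.centralizer (W : Set G) → ∀ y ∈ J,
      y ∉ Subgroup.centralizer (W : Set G) → x * y ∈ Subgroup.centralizer (W : Set G) := by
    intro x hx hxC y hy hyC
    apply hcentOf
    · calc x * y * w₀ * (x * y)⁻¹ = x * (y * w₀ * y⁻¹) * x⁻¹ := by group
        _ = w₀ := by rw [hw₀fix y hy, hw₀fix x hx]
    · calc x * y * w₁ * (x * y)⁻¹ = x * (y * w₁ * y⁻¹) * x⁻¹ := by group
        _ = w₁ := by rw [(hJact y hy hyC).1, (hJact x hx hxC).2]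
  -- `R = C_X(W)`
  have hQeq : K ⊓ Subgroup.centralizer (W : Set G) = Q :=
    eq_of_relIndex_prime (le_inf hQK hQW) inf_le_left (by rw [hQidx]; norm_num)
      (fun h => hKW (h.trans inf_le_right))
  have hR2 : IsPGroup 2 ↥(X ⊓ Subgroup.centralizer (W : Set G)) := by
    rw [hX]
    exact isPGroup_inf_centralizer hJK hJ2 hQ2 hQeq
  have hXR : X ≤ Subgroup.normalizer ((X ⊓ Subgroup.centralizer (W : Set G) : Subgroup G) : Set G) := by
    rw [Subgroup.le_normalizer_iff]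
    intro x hx r hr
    exact ⟨X.mul_mem (X.mul_mem hx hr.1) (X.inv_mem hx), conj_mem_centralizer (hNW hx) hr.2⟩
  have hRS : X ⊓ Subgroup.centralizer (W : Set G) ≤ S :=
    le_of_odd_relIndex hSX hS2 hSodd inf_le_left hR2 hXR
  have hWS : W ≤ S := fun w hw =>
    hRS ⟨hKX (hWK hw), Subgroup.mem_centralizer_iff.mpr fun t ht => hWcomm t ht w hw⟩
  -- members of `𝒜(S)`
  have hAJ : ∀ A ∈ maxEAIn 2 S, A ≤ J := fun A hA => by rw [hJsup]; exact le_sSup hA
  have hAidx : ∀ A ∈ maxEAIn 2 S, ∀ x ∈ A, x ∉ Subgroup.centralizer (W : Set G) → ∀ y ∈ A,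
      y ∉ Subgroup.centralizer (W : Set G) → x * y ∈ Subgroup.centralizer (W : Set G) :=
    fun A hA x hx hxC y hy hyC => hJidx x (hAJ A hA hx) hxC y (hAJ A hA hy) hyC
  obtain ⟨A, hA, hAnc⟩ : ∃ A ∈ maxEAIn 2 S, ¬ A ≤ Subgroup.centralizer (W : Set G) := by
    by_contra hcon
    apply hJC
    rw [hJsup]
    apply sSup_le
    intro A hA
    by_contra h
    exact hcon ⟨A, hA, h⟩
  obtain ⟨a, haA, haC⟩ := SetLike.not_le_iff_exists.mp hAnc
  have haJ : a ∈ J := hAJ A hA haA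
  have ha0 : a * w₀ * a⁻¹ = w₀ := hw₀fix a haJ
  obtain ⟨ha1, ha2⟩ := hJact a haJ haC
  have hWJ : W ≤ J := by
    have hB := replacement hA hWS hWea (hAidx A hA) hAnc
    exact le_sup_left.trans (hAJ _ hB)
  -- `Z₀`
  have hZ₀J : Z₀ ≤ J := by
    rw [hZ₀]; unfold omegaCenterOf
    exact (omegaOne_le' _).trans inf_le_left
  have hZ₀C : Z₀ ≤ Subgroup.centralizer (J : Set G) := by
    rw [hZ₀]; unfold omegaCenterOf
    exact omegaOne_center_le_centralizer 2 J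
  have hZ₀exp : ∀ z ∈ Z₀, z ^ 2 = 1 := by
    rw [hZ₀]; unfold omegaCenterOf
    exact omegaOne_center_pow 2 J
  have hZ₀mem : ∀ z, z ∈ J → z ∈ Subgroup.centralizer (J : Set G) → z ^ 2 = 1 → z ∈ Z₀ := by
    intro z h1 h2 h3
    rw [hZ₀]; unfold omegaCenterOf omegaOne
    exact Subgroup.subset_closure ⟨⟨h1, h2⟩, h3⟩
  have hZ₀comm : ∀ z ∈ Z₀, ∀ j ∈ J, j * z * j⁻¹ = z := fun z hz j hj =>
    conj_eq_of_comm (((Subgroup.mem_centralizer_iff.mp (hZ₀C hz)) j hj).symm)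
  have hw₀Z : w₀ ∈ Z₀ := by
    apply hZ₀mem _ (hWJ hw₀W)
    · rw [Subgroup.mem_centralizer_iff]
      intro j hj
      exact (comm_of_conj_eq (hw₀fix j hj)).symm
    · rw [pow_two]; exact hWexp w₀ hw₀W
  have hZW : ∀ t, t ∈ Z₀ → t ∈ W → t = 1 ∨ t = w₀ := by
    intro t htZ htW
    have hta := hZ₀comm t htZ a haJ
    rcases hWelems t htW with h | h | h | h
    · exact Or.inl h
    · exact Or.inr h
    · exfalso
      rw [h, ha1] at hta
      exact hw₂1' hta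
    · exfalso
      rw [h, ha2] at hta
      exact hw₂1' hta.symm
  have hcard2 : Nat.card ↥(Z₀ ⊓ W) = 2 := by
    have heq : Z₀ ⊓ W = Subgroup.zpowers w₀ := by
      apply le_antisymm
      · rintro t ⟨htZ, htW⟩
        rcases hZW t htZ htW with rfl | rfl
        · exact Subgroup.one_mem _
        · exact Subgroup.mem_zpowers _
      · rw [Subgroup.zpowers_le]; exact ⟨hw₀Z, hw₀W⟩
    rw [heq, Nat.card_zpowers]
    exact orderOf_eq_prime (by rw [pow_two]; exact hWexp w₀ hw₀W) hw₀1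
  refine ⟨hcard2, ?_⟩
  -- the kernel of the action on `E / W`
  have hEnorm : ∀ x ∈ X, ∀ e ∈ Ebig S W, x * e * x⁻¹ ∈ Ebig S W :=
    fun x hx e he => Ebig_conj_mem hSX hRS hNW hx he
  let T : Subgroup G :=
    { carrier := {x | x ∈ X ∧ ∀ e ∈ Ebig S W, x * e * x⁻¹ * e⁻¹ ∈ W}
      one_mem' := ⟨X.one_mem, fun e _ => by simp⟩
      mul_mem' := by
        rintro x y ⟨hx, hx'⟩ ⟨hy, hy'⟩
        refine ⟨X.mul_mem hx hy, fun e he => ?_⟩
        have h1 : x * y * e * (x * y)⁻¹ * e⁻¹ =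
            (x * (y * e * y⁻¹ * e⁻¹) * x⁻¹) * (x * e * x⁻¹ * e⁻¹) := by group
        rw [h1]
        exact W.mul_mem (conj_mem_of_mem_normalizer (hNW hx) (hy' e he)) (hx' e he)
      inv_mem' := by
        rintro x ⟨hx, hx'⟩
        refine ⟨X.inv_mem hx, fun e he => ?_⟩
        have he' : x⁻¹ * e * x ∈ Ebig S W := by
          have := hEnorm x⁻¹ (X.inv_mem hx) e he
          rwa [inv_inv] at this
        have h1 := hx' _ he'
        have h2 : x⁻¹ * e * x⁻¹⁻¹ * e⁻¹ =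
            (x * (x⁻¹ * e * x) * x⁻¹ * (x⁻¹ * e * x)⁻¹)⁻¹ := by group
        rw [h2]; exact W.inv_mem h1 }
  have hTmem : ∀ x, x ∈ T ↔ x ∈ X ∧ ∀ e ∈ Ebig S W, x * e * x⁻¹ * e⁻¹ ∈ W := fun x => Iff.rfl
  have hTnorm : ∀ g ∈ X, ∀ x ∈ T, g * x * g⁻¹ ∈ T := by
    intro g hg x hxT
    obtain ⟨hx, hx'⟩ := (hTmem x).mp hxT
    rw [hTmem]
    refine ⟨X.mul_mem (X.mul_mem hg hx) (X.inv_mem hg), fun e he => ?_⟩
    have he' : g⁻¹ * e * g ∈ Ebig S W := by
      have := hEnorm g⁻¹ (X.inv_mem hg) e he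
      rwa [inv_inv] at this
    have h1 := hx' _ he'
    have h2 : g * x * g⁻¹ * e * (g * x * g⁻¹)⁻¹ * e⁻¹ =
        g * (x * (g⁻¹ * e * g) * x⁻¹ * (g⁻¹ * e * g)⁻¹) * g⁻¹ := by group
    rw [h2]; exact conj_mem_of_mem_normalizer (hNW hg) h1
  have hJT : J ≤ T := by
    rw [hJsup]
    apply sSup_le
    intro A' hA' x hx
    rw [hTmem]
    exact ⟨hJX (hAJ A' hA' hx), fun e he =>
      comm_mem_of_mem_maxEAIn hA' hWS hWea ((hAJ A' hA').trans (hJX.trans hNW)) (hAidx A' hA') hx he⟩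
  have hKT : K ≤ T := by
    have h1 : ⁅K, J⁆ ≤ T := by
      rw [Subgroup.commutator_le]
      intro k hk j hj
      rw [commutatorElement_def]
      exact T.mul_mem (hTnorm k (hKX hk) j (hJT hj)) (T.inv_mem (hJT hj))
    rwa [hKJ] at h1
  have hXT : X ≤ T := by rw [hX]; exact sup_le hKT hJT
  have hF1 : ∀ x ∈ X, ∀ e ∈ Ebig S W, x * e * x⁻¹ * e⁻¹ ∈ W :=
    fun x hx e he => ((hTmem x).mp (hXT hx)).2 e he
  -- `Z₀ ≤ E`
  have hZ₀ea : IsElementaryAbelian 2 Z₀ :=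
    elemAb_of_comm (fun x hx y hy => (Subgroup.mem_centralizer_iff.mp (hZ₀C hy)) x (hZ₀J hx)) hZ₀exp
  have hZ₀E : Z₀ ≤ Ebig S W := by
    intro z hz
    rw [mem_Ebig]
    intro B hB _
    exact le_of_mem_maxEAIn hB (hZ₀J.trans hJS) hZ₀ea
      (fun b hb v hv => (Subgroup.mem_centralizer_iff.mp (hZ₀C hv)) b (hAJ B hB hb)) hz
  -- `S` normalizes `Z₀`
  have hSNZ : S ≤ Subgroup.normalizer (Z₀ : Set G) := by
    have h1 : S ≤ Subgroup.normalizer (J : Set G) := by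
      have := normalizer_le_normalizer_thompson (p := 2) S
      rw [hJeq] at this
      exact Subgroup.le_normalizer.trans this
    have h2 := normalizer_le_normalizer_inf_centralizer J
    have h3 := normalizer_le_normalizer_omegaOne (p := 2) (J ⊓ Subgroup.centralizer (J : Set G))
    rw [hZ₀]; unfold omegaCenterOf
    exact h1.trans (h2.trans h3)
  -- `R` centralizes `Z₀`
  have hc : ∀ r ∈ X ⊓ Subgroup.centralizer (W : Set G), ∀ z ∈ Z₀,
      r * z * r⁻¹ * z⁻¹ = 1 ∨ r * z * r⁻¹ * z⁻¹ = w₀ := by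
    intro r hr z hz
    apply hZW
    · exact Z₀.mul_mem (conj_mem_of_mem_normalizer (hSNZ (hRS hr)) hz) (Z₀.inv_mem hz)
    · exact hF1 r hr.1 z (hZ₀E hz)
  have hRZ : ∀ r ∈ X ⊓ Subgroup.centralizer (W : Set G), ∀ z ∈ Z₀, r * z * r⁻¹ = z := by
    intro r hr z hz
    have hr' : d⁻¹ * r * d ∈ X ⊓ Subgroup.centralizer (W : Set G) :=
      conj_inv_mem_of_mem_normalizer (hXR hdX) hr
    have hw'' : d * z * d⁻¹ * z⁻¹ ∈ W := hF1 d hdX z (hZ₀E hz)
    have hcW : r * z * r⁻¹ * z⁻¹ ∈ W := hF1 r hr.1 z (hZ₀E hz)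
    have hrw : r * (d * z * d⁻¹ * z⁻¹) = (d * z * d⁻¹ * z⁻¹) * r :=
      ((Subgroup.mem_centralizer_iff.mp hr.2) _ hw'').symm
    have hid : d * ((d⁻¹ * r * d) * z * (d⁻¹ * r * d)⁻¹ * z⁻¹) * d⁻¹ = r * z * r⁻¹ * z⁻¹ := by
      calc d * ((d⁻¹ * r * d) * z * (d⁻¹ * r * d)⁻¹ * z⁻¹) * d⁻¹
          = r * (d * z * d⁻¹ * z⁻¹) * (z * r⁻¹ * z⁻¹) * (d * z * d⁻¹ * z⁻¹)⁻¹ := by group
        _ = (d * z * d⁻¹ * z⁻¹) * r * (z * r⁻¹ * z⁻¹) * (d * z * d⁻¹ * z⁻¹)⁻¹ := by rw [hrw]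
        _ = (d * z * d⁻¹ * z⁻¹) * (r * z * r⁻¹ * z⁻¹) * (d * z * d⁻¹ * z⁻¹)⁻¹ := by group
        _ = (r * z * r⁻¹ * z⁻¹) * (d * z * d⁻¹ * z⁻¹) * (d * z * d⁻¹ * z⁻¹)⁻¹ := by
            rw [hWcomm _ hw'' _ hcW]
        _ = r * z * r⁻¹ * z⁻¹ := by group
    have h1 : r * z * r⁻¹ * z⁻¹ = 1 := by
      rcases hc r hr z hz with h | h
      · exact h
      · exfalso
        rcases hc _ hr' z hz with h' | h'
        · rw [h'] at hid
          rw [h] at hid
          apply hw₀1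
          rw [← hid]; group
        · rw [h', hd0, h] at hid
          exact hw₁0 hid
    calc r * z * r⁻¹ = (r * z * r⁻¹ * z⁻¹) * z := by group
      _ = z := by rw [h1, one_mul]
  -- `K = Q ⟨d⟩`
  have hKle : K ≤ Q ⊔ Subgroup.zpowers d := by
    by_contra hne
    have h1 : Q ⊔ Subgroup.zpowers d = Q :=
      eq_of_relIndex_prime le_sup_left (sup_le hQK (by rw [Subgroup.zpowers_le]; exact hdK))
        (by rw [hQidx]; norm_num) hne
    apply hdC
    apply hQW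
    rw [← h1]
    exact Subgroup.mem_sup_right (Subgroup.mem_zpowers d)
  -- elements of `Z₀` centralized by `d` are central in `X`
  have hcentral : ∀ f ∈ Z₀, d * f * d⁻¹ = f → f ∈ Subgroup.centralizer (X : Set G) := by
    intro f hf hdf
    have hQf : Q ≤ Subgroup.centralizer ({f} : Set G) := by
      intro q hq
      rw [Subgroup.mem_centralizer_iff]
      rintro _ rfl
      exact comm_of_conj_eq (hRZ q ⟨hKX (hQK hq), hQW hq⟩ _ hf)
    have hdf' : Subgroup.zpowers d ≤ Subgroup.centralizer ({f} : Set G) := by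
      rw [Subgroup.zpowers_le, Subgroup.mem_centralizer_iff]
      rintro _ rfl
      exact comm_of_conj_eq hdf
    have hJf : J ≤ Subgroup.centralizer ({f} : Set G) := by
      intro j hj
      rw [Subgroup.mem_centralizer_iff]
      rintro _ rfl
      exact comm_of_conj_eq (hZ₀comm _ hf j hj)
    have hXf : X ≤ Subgroup.centralizer ({f} : Set G) := by
      rw [hX]
      exact sup_le (hKle.trans (sup_le hQf hdf')) hJf
    rw [Subgroup.mem_centralizer_iff]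
    intro x hx
    exact ((Subgroup.mem_centralizer_iff.mp (hXf hx)) f rfl).symm
  -- the decomposition
  apply le_antisymm
  · exact sup_le inf_le_left inf_le_left
  · intro z hz
    obtain ⟨w, hw⟩ : ∃ w, d * z * d⁻¹ * z⁻¹ = w := ⟨_, rfl⟩
    have hwW : w ∈ W := by rw [← hw]; exact hF1 d hdX z (hZ₀E hz)
    have hdz : d * z * d⁻¹ = w * z := by rw [← hw]; group
    have haz : a * z * a⁻¹ = z := hZ₀comm z hz a haJ
    have hρR : a * d * a * d ∈ X ⊓ Subgroup.centralizer (W : Set G) := by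
      refine ⟨X.mul_mem (X.mul_mem (X.mul_mem (hJX haJ) hdX) (hJX haJ)) hdX, ?_⟩
      apply hcentOf
      · calc a * d * a * d * w₀ * (a * d * a * d)⁻¹
            = a * (d * (a * (d * w₀ * d⁻¹) * a⁻¹) * d⁻¹) * a⁻¹ := by group
          _ = w₀ := by rw [hd0, ha1, hd2, ha0]
      · calc a * d * a * d * w₁ * (a * d * a * d)⁻¹
            = a * (d * (a * (d * w₁ * d⁻¹) * a⁻¹) * d⁻¹) * a⁻¹ := by group
          _ = w₁ := by rw [hd1, ha2, hd1, ha2]
    have hρz := hRZ _ hρR z hz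
    have hexpand : a * d * a * d * z * (a * d * a * d)⁻¹ =
        (a * (d * (a * w * a⁻¹) * d⁻¹) * a⁻¹) * (a * w * a⁻¹) * z := by
      calc a * d * a * d * z * (a * d * a * d)⁻¹
          = a * (d * (a * (d * z * d⁻¹) * a⁻¹) * d⁻¹) * a⁻¹ := by group
        _ = a * (d * (a * (w * z) * a⁻¹) * d⁻¹) * a⁻¹ := by rw [hdz]
        _ = a * (d * ((a * w * a⁻¹) * (a * z * a⁻¹)) * d⁻¹) * a⁻¹ := by group
        _ = a * (d * ((a * w * a⁻¹) * z) * d⁻¹) * a⁻¹ := by rw [haz]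
        _ = a * ((d * (a * w * a⁻¹) * d⁻¹) * (d * z * d⁻¹)) * a⁻¹ := by group
        _ = a * ((d * (a * w * a⁻¹) * d⁻¹) * (w * z)) * a⁻¹ := by rw [hdz]
        _ = (a * (d * (a * w * a⁻¹) * d⁻¹) * a⁻¹) * (a * w * a⁻¹) * (a * z * a⁻¹) := by group
        _ = (a * (d * (a * w * a⁻¹) * d⁻¹) * a⁻¹) * (a * w * a⁻¹) * z := by rw [haz]
    rw [hexpand] at hρz
    have hzX : Z₀ ≤ X := hZ₀J.trans hJX
    rcases hWelems w hwW with h | h | h | h
    · -- `d` centralizes `z`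
      have hdz' : d * z * d⁻¹ = z := by rw [hdz, h, one_mul]
      exact Subgroup.mem_sup_left ⟨hz, hzX hz, hcentral z hz hdz'⟩
    · exfalso
      rw [h, ha0, hd0, ha1] at hρz
      have : w₂ * w₀ = 1 := by
        have := mul_right_cancel (hρz.trans (one_mul z).symm)
        exact this
      apply hw₂0
      have h3 : w₂ = w₀⁻¹ := eq_inv_of_mul_eq_one_left this
      rw [h3, hw₀inv]
    · exfalso
      rw [h, ha1, hd2, ha0] at hρz
      have : w₀ * w₂ = 1 := mul_right_cancel (hρz.trans (one_mul z).symm)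
      rw [hw₀₂] at this
      exact hw₁1 this
    · -- `d` centralizes `z w₀`
      have hzw : ∀ t ∈ W, z * t = t * z := fun t ht =>
        comm_of_conj_eq (hZ₀comm z hz t (hWJ ht))
      have hf : z * w₀ ∈ Z₀ := Z₀.mul_mem hz hw₀Z
      have hdf : d * (z * w₀) * d⁻¹ = z * w₀ := by
        calc d * (z * w₀) * d⁻¹ = (d * z * d⁻¹) * (d * w₀ * d⁻¹) := by group
          _ = w₂ * z * w₁ := by rw [hdz, h, hd0]
          _ = z * w₂ * w₁ := by rw [hzw w₂ hw₂W]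
          _ = z * w₀ := by rw [mul_assoc, hw₂₁]
      have hzeq : z = (z * w₀) * w₀ := by rw [mul_assoc, hWexp w₀ hw₀W, mul_one]
      rw [hzeq]
      exact Subgroup.mul_mem_sup ⟨hf, hzX hf, hcentral _ hf hdf⟩ ⟨hw₀Z, hw₀W⟩

end Cfsg.Agent.Lib.Helper16.JComp
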