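import Mathlib
import Cfsg.Prelude.Def_JComponents
import Cfsg.Agent.Lib.Helper16.JCompC

/-!
# `Ω₁(Z(J(T)))` and the four-group of a `J(T)`-component (S2946): interface with the definitions
-/

set_option autoImplicit false
open scoped commutatorElement

namespace Cfsg.Agent.Lib.Helper16.JComp

open Cfsg Cfsg.Agent.Lib.Helper27 Cfsg.Agent.Lib.Helper4 Cfsg.Agent.Lib.Helper16

universe u
variable {G : Type u} [Group G]

theorem normalizer_inf_le_normalizer_commutator (H₁ H₂ : Subgroup G) :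
    Subgroup.normalizer (H₁ : Set G) ⊓ Subgroup.normalizer (H₂ : Set G) ≤
      Subgroup.normalizer ((⁅H₁, H₂⁆ : Subgroup G) : Set G) := by
  intro g hg
  have h1 : g ∈ Subgroup.normalizer (H₁ : Set G) := (Subgroup.mem_inf.mp hg).1
  have h2 : g ∈ Subgroup.normalizer (H₂ : Set G) := (Subgroup.mem_inf.mp hg).2
  rw [Subgroup.mem_normalizer_iff_map_conj_eq] at h1 h2 ⊢
  rw [Subgroup.map_commutator, h1, h2]

/-- basic facts on `W_K` -/
theorem wOf_facts [Finite G] (K : Subgroup G) :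
    wOf K ≤ omegaCenterOf (pCoreOf 2 K) ∧
      Subgroup.normalizer (K : Set G) ≤ Subgroup.normalizer (wOf K : Set G) := by
  haveI : Fact (Nat.Prime 2) := ⟨Nat.prime_two⟩
  have h1 : Subgroup.normalizer (K : Set G) ≤
      Subgroup.normalizer (omegaCenterOf (pCoreOf 2 K) : Set G) := by
    unfold omegaCenterOf
    exact (normalizer_le_normalizer_pCoreOf (p := 2) K).trans
      ((normalizer_le_normalizer_inf_centralizer _).trans (normalizer_le_normalizer_omegaOne _))
  constructor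
  · unfold wOf
    rw [← Subgroup.le_normalizer_iff_commutator_le_left]
    exact Subgroup.le_normalizer.trans h1
  · unfold wOf
    exact (le_inf h1 le_rfl).trans (normalizer_inf_le_normalizer_commutator _ _)

/-- a group generated by elements of odd order centralizing `[U, K]`, `U` of exponent two,
centralizes `U` -/
theorem commutator_eq_bot_of_le_centralizer {K U : Subgroup G}
    (hgen : Subgroup.closure {g : G | g ∈ K ∧ Odd (orderOf g)} = K)
    (hKU : K ≤ Subgroup.normalizer (U : Set G)) (hUexp : ∀ u ∈ U, u ^ 2 = 1)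
    (hcent : K ≤ Subgroup.centralizer ((⁅U, K⁆ : Subgroup G) : Set G)) : ⁅U, K⁆ = ⊥ := by
  rw [Subgroup.commutator_eq_bot_iff_le_centralizer]
  have hWU : ⁅U, K⁆ ≤ U := Subgroup.le_normalizer_iff_commutator_le_left.mp hKU
  have key : K ≤ Subgroup.centralizer (U : Set G) := by
    rw [← hgen, Subgroup.closure_le]
    rintro g ⟨hgK, hgo⟩
    rw [SetLike.mem_coe, Subgroup.mem_centralizer_iff]
    intro u hu
    -- c := g u g⁻¹ u⁻¹
    have hc : g * u * g⁻¹ * u⁻¹ ∈ ⁅U, K⁆ := by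
      rw [Subgroup.commutator_comm]
      have := Subgroup.commutator_mem_commutator hgK hu
      rwa [commutatorElement_def] at this
    have hgc : g * (g * u * g⁻¹ * u⁻¹) = (g * u * g⁻¹ * u⁻¹) * g :=
      ((Subgroup.mem_centralizer_iff.mp (hcent hgK)) _ hc).symm
    have hpow : ∀ n : ℕ, g ^ n * u * (g ^ n)⁻¹ = (g * u * g⁻¹ * u⁻¹) ^ n * u := by
      intro n
      induction n with
      | zero => simp
      | succ n ih =>
        have hcomm : Commute g ((g * u * g⁻¹ * u⁻¹) ^ n) := Commute.pow_right hgc n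
        calc g ^ (n + 1) * u * (g ^ (n + 1))⁻¹ = g * (g ^ n * u * (g ^ n)⁻¹) * g⁻¹ := by
              rw [pow_succ']; group
          _ = g * ((g * u * g⁻¹ * u⁻¹) ^ n * u) * g⁻¹ := by rw [ih]
          _ = (g * (g * u * g⁻¹ * u⁻¹) ^ n) * u * g⁻¹ := by group
          _ = ((g * u * g⁻¹ * u⁻¹) ^ n * g) * u * g⁻¹ := by rw [hcomm.eq]
          _ = (g * u * g⁻¹ * u⁻¹) ^ n * (g * u * g⁻¹ * u⁻¹) * u := by group
          _ = (g * u * g⁻¹ * u⁻¹) ^ (n + 1) * u := by rw [pow_succ]
    have h1 := hpow (orderOf g)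
    rw [pow_orderOf_eq_one] at h1
    have h2 : (g * u * g⁻¹ * u⁻¹) ^ orderOf g = 1 := by
      have : u = (g * u * g⁻¹ * u⁻¹) ^ orderOf g * u := by simpa using h1
      exact (mul_eq_right.mp this.symm)
    have h3 : (g * u * g⁻¹ * u⁻¹) ^ 2 = 1 := hUexp _ (hWU hc)
    have h4 : g * u * g⁻¹ * u⁻¹ = 1 := by
      obtain ⟨k, hk⟩ := hgo
      have : (g * u * g⁻¹ * u⁻¹) ^ (2 * k + 1) = 1 := by rw [← hk]; exact h2
      rw [pow_succ, pow_mul, h3, one_pow, one_mul] at this
      exact this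
    calc u * g = (g * u * g⁻¹ * u⁻¹)⁻¹ * (g * u) := by group
      _ = g * u := by rw [h4, inv_one, one_mul]
  intro u hu
  rw [Subgroup.mem_centralizer_iff]
  intro k hk
  exact ((Subgroup.mem_centralizer_iff.mp (key hk)) u hu).symm

/-- existence of a Sylow `2`-subgroup of `X` containing the `2`-subgroup `J` -/
theorem exists_isSylowTwoIn [Finite G] {X J : Subgroup G} (hJX : J ≤ X) (hJ : IsPGroup 2 J) :
    ∃ S : Subgroup G, IsSylowTwoIn S X ∧ J ≤ S := by
  haveI : Fact (Nat.Prime 2) := ⟨Nat.prime_two⟩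
  have hJ' : IsPGroup 2 ↥(J.subgroupOf X) := hJ.comap_subtype
  obtain ⟨P, hP⟩ := hJ'.exists_le_sylow
  refine ⟨(P : Subgroup ↥X).map X.subtype, ⟨Subgroup.map_subtype_le _, P.isPGroup'.map _, ?_⟩, ?_⟩
  · have h1 : ((P : Subgroup ↥X).map X.subtype).relIndex X = (P : Subgroup ↥X).index := by
      unfold Subgroup.relIndex Subgroup.subgroupOf
      rw [Subgroup.comap_map_eq_self_of_injective X.subtype_injective]
    rw [h1]
    have h2 := P.not_dvd_index
    rw [← Nat.not_even_iff_odd, even_iff_two_dvd]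
    exact h2
  · intro j hj
    exact ⟨⟨j, hJX hj⟩, hP (by rw [Subgroup.mem_subgroupOf]; exact hj), rfl⟩

/-- S2946 without the ambient hypotheses. -/
theorem jcomp_split [Finite G] (T K : Subgroup G) (hT : IsPGroup 2 ↥T)
    (hK : IsJComponent T K) (Z₀ : Subgroup G)
    (hZ₀ : Z₀ = omegaCenterOf (thompsonSubgroupOf 2 T)) :
    Nat.card ↥(Z₀ ⊓ wOf K) = 2 ∧
      (Z₀ ⊓ ((K ⊔ thompsonSubgroupOf 2 T) ⊓
        Subgroup.centralizer ((K ⊔ thompsonSubgroupOf 2 T : Subgroup G) : Set G))) ⊔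
        (Z₀ ⊓ wOf K) = Z₀ := by
  haveI : Fact (Nat.Prime 2) := ⟨Nat.prime_two⟩
  obtain ⟨hgen, hKJ, hidx, hsyl, hWcard, hWexp⟩ := hK
  have hJT : thompsonSubgroupOf 2 T ≤ T := by
    unfold thompsonSubgroupOf
    exact Subgroup.map_subtype_le _
  have hJ2 : IsPGroup 2 ↥(thompsonSubgroupOf 2 T) := hT.to_le hJT
  have hJK : thompsonSubgroupOf 2 T ≤ Subgroup.normalizer (K : Set G) := by
    have := Cfsg.Agent.Lib.Helper1.le_normalizer_commutator_right K (thompsonSubgroupOf 2 T)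
    rwa [hKJ] at this
  obtain ⟨hWU, hNKW⟩ := wOf_facts K
  have hUQ : omegaCenterOf (pCoreOf 2 K) ≤ pCoreOf 2 K := by
    unfold omegaCenterOf
    exact (omegaOne_le' _).trans inf_le_left
  have hUC : omegaCenterOf (pCoreOf 2 K) ≤ Subgroup.centralizer (pCoreOf 2 K : Set G) := by
    unfold omegaCenterOf
    exact omegaOne_center_le_centralizer 2 _
  have hUexp : ∀ u ∈ omegaCenterOf (pCoreOf 2 K), u ^ 2 = 1 := by
    unfold omegaCenterOf
    exact omegaOne_center_pow 2 _
  have hQW : pCoreOf 2 K ≤ Subgroup.centralizer (wOf K : Set G) := by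
    intro q hq
    rw [Subgroup.mem_centralizer_iff]
    intro w hw
    exact ((Subgroup.mem_centralizer_iff.mp (hUC (hWU hw))) q hq).symm
  have hNW : K ⊔ thompsonSubgroupOf 2 T ≤ Subgroup.normalizer (wOf K : Set G) :=
    (sup_le Subgroup.le_normalizer hJK).trans hNKW
  have hKW : ¬ K ≤ Subgroup.centralizer (wOf K : Set G) := by
    intro h
    have hKU : K ≤ Subgroup.normalizer (omegaCenterOf (pCoreOf 2 K) : Set G) := by
      unfold omegaCenterOf
      exact (le_normalizer_pCoreOf (p := 2) K).trans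
        ((normalizer_le_normalizer_inf_centralizer _).trans (normalizer_le_normalizer_omegaOne _))
    have h1 : wOf K = ⊥ := commutator_eq_bot_of_le_centralizer hgen hKU hUexp h
    rw [h1] at hWcard
    simp at hWcard
  obtain ⟨S, hS, hJS⟩ := exists_isSylowTwoIn (le_sup_right : thompsonSubgroupOf 2 T ≤ K ⊔ _) hJ2
  have hJeq := hsyl S hS hJS
  exact core K (thompsonSubgroupOf 2 T) S (wOf K) (pCoreOf 2 K) (K ⊔ thompsonSubgroupOf 2 T) Z₀ rfl hZ₀
    hgen hKJ (pCoreOf_isPGroup K) (pCoreOf_le K) hidx hQW ((hWU.trans hUQ).trans (pCoreOf_le K))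
    hWcard hWexp hNW hKW hJ2 hS.1 hS.2.1 hS.2.2 hJeq

end Cfsg.Agent.Lib.Helper16.JComp
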