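/-
helper16: S4637 sub-leaf (SCA) of helper24's (SC): the `p`-regular rank is invariant under pullback
along a group isomorphism.
-/
import Mathlib
import Cfsg.Prelude.Def_BlockRank
import Cfsg.Agent.Lib.Helper6.BlockIso

set_option autoImplicit false

namespace Cfsg.Agent.Lib.Helper16.KleinSCA

open Cfsg Cfsg.Agent.CharLib Cfsg.Agent.Lib.Helper24 Cfsg.Agent.Lib.Helper6

universe u

theorem pRegularPart_comp {A A' : Type u} [Group A] [Group A'] (p : ℕ) (ψ : A ≃* A')
    (χ : A' → ℂ) : (pRegularPart p χ) ∘ ψ = pRegularPart p (χ ∘ ψ) := by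
  classical
  funext a
  unfold pRegularPart
  have h : IsPRegular p (ψ a) ↔ IsPRegular p a := by
    unfold IsPRegular
    rw [MulEquiv.orderOf_eq]
  simp only [Function.comp_apply]
  by_cases ha : IsPRegular p a
  · rw [if_pos ha, if_pos (h.mpr ha)]
  · rw [if_neg ha, if_neg (fun h' => ha (h.mp h'))]

/-- (SCA) the `p`-regular rank is invariant under pullback along a group isomorphism. -/
theorem blockRank_pullBlock {A A' : Type u} [Group A] [Group A'] (p : ℕ) (ψ : A ≃* A')
    (b : Set (IrrCharacter A')) : blockRank p (BlockIso.pullBlock ψ b) = blockRank p b := by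
  classical
  unfold blockRank
  set L : (A' → ℂ) ≃ₗ[ℂ] (A → ℂ) := LinearEquiv.funCongrLeft ℂ ℂ ψ.toEquiv with hL
  have hLapp : ∀ f : A' → ℂ, L f = f ∘ ψ := fun f => rfl
  have himg : (fun θ : IrrCharacter A => pRegularPart p (θ : A → ℂ)) '' (BlockIso.pullBlock ψ b) =
      L '' ((fun χ : IrrCharacter A' => pRegularPart p (χ : A' → ℂ)) '' b) := by
    ext f
    constructor
    · rintro ⟨θ, hθ, rfl⟩
      refine ⟨pRegularPart p ((irrCompIso ψ.symm θ : IrrCharacter A') : A' → ℂ),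
        ⟨irrCompIso ψ.symm θ, hθ, rfl⟩, ?_⟩
      rw [hLapp, pRegularPart_comp]
      have h3 : ((irrCompIso ψ.symm θ : IrrCharacter A') : A' → ℂ) ∘ ψ = (θ : A → ℂ) :=
        congrArg Subtype.val (BlockIso.irrCompIso_irrCompIso_symm ψ θ)
      rw [h3]
    · rintro ⟨g, ⟨χ, hχ, rfl⟩, rfl⟩
      refine ⟨irrCompIso ψ χ, BlockIso.irrCompIso_mem_pullBlock ψ hχ, ?_⟩
      rw [hLapp, pRegularPart_comp]
      rfl
  rw [himg]
  have hmap : Submodule.span ℂ (L '' ((fun χ : IrrCharacter A' => pRegularPart p (χ : A' → ℂ)) '' b)) =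
      (Submodule.span ℂ ((fun χ : IrrCharacter A' => pRegularPart p (χ : A' → ℂ)) '' b)).map
        (L : (A' → ℂ) →ₗ[ℂ] (A → ℂ)) := by
    rw [Submodule.map_span]
    rfl
  rw [hmap]
  exact LinearEquiv.finrank_map_eq L _

end Cfsg.Agent.Lib.Helper16.KleinSCA
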