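/-
helper16: S4637 sub-leaf (SCB) of helper24's (SC): a block of the subgroup `H = ⊤` inducing `B` has
the same `p`-regular rank as `B`.
-/
import Mathlib
import Cfsg.Agent.Lib.Helper21.ClassSize
import Cfsg.Agent.Lib.Helper6.FirstMain
import Cfsg.Agent.Lib.Helper16.KleinSCA

set_option autoImplicit false

namespace Cfsg.Agent.Lib.Helper16.KleinSCB

open Cfsg Cfsg.Agent.CharLib Cfsg.Agent.Lib.Helper24 Cfsg.Agent.Lib.Helper6

universe u

/-- for `H = ⊤` the induced central character is the central character of the transported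
function. -/
theorem inducedCentralChar_top {G : Type u} [Group G] [Finite G] (ξ : (⊤ : Subgroup G) → ℂ)
    (hξ : IsClassFunction (⊤ : Subgroup G) ξ) (g : G) :
    inducedCentralChar (⊤ : Subgroup G) ξ g =
      centralChar (ξ ∘ (Subgroup.topEquiv : (⊤ : Subgroup G) ≃* G).symm) g := by
  classical
  unfold inducedCentralChar centralChar
  set ι : (⊤ : Subgroup G) ≃* G := Subgroup.topEquiv with hι
  have hval : ∀ h : (⊤ : Subgroup G), IsConj g (h : G) → ξ h = ξ (ι.symm g) := by
    intro h hh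
    obtain ⟨c, hc⟩ := isConj_iff.mp hh
    have h1 : h = (ι.symm c) * (ι.symm g) * (ι.symm c)⁻¹ := by
      apply Subtype.ext
      change (h : G) = c * g * c⁻¹
      exact hc.symm
    rw [h1, hξ]
  have hone : ι.symm 1 = 1 := map_one _
  simp only [Function.comp_apply, hone]
  rw [finsum_mem_congr rfl (fun h hh => by rw [hval h hh])]
  -- a constant sum over the class
  have hfin : ({h : (⊤ : Subgroup G) | IsConj g (h : G)}).Finite := Set.toFinite _
  rw [finsum_mem_eq_finite_toFinset_sum _ hfin, Finset.sum_const, nsmul_eq_mul]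
  have hcard : hfin.toFinset.card = (Subgroup.centralizer ({g} : Set G)).index := by
    rw [Cfsg.Agent.Lib.Helper21.index_centralizer_eq_ncard_setOf_isConj g,
      ← Set.ncard_eq_toFinset_card _ hfin]
    have himg : {x : G | IsConj g x} = (fun h : (⊤ : Subgroup G) => (h : G)) ''
        {h : (⊤ : Subgroup G) | IsConj g (h : G)} := by
      ext x
      constructor
      · intro hx
        exact ⟨⟨x, Subgroup.mem_top x⟩, hx, rfl⟩
      · rintro ⟨h, hh, rfl⟩
        exact hh
    rw [himg, Set.ncard_image_of_injective _ Subtype.val_injective]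
  rw [hcard, mul_div_assoc]

/-- (SCB) a block of the subgroup `H = ⊤` that induces `B` has the same `p`-regular rank as `B`. -/
theorem blockRank_eq_of_induced_top {G : Type u} [Group G] [Fintype G] {M : Ideal AlgInt} {p : ℕ}
    [hpp : Fact p.Prime] (hM : IsPModular p M) (H : Subgroup G) (hH : H = ⊤)
    (b : Set (IrrCharacter H)) (B : Set (IrrCharacter G)) (h : IsInducedBlock M H b B) :
    blockRank p b = blockRank p B := by
  classical
  subst hH
  have hprime : M.IsPrime := isPrime_of_isPModular hM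
  set ι : (⊤ : Subgroup G) ≃* G := Subgroup.topEquiv with hι
  obtain ⟨hb, hB, hcc⟩ := h
  have hpull : IsPBlock M (BlockIso.pullBlock ι B) := BlockIso.isPBlock_pullBlock ι hB
  obtain ⟨ξ₀, hξ₀⟩ := hb
  obtain ⟨χ₀, hχ₀⟩ := hB
  have hξ₀b : ξ₀ ∈ b := by rw [hξ₀]; exact mem_blockOf_self ξ₀
  have hχ₀B : χ₀ ∈ B := by rw [hχ₀]; exact mem_blockOf_self χ₀
  have hmem : ξ₀ ∈ BlockIso.pullBlock ι B := by
    rw [BlockIso.mem_pullBlock_iff, hχ₀]
    change SameBlock M (χ₀ : G → ℂ) ((irrCompIso ι.symm ξ₀ : IrrCharacter G) : G → ℂ)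
    apply sameBlock_symm
    intro g
    have h1 := hcc ξ₀ hξ₀b χ₀ hχ₀B g
    rw [inducedCentralChar_top (ξ₀ : (⊤ : Subgroup G) → ℂ)
      (IsCharacter.isClassFunction (IsIrrCharacter.isCharacter ξ₀.2)) g] at h1
    exact h1
  have heq : b = BlockIso.pullBlock ι B := isPBlock_eq_of_mem ⟨ξ₀, hξ₀⟩ hpull hξ₀b hmem
  rw [heq]
  exact Cfsg.Agent.Lib.Helper16.KleinSCA.blockRank_pullBlock p ι B

end Cfsg.Agent.Lib.Helper16.KleinSCB
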