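import Mathlib
import Cfsg.Prelude.Def_LocalStructure
import Cfsg.Prelude.Def_Amalgam
import Cfsg.Prelude.Def_Solvable
import Cfsg.Prelude.Def_Transfer
import Cfsg.Agent.Lib.Helper16.WCPair
import Cfsg.Agent.Lib.Helper16.QuasisimpleResidual
import Cfsg.Agent.Lib.Helper16.Irreducible3
import Cfsg.Agent.Lib.Helper8.Components
import Cfsg.Agent.Lib.Helper9.Quasisimple
import Cfsg.Agent.Lib.Helper9.FStar3

set_option autoImplicit false
open Cfsg
open scoped Pointwise commutatorElement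

namespace Cfsg.Agent.Lib.Helper16

variable {G : Type*} [Group G] {p : ℕ}

/-- A perfect group with a central subgroup `A` such that `W / A` is quasisimple is
quasisimple. -/
theorem isQuasisimple_of_central_quotient {W : Type*} [Group W] (A : Subgroup W) [A.Normal]
    (hperf : Group.IsPerfect W) (hA : A ≤ Subgroup.center W)
    (hq : Cfsg.IsQuasisimple (W ⧸ A)) : Cfsg.IsQuasisimple W := by
  have hperf' : ⁅(⊤ : Subgroup W), (⊤ : Subgroup W)⁆ = (⊤ : Subgroup W) := by
    have := hperf.commutator_eq_top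
    rwa [commutator_def] at this
  -- normal proper subgroups are central
  have key : ∀ N : Subgroup W, N.Normal → N ≠ ⊤ → N ≤ Subgroup.center W := by
    intro N hN hne
    have hNbar : (N.map (QuotientGroup.mk' A)).Normal :=
      hN.map _ (QuotientGroup.mk'_surjective A)
    have hne' : N.map (QuotientGroup.mk' A) ≠ ⊤ := by
      intro h
      apply hne
      have h2 : N ⊔ A = ⊤ := by
        have := Subgroup.comap_map_eq (QuotientGroup.mk' A) N
        rw [h, Subgroup.comap_top, QuotientGroup.ker_mk'] at this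
        exact this.symm
      have hAc : IsMulCommutative ↥A := by
        refine ⟨⟨fun a b => ?_⟩⟩
        exact Subtype.ext (Subgroup.mem_center_iff.mp (hA b.2) a)
      have h3 : commutator W ≤ N :=
        Subgroup.Normal.commutator_le_of_self_sup_commutative_eq_top h2 hAc
      rw [hperf.commutator_eq_top] at h3
      exact top_le_iff.mp h3
    have hcen := Cfsg.Agent.Lib.Helper9.IsQuasisimple_normal_le_center hq _ hne'
    -- ⁅N, ⊤⁆ ≤ A
    have h1 : ⁅(⊤ : Subgroup W), N⁆ ≤ A := by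
      rw [Subgroup.commutator_le]
      intro w _ n hn
      have hc : (QuotientGroup.mk' A) n ∈ Subgroup.center (W ⧸ A) :=
        hcen (Subgroup.mem_map_of_mem _ hn)
      have h2 := Subgroup.mem_center_iff.mp hc ((QuotientGroup.mk' A) w)
      rw [← QuotientGroup.eq_one_iff, commutatorElement_def]
      show (QuotientGroup.mk' A) (w * n * w⁻¹ * n⁻¹) = 1
      simp only [map_mul, map_inv]
      rw [h2]; group
    have h2 : ⁅⁅(⊤ : Subgroup W), N⁆, (⊤ : Subgroup W)⁆ = ⊥ := by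
      rw [Subgroup.commutator_eq_bot_iff_le_centralizer]
      intro x hx
      have := hA (h1 hx)
      rw [Subgroup.mem_centralizer_iff]
      intro y _
      exact (Subgroup.mem_center_iff.mp this y)
    have h3 : ⁅(⊤ : Subgroup W), N⁆ = ⊥ :=
      Cfsg.Agent.Lib.Helper9.commutator_eq_bot_of_perfect_of_commutator_commutator hperf' h2
    intro n hn
    rw [Subgroup.mem_center_iff]
    intro w
    have : ⁅w, n⁆ ∈ ⁅(⊤ : Subgroup W), N⁆ :=
      Subgroup.commutator_mem_commutator (Subgroup.mem_top w) hn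
    rw [h3, Subgroup.mem_bot, commutatorElement_eq_one_iff_mul_comm] at this
    exact this
  apply Cfsg.Agent.Lib.Helper9.isQuasisimple_of_normal_le_center hperf _ key
  intro htop
  -- W abelian contradicts W/A not solvable
  have hns := Cfsg.Agent.Lib.Helper9.IsQuasisimple_not_isSolvable hq
  apply hns
  have hcomm : ∀ a b : W, a * b = b * a := by
    intro a b
    have : b ∈ Subgroup.center W := by rw [htop]; exact Subgroup.mem_top b
    exact Subgroup.mem_center_iff.mp this a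
  have : IsMulCommutative (W ⧸ A) := by
    refine ⟨⟨fun a b => ?_⟩⟩
    obtain ⟨a, rfl⟩ := QuotientGroup.mk_surjective a
    obtain ⟨b, rfl⟩ := QuotientGroup.mk_surjective b
    rw [← QuotientGroup.mk_mul, ← QuotientGroup.mk_mul, hcomm]
  exact Group.isSolvable_of_comm (fun a b => this.is_comm.comm a b)


/-- image of `A` in `E / N`. -/
def barOf (E : Subgroup G) (N : Subgroup ↥E) [N.Normal] (A : Subgroup G) : Subgroup (↥E ⧸ N) :=
  (A.subgroupOf E).map (QuotientGroup.mk' N)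

theorem barOf_mono (E : Subgroup G) (N : Subgroup ↥E) [N.Normal] {A B : Subgroup G}
    (h : A ≤ B) : barOf E N A ≤ barOf E N B :=
  Subgroup.map_mono (Subgroup.subgroupOf_mono E h)

theorem subgroupOf_commutator {E A B : Subgroup G} (hA : A ≤ E) (hB : B ≤ E) :
    (⁅A, B⁆).subgroupOf E = ⁅A.subgroupOf E, B.subgroupOf E⁆ := by
  apply Subgroup.map_injective E.subtype_injective
  have hAB : ⁅A, B⁆ ≤ E := (Subgroup.commutator_mono hA hB).trans (Subgroup.commutator_le_self E)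
  rw [Subgroup.map_commutator, Subgroup.map_subgroupOf_eq_of_le hAB,
    Subgroup.map_subgroupOf_eq_of_le hA, Subgroup.map_subgroupOf_eq_of_le hB]

theorem barOf_commutator (E : Subgroup G) (N : Subgroup ↥E) [N.Normal] {A B : Subgroup G}
    (hA : A ≤ E) (hB : B ≤ E) :
    barOf E N ⁅A, B⁆ = ⁅barOf E N A, barOf E N B⁆ := by
  unfold barOf
  rw [subgroupOf_commutator hA hB, Subgroup.map_commutator]

theorem le_sup_of_barOf_le (E : Subgroup G) (N : Subgroup ↥E) [N.Normal] {A B : Subgroup G}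
    (hA : A ≤ E) (h : barOf E N A ≤ barOf E N B) : A ≤ B ⊔ N.map E.subtype := by
  unfold barOf at h
  rw [Subgroup.map_le_map_iff, QuotientGroup.ker_mk'] at h
  have h2 := Subgroup.map_mono (f := E.subtype) h
  rw [Subgroup.map_subgroupOf_eq_of_le hA, Subgroup.map_sup] at h2
  refine h2.trans (sup_le_sup_right ?_ _)
  rw [Subgroup.subgroupOf_map_subtype]
  exact inf_le_left

theorem barOf_eq_bot_iff (E : Subgroup G) (N : Subgroup ↥E) [N.Normal] {A : Subgroup G}
    (hA : A ≤ E) : barOf E N A = ⊥ ↔ A ≤ N.map E.subtype := by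
  unfold barOf
  rw [Subgroup.map_eq_bot_iff, QuotientGroup.ker_mk']
  constructor
  · intro h
    have h2 := Subgroup.map_mono (f := E.subtype) h
    rwa [Subgroup.map_subgroupOf_eq_of_le hA] at h2
  · intro h x hx
    obtain ⟨y, hy, hxy⟩ := h (Subgroup.mem_subgroupOf.mp hx)
    have : y = x := Subtype.ext hxy
    rw [← this]; exact hy

theorem barOf_normal [Finite G] (E : Subgroup G) (N : Subgroup ↥E) [N.Normal] {A : Subgroup G}
    (hA : A ≤ E) (hEA : E ≤ Subgroup.normalizer (A : Set G)) : (barOf E N A).Normal := by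
  have : (A.subgroupOf E).Normal := (Subgroup.normal_subgroupOf_iff_le_normalizer hA).mpr hEA
  exact this.map _ (QuotientGroup.mk'_surjective N)

theorem barOf_isPGroup (E : Subgroup G) (N : Subgroup ↥E) [N.Normal] {A : Subgroup G}
    (hA : IsPGroup p A) : IsPGroup p (barOf E N A) :=
  (hA.comap_subtype : IsPGroup p (A.subgroupOf E)).map _

theorem barOf_OpOf [Finite G] [Fact p.Prime] (E : Subgroup G) (N : Subgroup ↥E) [N.Normal] :
    barOf E N (OpOf p E) = pResidual p (↥E ⧸ N) := by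
  unfold barOf
  rw [pResidual_map_of_surjective (QuotientGroup.mk' N) (QuotientGroup.mk'_surjective N)]
  congr 1
  apply Subgroup.map_injective E.subtype_injective
  rw [Subgroup.map_subgroupOf_eq_of_le (OpOf_le E), pResidual_map_subtype]


theorem barOf_sup (E : Subgroup G) (N : Subgroup ↥E) [N.Normal] {A B : Subgroup G}
    (hA : A ≤ E) (hB : B ≤ E) : barOf E N (A ⊔ B) = barOf E N A ⊔ barOf E N B := by
  unfold barOf
  rw [Subgroup.subgroupOf_sup hA hB, Subgroup.map_sup]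

/-- A weakly closed `Q ≤ E` lying in a subgroup `C₀ ⊴ E` that normalizes `Q` is normal in `E`. -/
theorem wc_normal_of_le_normal [Finite G] [Fact p.Prime] {Q : Subgroup G} (hQp : IsPGroup p Q)
    (hwc : IsWeaklyClosedSubgroup p Q) {E C₀ : Subgroup G}
    (hQC : Q ≤ C₀) (hEC : E ≤ Subgroup.normalizer (C₀ : Set G))
    (hCQ : C₀ ≤ Subgroup.normalizer (Q : Set G)) : E ≤ Subgroup.normalizer (Q : Set G) := by
  have hQP : Q ≤ pCoreOf p C₀ := le_pCoreOf hQC hCQ hQp
  have hEP : E ≤ Subgroup.normalizer ((pCoreOf p C₀ : Subgroup G) : Set G) :=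
    hEC.trans (normalizer_le_normalizer_pCoreOf C₀)
  intro e he
  rw [Subgroup.mem_normalizer_iff_map_conj_eq]
  show Q.map (MulAut.conj e).toMonoidHom = Q
  apply wc_eq_of_le_pgroup hwc (pCoreOf_isPGroup C₀) hQP e
  calc Q.map (MulAut.conj e).toMonoidHom ≤ (pCoreOf p C₀).map (MulAut.conj e).toMonoidHom :=
        Subgroup.map_mono hQP
    _ = pCoreOf p C₀ := map_conj_eq_of_mem_normalizer (hEP he)


theorem large_quasisimple_core [Finite G] [Fact p.Prime] (Q : Subgroup G) (hQp : IsPGroup p ↥Q)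
    (hQ1 : Q ≠ ⊥) (hQ : Cfsg.IsLarge Q) (U : Subgroup G) (hUp : IsPGroup p U) (hU1 : U ≠ ⊥)
    (E : Subgroup G) (hQE : Q ≤ E) (hEU : E ≤ Subgroup.normalizer ((U : Subgroup G) : Set G))
    (hQn : ¬ E ≤ Subgroup.normalizer ((Q : Subgroup G) : Set G))
    [hn : ((Subgroup.centralizer ((U : Subgroup G) : Set G)).subgroupOf E).Normal]
    (hred : Cfsg.pCore p (↥E ⧸ (Subgroup.centralizer ((U : Subgroup G) : Set G)).subgroupOf E) = ⊥)
    (hqs : Cfsg.IsQuasisimple ↥(((Cfsg.pResidual p ↥E) ⊔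
      (Subgroup.centralizer ((U : Subgroup G) : Set G)).subgroupOf E).map
      (QuotientGroup.mk' ((Subgroup.centralizer ((U : Subgroup G) : Set G)).subgroupOf E)))) :
    OpOf p (weakClosure Q E) ≤ E ∧
    OpOf p E ⊔ (E ⊓ Subgroup.centralizer (U : Set G)) =
      OpOf p (weakClosure Q E) ⊔ (E ⊓ Subgroup.centralizer (U : Set G)) ∧
    barOf E ((Subgroup.centralizer ((U : Subgroup G) : Set G)).subgroupOf E)
      (OpOf p (weakClosure Q E)) =
      ((Cfsg.pResidual p ↥E) ⊔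
      (Subgroup.centralizer ((U : Subgroup G) : Set G)).subgroupOf E).map
      (QuotientGroup.mk' ((Subgroup.centralizer ((U : Subgroup G) : Set G)).subgroupOf E)) ∧
    ⁅OpOf p (weakClosure Q E) ⊓ Subgroup.centralizer (U : Set G), OpOf p (weakClosure Q E)⁆ ≤
      pCoreOf p (OpOf p (weakClosure Q E)) ∧
    pCoreOf p (OpOf p (weakClosure Q E)) ≤ Subgroup.centralizer (U : Set G) ∧
    ⁅OpOf p (weakClosure Q E), OpOf p (weakClosure Q E)⁆ = OpOf p (weakClosure Q E) ∧
    ∀ Y : Subgroup G, Y ≤ E → IsPGroup p ↥Y →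
      ¬ Y ≤ Subgroup.centralizer ((U : Subgroup G) : Set G) →
      ⁅OpOf p (weakClosure Q E), Y⁆ = OpOf p (weakClosure Q E) := by
  have hwc := large_isWeaklyClosedSubgroup hQp hQ1 hQ
  have hCNQ : Subgroup.centralizer (U : Set G) ≤ Subgroup.normalizer (Q : Set G) :=
    large_centralizer_le_normalizer hQp hQ hUp hU1 (hQE.trans hEU)
  have hEC : E ≤ Subgroup.normalizer ((Subgroup.centralizer (U : Set G) : Subgroup G) : Set G) :=
    hEU.trans (normalizer_le_normalizer_centralizer U)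
  have hER : E ≤ Subgroup.normalizer ((weakClosure Q E : Subgroup G) : Set G) :=
    Subgroup.le_normalizer.trans (normalizer_le_normalizer_weakClosure Q E)
  have hEEr : E ≤ Subgroup.normalizer ((OpOf p (weakClosure Q E) : Subgroup G) : Set G) :=
    hER.trans (normalizer_le_normalizer_OpOf _)
  have hRE : weakClosure Q E ≤ E := weakClosure_le Q E
  have hErE : OpOf p (weakClosure Q E) ≤ E := (OpOf_le _).trans hRE
  have hsup := wc_residual_sup hQp hwc hQE
  have hcommQ := wc_residual_comm hQp hwc hQE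
  have hQR : Q ≤ weakClosure Q E := le_weakClosure hQE
  obtain ⟨-, hlw, -⟩ := large_weakClosure Q hQp hQ1 hQ E hQE U hUp hU1 hEU
  set C := Subgroup.centralizer (U : Set G) with hC
  set R := weakClosure Q E with hR
  set Er := OpOf p R with hEr
  have hNmap : (C.subgroupOf E).map E.subtype = E ⊓ C := by
    rw [Subgroup.subgroupOf_map_subtype, inf_comm]
  have hEEC : E ≤ Subgroup.normalizer ((E ⊓ C : Subgroup G) : Set G) :=
    inf_le_normalizer_inf Subgroup.le_normalizer hEC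
  -- the quotient
  have hF : ((Cfsg.pResidual p ↥E) ⊔ C.subgroupOf E).map (QuotientGroup.mk' (C.subgroupOf E)) =
      pResidual p (↥E ⧸ C.subgroupOf E) := by
    rw [Subgroup.map_sup, pResidual_map_of_surjective (QuotientGroup.mk' (C.subgroupOf E))
      (QuotientGroup.mk'_surjective _)]
    have : (C.subgroupOf E).map (QuotientGroup.mk' (C.subgroupOf E)) = ⊥ := by
      rw [Subgroup.map_eq_bot_iff, QuotientGroup.ker_mk']
    rw [this, sup_bot_eq]
  have hqs' : Cfsg.IsQuasisimple ↥(pResidual p (↥E ⧸ C.subgroupOf E)) := hF ▸ hqs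
  have hQbar : barOf E (C.subgroupOf E) Q ≠ ⊥ := by
    intro h
    rw [barOf_eq_bot_iff E _ hQE, hNmap] at h
    exact hQn (wc_normal_of_le_normal hQp hwc h hEEC (inf_le_right.trans hCNQ))
  have hQbarp : IsPGroup p (barOf E (C.subgroupOf E) Q) := barOf_isPGroup E _ hQp
  have hp : p ∣ Nat.card (↥E ⧸ C.subgroupOf E) := by
    rcases hQbarp.card_eq_or_dvd with h | h
    · exact absurd (Subgroup.card_eq_one.mp h) hQbar
    · exact h.trans (Subgroup.card_subgroup_dvd_card _)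
  obtain ⟨-, hmain, -, -⟩ := quasisimple_residual_main hp hred hqs'
  -- (P2): O^p(E) ≤ R (E ∩ C)
  have hRbarn : (barOf E (C.subgroupOf E) R).Normal := barOf_normal E _ hRE hER
  have hP2 : OpOf p E ≤ R ⊔ (E ⊓ C) := by
    rw [← hNmap]
    apply le_sup_of_barOf_le E _ (OpOf_le E)
    rw [barOf_OpOf]
    refine (hmain _ hQbarp hQbar).2.trans ?_
    apply iSup_le
    intro k
    rintro _ ⟨q, hq, rfl⟩
    exact hRbarn.conj_mem q (barOf_mono E _ hQR hq) k
  have hM : E ≤ Subgroup.normalizer ((Er ⊔ (E ⊓ C) : Subgroup G) : Set G) :=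
    le_normalizer_sup hEEr hEEC
  have ho1 : OpOf p E ⊔ (E ⊓ C) = Er ⊔ (E ⊓ C) := by
    apply le_antisymm
    · apply sup_le _ le_sup_right
      have h1 : OpOf p E ≤ (Er ⊔ (E ⊓ C)) ⊔ Q := by
        calc OpOf p E ≤ R ⊔ (E ⊓ C) := hP2
          _ = (Er ⊔ Q) ⊔ (E ⊓ C) := by rw [hsup]
          _ = (Er ⊔ (E ⊓ C)) ⊔ Q := by rw [sup_assoc, sup_comm Q, ← sup_assoc]
      calc OpOf p E = OpOf p (OpOf p E) := (OpOf_idem E).symm
        _ ≤ OpOf p ((Er ⊔ (E ⊓ C)) ⊔ Q) := OpOf_mono h1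
        _ ≤ Er ⊔ (E ⊓ C) := OpOf_sup_le hQp (hQE.trans hM)
    · exact sup_le ((OpOf_mono hRE).trans le_sup_left) le_sup_right
  have hbarC : barOf E (C.subgroupOf E) (E ⊓ C) = ⊥ :=
    (barOf_eq_bot_iff E _ inf_le_left).mpr hNmap.ge
  have ho4' : barOf E (C.subgroupOf E) Er = pResidual p (↥E ⧸ C.subgroupOf E) := by
    rw [← barOf_OpOf]
    apply le_antisymm (barOf_mono E _ (OpOf_mono hRE))
    calc barOf E (C.subgroupOf E) (OpOf p E)
        ≤ barOf E (C.subgroupOf E) (Er ⊔ (E ⊓ C)) := barOf_mono E _ (le_sup_left.trans ho1.le)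
      _ = barOf E (C.subgroupOf E) Er ⊔ barOf E (C.subgroupOf E) (E ⊓ C) :=
          barOf_sup E _ hErE inf_le_left
      _ = barOf E (C.subgroupOf E) Er := by rw [hbarC, sup_bot_eq]
  have ho5 : ⁅Er ⊓ C, Er⁆ ≤ pCoreOf p Er := by
    apply le_pCoreOf
    · exact (Subgroup.commutator_mono inf_le_left le_rfl).trans (Subgroup.commutator_le_self Er)
    · exact le_normalizer_commutator
        (inf_le_normalizer_inf Subgroup.le_normalizer (hErE.trans hEC)) Subgroup.le_normalizer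
    · apply (pCoreOf_isPGroup R).to_le
      calc ⁅Er ⊓ C, Er⁆ ≤ ⁅C, R⁆ := Subgroup.commutator_mono inf_le_right (OpOf_le R)
        _ = ⁅R, C⁆ := Subgroup.commutator_comm _ _
        _ ≤ pCoreOf p R := hlw
  have hOpE : pCoreOf p E ≤ C := by
    have h1 : barOf E (C.subgroupOf E) (pCoreOf p E) = ⊥ := by
      rw [← le_bot_iff, ← hred]
      exact le_pCore (barOf_normal E _ (pCoreOf_le E) (le_normalizer_pCoreOf E))
        (barOf_isPGroup E _ (pCoreOf_isPGroup E))
    rw [barOf_eq_bot_iff E _ (pCoreOf_le E), hNmap] at h1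
    exact h1.trans inf_le_right
  have ho6 : pCoreOf p Er ≤ C := (pCoreOf_le_pCoreOf_of_normal hErE hEEr).trans hOpE
  have hperfbar : ⁅pResidual p (↥E ⧸ C.subgroupOf E), pResidual p (↥E ⧸ C.subgroupOf E)⁆ =
      pResidual p (↥E ⧸ C.subgroupOf E) := Subgroup.isPerfect_iff.mp hqs'.1
  have hmod : ∀ X : Subgroup G, X ≤ Er → Er ≤ X ⊔ (E ⊓ C) → Er ≤ X ⊔ (Er ⊓ C) := by
    intro X hX h e he
    have he' : e ∈ (E ⊓ C) ⊔ X := by rw [sup_comm]; exact h he
    obtain ⟨c, hc, x, hx, rfl⟩ :=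
      Cfsg.Agent.Lib.Helper8.mem_sup_of_le_normalizer ((hX.trans hErE).trans hEEC) he'
    have hcEr : c ∈ Er := by
      have : c = (c * x) * x⁻¹ := by group
      rw [this]; exact Er.mul_mem he (Er.inv_mem (hX hx))
    exact Subgroup.mul_mem _ (Subgroup.mem_sup_right ⟨hcEr, hc.2⟩) (Subgroup.mem_sup_left hx)
  have hQNEr : Q ≤ Subgroup.normalizer (Er : Set G) := hQE.trans hEEr
  have ho2 : ⁅Er, Er⁆ = Er := by
    apply le_antisymm (Subgroup.commutator_le_self Er)
    have h1 : Er ≤ ⁅Er, Er⁆ ⊔ (E ⊓ C) := by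
      rw [← hNmap]
      apply le_sup_of_barOf_le E _ hErE
      rw [barOf_commutator E _ hErE hErE, ho4', hperfbar]
    have h2 := hmod _ (Subgroup.commutator_le_self Er) h1
    have hQEr : Q ⊓ Er ≤ ⁅Er, Er⁆ := by
      rintro x ⟨hxQ, hxE⟩
      obtain ⟨j, hj⟩ := exists_pow_eq_one_of_isPGroup hQp hxQ
      exact mem_of_OpOf_eq_self (OpOf_idem R) (Subgroup.commutator_le_self Er)
        (Subgroup.normalizer_commutator_ge_left _ _) le_rfl hxE hj
    have hYQ : ⁅Er ⊓ C, Q⁆ ≤ ⁅Er, Er⁆ := by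
      refine le_trans (le_inf ?_ ?_) hQEr
      · exact (Subgroup.commutator_mono inf_le_right le_rfl).trans
          (Subgroup.le_normalizer_iff_commutator_le_right.mp hCNQ)
      · exact (Subgroup.commutator_mono inf_le_left le_rfl).trans hcommQ.le
    calc Er = ⁅Er, Q⁆ := hcommQ.symm
      _ ≤ ⁅⁅Er, Er⁆ ⊔ (Er ⊓ C), Q⁆ := Subgroup.commutator_mono h2 le_rfl
      _ = ⁅Q, ⁅Er, Er⁆ ⊔ (Er ⊓ C)⁆ := Subgroup.commutator_comm _ _
      _ ≤ ⁅Er, Er⁆ := by
        apply commutator_sup_le' Subgroup.le_normalizer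
          (inf_le_left.trans (Subgroup.normalizer_commutator_ge_left _ _))
        · exact Subgroup.le_normalizer_iff_commutator_le_right.mp
            (le_normalizer_commutator hQNEr hQNEr)
        · rw [Subgroup.commutator_comm]; exact hYQ
  refine ⟨hErE, ho1, ho4'.trans hF.symm, ho5, ho6, ho2, ?_⟩
  intro Y hYE hYp hYC
  have hYEr : Y ≤ Subgroup.normalizer (Er : Set G) := hYE.trans hEEr
  have hXle : ⁅Er, Y⁆ ≤ Er := Subgroup.le_normalizer_iff_commutator_le_left.mp hYEr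
  apply le_antisymm hXle
  have hYbar : barOf E (C.subgroupOf E) Y ≠ ⊥ := by
    intro h
    rw [barOf_eq_bot_iff E _ hYE, hNmap] at h
    exact hYC (h.trans inf_le_right)
  have h1 : Er ≤ ⁅Er, Y⁆ ⊔ (E ⊓ C) := by
    rw [← hNmap]
    apply le_sup_of_barOf_le E _ hErE
    rw [barOf_commutator E _ hErE hYE, ho4', (hmain _ (barOf_isPGroup E _ hYp) hYbar).1]
  have h2 := hmod _ hXle h1
  have hErX : Er ≤ Subgroup.normalizer ((⁅Er, Y⁆ : Subgroup G) : Set G) :=
    Subgroup.normalizer_commutator_ge_left _ _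
  have h3 : Er ≤ ⁅Er, Y⁆ ⊔ pCoreOf p Er := by
    calc Er = ⁅Er, Er⁆ := ho2.symm
      _ ≤ ⁅Er, ⁅Er, Y⁆ ⊔ (Er ⊓ C)⁆ := Subgroup.commutator_mono le_rfl h2
      _ ≤ ⁅Er, Y⁆ ⊔ pCoreOf p Er := by
        apply commutator_sup_le' (le_sup_left.trans Subgroup.le_normalizer)
          (inf_le_left.trans (le_normalizer_sup hErX (le_normalizer_pCoreOf Er)))
        · exact (Subgroup.le_normalizer_iff_commutator_le_right.mp hErX).trans le_sup_left
        · rw [Subgroup.commutator_comm]; exact ho5.trans le_sup_right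
  calc Er = OpOf p Er := (OpOf_idem R).symm
    _ ≤ OpOf p (⁅Er, Y⁆ ⊔ pCoreOf p Er) := OpOf_mono h3
    _ ≤ ⁅Er, Y⁆ := OpOf_sup_le (pCoreOf_isPGroup Er) ((pCoreOf_le Er).trans hErX)


/-- `Er / (Er ∩ C) ≃ image of Er in E / (E ∩ C)`. -/
theorem isQuasisimple_quotient_of_barOf {E C Er : Subgroup G} (hErE : Er ≤ E)
    [hn : (C.subgroupOf E).Normal] [hn2 : (C.subgroupOf Er).Normal]
    (F : Subgroup (↥E ⧸ C.subgroupOf E)) (hF : barOf E (C.subgroupOf E) Er = F)
    (hqs : Cfsg.IsQuasisimple ↥F) : Cfsg.IsQuasisimple (↥Er ⧸ C.subgroupOf Er) := by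
  let φ : ↥Er →* ↥E ⧸ C.subgroupOf E :=
    (QuotientGroup.mk' (C.subgroupOf E)).comp (Subgroup.inclusion hErE)
  have hker : φ.ker = C.subgroupOf Er := by
    ext x
    rw [MonoidHom.mem_ker]
    show (QuotientGroup.mk' (C.subgroupOf E)) (Subgroup.inclusion hErE x) = 1 ↔ _
    rw [QuotientGroup.mk'_apply, QuotientGroup.eq_one_iff, Subgroup.mem_subgroupOf,
      Subgroup.mem_subgroupOf]
    rfl
  have hrange : φ.range = F := by
    rw [← hF]
    show ((QuotientGroup.mk' (C.subgroupOf E)).comp (Subgroup.inclusion hErE)).range = _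
    rw [MonoidHom.range_comp, Subgroup.inclusion_range]
    rfl
  have e1 : ↥Er ⧸ φ.ker ≃* ↥φ.range := QuotientGroup.quotientKerEquivRange φ
  have e2 : ↥Er ⧸ C.subgroupOf Er ≃* ↥Er ⧸ φ.ker := QuotientGroup.quotientMulEquivOfEq hker.symm
  have e3 : ↥φ.range ≃* ↥F := MulEquiv.subgroupCongr hrange
  exact Cfsg.Agent.Lib.Helper8.isQuasisimple_of_mulEquiv (e2.trans (e1.trans e3)).symm hqs


theorem isQuasisimple_quotient_pCore [Fact p.Prime] {C Er : Subgroup G}
    [hn2 : (C.subgroupOf Er).Normal]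
    (hperf : ⁅Er, Er⁆ = Er) (ho5 : ⁅Er ⊓ C, Er⁆ ≤ pCoreOf p Er) (ho6 : pCoreOf p Er ≤ C)
    (hqs : Cfsg.IsQuasisimple (↥Er ⧸ C.subgroupOf Er)) :
    Cfsg.IsQuasisimple (↥Er ⧸ Cfsg.pCore p ↥Er) := by
  have hPC : Cfsg.pCore p ↥Er ≤ C.subgroupOf Er := fun x hx =>
    Subgroup.mem_subgroupOf.mpr (ho6 ⟨x, hx, rfl⟩)
  have hAn : ((C.subgroupOf Er).map (QuotientGroup.mk' (Cfsg.pCore p ↥Er))).Normal :=
    hn2.map _ (QuotientGroup.mk'_surjective _)
  have e5 := QuotientGroup.quotientQuotientEquivQuotient (Cfsg.pCore p ↥Er) (C.subgroupOf Er) hPC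
  have hq' := Cfsg.Agent.Lib.Helper8.isQuasisimple_of_mulEquiv e5.symm hqs
  have hP : Group.IsPerfect ↥Er := Subgroup.isPerfect_iff.mpr hperf
  have hperfW : Group.IsPerfect (↥Er ⧸ Cfsg.pCore p ↥Er) := inferInstance
  apply isQuasisimple_of_central_quotient _ hperfW _ hq'
  rintro _ ⟨c, hc, rfl⟩
  rw [Subgroup.mem_center_iff]
  intro w
  obtain ⟨x, rfl⟩ := QuotientGroup.mk_surjective w
  show (x : ↥Er ⧸ Cfsg.pCore p ↥Er) * (QuotientGroup.mk' (Cfsg.pCore p ↥Er)) c =
    (QuotientGroup.mk' (Cfsg.pCore p ↥Er)) c * x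
  rw [QuotientGroup.mk'_apply, ← QuotientGroup.mk_mul, ← QuotientGroup.mk_mul, QuotientGroup.eq]
  have hcC : (c : G) ∈ C := Subgroup.mem_subgroupOf.mp hc
  have h1 : ⁅(c : G)⁻¹, (x : G)⁻¹⁆ ∈ pCoreOf p Er :=
    ho5 (Subgroup.commutator_mem_commutator ⟨Er.inv_mem c.2, C.inv_mem hcC⟩ (Er.inv_mem x.2))
  obtain ⟨z, hz, hzv⟩ := h1
  have hz' : z = (x * c)⁻¹ * (c * x) := by
    apply Subtype.ext
    have : (z : G) = ⁅(c : G)⁻¹, (x : G)⁻¹⁆ := hzv
    rw [this]
    simp only [commutatorElement_def, Subgroup.coe_mul, Subgroup.coe_inv]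
    group
  rw [← hz']; exact hz

end Cfsg.Agent.Lib.Helper16
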