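/-
helper16: S4539 leaf (GG) `gram_gdec` (planner helper27, notes/S4539_leaves.lean).
`gram_gdec_of` = the leaf with (GR) and (LIN) as explicit hypotheses; the exact-name wrapper
`gram_gdec` is in `MajSubGGW` once GR/LIN are on main.
-/
import Cfsg.Agent.Lib.Helper27.MajSubDefs
import Cfsg.Agent.Lib.Helper6.DefectOrder

set_option autoImplicit false

namespace Cfsg.Agent.Lib.Helper16.MajSubGG

open Cfsg Cfsg.Agent.CharLib Cfsg.Agent.Lib.Helper24 Cfsg.Agent.Lib.Helper6 Cfsg.Agent.Lib.Helper23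
open Cfsg.Agent.Lib.Helper23.Subsec Cfsg.Agent.Lib.Helper27.MajSub
open scoped ComplexConjugate

universe u w

section GC

variable {G : Type u} [Group G] [Fintype G] {M : Ideal AlgInt} {p : ℕ} [hpp : Fact p.Prime]

/-- `∑_ζ R_{χζ} N_{ζζ₁} = (gdec_χ C' Dᵀ)_{ζ₁}` when `N = D C' Dᵀ`. -/
theorem sum_zCoeff_mul_N (C : Subgroup G) [Fintype C] [Fintype (IrrCharacter C)]
    [DecidableEq (IrrCharacter C)] (e : Set (IrrCharacter C)) (z : G) (χ : IrrCharacter G)
    {r : ℕ} (D : Matrix (IrrCharacter C) (Fin r) ℤ) (C' : Matrix (Fin r) (Fin r) ℤ)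
    (Nm : IrrCharacter C → IrrCharacter C → ℤ)
    (hN : Matrix.of Nm = D * C' * D.transpose) (ζ₁ : IrrCharacter C) :
    ∑ ζ : IrrCharacter C, zCoeff C e z χ ζ * (Nm ζ ζ₁ : ℂ) =
      ∑ a : Fin r, ∑ b : Fin r, gdec C e D z χ a * ((C' a b : ℤ) : ℂ) * ((D ζ₁ b : ℤ) : ℂ) := by
  have hN' : ∀ ζ, Nm ζ ζ₁ = ∑ b : Fin r, (∑ a : Fin r, D ζ a * C' a b) * D ζ₁ b := by
    intro ζ
    have := congrFun (congrFun hN ζ) ζ₁
    simpa [Matrix.mul_apply, Matrix.transpose_apply] using this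
  simp only [gdec, hN']
  push_cast
  simp only [Finset.mul_sum, Finset.sum_mul]
  rw [Finset.sum_comm]
  conv_rhs => rw [Finset.sum_comm]
  refine Finset.sum_congr rfl fun b _ => ?_
  rw [Finset.sum_comm]
  refine Finset.sum_congr rfl fun a _ => ?_
  refine Finset.sum_congr rfl fun ζ _ => ?_
  ring

/-- conjugate transpose of an integer matrix cast to `ℂ`. -/
theorem conjTranspose_map_intCast {m n : Type*} (A : Matrix m n ℤ) :
    (A.map (Int.cast : ℤ → ℂ)).conjTranspose = (A.transpose).map (Int.cast : ℤ → ℂ) := by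
  ext i j
  simp [Matrix.conjTranspose_apply, Matrix.map_apply, Matrix.transpose_apply]

/-- (GG) with (GR) and (LIN) as hypotheses. -/
theorem gram_gdec_of (C : Subgroup G) [Fintype C] [Fintype (IrrCharacter C)]
    [DecidableEq (IrrCharacter C)] [Fintype (IrrCharacter G)]
    (B : Set (IrrCharacter G)) [DecidablePred (· ∈ B)]
    (e : Set (IrrCharacter C)) (z : G)
    {r : ℕ} (D : Matrix (IrrCharacter C) (Fin r) ℤ)
    (C' : Matrix (Fin r) (Fin r) ℤ) (d : ℕ)
    (hN : Matrix.of (nMat p e) = D * C' * D.transpose)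
    (hC'symm : C'.transpose = C')
    (hGR : ∀ ζ₁ ζ₂ : IrrCharacter C,
      ∑ χ ∈ Finset.univ.filter (· ∈ B),
        conj (∑ ζ : IrrCharacter C, zCoeff C e z χ ζ * (nMat p e ζ ζ₁ : ℂ)) *
          (∑ ζ : IrrCharacter C, zCoeff C e z χ ζ * (nMat p e ζ ζ₂ : ℂ)) =
        (p : ℂ) ^ d * (nMat p e ζ₁ ζ₂ : ℂ))
    (hLIN : ∀ Gm : Matrix (Fin r) (Fin r) ℂ,
      (D * C').map (Int.cast : ℤ → ℂ) * Gm * (C' * D.transpose).map (Int.cast : ℤ → ℂ) =
        ((((p : ℤ) ^ d : ℤ)) : ℂ) • (D * C' * D.transpose).map (Int.cast : ℤ → ℂ) →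
      Gm = (D.transpose * D).map (Int.cast : ℤ → ℂ))
    (a b : Fin r) :
    ∑ χ ∈ Finset.univ.filter (· ∈ B),
      conj (gdec C e D z χ a) * gdec C e D z χ b =
      (((D.transpose * D) a b : ℤ) : ℂ) := by
  classical
  -- the matrix of generalized decomposition numbers on `B`
  set X : Matrix (IrrCharacter G) (Fin r) ℂ :=
    Matrix.of fun χ i => if χ ∈ B then gdec C e D z χ i else 0 with hX
  set Dc : Matrix (IrrCharacter C) (Fin r) ℂ := D.map (Int.cast : ℤ → ℂ) with hDc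
  set Cc : Matrix (Fin r) (Fin r) ℂ := C'.map (Int.cast : ℤ → ℂ) with hCc
  -- `Y = R N` on `B`
  have hY : ∀ χ ζ₁, (X * Cc * Dc.transpose) χ ζ₁ =
      if χ ∈ B then ∑ ζ : IrrCharacter C, zCoeff C e z χ ζ * (nMat p e ζ ζ₁ : ℂ) else 0 := by
    intro χ ζ₁
    by_cases hχ : χ ∈ B
    · rw [if_pos hχ, sum_zCoeff_mul_N C e z χ D C' (nMat p e) hN ζ₁]
      simp only [Matrix.mul_apply, Matrix.transpose_apply, hX, hDc, hCc, Matrix.of_apply,
        Matrix.map_apply, if_pos hχ, Finset.sum_mul]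
      rw [Finset.sum_comm]
    · rw [if_neg hχ]
      simp only [Matrix.mul_apply, hX, Matrix.of_apply, if_neg hχ, zero_mul, Finset.sum_const_zero]
  have hGram : (X * Cc * Dc.transpose).conjTranspose * (X * Cc * Dc.transpose) =
      ((((p : ℤ) ^ d : ℤ)) : ℂ) • (D * C' * D.transpose).map (Int.cast : ℤ → ℂ) := by
    ext ζ₁ ζ₂
    rw [Matrix.mul_apply]
    simp only [Matrix.conjTranspose_apply, hY, Matrix.smul_apply, smul_eq_mul]
    rw [← hN]
    simp only [Matrix.map_apply, Matrix.of_apply]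
    have hc : ((((p : ℤ) ^ d : ℤ)) : ℂ) = (p : ℂ) ^ d := by push_cast; rfl
    rw [hc, ← hGR ζ₁ ζ₂, Finset.sum_filter]
    refine Finset.sum_congr rfl fun χ _ => ?_
    by_cases hχ : χ ∈ B
    · simp only [if_pos hχ]; rfl
    · simp only [if_neg hχ, star_zero, zero_mul]
  have hsand : (D * C').map (Int.cast : ℤ → ℂ) * (X.conjTranspose * X) *
      (C' * D.transpose).map (Int.cast : ℤ → ℂ) =
      ((((p : ℤ) ^ d : ℤ)) : ℂ) • (D * C' * D.transpose).map (Int.cast : ℤ → ℂ) := by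
    rw [← hGram]
    have h1 : (X * Cc * Dc.transpose).conjTranspose = (D * C').map (Int.cast : ℤ → ℂ) * X.conjTranspose := by
      have e1 : (Dc.transpose).conjTranspose = Dc := by
        ext i j; simp [hDc, Matrix.conjTranspose_apply, Matrix.map_apply]
      have e2 : Cc.conjTranspose = Cc := by
        rw [hCc, conjTranspose_map_intCast, hC'symm]
      have e3 : (D * C').map (Int.cast : ℤ → ℂ) = Dc * Cc :=
        Matrix.map_mul (f := Int.castRingHom ℂ)
      rw [Matrix.conjTranspose_mul, Matrix.conjTranspose_mul, e1, e2, e3, Matrix.mul_assoc]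
    have h2 : (C' * D.transpose).map (Int.cast : ℤ → ℂ) = Cc * Dc.transpose := by
      have := Matrix.map_mul (L := C') (M := D.transpose) (f := Int.castRingHom ℂ)
      rw [hDc, hCc]
      exact this
    rw [h1, h2]
    simp only [Matrix.mul_assoc]
  have := hLIN _ hsand
  have hab := congrFun (congrFun this a) b
  rw [Matrix.mul_apply] at hab
  simp only [Matrix.conjTranspose_apply, Matrix.map_apply] at hab
  rw [← hab, Finset.sum_filter]
  refine Finset.sum_congr rfl fun χ _ => ?_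
  by_cases hχ : χ ∈ B
  · simp only [hX, Matrix.of_apply, if_pos hχ]; rfl
  · simp only [hX, Matrix.of_apply, if_neg hχ, star_zero, zero_mul]

end GC

end Cfsg.Agent.Lib.Helper16.MajSubGG
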