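/-
helper16: S4539 leaf (GG) `gram_gdec`, exact name + binders of notes/S4539_leaves.lean
(planner helper27).  = `MajSubGG.gram_gdec_of` + helper27's `MajSubGR.sum_zCoeff_nMat_of`
+ helper19's (NB3) `nMat_sq` + helper7's (LIN) `gram_of_sandwich`.
-/
import Cfsg.Agent.Lib.Helper16.MajSubGG
import Cfsg.Agent.Lib.Helper27.MajSubGR
import Cfsg.Agent.Lib.Helper19.MajSubNB3
import Cfsg.Agent.Lib.Helper7.MajSubLAT

set_option autoImplicit false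

namespace Cfsg.Agent.Lib.Helper16.MajSubGGW

open Cfsg Cfsg.Agent.CharLib Cfsg.Agent.Lib.Helper24 Cfsg.Agent.Lib.Helper6 Cfsg.Agent.Lib.Helper23
open Cfsg.Agent.Lib.Helper23.Subsec Cfsg.Agent.Lib.Helper27.MajSub
open scoped ComplexConjugate

universe u w

section GC

variable {G : Type u} [Group G] [Fintype G] {M : Ideal AlgInt} {p : ℕ} [hpp : Fact p.Prime]

/-- (GG) `gdec* gdec = Dᵀ D` (GR + LIN; `∑_ζ R_{χζ} N_{ζζ₁} = (gdec_χ C' Dᵀ)_{ζ₁}`). -/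
theorem gram_gdec (hM : IsPModular p M) (z : G) (hz : ∃ k : ℕ, orderOf z = p ^ k)
    (C : Subgroup G) [Fintype C] [Fintype (IrrCharacter C)] [DecidableEq (IrrCharacter C)]
    [Fintype (IrrCharacter G)]
    (hC : C = Subgroup.centralizer ({z} : Set G)) (B : Set (IrrCharacter G)) (hB : IsPBlock M B)
    [DecidablePred (· ∈ B)]
    (ψ₀ : IrrCharacter C) (hind : IsInducedBlock M C (blockOf M (ψ₀ : C → ℂ)) B)
    {r : ℕ} (D : Matrix (IrrCharacter C) (Fin r) ℤ) (E : Matrix (Fin r) (IrrCharacter C) ℤ)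
    (C' : Matrix (Fin r) (Fin r) ℤ) (hED : E * D = 1)
    (hN : Matrix.of (nMat p (blockOf M (ψ₀ : C → ℂ))) = D * C' * D.transpose)
    (hC'symm : C'.transpose = C')
    (hCC' : (D.transpose * D) * C' =
      ((p : ℤ) ^ blockDefect p (blockOf M (ψ₀ : C → ℂ))) • (1 : Matrix (Fin r) (Fin r) ℤ))
    (a b : Fin r) :
    ∑ χ ∈ Finset.univ.filter (· ∈ B),
      conj (gdec C (blockOf M (ψ₀ : C → ℂ)) D z χ a) * gdec C (blockOf M (ψ₀ : C → ℂ)) D z χ b =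
      (((D.transpose * D) a b : ℤ) : ℂ) := by
  have hp : p.Prime := hpp.out
  have hc : ((p : ℤ) ^ blockDefect p (blockOf M (ψ₀ : C → ℂ))) ≠ 0 :=
    pow_ne_zero _ (by exact_mod_cast hp.ne_zero)
  refine Cfsg.Agent.Lib.Helper16.MajSubGG.gram_gdec_of C B (blockOf M (ψ₀ : C → ℂ)) z D C'
    (blockDefect p (blockOf M (ψ₀ : C → ℂ))) hN hC'symm ?_ ?_ a b
  · intro ζ₁ ζ₂
    exact Cfsg.Agent.Lib.Helper27.MajSubGR.sum_zCoeff_nMat_of hM z hz C hC B hB ψ₀ hind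
      (fun ζ ζ'' => Cfsg.Agent.Lib.Helper19.MajSubNB3.nMat_sq hM (blockOf M (ψ₀ : C → ℂ))
        ⟨ψ₀, rfl⟩ ζ ζ'') ζ₁ ζ₂
  · intro Gm h
    exact Cfsg.Agent.Lib.Helper7.MajSubLAT.gram_of_sandwich D E C' _ hc hED hCC' hC'symm Gm h

end GC

end Cfsg.Agent.Lib.Helper16.MajSubGGW
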