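import Cfsg.Agent.Lib.Helper16.Large2

set_option autoImplicit false
open Cfsg
open scoped Pointwise commutatorElement

namespace Cfsg.Agent.Lib.Helper16

variable {G : Type*} [Group G] {p : ℕ}

theorem normalClosure_le_of_normal {Y K : Subgroup G} (hK : K.Normal) (hYK : Y ≤ K) :
    Subgroup.normalClosure (Y : Set G) ≤ K :=
  Subgroup.normalClosure_le_normal hYK

theorem minimalOver_structure [Finite G] [Fact p.Prime] (L₀ : Subgroup G) (hL₀ : IsCoatom L₀) (T : Sylow p ↥L₀) (Y : Subgroup G) (hYT : Y ≤ (T : Subgroup ↥L₀).map L₀.subtype) (hmin : Cfsg.IsMinimalOver Y) : Subgroup.normalizer (((T : Subgroup ↥L₀).map L₀.subtype : Subgroup G) : Set G) ≤ L₀ ∧ Cfsg.pCore p G ≤ L₀ ∧ (∃ P : Sylow p G, (P : Subgroup G) = (T : Subgroup ↥L₀).map L₀.subtype) ∧ Subgroup.normalizer (L₀ : Set G) = L₀ ∧ (∀ g : G, g ∉ L₀ → Y ⊔ Y.map (MulAut.conj g).toMonoidHom = ⊤) ∧ (IsMulCommutative ↥Y → ∀ g : G, g ∉ L₀ → Y ⊓ Y.map (MulAut.conj g).toMonoidHom = Y ⊓ Subgroup.center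 G) := by
  obtain ⟨hnc, M, ⟨hMco, hYM⟩, hMuniq⟩ := hmin
  set T' : Subgroup G := (T : Subgroup ↥L₀).map L₀.subtype with hT'
  have hT'p : IsPGroup p T' := T.isPGroup'.map _
  have hT'L₀ : T' ≤ L₀ := Subgroup.map_subtype_le _
  have hYL₀ : Y ≤ L₀ := hYT.trans hT'L₀
  have hML₀ : L₀ = M := hMuniq L₀ ⟨hL₀, hYL₀⟩
  have hkey : ∀ K : Subgroup G, Y ≤ K → K ≠ ⊤ → K ≤ L₀ := by
    intro K hYK hK
    rw [hML₀]
    exact minimalOver_key hMuniq K hYK hK
  -- a proper normal subgroup cannot contain Y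
  have hnn : ∀ K : Subgroup G, K.Normal → Y ≤ K → K = ⊤ := by
    intro K hK hYK
    rw [eq_top_iff, ← hnc]
    exact Subgroup.normalClosure_le_normal hYK
  have h1 : Subgroup.normalizer (T' : Set G) ≤ L₀ := by
    apply hkey _ (hYT.trans Subgroup.le_normalizer)
    intro htop
    have hTn : T'.Normal := Subgroup.normalizer_eq_top_iff.mp htop
    have := hnn T' hTn hYT
    apply hL₀.1
    rw [eq_top_iff, ← this]; exact hT'L₀
  -- T' is a Sylow subgroup of G
  have h3 : ∃ P : Sylow p G, (P : Subgroup G) = T' := by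
    obtain ⟨P, hP⟩ := hT'p.exists_le_sylow
    refine ⟨P, ?_⟩
    by_contra hne
    obtain ⟨x, hxP, hxN, hxT⟩ := exists_mem_normalizer_not_mem P.isPGroup' hP (Ne.symm hne)
    have hx0 : x ∈ L₀ := h1 hxN
    have hle : T' ⊔ Subgroup.zpowers x ≤ P := sup_le hP (by rw [Subgroup.zpowers_le]; exact hxP)
    have hle0 : T' ⊔ Subgroup.zpowers x ≤ L₀ := sup_le hT'L₀ (by rw [Subgroup.zpowers_le]; exact hx0)
    have := sylow_map_maximal T (P.isPGroup'.to_le hle) le_sup_left hle0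
    apply hxT
    rw [hT', ← this]
    exact (le_sup_right : Subgroup.zpowers x ≤ _) (Subgroup.mem_zpowers x)
  have h2 : pCore p G ≤ L₀ := by
    obtain ⟨P, hP⟩ := h3
    calc pCore p G ≤ P := pCore_le_sylow P
      _ = T' := hP
      _ ≤ L₀ := hT'L₀
  have h4 : Subgroup.normalizer (L₀ : Set G) = L₀ := by
    apply le_antisymm
    · apply hkey _ (hYL₀.trans Subgroup.le_normalizer)
      intro htop
      have hn : L₀.Normal := Subgroup.normalizer_eq_top_iff.mp htop
      exact hL₀.1 (hnn L₀ hn hYL₀)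
    · exact Subgroup.le_normalizer
  have h5 : ∀ g : G, g ∉ L₀ → Y ⊔ Y.map (MulAut.conj g).toMonoidHom = ⊤ := by
    intro g hg
    by_contra hne
    have hle := hkey _ le_sup_left hne
    have hYg : Y.map (MulAut.conj g).toMonoidHom ≤ L₀ := le_sup_right.trans hle
    -- Y ≤ L₀^{g⁻¹}
    have hY' : Y ≤ L₀.map (MulAut.conj g⁻¹).toMonoidHom := by
      have := Subgroup.map_mono (f := (MulAut.conj g⁻¹).toMonoidHom) hYg
      rwa [map_conj_inv_map_conj] at this
    have hco : IsCoatom (L₀.map (MulAut.conj g⁻¹).toMonoidHom) := by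
      exact (OrderIso.isCoatom_iff (MulEquiv.mapSubgroup (MulAut.conj g⁻¹)) L₀).mpr hL₀
    have heq : L₀.map (MulAut.conj g⁻¹).toMonoidHom = L₀ := by
      rw [hML₀]; rw [hML₀] at hco hY'
      exact hMuniq _ ⟨hco, hY'⟩
    have hg' : g⁻¹ ∈ Subgroup.normalizer (L₀ : Set G) :=
      Subgroup.mem_normalizer_iff_map_conj_eq.mpr heq
    rw [h4] at hg'
    exact hg (by simpa using L₀.inv_mem hg')
  refine ⟨h1, h2, h3, h4, h5, ?_⟩
  intro hYc g hg
  have hgen := h5 g hg
  apply le_antisymm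
  · rintro z ⟨hzY, hzYg⟩
    refine ⟨hzY, ?_⟩
    have hz1 : z ∈ Subgroup.centralizer (Y : Set G) := by
      rw [Subgroup.mem_centralizer_iff]
      intro y hy
      have := hYc.is_comm.comm ⟨y, hy⟩ ⟨z, hzY⟩
      exact congrArg Subtype.val this
    have hz2 : z ∈ Subgroup.centralizer ((Y.map (MulAut.conj g).toMonoidHom : Subgroup G) : Set G) := by
      rw [centralizer_map_conj, mem_map_conj_iff]
      have hzYg' : z ∈ Y.map (MulAut.conj g).toMonoidHom := hzYg
      rw [mem_map_conj_iff] at hzYg'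
      rw [Subgroup.mem_centralizer_iff]
      intro y hy
      have := hYc.is_comm.comm ⟨y, hy⟩ ⟨_, hzYg'⟩
      exact congrArg Subtype.val this
    have := sup_le_centralizer_singleton hz1 hz2
    rw [hgen] at this
    show z ∈ Subgroup.center G
    rw [Subgroup.mem_center_iff]
    intro h
    exact (Subgroup.mem_centralizer_iff.mp this) h (Subgroup.mem_top h)
  · rintro z ⟨hzY, hzc⟩
    refine ⟨hzY, ?_⟩
    show z ∈ Y.map (MulAut.conj g).toMonoidHom
    rw [mem_map_conj_iff]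
    have := Subgroup.mem_center_iff.mp hzc g
    have e : g⁻¹ * z * g = z := by
      calc g⁻¹ * z * g = g⁻¹ * (z * g) := by group
        _ = g⁻¹ * (g * z) := by rw [← this]
        _ = z := by group
    rw [e]; exact hzY

end Cfsg.Agent.Lib.Helper16
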