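import Cfsg.Agent.Lib.Helper16.PReduced3

set_option autoImplicit false
open Cfsg

namespace Cfsg.Agent.Lib.Helper16

variable {G : Type*} [Group G] {p : ℕ}

theorem exists_sylow_le_of_not_dvd_index [Finite G] [Fact p.Prime] (M : Subgroup G)
    (h : ¬ p ∣ M.index) : ∃ P : Sylow p G, (P : Subgroup G) ≤ M := by
  have hp : p.Prime := Fact.out
  obtain ⟨R⟩ : Nonempty (Sylow p ↥M) := inferInstance
  set R' : Subgroup G := (R : Subgroup ↥M).map M.subtype with hR'
  have hcard : Nat.card R' = p ^ (Nat.card G).factorization p := by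
    have h1 : Nat.card R' = Nat.card (R : Subgroup ↥M) :=
      Subgroup.card_map_of_injective M.subtype_injective
    rw [h1, R.card_eq_multiplicity]
    congr 1
    have h2 : M.index * Nat.card M = Nat.card G := M.index_mul_card
    rw [← h2, Nat.factorization_mul (Subgroup.index_ne_zero_of_finite) (Nat.card_pos.ne'),
      Finsupp.add_apply, Nat.factorization_eq_zero_of_not_dvd h, zero_add]
  exact ⟨Sylow.ofCard R' hcard, Subgroup.map_subtype_le _⟩

theorem isPClosed_of_normal_sylow_m3 [Finite G] [Fact p.Prime] (Q : Sylow p G)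
    (hQ : (Q : Subgroup G).Normal) : IsPClosed p G := by
  intro P
  have := Sylow.unique_of_normal Q hQ
  have : P = Q := Subsingleton.elim _ _
  rw [this]; exact hQ

theorem isNilpotent_of_injective {H K : Type*} [Group H] [Group K] [hK : Group.IsNilpotent K]
    (f : H →* K) (hf : Function.Injective f) : Group.IsNilpotent H := by
  have e := MonoidHom.ofInjective hf
  exact (Group.isNilpotent_congr e).mpr inferInstance


theorem minimalOver_core [Finite G] [Fact p.Prime] (L₀ : Subgroup G) (hL₀ : IsCoatom L₀) (T : Sylow p ↥L₀) (Y : Subgroup G) (hYT : Y ≤ (T : Subgroup ↥L₀).map L₀.subtype) (hmin : Cfsg.IsMinimalOver Y) : (Cfsg.pCore p G ≤ L₀.normalCore ∧ (L₀.normalCore).map (QuotientGroup.mk' (Cfsg.pCore p G)) = frattini (G ⧸ Cfsg.pCore p G) ∧ Cfsg.IsPClosed p ↥(L₀.normalCore)) ∧ ∀ (N : Subgroup G) [N.Normal], N ≤ L₀ → Cfsg.IsPClosed p ↥N ∧ Group.IsNilpotent (↥N ⧸ Cfsg.pCore p ↥N) ∧ (Nat.card (↥N ⧸ Cfsg.pCore p ↥N)).Coprime p := by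
  have hp : p.Prime := Fact.out
  obtain ⟨hNT, hOL₀, ⟨P, hP⟩, hNL₀, hgen, -⟩ := minimalOver_structure L₀ hL₀ T Y hYT hmin
  obtain ⟨hnc, M, ⟨hMco, hYM⟩, hMuniq⟩ := hmin
  have hYL₀ : Y ≤ L₀ := hYT.trans (Subgroup.map_subtype_le _)
  have hML₀ : L₀ = M := hMuniq L₀ ⟨hL₀, hYL₀⟩
  have hkey : ∀ K : Subgroup G, Y ≤ K → K ≠ ⊤ → K ≤ L₀ := by
    intro K hYK hK
    rw [hML₀]
    exact minimalOver_key hMuniq K hYK hK
  have hYP : Y ≤ P := by rw [hP]; exact hYT
  set O : Subgroup G := pCore p G with hO
  set D : Subgroup G := L₀.normalCore with hD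
  have hDn : D.Normal := Subgroup.normalCore_normal L₀
  have hDL₀ : D ≤ L₀ := Subgroup.normalCore_le L₀
  have hOn : O.Normal := inferInstance
  have hOD : O ≤ D := (Subgroup.normal_le_normalCore).mpr hOL₀
  have hOP : O ≤ P := pCore_le_sylow P
  have hPN : ∀ N : Subgroup G, N.Normal → N ≤ L₀ → (P : Subgroup G) ⊓ N ≤ O := by
    intro N hN hNL
    obtain ⟨Q, hQ⟩ := exists_sylow_of_normal_inf P N
    have hfr := Sylow.normalizer_sup_eq_top Q
    rw [hQ] at hfr
    have hPle : (P : Subgroup G) ≤ Subgroup.normalizer (((P : Subgroup G) ⊓ N : Subgroup G) : Set G) := by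
      apply inf_le_normalizer_inf Subgroup.le_normalizer
      rw [Subgroup.normalizer_eq_top]; exact le_top
    have htop : Subgroup.normalizer (((P : Subgroup G) ⊓ N : Subgroup G) : Set G) = ⊤ := by
      by_contra hne
      have := hkey _ (hYP.trans hPle) hne
      apply hL₀.1
      rw [eq_top_iff, ← hfr]
      exact sup_le this hNL
    have hn : ((P : Subgroup G) ⊓ N).Normal := Subgroup.normalizer_eq_top_iff.mp htop
    exact le_pCore hn (P.isPGroup'.to_le inf_le_left)
  -- normal Sylow of a normal subgroup inside L₀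
  have hclosed : ∀ N : Subgroup G, N.Normal → N ≤ L₀ →
      ∃ Q : Sylow p ↥N, (Q : Subgroup ↥N) = O.subgroupOf N := by
    intro N hN hNL
    obtain ⟨Q, hQ⟩ := exists_sylow_of_normal_inf P N
    refine ⟨Q, ?_⟩
    have h1 : (P : Subgroup G) ⊓ N = O ⊓ N :=
      le_antisymm (le_inf (hPN N hN hNL) inf_le_right) (inf_le_inf_right _ hOP)
    rw [← Subgroup.comap_map_eq_self_of_injective N.subtype_injective (Q : Subgroup ↥N), hQ, h1]
    ext x
    simp [Subgroup.mem_subgroupOf]
  have hB : ∀ N : Subgroup G, N.Normal → N ≤ L₀ → IsPClosed p ↥N ∧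
      pCore p ↥N = O.subgroupOf N ∧ (Nat.card (↥N ⧸ pCore p ↥N)).Coprime p := by
    intro N hN hNL
    obtain ⟨Q, hQ⟩ := hclosed N hN hNL
    have hQn : (Q : Subgroup ↥N).Normal := by rw [hQ]; infer_instance
    have hcore : pCore p ↥N = O.subgroupOf N := by
      apply le_antisymm
      · rw [← hQ]; exact pCore_le_sylow Q
      · rw [← hQ]; exact le_pCore hQn Q.isPGroup'
    refine ⟨isPClosed_of_normal_sylow_m3 Q hQn, hcore, ?_⟩
    rw [← Subgroup.index_eq_card, hcore, ← hQ]
    exact ((Nat.Prime.coprime_iff_not_dvd hp).mpr Q.not_dvd_index).symm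
  set π := QuotientGroup.mk' O with hπ
  have hsurj : Function.Surjective π := QuotientGroup.mk'_surjective O
  have hker : π.ker = O := QuotientGroup.ker_mk' O
  -- part A
  have hA2 : D.map π = frattini (G ⧸ O) := by
    apply le_antisymm
    · -- D.map π ≤ every coatom
      unfold frattini Order.radical
      apply le_iInf₂
      intro Mb hMb
      have hMb : IsCoatom Mb := hMb
      by_contra hnle
      have hDbn : (D.map π).Normal := hDn.map π hsurj
      have hsup : Mb ⊔ D.map π = ⊤ := by
        by_contra hne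
        have := hMb.2 (Mb ⊔ D.map π) (lt_of_le_of_ne le_sup_left ?_)
        · exact hne this
        · intro heq
          apply hnle
          rw [heq]; exact le_sup_right
      set M' : Subgroup G := Mb.comap π with hM'
      have hOM' : O ≤ M' := by
        intro x hx
        rw [hM', Subgroup.mem_comap]
        have : π x = 1 := by rw [← MonoidHom.mem_ker, hker]; exact hx
        rw [this]; exact Subgroup.one_mem _
      have hM'map : M'.map π = Mb := Subgroup.map_comap_eq_self_of_surjective hsurj Mb
      have hM'top : M' ≠ ⊤ := by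
        intro h
        apply hMb.1
        rw [← hM'map, h, Subgroup.map_top_of_surjective π hsurj]
      have hsup' : M' ⊔ D = ⊤ := by
        have h1 : (M' ⊔ D).map π = ⊤ := by rw [Subgroup.map_sup, hM'map, hsup]
        have h2 : π.ker ≤ M' ⊔ D := by rw [hker]; exact hOM'.trans le_sup_left
        rw [← Subgroup.comap_map_eq_self h2, h1, Subgroup.comap_top]
      -- index computation: M'.index * card (M' ⊓ D) = card D
      have hidx : M'.index * Nat.card ↥(M' ⊓ D) = Nat.card D := by
        have h1 : M'.index * Nat.card M' = Nat.card G := M'.index_mul_card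
        have hc : Nat.card ↥(D.subgroupOf M') = Nat.card ↥(M' ⊓ D) := by
          rw [← Subgroup.card_map_of_injective M'.subtype_injective, Subgroup.subgroupOf_map_subtype,
            inf_comm]
        have h2 : D.relIndex M' * Nat.card ↥(M' ⊓ D) = Nat.card M' := by
          have := (D.subgroupOf M').index_mul_card
          rw [hc] at this
          exact this
        have h3 : D.relIndex M' = D.index := by
          rw [← Subgroup.relIndex_sup_right, hsup', Subgroup.relIndex_top_right]
        have h4 : D.index * Nat.card D = Nat.card G := D.index_mul_card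
        have hne : D.index ≠ 0 := Subgroup.index_ne_zero_of_finite
        have h5 : D.index * (M'.index * Nat.card ↥(M' ⊓ D)) = D.index * Nat.card D := by
          rw [h4, ← h1, ← h2, h3]; ring
        exact Nat.eq_of_mul_eq_mul_left (Nat.pos_of_ne_zero hne) h5
      -- O ≤ M' ⊓ D is the Sylow of D
      obtain ⟨Q, hQ⟩ := hclosed D hDn hDL₀
      have hQcard : Nat.card (Q : Subgroup ↥D) = Nat.card O := by
        rw [hQ, ← Subgroup.card_map_of_injective D.subtype_injective, Subgroup.subgroupOf_map_subtype,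
          inf_of_le_left hOD]
      have hOcard : Nat.card O = p ^ (Nat.card D).factorization p := by
        rw [← hQcard]; exact Q.card_eq_multiplicity
      have hOdvd : Nat.card O ∣ Nat.card ↥(M' ⊓ D) :=
        Subgroup.card_dvd_of_le (le_inf hOM' hOD)
      have hnd : ¬ p ∣ M'.index := by
        intro hdvd
        have h1 : p ^ ((Nat.card D).factorization p + 1) ∣ M'.index * Nat.card ↥(M' ⊓ D) := by
          rw [pow_succ, mul_comm]
          exact mul_dvd_mul hdvd (hOcard ▸ hOdvd)
        rw [hidx] at h1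
        exact Nat.pow_succ_factorization_not_dvd (Nat.card_pos.ne') hp h1
      obtain ⟨P', hP'⟩ := exists_sylow_le_of_not_dvd_index M' hnd
      obtain ⟨y, -, hy⟩ := exists_conj_le_sylow P' (le_top : (P' : Subgroup G) ≤ ⊤)
        (le_top : Y ≤ ⊤) (P.isPGroup'.to_le hYP)
      have hYM'' : Y ≤ M'.map (MulAut.conj y⁻¹).toMonoidHom := by
        have := Subgroup.map_mono (f := (MulAut.conj y⁻¹).toMonoidHom) (hy.trans hP')
        rwa [map_conj_inv_map_conj] at this
      have hM''top : M'.map (MulAut.conj y⁻¹).toMonoidHom ≠ ⊤ := by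
        intro h
        apply hM'top
        have := congrArg (Subgroup.map (MulAut.conj y).toMonoidHom) h
        rw [map_conj_map_conj_inv] at this
        rw [this, Subgroup.map_top_of_surjective _ (MulAut.conj y).surjective]
      have hM''L : M'.map (MulAut.conj y⁻¹).toMonoidHom ≤ L₀ := hkey _ hYM'' hM''top
      have hDy : D.map (MulAut.conj y⁻¹).toMonoidHom = D := by
        apply Subgroup.mem_normalizer_iff_map_conj_eq.mp
        rw [Subgroup.normalizer_eq_top]; exact Subgroup.mem_top _
      have h6 : (M' ⊔ D).map (MulAut.conj y⁻¹).toMonoidHom ≤ L₀ := by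
        rw [Subgroup.map_sup, hDy]
        exact sup_le hM''L hDL₀
      rw [hsup', Subgroup.map_top_of_surjective _ (MulAut.conj y⁻¹).surjective] at h6
      exact hL₀.1 (eq_top_iff.mpr h6)
    · -- frattini ≤ D.map π
      have hco : IsCoatom (L₀.map π) := isCoatom_map_of_surjective hsurj hL₀ (by rw [hker]; exact hOL₀)
      have h1 : frattini (G ⧸ O) ≤ L₀.map π := frattini_le_coatom hco
      have hFn : ((frattini (G ⧸ O)).comap π).Normal := inferInstance
      have h2 : (frattini (G ⧸ O)).comap π ≤ L₀ := by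
        have := Subgroup.comap_mono (f := π) h1
        rwa [Subgroup.comap_map_eq_self (by rw [hker]; exact hOL₀)] at this
      have h3 : (frattini (G ⧸ O)).comap π ≤ D := (Subgroup.normal_le_normalCore).mpr h2
      have := Subgroup.map_mono (f := π) h3
      rwa [Subgroup.map_comap_eq_self_of_surjective hsurj] at this
  refine ⟨⟨hOD, hA2, (hB D hDn hDL₀).1⟩, ?_⟩
  intro N hN hNL
  obtain ⟨h1, hcore, h3⟩ := hB N hN hNL
  refine ⟨h1, ?_, h3⟩
  have hND : N ≤ D := (Subgroup.normal_le_normalCore).mpr hNL
  -- injective hom into frattini (G ⧸ O)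
  set f : ↥N →* G ⧸ O := π.comp N.subtype with hf
  have hfker : pCore p ↥N ≤ f.ker := by
    rw [hcore]
    intro x hx
    rw [Subgroup.mem_subgroupOf] at hx
    rw [MonoidHom.mem_ker, hf, MonoidHom.comp_apply, ← MonoidHom.mem_ker, hker]
    exact hx
  have hrange : ∀ x, (QuotientGroup.lift (pCore p ↥N) f hfker) x ∈ frattini (G ⧸ O) := by
    intro x
    obtain ⟨n, rfl⟩ := QuotientGroup.mk_surjective x
    rw [QuotientGroup.lift_mk, ← hA2]
    exact ⟨n, hND n.2, rfl⟩
  set g : (↥N ⧸ pCore p ↥N) →* ↥(frattini (G ⧸ O)) :=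
    (QuotientGroup.lift (pCore p ↥N) f hfker).codRestrict (frattini (G ⧸ O)) hrange with hg
  have hginj : Function.Injective g := by
    rw [injective_iff_map_eq_one]
    intro x hx
    obtain ⟨n, rfl⟩ := QuotientGroup.mk_surjective x
    have h4 : f n = 1 := by
      have := congrArg Subtype.val hx
      simpa [hg] using this
    rw [QuotientGroup.eq_one_iff, hcore, Subgroup.mem_subgroupOf]
    rw [hf, MonoidHom.comp_apply, ← MonoidHom.mem_ker, hker] at h4
    exact h4
  have : Group.IsNilpotent ↥(frattini (G ⧸ O)) := frattini_nilpotent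
  exact isNilpotent_of_injective g hginj

end Cfsg.Agent.Lib.Helper16
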