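import Mathlib

/-!
# S2344 endgame, datum-independent part A (helper16)

* `exists_invariant_form` : a finite group acting on a finite-dimensional complex space has an invariant
  positive definite hermitian form `B`, given as `B : M → M →ₗ[ℂ] ℂ` (linear in the second variable), with the
  rigidity property `B v (ρ g v) = B v v → ρ g v = v`.
* `form_double_coset` : `B v (ρ (p₁ g p₂) v) = B v (ρ g v)` if `p₁, p₂` fix `v`.
* `fourier_vanish` : if the `χ`-weight space of the abelian group `u(A)` on `M` is `0` then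
  `∑ z, χ (-z) * B v (ρ (u z) v) = 0`.
* `three_class` : the linear algebra of the three-class argument.
-/

set_option autoImplicit false

namespace Cfsg.Agent.Lib.Helper16.OOEnd

open scoped ComplexConjugate

variable {G : Type*} [Group G] [Finite G] {M : Type*} [AddCommGroup M] [Module ℂ M]
  [FiniteDimensional ℂ M]

/-- Weyl's unitary trick, in the form needed for the rigidity argument. -/
theorem exists_invariant_form (ρ : Representation ℂ G M) :
    ∃ B : M → M →ₗ[ℂ] ℂ, (∀ g x y, B (ρ g x) (ρ g y) = B x y) ∧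
      (∀ v g, B v (ρ g v) = B v v → ρ g v = v) ∧ (∀ v, B v v = 0 → v = 0) := by
  classical
  have : Fintype G := Fintype.ofFinite G
  let d := Module.finrank ℂ M
  let b : Module.Basis (Fin d) ℂ M := Module.finBasis ℂ M
  let c : M ≃ₗ[ℂ] EuclideanSpace ℂ (Fin d) :=
    b.equivFun.trans (EuclideanSpace.equiv (Fin d) ℂ).symm.toLinearEquiv
  -- the form
  let Bf : M → M → ℂ := fun x y => ∑ g : G, inner ℂ (c (ρ g x)) (c (ρ g y))
  have hadd : ∀ x y z, Bf x (y + z) = Bf x y + Bf x z := by
    intro x y z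
    simp only [Bf, map_add, inner_add_right, Finset.sum_add_distrib]
  have hsmul : ∀ x (a : ℂ) y, Bf x (a • y) = a * Bf x y := by
    intro x a y
    simp only [Bf, map_smul, inner_smul_right, Finset.mul_sum]
  let B : M → M →ₗ[ℂ] ℂ := fun x =>
    { toFun := Bf x
      map_add' := hadd x
      map_smul' := fun a y => by simpa using hsmul x a y }
  have hB : ∀ x y, B x y = Bf x y := fun _ _ => rfl
  have hinv : ∀ g x y, B (ρ g x) (ρ g y) = B x y := by
    intro g x y
    rw [hB, hB]
    simp only [Bf]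
    refine Fintype.sum_equiv (Equiv.mulRight g) _ _ (fun h => ?_)
    simp only [Equiv.coe_mulRight, map_mul, Module.End.mul_apply]
  have hsymm : ∀ x y, B y x = conj (B x y) := by
    intro x y
    rw [hB, hB]
    simp only [Bf, map_sum, inner_conj_symm]
  have hsubl : ∀ x y z, B (x - y) z = B x z - B y z := by
    intro x y z
    rw [hB, hB, hB]
    simp only [Bf, map_sub, inner_sub_left, Finset.sum_sub_distrib]
  have hpos : ∀ v, B v v = 0 → v = 0 := by
    intro v hv
    rw [hB] at hv
    simp only [Bf] at hv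
    have h1 : ∀ g : G, inner ℂ (c (ρ g v)) (c (ρ g v)) = ((‖c (ρ g v)‖ ^ 2 : ℝ) : ℂ) := by
      intro g
      rw [inner_self_eq_norm_sq_to_K]
      norm_cast
    simp only [h1] at hv
    rw [← Complex.ofReal_sum] at hv
    have h2 : ∑ g : G, ‖c (ρ g v)‖ ^ 2 = 0 := by exact_mod_cast hv
    have h3 := (Finset.sum_eq_zero_iff_of_nonneg (fun g _ => by positivity)).mp h2 1
      (Finset.mem_univ _)
    simp only [map_one, Module.End.one_apply] at h3
    have h4 : c v = 0 := by
      have : ‖c v‖ = 0 := by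
        exact pow_eq_zero_iff (two_ne_zero) |>.mp h3
      exact norm_eq_zero.mp this
    exact c.map_eq_zero_iff.mp h4
  refine ⟨B, hinv, ?_, hpos⟩
  intro v g hg
  have hgg : B (ρ g v) (ρ g v) = B v v := hinv g v v
  have hreal : conj (B v v) = B v v := (hsymm v v).symm
  have h1 : B (ρ g v) v = B v v := by
    rw [hsymm v (ρ g v), hg, hreal]
  have h0 : B (ρ g v - v) (ρ g v - v) = 0 := by
    rw [hsubl, map_sub, map_sub, hgg, hg, h1]
    ring
  exact sub_eq_zero.mp (hpos _ h0)

omit [Finite G] [FiniteDimensional ℂ M] in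
/-- the matrix coefficient `B v (ρ g v)` is constant on double cosets of the fixer of `v` -/
theorem form_double_coset (ρ : Representation ℂ G M) (B : M → M →ₗ[ℂ] ℂ)
    (hB : ∀ g x y, B (ρ g x) (ρ g y) = B x y) (v : M) (g p₁ p₂ : G) (h₁ : ρ p₁ v = v)
    (h₂ : ρ p₂ v = v) : B v (ρ (p₁ * g * p₂) v) = B v (ρ g v) := by
  rw [map_mul, map_mul, Module.End.mul_apply, Module.End.mul_apply, h₂]
  have := hB p₁ v (ρ g v)
  rw [h₁] at this
  exact this

omit [Finite G] [FiniteDimensional ℂ M] in
/-- if the `χ`-weight space of `u(A)` vanishes then the `χ`-Fourier coefficient of `z ↦ B v (ρ (u z) v)`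
vanishes -/
theorem fourier_vanish (ρ : Representation ℂ G M) (B : M → M →ₗ[ℂ] ℂ) {A : Type*} [AddCommGroup A]
    [Fintype A] (u : Multiplicative A →* G) (χ : AddChar A ℂ)
    (hχ : ∀ m : M, (∀ z : A, ρ (u (Multiplicative.ofAdd z)) m = χ z • m) → m = 0) (v : M) :
    ∑ z : A, χ (-z) * B v (ρ (u (Multiplicative.ofAdd z)) v) = 0 := by
  classical
  set w : M := ∑ z : A, χ (-z) • ρ (u (Multiplicative.ofAdd z)) v with hw
  have hw0 : w = 0 := by
    apply hχ
    intro y
    rw [hw, map_sum, Finset.smul_sum]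
    refine Fintype.sum_equiv (Equiv.addLeft y) _ _ (fun z => ?_)
    simp only [Equiv.coe_addLeft, map_smul]
    rw [← Module.End.mul_apply, ← map_mul, ← map_mul, ← ofAdd_add, smul_smul, ← AddChar.map_add_eq_mul]
    congr 2
    abel_nf
  have : B v w = 0 := by rw [hw0, map_zero]
  rw [hw, map_sum] at this
  simpa only [map_smul, smul_eq_mul] using this

/-- the three-class argument: a function with values `a` at `0`, `b` on `S \ {0}`, `c` off `S`, whose
Fourier coefficients at two non-trivial characters with different sums over `S` vanish, is constant. -/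
theorem three_class {A : Type*} [AddCommGroup A] [Fintype A] [DecidableEq A] (S : Finset A)
    (h0 : (0 : A) ∈ S) (φ : A → ℂ) (a b c : ℂ) (hφ0 : φ 0 = a)
    (hφS : ∀ z ∈ S, z ≠ 0 → φ z = b) (hφN : ∀ z ∉ S, φ z = c) (χ₁ χ₂ : AddChar A ℂ)
    (h₁ : χ₁ ≠ 1) (h₂ : χ₂ ≠ 1) (hs : ∑ z ∈ S, χ₁ (-z) ≠ ∑ z ∈ S, χ₂ (-z))
    (e₁ : ∑ z : A, χ₁ (-z) * φ z = 0) (e₂ : ∑ z : A, χ₂ (-z) * φ z = 0) : b = a ∧ c = a := by
  have key : ∀ χ : AddChar A ℂ, χ ≠ 1 →
      ∑ z : A, χ (-z) * φ z = (a - b) + (b - c) * ∑ z ∈ S, χ (-z) := by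
    intro χ hχ
    have hall : ∑ z : A, χ (-z) = 0 := by
      have := AddChar.sum_eq_zero_of_ne_one hχ
      rw [← this]
      exact Fintype.sum_equiv (Equiv.neg A) _ _ (fun z => rfl)
    have hsplit : ∑ z : A, χ (-z) * φ z
        = ∑ z ∈ S, χ (-z) * φ z + ∑ z ∈ Sᶜ, χ (-z) * φ z := by
      rw [← Finset.sum_add_sum_compl S]
    have hN : ∑ z ∈ Sᶜ, χ (-z) * φ z = c * ∑ z ∈ Sᶜ, χ (-z) := by
      rw [Finset.mul_sum]
      refine Finset.sum_congr rfl (fun z hz => ?_)
      rw [hφN z (Finset.mem_compl.mp hz)]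
      ring
    have hS : ∑ z ∈ S, χ (-z) * φ z = (a - b) + b * ∑ z ∈ S, χ (-z) := by
      rw [← Finset.add_sum_erase S _ h0, ← Finset.add_sum_erase S (fun z => χ (-z)) h0]
      have : ∑ z ∈ S.erase 0, χ (-z) * φ z = b * ∑ z ∈ S.erase 0, χ (-z) := by
        rw [Finset.mul_sum]
        refine Finset.sum_congr rfl (fun z hz => ?_)
        rw [hφS z (Finset.mem_of_mem_erase hz) (Finset.ne_of_mem_erase hz)]
        ring
      rw [this, hφ0]
      simp only [neg_zero, AddChar.map_zero_eq_one]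
      ring
    have hc : ∑ z ∈ Sᶜ, χ (-z) = - ∑ z ∈ S, χ (-z) := by
      have := Finset.sum_add_sum_compl S (fun z => χ (-z))
      rw [hall] at this
      linear_combination this
    rw [hsplit, hN, hS, hc]
    ring
  rw [key χ₁ h₁] at e₁
  rw [key χ₂ h₂] at e₂
  have hbc : b = c := by
    have : (b - c) * (∑ z ∈ S, χ₁ (-z) - ∑ z ∈ S, χ₂ (-z)) = 0 := by
      linear_combination e₁ - e₂
    rcases mul_eq_zero.mp this with h | h
    · exact sub_eq_zero.mp h
    · exact absurd (sub_eq_zero.mp h) hs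
  have hab : a = b := by
    rw [hbc] at e₁
    simp only [sub_self, zero_mul, add_zero] at e₁
    rw [hbc]
    exact sub_eq_zero.mp e₁
  exact ⟨hab.symm, by rw [← hbc, hab]⟩

end Cfsg.Agent.Lib.Helper16.OOEnd
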