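import Mathlib
import Cfsg.Agent.Lib.Helper16.OOEndDefs
import Cfsg.Agent.Lib.Helper16.OOEndA
import Cfsg.Agent.Lib.Helper13.SLMinW

/-!
# S2344 endgame, part B (helper16): E2a `phi_reach`, E6 `card_occ_le`, weight transport
-/

set_option autoImplicit false
set_option linter.unusedSectionVars false
set_option linter.unusedVariables false

namespace Cfsg.Agent.Lib.Helper16.OOEnd

open Matrix Cfsg.Agent.Lib.Helper16.SLMin Module

section rep

variable {F : Type*} [Field F] [Fintype F] {m : ℕ} {H : Type*} [Group H] {M : Type*}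
  [AddCommGroup M] [Module ℂ M]

theorem fix_inv (ρ : Representation ℂ H M) {h : H} {v : M} (hv : ρ h v = v) : ρ h⁻¹ v = v := by
  have h1 : ρ h⁻¹ (ρ h v) = v := by
    rw [← Module.End.mul_apply, ← map_mul, inv_mul_cancel, map_one, Module.End.one_apply]
  rw [hv] at h1
  exact h1

theorem phi_conj (ρ : Representation ℂ H M) (B : M → M →ₗ[ℂ] ℂ)
    (hB : ∀ g x y, B (ρ g x) (ρ g y) = B x y) (v : M) {h u u' : H} (hv : ρ h v = v)
    (hu : h * u * h⁻¹ = u') : B v (ρ u' v) = B v (ρ u v) := by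
  rw [← hu]
  exact form_double_coset ρ B hB v u h h⁻¹ hv (fix_inv ρ hv)

theorem phi_step (ρ : Representation ℂ H M) (E : OEnd F m H) (B : M → M →ₗ[ℂ] ℂ)
    (hB : ∀ g x y, B (ρ g x) (ρ g y) = B x y) (v : M) (hv : Fixes ρ E v) {z z' : Ix m → F}
    (h : Step z z') : B v (ρ (E.ubar z') v) = B v (ρ (E.ubar z) v) := by
  cases h with
  | L g => exact phi_conj ρ B hB v (hv.lv g) (E.lv_ubar g z)
  | R R => exact phi_conj ρ B hB v (hv.rd R) (E.rd_ubar R z)
  | S c => exact phi_conj ρ B hB v (hv.sh c) (E.sh_ubar c z)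
  | N a t => exact phi_conj ρ B hB v (hv.ng a t) (E.ng_ubar a t z)

/-- E2a: the matrix coefficient `z ↦ B v (ρ (ubar z) v)` is constant on the orbits of the moves. -/
theorem phi_reach (ρ : Representation ℂ H M) (E : OEnd F m H) (B : M → M →ₗ[ℂ] ℂ)
    (hB : ∀ g x y, B (ρ g x) (ρ g y) = B x y) (v : M) (hv : Fixes ρ E v) {z z' : Ix m → F}
    (h : Reach z z') : B v (ρ (E.ubar z') v) = B v (ρ (E.ubar z) v) := by
  induction h with
  | refl => rfl
  | tail _ hs ih => rw [phi_step ρ E B hB v hv hs, ih]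

/-- the value on the standard vectors -/
theorem phi_std (ρ : Representation ℂ H M) (E : OEnd F m H) (B : M → M →ₗ[ℂ] ℂ)
    (hB : ∀ g x y, B (ρ g x) (ρ g y) = B x y) (v : M) (hv : Fixes ρ E v) (i : Fin m) (b : Fˣ) :
    B v (ρ (E.ubar (std i (b : F))) v) = B v (ρ (E.wd i) v) := by
  rw [E.ident i b]
  exact form_double_coset ρ B hB v (E.wd i) (E.pp i b) (E.qq i b) (hv.pp i b) (hv.qq i b)

/-- transport of weight spaces along a conjugation -/
theorem occ_of_conj [FiniteDimensional ℂ M] (ρ : Representation ℂ H M) (E : OEnd F m H) (h : H)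
    (T : (Ix m → F) → (Ix m → F)) (hT : Function.Surjective T)
    (hconj : ∀ r, h * E.ubar r * h⁻¹ = E.ubar (T r)) (w w' : Ix m → F)
    (hd : ∀ r, J w ⬝ᵥ r = J w' ⬝ᵥ T r) (ho : occ ρ E w) : occ ρ E w' := by
  unfold occ at ho ⊢
  have hmap := Cfsg.Agent.Lib.Helper13.SLMin.map_wt_of_conj ρ E.ubar E.ubar h T hT hconj (J w)
    (J w') hd
  intro hbot
  apply ho
  rw [hbot] at hmap
  rw [eq_bot_iff]
  intro x hx
  have h1 : ρ h x ∈ Submodule.map (ρ h) (wt ρ E.ubar (J w)) := Submodule.mem_map_of_mem hx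
  rw [hmap, Submodule.mem_bot] at h1
  have h2 : ρ h x = ρ h 0 := by rw [h1, map_zero]
  rw [Submodule.mem_bot]
  exact Cfsg.Agent.Lib.Helper13.SLMin.rho_injective ρ h h2

/-- E6: the number of occurring weights is at most the dimension. -/
theorem card_occ_le [FiniteDimensional ℂ M] (hJ : Function.Injective (J : (Ix m → F) → Ix m → F))
    (ρ : Representation ℂ H M) (E : OEnd F m H) (S : Finset (Ix m → F))
    (hS : ∀ w ∈ S, occ ρ E w) : S.card ≤ finrank ℂ M := by
  classical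
  have h1 := Cfsg.Agent.Lib.Helper13.SLMin.finrank_eq_sum_inf_wt ρ E.ubar E.ubar_add ⊤
    (fun _ _ _ => Submodule.mem_top)
  rw [finrank_top] at h1
  rw [h1]
  calc S.card = ∑ w ∈ S, 1 := by simp
    _ ≤ ∑ w ∈ S, finrank ℂ ↥(⊤ ⊓ wt ρ E.ubar (J w)) := by
        refine Finset.sum_le_sum (fun w hw => ?_)
        rw [top_inf_eq]
        exact Nat.one_le_iff_ne_zero.mpr (fun h0 => hS w hw (Submodule.finrank_eq_zero.mp h0))
    _ = ∑ v ∈ S.image J, finrank ℂ ↥(⊤ ⊓ wt ρ E.ubar v) := by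
        rw [Finset.sum_image (fun a _ b _ hab => hJ hab)]
    _ ≤ ∑ v : Ix m → F, finrank ℂ ↥(⊤ ⊓ wt ρ E.ubar v) :=
        Finset.sum_le_sum_of_subset (Finset.subset_univ _)

end rep

end Cfsg.Agent.Lib.Helper16.OOEnd
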