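import Mathlib
import Cfsg.Agent.Lib.Helper16.OOEndDefs

/-!
# S2344 endgame, leaf EA (helper16): the moves are invertible and preserve `Qp`
-/

set_option autoImplicit false
set_option linter.unusedSectionVars false
set_option linter.unusedVariables false

namespace Cfsg.Agent.Lib.Helper16.OOEnd

open Matrix

variable {F : Type*} [Field F] {m : ℕ}

theorem sl_inv_mul_coe (g : SpecialLinearGroup (Fin m) F) :
    ((g⁻¹ : SpecialLinearGroup (Fin m) F) : Matrix (Fin m) (Fin m) F) *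
      (g : Matrix (Fin m) (Fin m) F) = 1 := by
  rw [Matrix.SpecialLinearGroup.coe_inv, adjugate_mul, g.det_coe, one_smul]

theorem sl_mul_inv_coe (g : SpecialLinearGroup (Fin m) F) :
    (g : Matrix (Fin m) (Fin m) F) *
      ((g⁻¹ : SpecialLinearGroup (Fin m) F) : Matrix (Fin m) (Fin m) F) = 1 := by
  rw [Matrix.SpecialLinearGroup.coe_inv, mul_adjugate, g.det_coe, one_smul]

theorem actL_inv (g : SpecialLinearGroup (Fin m) F) (z : Ix m → F) : actL g⁻¹ (actL g z) = z := by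
  apply ext_coords
  · rfl
  · show ((g⁻¹ : SpecialLinearGroup (Fin m) F) : Matrix (Fin m) (Fin m) F) *ᵥ
      ((g : Matrix (Fin m) (Fin m) F) *ᵥ cx z) = cx z
    rw [mulVec_mulVec, sl_inv_mul_coe, one_mulVec]
  · show (((g⁻¹)⁻¹ : SpecialLinearGroup (Fin m) F) : Matrix (Fin m) (Fin m) F)ᵀ *ᵥ
      (((g⁻¹ : SpecialLinearGroup (Fin m) F) : Matrix (Fin m) (Fin m) F)ᵀ *ᵥ cy z) = cy z
    rw [inv_inv, mulVec_mulVec, ← transpose_mul, sl_inv_mul_coe, transpose_one, one_mulVec]

theorem actR_neg (R : Matrix (Fin m) (Fin m) F) (z : Ix m → F) : actR (-R) (actR R z) = z := by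
  apply ext_coords
  · rfl
  · show cx z + (R - Rᵀ) *ᵥ cy z + (-R - (-R)ᵀ) *ᵥ cy z = cx z
    rw [add_assoc, ← add_mulVec]
    have : R - Rᵀ + (-R - (-R)ᵀ) = 0 := by
      rw [transpose_neg]; abel
    rw [this, zero_mulVec, add_zero]
  · rfl

theorem actS_neg (c : Fin m → F) (z : Ix m → F) : actS (-c) (actS c z) = z := by
  apply ext_coords
  · show c0 z - c ⬝ᵥ cy z - (-c) ⬝ᵥ cy z = c0 z
    rw [neg_dotProduct]; ring
  · show cx z + (2 * c0 z - c ⬝ᵥ cy z) • c +
      (2 * (c0 z - c ⬝ᵥ cy z) - (-c) ⬝ᵥ cy z) • (-c) = cx z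
    rw [neg_dotProduct]
    funext j
    simp only [Pi.add_apply, Pi.smul_apply, Pi.neg_apply, smul_eq_mul]
    ring
  · rfl

theorem actN_neg (a : Fin m) (t : F) (z : Ix m → F) : actN a (-t) (actN a t z) = z := by
  apply ext_coords
  · show c0 z - t * cx z a - (-t) * cx z a = c0 z
    ring
  · rfl
  · show cy z + (Pi.single a (2 * c0 z * t - t ^ 2 * cx z a) : Fin m → F) +
      (Pi.single a (2 * (c0 z - t * cx z a) * (-t) - (-t) ^ 2 * cx z a) : Fin m → F) = cy z
    rw [add_assoc, ← Pi.single_add]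
    have : 2 * c0 z * t - t ^ 2 * cx z a + (2 * (c0 z - t * cx z a) * (-t) - (-t) ^ 2 * cx z a)
        = 0 := by ring
    rw [this, Pi.single_zero, add_zero]

theorem actC_inv (i : Fin m) (s : Fˣ) (z : Ix m → F) :
    actC i ((s⁻¹ : Fˣ) : F) (actC i (s : F) z) = z := by
  have hs : ((s⁻¹ : Fˣ) : F) * (s : F) = 1 := by
    rw [← Units.val_mul, inv_mul_cancel, Units.val_one]
  apply ext_coords
  · show ((s⁻¹ : Fˣ) : F) * ((s : F) * c0 z) = c0 z
    rw [← mul_assoc, hs, one_mul]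
  · funext j
    show (if j = i then ((s⁻¹ : Fˣ) : F) ^ 2 * (if j = i then (s : F) ^ 2 * cx z j else (s : F) * cx z j)
      else ((s⁻¹ : Fˣ) : F) * (if j = i then (s : F) ^ 2 * cx z j else (s : F) * cx z j)) = cx z j
    by_cases hj : j = i
    · rw [if_pos hj, if_pos hj, ← mul_assoc, ← mul_pow, hs, one_pow, one_mul]
    · rw [if_neg hj, if_neg hj, ← mul_assoc, hs, one_mul]
  · funext j
    show (if j = i then (if j = i then cy z j else (s : F) * cy z j)
      else ((s⁻¹ : Fˣ) : F) * (if j = i then cy z j else (s : F) * cy z j)) = cy z j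
    by_cases hj : j = i
    · rw [if_pos hj, if_pos hj]
    · rw [if_neg hj, if_neg hj, ← mul_assoc, hs, one_mul]

theorem step_symm {z z' : Ix m → F} (h : Step z z') : Step z' z := by
  cases h with
  | L g =>
    have := Step.L g⁻¹ (actL g z)
    rwa [actL_inv] at this
  | R R =>
    have := Step.R (-R) (actR R z)
    rwa [actR_neg] at this
  | S c =>
    have := Step.S (-c) (actS c z)
    rwa [actS_neg] at this
  | N a t =>
    have := Step.N a (-t) (actN a t z)
    rwa [actN_neg] at this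

/-- the moves are invertible -/
theorem reach_symm {z z' : Ix m → F} (h : Reach z z') : Reach z' z := by
  induction h with
  | refl => exact Relation.ReflTransGen.refl
  | tail _ hs ih => exact Relation.ReflTransGen.head (step_symm hs) ih

theorem Qp_step {z z' : Ix m → F} (h : Step z z') : Qp z' = Qp z := by
  cases h with
  | L g =>
    rw [Qp_eq, Qp_eq]
    show c0 z ^ 2 + ((g : Matrix (Fin m) (Fin m) F) *ᵥ cx z) ⬝ᵥ
      (((g⁻¹ : SpecialLinearGroup (Fin m) F) : Matrix (Fin m) (Fin m) F)ᵀ *ᵥ cy z) = _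
    rw [dotProduct_mulVec, vecMul_transpose, mulVec_mulVec, sl_inv_mul_coe, one_mulVec]
  | R R =>
    rw [Qp_eq, Qp_eq]
    show c0 z ^ 2 + (cx z + (R - Rᵀ) *ᵥ cy z) ⬝ᵥ cy z = _
    rw [add_dotProduct]
    have h0 : ((R - Rᵀ) *ᵥ cy z) ⬝ᵥ cy z = 0 := by
      rw [sub_mulVec, sub_dotProduct, mulVec_transpose, ← dotProduct_mulVec, dotProduct_comm,
        sub_self]
    rw [h0, add_zero]
  | S c =>
    rw [Qp_eq, Qp_eq]
    show (c0 z - c ⬝ᵥ cy z) ^ 2 + (cx z + (2 * c0 z - c ⬝ᵥ cy z) • c) ⬝ᵥ cy z = _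
    rw [add_dotProduct, smul_dotProduct, smul_eq_mul]
    ring
  | N a t =>
    rw [Qp_eq, Qp_eq]
    show (c0 z - t * cx z a) ^ 2 + cx z ⬝ᵥ
      (cy z + (Pi.single a (2 * c0 z * t - t ^ 2 * cx z a) : Fin m → F)) = _
    rw [dotProduct_add, dotProduct_single]
    ring

/-- the moves preserve the quadratic form -/
theorem Qp_reach {z z' : Ix m → F} (h : Reach z z') : Qp z' = Qp z := by
  induction h with
  | refl => rfl
  | tail _ hs ih => rw [Qp_step hs, ih]

end Cfsg.Agent.Lib.Helper16.OOEnd
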