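import Mathlib
import Cfsg.Agent.Lib.Helper16.OOEndDefs
import Cfsg.Agent.Lib.Helper16.OOEndA
import Cfsg.Agent.Lib.Helper16.OOEndEA
import Cfsg.Agent.Lib.Helper16.OOEndB
import Cfsg.Agent.Lib.Helper7.OOEndEB
import Cfsg.Agent.Lib.Helper14.OOEndEC
import Cfsg.Agent.Lib.Helper14.OOEndEF
import Cfsg.Agent.Lib.Helper7.OOEndEN

/-!
# S2344 endgame, part C (helper16): E2b `phi_class`, E3 `rigid`, E4 `occ_*`, E7 `endgame`
-/

set_option autoImplicit false
set_option linter.unusedSectionVars false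
set_option linter.unusedVariables false

namespace Cfsg.Agent.Lib.Helper16.OOEnd

open Matrix Cfsg.Agent.Lib.Helper16.SLMin Module

section rep

variable {F : Type*} [Field F] [Fintype F] {m : ℕ} {H : Type*} [Group H] {M : Type*}
  [AddCommGroup M] [Module ℂ M]

theorem Qp_zero' : Qp (0 : Ix m → F) = 0 := by
  simp [Cfsg.quadFormOdd]

theorem ne_zero_of_Qp_ne {z : Ix m → F} (hQ : Qp z ≠ 0) : z ≠ 0 := by
  rintro rfl
  exact hQ Qp_zero'

/-- E2b: the three classes. -/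
theorem phi_class (hm : 2 ≤ m) (h2 : (2 : F) ≠ 0) (hq : 3 ≤ Fintype.card F)
    (ρ : Representation ℂ H M) (E : OEnd F m H) (B : M → M →ₗ[ℂ] ℂ)
    (hB : ∀ g x y, B (ρ g x) (ρ g y) = B x y) (v : M) (hv : Fixes ρ E v) (i : Fin m) :
    (∀ z : Ix m → F, z ≠ 0 → Qp z = 0 →
        B v (ρ (E.ubar z) v) = B v (ρ (E.ubar (std i 0)) v)) ∧
      (∀ z : Ix m → F, Qp z ≠ 0 → B v (ρ (E.ubar z) v) = B v (ρ (E.wd i) v)) := by
  constructor
  · intro z hz hQ
    have hr := Cfsg.Agent.Lib.Helper7.OOEndEB.reach_std hm h2 hq i z hz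
    rw [hQ, neg_zero] at hr
    exact (phi_reach ρ E B hB v hv hr).symm
  · intro z hQ
    have hz : z ≠ 0 := ne_zero_of_Qp_ne hQ
    have hr := Cfsg.Agent.Lib.Helper7.OOEndEB.reach_std hm h2 hq i z hz
    rw [← phi_reach ρ E B hB v hv hr]
    have hne : -Qp z ≠ 0 := neg_ne_zero.mpr hQ
    exact phi_std ρ E B hB v hv i (Units.mk0 _ hne)

/-- E3: if no non-singular weight of `ubar` occurs, `ubar` fixes `v`. -/
theorem rigid [Finite H] [FiniteDimensional ℂ M] (hm : 2 ≤ m) (h2 : (2 : F) ≠ 0)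
    (hq : 3 ≤ Fintype.card F) (ρ : Representation ℂ H M) (E : OEnd F m H) (v : M)
    (hv : Fixes ρ E v) (hno : ∀ w : Ix m → F, Qp w ≠ 0 → ¬ occ ρ E w) :
    ∀ z, ρ (E.ubar z) v = v := by
  classical
  obtain ⟨B, hB, hrig, -⟩ := exists_invariant_form ρ
  have i : Fin m := ⟨0, by omega⟩
  obtain ⟨hsing, hnon⟩ := phi_class hm h2 hq ρ E B hB v hv i
  set φ : (Ix m → F) → ℂ := fun z => B v (ρ (E.ubar z) v) with hφ
  have hF : ∀ w : Ix m → F, Qp w ≠ 0 → ∑ z : Ix m → F, eps F (J w ⬝ᵥ (-z)) * φ z = 0 := by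
    intro w hw
    have hbot : wt ρ E.ubar (J w) = ⊥ := by
      by_contra hne
      exact hno w hw hne
    let χ : AddChar (Ix m → F) ℂ :=
      { toFun := fun z => eps F (J w ⬝ᵥ z)
        map_zero_eq_one' := by rw [dotProduct_zero, AddChar.map_zero_eq_one]
        map_add_eq_mul' := fun a b => by rw [dotProduct_add, AddChar.map_add_eq_mul] }
    have hχ : ∀ x : M, (∀ z : Ix m → F, ρ (E.ubarHom (Multiplicative.ofAdd z)) x = χ z • x) →
        x = 0 := by
      intro x hx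
      have : x ∈ wt ρ E.ubar (J w) := fun r => hx r
      rw [hbot, Submodule.mem_bot] at this
      exact this
    exact fourier_vanish ρ B E.ubarHom χ hχ v
  have hconst := Cfsg.Agent.Lib.Helper14.OOEndEF.phi_const (by omega) h2 φ _ _
    (fun z hz hQ => hsing z hz hQ) (fun z hQ => hnon z hQ) hF
  intro z
  apply hrig v (E.ubar z)
  have h1 := hconst z
  simp only [hφ] at h1
  rw [h1, E.ubar_zero, map_one, Module.End.one_apply]

variable [FiniteDimensional ℂ M]

/-- E4a: occurring weights are stable under the moves. -/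
theorem occ_step (ρ : Representation ℂ H M) (E : OEnd F m H) {w w' : Ix m → F} (h : Step w w')
    (ho : occ ρ E w) : occ ρ E w' := by
  cases h with
  | L g =>
    exact occ_of_conj ρ E (E.lv g) (actL g)
      (fun r => ⟨actL g⁻¹ r, by
        have := actL_inv g⁻¹ r
        rwa [inv_inv] at this⟩)
      (E.lv_ubar g) w _ (Cfsg.Agent.Lib.Helper14.OOEndEC.J_actL g w) ho
  | R R =>
    exact occ_of_conj ρ E (E.rd R) (actR R)
      (fun r => ⟨actR (-R) r, by
        have := actR_neg (-R) r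
        rwa [neg_neg] at this⟩)
      (E.rd_ubar R) w _ (Cfsg.Agent.Lib.Helper14.OOEndEC.J_actR R w) ho
  | S c =>
    exact occ_of_conj ρ E (E.sh c) (actS c)
      (fun r => ⟨actS (-c) r, by
        have := actS_neg (-c) r
        rwa [neg_neg] at this⟩)
      (E.sh_ubar c) w _ (Cfsg.Agent.Lib.Helper14.OOEndEC.J_actS c w) ho
  | N a t =>
    exact occ_of_conj ρ E (E.ng a t) (actN a t)
      (fun r => ⟨actN a (-t) r, by
        have := actN_neg a (-t) r
        rwa [neg_neg] at this⟩)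
      (E.ng_ubar a t) w _ (Cfsg.Agent.Lib.Helper14.OOEndEC.J_actN a t w) ho

theorem occ_reach (ρ : Representation ℂ H M) (E : OEnd F m H) {w w' : Ix m → F} (h : Reach w w')
    (ho : occ ρ E w) : occ ρ E w' := by
  induction h with
  | refl => exact ho
  | tail _ hs ih => exact occ_step ρ E hs ih

/-- E4b: occurring weights are stable under the (dual) scaling. -/
theorem occ_scale (ρ : Representation ℂ H M) (E : OEnd F m H) (i : Fin m) (s : Fˣ) (w : Ix m → F)
    (ho : occ ρ E w) : occ ρ E (actC' i (s : F) w) := by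
  have hd := Cfsg.Agent.Lib.Helper14.OOEndEC.J_actC i s⁻¹ w
  rw [inv_inv] at hd
  exact occ_of_conj ρ E (E.sc i s⁻¹) (actC i ((s⁻¹ : Fˣ) : F))
    (fun r => ⟨actC i (s : F) r, by
      have := actC_inv i s r
      exact this⟩)
    (E.sc_ubar i s⁻¹) w _ hd ho

/-- E4c: with a non-singular weight `w`, every `w'` with `Q'(w') ∈ Q'(w) (Fˣ)²` occurs. -/
theorem occ_orbit (hm : 2 ≤ m) (h2 : (2 : F) ≠ 0) (hq : 3 ≤ Fintype.card F)
    (ρ : Representation ℂ H M) (E : OEnd F m H) (w : Ix m → F) (hw : Qp w ≠ 0) (ho : occ ρ E w)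
    (w' : Ix m → F) (s : Fˣ) (h : Qp w' = (s : F) ^ 2 * Qp w) : occ ρ E w' := by
  have i : Fin m := ⟨0, by omega⟩
  have hne0 : ∀ z : Ix m → F, Qp z ≠ 0 → z ≠ 0 := fun z hQ => ne_zero_of_Qp_ne hQ
  -- w reaches std i (-Qp w)
  have h1 := occ_reach ρ E (Cfsg.Agent.Lib.Helper7.OOEndEB.reach_std hm h2 hq i w (hne0 w hw)) ho
  -- scale
  have h2' := occ_scale ρ E i s _ h1
  have hQ2 : Qp (actC' i (s : F) (std i (-Qp w))) = (s : F) ^ 2 * Qp w := by
    rw [Cfsg.Agent.Lib.Helper14.OOEndEC.Qp_actC']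
    congr 1
    have := Qp_reach (Cfsg.Agent.Lib.Helper7.OOEndEB.reach_std hm h2 hq i w (hne0 w hw))
    exact this
  have hs0 : (s : F) ^ 2 * Qp w ≠ 0 := mul_ne_zero (pow_ne_zero _ s.ne_zero) hw
  have h3 := occ_reach ρ E (Cfsg.Agent.Lib.Helper7.OOEndEB.reach_std hm h2 hq i _
    (hne0 _ (by rw [hQ2]; exact hs0))) h2'
  rw [hQ2] at h3
  -- w' reaches the same standard vector
  have h4 := Cfsg.Agent.Lib.Helper7.OOEndEB.reach_std hm h2 hq i w' (hne0 w' (by rw [h]; exact hs0))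
  rw [h] at h4
  exact occ_reach ρ E (reach_symm h4) h3

/-- E7: the endgame. -/
theorem endgame [Finite H] (hm : 2 ≤ m) (h2 : (2 : F) ≠ 0)
    (hq : 3 ≤ Fintype.card F) (ρ : Representation ℂ H M) (E : OEnd F m H) (v : M)
    (hv : Fixes ρ E v) :
    (∀ z, ρ (E.ubar z) v = v) ∨
      (Fintype.card F - 1) / 2 * (Fintype.card F ^ (2 * m) - Fintype.card F ^ m) ≤ finrank ℂ M := by
  classical
  by_cases hex : ∃ w : Ix m → F, Qp w ≠ 0 ∧ occ ρ E w
  · right
    obtain ⟨w, hw, ho⟩ := hex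
    let S : Finset (Ix m → F) := Finset.univ.filter (fun w' => ∃ s : Fˣ, Qp w' = (s : F) ^ 2 * Qp w)
    have hS : ∀ w' ∈ S, occ ρ E w' := by
      intro w' hw'
      obtain ⟨s, hs⟩ := (Finset.mem_filter.mp hw').2
      exact occ_orbit hm h2 hq ρ E w hw ho w' s hs
    have h1 := card_occ_le (Cfsg.Agent.Lib.Helper14.OOEndEC.J_injective h2) ρ E S hS
    have h3 := Cfsg.Agent.Lib.Helper7.OOEndEN.card_sq_class (m := m) h2 (Qp w) hw
    have h4 : Fintype.card {w' : Ix m → F // ∃ s : Fˣ, Qp w' = (s : F) ^ 2 * Qp w} = S.card := by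
      rw [Fintype.card_subtype]
    rw [h4] at h3
    exact le_trans h3 h1
  · left
    push Not at hex
    exact rigid hm h2 hq ρ E v hv (fun w hw ho => hex w hw ho)

end rep

end Cfsg.Agent.Lib.Helper16.OOEnd
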