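import Mathlib
import Cfsg.Agent.Lib.Helper16.OOEndConDefs
import Cfsg.Agent.Lib.Helper23.OOMinCONB1
import Cfsg.Agent.Lib.Helper18.OOEndCA
import Cfsg.Agent.Lib.Helper18.OOEndCE
import Cfsg.Agent.Lib.Helper6.OOEndCB
import Cfsg.Agent.Lib.Helper6.OOEndCD
import Cfsg.Agent.Lib.Helper14.OOEndCC

/-!
# S2344 endgame, leaf CF (helper16): the endgame datum of `Ω_{2n+1}(F)`, `n = m + 1`
-/

set_option autoImplicit false
set_option linter.unusedSectionVars false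
set_option linter.unusedVariables false

namespace Cfsg.Agent.Lib.Helper16.OOEndCF

open Matrix Cfsg.Agent.Lib.Helper16.OOEnd Cfsg.Agent.Lib.Helper26.OOMin Cfsg.Agent.Lib.Helper27.OPMin
  Cfsg.Agent.Lib.Helper23.OOMin Cfsg.Agent.Lib.Helper26.OPMin

variable {F : Type*} [Field F] {m : ℕ}

/-- `ubar z` as an isometry -/
def ubarOO (z : Ix m → F) : OGO (m + 1) F :=
  mkOO (ubarMat z) (ubarMat (-z))
    (by rw [← Cfsg.Agent.Lib.Helper18.OOEndCA.ubarMat_add, add_neg_cancel,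
      Cfsg.Agent.Lib.Helper18.OOEndCA.ubarMat_zero])
    (by rw [← Cfsg.Agent.Lib.Helper18.OOEndCA.ubarMat_add, neg_add_cancel,
      Cfsg.Agent.Lib.Helper18.OOEndCA.ubarMat_zero])
    (Cfsg.Agent.Lib.Helper18.OOEndCA.quadFormOdd_ubarMat z)

theorem matOO_ubarOO (z : Ix m → F) : matOO (ubarOO z) = ubarMat z := rfl

/-- the diagonal matrix `diag (l, 1, .., 1)` -/
def dl (l : F) : Matrix (Fin (m + 1)) (Fin (m + 1)) F :=
  Matrix.diagonal (Fin.cons l (fun _ => 1))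

theorem isUnit_det_dl {l : F} (hl : l ≠ 0) : IsUnit (dl l : Matrix (Fin (m + 1)) (Fin (m + 1)) F).det := by
  unfold dl
  rw [Matrix.det_diagonal, Fin.prod_univ_succ]
  simp only [Fin.cons_zero, Fin.cons_succ, Finset.prod_const_one, mul_one]
  exact isUnit_iff_ne_zero.mpr hl

theorem dl_inv {l : F} (hl : l ≠ 0) :
    (dl l : Matrix (Fin (m + 1)) (Fin (m + 1)) F)⁻¹ = dl l⁻¹ := by
  unfold dl
  apply Cfsg.Agent.Lib.Helper14.OOEndCC.diagonal_inv_of
  intro k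
  refine Fin.cases ?_ (fun k' => ?_) k
  · simp [hl]
  · simp

theorem hat_smul (c : F) (z : Ix m → F) : hat (c • z) = c • hat z := by
  funext k
  rcases k with ⟨⟩ | k | k
  · rfl
  · refine Fin.cases ?_ (fun k' => ?_) k
    · show (0 : F) = c * 0
      rw [mul_zero]
    · rfl
  · refine Fin.cases ?_ (fun k' => ?_) k
    · show (0 : F) = c * 0
      rw [mul_zero]
    · rfl

/-- the conjugation by `leviMatO (diag (l, 1, .., 1))` -/
theorem dl_ubarMat (l : Fˣ) (z : Ix m → F) :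
    leviMatO (dl (l : F)) * ubarMat z =
      ubarMat (((l⁻¹ : Fˣ) : F) • z) * leviMatO (dl (l : F) : Matrix (Fin (m + 1)) (Fin (m + 1)) F) := by
  have hl : (l : F) ≠ 0 := l.ne_zero
  have hli : ((l⁻¹ : Fˣ) : F) = (l : F)⁻¹ := Units.val_inv_eq_inv_val l
  refine Cfsg.Agent.Lib.Helper6.OOEndCB.conj_ubarMat _
    (fun u => Cfsg.Agent.Lib.Helper14.OOEndCC.Qp_leviMatO _ (isUnit_det_dl hl) u) l ?_ ?_ z
    (((l⁻¹ : Fˣ) : F) • z) ?_
  · rw [Cfsg.Agent.Lib.Helper14.OOEndCC.leviMatO_mulVec, dl_inv hl,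
      Cfsg.Agent.Lib.Helper14.OOEndCC.e0_hat_coords, c0_mk, cx_mk, cy_mk]
    unfold dl
    rw [Matrix.diagonal_transpose, Cfsg.Agent.Lib.Helper14.OOEndCC.diagonal_mulVec_cons,
      Cfsg.Agent.Lib.Helper14.OOEndCC.diagonal_mulVec_cons,
      Cfsg.Agent.Lib.Helper14.OOEndCC.smul_mk, Cfsg.Agent.Lib.Helper14.OOEndCC.smul_cons,
      Cfsg.Agent.Lib.Helper14.OOEndCC.smul_cons]
    simp
    rfl
  · rw [Cfsg.Agent.Lib.Helper14.OOEndCC.leviMatO_mulVec, dl_inv hl,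
      Cfsg.Agent.Lib.Helper14.OOEndCC.f0_hat_coords, c0_mk, cx_mk, cy_mk]
    unfold dl
    rw [Matrix.diagonal_transpose, Cfsg.Agent.Lib.Helper14.OOEndCC.diagonal_mulVec_cons,
      Cfsg.Agent.Lib.Helper14.OOEndCC.diagonal_mulVec_cons,
      Cfsg.Agent.Lib.Helper14.OOEndCC.smul_mk, Cfsg.Agent.Lib.Helper14.OOEndCC.smul_cons,
      Cfsg.Agent.Lib.Helper14.OOEndCC.smul_cons, hli]
    simp
    rfl
  · rw [hat_smul, smul_smul, hli, mul_inv_cancel₀ hl, one_smul,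
      Cfsg.Agent.Lib.Helper14.OOEndCC.leviMatO_mulVec, dl_inv hl,
      Cfsg.Agent.Lib.Helper14.OOEndCC.hat_eq, c0_mk, cx_mk, cy_mk]
    unfold dl
    rw [Matrix.diagonal_transpose, Cfsg.Agent.Lib.Helper14.OOEndCC.diagonal_mulVec_cons,
      Cfsg.Agent.Lib.Helper14.OOEndCC.diagonal_mulVec_cons]
    simp

theorem ubarOO_mem [Fintype F] (hq : 3 < Fintype.card F) (z : Ix m → F) :
    ubarOO z ∈ commutator (OGO (m + 1) F) := by
  obtain ⟨l, hl0, hl2⟩ := exists_sq_ne_one hq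
  have hl1 : l ≠ 1 := by
    rintro rfl
    exact hl2 (one_pow 2)
  set lu : Fˣ := Units.mk0 l hl0 with hlu
  have hli : ((lu⁻¹ : Fˣ) : F) = l⁻¹ := by rw [Units.val_inv_eq_inv_val, hlu, Units.val_mk0]
  have hd : l⁻¹ - 1 ≠ 0 := by
    intro h
    apply hl1
    have h1 : l⁻¹ = 1 := by linear_combination h
    rw [← inv_inv l, h1, inv_one]
  set w : Ix m → F := (l⁻¹ - 1)⁻¹ • z with hw
  refine mem_commutator_of_matOO (x := embOO (leviO (dl l) (isUnit_det_dl hl0))) (y := ubarOO w) ?_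
  rw [matOO_embOO_leviO, matOO_ubarOO, matOO_ubarOO]
  have h1 := dl_ubarMat lu w
  rw [hli] at h1
  change leviMatO (dl l) * ubarMat w = ubarMat (l⁻¹ • w) * leviMatO (dl l) at h1
  rw [h1, ← Cfsg.Agent.Lib.Helper18.OOEndCA.ubarMat_add]
  congr 2
  rw [hw, smul_smul]
  have hc : l⁻¹ * (l⁻¹ - 1)⁻¹ = 1 + (l⁻¹ - 1)⁻¹ := by
    field_simp
    ring
  rw [hc, add_smul, one_smul]

theorem omMatO_mul (x y : OmO (m + 1) F) : omMatO (x * y) = omMatO x * omMatO y := rfl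

theorem omMatO_one : omMatO (1 : OmO (m + 1) F) = 1 := rfl

theorem omMatO_ext {x y : OmO (m + 1) F} (h : omMatO x = omMatO y) : x = y := omO_ext h

/-- CF: the endgame datum of `Ω_{2n+1}(F)`. -/
theorem exists_oend [Fintype F] (hq : 3 < Fintype.card F)
    (D : SiegelB F (m + 1) ↥(Cfsg.Omega F (Cfsg.quadFormOdd (m + 1) F)))
    (hrad : ∀ R, omMatO (D.rad R) = radMatO R)
    (hlevi : ∀ g : SpecialLinearGroup (Fin (m + 1)) F,
      omMatO (D.levi g) = leviMatO (g : Matrix (Fin (m + 1)) (Fin (m + 1)) F))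
    (hsho : ∀ c, omMatO (D.sho c) = shoMat c) (hns : ∀ a, omMatO (D.ns a) = nsMat a)
    (hw : ∀ a b, a ≠ b → omMatO (D.w a b) = wMatO a b) :
    ∃ E : OEnd F m ↥(Cfsg.Omega F (Cfsg.quadFormOdd (m + 1) F)),
      (∀ z, omMatO (E.ubar z) = ubarMat z) ∧
      (∀ g, E.lv g = D.levi (embSL g)) ∧
      (∀ R, E.rd R = D.rad (embMat 0 R)) ∧
      (∀ c, E.sh c = D.sho (Fin.cons 0 c)) ∧
      (∀ a t, E.ng a t = D.xm a.succ t) ∧
      (∀ i, E.wd i = D.w 0 i.succ) ∧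
      (∀ i b, E.pp i b = D.rad (Matrix.single i.succ 0 (1 : F)) *
        D.levi (SpecialLinearGroup.transvection (zero_ne_succ i) ((b⁻¹ : Fˣ) : F))) ∧
      (∀ i b, E.qq i b = D.levi (dg2 i b) * (D.rad (Matrix.single i.succ 0 (1 : F)) *
        D.levi (SpecialLinearGroup.transvection (zero_ne_succ i) ((b⁻¹ : Fˣ) : F)))) ∧
      (∀ (j : Fin m) (t : F), E.ubar (mk 0 (Pi.single j t : Fin m → F) 0) =
        D.levi (SpecialLinearGroup.transvection (Fin.succ_ne_zero j) t)) := by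
  classical
  have hnsinv : ∀ a, omMatO ((D.ns a)⁻¹) = nsMat a := by
    intro a
    have h1 : omMatO ((D.ns a)⁻¹) * omMatO (D.ns a) = 1 := by
      rw [← omMatO_mul, inv_mul_cancel, omMatO_one]
    rw [hns] at h1
    calc omMatO ((D.ns a)⁻¹) = omMatO ((D.ns a)⁻¹) * (nsMat a * nsMat a) := by
          rw [Cfsg.Agent.Lib.Helper14.OOEndCC.nsMat_mul_self, Matrix.mul_one]
      _ = (omMatO ((D.ns a)⁻¹) * nsMat a) * nsMat a := by rw [Matrix.mul_assoc]
      _ = nsMat a := by rw [h1, Matrix.one_mul]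
  let ub : (Ix m → F) → OmO (m + 1) F := fun z => ⟨ubarOO z, ubarOO_mem hq z⟩
  have hub : ∀ z, omMatO (ub z) = ubarMat z := fun z => rfl
  refine ⟨{
    ubar := ub
    lv := fun g => D.levi (embSL g)
    rd := fun R => D.rad (embMat 0 R)
    sh := fun c => D.sho (Fin.cons 0 c)
    ng := fun a t => D.xm a.succ t
    sc := fun i s => D.levi (dg2 i s⁻¹)
    wd := fun i => D.w 0 i.succ
    pp := fun i b => D.rad (Matrix.single i.succ 0 (1 : F)) *
      D.levi (SpecialLinearGroup.transvection (zero_ne_succ i) ((b⁻¹ : Fˣ) : F))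
    qq := fun i b => D.levi (dg2 i b) * (D.rad (Matrix.single i.succ 0 (1 : F)) *
      D.levi (SpecialLinearGroup.transvection (zero_ne_succ i) ((b⁻¹ : Fˣ) : F)))
    ubar_add := ?_
    lv_ubar := ?_
    rd_ubar := ?_
    sh_ubar := ?_
    ng_ubar := ?_
    sc_ubar := ?_
    ident := ?_ }, hub, fun g => rfl, fun R => rfl, fun c => rfl, fun a t => rfl, fun i => rfl,
      fun i b => rfl, fun i b => rfl, ?_⟩
  · intro z z'
    apply omMatO_ext
    rw [omMatO_mul, hub, hub, hub]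
    exact Cfsg.Agent.Lib.Helper18.OOEndCA.ubarMat_add z z'
  · intro g z
    rw [mul_inv_eq_iff_eq_mul]
    apply omMatO_ext
    rw [omMatO_mul, omMatO_mul, hub, hub, hlevi]
    exact Cfsg.Agent.Lib.Helper14.OOEndCC.lv_ubarMat g z
  · intro R z
    rw [mul_inv_eq_iff_eq_mul]
    apply omMatO_ext
    rw [omMatO_mul, omMatO_mul, hub, hub, hrad]
    exact Cfsg.Agent.Lib.Helper14.OOEndCC.rd_ubarMat R z
  · intro c z
    rw [mul_inv_eq_iff_eq_mul]
    apply omMatO_ext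
    rw [omMatO_mul, omMatO_mul, hub, hub, hsho]
    exact Cfsg.Agent.Lib.Helper14.OOEndCC.sh_ubarMat c z
  · intro a t z
    rw [mul_inv_eq_iff_eq_mul]
    apply omMatO_ext
    unfold SiegelB.xm
    simp only [omMatO_mul, hub, hsho, hns, hnsinv]
    exact Cfsg.Agent.Lib.Helper14.OOEndCC.ng_ubarMat a t z
  · intro i s z
    rw [mul_inv_eq_iff_eq_mul]
    apply omMatO_ext
    rw [omMatO_mul, omMatO_mul, hub, hub, hlevi]
    exact Cfsg.Agent.Lib.Helper14.OOEndCC.sc_ubarMat i s z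
  · intro i b
    apply omMatO_ext
    rw [omMatO_mul, omMatO_mul, omMatO_mul, omMatO_mul, omMatO_mul, hub, hrad, hlevi, hlevi,
      hw 0 i.succ (zero_ne_succ i)]
    exact Cfsg.Agent.Lib.Helper6.OOEndCD.ubarMat_std i b
  · intro j t
    apply omMatO_ext
    rw [hub, hlevi]
    exact Cfsg.Agent.Lib.Helper18.OOEndCE.ubarMat_single j t

end Cfsg.Agent.Lib.Helper16.OOEndCF
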