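import Mathlib
import Cfsg.Agent.Lib.Helper16.OOEndC
import Cfsg.Agent.Lib.Helper16.OOEndConDefs
import Cfsg.Agent.Lib.Helper2.SLGen
import Cfsg.Agent.Lib.Helper16.OOEndCF

/-!
# S2344 Part III: the deliverable (helper16)

`partIII`: in `Ω_{2n+1}(F)`, `n = m + 1 ≥ 3`, `q` odd `> 3`: a vector `v` of a representation `ρ` that is fixed by
the Siegel radical (`rad R`, `sho c`), by `levi g` for `g e_0 ∈ F e_0` and by the negative short root elements
`xm a t` (`a ≠ 0`) is fixed by `levi (SL_n)`, or else `dim ρ ≥ (q-1)/2 (q^(2m) - q^m)`.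
-/

set_option autoImplicit false
set_option linter.unusedSectionVars false
set_option linter.unusedVariables false

namespace Cfsg.Agent.Lib.Helper16.OOEnd

open Matrix Cfsg.Agent.Lib.Helper16.SLMin Module Cfsg.Agent.Lib.Helper26.OOMin
  Cfsg.Agent.Lib.Helper27.OPMin

variable {F : Type*} [Field F] [Fintype F] {m : ℕ} {M : Type*} [AddCommGroup M] [Module ℂ M]
  [FiniteDimensional ℂ M]

theorem fix_mul {H : Type*} [Group H] (ρ : Representation ℂ H M) {g h : H} {v : M}
    (hg : ρ g v = v) (hh : ρ h v = v) : ρ (g * h) v = v := by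
  rw [map_mul, Module.End.mul_apply, hh, hg]

omit [Fintype F] in
theorem transvection_col0 {i j : Fin (m + 1)} (hij : i ≠ j) (hj : j ≠ 0) (c : F) (k : Fin (m + 1))
    (hk : k ≠ 0) :
    ((SpecialLinearGroup.transvection hij c : SpecialLinearGroup (Fin (m + 1)) F) :
      Matrix (Fin (m + 1)) (Fin (m + 1)) F) k 0 = 0 := by
  rw [Matrix.SpecialLinearGroup.transvection_coe]
  show (1 + Matrix.single i j c : Matrix (Fin (m + 1)) (Fin (m + 1)) F) k 0 = 0
  rw [Matrix.add_apply, Matrix.one_apply_ne hk, zero_add, Matrix.single_apply_of_ne]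
  rintro ⟨-, h⟩
  exact hj h

theorem partIII (hm : 2 ≤ m) (h2 : (2 : F) ≠ 0) (hq : 3 < Fintype.card F)
    (D : SiegelB F (m + 1) ↥(Cfsg.Omega F (Cfsg.quadFormOdd (m + 1) F)))
    (hDrad : ∀ R, omMatO (D.rad R) = radMatO R)
    (hDlevi : ∀ g : SpecialLinearGroup (Fin (m + 1)) F,
      omMatO (D.levi g) = leviMatO (g : Matrix (Fin (m + 1)) (Fin (m + 1)) F))
    (hDsho : ∀ c, omMatO (D.sho c) = shoMat c) (hDns : ∀ a, omMatO (D.ns a) = nsMat a)
    (hDw : ∀ a b, a ≠ b → omMatO (D.w a b) = wMatO a b)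
    (ρ : Representation ℂ ↥(Cfsg.Omega F (Cfsg.quadFormOdd (m + 1) F)) M) (v : M)
    (hrad : ∀ R, ρ (D.rad R) v = v) (hsho : ∀ c, ρ (D.sho c) v = v)
    (hlevi : ∀ g : SpecialLinearGroup (Fin (m + 1)) F,
      (∀ i, i ≠ 0 → (g : Matrix (Fin (m + 1)) (Fin (m + 1)) F) i 0 = 0) → ρ (D.levi g) v = v)
    (hxm : ∀ a t, a ≠ 0 → ρ (D.xm a t) v = v) :
    (∀ g, ρ (D.levi g) v = v) ∨
      (Fintype.card F - 1) / 2 * (Fintype.card F ^ (2 * m) - Fintype.card F ^ m) ≤ finrank ℂ M := by
  classical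
  obtain ⟨E, -, hlv, hrd, hsh, hng, hwd, hpp, hqq, hsingle⟩ :=
    Cfsg.Agent.Lib.Helper16.OOEndCF.exists_oend hq D hDrad hDlevi hDsho hDns hDw
  have htv : ∀ (i : Fin m) (b : F),
      ρ (D.levi (SpecialLinearGroup.transvection (zero_ne_succ i) b)) v = v := by
    intro i b
    apply hlevi
    intro k hk
    exact transvection_col0 _ (Fin.succ_ne_zero i) b k hk
  have hP : ∀ (i : Fin m) (b : Fˣ), ρ (D.rad (Matrix.single i.succ 0 (1 : F)) *
      D.levi (SpecialLinearGroup.transvection (zero_ne_succ i) ((b⁻¹ : Fˣ) : F))) v = v :=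
    fun i b => fix_mul ρ (hrad _) (htv i _)
  have hfix : Fixes ρ E v := by
    refine ⟨fun g => ?_, fun R => ?_, fun c => ?_, fun a t => ?_, fun i b => ?_, fun i b => ?_⟩
    · rw [hlv]
      apply hlevi
      intro k hk
      obtain ⟨k', rfl⟩ := Fin.exists_succ_eq.mpr hk
      rfl
    · rw [hrd]; exact hrad _
    · rw [hsh]; exact hsho _
    · rw [hng]; exact hxm _ _ (Fin.succ_ne_zero a)
    · rw [hpp]; exact hP i b
    · rw [hqq]
      refine fix_mul ρ ?_ (hP i b)
      apply hlevi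
      intro k hk
      obtain ⟨k', rfl⟩ := Fin.exists_succ_eq.mpr hk
      show Matrix.diagonal _ _ _ = 0
      rw [Matrix.diagonal_apply_ne _ (Fin.succ_ne_zero k')]
  have hq3 : 3 ≤ Fintype.card F := by omega
  rcases endgame hm h2 hq3 ρ E v hfix with hall | hbig
  · left
    have hall' : ∀ (j : Fin m) (t : F),
        ρ (D.levi (SpecialLinearGroup.transvection (Fin.succ_ne_zero j) t)) v = v := by
      intro j t
      rw [← hsingle j t]
      exact hall _
    intro g
    have : Nontrivial (Fin (m + 1)) := Fin.nontrivial_iff_two_le.mpr (by omega)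
    refine Cfsg.Agent.Lib.Helper2.sl_transvection_induction
      (P := fun g : SpecialLinearGroup (Fin (m + 1)) F => ρ (D.levi g) v = v) ?_ ?_ g
    · intro i j hij c
      by_cases hj : j = 0
      · subst hj
        obtain ⟨i', rfl⟩ := Fin.exists_succ_eq.mpr hij
        exact hall' i' c
      · apply hlevi
        intro k hk
        exact transvection_col0 hij hj c k hk
    · intro A B hA hB
      show ρ (D.levi (A * B)) v = v
      rw [map_mul]
      exact fix_mul ρ hA hB
  · right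
    exact hbig

end Cfsg.Agent.Lib.Helper16.OOEnd
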