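/-
S2345 (minimal degree of `Ω⁺_{2n}(q)`; planner helper27), leaf S1 of the stage lemma (helper16):
the fixed space of the coordinate hyperplane `Q' = {rad R : R a b = 0 = R b a}` of the Siegel radical
is the sum of the weight spaces of the weights `δ (E_ab - E_ba)`.
-/
import Mathlib
import Cfsg.Agent.Lib.Helper27.OPMinDefs
import Cfsg.Agent.Lib.Helper27.OPMinStageDefs
import Cfsg.Agent.Lib.Helper13.OPMinW
import Cfsg.Agent.Lib.Helper24.OPMinWS

set_option autoImplicit false
set_option linter.unusedSectionVars false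

namespace Cfsg.Agent.Lib.Helper16.OPMin

open Matrix Module Cfsg.Agent.Lib.Helper27.OPMin Cfsg.Agent.Lib.Helper16.SLMin

section mat

variable {F : Type*} [Field F] {n : ℕ}

/-- `δ (e_a ∧ e_b) = δ E_ab - δ E_ba` -/
theorem smul_wedge_single (a b : Fin n) (δ : F) :
    δ • wedge (Pi.single a (1 : F)) (Pi.single b (1 : F)) =
      Matrix.single a b δ - Matrix.single b a δ := by
  unfold wedge
  rw [← Matrix.single_eq_single_vecMulVec_single, ← Matrix.single_eq_single_vecMulVec_single,
    smul_sub, Matrix.smul_single, Matrix.smul_single, smul_eq_mul, mul_one]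

/-- the entries of the weight `δ (E_ab - E_ba)` -/
theorem Wd_apply (a b : Fin n) (δ : F) (p : Fin n × Fin n) :
    Wd a b δ p = (Matrix.single a b δ - Matrix.single b a δ) p.1 p.2 := by
  unfold Wd
  rw [smul_wedge_single]
  rfl

/-- the pairing with the weight `δ (E_ab - E_ba)` -/
theorem Wd_dotProduct (a b : Fin n) (δ : F) (R : Matrix (Fin n) (Fin n) F) :
    Wd a b δ ⬝ᵥ ofM R = δ * (R a b - R b a) := by
  have h : Wd a b δ = ofM (Matrix.single a b δ) - ofM (Matrix.single b a δ) := by
    funext p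
    rw [Wd_apply]
    rfl
  rw [h, dotProduct_comm, dotProduct_sub, Cfsg.Agent.Lib.Helper24.OPMin.dotProduct_ofM_single,
    Cfsg.Agent.Lib.Helper24.OPMin.dotProduct_ofM_single]
  simp only [ofM_apply]
  ring

end mat

section S1

variable {F : Type*} [Field F] [Fintype F] [DecidableEq F] {n : ℕ} {H : Type*} [Group H]
  {M : Type*} [AddCommGroup M] [Module ℂ M] [FiniteDimensional ℂ M]
  (D : Siegel F n H) (ρ : Representation ℂ H M)

theorem rad_eq_radv (R : Matrix (Fin n) (Fin n) F) : D.rad R = D.radv (ofM R) := rfl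

/-- the weight spaces `δ (E_ab - E_ba)` lie in the fixed space of `Q'` -/
theorem wt_Wd_le_fixN (a b : Fin n) (δ : F) : wt ρ D.radv (Wd a b δ) ≤ fixN D ρ a b := by
  intro m hm
  rw [mem_fixN]
  intro R h1 h2
  rw [rad_eq_radv, hm (ofM R), Wd_dotProduct, h1, h2, sub_zero, mul_zero,
    AddChar.map_zero_eq_one, one_smul]

/-- `fixN` is stable under the radical -/
theorem radv_mem_fixN (a b : Fin n) (r : Fin n × Fin n → F) (m : M) (hm : m ∈ fixN D ρ a b) :
    ρ (D.radv r) m ∈ fixN D ρ a b := by
  rw [mem_fixN] at hm ⊢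
  intro R h1 h2
  have hc : D.rad R * D.radv r = D.radv r * D.rad R := D.rad_comm R (toM r)
  rw [← Module.End.mul_apply, ← map_mul, hc, map_mul, Module.End.mul_apply, hm R h1 h2]

/-- S1: the fixed space of the hyperplane `Q'` is the sum of the weight spaces `δ (E_ab - E_ba)`. -/
theorem fixN_eq_iSup (a b : Fin n) (hab : a ≠ b) :
    fixN D ρ a b = ⨆ δ : F, wt ρ D.radv (Wd a b δ) := by
  apply le_antisymm
  · rw [Cfsg.Agent.Lib.Helper13.OPMin.eq_iSup_inf_wt ρ D.radv D.radv_add (fixN D ρ a b)
      (fun r m hm => radv_mem_fixN D ρ a b r m hm)]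
    apply iSup_le
    intro v
    by_cases hbot : fixN D ρ a b ⊓ wt ρ D.radv v = ⊥
    · rw [hbot]
      exact bot_le
    · obtain ⟨m, hm, hm0⟩ := (Submodule.ne_bot_iff _).mp hbot
      have hmN : m ∈ fixN D ρ a b := hm.1
      have hmw : m ∈ wt ρ D.radv v := hm.2
      have hwne : wt ρ D.radv v ≠ ⊥ := by
        intro h
        rw [h] at hmw
        exact hm0 ((Submodule.mem_bot ℂ).mp hmw)
      have halt := Cfsg.Agent.Lib.Helper24.OPMin.isAltM_of_wt_ne_bot D ρ v hwne
      -- `eps (v ⬝ᵥ ofM R) = 1` for `R` in the hyperplane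
      have key : ∀ R : Matrix (Fin n) (Fin n) F, R a b = 0 → R b a = 0 →
          eps F (v ⬝ᵥ ofM R) = 1 := by
        intro R h1 h2
        have e1 := (mem_fixN.mp hmN) R h1 h2
        rw [rad_eq_radv, hmw (ofM R)] at e1
        by_contra hne
        have h3 : ((eps F (v ⬝ᵥ ofM R) : ℂ) - 1) • m = 0 := by
          rw [sub_smul, one_smul, e1, sub_self]
        rcases smul_eq_zero.mp h3 with h4 | h4
        · exact hne (sub_eq_zero.mp h4)
        · exact hm0 h4
      have hv : v = Wd a b (v (a, b)) := by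
        funext p
        obtain ⟨i, j⟩ := p
        rw [Wd_apply]
        show v (i, j) = (Matrix.single a b (v (a, b)) - Matrix.single b a (v (a, b))) i j
        rw [Matrix.sub_apply, Matrix.single_apply, Matrix.single_apply]
        by_cases h1 : a = i ∧ b = j
        · obtain ⟨rfl, rfl⟩ := h1
          have : ¬ (b = a ∧ a = b) := fun h => hab h.2
          rw [if_pos ⟨rfl, rfl⟩, if_neg this, sub_zero]
        · by_cases h2 : b = i ∧ a = j
          · obtain ⟨rfl, rfl⟩ := h2
            rw [if_neg h1, if_pos ⟨rfl, rfl⟩, zero_sub]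
            exact halt.2 a b
          · rw [if_neg h1, if_neg h2, sub_zero]
            apply Cfsg.Agent.Lib.Helper24.OPMin.eq_zero_of_eps_mul_eq_one
            intro t
            rw [← Cfsg.Agent.Lib.Helper24.OPMin.dotProduct_ofM_single]
            apply key
            · rw [Matrix.single_apply, if_neg]
              rintro ⟨rfl, rfl⟩
              exact h1 ⟨rfl, rfl⟩
            · rw [Matrix.single_apply, if_neg]
              rintro ⟨rfl, rfl⟩
              exact h2 ⟨rfl, rfl⟩
      refine le_trans inf_le_right ?_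
      rw [hv]
      exact le_iSup (fun δ : F => wt ρ D.radv (Wd a b δ)) (v (a, b))
  · exact iSup_le fun δ => wt_Wd_le_fixN D ρ a b δ

end S1

end Cfsg.Agent.Lib.Helper16.OPMin
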