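/-
S2345 (minimal degree of `Ω⁺_{2n}(q)`; planner helper27), leaf S3 of the stage lemma (helper16):
the root groups `levi (transvection i j ·)` (`i ∉ {a,b}`, `j ∈ {a,b}`, `(i,j) ≠ (i₀,b)`) fix the line of
the weight `E_{i₀ a} - E_{a i₀}` pointwise (torus argument, `q > 3`).
-/
import Mathlib
import Cfsg.Agent.Lib.Helper27.OPMinDefs
import Cfsg.Agent.Lib.Helper27.OPMinStageDefs
import Cfsg.Agent.Lib.Helper24.OPMinWS
import Cfsg.Agent.Lib.Helper24.OPMinOrb

set_option autoImplicit false
set_option linter.unusedSectionVars false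

namespace Cfsg.Agent.Lib.Helper16.OPMin

open Matrix Module Cfsg.Agent.Lib.Helper27.OPMin Cfsg.Agent.Lib.Helper16.SLMin

section mat

variable {F : Type*} [Field F] {n : ℕ}

/-- `gᵀ (x ∧ y) g = (x g) ∧ (y g)` (row vectors) -/
theorem transpose_mul_wedge_mul (g : Matrix (Fin n) (Fin n) F) (x y : Fin n → F) :
    gᵀ * wedge x y * g = wedge (x ᵥ* g) (y ᵥ* g) := by
  unfold wedge
  rw [Matrix.mul_sub, Matrix.sub_mul, Matrix.mul_vecMulVec, Matrix.mul_vecMulVec,
    Matrix.vecMulVec_mul, Matrix.vecMulVec_mul, Matrix.mulVec_transpose, Matrix.mulVec_transpose]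

theorem wedge_add_smul_left (x y : Fin n → F) (c : F) : wedge (x + c • y) y = wedge x y := by
  ext k l
  rw [wedge_apply, wedge_apply, Pi.add_apply, Pi.add_apply, Pi.smul_apply, Pi.smul_apply,
    smul_eq_mul, smul_eq_mul]
  ring

theorem wedge_smul_smul (x y : Fin n → F) (c e : F) (h : c * e = 1) :
    wedge (c • x) (e • y) = wedge x y := by
  ext k l
  rw [wedge_apply, wedge_apply, Pi.smul_apply, Pi.smul_apply, Pi.smul_apply, Pi.smul_apply,
    smul_eq_mul, smul_eq_mul, smul_eq_mul, smul_eq_mul]
  have e1 : c * x k * (e * y l) = (c * e) * (x k * y l) := by ring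
  have e2 : e * y k * (c * x l) = (c * e) * (y k * x l) := by ring
  rw [e1, e2, h, one_mul, one_mul]

/-- the weight `V0` at `δ = 0` -/
theorem toM_V0_zero (i₀ a b : Fin n) :
    toM (V0 i₀ a b (0 : F)) = wedge (Pi.single i₀ (1 : F)) (Pi.single a (1 : F)) := by
  unfold V0
  rw [toM_ofM, zero_smul, add_zero]

/-- the rows of a transvection -/
theorem single_vecMul_transvection {i j : Fin n} (hij : i ≠ j) (s : F) (k : Fin n) :
    (Pi.single k (1 : F) : Fin n → F) ᵥ*
        ((SpecialLinearGroup.transvection hij s : SpecialLinearGroup (Fin n) F) :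
          Matrix (Fin n) (Fin n) F) =
      Pi.single k (1 : F) + (if k = i then s else 0) • Pi.single j (1 : F) := by
  rw [SpecialLinearGroup.transvection_coe, Matrix.vecMul_add, Matrix.vecMul_one]
  congr 1
  funext l
  rw [Matrix.single_one_vecMul, Pi.smul_apply, smul_eq_mul, Pi.single_apply]
  show Matrix.single i j s k l = _
  rw [Matrix.single_apply]
  by_cases hk : k = i
  · subst hk
    by_cases hl : l = j
    · subst hl
      simp
    · have hl' : ¬ j = l := fun h => hl h.symm
      simp [hl, hl']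
  · have : ¬ (i = k ∧ j = l) := fun h => hk h.1.symm
    simp [this, hk]

/-- the rows of a diagonal matrix -/
theorem single_vecMul_diagonal' (d : Fin n → F) (k : Fin n) :
    (Pi.single k (1 : F) : Fin n → F) ᵥ* Matrix.diagonal d = d k • Pi.single k (1 : F) := by
  funext l
  rw [Matrix.single_one_vecMul, Pi.smul_apply, smul_eq_mul, Pi.single_apply]
  show Matrix.diagonal d k l = _
  by_cases hl : l = k
  · subst hl
    simp
  · have : k ≠ l := fun h => hl h.symm
    simp [Matrix.diagonal_apply_ne _ this, hl]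

/-- a diagonal matrix of determinant one as an element of `SL` -/
def dgSL (d : Fin n → F) (hd : ∏ k, d k = 1) : SpecialLinearGroup (Fin n) F :=
  ⟨Matrix.diagonal d, by rw [Matrix.det_diagonal, hd]⟩

theorem dgSL_coe (d : Fin n → F) (hd : ∏ k, d k = 1) :
    ((dgSL d hd : SpecialLinearGroup (Fin n) F) : Matrix (Fin n) (Fin n) F) = Matrix.diagonal d :=
  rfl

/-- a diagonal element normalises the root groups -/
theorem dgSL_mul_transvection (d : Fin n → F) (hd : ∏ k, d k = 1) {i j : Fin n} (hij : i ≠ j)
    (s : F) :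
    dgSL d hd * SpecialLinearGroup.transvection hij s =
      SpecialLinearGroup.transvection hij (d i * (d j)⁻¹ * s) * dgSL d hd := by
  have hdj : d j ≠ 0 := by
    have h1 : ∏ k, d k ≠ 0 := by rw [hd]; exact one_ne_zero
    exact (Finset.prod_ne_zero_iff.mp h1) j (Finset.mem_univ j)
  apply Subtype.ext
  show ((dgSL d hd : SpecialLinearGroup (Fin n) F) : Matrix (Fin n) (Fin n) F) *
      ((SpecialLinearGroup.transvection hij s : SpecialLinearGroup (Fin n) F) :
        Matrix (Fin n) (Fin n) F) =
    ((SpecialLinearGroup.transvection hij (d i * (d j)⁻¹ * s) : SpecialLinearGroup (Fin n) F) :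
        Matrix (Fin n) (Fin n) F) *
      ((dgSL d hd : SpecialLinearGroup (Fin n) F) : Matrix (Fin n) (Fin n) F)
  rw [dgSL_coe, SpecialLinearGroup.transvection_coe, SpecialLinearGroup.transvection_coe]
  ext k l
  rw [Matrix.diagonal_mul, Matrix.mul_diagonal, Matrix.add_apply, Matrix.add_apply,
    Matrix.single_apply, Matrix.single_apply]
  by_cases hkl : k = l
  · subst hkl
    have : ¬ (i = k ∧ j = k) := fun h => hij (h.1.trans h.2.symm)
    rw [if_neg this, if_neg this, Matrix.one_apply_eq, add_zero, mul_one, one_mul]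
  · rw [Matrix.one_apply_ne hkl, zero_add, zero_add]
    by_cases h : i = k ∧ j = l
    · obtain ⟨rfl, rfl⟩ := h
      rw [if_pos ⟨rfl, rfl⟩, if_pos ⟨rfl, rfl⟩]
      field_simp
    · rw [if_neg h, if_neg h, mul_zero, zero_mul]

theorem exists_sq_ne_one [Fintype F] [DecidableEq F] (hq : 3 < Fintype.card F) :
    ∃ s : F, s ≠ 0 ∧ s ^ 2 ≠ 1 := by
  by_contra hcon0
  have hcon : ∀ s : F, s ≠ 0 → s ^ 2 = 1 := by
    intro s hs
    by_contra h
    exact hcon0 ⟨s, hs, h⟩
  have hsub : (Finset.univ : Finset F) ⊆ {0, 1, -1} := by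
    intro s _
    by_cases h0 : s = 0
    · simp [h0]
    · have h1 := hcon s h0
      have h2 : (s - 1) * (s + 1) = 0 := by
        have : (s - 1) * (s + 1) = s ^ 2 - 1 := by ring
        rw [this, h1, sub_self]
      rcases mul_eq_zero.mp h2 with h | h
      · simp [sub_eq_zero.mp h]
      · simp [eq_neg_of_add_eq_zero_left h]
  have h3 := Finset.card_le_card hsub
  have h4 : ({0, 1, -1} : Finset F).card ≤ 3 := Finset.card_le_three
  rw [Finset.card_univ] at h3
  omega

end mat

section S3

variable {F : Type*} [Field F] [Fintype F] [DecidableEq F] {n : ℕ} {H : Type*} [Group H]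
  {M : Type*} [AddCommGroup M] [Module ℂ M] [FiniteDimensional ℂ M]
  (D : Siegel F n H) (ρ : Representation ℂ H M)

/-- a Levi element stabilising the weight `v` stabilises its weight space -/
theorem levi_mem_wt (g : SpecialLinearGroup (Fin n) F) (v : Fin n × Fin n → F)
    (hv : (g : Matrix (Fin n) (Fin n) F)ᵀ * toM v * (g : Matrix (Fin n) (Fin n) F) = toM v)
    (m : M) (hm : m ∈ wt ρ D.radv v) : ρ (D.levi g) m ∈ wt ρ D.radv v := by
  have h := Cfsg.Agent.Lib.Helper24.OPMin.map_wt_levi D ρ g v v hv.symm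
  rw [← h]
  exact Submodule.mem_map_of_mem hm

/-- the torus argument: a root group stabilising the weight `v`, normalised by a diagonal element
stabilising `v` with `d i ≠ d j`, fixes a one-dimensional weight space pointwise -/
theorem levi_transvection_fix_of_diag (v : Fin n × Fin n → F) {i j : Fin n} (hij : i ≠ j)
    (hst : ∀ s : F,
      ((SpecialLinearGroup.transvection hij s : SpecialLinearGroup (Fin n) F) :
          Matrix (Fin n) (Fin n) F)ᵀ * toM v *
        ((SpecialLinearGroup.transvection hij s : SpecialLinearGroup (Fin n) F) :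
          Matrix (Fin n) (Fin n) F) = toM v)
    (d : Fin n → F) (hd : ∏ k, d k = 1)
    (hdv : (Matrix.diagonal d)ᵀ * toM v * Matrix.diagonal d = toM v) (hdij : d i ≠ d j)
    (hL : finrank ℂ ↥(wt ρ D.radv v) = 1) (t : F) :
    ∀ m ∈ wt ρ D.radv v, ρ (D.levi (SpecialLinearGroup.transvection hij t)) m = m := by
  have hdj : d j ≠ 0 := by
    have h1 : ∏ k, d k ≠ 0 := by rw [hd]; exact one_ne_zero
    exact (Finset.prod_ne_zero_iff.mp h1) j (Finset.mem_univ j)
  apply Cfsg.Agent.Lib.Helper24.OPMinOrb.fixed_of_torus_field ρ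
    (fun s => D.levi (SpecialLinearGroup.transvection hij s)) ?_ (wt ρ D.radv v) hL ?_
    (D.levi (dgSL d hd)) ?_ (d i * (d j)⁻¹) ?_ ?_ t
  · intro s s'
    show D.levi (SpecialLinearGroup.transvection hij (s + s')) = _
    rw [SpecialLinearGroup.transvection_add, map_mul]
  · intro s m hm
    exact levi_mem_wt D ρ _ v (hst s) m hm
  · intro m hm
    exact levi_mem_wt D ρ _ v hdv m hm
  · intro h
    apply hdij
    have := congrArg (fun x => x * d j) h
    simpa [mul_assoc, inv_mul_cancel₀ hdj] using this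
  · intro s
    show D.levi (dgSL d hd) * D.levi (SpecialLinearGroup.transvection hij s) *
      (D.levi (dgSL d hd))⁻¹ = D.levi (SpecialLinearGroup.transvection hij (d i * (d j)⁻¹ * s))
    rw [← map_mul, dgSL_mul_transvection, map_mul, mul_inv_cancel_right]

/-- S3: `U_B` fixes the line of the weight `E_{i₀ a} - E_{a i₀}` pointwise (torus argument, `q > 3`). -/
theorem levi_transvection_fix_V0 (hq : 3 < Fintype.card F) (i₀ a b i j : Fin n) (hab : a ≠ b)
    (hi₀a : i₀ ≠ a) (hi₀b : i₀ ≠ b) (hia : i ≠ a) (hib : i ≠ b) (hj : j = a ∨ j = b) (hij : i ≠ j)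
    (hne : ¬ (i = i₀ ∧ j = b)) (t : F)
    (h1 : finrank ℂ ↥(wt ρ D.radv (V0 i₀ a b 0)) ≤ 1) :
    ∀ m ∈ wt ρ D.radv (V0 i₀ a b 0), ρ (D.levi (SpecialLinearGroup.transvection hij t)) m = m := by
  intro m hm
  rcases Nat.lt_or_ge (finrank ℂ ↥(wt ρ D.radv (V0 i₀ a b 0))) 1 with h0 | h1'
  · have hbot : wt ρ D.radv (V0 i₀ a b 0) = ⊥ := Submodule.finrank_eq_zero.mp (by omega)
    rw [hbot, Submodule.mem_bot] at hm
    rw [hm, map_zero]
  have hL : finrank ℂ ↥(wt ρ D.radv (V0 i₀ a b 0)) = 1 := le_antisymm h1 h1'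
  obtain ⟨s, hs0, hs2⟩ := exists_sq_ne_one (F := F) hq
  have hs1 : s ≠ 1 := fun h => hs2 (by rw [h, one_pow])
  have hsinv : s ≠ s⁻¹ := by
    intro h
    apply hs2
    have := congrArg (fun x => x * s) h
    simp only [inv_mul_cancel₀ hs0] at this
    rw [pow_two]
    exact this
  -- the root group stabilises the weight
  have hst : ∀ s' : F,
      ((SpecialLinearGroup.transvection hij s' : SpecialLinearGroup (Fin n) F) :
          Matrix (Fin n) (Fin n) F)ᵀ * toM (V0 i₀ a b (0 : F)) *
        ((SpecialLinearGroup.transvection hij s' : SpecialLinearGroup (Fin n) F) :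
          Matrix (Fin n) (Fin n) F) = toM (V0 i₀ a b (0 : F)) := by
    intro s'
    rw [toM_V0_zero, transpose_mul_wedge_mul, single_vecMul_transvection,
      single_vecMul_transvection, if_neg (Ne.symm hia), zero_smul, add_zero]
    by_cases hi : i₀ = i
    · have hja : j = a := by
        rcases hj with h | h
        · exact h
        · exact absurd ⟨hi.symm, h⟩ hne
      rw [if_pos hi, hja, wedge_add_smul_left]
    · rw [if_neg hi, zero_smul, add_zero]
  by_cases hi : i = i₀
  · -- `(i, j) = (i₀, a)`, torus `diag (s at i₀, s⁻¹ at a)`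
    have hja : j = a := by
      rcases hj with h | h
      · exact h
      · exact absurd ⟨hi, h⟩ hne
    have hd : ∏ k, (Function.update (Function.update (fun _ : Fin n => (1 : F)) i₀ s) a s⁻¹) k
        = 1 := by
      rw [Finset.prod_update_of_mem (Finset.mem_univ a),
        Finset.prod_update_of_mem (Finset.mem_sdiff.mpr ⟨Finset.mem_univ i₀, by
          rw [Finset.mem_singleton]; exact hi₀a⟩)]
      rw [Finset.prod_const_one, mul_one, inv_mul_cancel₀ hs0]
    have hdi₀ : (Function.update (Function.update (fun _ : Fin n => (1 : F)) i₀ s) a s⁻¹) i₀ = s := by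
      rw [Function.update_of_ne hi₀a, Function.update_self]
    have hda : (Function.update (Function.update (fun _ : Fin n => (1 : F)) i₀ s) a s⁻¹) a = s⁻¹ := by
      rw [Function.update_self]
    refine levi_transvection_fix_of_diag D ρ (V0 i₀ a b 0) hij hst _ hd ?_ ?_ hL t m hm
    · rw [toM_V0_zero, transpose_mul_wedge_mul, single_vecMul_diagonal', single_vecMul_diagonal',
        hdi₀, hda]
      exact wedge_smul_smul _ _ _ _ (mul_inv_cancel₀ hs0)
    · rw [hi, hja, hdi₀, hda]
      exact hsinv
  · -- `i ∉ {i₀, a, b}`, torus `diag (s at i, s⁻¹ at b)`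
    have hd : ∏ k, (Function.update (Function.update (fun _ : Fin n => (1 : F)) i s) b s⁻¹) k
        = 1 := by
      rw [Finset.prod_update_of_mem (Finset.mem_univ b),
        Finset.prod_update_of_mem (Finset.mem_sdiff.mpr ⟨Finset.mem_univ i, by
          rw [Finset.mem_singleton]; exact hib⟩)]
      rw [Finset.prod_const_one, mul_one, inv_mul_cancel₀ hs0]
    have hdi : (Function.update (Function.update (fun _ : Fin n => (1 : F)) i s) b s⁻¹) i = s := by
      rw [Function.update_of_ne hib, Function.update_self]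
    have hdb : (Function.update (Function.update (fun _ : Fin n => (1 : F)) i s) b s⁻¹) b = s⁻¹ := by
      rw [Function.update_self]
    have hdi₀ : (Function.update (Function.update (fun _ : Fin n => (1 : F)) i s) b s⁻¹) i₀ = 1 := by
      rw [Function.update_of_ne hi₀b, Function.update_of_ne (Ne.symm hi)]
    have hda : (Function.update (Function.update (fun _ : Fin n => (1 : F)) i s) b s⁻¹) a = 1 := by
      rw [Function.update_of_ne hab, Function.update_of_ne (Ne.symm hia)]
    refine levi_transvection_fix_of_diag D ρ (V0 i₀ a b 0) hij hst _ hd ?_ ?_ hL t m hm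
    · rw [toM_V0_zero, transpose_mul_wedge_mul, single_vecMul_diagonal', single_vecMul_diagonal',
        hdi₀, hda]
      exact wedge_smul_smul _ _ _ _ (mul_one 1)
    · rw [hdi]
      rcases hj with h | h
      · rw [h, hda]
        exact hs1
      · rw [h, hdb]
        exact hsinv

end S3

end Cfsg.Agent.Lib.Helper16.OPMin
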