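import Cfsg.Agent.Lib.Helper16.ParabolicChar
import Cfsg.Agent.Lib.Helper16.Minimal
import Cfsg.Agent.Lib.Helper16.PReduced2

set_option autoImplicit false
open Cfsg
open scoped Pointwise

namespace Cfsg.Agent.Lib.Helper16

variable {G : Type*} [Group G]

/-- a fixed-point-free involution inverts a finite normal subgroup. -/
theorem inverts_of_fixedPointFree [Finite G] (K : Subgroup G) [hK : K.Normal] (z : G)
    (hz2 : z * z = 1) (hfix : K ⊓ Subgroup.centralizer ({z} : Set G) = ⊥) :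
    ∀ k ∈ K, z * k * z⁻¹ = k⁻¹ := by
  have hzinv : z⁻¹ = z := inv_eq_of_mul_eq_one_left hz2
  let f : ↥K → ↥K := fun k => ⟨(k : G)⁻¹ * (z * (k : G) * z⁻¹),
    K.mul_mem (K.inv_mem k.2) (hK.conj_mem _ k.2 z)⟩
  have hinj : Function.Injective f := by
    intro k l hkl
    have h1 : (k : G)⁻¹ * (z * (k : G) * z⁻¹) = (l : G)⁻¹ * (z * (l : G) * z⁻¹) :=
      congrArg Subtype.val hkl
    have hm : (l : G) * (k : G)⁻¹ ∈ K ⊓ Subgroup.centralizer ({z} : Set G) := by
      refine Subgroup.mem_inf.mpr ⟨K.mul_mem l.2 (K.inv_mem k.2), ?_⟩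
      rw [Subgroup.mem_centralizer_singleton_iff]
      -- m z = z m where m = l k⁻¹
      have h2 : (l : G) * (k : G)⁻¹ = z * ((l : G) * (k : G)⁻¹) * z⁻¹ := by
        calc (l : G) * (k : G)⁻¹ = (l : G) * ((k : G)⁻¹ * (z * (k : G) * z⁻¹)) * (z * (k : G) * z⁻¹)⁻¹ := by group
          _ = (l : G) * ((l : G)⁻¹ * (z * (l : G) * z⁻¹)) * (z * (k : G) * z⁻¹)⁻¹ := by rw [h1]
          _ = z * ((l : G) * (k : G)⁻¹) * z⁻¹ := by group
      calc (l : G) * (k : G)⁻¹ * z = (z * ((l : G) * (k : G)⁻¹) * z⁻¹) * z := by rw [← h2]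
        _ = z * ((l : G) * (k : G)⁻¹) := by group
    rw [hfix, Subgroup.mem_bot] at hm
    apply Subtype.ext
    have : (l : G) = (k : G) := by
      calc (l : G) = (l : G) * (k : G)⁻¹ * (k : G) := by group
        _ = (k : G) := by rw [hm, one_mul]
    exact this.symm
  have hsurj : Function.Surjective f := Finite.injective_iff_surjective.mp hinj
  intro x hx
  obtain ⟨k, hk⟩ := hsurj ⟨x, hx⟩
  have hk' : (k : G)⁻¹ * (z * (k : G) * z⁻¹) = x := congrArg Subtype.val hk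
  rw [← hk']
  have hzz : z⁻¹ * z⁻¹ = 1 := by rw [hzinv]; exact hz2
  calc z * ((k : G)⁻¹ * (z * (k : G) * z⁻¹)) * z⁻¹
      = (z * (k : G)⁻¹ * z⁻¹) * ((z * z) * (k : G) * (z⁻¹ * z⁻¹)) := by group
    _ = (z * (k : G)⁻¹ * z⁻¹) * (k : G) := by rw [hz2, hzz]; group
    _ = ((k : G)⁻¹ * (z * (k : G) * z⁻¹))⁻¹ := by group

/-- In a group `N` of characteristic 2 (`C_N(O_2(N)) ≤ O_2(N)`), normal subgroups of odd order are trivial. -/
theorem eq_bot_of_odd_normal_of_charP {N : Type*} [Group N] [Finite N] {p : ℕ} [Fact p.Prime]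
    (hN : Subgroup.centralizer (Cfsg.pCore p N : Set N) ≤ Cfsg.pCore p N)
    (K : Subgroup N) (hK : K.Normal) (hodd : (Nat.card ↥K).Coprime p) : K = ⊥ := by
  have h1 := Cfsg.Agent.Lib.Helper9.pPrimeCore_eq_bot_of_generalizedFittingSubgroup_eq_pCore
    (fstar_eq_pCore_iff.mpr hN)
  have h2 := Cfsg.Agent.Lib.Helper12.le_pPrimeCore p K hK hodd
  rw [h1] at h2
  exact le_bot_iff.mp h2

theorem oddCore_eq_bot_of_parabolic [Finite G] (h2 : 2 ∣ Nat.card G)
    (hG : Cfsg.IsOfParabolicCharacteristic 2 G) [hN : (Cfsg.oddCore G).Normal]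
    (hZ : Subgroup.center (G ⧸ Cfsg.oddCore G) = ⊥) : Cfsg.oddCore G = ⊥ := by
  haveI : Fact (Nat.Prime 2) := ⟨Nat.prime_two⟩
  set K : Subgroup G := Cfsg.oddCore G with hK
  have hKodd : (Nat.card ↥K).Coprime 2 := Cfsg.Agent.Lib.Helper12.pPrimeCore_coprime (X := G) 2
  obtain ⟨S⟩ : Nonempty (Sylow 2 G) := inferInstance
  have hS1 : (S : Subgroup G) ≠ ⊥ := S.ne_bot_of_dvd_card h2
  -- Step 1
  obtain ⟨z, hzS, hzo, hzc⟩ := exists_orderOf_eq_prime_central S.2 le_rfl Subgroup.le_normalizer hS1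
  have hz1 : z ≠ 1 := by
    intro h; rw [h, orderOf_one] at hzo; omega
  have hz2 : z * z = 1 := by
    have := pow_orderOf_eq_one z
    rwa [hzo, pow_two] at this
  have hzinv : z⁻¹ = z := inv_eq_of_mul_eq_one_left hz2
  have hzΩ : z ∈ Cfsg.omegaOne 2 ((S : Subgroup G) ⊓ Subgroup.centralizer ((S : Subgroup G) : Set G)) := by
    apply Subgroup.subset_closure
    refine ⟨Subgroup.mem_inf.mpr ⟨hzS, ?_⟩, by rw [pow_two]; exact hz2⟩
    rw [Subgroup.mem_centralizer_iff]
    intro s hs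
    exact hzc s hs
  have hFz := ((parabolic_local_char_main h2 S ⊥ bot_le).2.1.mp hG) z hz1 hzΩ
  -- Step 2
  set Cz : Subgroup G := Subgroup.centralizer ({z} : Set G) with hCz
  have hfix : K ⊓ Cz = ⊥ := by
    have h3 : K.subgroupOf Cz = ⊥ := by
      apply eq_bot_of_odd_normal_of_charP (fstar_eq_pCore_iff.mp hFz) _ inferInstance
      apply Nat.Coprime.coprime_dvd_left _ hKodd
      rw [← Subgroup.card_map_of_injective (Subgroup.subtype_injective _)]
      apply Subgroup.card_dvd_of_le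
      rw [Subgroup.subgroupOf_map_subtype]
      exact inf_le_left
    rw [Subgroup.subgroupOf_eq_bot] at h3
    exact h3.eq_bot
  -- Step 3
  have hinv := inverts_of_fixedPointFree K z hz2 hfix
  -- conjugates of z invert K
  have hinvg : ∀ g : G, ∀ k ∈ K, (g * z * g⁻¹) * k * (g * z * g⁻¹)⁻¹ = k⁻¹ := by
    intro g k hk
    have hk1 : g⁻¹ * k * g ∈ K := by
      have := hN.conj_mem k hk g⁻¹
      rwa [inv_inv] at this
    have h3 := hinv _ hk1
    calc (g * z * g⁻¹) * k * (g * z * g⁻¹)⁻¹ = g * (z * (g⁻¹ * k * g) * z⁻¹) * g⁻¹ := by group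
      _ = g * (g⁻¹ * k * g)⁻¹ * g⁻¹ := by rw [h3]
      _ = k⁻¹ := by group
  -- Step 4: commutators [z, g] centralize K
  set C : Subgroup G := Subgroup.centralizer (K : Set G) with hC
  have hcomm : ∀ g : G, z * g * z⁻¹ * g⁻¹ ∈ C := by
    intro g
    rw [hC, Subgroup.mem_centralizer_iff]
    intro k hk
    have e1 : z * g * z⁻¹ * g⁻¹ = z * (g * z * g⁻¹) := by rw [hzinv]; group
    rw [e1]
    have h4 := hinvg g k hk
    have h5 := hinv k⁻¹ (K.inv_mem hk)
    rw [inv_inv] at h5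
    -- (z * t) k (z t)⁻¹ = k with t = g z g⁻¹
    have h6 : (z * (g * z * g⁻¹)) * k * (z * (g * z * g⁻¹))⁻¹ = k := by
      calc (z * (g * z * g⁻¹)) * k * (z * (g * z * g⁻¹))⁻¹
          = z * ((g * z * g⁻¹) * k * (g * z * g⁻¹)⁻¹) * z⁻¹ := by group
        _ = z * k⁻¹ * z⁻¹ := by rw [h4]
        _ = k := h5
    calc k * (z * (g * z * g⁻¹)) = ((z * (g * z * g⁻¹)) * k * (z * (g * z * g⁻¹))⁻¹) * (z * (g * z * g⁻¹)) := by rw [h6]
      _ = z * (g * z * g⁻¹) * k := by group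
  haveI hCn : C.Normal := Subgroup.normal_centralizer
  by_cases hC2 : 2 ∣ Nat.card ↥C
  · -- Case A
    obtain ⟨Q, hQ⟩ := exists_sylow_of_normal_inf S C
    set SC : Subgroup G := (S : Subgroup G) ⊓ C with hSC
    have hSC1 : SC ≠ ⊥ := by
      intro h
      rw [h, Subgroup.map_eq_bot_iff_of_injective _ C.subtype_injective] at hQ
      exact Q.ne_bot_of_dvd_card hC2 hQ
    have hSCp : IsPGroup 2 ↥SC := S.2.to_le inf_le_left
    have hSN : (S : Subgroup G) ≤ Subgroup.normalizer (SC : Set G) := by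
      apply inf_le_normalizer_inf Subgroup.le_normalizer
      rw [Subgroup.normalizer_eq_top_iff.mpr hCn]; exact le_top
    have hchar := hG SC hSCp hSC1 ⟨S, hSN⟩
    have hKN : K ≤ Subgroup.normalizer (SC : Set G) := by
      intro k hk
      apply Subgroup.centralizer_le_normalizer
      rw [Subgroup.mem_centralizer_iff]
      intro s hs
      have hsC : s ∈ C := (Subgroup.mem_inf.mp hs).2
      exact ((Subgroup.mem_centralizer_iff.mp hsC) k hk).symm
    have h3 : K.subgroupOf (Subgroup.normalizer (SC : Set G)) = ⊥ := by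
      apply eq_bot_of_odd_normal_of_charP hchar _ inferInstance
      apply Nat.Coprime.coprime_dvd_left _ hKodd
      rw [← Subgroup.card_map_of_injective (Subgroup.subtype_injective _)]
      apply Subgroup.card_dvd_of_le
      rw [Subgroup.subgroupOf_map_subtype]
      exact inf_le_left
    rw [Subgroup.subgroupOf_eq_bot] at h3
    exact (h3.eq_bot_of_le hKN)
  · -- Case B
    exfalso
    have hCK : C ≤ K := by
      apply Cfsg.Agent.Lib.Helper12.le_pPrimeCore 2 C hCn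
      exact (Nat.Prime.coprime_iff_not_dvd Nat.prime_two).mpr hC2 |>.symm
    have hzc : (QuotientGroup.mk z : G ⧸ K) ∈ Subgroup.center (G ⧸ K) := by
      rw [Subgroup.mem_center_iff]
      intro q
      obtain ⟨g, rfl⟩ := QuotientGroup.mk_surjective q
      rw [← QuotientGroup.mk_mul, ← QuotientGroup.mk_mul, QuotientGroup.eq]
      have h7 := hCK (hcomm g⁻¹)
      have e2 : (g * z)⁻¹ * (z * g) = z * g⁻¹ * z⁻¹ * g⁻¹⁻¹ := by
        calc (g * z)⁻¹ * (z * g) = z⁻¹ * g⁻¹ * z * g := by group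
          _ = z * g⁻¹ * z * g := by rw [hzinv]
          _ = z * g⁻¹ * z⁻¹ * g⁻¹⁻¹ := by rw [hzinv, inv_inv]
      rw [e2]; exact h7
    rw [hZ, Subgroup.mem_bot, QuotientGroup.eq_one_iff] at hzc
    have h8 : orderOf z ∣ Nat.card ↥K := by
      have := orderOf_dvd_natCard (⟨z, hzc⟩ : ↥K)
      rwa [Subgroup.orderOf_mk] at this
    rw [hzo] at h8
    have := Nat.Coprime.eq_one_of_dvd hKodd.symm h8
    omega

end Cfsg.Agent.Lib.Helper16
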