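/-
helper16: S2146 market "OM2", leaf C2b `exists_moves_four` (over `Om2C2core.exists_moves_core` and helper15's GA).
-/
import Mathlib
import Cfsg.Agent.Lib.Helper11.Om2Tools
import Cfsg.Agent.Lib.Helper15.Om2GA
import Cfsg.Agent.Lib.Helper16.Om2C2core

set_option autoImplicit false

open Cfsg.Agent.Lib.Helper11.Om2 MulAction
open scoped Pointwise

namespace Cfsg.Agent.Lib.Helper16.Om2Leaf

variable {F V G : Type*} [Field F] [AddCommGroup V] [Module F V] [Group G] [DistribMulAction G V]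
  (S : Setting F V G)

/-- C2b -/
theorem exists_moves_four [Finite V] {m : ℕ} (hV : Nat.card V = 2 ^ (2 * m)) (hm : 5 ≤ m) {x : V}
    (hx0 : x ≠ 0) (hx : S.Q x = 0) (U : Submodule F V) (hxU : x ∈ U) (hU : ∀ u ∈ U, S.B x u = 0)
    (hc1 : 8 ≤ Nat.card U) (hc2 : Nat.card U ≤ 2 ^ m) {u0 : V} (hu0U : u0 ∈ U) (hu00 : u0 ≠ 0)
    (hu0x : u0 ≠ x) :
    ∃ g : Fin 4 → G, (∀ i, g i • x = x) ∧ (∀ i, g i • u0 = u0) ∧
      Function.Injective (fun i => g i • (U : Set V)) := by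
  have hn : 8 * (3 * 2 ^ m) < 2 ^ (2 * m) := by
    have h1 : 8 * (3 * 2 ^ m) < 2 ^ (m + 5) := by
      rw [pow_add]
      have : 0 < 2 ^ m := Nat.pos_of_ne_zero (by positivity)
      omega
    exact lt_of_lt_of_le h1 (Nat.pow_le_pow_right (by norm_num) (by omega))
  exact exists_moves_core S hV
    (fun v y0 => Cfsg.Agent.Lib.Helper15.Om2Leaf.exists_sing_cond S hV (by omega : 3 < m) v y0)
    3 hn hx U hU hc1 hc2

end Cfsg.Agent.Lib.Helper16.Om2Leaf
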