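/-
helper16: S2146 market "OM2" (planner helper11), leaf OLE `relIndex_ge_of_ne` in `_of` form (COV and OL1 as hypotheses): if `D̃_x ≠ x^⊥` then
`|G_x : G_x ∩ H| ≥ N1 = 2^(2m-2) - 2^(m-1)`.  `Ẽ := D̃^⊥`, `|Ẽ| ≥ 4`, `x ∈ Ẽ ⊆ x^⊥`, `H ∩ G_x`-invariant.
`|Ẽ| = 4`: COV with one translate; `8 ≤ |Ẽ| ≤ 2^m`: C2a + COV; `|Ẽ| > 2^m`: OL0 / OL1.
-/
import Mathlib
import Cfsg.Agent.Lib.Helper11.Om2Tools
import Cfsg.Agent.Lib.Helper12.Om2QR
import Cfsg.Agent.Lib.Helper16.Om2C2a
import Cfsg.Agent.Lib.Helper15.Om2GC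
import Cfsg.Agent.Lib.Helper22.Om2OL0

set_option autoImplicit false

open Cfsg.Agent.Lib.Helper11.Om2 MulAction
open scoped Pointwise

namespace Cfsg.Agent.Lib.Helper16.Om2Leaf

variable {F V G : Type*} [Field F] [AddCommGroup V] [Module F V] [Group G] [DistribMulAction G V]
  (S : Setting F V G)

/-- the vectors of a subspace other than `0, x` with a given value of `Q`: at most `|U| - 2` -/
theorem card_type_add_two_le [Finite V] (U : Submodule F V) {x : V} (hx0 : x ≠ 0) (hxU : x ∈ U) (c : F) :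
    Nat.card {w : V // w ∈ U ∧ w ≠ 0 ∧ w ≠ x ∧ S.Q w = c} + 2 ≤ Nat.card U := by
  classical
  have h1 : Nat.card {w : V // w ∈ U ∧ w ≠ 0 ∧ w ≠ x ∧ S.Q w = c} =
      ({w : V | w ∈ U ∧ w ≠ 0 ∧ w ≠ x ∧ S.Q w = c}).ncard :=
    _root_.Nat.card_coe_set_eq {w : V | w ∈ U ∧ w ≠ 0 ∧ w ≠ x ∧ S.Q w = c}
  have h2 : Nat.card U = (U : Set V).ncard := _root_.Nat.card_coe_set_eq (U : Set V)
  have hsub : {w : V | w ∈ U ∧ w ≠ 0 ∧ w ≠ x ∧ S.Q w = c} ⊆ (U : Set V) \ {0, x} := by
    rintro w ⟨hwU, hw0, hwx, -⟩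
    refine ⟨hwU, ?_⟩
    simp [hw0, hwx]
  have h3 := Set.ncard_le_ncard hsub (Set.toFinite _)
  have hpair : ({0, x} : Set V) ⊆ (U : Set V) := by
    intro w hw
    rcases hw with rfl | rfl
    · exact U.zero_mem
    · exact hxU
  have h4 : ((U : Set V) \ {0, x}).ncard = (U : Set V).ncard - ({0, x} : Set V).ncard :=
    Set.ncard_diff hpair (Set.toFinite _)
  have h5 : ({0, x} : Set V).ncard = 2 := Set.ncard_pair hx0.symm
  have h6 : ({0, x} : Set V).ncard ≤ (U : Set V).ncard := Set.ncard_le_ncard hpair (Set.toFinite _)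
  omega

/-- a subspace with at least three elements has an element other than `0, x` -/
theorem exists_mem_ne_ne [Finite V] (U : Submodule F V) (h : 3 ≤ Nat.card U) (x : V) :
    ∃ u ∈ U, u ≠ 0 ∧ u ≠ x := by
  classical
  by_contra hcon
  push Not at hcon
  have hsub : (U : Set V) ⊆ {0, x} := by
    intro u hu
    by_cases h0 : u = 0
    · simp [h0]
    · simp [hcon u hu h0]
  have h1 := Set.ncard_le_ncard hsub (Set.toFinite _)
  have h2 : ({0, x} : Set V).ncard ≤ 2 := by
    have := Set.ncard_insert_le (0 : V) ({x} : Set V)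
    rw [Set.ncard_singleton] at this
    exact this
  have h3 : Nat.card U = (U : Set V).ncard := _root_.Nat.card_coe_set_eq (U : Set V)
  omega

/-- OLE, with the leaves COV (at `ι = Fin k`) and OL1 (at `x`) as hypotheses -/
theorem relIndex_ge_of_ne_of [Finite V] [Finite G] {m : ℕ} (hV : Nat.card V = 2 ^ (2 * m))
    (hs : Nat.card {v : V // S.Q v = 0} = 2 ^ (2 * m - 1) + 2 ^ (m - 1)) (hm : 4 ≤ m)
    (H : Subgroup G) {x : V} (hx0 : x ≠ 0) (hx : S.Q x = 0)
    (hCOV : ∀ (U : Submodule F V), x ∈ U → (∀ u ∈ U, S.B x u = 0) → ∀ (k : ℕ) (g : Fin k → G),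
      (∀ i, g i • x = x) → ∀ u0 : V, (∀ i, u0 ∈ g i • (U : Set V)) → u0 ≠ 0 → u0 ≠ x →
      Function.Injective (fun i => g i • (U : Set V)) →
      Nat.card (Fin k) * Nat.card {w : V // S.B x w = 0 ∧ w ≠ 0 ∧ w ≠ x ∧ S.Q w = S.Q u0} ≤
        Nat.card {w : V // w ∈ U ∧ w ≠ 0 ∧ w ≠ x ∧ S.Q w = S.Q u0} *
          (stabilizer G (U : Set V)).relIndex (stabilizer G x))
    (hOL1 : 4 ≤ Nat.card (S.Dt H hx) → Nat.card (S.Dt H hx) ≤ 2 ^ (m - 1) →
      2 ^ (m - 1) * (2 ^ m - 1) ≤ H.relIndex (stabilizer G x))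
    (hne : ∃ w, S.B x w = 0 ∧ S.sg x w ∉ H) :
    2 ^ (2 * m - 2) - 2 ^ (m - 1) ≤ H.relIndex (stabilizer G x) := by
  classical
  obtain ⟨w0, hw0x, hw0H⟩ := hne
  set D : Submodule F V := S.Dt H hx with hD
  set E : Submodule F V := S.B.orthogonal D with hE
  set o : ℕ := H.relIndex (stabilizer G x) with ho
  set r : ℕ := H.relIndex (S.Qs hx) with hr
  set t : ℕ := (stabilizer G (E : Set V)).relIndex (stabilizer G x) with ht
  -- numerics
  have hpm : 2 ^ m = 2 * 2 ^ (m - 1) := by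
    have : m = (m - 1) + 1 := by omega
    conv_lhs => rw [this, pow_succ]
    ring
  have hp2 : 2 ^ (2 * m - 2) = 2 ^ (m - 1) * 2 ^ (m - 1) := by
    rw [← pow_add]; congr 1; omega
  have hp1 : 2 ^ (2 * m - 1) = 2 * 2 ^ (2 * m - 2) := by
    have : 2 * m - 1 = (2 * m - 2) + 1 := by omega
    rw [this, pow_succ]; ring
  have hp0 : 2 ^ (2 * m) = 2 * 2 ^ (2 * m - 1) := by
    have : 2 * m = (2 * m - 1) + 1 := by omega
    conv_lhs => rw [this, pow_succ]
    ring
  have hapos : 0 < 2 ^ (m - 1) := Nat.pos_of_ne_zero (by positivity)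
  -- `E`
  have hxD : x ∈ D := S.self_mem_Dt H hx
  have hDperp : ∀ u ∈ D, S.B x u = 0 := S.Dt_le_perp hx
  have hxE : x ∈ E := by
    rw [hE, S.mem_orthogonal]
    intro u hu
    rw [S.B_symm]; exact hDperp u hu
  have hEperp : ∀ e ∈ E, S.B x e = 0 := by
    intro e he
    rw [hE, S.mem_orthogonal] at he
    exact he x hxD
  have hinv : ∀ p ∈ H, p • x = x → ∀ e ∈ E, p • e ∈ E := by
    intro p hp hpx e he
    rw [hE, S.mem_orthogonal] at he ⊢
    intro u hu
    have hpx' : p⁻¹ • x = x := by rw [inv_smul_eq_iff, hpx]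
    have h1 : p⁻¹ • u ∈ D := S.smul_mem_Dt hx (H.inv_mem hp) hpx' hu
    have h2 := he _ h1
    rw [← S.iso p, smul_inv_smul] at h2
    exact h2
  have hDE : Nat.card D * Nat.card E = 2 ^ (2 * m) := by
    rw [← hV]; exact S.card_mul_card_orthogonal D
  have hQR : 2 * (r * Nat.card D) = 2 ^ (2 * m) := by
    rw [← hV]; exact Cfsg.Agent.Lib.Helper12.Om2Leaf.relIndex_Qs S H hx0 hx
  have hSB : t * r ≤ o := S.stab_bound H hx E hxE hEperp hinv
  have hDpos : 0 < Nat.card D := Nat.card_pos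
  have h2r : 2 * r = Nat.card E := by
    have h1 : Nat.card D * (2 * r) = Nat.card D * Nat.card E := by
      rw [hDE, ← hQR]; ring
    exact Nat.eq_of_mul_eq_mul_left hDpos h1
  -- powers of two
  have hDpow := S.card_submodule_eq_two_pow D
  have hEpow := S.card_submodule_eq_two_pow E
  set d : ℕ := Module.finrank F D with hd
  set e : ℕ := Module.finrank F E with he
  have hde : d + e = 2 * m := by
    rw [hDpow, hEpow, ← pow_add] at hDE
    exact Nat.pow_right_injective (le_refl 2) hDE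
  -- `D ≠ x^⊥`
  have hd2 : d + 2 ≤ 2 * m := by
    have h1 : (D : Set V) ⊂ {z : V | S.B x z = 0} := by
      refine ⟨fun u hu => hDperp u hu, ?_⟩
      intro hsub
      have : w0 ∈ D := hsub hw0x
      exact hw0H this.2
    have h2 := Set.ncard_lt_ncard h1 (Set.toFinite _)
    have h3 : Nat.card D = (D : Set V).ncard := _root_.Nat.card_coe_set_eq (D : Set V)
    have h4 : Nat.card {z : V // S.B x z = 0} = ({z : V | S.B x z = 0}).ncard :=
      _root_.Nat.card_coe_set_eq {z : V | S.B x z = 0}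
    have h5 := S.two_mul_card_perp hx0
    rw [hV] at h5
    have h6 : 2 * 2 ^ d < 2 ^ (2 * m) := by
      rw [← hDpow]; omega
    have h7 : 2 ^ (d + 1) < 2 ^ (2 * m) := by rw [pow_succ]; omega
    have := (Nat.pow_lt_pow_iff_right (by norm_num : 1 < 2)).mp h7
    omega
  have hd1 : 1 ≤ d := by
    by_contra hcon
    have hd0 : d = 0 := by omega
    rw [hd0, pow_zero] at hDpow
    have h1 : Nat.card D = (D : Set V).ncard := _root_.Nat.card_coe_set_eq (D : Set V)
    have hpair : ({0, x} : Set V) ⊆ (D : Set V) := by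
      intro w hw
      rcases hw with rfl | rfl
      · exact D.zero_mem
      · exact hxD
    have h2 := Set.ncard_le_ncard hpair (Set.toFinite _)
    rw [Set.ncard_pair hx0.symm] at h2
    omega
  -- N1 ≤ N0
  have hN : ∀ u0 : V, 2 ^ (2 * m - 2) - 2 ^ (m - 1) ≤
      Nat.card {w : V // S.B x w = 0 ∧ w ≠ 0 ∧ w ≠ x ∧ S.Q w = S.Q u0} := by
    intro u0
    rcases S.h01 (S.Q u0) with h | h
    · rw [h, Cfsg.Agent.Lib.Helper15.Om2Leaf.card_type_zero S hV hs (by omega) hx0 hx]
      omega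
    · rw [h, Cfsg.Agent.Lib.Helper15.Om2Leaf.card_type_one S hV hs (by omega) hx0 hx]
  by_cases hem : e ≤ m
  · -- `|E| ≤ 2^m`
    have hE4 : 4 ≤ Nat.card E := by
      rw [hEpow]
      calc 4 = 2 ^ 2 := by norm_num
        _ ≤ 2 ^ e := Nat.pow_le_pow_right (by norm_num) (by omega)
    obtain ⟨u0, hu0E, hu00, hu0x⟩ := exists_mem_ne_ne E (by omega) x
    have hcnt := card_type_add_two_le S E hx0 hxE (S.Q u0)
    by_cases he2 : e = 2
    · -- `|E| = 4`
      have hE4' : Nat.card E = 4 := by rw [hEpow, he2]; norm_num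
      have hcov := hCOV E hxE hEperp 1
        (fun _ : Fin 1 => (1 : G)) (fun _ => one_smul G x) u0
        (fun _ => by rw [one_smul]; exact hu0E) hu00 hu0x
        (Function.injective_of_subsingleton _)
      rw [Nat.card_fin, one_mul, ← ht] at hcov
      have h1 := hN u0
      have hr2 : r = 2 := by omega
      rw [hr2] at hSB
      have h2 : Nat.card {w : V // w ∈ E ∧ w ≠ 0 ∧ w ≠ x ∧ S.Q w = S.Q u0} * t ≤ 2 * t :=
        Nat.mul_le_mul_right _ (by omega)
      omega
    · -- `8 ≤ |E| ≤ 2^m`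
      have hE8 : 8 ≤ Nat.card E := by
        rw [hEpow]
        calc 8 = 2 ^ 3 := by norm_num
          _ ≤ 2 ^ e := Nat.pow_le_pow_right (by norm_num) (by omega)
      have hEm : Nat.card E ≤ 2 ^ m := by
        rw [hEpow]; exact Nat.pow_le_pow_right (by norm_num) hem
      obtain ⟨g, hgx, hgu, hginj⟩ := exists_moves_two S hV hm hx0 hx E hxE hEperp hE8 hEm hu0E
        hu00 hu0x
      have hcov := hCOV E hxE hEperp 2
        g hgx u0 (fun i => ⟨u0, hu0E, hgu i⟩) hu00 hu0x hginj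
      rw [Nat.card_fin, ← ht] at hcov
      have h1 := hN u0
      have h2 : Nat.card {w : V // w ∈ E ∧ w ≠ 0 ∧ w ≠ x ∧ S.Q w = S.Q u0} * t ≤ (2 * r) * t :=
        Nat.mul_le_mul_right _ (by omega)
      have h3 : (2 * r) * t = 2 * (t * r) := by ring
      omega
  · -- `|E| > 2^m`, so `|D| ≤ 2^(m-1)`
    have hdm : d ≤ m - 1 := by omega
    have hDm : Nat.card D ≤ 2 ^ (m - 1) := by
      rw [hDpow]; exact Nat.pow_le_pow_right (by norm_num) hdm
    by_cases hd1' : d = 1
    · -- `D = {0, x}`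
      have hD2 : Nat.card D = 2 := by rw [hDpow, hd1']; norm_num
      have hDeq : ∀ w, S.B x w = 0 → S.sg x w ∈ H → w = 0 ∨ w = x := by
        intro w hw hwH
        have hwD : w ∈ D := ⟨hw, hwH⟩
        have hpair : ({0, x} : Set V) ⊆ (D : Set V) := by
          intro w hw
          rcases hw with rfl | rfl
          · exact D.zero_mem
          · exact hxD
        have h1 : Nat.card D = (D : Set V).ncard := _root_.Nat.card_coe_set_eq (D : Set V)
        have h2 : (D : Set V).ncard ≤ ({0, x} : Set V).ncard := by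
          rw [Set.ncard_pair hx0.symm]; omega
        have h3 := Set.eq_of_subset_of_ncard_le hpair h2 (Set.toFinite _)
        have h4 : w ∈ ({0, x} : Set V) := by rw [h3]; exact hwD
        simpa using h4
      rcases Cfsg.Agent.Lib.Helper22.Om2Leaf.isA_or_of_Dt_trivial S hV (by omega) H hx0 hx hDeq
        with hA | hbig
      · have := Cfsg.Agent.Lib.Helper22.Om2Leaf.relIndex_ge_of_isA S hV (by omega) H hA
        omega
      · omega
    · have hD4 : 4 ≤ Nat.card D := by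
        rw [hDpow]
        calc 4 = 2 ^ 2 := by norm_num
          _ ≤ 2 ^ d := Nat.pow_le_pow_right (by norm_num) (by omega)
      have h1 := hOL1 hD4 hDm
      have h2 : 2 ^ (2 * m - 2) - 2 ^ (m - 1) ≤ 2 ^ (m - 1) * (2 ^ m - 1) := by
        rw [hp2, hpm]
        generalize 2 ^ (m - 1) = a at hapos
        apply Nat.sub_le_of_le_add
        have h3 : a * (2 * a - 1) + a = a * (2 * a) := by
          have : 2 * a - 1 + 1 = 2 * a := by omega
          rw [← this, mul_add, mul_one]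
          simp
        rw [h3]
        nlinarith
      omega

end Cfsg.Agent.Lib.Helper16.Om2Leaf
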