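import Cfsg.Agent.Lib.Helper16.SylAb5
import Cfsg.Agent.Lib.Helper16.SylAb2

/-
helper16 library: abstract group theory for the Sylow 2-subgroups of the groups `Ω(V)`:
dihedral groups, and the kernel of a symmetric homomorphism on `D^n × E`.
-/

set_option autoImplicit false

namespace Cfsg.Agent.Lib.Helper16.OmSyl

open Cfsg.Agent.Lib.Helper16.SylAb
open scoped commutatorElement

/-- every 2-element has order at most 2 -/
def X2 (G : Type*) [Group G] : Prop := ∀ x : G, (∃ j : ℕ, x ^ (2 ^ j) = 1) → x ^ 2 = 1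

theorem X2_of_mulEquiv {G H : Type*} [Group G] [Group H] (e : G ≃* H) (h : X2 G) : X2 H := by
  intro x ⟨j, hj⟩
  have h1 := h (e.symm x) ⟨j, by rw [← map_pow, hj, map_one]⟩
  rw [← map_pow] at h1
  exact (MulEquiv.map_eq_one_iff e.symm).mp h1

theorem X2_of_subsingleton (G : Type*) [Group G] [Subsingleton G] : X2 G :=
  fun _ _ => Subsingleton.elim _ _

theorem X2_of_card_two (G : Type*) [Group G] (h : Nat.card G = 2) : X2 G := by
  intro x _
  have : Finite G := Nat.finite_of_card_ne_zero (by rw [h]; norm_num)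
  rw [← h]
  exact pow_card_eq_one'

section dihedral

open DihedralGroup

theorem exists_sr_mem_sylow (k : ℕ) [NeZero k] (P : Sylow 2 (DihedralGroup k)) :
    ∃ j : ZMod k, sr j ∈ (P : Subgroup (DihedralGroup k)) := by
  by_contra hcon
  have hk : k ≠ 0 := NeZero.ne k
  have hle : (P : Subgroup (DihedralGroup k)) ≤ Subgroup.zpowers (r 1) := by
    intro x hx
    cases x with
    | r i =>
      rw [Subgroup.mem_zpowers_iff]
      refine ⟨(ZMod.cast i : ℤ), ?_⟩
      rw [DihedralGroup.r_one_zpow]
      simp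
    | sr i => exact absurd ⟨i, hx⟩ hcon
  have h1 := Subgroup.card_dvd_of_le hle
  rw [Nat.card_zpowers, DihedralGroup.orderOf_r_one, P.card_eq_multiplicity,
    DihedralGroup.nat_card] at h1
  have h2 : (2 * k).factorization 2 = k.factorization 2 + 1 := by
    rw [Nat.factorization_mul (by norm_num) hk, Finsupp.add_apply,
      Nat.Prime.factorization_self Nat.prime_two, add_comm]
  rw [h2] at h1
  have h3 := (Nat.Prime.pow_dvd_iff_le_factorization Nat.prime_two hk).mp h1
  omega

theorem E2_dihedral (k : ℕ) [NeZero k] : E2 (DihedralGroup k) := by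
  intro P
  obtain ⟨j, hj⟩ := exists_sr_mem_sylow k P
  intro x hx
  cases x with
  | r i =>
    have e : (r i : DihedralGroup k) ^ 2 = ⁅r i, sr j⁆ := by
      rw [commutatorElement_def, sq]
      simp
      ring_nf
    rw [e]
    exact Subgroup.commutator_mem_commutator hx hj
  | sr i =>
    have e : (sr i : DihedralGroup k) ^ 2 = 1 := by
      rw [sq]; simp
    rw [e]
    exact one_mem _

theorem X2_dihedral (k : ℕ) [NeZero k] (hk4 : ¬ 4 ∣ k) : X2 (DihedralGroup k) := by
  intro x ⟨j, hj⟩
  cases x with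
  | r i =>
    have h1 : orderOf (r i : DihedralGroup k) ∣ 2 ^ j := orderOf_dvd_of_pow_eq_one hj
    have h2 : orderOf (r i : DihedralGroup k) ∣ k := by
      apply orderOf_dvd_of_pow_eq_one
      rw [DihedralGroup.r_pow]
      simp
    obtain ⟨t, -, ht⟩ := (Nat.dvd_prime_pow Nat.prime_two).mp h1
    have ht1 : t ≤ 1 := by
      by_contra hcon
      apply hk4
      have : (4 : ℕ) ∣ 2 ^ t := by
        have : (2 : ℕ) ^ 2 ∣ 2 ^ t := pow_dvd_pow 2 (by omega)
        simpa using this
      exact this.trans (ht ▸ h2)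
    apply orderOf_dvd_iff_pow_eq_one.mp
    rw [ht]
    have : (2 : ℕ) ^ t ∣ 2 ^ 1 := pow_dvd_pow 2 ht1
    simpa using this
  | sr i =>
    rw [sq]; simp

end dihedral

section comm

variable {G : Type*} [Group G]

theorem comm_aux (p q X Y : G) (h1 : Commute X p) (h2 : Commute X q) (h3 : Commute X Y)
    (h4 : Commute Y p) (h5 : Commute Y q) : ⁅p * X, q * Y⁆ = ⁅p, q⁆ := by
  have e1 : q * Y = Y * q := h5.eq.symm
  rw [e1, commutatorElement_mul_of_commute _ _ _ (h4.mul_right h3.symm) h5]
  rw [← commutatorElement_inv q (p * X), ← commutatorElement_inv q p]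
  have e2 : p * X = X * p := h1.eq.symm
  rw [e2, commutatorElement_mul_of_commute _ _ _ h2 h1]

end comm

end Cfsg.Agent.Lib.Helper16.OmSyl
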