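import Cfsg.Agent.Lib.Helper16.GLWreath

/-
helper16 library: 2-adic valuations of the orders of the orthogonal groups.
-/

set_option autoImplicit false

namespace Cfsg.Agent.Lib.Helper16.OmSyl

open Cfsg.Agent.Lib.Helper16.SylAb
open scoped Nat

theorem fact_two_of_mod_four {x : ℕ} (h : x % 4 = 2) : x.factorization 2 = 1 := by
  obtain ⟨c, hc⟩ : ∃ c, x = 2 * (2 * c + 1) := ⟨x / 4, by omega⟩
  rw [hc, Nat.factorization_mul (by norm_num) (by omega), Finsupp.add_apply,
    Nat.Prime.factorization_self Nat.prime_two,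
    Nat.factorization_eq_zero_of_not_dvd (by omega)]

theorem fact_two_of_odd {x : ℕ} (h : Odd x) : x.factorization 2 = 0 := by
  apply Nat.factorization_eq_zero_of_not_dvd
  rw [← even_iff_two_dvd, Nat.not_even_iff_odd]
  exact h

theorem fact_two_two : (2 : ℕ).factorization 2 = 1 :=
  Nat.Prime.factorization_self Nat.prime_two

theorem fact_two_mul {x y : ℕ} (hx : x ≠ 0) (hy : y ≠ 0) :
    (x * y).factorization 2 = x.factorization 2 + y.factorization 2 := by
  rw [Nat.factorization_mul hx hy, Finsupp.add_apply]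

theorem pow_sub_one_ne_zero {q : ℕ} (hq1 : 1 < q) {k : ℕ} (hk : k ≠ 0) : q ^ k - 1 ≠ 0 := by
  have : 1 < q ^ k := Nat.one_lt_pow hk hq1
  omega

/-- valuation of `∏_{i<k} (q^{2(i+1)} - 1)` -/
theorem val_prod_even (q : ℕ) (hq : Odd q) (hq1 : 1 < q) (k : ℕ) :
    (∏ i ∈ Finset.range k, (q ^ (2 * (i + 1)) - 1)).factorization 2 =
      k * ((q - 1).factorization 2 + (q + 1).factorization 2) + (k !).factorization 2 := by
  induction k with
  | zero => simp
  | succ k ih =>
    have hne : (∏ i ∈ Finset.range k, (q ^ (2 * (i + 1)) - 1)) ≠ 0 := by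
      rw [Finset.prod_ne_zero_iff]
      intro i _
      exact pow_sub_one_ne_zero hq1 (by omega)
    rw [Finset.prod_range_succ, fact_two_mul hne (pow_sub_one_ne_zero hq1 (by omega)), ih,
      val_even_term q hq hq1 (k + 1) (by omega), Nat.factorial_succ,
      fact_two_mul (by omega) (Nat.factorial_ne_zero k)]
    ring

theorem pow_mod_four_one {q : ℕ} (h : q % 4 = 1) (m : ℕ) : q ^ m % 4 = 1 := by
  rw [Nat.pow_mod, h, one_pow]; norm_num
  -- 


theorem pow_mod_four_even' {q : ℕ} (hq : Odd q) (j : ℕ) : q ^ (2 * j) % 4 = 1 := by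
  have h1 : q ^ 2 % 4 = 1 := by
    obtain ⟨c, rfl⟩ := hq
    have : (2 * c + 1) ^ 2 = 4 * (c * c + c) + 1 := by ring
    rw [this]; omega
  rw [pow_mul, Nat.pow_mod, h1, one_pow]; norm_num

/-- `v₂(q^m + 1) = 1` if `q^m ≡ 1 (mod 4)` -/
theorem val_pow_add_one_of_mod {q m : ℕ} (h : q ^ m % 4 = 1) :
    (q ^ m + 1).factorization 2 = 1 :=
  fact_two_of_mod_four (by omega)

/-- `v₂(q^m + 1) = v₂(q + 1)` for odd `m` -/
theorem val_pow_add_one_odd (q : ℕ) (hq : Odd q) (hq1 : 1 < q) (t : ℕ) :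
    (q ^ (2 * t + 1) + 1).factorization 2 = (q + 1).factorization 2 := by
  have h1 : (q ^ (2 * t + 1) + 1) * (q ^ (2 * t + 1) - 1) = q ^ (2 * (2 * t + 1)) - 1 := by
    have h3 : 1 ≤ q ^ (2 * t + 1) := Nat.one_le_pow _ _ (by omega)
    have e : q ^ (2 * (2 * t + 1)) = q ^ (2 * t + 1) * q ^ (2 * t + 1) := by
      rw [← pow_add]; congr 1; ring
    rw [e]
    obtain ⟨y, hy⟩ : ∃ y, q ^ (2 * t + 1) = y + 1 := ⟨q ^ (2 * t + 1) - 1, by omega⟩
    rw [hy]
    have : (y + 1) * (y + 1) - 1 = (y + 1 + 1) * y := by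
      have : (y + 1) * (y + 1) = (y + 1 + 1) * y + 1 := by ring
      omega
    rw [this]
    simp
  have h3 := congrArg (fun x : ℕ => x.factorization 2) h1
  beta_reduce at h3
  rw [fact_two_mul (by omega) (pow_sub_one_ne_zero hq1 (by omega)), val_odd_term q hq hq1 t,
    val_even_term q hq hq1 (2 * t + 1) (by omega),
    fact_two_of_odd (x := 2 * t + 1) ⟨t, rfl⟩] at h3
  omega

theorem fact_factorial_succ_of_even {k : ℕ} (hk : Even k) :
    ((k + 1) !).factorization 2 = (k !).factorization 2 := by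
  rw [Nat.factorial_succ, fact_two_mul (by omega) (Nat.factorial_ne_zero k),
    fact_two_of_odd (hk.add_one), zero_add]

theorem val_q_pow {q : ℕ} (hq : Odd q) (N : ℕ) : (q ^ N).factorization 2 = 0 :=
  fact_two_of_odd hq.pow

theorem val_plus_one_mod {q : ℕ} (h : q % 4 = 1) : (q + 1).factorization 2 = 1 :=
  fact_two_of_mod_four (by omega)

theorem val_sub_one_mod {q : ℕ} (h : q % 4 = 3) : (q - 1).factorization 2 = 1 :=
  fact_two_of_mod_four (by omega)

/-- valuation of `|O_{2m+1}(q)|` -/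
theorem val_card_odd (q : ℕ) (hq : Odd q) (hq1 : 1 < q) (m : ℕ) :
    (2 * q ^ (m ^ 2) * ∏ i ∈ Finset.range m, (q ^ (2 * (i + 1)) - 1)).factorization 2 =
      1 + m * ((q - 1).factorization 2 + (q + 1).factorization 2) + (m !).factorization 2 := by
  have hne : (∏ i ∈ Finset.range m, (q ^ (2 * (i + 1)) - 1)) ≠ 0 := by
    rw [Finset.prod_ne_zero_iff]
    intro i _
    exact pow_sub_one_ne_zero hq1 (by omega)
  have hq0 : q ^ (m ^ 2) ≠ 0 := pow_ne_zero _ (by omega)
  rw [fact_two_mul (Nat.mul_ne_zero (by norm_num) hq0) hne, fact_two_mul (by norm_num) hq0,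
    fact_two_two, val_q_pow hq, val_prod_even q hq hq1]
  ring

/-- valuation of `|O⁺_{2(n+1)}(q)|` -/
theorem val_card_plus (q : ℕ) (hq : Odd q) (hq1 : 1 < q) (n : ℕ) :
    (2 * q ^ ((n + 1) * n) * (q ^ (n + 1) - 1) *
      ∏ i ∈ Finset.range n, (q ^ (2 * (i + 1)) - 1)).factorization 2 =
      1 + (q ^ (n + 1) - 1).factorization 2 +
        n * ((q - 1).factorization 2 + (q + 1).factorization 2) + (n !).factorization 2 := by
  have hne : (∏ i ∈ Finset.range n, (q ^ (2 * (i + 1)) - 1)) ≠ 0 := by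
    rw [Finset.prod_ne_zero_iff]
    intro i _
    exact pow_sub_one_ne_zero hq1 (by omega)
  have hq0 : q ^ ((n + 1) * n) ≠ 0 := pow_ne_zero _ (by omega)
  have h1 := pow_sub_one_ne_zero hq1 (k := n + 1) (by omega)
  rw [fact_two_mul (Nat.mul_ne_zero (Nat.mul_ne_zero (by norm_num) hq0) h1) hne,
    fact_two_mul (Nat.mul_ne_zero (by norm_num) hq0) h1, fact_two_mul (by norm_num) hq0,
    fact_two_two, val_q_pow hq, val_prod_even q hq hq1]
  ring

/-- valuation of `|O⁻_{2(n+1)}(q)|` -/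
theorem val_card_minus (q : ℕ) (hq : Odd q) (hq1 : 1 < q) (n : ℕ) :
    (2 * q ^ ((n + 1) * n) * (q ^ (n + 1) + 1) *
      ∏ i ∈ Finset.range n, (q ^ (2 * (i + 1)) - 1)).factorization 2 =
      1 + (q ^ (n + 1) + 1).factorization 2 +
        n * ((q - 1).factorization 2 + (q + 1).factorization 2) + (n !).factorization 2 := by
  have hne : (∏ i ∈ Finset.range n, (q ^ (2 * (i + 1)) - 1)) ≠ 0 := by
    rw [Finset.prod_ne_zero_iff]
    intro i _
    exact pow_sub_one_ne_zero hq1 (by omega)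
  have hq0 : q ^ ((n + 1) * n) ≠ 0 := pow_ne_zero _ (by omega)
  have h1 : q ^ (n + 1) + 1 ≠ 0 := by omega
  rw [fact_two_mul (Nat.mul_ne_zero (Nat.mul_ne_zero (by norm_num) hq0) h1) hne,
    fact_two_mul (Nat.mul_ne_zero (by norm_num) hq0) h1, fact_two_mul (by norm_num) hq0,
    fact_two_two, val_q_pow hq, val_prod_even q hq hq1]
  ring

/-- `v₂(2(q-1)) = v₂(q-1) + v₂(q+1)` if `q ≡ 1 (mod 4)` -/
theorem val_two_mul_sub (q : ℕ) (hq1 : 1 < q) (h : q % 4 = 1) :
    (2 * (q - 1)).factorization 2 = (q - 1).factorization 2 + (q + 1).factorization 2 := by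
  rw [fact_two_mul (by norm_num) (by omega), fact_two_two, val_plus_one_mod h]
  ring

/-- `v₂(2(q+1)) = v₂(q-1) + v₂(q+1)` if `q ≡ 3 (mod 4)` -/
theorem val_two_mul_add (q : ℕ) (h : q % 4 = 3) :
    (2 * (q + 1)).factorization 2 = (q - 1).factorization 2 + (q + 1).factorization 2 := by
  rw [fact_two_mul (by norm_num) (by omega), fact_two_two, val_sub_one_mod h]

/-- `v₂(2(q-1)) = 2` if `q ≡ 3 (mod 4)` -/
theorem val_two_mul_sub' (q : ℕ) (h : q % 4 = 3) : (2 * (q - 1)).factorization 2 = 2 := by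
  rw [fact_two_mul (by norm_num) (by omega), fact_two_two, val_sub_one_mod h]

/-- `v₂(2(q+1)) = 2` if `q ≡ 1 (mod 4)` -/
theorem val_two_mul_add' (q : ℕ) (h : q % 4 = 1) : (2 * (q + 1)).factorization 2 = 2 := by
  rw [fact_two_mul (by norm_num) (by omega), fact_two_two, val_plus_one_mod h]

end Cfsg.Agent.Lib.Helper16.OmSyl
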