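import Cfsg.Agent.Lib.Helper16.OmSyl9
import Cfsg.Agent.Lib.Helper16.OmSyl10

/-
helper16 library: `E2 (Ω_{2m+1}(q))`, `q` odd, `m ≥ 3`.
-/

set_option autoImplicit false

namespace Cfsg.Agent.Lib.Helper16.OmSyl

open Module Matrix QuadraticMap Cfsg.Agent.Lib.Helper25.Spin Cfsg.Agent.Lib.Helper14
  Cfsg.Agent.Lib.Helper14.OrthMinus Cfsg.Agent.Lib.Helper16.SylAb
  Cfsg.Agent.Lib.Helper14.QuadExt
open scoped Nat

variable {F : Type*} [Field F] [Fintype F]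

theorem val_card_OD (hodd : Odd (Fintype.card F)) :
    (Nat.card (OD F)).factorization 2 =
      (Fintype.card F - 1).factorization 2 + (Fintype.card F + 1).factorization 2 := by
  obtain ⟨q, hF⟩ : ∃ q, Fintype.card F = q := ⟨_, rfl⟩
  have hq1 : 1 < q := by rw [← hF]; exact Fintype.one_lt_card
  rw [hF] at hodd ⊢
  rw [Nat.odd_iff] at hodd
  have hcases : q % 4 = 1 ∨ q % 4 = 3 := by omega
  rcases hcases with h | h
  · rw [card_OD_one hF h, val_two_mul_sub q hq1 h]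
  · rw [card_OD_three hF h, val_two_mul_add q h]

theorem E2_omega_odd (hodd : Odd (Fintype.card F)) (m : ℕ) (hm : 3 ≤ m) :
    E2 ↥(Cfsg.Omega F (Cfsg.quadFormOdd m F)) := by
  have h2 := two_ne_zero_of_odd_card' hodd
  have hq1 : 1 < Fintype.card F := Fintype.one_lt_card
  obtain ⟨d, hd⟩ : ∃ d : F, d = (-1) ^ m := ⟨_, rfl⟩
  have hd0 : d ≠ 0 := by rw [hd]; exact pow_ne_zero _ (neg_ne_zero.mpr one_ne_zero)
  obtain ⟨Q₀, hQ₀def⟩ : ∃ Q₀ : QuadraticForm F (Unit ⊕ (Fin 0 ⊕ Fin 0) → F),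
      Q₀ = d • qfOf (isQF_odd (F := F) (m := 0) h2) := ⟨_, rfl⟩
  have hQ₀ : (polarBilin Q₀).Nondegenerate := by
    rw [hQ₀def]; exact smul_nondeg _ (qfOf_nondeg _) hd0
  obtain ⟨e⟩ := nonempty_isoEquiv h2 (TQ m Q₀) (qfOf (isQF_odd (F := F) (m := m) h2))
    (by simp; omega) (TQ_nondeg m Q₀ h2 hQ₀) (qfOf_nondeg _) (by
      unfold TQ
      rw [disc_sumQ, disc_dotQF, hQ₀def, disc_smul, disc_odd h2, disc_odd h2, hd]
      refine ⟨2 ^ m * 2 * (-1) ^ m, ?_⟩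
      simp only [Fintype.card_prod, Fintype.card_fin, Fintype.card_sum, Fintype.card_unique]
      ring)
  have hcard : (Nat.card ↥(Cfsg.isometryGroup F ⇑(TQ m Q₀))).factorization 2 =
      m * (Nat.card (OD F)).factorization 2 +
        (Nat.card ↥(Cfsg.isometryGroup F ⇑Q₀)).factorization 2 + (m !).factorization 2 := by
    have h3 : Nat.card ↥(Cfsg.isometryGroup F ⇑(TQ m Q₀)) =
        Nat.card ↥(Cfsg.isometryGroup F (Cfsg.quadFormOdd m F)) := Nat.card_congr e.toEquiv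
    have h4 : Nat.card ↥(Cfsg.isometryGroup F ⇑Q₀) = 2 := by
      rw [hQ₀def]; exact card_line h2 hd0
    rw [h3, card_isometry_odd h2 m, val_card_odd _ hodd hq1, val_card_OD hodd, h4, fact_two_two]
    ring
  have hE : X2 ↥(Cfsg.isometryGroup F ⇑Q₀) := by
    rw [hQ₀def]; exact X2_line h2 hd0
  have h5 := E2_omega_TQ_three m Q₀ h2 hQ₀ hm (E2_OD hodd) hE hcard
  exact E2_omega_of_equiv e h5

end Cfsg.Agent.Lib.Helper16.OmSyl
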