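import Cfsg.Agent.Lib.Helper16.OmSyl11

/-
helper16 library: `E2 (Ω⁻_{2m}(q))`, `q` odd, `m ≥ 4`.
-/

set_option autoImplicit false

namespace Cfsg.Agent.Lib.Helper16.OmSyl

open Module Matrix QuadraticMap Cfsg.Agent.Lib.Helper25.Spin Cfsg.Agent.Lib.Helper14
  Cfsg.Agent.Lib.Helper14.OrthMinus Cfsg.Agent.Lib.Helper16.SylAb
  Cfsg.Agent.Lib.Helper14.QuadExt
open scoped Nat

variable {F : Type*} [Field F] [Fintype F]

/-- the generic reduction to `⟨1,1⟩^n ⊥ Q₀` -/
theorem E2_omega_of_data (hodd : Odd (Fintype.card F)) {ι : Type} [Fintype ι] [DecidableEq ι]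
    (Qs : QuadraticForm F (ι → F)) (hs : (polarBilin Qs).Nondegenerate)
    {κ₀ : Type} [Fintype κ₀] [DecidableEq κ₀] (Q₀ : QuadraticForm F (κ₀ → F))
    (hQ₀ : (polarBilin Q₀).Nondegenerate) (n : ℕ) (hn : 3 ≤ n)
    (hc : Fintype.card ι = 2 * n + Fintype.card κ₀)
    (hdisc : IsSquare (disc Q₀ * disc Qs))
    (hX : X2 ↥(Cfsg.isometryGroup F ⇑Q₀))
    (hcard : (Nat.card ↥(Cfsg.isometryGroup F ⇑Qs)).factorization 2 =
      n * ((Fintype.card F - 1).factorization 2 + (Fintype.card F + 1).factorization 2) +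
        (Nat.card ↥(Cfsg.isometryGroup F ⇑Q₀)).factorization 2 + (n !).factorization 2) :
    E2 ↥(Cfsg.Omega F ⇑Qs) := by
  have h2 := two_ne_zero_of_odd_card' hodd
  obtain ⟨e⟩ := nonempty_isoEquiv h2 (TQ n Q₀) Qs
    (by simp only [Fintype.card_sum, Fintype.card_prod, Fintype.card_fin]; omega)
    (TQ_nondeg n Q₀ h2 hQ₀) hs (by
      unfold TQ
      rw [disc_sumQ, disc_dotQF]
      obtain ⟨r, hr⟩ := hdisc
      refine ⟨2 ^ n * r, ?_⟩
      simp only [Fintype.card_prod, Fintype.card_fin]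
      have e1 : (2 : F) ^ (2 * n) = 2 ^ n * 2 ^ n := by rw [← pow_add]; congr 1; ring
      rw [e1]
      linear_combination (2 ^ n * 2 ^ n : F) * hr)
  have hcard' : (Nat.card ↥(Cfsg.isometryGroup F ⇑(TQ n Q₀))).factorization 2 =
      n * (Nat.card (OD F)).factorization 2 +
        (Nat.card ↥(Cfsg.isometryGroup F ⇑Q₀)).factorization 2 + (n !).factorization 2 := by
    rw [Nat.card_congr e.toEquiv, hcard, val_card_OD hodd]
  exact E2_omega_of_equiv e (E2_omega_TQ_three n Q₀ h2 hQ₀ hn (E2_OD hodd) hX hcard')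

theorem isSquare_mul_of_not {x y : F} (hx : ¬ IsSquare x) (hy : ¬ IsSquare y) :
    IsSquare (x * y) := by
  have hx0 : x ≠ 0 := by rintro rfl; exact hx ⟨0, by simp⟩
  have hy0 : y ≠ 0 := by rintro rfl; exact hy ⟨0, by simp⟩
  rw [Cfsg.Agent.Lib.Helper25.Spin.isSquare_mul_iff hx0 hy0]
  exact ⟨fun h => absurd h hx, fun h => absurd h hy⟩

theorem E2_omega_minus (hodd : Odd (Fintype.card F)) (k : ℕ) (hk : 3 ≤ k) (a b : F)
    (hab : Aniso a b) : E2 ↥(Cfsg.Omega F (Cfsg.quadFormMinus k F a b)) := by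
  have h2 := two_ne_zero_of_odd_card' hodd
  have hD : a ^ 2 - 4 * b ≠ 0 := disc_ne_zero hab
  have hν : ¬ IsSquare (a ^ 2 - 4 * b) := not_isSquare_disc h2 hab
  obtain ⟨q, hF⟩ : ∃ q, Fintype.card F = q := ⟨_, rfl⟩
  have hq1 : 1 < q := by rw [← hF]; exact Fintype.one_lt_card
  have hoddq : Odd q := by rw [← hF]; exact hodd
  have hq2 : q % 2 = 1 := Nat.odd_iff.mp hoddq
  have hstd : Nat.card ↥(Cfsg.isometryGroup F ⇑(qfOf (isQF_minus (n := k) hD))) =
      2 * q ^ ((k + 1) * k) * (q ^ (k + 1) + 1) *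
        ∏ i ∈ Finset.range k, (q ^ (2 * (i + 1)) - 1) := by
    rw [← hF]
    exact card_isometry_minus hab k
  have hcases : q % 4 = 1 ∨ q % 4 = 3 := by omega
  rcases hcases with h1 | h3
  · -- q ≡ 1 (mod 4): V₀ = N
    obtain ⟨s, hs⟩ := isSquare_neg_one_of_mod (F := F) (by rw [hF]; exact h1)
    apply E2_omega_of_data hodd (qfOf (isQF_minus (n := k) hD)) (qfOf_nondeg _)
      (qfOf (isQF_minus (n := 0) hD)) (qfOf_nondeg _) k hk
    · simp only [Fintype.card_sum, Fintype.card_fin]; omega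
    · rw [disc_minus 0 hD, disc_minus k hD]
      refine ⟨s ^ k * (a ^ 2 - 4 * b), ?_⟩
      have e1 : ((-1 : F)) ^ (k + 1) = - (s * s) ^ k := by rw [← hs]; ring
      rw [e1]
      ring
    · exact X2_minus_zero hF h1 hab hD
    · rw [hstd, val_card_minus q hoddq hq1 k,
        val_pow_add_one_of_mod (pow_mod_four_one h1 (k + 1)), card_minus_zero hF hab hD,
        val_two_mul_add' q h1, hF]
      ring
  · have hm1 : ¬ IsSquare (-1 : F) := not_isSquare_neg_one_of_mod (by rw [hF]; exact h3)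
    have hsq : IsSquare (-(a ^ 2 - 4 * b)) := by
      have := isSquare_mul_of_not hm1 hν
      rwa [neg_one_mul] at this
    rcases Nat.even_or_odd k with hke | hko
    · -- k even: n = k + 1, V₀ = 0
      obtain ⟨t, ht⟩ := hke
      apply E2_omega_of_data hodd (qfOf (isQF_minus (n := k) hD)) (qfOf_nondeg _)
        (qfOf (isQF_plus (F := F) (m := 0))) (qfOf_nondeg _) (k + 1) (by omega)
      · simp only [Fintype.card_sum, Fintype.card_fin]; omega
      · rw [disc_plus, disc_minus k hD]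
        obtain ⟨r, hr⟩ := hsq
        refine ⟨r, ?_⟩
        have e1 : ((-1 : F)) ^ (k + 1) = -1 := by
          rw [ht, ← two_mul, pow_succ, pow_mul]; simp
        rw [e1, ← hr]
        ring
      · exact X2_plus_zero
      · have e1 : k + 1 = 2 * t + 1 := by omega
        rw [hstd, val_card_minus q hoddq hq1 k, card_plus_zero, hF]
        rw [fact_factorial_succ_of_even ⟨t, ht⟩]
        have e2 : (q ^ (k + 1) + 1).factorization 2 = (q + 1).factorization 2 := by
          rw [e1]; exact val_pow_add_one_odd q hoddq hq1 t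
        rw [e2, val_sub_one_mod h3]
        simp only [Nat.factorization_one, Finsupp.coe_zero, Pi.zero_apply]
        ring
    · -- k odd: n = k, V₀ = H
      obtain ⟨t, ht⟩ := hko
      apply E2_omega_of_data hodd (qfOf (isQF_minus (n := k) hD)) (qfOf_nondeg _)
        (qfOf (isQF_plus (F := F) (m := 1))) (qfOf_nondeg _) k hk
      · simp only [Fintype.card_sum, Fintype.card_fin]; omega
      · rw [disc_plus, disc_minus k hD]
        obtain ⟨r, hr⟩ := hsq
        refine ⟨r, ?_⟩
        have e1 : ((-1 : F)) ^ (k + 1) = 1 := by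
          rw [ht]
          have : 2 * t + 1 + 1 = 2 * (t + 1) := by ring
          rw [this, pow_mul]; simp
        rw [e1, ← hr]
        ring
      · exact X2_plus_one hF h3
      · have e1 : k + 1 = 2 * (t + 1) := by omega
        rw [hstd, val_card_minus q hoddq hq1 k, card_plus_one hF hq1, val_two_mul_sub' q h3, hF]
        have e2 : (q ^ (k + 1) + 1).factorization 2 = 1 := by
          rw [e1]; exact val_pow_add_one_of_mod (pow_mod_four_even' hoddq (t + 1))
        rw [e2]
        ring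

end Cfsg.Agent.Lib.Helper16.OmSyl
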