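import Cfsg.Agent.Lib.Helper16.OmSyl2

/-
helper16 library: the kernel of a symmetric homomorphism on `D × D`, `D` dihedral.
-/

set_option autoImplicit false

namespace Cfsg.Agent.Lib.Helper16.OmSyl

open Cfsg.Agent.Lib.Helper16.SylAb DihedralGroup
open scoped commutatorElement

section core

variable {k : ℕ} {Z : Type*} [CommGroup Z]

/-- pairs in `P × P` killed by `χ × χ` -/
def pairSub (P : Subgroup (DihedralGroup k)) (χ : DihedralGroup k →* Z) :
    Subgroup (DihedralGroup k × DihedralGroup k) :=
  (P.prod P) ⊓ (χ.coprod χ).ker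

theorem mem_pairSub (P : Subgroup (DihedralGroup k)) (χ : DihedralGroup k →* Z)
    (x : DihedralGroup k × DihedralGroup k) :
    x ∈ pairSub P χ ↔ x.1 ∈ P ∧ x.2 ∈ P ∧ χ x.1 * χ x.2 = 1 := by
  unfold pairSub
  rw [Subgroup.mem_inf, Subgroup.mem_prod, MonoidHom.mem_ker, MonoidHom.coprod_apply, and_assoc]

theorem comm_pair (a b a' b' : DihedralGroup k) :
    ⁅((a, b) : DihedralGroup k × DihedralGroup k), (a', b')⁆ = (⁅a, a'⁆, ⁅b, b'⁆) := rfl

theorem sqS_pairSub (P : Subgroup (DihedralGroup k)) (χ : DihedralGroup k →* Z)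
    (j₀ : ZMod k) (hs : sr j₀ ∈ P) : SqS (pairSub P χ) := by
  rintro ⟨u, v⟩ hx
  rw [mem_pairSub] at hx
  obtain ⟨hu, hv, hχ⟩ := hx
  simp only at hu hv hχ
  have hanti : ∀ w ∈ P, ((w⁻¹, w) : DihedralGroup k × DihedralGroup k) ∈ pairSub P χ := by
    intro w hw
    rw [mem_pairSub]
    exact ⟨inv_mem hw, hw, by simp⟩
  have hss : ((sr j₀, sr j₀) : DihedralGroup k × DihedralGroup k) ∈ pairSub P χ := by
    rw [mem_pairSub]
    refine ⟨hs, hs, ?_⟩
    show χ (sr j₀) * χ (sr j₀) = 1
    rw [← map_mul]
    simp
  cases u with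
  | r i =>
    cases v with
    | r j =>
      -- both rotations
      have h1 : (((1 : DihedralGroup k), (r i * r j)⁻¹) : DihedralGroup k × DihedralGroup k) ∈
          pairSub P χ := by
        rw [mem_pairSub]
        refine ⟨one_mem _, inv_mem (mul_mem hu hv), ?_⟩
        show χ 1 * χ (r i * r j)⁻¹ = 1
        rw [map_one, one_mul, map_inv, map_mul, hχ, inv_one]
      have e : ((r i, r j) : DihedralGroup k × DihedralGroup k) ^ 2 =
          ⁅((sr j₀, sr j₀) : DihedralGroup k × DihedralGroup k), ((r i)⁻¹, r i)⁆ *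
          ⁅((sr j₀, sr j₀) : DihedralGroup k × DihedralGroup k), (1, (r i * r j)⁻¹)⁆ := by
        rw [comm_pair, comm_pair, sq, Prod.mk_mul_mk, Prod.mk_mul_mk]
        simp only [commutatorElement_def]
        apply Prod.ext
        · simp
        · simp
          ring
      rw [e]
      exact mul_mem (Subgroup.commutator_mem_commutator hss (hanti _ hu))
        (Subgroup.commutator_mem_commutator hss h1)
    | sr j =>
      have h1 : ((sr j * r i, (1 : DihedralGroup k)) : DihedralGroup k × DihedralGroup k) ∈
          pairSub P χ := by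
        rw [mem_pairSub]
        refine ⟨mul_mem hv hu, one_mem _, ?_⟩
        show χ (sr j * r i) * χ 1 = 1
        rw [map_one, mul_one, map_mul, mul_comm, hχ]
      have e : ((r i, sr j) : DihedralGroup k × DihedralGroup k) ^ 2 =
          ⁅((sr j * r i, 1) : DihedralGroup k × DihedralGroup k), ((r i)⁻¹, r i)⁆ := by
        rw [comm_pair, sq, Prod.mk_mul_mk]
        simp only [commutatorElement_def]
        apply Prod.ext
        · simp
        · simp
      rw [e]
      exact Subgroup.commutator_mem_commutator h1 (hanti _ hu)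
  | sr i =>
    cases v with
    | r j =>
      have h1 : (((1 : DihedralGroup k), sr i * r j) : DihedralGroup k × DihedralGroup k) ∈
          pairSub P χ := by
        rw [mem_pairSub]
        refine ⟨one_mem _, mul_mem hu hv, ?_⟩
        show χ 1 * χ (sr i * r j) = 1
        rw [map_one, one_mul, map_mul, hχ]
      have h3 : ((r j, (r j)⁻¹) : DihedralGroup k × DihedralGroup k) ∈ pairSub P χ := by
        rw [mem_pairSub]
        refine ⟨hv, inv_mem hv, ?_⟩
        show χ (r j) * χ (r j)⁻¹ = 1
        rw [map_inv, mul_inv_cancel]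
      have e : ((sr i, r j) : DihedralGroup k × DihedralGroup k) ^ 2 =
          ⁅((1, sr i * r j) : DihedralGroup k × DihedralGroup k), (r j, (r j)⁻¹)⁆ := by
        rw [comm_pair, sq, Prod.mk_mul_mk]
        simp only [commutatorElement_def]
        apply Prod.ext
        · simp
        · simp
      rw [e]
      exact Subgroup.commutator_mem_commutator h1 h3
    | sr j =>
      have e : ((sr i, sr j) : DihedralGroup k × DihedralGroup k) ^ 2 = 1 := by
        rw [sq, Prod.mk_mul_mk]
        simp
      rw [e]
      exact one_mem _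

end core

end Cfsg.Agent.Lib.Helper16.OmSyl
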