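import Cfsg.Agent.Lib.Helper16.OmSyl13

/-
helper16 library: the kernel of a symmetric homomorphism on `D^2 × E`, `D` dihedral, `E` trivial.
-/

set_option autoImplicit false

namespace Cfsg.Agent.Lib.Helper16.OmSyl

open Cfsg.Agent.Lib.Helper16.SylAb DihedralGroup
open scoped commutatorElement

section two

variable {k : ℕ} {E Z : Type*} [Group E] [CommGroup Z]

/-- pairs to `D^2 × E` -/
def pairHom (k : ℕ) (E : Type*) [Group E] :
    DihedralGroup k × DihedralGroup k →* (Fin 2 → DihedralGroup k) × E :=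
  (coordHom (DihedralGroup k) E 2 0).noncommCoprod (coordHom (DihedralGroup k) E 2 1)
    (fun a b => coordHom_commute (by decide) a b)

theorem pairHom_apply (a b : DihedralGroup k) :
    pairHom k E (a, b) = coordHom (DihedralGroup k) E 2 0 a * coordHom (DihedralGroup k) E 2 1 b :=
  rfl

theorem eq_pairHom [Subsingleton E] (x : (Fin 2 → DihedralGroup k) × E) :
    x = pairHom k E (x.1 0, x.1 1) := by
  rw [pairHom_apply, coordHom_apply, coordHom_apply]
  apply Prod.ext
  · funext l
    fin_cases l <;> simp [Pi.mulSingle_apply]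
  · exact Subsingleton.elim _ _

theorem E2_ker_of_two [NeZero k] [Subsingleton E] [Finite E]
    (θ : (Fin 2 → DihedralGroup k) × E →* Z)
    (hθ : ∀ (i j : Fin 2) (a : DihedralGroup k),
      θ (coordHom (DihedralGroup k) E 2 i a) = θ (coordHom (DihedralGroup k) E 2 j a)) :
    E2 θ.ker := by
  obtain ⟨P⟩ : Nonempty (Sylow 2 (DihedralGroup k)) := inferInstance
  obtain ⟨R⟩ : Nonempty (Sylow 2 E) := inferInstance
  obtain ⟨U, hU⟩ := exists_sylow_prodSub 2 P R
  have hnorm : (θ.ker.subtype).range.Normal := by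
    rw [Subgroup.range_subtype]; infer_instance
  apply E2_of_sylow_inf_range θ.ker.subtype Subtype.val_injective hnorm U
  rw [Subgroup.range_subtype, hU]
  obtain ⟨j₀, hj₀⟩ := exists_sr_mem_sylow k P
  obtain ⟨χ, hχ⟩ : ∃ χ : DihedralGroup k →* Z, χ = θ.comp (coordHom (DihedralGroup k) E 2 0) :=
    ⟨_, rfl⟩
  have hχa : ∀ a, χ a = θ (coordHom (DihedralGroup k) E 2 0 a) := fun a => by rw [hχ]; rfl
  have hθp : ∀ a b, θ (pairHom k E (a, b)) = χ a * χ b := by
    intro a b
    rw [pairHom_apply, map_mul, hθ 1 0 b, hχa, hχa]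
  have hT : prodSub 2 (P : Subgroup (DihedralGroup k)) (R : Subgroup E) ⊓ θ.ker =
      (pairSub (P : Subgroup (DihedralGroup k)) χ).map (pairHom k E) := by
    ext x
    constructor
    · rintro ⟨hx1, hx2⟩
      have hx1' := (mem_prodSub 2 _ _ x).mp hx1
      refine ⟨(x.1 0, x.1 1), ?_, (eq_pairHom x).symm⟩
      rw [SetLike.mem_coe, mem_pairSub]
      refine ⟨hx1'.1 0, hx1'.1 1, ?_⟩
      rw [← hθp, ← eq_pairHom x]
      exact hx2
    · rintro ⟨⟨a, b⟩, hab, rfl⟩
      rw [SetLike.mem_coe, mem_pairSub] at hab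
      constructor
      · rw [pairHom_apply]
        exact mul_mem (coordHom_mem_prodSub _ _ 0 hab.1) (coordHom_mem_prodSub _ _ 1 hab.2.1)
      · show pairHom k E (a, b) ∈ θ.ker
        rw [MonoidHom.mem_ker, hθp]
        exact hab.2.2
  rw [hT]
  exact (sqS_pairSub (P : Subgroup (DihedralGroup k)) χ j₀ hj₀).map (pairHom k E)

end two

section transport

variable {k : ℕ} {D E Z : Type*} [Group D] [Group E] [CommGroup Z]

theorem E2_ker_of_two' [NeZero k] [Subsingleton E] [Finite E] [Finite D]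
    (eD : D ≃* DihedralGroup k) (θ : (Fin 2 → D) × E →* Z)
    (hθ : ∀ (i j : Fin 2) (a : D), θ (coordHom D E 2 i a) = θ (coordHom D E 2 j a)) :
    E2 θ.ker := by
  obtain ⟨ψ, hψ⟩ : ∃ ψ : (Fin 2 → DihedralGroup k) × E ≃* (Fin 2 → D) × E,
      ψ = MulEquiv.prodCongr (MulEquiv.piCongrRight (fun _ : Fin 2 => eD.symm))
        (MulEquiv.refl E) := ⟨_, rfl⟩
  have hψc : ∀ (i : Fin 2) (a : DihedralGroup k),
      ψ (coordHom (DihedralGroup k) E 2 i a) = coordHom D E 2 i (eD.symm a) := by
    intro i a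
    rw [hψ, coordHom_apply, coordHom_apply]
    apply Prod.ext
    · funext l
      show eD.symm ((Pi.mulSingle i a : Fin 2 → DihedralGroup k) l) =
        (Pi.mulSingle i (eD.symm a) : Fin 2 → D) l
      rw [Pi.mulSingle_apply, Pi.mulSingle_apply]
      split_ifs
      · rfl
      · exact map_one _
    · rfl
  have h1 : E2 (θ.comp ψ.toMonoidHom).ker := by
    apply E2_ker_of_two
    intro i j a
    show θ (ψ _) = θ (ψ _)
    rw [hψc, hψc, hθ i j]
  have hmap : (θ.comp ψ.toMonoidHom).ker.map ψ.toMonoidHom = θ.ker := by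
    ext y
    constructor
    · rintro ⟨x, hx, rfl⟩
      exact hx
    · intro hy
      refine ⟨ψ.symm y, ?_, ψ.apply_symm_apply y⟩
      show θ (ψ (ψ.symm y)) = 1
      rw [ψ.apply_symm_apply]
      exact hy
  exact E2_of_mulEquiv ((ψ.subgroupMap _).trans (MulEquiv.subgroupCongr hmap)) h1

end transport

end Cfsg.Agent.Lib.Helper16.OmSyl
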