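import Cfsg.Agent.Lib.Helper16.OmSyl12
import Cfsg.Agent.Lib.Helper16.OmSyl14

/-
helper16 library: `E2 (Ω⁺_{2m}(q))`, `q` odd, `m` even or `m ≥ 4`.
-/

set_option autoImplicit false

namespace Cfsg.Agent.Lib.Helper16.OmSyl

open Module Matrix QuadraticMap Cfsg.Agent.Lib.Helper25.Spin Cfsg.Agent.Lib.Helper14
  Cfsg.Agent.Lib.Helper14.OrthMinus Cfsg.Agent.Lib.Helper16.SylAb
  Cfsg.Agent.Lib.Helper14.QuadExt
open scoped Nat

variable {F : Type*} [Field F] [Fintype F]

/-- `O(⟨1,1⟩)` is dihedral -/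
theorem exists_OD_equiv (hodd : Odd (Fintype.card F)) :
    ∃ (k : ℕ) (_ : NeZero k), Nonempty (OD F ≃* DihedralGroup k) := by
  obtain ⟨q, hF⟩ : ∃ q, Fintype.card F = q := ⟨_, rfl⟩
  have hq1 : 1 < q := by rw [← hF]; exact Fintype.one_lt_card
  rw [hF, Nat.odd_iff] at hodd
  have hcases : q % 4 = 1 ∨ q % 4 = 3 := by omega
  rcases hcases with h | h
  · exact ⟨q - 1, ⟨by omega⟩, OD_equiv_one hF h⟩
  · exact ⟨q + 1, ⟨by omega⟩, OD_equiv_three hF h⟩

/-- the four-dimensional case -/
theorem E2_omega_plus_two (hodd : Odd (Fintype.card F)) :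
    E2 ↥(Cfsg.Omega F (Cfsg.quadFormPlus 2 F)) := by
  have h2 := two_ne_zero_of_odd_card' hodd
  have hq1 : 1 < Fintype.card F := Fintype.one_lt_card
  obtain ⟨Q₀, hQ₀def⟩ : ∃ Q₀ : QuadraticForm F (Fin 0 ⊕ Fin 0 → F),
      Q₀ = qfOf (isQF_plus (F := F) (m := 0)) := ⟨_, rfl⟩
  have hQ₀ : (polarBilin Q₀).Nondegenerate := by rw [hQ₀def]; exact qfOf_nondeg _
  obtain ⟨e⟩ := nonempty_isoEquiv h2 (TQ 2 Q₀) (qfOf (isQF_plus (F := F) (m := 2)))
    (by simp) (TQ_nondeg 2 Q₀ h2 hQ₀) (qfOf_nondeg _) (by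
      unfold TQ
      rw [disc_sumQ, disc_dotQF, hQ₀def, disc_plus, disc_plus]
      refine ⟨4, ?_⟩
      simp only [Fintype.card_prod, Fintype.card_fin]
      ring)
  have hcard : (Nat.card ↥(Cfsg.isometryGroup F ⇑(TQ 2 Q₀))).factorization 2 =
      2 * (Nat.card (OD F)).factorization 2 +
        (Nat.card ↥(Cfsg.isometryGroup F ⇑Q₀)).factorization 2 + (2 !).factorization 2 := by
    have h3 : Nat.card ↥(Cfsg.isometryGroup F ⇑(TQ 2 Q₀)) =
        Nat.card ↥(Cfsg.isometryGroup F (Cfsg.quadFormPlus 2 F)) := Nat.card_congr e.toEquiv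
    have h4 : Nat.card ↥(Cfsg.isometryGroup F ⇑Q₀) = 1 := by
      rw [hQ₀def]; exact card_plus_zero
    rw [h3, card_isometry_plus 1, val_card_plus _ hodd hq1 1, val_card_OD hodd, h4]
    have h5 := val_even_term _ hodd hq1 1 (by norm_num)
    simp only [mul_one] at h5
    have h6 : (1 : ℕ) + 1 = 2 := rfl
    rw [h6, h5]
    simp only [Nat.factorial, Nat.factorization_one, Finsupp.coe_zero, Pi.zero_apply]
    norm_num
    ring
  obtain ⟨k, hk, ⟨eD⟩⟩ := exists_OD_equiv hodd
  haveI : Subsingleton ↥(Cfsg.isometryGroup F ⇑Q₀) := by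
    haveI : Subsingleton (GL (Fin 0 ⊕ Fin 0) F) := by
      constructor
      intro x y
      apply Units.ext
      exact Subsingleton.elim _ _
    infer_instance
  have hker : E2 ↥(thetaHom 2 Q₀).ker :=
    E2_ker_of_two' eD (thetaHom 2 Q₀) (thetaHom_symm 2 Q₀)
  exact E2_omega_of_equiv e (E2_omega_TQ 2 Q₀ h2 hQ₀ (by norm_num) hker hcard)

theorem E2_omega_plus (hodd : Odd (Fintype.card F)) (m : ℕ) (hm : 1 ≤ m)
    (hm' : Even m ∨ 4 ≤ m) : E2 ↥(Cfsg.Omega F (Cfsg.quadFormPlus m F)) := by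
  have h2 := two_ne_zero_of_odd_card' hodd
  obtain ⟨q, hF⟩ : ∃ q, Fintype.card F = q := ⟨_, rfl⟩
  have hq1 : 1 < q := by rw [← hF]; exact Fintype.one_lt_card
  have hoddq : Odd q := by rw [← hF]; exact hodd
  have hq2 : q % 2 = 1 := Nat.odd_iff.mp hoddq
  obtain ⟨n, rfl⟩ : ∃ n, m = n + 1 := ⟨m - 1, by omega⟩
  have hstd : Nat.card ↥(Cfsg.isometryGroup F ⇑(qfOf (isQF_plus (F := F) (m := n + 1)))) =
      2 * q ^ ((n + 1) * n) * (q ^ (n + 1) - 1) *
        ∏ i ∈ Finset.range n, (q ^ (2 * (i + 1)) - 1) := by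
    rw [← hF]
    exact card_isometry_plus n
  rcases Nat.even_or_odd (n + 1) with hev | hod
  · -- m even
    by_cases hm2 : n + 1 = 2
    · have : n = 1 := by omega
      subst this
      exact E2_omega_plus_two hodd
    · obtain ⟨j, hj⟩ := hev
      have hj2 : 2 ≤ j := by omega
      apply E2_omega_of_data hodd (qfOf (isQF_plus (F := F) (m := n + 1))) (qfOf_nondeg _)
        (qfOf (isQF_plus (F := F) (m := 0))) (qfOf_nondeg _) (n + 1) (by omega)
      · simp only [Fintype.card_sum, Fintype.card_fin]; omega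
      · rw [disc_plus, disc_plus]
        refine ⟨1, ?_⟩
        rw [hj, ← two_mul, pow_mul]
        simp
      · exact X2_plus_zero
      · rw [hstd, val_card_plus q hoddq hq1 n, card_plus_zero, hF]
        have e1 : n + 1 = 2 * j := by omega
        have e2 : (q ^ (n + 1) - 1).factorization 2 =
            (q - 1).factorization 2 + (q + 1).factorization 2 + j.factorization 2 := by
          rw [e1]; exact val_even_term q hoddq hq1 j (by omega)
        have e3 : ((n + 1) !).factorization 2 = 1 + j.factorization 2 + (n !).factorization 2 := by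
          rw [Nat.factorial_succ, fact_two_mul (by omega) (Nat.factorial_ne_zero n), e1,
            fact_two_mul (by norm_num) (by omega), fact_two_two]
        rw [e2, e3]
        simp only [Nat.factorization_one, Finsupp.coe_zero, Pi.zero_apply]
        ring
  · -- m odd, m ≥ 5
    obtain ⟨t, ht⟩ := hod
    have hn4 : 4 ≤ n + 1 := by
      rcases hm' with h | h
      · exfalso
        rw [Nat.even_iff] at h
        omega
      · exact h
    have hnt : n = 2 * t := by omega
    have hvm : (q ^ (n + 1) - 1).factorization 2 = (q - 1).factorization 2 := by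
      rw [ht]; exact val_odd_term q hoddq hq1 t
    have hcases : q % 4 = 1 ∨ q % 4 = 3 := by omega
    rcases hcases with h1 | h3
    · -- q ≡ 1: n' = m, V₀ = 0
      obtain ⟨s, hs⟩ := isSquare_neg_one_of_mod (F := F) (by rw [hF]; exact h1)
      apply E2_omega_of_data hodd (qfOf (isQF_plus (F := F) (m := n + 1))) (qfOf_nondeg _)
        (qfOf (isQF_plus (F := F) (m := 0))) (qfOf_nondeg _) (n + 1) (by omega)
      · simp only [Fintype.card_sum, Fintype.card_fin]; omega
      · rw [disc_plus, disc_plus]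
        refine ⟨s ^ (n + 1), ?_⟩
        rw [hs, mul_pow, pow_zero, one_mul]
        ring
      · exact X2_plus_zero
      · rw [hstd, val_card_plus q hoddq hq1 n, card_plus_zero, hF, hvm,
          fact_factorial_succ_of_even ⟨t, by omega⟩, val_plus_one_mod h1]
        simp only [Nat.factorization_one, Finsupp.coe_zero, Pi.zero_apply]
        ring
    · -- q ≡ 3: n' = m - 1, V₀ = H
      apply E2_omega_of_data hodd (qfOf (isQF_plus (F := F) (m := n + 1))) (qfOf_nondeg _)
        (qfOf (isQF_plus (F := F) (m := 1))) (qfOf_nondeg _) n (by omega)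
      · simp only [Fintype.card_sum, Fintype.card_fin]; omega
      · rw [disc_plus, disc_plus]
        refine ⟨1, ?_⟩
        rw [ht, pow_succ (-1 : F) (2 * t), pow_mul]
        simp
      · exact X2_plus_one hF h3
      · rw [hstd, val_card_plus q hoddq hq1 n, card_plus_one hF hq1, val_two_mul_sub' q h3, hF, hvm,
          val_sub_one_mod h3]
        ring

end Cfsg.Agent.Lib.Helper16.OmSyl
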