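import Cfsg.Agent.Lib.Helper16.OmSyl1

/-
helper16 library: Sylow 2-subgroups of `D^n × E` and of the kernel of a symmetric homomorphism
(`n ≥ 3`).
-/

set_option autoImplicit false

namespace Cfsg.Agent.Lib.Helper16.OmSyl

open Cfsg.Agent.Lib.Helper16.SylAb
open scoped commutatorElement

section prodSylow

variable {D E : Type*} [Group D] [Group E] (n : ℕ)

/-- the product subgroup `P^n × R` -/
def prodSub (P : Subgroup D) (R : Subgroup E) : Subgroup ((Fin n → D) × E) :=
  (Subgroup.pi Set.univ (fun _ : Fin n => P)).prod R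

theorem mem_prodSub (P : Subgroup D) (R : Subgroup E) (x : (Fin n → D) × E) :
    x ∈ prodSub n P R ↔ (∀ i, x.1 i ∈ P) ∧ x.2 ∈ R := by
  unfold prodSub
  rw [Subgroup.mem_prod, Subgroup.mem_pi]
  simp

theorem card_prodSub (P : Subgroup D) (R : Subgroup E) :
    Nat.card (prodSub n P R) = Nat.card P ^ n * Nat.card R := by
  unfold prodSub
  rw [Nat.card_congr (Subgroup.prodEquiv _ _).toEquiv, Nat.card_prod]
  congr 1
  have e : ↥(Subgroup.pi Set.univ (fun _ : Fin n => P)) ≃ (Fin n → ↥P) :=
    (Equiv.subtypeEquivRight (fun f => by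
      rw [Subgroup.mem_pi]; simp)).trans
      (Equiv.subtypePiEquivPi (p := fun (_ : Fin n) (b : D) => b ∈ P))
  rw [Nat.card_congr e, Nat.card_fun, Nat.card_fin]

variable [Finite D] [Finite E]

theorem factorization_card_prod :
    (Nat.card ((Fin n → D) × E)).factorization 2 =
      n * (Nat.card D).factorization 2 + (Nat.card E).factorization 2 := by
  rw [Nat.card_prod, Nat.card_fun, Nat.card_eq_fintype_card (α := Fin n), Fintype.card_fin,
    Nat.factorization_mul (pow_ne_zero _ Nat.card_pos.ne') Nat.card_pos.ne', Finsupp.add_apply,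
    Nat.factorization_pow, Finsupp.smul_apply, smul_eq_mul]

theorem exists_sylow_prodSub (P : Sylow 2 D) (R : Sylow 2 E) :
    ∃ U : Sylow 2 ((Fin n → D) × E), (U : Subgroup ((Fin n → D) × E)) = prodSub n P R := by
  have h : Nat.card (prodSub n (P : Subgroup D) (R : Subgroup E)) =
      2 ^ (Nat.card ((Fin n → D) × E)).factorization 2 := by
    rw [card_prodSub, factorization_card_prod, P.card_eq_multiplicity, R.card_eq_multiplicity,
      ← pow_mul, pow_add, mul_comm n]
  exact ⟨Sylow.ofCard _ h, Sylow.coe_ofCard _ h⟩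

end prodSylow

section kernel

variable {D E Z : Type*} [Group D] [Group E] [CommGroup Z] {n : ℕ}

/-- the `i`-th coordinate embedding -/
def coordHom (D E : Type*) [Group D] [Group E] (n : ℕ) (i : Fin n) : D →* (Fin n → D) × E :=
  (MonoidHom.inl (Fin n → D) E).comp (MonoidHom.mulSingle (fun _ : Fin n => D) i)

theorem coordHom_apply (i : Fin n) (a : D) :
    coordHom D E n i a = ((Pi.mulSingle i a : Fin n → D), (1 : E)) := rfl

theorem coordHom_commute {i j : Fin n} (hij : i ≠ j) (a b : D) :
    Commute (coordHom D E n i a) (coordHom D E n j b) := by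
  have h : Commute (Pi.mulSingle (M := fun _ : Fin n => D) i a) (Pi.mulSingle j b) :=
    Pi.mulSingle_commute (f := fun _ : Fin n => D) hij a b
  exact h.map (MonoidHom.inl (Fin n → D) E)

theorem coordHom_mem_prodSub (P : Subgroup D) (R : Subgroup E) (i : Fin n) {a : D} (ha : a ∈ P) :
    coordHom D E n i a ∈ prodSub n P R := by
  rw [mem_prodSub, coordHom_apply]
  refine ⟨fun l => ?_, one_mem _⟩
  show (Pi.mulSingle i a : Fin n → D) l ∈ P
  rw [Pi.mulSingle_apply]
  split_ifs
  · exact ha
  · exact one_mem _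

theorem exists_two_ne (hn : 3 ≤ n) (i : Fin n) : ∃ j k : Fin n, j ≠ i ∧ k ≠ i ∧ j ≠ k := by
  by_cases h0 : i.val = 0
  · refine ⟨⟨1, by omega⟩, ⟨2, by omega⟩, ?_, ?_, ?_⟩
    · intro h; have := congrArg Fin.val h; simp at this; omega
    · intro h; have := congrArg Fin.val h; simp at this; omega
    · intro h; have := congrArg Fin.val h; simp at this
  · by_cases h1 : i.val = 1
    · refine ⟨⟨0, by omega⟩, ⟨2, by omega⟩, ?_, ?_, ?_⟩
      · intro h; have := congrArg Fin.val h; simp at this; omega
      · intro h; have := congrArg Fin.val h; simp at this; omega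
      · intro h; have := congrArg Fin.val h; simp at this
    · refine ⟨⟨0, by omega⟩, ⟨1, by omega⟩, ?_, ?_, ?_⟩
      · intro h; have := congrArg Fin.val h; simp at this; omega
      · intro h; have := congrArg Fin.val h; simp at this; omega
      · intro h; have := congrArg Fin.val h; simp at this

variable [Finite D] [Finite E]

/-- the kernel of a symmetric homomorphism on `D^n × E`, `n ≥ 3` -/
theorem E2_ker_of_three (hn : 3 ≤ n) (θ : (Fin n → D) × E →* Z)
    (hθ : ∀ (i j : Fin n) (a : D), θ (coordHom D E n i a) = θ (coordHom D E n j a))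
    (hD : E2 D) (hE : X2 E) : E2 θ.ker := by
  obtain ⟨P⟩ : Nonempty (Sylow 2 D) := inferInstance
  obtain ⟨R⟩ : Nonempty (Sylow 2 E) := inferInstance
  obtain ⟨U, hU⟩ := exists_sylow_prodSub n P R
  have hnorm : (θ.ker.subtype).range.Normal := by
    rw [Subgroup.range_subtype]; infer_instance
  apply E2_of_sylow_inf_range θ.ker.subtype Subtype.val_injective hnorm U
  rw [Subgroup.range_subtype, hU]
  set T := prodSub n (P : Subgroup D) (R : Subgroup E) ⊓ θ.ker with hT
  -- antidiagonal elements
  have hanti : ∀ (i j : Fin n) (a : D), a ∈ (P : Subgroup D) →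
      coordHom D E n i a * coordHom D E n j a⁻¹ ∈ T := by
    intro i j a ha
    refine ⟨mul_mem (coordHom_mem_prodSub _ _ i ha)
      (coordHom_mem_prodSub _ _ j (inv_mem ha)), ?_⟩
    show _ ∈ θ.ker
    rw [MonoidHom.mem_ker, map_mul, hθ j i, ← map_mul, ← map_mul, mul_inv_cancel, map_one, map_one]
  have claim1 : ∀ (i : Fin n) (a b : D), a ∈ (P : Subgroup D) → b ∈ (P : Subgroup D) →
      coordHom D E n i ⁅a, b⁆ ∈ ⁅T, T⁆ := by
    intro i a b ha hb
    obtain ⟨j, k, hji, hki, hjk⟩ := exists_two_ne hn i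
    have e : coordHom D E n i ⁅a, b⁆ =
        ⁅coordHom D E n i a * coordHom D E n j a⁻¹, coordHom D E n i b * coordHom D E n k b⁻¹⁆ := by
      rw [comm_aux _ _ _ _ (coordHom_commute hji _ _) (coordHom_commute hji _ _)
        (coordHom_commute hjk _ _) (coordHom_commute hki _ _) (coordHom_commute hki _ _),
        map_commutatorElement]
    rw [e]
    exact Subgroup.commutator_mem_commutator (hanti i j a ha) (hanti i k b hb)
  have claim2 : Subgroup.pi Set.univ (fun _ : Fin n => ⁅(P : Subgroup D), (P : Subgroup D)⁆) ≤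
      (⁅T, T⁆).comap (MonoidHom.inl (Fin n → D) E) := by
    rw [Subgroup.pi_le_iff]
    intro i
    rw [Subgroup.map_le_iff_le_comap, Subgroup.commutator_le]
    intro a ha b hb
    exact claim1 i a b ha hb
  intro x hx
  obtain ⟨hx1, hx2⟩ := hx
  have hx1 := (mem_prodSub n _ _ x).mp hx1
  have he : x.2 ^ 2 = 1 := by
    apply hE
    obtain ⟨j, hj⟩ := R.isPGroup' ⟨x.2, hx1.2⟩
    refine ⟨j, ?_⟩
    have := congrArg Subtype.val hj
    simpa using this
  have hx' : x ^ 2 = MonoidHom.inl (Fin n → D) E (x.1 ^ 2) := by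
    ext
    · simp
    · simp [he]
  rw [hx']
  apply claim2
  rw [Subgroup.mem_pi]
  intro i _
  show (x.1 ^ 2) i ∈ _
  rw [Pi.pow_apply]
  exact hD P (x.1 i) (hx1.1 i)

end kernel

end Cfsg.Agent.Lib.Helper16.OmSyl
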