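import Cfsg.Agent.Lib.Helper16.OmSyl2
import Cfsg.Agent.Lib.Helper16.GLRank5
import Cfsg.Agent.Lib.Helper25.SpinDiag

/-
helper16 library: sums of squares, permutation matrices and block matrices in isometry groups.
-/

set_option autoImplicit false

namespace Cfsg.Agent.Lib.Helper16.OmSyl

open Matrix QuadraticMap Cfsg.Agent.Lib.Helper25.Spin Cfsg.Agent.Lib.Helper16.SylAb
  Cfsg.Agent.Lib.Helper16.GLRank Cfsg.Agent.Lib.Helper25.CD
open scoped commutatorElement

section dot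

variable {F : Type*} [Field F]

/-- the sum of squares -/
noncomputable def dotQF (F : Type*) [Field F] (κ : Type) [Fintype κ] : QuadraticForm F (κ → F) :=
  QuadraticMap.weightedSumSquares F (fun _ : κ => (1 : F))

theorem dotQF_apply {κ : Type} [Fintype κ] (v : κ → F) : dotQF F κ v = ∑ i, v i * v i := by
  unfold dotQF
  rw [QuadraticMap.weightedSumSquares_apply]
  simp

theorem polar_dotQF {κ : Type} [Fintype κ] (u v : κ → F) :
    polar (dotQF F κ) u v = 2 * ∑ i, u i * v i := by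
  unfold polar
  rw [dotQF_apply, dotQF_apply, dotQF_apply, Finset.mul_sum, ← Finset.sum_sub_distrib,
    ← Finset.sum_sub_distrib]
  apply Finset.sum_congr rfl
  intro i _
  simp only [Pi.add_apply]
  ring

theorem dotQF_nondeg (h2 : (2 : F) ≠ 0) {κ : Type} [Fintype κ] [DecidableEq κ] :
    (polarBilin (dotQF F κ)).Nondegenerate := by
  have key : ∀ x : κ → F, (∀ y, polar (dotQF F κ) x y = 0) → x = 0 := by
    intro x hx
    funext i
    have h := hx (Pi.single i 1)
    rw [polar_dotQF] at h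
    simp only [Pi.single_apply, mul_ite, mul_one, mul_zero, Finset.sum_ite_eq',
      Finset.mem_univ, if_true] at h
    exact (mul_eq_zero.mp h).resolve_left h2
  constructor
  · intro x hx
    exact key x (fun y => by simpa using hx y)
  · intro x hx
    apply key x
    intro y
    rw [polar_comm]
    simpa using hx y

theorem dotQF_comp_equiv {κ : Type} [Fintype κ] (σ : κ ≃ κ) (v : κ → F) :
    dotQF F κ (v ∘ σ) = dotQF F κ v := by
  rw [dotQF_apply, dotQF_apply]
  exact Equiv.sum_comp σ (fun i => v i * v i)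

end dot

section perm

variable {F : Type*} [Field F] {ι : Type} [Fintype ι] [DecidableEq ι]

/-- permutation matrices as a homomorphism to `GL` -/
noncomputable def permGL (F : Type*) [Field F] (ι : Type) [Fintype ι] [DecidableEq ι] :
    Equiv.Perm ι →* GL ι F :=
  (Matrix.permMatrixHom (n := ι) (R := F)).toHomUnits

theorem permGL_val (σ : Equiv.Perm ι) :
    ((permGL F ι σ : GL ι F) : Matrix ι ι F) = (σ⁻¹).permMatrix F := rfl

theorem permGL_mulVec (σ : Equiv.Perm ι) (v : ι → F) :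
    ((permGL F ι σ : GL ι F) : Matrix ι ι F) *ᵥ v = v ∘ (σ⁻¹ : Equiv.Perm ι) := by
  rw [permGL_val, Matrix.permMatrix_mulVec]

theorem permGL_mem (Q : (ι → F) → F) (σ : Equiv.Perm ι)
    (h : ∀ v, Q (v ∘ (σ⁻¹ : Equiv.Perm ι)) = Q v) : permGL F ι σ ∈ Cfsg.isometryGroup F Q := by
  intro u _
  show Q (((permGL F ι σ : GL ι F) : Matrix ι ι F) *ᵥ u) = Q u
  rw [permGL_mulVec, h]

theorem permGL_conj (σ : Equiv.Perm ι) (A : Matrix ι ι F) :
    ((permGL F ι σ : GL ι F) : Matrix ι ι F) * A *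
      ((permGL F ι σ⁻¹ : GL ι F) : Matrix ι ι F) =
      A.submatrix (σ⁻¹ : Equiv.Perm ι) (σ⁻¹ : Equiv.Perm ι) := by
  rw [permGL_val, permGL_val, inv_inv, Equiv.Perm.permMatrix, Equiv.Perm.permMatrix,
    PEquiv.toMatrix_toPEquiv_mul, PEquiv.mul_toMatrix_toPEquiv]
  ext i j
  simp only [submatrix_apply, id_eq]
  rfl

theorem permGL_injective : Function.Injective (permGL F ι) := by
  rw [injective_iff_map_eq_one]
  intro σ hσ
  have h1 := congrArg Units.val hσ
  rw [permGL_val, Units.val_one] at h1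
  ext i
  have h2 := congrFun (congrFun h1 (σ i)) i
  rw [Matrix.one_apply] at h2
  by_contra hne
  have hne' : ¬ σ i = i := hne
  rw [if_neg hne'] at h2
  simp [Equiv.Perm.permMatrix, PEquiv.toMatrix_apply] at h2

end perm

section blocks

variable {F : Type*} [Field F] {a b : Type} [Fintype a] [Fintype b] [DecidableEq a]
  [DecidableEq b]

theorem dBU_mem (Q₁ : QuadraticForm F (a → F)) (Q₂ : QuadraticForm F (b → F))
    {g : GL a F} {h : GL b F} (hg : g ∈ Cfsg.isometryGroup F ⇑Q₁)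
    (hh : h ∈ Cfsg.isometryGroup F ⇑Q₂) :
    dBU F a b (g, h) ∈ Cfsg.isometryGroup F ⇑(sumQ Q₁ Q₂) := by
  intro u _
  show sumQ Q₁ Q₂ (((dBU F a b (g, h) : GL (a ⊕ b) F) : Matrix (a ⊕ b) (a ⊕ b) F) *ᵥ u) =
    sumQ Q₁ Q₂ u
  rw [dBU_val, Matrix.fromBlocks_mulVec, sumQ_apply, sumQ_apply]
  simp only [Matrix.zero_mulVec, add_zero, zero_add, Sum.elim_comp_inl, Sum.elim_comp_inr]
  have h1 : Q₁ ((g : Matrix a a F) *ᵥ (u ∘ Sum.inl)) = Q₁ (u ∘ Sum.inl) :=
    hg (u ∘ Sum.inl) (u ∘ Sum.inl)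
  have h3 : Q₂ ((h : Matrix b b F) *ᵥ (u ∘ Sum.inr)) = Q₂ (u ∘ Sum.inr) :=
    hh (u ∘ Sum.inr) (u ∘ Sum.inr)
  rw [h1, h3]

theorem blockDiagonal_mulVec_apply {κ : Type} [Fintype κ] [DecidableEq κ] {n : ℕ}
    (M : Fin n → Matrix κ κ F) (v : κ × Fin n → F) (i : κ) (k : Fin n) :
    (blockDiagonal M *ᵥ v) (i, k) = (M k *ᵥ (fun j => v (j, k))) i := by
  simp only [Matrix.mulVec, dotProduct, Fintype.sum_prod_type, blockDiagonal_apply]
  apply Finset.sum_congr rfl
  intro j _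
  rw [Finset.sum_eq_single k]
  · rw [if_pos rfl]
  · intro l _ hl
    rw [if_neg (Ne.symm hl), zero_mul]
  · intro h
    exact absurd (Finset.mem_univ k) h

theorem bdHom_mem {κ : Type} [Fintype κ] [DecidableEq κ] {n : ℕ} (g : Fin n → GL κ F)
    (hg : ∀ k, g k ∈ Cfsg.isometryGroup F ⇑(dotQF F κ)) :
    bdHom F κ n g ∈ Cfsg.isometryGroup F ⇑(dotQF F (κ × Fin n)) := by
  intro u _
  show dotQF F (κ × Fin n) (((bdHom F κ n g : GL (κ × Fin n) F) : Matrix _ _ F) *ᵥ u) =
    dotQF F (κ × Fin n) u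
  rw [bdHom_val, dotQF_apply, dotQF_apply, Fintype.sum_prod_type_right, Fintype.sum_prod_type_right]
  apply Finset.sum_congr rfl
  intro k _
  have h1 : dotQF F κ (((g k : GL κ F) : Matrix κ κ F) *ᵥ (fun j => u (j, k))) =
      dotQF F κ (fun j => u (j, k)) := hg k _ (fun j => u (j, k))
  rw [dotQF_apply, dotQF_apply] at h1
  rw [← h1]
  apply Finset.sum_congr rfl
  intro i _
  rw [blockDiagonal_mulVec_apply]

end blocks

section omega

variable {ι : Type} [Fintype ι] [DecidableEq ι] {F : Type*} [Field F] [Fintype F]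
  (Q : QuadraticForm F (ι → F))

/-- `g * (b g b⁻¹) ∈ Ω` -/
theorem mul_conj_mem_omega (hQ : (polarBilin Q).Nondegenerate)
    (hex : Fintype.card F ≠ 2 ∨ Fintype.card ι ≠ 4)
    (g b : ↥(Cfsg.isometryGroup F ⇑Q)) : g * (b * g * b⁻¹) ∈ Cfsg.Omega F ⇑Q := by
  have e : g * (b * g * b⁻¹) = (g * g) * ⁅g⁻¹, b⁆ := by
    rw [commutatorElement_def]
    group
  rw [e]
  apply mul_mem
  · exact sq_mem_commutator (reflSet Q) (reflSet_closure Q hQ hex) (reflSet_inv Q) _
  · show ⁅g⁻¹, b⁆ ∈ commutator ↥(Cfsg.isometryGroup F ⇑Q)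
    rw [commutator_def]
    exact Subgroup.commutator_mem_commutator (Subgroup.mem_top _) (Subgroup.mem_top _)

end omega

end Cfsg.Agent.Lib.Helper16.OmSyl
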