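import Cfsg.Agent.Lib.Helper16.OmSyl3

/-
helper16 library: the subgroup `(O_2 wr S_n) × O(V₀)` of the isometry group of
`⟨1,1⟩^n ⊥ V₀`.
-/

set_option autoImplicit false

namespace Cfsg.Agent.Lib.Helper16.OmSyl

open Matrix QuadraticMap Cfsg.Agent.Lib.Helper25.Spin Cfsg.Agent.Lib.Helper16.SylAb
  Cfsg.Agent.Lib.Helper16.GLRank Cfsg.Agent.Lib.Helper25.CD
open scoped commutatorElement

section defs

variable {F : Type*} [Field F] {κ₀ : Type} [Fintype κ₀] [DecidableEq κ₀] (n : ℕ)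
  (Q₀ : QuadraticForm F (κ₀ → F))

/-- the target form `⟨1,1⟩^n ⊥ Q₀` -/
noncomputable def TQ : QuadraticForm F ((Fin 2 × Fin n) ⊕ κ₀ → F) :=
  sumQ (dotQF F (Fin 2 × Fin n)) Q₀

/-- the binary isometry group -/
abbrev OD (F : Type*) [Field F] : Type _ := ↥(Cfsg.isometryGroup F ⇑(dotQF F (Fin 2)))

/-- block diagonal embedding into `GL` -/
noncomputable def phiGL :
    (Fin n → OD F) × ↥(Cfsg.isometryGroup F ⇑Q₀) →* GL ((Fin 2 × Fin n) ⊕ κ₀) F :=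
  ((dBU F (Fin 2 × Fin n) κ₀).comp
    (MonoidHom.prodMap (bdHom F (Fin 2) n) (MonoidHom.id (GL κ₀ F)))).comp
    (MonoidHom.prodMap ((Subgroup.subtype _).compLeft (Fin n)) (Subgroup.subtype _))

theorem phiGL_eq (x : (Fin n → OD F) × ↥(Cfsg.isometryGroup F ⇑Q₀)) :
    phiGL n Q₀ x = dBU F (Fin 2 × Fin n) κ₀
      (bdHom F (Fin 2) n (fun k => ((x.1 k : OD F) : GL (Fin 2) F)), (x.2 : GL κ₀ F)) := rfl

theorem phiGL_val (x : (Fin n → OD F) × ↥(Cfsg.isometryGroup F ⇑Q₀)) :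
    ((phiGL n Q₀ x : GL ((Fin 2 × Fin n) ⊕ κ₀) F) : Matrix _ _ F) =
      fromBlocks (blockDiagonal (fun k => (((x.1 k : OD F) : GL (Fin 2) F) :
        Matrix (Fin 2) (Fin 2) F))) 0 0
        (((x.2 : GL κ₀ F)) : Matrix κ₀ κ₀ F) := rfl

theorem phiGL_mem (x : (Fin n → OD F) × ↥(Cfsg.isometryGroup F ⇑Q₀)) :
    phiGL n Q₀ x ∈ Cfsg.isometryGroup F ⇑(TQ n Q₀) := by
  rw [phiGL_eq]
  exact dBU_mem _ _ (bdHom_mem _ (fun k => (x.1 k).2)) x.2.2

/-- block diagonal embedding into the isometry group -/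
noncomputable def phi :
    (Fin n → OD F) × ↥(Cfsg.isometryGroup F ⇑Q₀) →* ↥(Cfsg.isometryGroup F ⇑(TQ n Q₀)) :=
  (phiGL n Q₀).codRestrict _ (phiGL_mem n Q₀)

theorem phi_coe (x : (Fin n → OD F) × ↥(Cfsg.isometryGroup F ⇑Q₀)) :
    ((phi n Q₀ x : ↥(Cfsg.isometryGroup F ⇑(TQ n Q₀))) : GL _ F) = phiGL n Q₀ x := rfl

theorem phi_injective : Function.Injective (phi n Q₀) := by
  intro x y hxy
  have h1 : phiGL n Q₀ x = phiGL n Q₀ y := congrArg Subtype.val hxy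
  rw [phiGL_eq, phiGL_eq] at h1
  have h2 := dBU_injective h1
  have h3 := bdHom_injective (congrArg Prod.fst h2)
  have h4 := congrArg Prod.snd h2
  apply Prod.ext
  · funext k
    exact Subtype.ext (congrFun h3 k)
  · exact Subtype.ext h4

/-- permutations of the coordinates of the sum-of-squares part -/
noncomputable def permGLT : Equiv.Perm (Fin 2 × Fin n) →* GL ((Fin 2 × Fin n) ⊕ κ₀) F :=
  (permGL F ((Fin 2 × Fin n) ⊕ κ₀)).comp
    ((Equiv.Perm.sumCongrHom (Fin 2 × Fin n) κ₀).comp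
      (MonoidHom.inl (Equiv.Perm (Fin 2 × Fin n)) (Equiv.Perm κ₀)))

theorem permGLT_eq (τ : Equiv.Perm (Fin 2 × Fin n)) :
    permGLT (F := F) (κ₀ := κ₀) n τ =
      permGL F ((Fin 2 × Fin n) ⊕ κ₀) (Equiv.sumCongr τ (Equiv.refl κ₀)) := rfl

theorem permGLT_mem (τ : Equiv.Perm (Fin 2 × Fin n)) :
    permGLT n τ ∈ Cfsg.isometryGroup F ⇑(TQ n Q₀) := by
  rw [permGLT_eq]
  apply permGL_mem
  intro v
  show sumQ (dotQF F (Fin 2 × Fin n)) Q₀ _ = sumQ (dotQF F (Fin 2 × Fin n)) Q₀ _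
  rw [sumQ_apply, sumQ_apply]
  have e1 : (v ∘ ((Equiv.sumCongr τ (Equiv.refl κ₀) : Equiv.Perm _)⁻¹ : Equiv.Perm _)) ∘ Sum.inl =
      (v ∘ Sum.inl) ∘ (τ⁻¹ : Equiv.Perm _) := by
    funext i
    rfl
  have e2 : (v ∘ ((Equiv.sumCongr τ (Equiv.refl κ₀) : Equiv.Perm _)⁻¹ : Equiv.Perm _)) ∘ Sum.inr =
      v ∘ Sum.inr := by
    funext i
    rfl
  rw [e1, e2, dotQF_comp_equiv]

/-- coordinate permutations in the isometry group -/
noncomputable def permO : Equiv.Perm (Fin 2 × Fin n) →* ↥(Cfsg.isometryGroup F ⇑(TQ n Q₀)) :=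
  (permGLT n).codRestrict _ (permGLT_mem n Q₀)

/-- `σ` acting on the second coordinate -/
def layerHom (n : ℕ) : Equiv.Perm (Fin n) →* Equiv.Perm (Fin 2 × Fin n) where
  toFun σ := Equiv.prodCongr (Equiv.refl (Fin 2)) σ
  map_one' := by ext x <;> rfl
  map_mul' σ τ := by ext x <;> rfl

theorem layerHom_apply (σ : Equiv.Perm (Fin n)) (c : Fin 2) (k : Fin n) :
    layerHom n σ (c, k) = (c, σ k) := rfl

/-- block permutations -/
noncomputable def piHom : Equiv.Perm (Fin n) →* ↥(Cfsg.isometryGroup F ⇑(TQ n Q₀)) :=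
  (permO n Q₀).comp (layerHom n)

theorem piHom_coe (σ : Equiv.Perm (Fin n)) :
    ((piHom n Q₀ σ : ↥(Cfsg.isometryGroup F ⇑(TQ n Q₀))) : GL _ F) =
      permGL F ((Fin 2 × Fin n) ⊕ κ₀) (Equiv.sumCongr (layerHom n σ) (Equiv.refl κ₀)) := rfl

theorem piHom_injective : Function.Injective (piHom n Q₀) := by
  intro σ τ h
  have h1 := congrArg Subtype.val h
  rw [piHom_coe, piHom_coe] at h1
  have h2 := permGL_injective h1
  ext k
  have h3 := congrArg (fun e : Equiv.Perm ((Fin 2 × Fin n) ⊕ κ₀) => e (Sum.inl (0, k))) h2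
  simp only [Equiv.sumCongr_apply, Sum.map_inl, layerHom_apply] at h3
  have h4 := Sum.inl_injective h3
  exact congrArg Fin.val (congrArg Prod.snd h4)

theorem layer_decomp (σ : Equiv.Perm (Fin n)) :
    layerHom n σ = Equiv.Perm.prodExtendRight (0 : Fin 2) σ *
      ((Equiv.prodCongr (Equiv.swap (0 : Fin 2) 1) (Equiv.refl (Fin n)) : Equiv.Perm _) *
        Equiv.Perm.prodExtendRight (0 : Fin 2) σ *
        (Equiv.prodCongr (Equiv.swap (0 : Fin 2) 1) (Equiv.refl (Fin n)) : Equiv.Perm _)⁻¹) := by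
  ext ⟨c, k⟩ : 1
  have hinv : ((Equiv.prodCongr (Equiv.swap (0 : Fin 2) 1) (Equiv.refl (Fin n)) :
      Equiv.Perm _)⁻¹ : Equiv.Perm (Fin 2 × Fin n)) (c, k) = (Equiv.swap (0 : Fin 2) 1 c, k) := by
    rw [Equiv.Perm.inv_def]
    simp [Equiv.prodCongr_symm]
  rw [Equiv.Perm.mul_apply, Equiv.Perm.mul_apply, Equiv.Perm.mul_apply, hinv, layerHom_apply]
  fin_cases c
  · have e1 : Equiv.swap (0 : Fin 2) 1 ((fun i => i) ⟨0, by omega⟩) = 1 := by decide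
    rw [e1, Equiv.Perm.prodExtendRight_apply_ne _ (by decide : (1 : Fin 2) ≠ 0)]
    simp only [Equiv.prodCongr_apply, Prod.map_apply, Equiv.swap_apply_right, Equiv.refl_apply]
    rw [Equiv.Perm.prodExtendRight_apply_eq]
    rfl
  · have e1 : Equiv.swap (0 : Fin 2) 1 ((fun i => i) ⟨1, by omega⟩) = 0 := by decide
    rw [e1, Equiv.Perm.prodExtendRight_apply_eq]
    simp only [Equiv.prodCongr_apply, Prod.map_apply, Equiv.swap_apply_left, Equiv.refl_apply]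
    rw [Equiv.Perm.prodExtendRight_apply_ne _ (by decide : (1 : Fin 2) ≠ 0)]
    rfl

end defs

section omega

variable {F : Type*} [Field F] [Fintype F] {κ₀ : Type} [Fintype κ₀] [DecidableEq κ₀] (n : ℕ)
  (Q₀ : QuadraticForm F (κ₀ → F))

theorem TQ_nondeg (h2 : (2 : F) ≠ 0) (hQ₀ : (polarBilin Q₀).Nondegenerate) :
    (polarBilin (TQ n Q₀)).Nondegenerate :=
  sumQ_nondeg _ _ (dotQF_nondeg h2) hQ₀

theorem piHom_mem_omega (h2 : (2 : F) ≠ 0) (hQ₀ : (polarBilin Q₀).Nondegenerate)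
    (σ : Equiv.Perm (Fin n)) : piHom n Q₀ σ ∈ Cfsg.Omega F ⇑(TQ n Q₀) := by
  have hex : Fintype.card F ≠ 2 ∨ Fintype.card ((Fin 2 × Fin n) ⊕ κ₀) ≠ 4 :=
    Or.inl (Cfsg.Agent.Lib.Helper25.Spin.card_ne_two h2)
  have e : piHom n Q₀ σ = permO n Q₀ (Equiv.Perm.prodExtendRight (0 : Fin 2) σ) *
      (permO n Q₀ (Equiv.prodCongr (Equiv.swap (0 : Fin 2) 1) (Equiv.refl (Fin n))) *
        permO n Q₀ (Equiv.Perm.prodExtendRight (0 : Fin 2) σ) *
        (permO n Q₀ (Equiv.prodCongr (Equiv.swap (0 : Fin 2) 1) (Equiv.refl (Fin n))))⁻¹) := by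
    show permO n Q₀ (layerHom n σ) = _
    rw [layer_decomp, map_mul, map_mul, map_mul, map_inv]
  rw [e]
  exact mul_conj_mem_omega _ (TQ_nondeg n Q₀ h2 hQ₀) hex _ _

end omega

end Cfsg.Agent.Lib.Helper16.OmSyl
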