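import Cfsg.Agent.Lib.Helper16.OmSyl4
import Cfsg.Agent.Lib.Helper25.SpinIndex

/-
helper16 library: `E2 (Ω(⟨1,1⟩^n ⊥ V₀))` from the odd index of `(O_2 wr S_n) × O(V₀)`.
-/

set_option autoImplicit false

namespace Cfsg.Agent.Lib.Helper16.OmSyl

open Matrix QuadraticMap Cfsg.Agent.Lib.Helper25.Spin Cfsg.Agent.Lib.Helper16.SylAb
  Cfsg.Agent.Lib.Helper16.GLRank Cfsg.Agent.Lib.Helper25.CD
open scoped commutatorElement Nat

section conj

variable {F : Type*} [Field F] {κ₀ : Type} [Fintype κ₀] [DecidableEq κ₀] (n : ℕ)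
  (Q₀ : QuadraticForm F (κ₀ → F))

theorem piHom_conj (σ : Equiv.Perm (Fin n))
    (x : (Fin n → OD F) × ↥(Cfsg.isometryGroup F ⇑Q₀)) :
    piHom n Q₀ σ * phi n Q₀ x * (piHom n Q₀ σ)⁻¹ =
      phi n Q₀ (fun k => x.1 ((σ⁻¹ : Equiv.Perm (Fin n)) k), x.2) := by
  apply Subtype.ext
  apply Units.ext
  have h : ((piHom n Q₀ σ * phi n Q₀ x * (piHom n Q₀ σ)⁻¹ :
      ↥(Cfsg.isometryGroup F ⇑(TQ n Q₀))) : GL ((Fin 2 × Fin n) ⊕ κ₀) F).val =
      ((permGL F ((Fin 2 × Fin n) ⊕ κ₀)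
        (Equiv.sumCongr (layerHom n σ) (Equiv.refl κ₀)) : GL _ F) : Matrix _ _ F) *
      ((phiGL n Q₀ x : GL _ F) : Matrix _ _ F) *
      ((permGL F ((Fin 2 × Fin n) ⊕ κ₀)
        (Equiv.sumCongr (layerHom n σ) (Equiv.refl κ₀) : Equiv.Perm _)⁻¹ : GL _ F) :
          Matrix _ _ F) := by
    rw [map_inv]
    rfl
  rw [h, permGL_conj, phi_coe, phiGL_val, phiGL_val]
  ext (⟨c, k⟩ | i) (⟨c', k'⟩ | j)
  · have e1 : ((Equiv.sumCongr (layerHom n σ) (Equiv.refl κ₀) : Equiv.Perm _)⁻¹ :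
        Equiv.Perm ((Fin 2 × Fin n) ⊕ κ₀)) (Sum.inl (c, k)) =
        Sum.inl (c, (σ⁻¹ : Equiv.Perm (Fin n)) k) := rfl
    have e2 : ((Equiv.sumCongr (layerHom n σ) (Equiv.refl κ₀) : Equiv.Perm _)⁻¹ :
        Equiv.Perm ((Fin 2 × Fin n) ⊕ κ₀)) (Sum.inl (c', k')) =
        Sum.inl (c', (σ⁻¹ : Equiv.Perm (Fin n)) k') := rfl
    rw [submatrix_apply, e1, e2, fromBlocks_apply₁₁, fromBlocks_apply₁₁, blockDiagonal_apply,
      blockDiagonal_apply]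
    by_cases hk : k = k'
    · subst hk
      rw [if_pos rfl, if_pos rfl]
    · rw [if_neg hk, if_neg]
      intro h3
      exact hk ((σ⁻¹ : Equiv.Perm (Fin n)).injective h3)
  · rfl
  · rfl
  · rfl

theorem phi_eq_piHom (σ : Equiv.Perm (Fin n))
    (x : (Fin n → OD F) × ↥(Cfsg.isometryGroup F ⇑Q₀)) (h : phi n Q₀ x = piHom n Q₀ σ) :
    σ = 1 := by
  have h1 := congrArg (fun g : ↥(Cfsg.isometryGroup F ⇑(TQ n Q₀)) =>
    ((g : GL ((Fin 2 × Fin n) ⊕ κ₀) F) : Matrix ((Fin 2 × Fin n) ⊕ κ₀) ((Fin 2 × Fin n) ⊕ κ₀) F)) h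
  simp only [phi_coe, piHom_coe, phiGL_val, permGL_val] at h1
  ext k
  by_contra hne
  have hne' : ¬ σ k = k := fun h3 => hne (by rw [h3]; rfl)
  have h3 := congrFun (congrFun h1 (Sum.inl (0, σ k))) (Sum.inl (0, k))
  rw [fromBlocks_apply₁₁, blockDiagonal_apply, if_neg hne'] at h3
  simp [Equiv.Perm.permMatrix, PEquiv.toMatrix_apply] at h3
  apply h3
  rw [Equiv.symm_apply_eq]
  rfl

end conj

section main

variable {F : Type*} [Field F] [Fintype F] {κ₀ : Type} [Fintype κ₀] [DecidableEq κ₀] (n : ℕ)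
  (Q₀ : QuadraticForm F (κ₀ → F))

/-- the abelianisation homomorphism on `O_2^n × O(V₀)` -/
noncomputable def thetaHom : (Fin n → OD F) × ↥(Cfsg.isometryGroup F ⇑Q₀) →*
    Abelianization ↥(Cfsg.isometryGroup F ⇑(TQ n Q₀)) :=
  (Abelianization.of).comp (phi n Q₀)

theorem mem_ker_thetaHom (x : (Fin n → OD F) × ↥(Cfsg.isometryGroup F ⇑Q₀)) :
    x ∈ (thetaHom n Q₀).ker ↔ phi n Q₀ x ∈ Cfsg.Omega F ⇑(TQ n Q₀) := by
  rw [MonoidHom.mem_ker]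
  show Abelianization.of (phi n Q₀ x) = 1 ↔ _
  rw [← MonoidHom.mem_ker, Abelianization.ker_of]

theorem thetaHom_conj (σ : Equiv.Perm (Fin n))
    (x : (Fin n → OD F) × ↥(Cfsg.isometryGroup F ⇑Q₀)) :
    thetaHom n Q₀ (fun k => x.1 ((σ⁻¹ : Equiv.Perm (Fin n)) k), x.2) = thetaHom n Q₀ x := by
  show Abelianization.of (phi n Q₀ _) = Abelianization.of (phi n Q₀ x)
  rw [← piHom_conj, map_mul, map_mul, map_inv, mul_comm, inv_mul_cancel_left]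

theorem thetaHom_symm (i j : Fin n) (a : OD F) :
    thetaHom n Q₀ (coordHom (OD F) ↥(Cfsg.isometryGroup F ⇑Q₀) n i a) =
      thetaHom n Q₀ (coordHom (OD F) ↥(Cfsg.isometryGroup F ⇑Q₀) n j a) := by
  rw [← thetaHom_conj n Q₀ (Equiv.swap i j) (coordHom (OD F) _ n i a)]
  congr 1
  rw [coordHom_apply, coordHom_apply]
  apply Prod.ext
  · funext k
    show (Pi.mulSingle i a : Fin n → OD F) (((Equiv.swap i j)⁻¹ : Equiv.Perm (Fin n)) k) =
      (Pi.mulSingle j a : Fin n → OD F) k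
    rw [Equiv.swap_inv, Pi.mulSingle_apply, Pi.mulSingle_apply]
    by_cases hk : k = j
    · subst hk
      rw [Equiv.swap_apply_right, if_pos rfl, if_pos rfl]
    · rw [if_neg hk, if_neg]
      intro h3
      apply hk
      have := congrArg (Equiv.swap i j) h3
      rwa [Equiv.swap_apply_self, Equiv.swap_apply_left] at this
  · rfl

/-- the kernel, embedded in `Ω` -/
noncomputable def phiOm : ↥(thetaHom n Q₀).ker →* ↥(Cfsg.Omega F ⇑(TQ n Q₀)) :=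
  ((phi n Q₀).comp (thetaHom n Q₀).ker.subtype).codRestrict _
    (fun x => (mem_ker_thetaHom n Q₀ x.1).mp x.2)

theorem phiOm_coe (x : ↥(thetaHom n Q₀).ker) :
    ((phiOm n Q₀ x : ↥(Cfsg.Omega F ⇑(TQ n Q₀))) : ↥(Cfsg.isometryGroup F ⇑(TQ n Q₀))) =
      phi n Q₀ x.1 := rfl

theorem phiOm_injective : Function.Injective (phiOm n Q₀) := by
  intro x y h
  have h1 := congrArg Subtype.val h
  rw [phiOm_coe, phiOm_coe] at h1
  exact Subtype.ext (phi_injective n Q₀ h1)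

variable (h2 : (2 : F) ≠ 0) (hQ₀ : (polarBilin Q₀).Nondegenerate)

/-- block permutations, in `Ω` -/
noncomputable def piOm : Equiv.Perm (Fin n) →* ↥(Cfsg.Omega F ⇑(TQ n Q₀)) :=
  (piHom n Q₀).codRestrict _ (piHom_mem_omega n Q₀ h2 hQ₀)

theorem piOm_coe (σ : Equiv.Perm (Fin n)) :
    ((piOm n Q₀ h2 hQ₀ σ : ↥(Cfsg.Omega F ⇑(TQ n Q₀))) :
      ↥(Cfsg.isometryGroup F ⇑(TQ n Q₀))) = piHom n Q₀ σ := rfl

theorem piOm_injective : Function.Injective (piOm n Q₀ h2 hQ₀) := by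
  intro x y h
  have h1 := congrArg Subtype.val h
  rw [piOm_coe, piOm_coe] at h1
  exact piHom_injective n Q₀ h1

theorem piOm_conj (σ : Equiv.Perm (Fin n)) (x : ↥(thetaHom n Q₀).ker) :
    ∃ y : ↥(thetaHom n Q₀).ker,
      piOm n Q₀ h2 hQ₀ σ * phiOm n Q₀ x * (piOm n Q₀ h2 hQ₀ σ)⁻¹ = phiOm n Q₀ y := by
  refine ⟨⟨(fun k => x.1.1 ((σ⁻¹ : Equiv.Perm (Fin n)) k), x.1.2), ?_⟩, ?_⟩
  · rw [MonoidHom.mem_ker, thetaHom_conj]
    exact x.2
  · apply Subtype.ext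
    rw [Subgroup.coe_mul, Subgroup.coe_mul, Subgroup.coe_inv, piOm_coe, phiOm_coe, phiOm_coe,
      piHom_conj]

end main

end Cfsg.Agent.Lib.Helper16.OmSyl
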