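import Cfsg.Agent.Lib.Helper16.OmSyl5

/-
helper16 library: `E2 (Ω(⟨1,1⟩^n ⊥ V₀))` — assembly.
-/

set_option autoImplicit false

namespace Cfsg.Agent.Lib.Helper16.OmSyl

open Matrix QuadraticMap Cfsg.Agent.Lib.Helper25.Spin Cfsg.Agent.Lib.Helper16.SylAb
  Cfsg.Agent.Lib.Helper16.GLRank Cfsg.Agent.Lib.Helper25.CD
open scoped commutatorElement Nat

variable {F : Type*} [Field F] [Fintype F] {κ₀ : Type} [Fintype κ₀] [DecidableEq κ₀] (n : ℕ)
  (Q₀ : QuadraticForm F (κ₀ → F))

theorem E2_omega_TQ (h2 : (2 : F) ≠ 0) (hQ₀ : (polarBilin Q₀).Nondegenerate) (hn : 1 ≤ n)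
    (hker : E2 ↥(thetaHom n Q₀).ker)
    (hcard : (Nat.card ↥(Cfsg.isometryGroup F ⇑(TQ n Q₀))).factorization 2 =
      n * (Nat.card (OD F)).factorization 2 +
        (Nat.card ↥(Cfsg.isometryGroup F ⇑Q₀)).factorization 2 + (n !).factorization 2) :
    E2 ↥(Cfsg.Omega F ⇑(TQ n Q₀)) := by
  classical
  have hT := TQ_nondeg n Q₀ h2 hQ₀
  set N := (phiOm n Q₀).range with hN
  set K := (piOm n Q₀ h2 hQ₀).range with hK
  have hKN : K ≤ Subgroup.normalizer (N : Set ↥(Cfsg.Omega F ⇑(TQ n Q₀))) := by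
    rintro _ ⟨σ, rfl⟩
    apply mem_normalizer_of_conj
    · rintro _ ⟨x, rfl⟩
      obtain ⟨y, hy⟩ := piOm_conj n Q₀ h2 hQ₀ σ x
      exact ⟨y, hy.symm⟩
    · rintro _ ⟨x, rfl⟩
      obtain ⟨y, hy⟩ := piOm_conj n Q₀ h2 hQ₀ σ⁻¹ x
      rw [map_inv, inv_inv] at hy
      exact ⟨y, hy.symm⟩
  have hdisj : N ⊓ K = ⊥ := by
    ext g
    rw [Subgroup.mem_inf, Subgroup.mem_bot]
    constructor
    · rintro ⟨⟨x, hx⟩, ⟨σ, hσ⟩⟩
      have h3 : phi n Q₀ x.1 = piHom n Q₀ σ := by
        have := congrArg Subtype.val (hx.trans hσ.symm)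
        rwa [phiOm_coe, piOm_coe] at this
      have h4 := phi_eq_piHom n Q₀ σ x.1 h3
      rw [← hσ, h4, map_one]
    · rintro rfl
      exact ⟨one_mem _, one_mem _⟩
  have cN : Nat.card N = Nat.card ↥(thetaHom n Q₀).ker :=
    (Nat.card_congr (MonoidHom.ofInjective (phiOm_injective n Q₀)).toEquiv).symm
  have cK : Nat.card K = n ! := by
    rw [← Nat.card_congr (MonoidHom.ofInjective (piOm_injective n Q₀ h2 hQ₀)).toEquiv,
      Nat.card_eq_fintype_card, Fintype.card_perm, Fintype.card_fin]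
  apply E2_of_semidirect' N K hKN hdisj
  · -- valuations
    have e4 : (4 : ℕ).factorization 2 = 2 := by
      have : (4 : ℕ) = 2 ^ 2 := by norm_num
      rw [this, Nat.factorization_pow, Finsupp.smul_apply,
        Nat.Prime.factorization_self Nat.prime_two, smul_eq_mul]
    have hcardι : 2 ≤ Fintype.card ((Fin 2 × Fin n) ⊕ κ₀) := by
      rw [Fintype.card_sum, Fintype.card_prod, Fintype.card_fin, Fintype.card_fin]
      omega
    have hidx := omega_index_four (TQ n Q₀) h2 hT hcardι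
    have h1 := Subgroup.card_mul_index (Cfsg.Omega F ⇑(TQ n Q₀))
    rw [hidx] at h1
    have h3 := Subgroup.card_mul_index (thetaHom n Q₀).ker
    rw [Subgroup.index_ker] at h3
    have h4 : Nat.card (thetaHom n Q₀).range ∣ 4 := by
      have h5 := Subgroup.card_subgroup_dvd_card (thetaHom n Q₀).range
      have h6 : Nat.card (Abelianization ↥(Cfsg.isometryGroup F ⇑(TQ n Q₀))) = 4 := by
        rw [← hidx, Subgroup.index_eq_card]
        rfl
      rwa [h6] at h5
    have h5 : (Nat.card (thetaHom n Q₀).range).factorization 2 ≤ 2 := by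
      have := (Nat.factorization_le_iff_dvd Nat.card_pos.ne' (by norm_num)).mpr h4 2
      rwa [e4] at this
    have h6 := card_sup_of_normalizer N K hKN hdisj
    have h7 := Subgroup.card_subgroup_dvd_card (K ⊔ N)
    rw [h6] at h7
    have h8 := (Nat.factorization_le_iff_dvd
      (Nat.mul_ne_zero Nat.card_pos.ne' Nat.card_pos.ne') Nat.card_pos.ne').mpr h7 2
    rw [Nat.factorization_mul Nat.card_pos.ne' Nat.card_pos.ne', Finsupp.add_apply] at h8
    have h9 := congrArg (fun m : ℕ => m.factorization 2) h1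
    beta_reduce at h9
    rw [Nat.factorization_mul Nat.card_pos.ne' (by norm_num), Finsupp.add_apply] at h9
    rw [e4] at h9
    have h10 := congrArg (fun m : ℕ => m.factorization 2) h3
    beta_reduce at h10
    rw [Nat.factorization_mul Nat.card_pos.ne' Nat.card_pos.ne', Finsupp.add_apply,
      factorization_card_prod] at h10
    rw [cN, cK] at h8 ⊢
    omega
  · exact E2_of_mulEquiv (MonoidHom.ofInjective (phiOm_injective n Q₀)) hker
  · exact E2_of_mulEquiv (MonoidHom.ofInjective (piOm_injective n Q₀ h2 hQ₀)) (E2_perm n)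

/-- the case of at least three blocks -/
theorem E2_omega_TQ_three (h2 : (2 : F) ≠ 0) (hQ₀ : (polarBilin Q₀).Nondegenerate) (hn : 3 ≤ n)
    (hD : E2 (OD F)) (hE : X2 ↥(Cfsg.isometryGroup F ⇑Q₀))
    (hcard : (Nat.card ↥(Cfsg.isometryGroup F ⇑(TQ n Q₀))).factorization 2 =
      n * (Nat.card (OD F)).factorization 2 +
        (Nat.card ↥(Cfsg.isometryGroup F ⇑Q₀)).factorization 2 + (n !).factorization 2) :
    E2 ↥(Cfsg.Omega F ⇑(TQ n Q₀)) :=
  E2_omega_TQ n Q₀ h2 hQ₀ (by omega)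
    (E2_ker_of_three hn (thetaHom n Q₀) (thetaHom_symm n Q₀) hD hE) hcard

end Cfsg.Agent.Lib.Helper16.OmSyl
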