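import Cfsg.Agent.Lib.Helper16.OmSyl6
import Cfsg.Agent.Lib.Helper25.DiscType
import Cfsg.Agent.Lib.Helper25.InvTrans1

/-
helper16 library: transport of isometry groups and of `E2 Ω` along forms with the same
discriminant.
-/

set_option autoImplicit false

namespace Cfsg.Agent.Lib.Helper16.OmSyl

open Module Matrix QuadraticMap Cfsg.Agent.Lib.Helper25.Spin Cfsg.Agent.Lib.Helper16.SylAb
  Cfsg.Agent.Lib.Helper25.InvTrans
open scoped commutatorElement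

section disc

variable {F : Type*} [Field F] {ι₁ ι₂ : Type} [Fintype ι₁] [DecidableEq ι₁] [Fintype ι₂]
  [DecidableEq ι₂]

/-- the Gram determinant -/
noncomputable def disc (Q : QuadraticForm F (ι₁ → F)) : F :=
  (Matrix.of (fun i j : ι₁ => polar ⇑Q (Pi.single i 1) (Pi.single j 1))).det

theorem exists_change_of_disc [Finite F] (h2 : (2 : F) ≠ 0) (Q₁ : QuadraticForm F (ι₁ → F))
    (Q₂ : QuadraticForm F (ι₂ → F)) (hc : Fintype.card ι₁ = Fintype.card ι₂)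
    (h₁ : (polarBilin Q₁).Nondegenerate) (h₂ : (polarBilin Q₂).Nondegenerate)
    (hsq : IsSquare (disc Q₁ * disc Q₂)) :
    ∃ (P : Matrix ι₂ ι₁ F) (P' : Matrix ι₁ ι₂ F), P * P' = 1 ∧ P' * P = 1 ∧
      ∀ w, Q₂ (P *ᵥ w) = Q₁ w := by
  classical
  obtain ⟨n, hn⟩ : ∃ n, Fintype.card ι₁ = n := ⟨_, rfl⟩
  have hc₁ : Fintype.card ι₁ = Fintype.card (Fin n) := by rw [hn, Fintype.card_fin]
  have hc₂ : Fintype.card ι₂ = Fintype.card (Fin n) := by rw [← hc, hn, Fintype.card_fin]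
  obtain ⟨b₁, hb₁⟩ : ∃ b₁ : Basis (Fin n) F (ι₁ → F),
      b₁ = (Pi.basisFun F ι₁).reindex (Fintype.equivOfCardEq hc₁) := ⟨_, rfl⟩
  obtain ⟨b₂, hb₂⟩ : ∃ b₂ : Basis (Fin n) F (ι₂ → F),
      b₂ = (Pi.basisFun F ι₂).reindex (Fintype.equivOfCardEq hc₂) := ⟨_, rfl⟩
  have hS₁ : LinearMap.BilinForm.IsSymm (polarBilin Q₁) := by
    constructor
    intro x y
    rw [polarBilin_apply_apply, polarBilin_apply_apply, polar_comm]
  have hS₂ : LinearMap.BilinForm.IsSymm (polarBilin Q₂) := by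
    constructor
    intro x y
    rw [polarBilin_apply_apply, polarBilin_apply_apply, polar_comm]
  have hd₁ : (LinearMap.BilinForm.toMatrix b₁ (polarBilin Q₁)).det = disc Q₁ := by
    rw [hb₁, Cfsg.Agent.Lib.Helper25.DiscType.toMatrix_reindex, Matrix.det_submatrix_equiv_self,
      LinearMap.BilinForm.toMatrix_basisFun]
    unfold disc
    congr 1
  have hd₂ : (LinearMap.BilinForm.toMatrix b₂ (polarBilin Q₂)).det = disc Q₂ := by
    rw [hb₂, Cfsg.Agent.Lib.Helper25.DiscType.toMatrix_reindex, Matrix.det_submatrix_equiv_self,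
      LinearMap.BilinForm.toMatrix_basisFun]
    unfold disc
    congr 1
  obtain ⟨g, hg⟩ := Cfsg.Agent.Lib.Helper25.DiscType.exists_isometry_of_disc h2 b₁ b₂ (polarBilin Q₁)
    (polarBilin Q₂) hS₁ hS₂ h₁ h₂ (by rw [hd₁, hd₂]; exact hsq)
  refine ⟨LinearMap.toMatrix' (g : (ι₁ → F) →ₗ[F] (ι₂ → F)),
    LinearMap.toMatrix' (g.symm : (ι₂ → F) →ₗ[F] (ι₁ → F)), ?_, ?_, ?_⟩
  · rw [← LinearMap.toMatrix'_comp]
    have : (g : (ι₁ → F) →ₗ[F] (ι₂ → F)) ∘ₗ (g.symm : (ι₂ → F) →ₗ[F] (ι₁ → F)) =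
        LinearMap.id := LinearMap.ext fun x => g.apply_symm_apply x
    rw [this, LinearMap.toMatrix'_id]
  · rw [← LinearMap.toMatrix'_comp]
    have : (g.symm : (ι₂ → F) →ₗ[F] (ι₁ → F)) ∘ₗ (g : (ι₁ → F) →ₗ[F] (ι₂ → F)) =
        LinearMap.id := LinearMap.ext fun x => g.symm_apply_apply x
    rw [this, LinearMap.toMatrix'_id]
  · intro w
    rw [LinearMap.toMatrix'_mulVec]
    have h3 := hg w w
    rw [polarBilin_apply_apply, polarBilin_apply_apply] at h3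
    have h4 : polar ⇑Q₂ (g w) (g w) = 2 * Q₂ (g w) := by
      rw [QuadraticMap.polar_self]
      simp
    have h5 : polar ⇑Q₁ w w = 2 * Q₁ w := by
      rw [QuadraticMap.polar_self]
      simp
    rw [h4, h5] at h3
    exact mul_left_cancel₀ h2 h3

end disc

section equiv

variable {F : Type*} [Field F] {ι₁ ι₂ : Type} [Fintype ι₁] [DecidableEq ι₁] [Fintype ι₂]
  [DecidableEq ι₂]

/-- a change of coordinates induces an isomorphism of isometry groups -/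
def isoEquiv (Q₁ : (ι₁ → F) → F) (Q₂ : (ι₂ → F) → F) (P : Matrix ι₂ ι₁ F)
    (P' : Matrix ι₁ ι₂ F) (h1 : P * P' = 1) (h2 : P' * P = 1)
    (hQ : ∀ w, Q₂ (P *ᵥ w) = Q₁ w) :
    ↥(Cfsg.isometryGroup F Q₁) ≃* ↥(Cfsg.isometryGroup F Q₂) where
  toFun g := ⟨glCongr P P' h1 h2 g.1, by
    intro u _
    show Q₂ (((glCongr P P' h1 h2 g.1 : GL ι₂ F) : Matrix ι₂ ι₂ F) *ᵥ u) = Q₂ u
    have hg : ∀ v, Q₁ (((g.1 : GL ι₁ F) : Matrix ι₁ ι₁ F) *ᵥ v) = Q₁ v := fun v => g.2 v v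
    rw [glCongr_coe, ← Matrix.mulVec_mulVec, ← Matrix.mulVec_mulVec, hQ, hg, ← hQ,
      mulVec_cancel' P P' h1 h2]⟩
  invFun g := ⟨(glCongr P P' h1 h2).symm g.1, by
    intro u _
    show Q₁ ((((glCongr P P' h1 h2).symm g.1 : GL ι₁ F) : Matrix ι₁ ι₁ F) *ᵥ u) = Q₁ u
    have hg : ∀ v, Q₂ (((g.1 : GL ι₂ F) : Matrix ι₂ ι₂ F) *ᵥ v) = Q₂ v := fun v => g.2 v v
    rw [glCongr_symm_coe, ← Matrix.mulVec_mulVec, ← Matrix.mulVec_mulVec, ← hQ,
      mulVec_cancel' P P' h1 h2, hg, hQ]⟩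
  left_inv g := Subtype.ext ((glCongr P P' h1 h2).symm_apply_apply g.1)
  right_inv g := Subtype.ext ((glCongr P P' h1 h2).apply_symm_apply g.1)
  map_mul' g h := Subtype.ext (map_mul (glCongr P P' h1 h2) g.1 h.1)

end equiv

section transfer

variable {G H : Type*} [Group G] [Group H]

/-- the commutator subgroups of isomorphic groups -/
noncomputable def commutatorEquiv (e : G ≃* H) : ↥(commutator G) ≃* ↥(commutator H) :=
  (e.subgroupMap (commutator G)).trans (MulEquiv.subgroupCongr (by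
    rw [commutator_def, Subgroup.map_commutator, commutator_def]
    congr 1 <;> exact Subgroup.map_top_of_surjective _ e.surjective))

end transfer

section main

variable {F : Type*} [Field F] [Fintype F] {ι₁ ι₂ : Type} [Fintype ι₁] [DecidableEq ι₁]
  [Fintype ι₂] [DecidableEq ι₂]

theorem nonempty_isoEquiv (h2 : (2 : F) ≠ 0) (Q₁ : QuadraticForm F (ι₁ → F))
    (Q₂ : QuadraticForm F (ι₂ → F)) (hc : Fintype.card ι₁ = Fintype.card ι₂)
    (h₁ : (polarBilin Q₁).Nondegenerate) (h₂ : (polarBilin Q₂).Nondegenerate)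
    (hsq : IsSquare (disc Q₁ * disc Q₂)) :
    Nonempty (↥(Cfsg.isometryGroup F ⇑Q₁) ≃* ↥(Cfsg.isometryGroup F ⇑Q₂)) := by
  obtain ⟨P, P', h3, h4, h5⟩ := exists_change_of_disc h2 Q₁ Q₂ hc h₁ h₂ hsq
  exact ⟨isoEquiv _ _ P P' h3 h4 h5⟩

theorem E2_omega_of_equiv {Q₁ : (ι₁ → F) → F} {Q₂ : (ι₂ → F) → F}
    (e : ↥(Cfsg.isometryGroup F Q₁) ≃* ↥(Cfsg.isometryGroup F Q₂))
    (h : E2 ↥(Cfsg.Omega F Q₁)) : E2 ↥(Cfsg.Omega F Q₂) :=
  E2_of_mulEquiv (commutatorEquiv e) h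

end main

end Cfsg.Agent.Lib.Helper16.OmSyl
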