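import Cfsg.Agent.Lib.Helper16.OmSyl7
import Cfsg.Agent.Lib.Helper25.SpinMinus

/-
helper16 library: Gram determinants of orthogonal sums, sums of squares and the standard forms.
-/

set_option autoImplicit false

namespace Cfsg.Agent.Lib.Helper16.OmSyl

open Module Matrix QuadraticMap Cfsg.Agent.Lib.Helper25.Spin Cfsg.Agent.Lib.Helper14
  Cfsg.Agent.Lib.Helper14.OrthMinus

section sums

variable {F : Type*} [Field F] {a b : Type} [Fintype a] [DecidableEq a] [Fintype b]
  [DecidableEq b]

theorem single_inl_comp_inl (i : a) :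
    (Pi.single (Sum.inl i) (1 : F) : a ⊕ b → F) ∘ Sum.inl = Pi.single i 1 := by
  funext j
  simp [Pi.single_apply]

theorem single_inl_comp_inr (i : a) :
    (Pi.single (Sum.inl i) (1 : F) : a ⊕ b → F) ∘ Sum.inr = 0 := by
  funext j
  simp [Pi.single_apply]

theorem single_inr_comp_inl (i : b) :
    (Pi.single (Sum.inr i) (1 : F) : a ⊕ b → F) ∘ Sum.inl = 0 := by
  funext j
  simp [Pi.single_apply]

theorem single_inr_comp_inr (i : b) :
    (Pi.single (Sum.inr i) (1 : F) : a ⊕ b → F) ∘ Sum.inr = Pi.single i 1 := by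
  funext j
  simp [Pi.single_apply]

theorem disc_sumQ (Q₁ : QuadraticForm F (a → F)) (Q₂ : QuadraticForm F (b → F)) :
    disc (sumQ Q₁ Q₂) = disc Q₁ * disc Q₂ := by
  unfold disc
  have e : (Matrix.of fun i j : a ⊕ b => polar ⇑(sumQ Q₁ Q₂) (Pi.single i 1) (Pi.single j 1)) =
      Matrix.fromBlocks
        (Matrix.of fun i j : a => polar ⇑Q₁ (Pi.single i 1) (Pi.single j 1)) 0 0
        (Matrix.of fun i j : b => polar ⇑Q₂ (Pi.single i 1) (Pi.single j 1)) := by
    ext (i | i) (j | j)
    · rw [Matrix.of_apply, polar_sumQ, single_inl_comp_inl, single_inl_comp_inl,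
        single_inl_comp_inr, polar_zero_left, add_zero]
      rfl
    · rw [Matrix.of_apply, polar_sumQ, single_inl_comp_inl, single_inr_comp_inl,
        single_inl_comp_inr, polar_zero_left, polar_zero_right, add_zero]
      rfl
    · rw [Matrix.of_apply, polar_sumQ, single_inr_comp_inl, single_inl_comp_inl,
        single_inl_comp_inr, polar_zero_left, polar_zero_right, add_zero]
      rfl
    · rw [Matrix.of_apply, polar_sumQ, single_inr_comp_inl, single_inr_comp_inr,
        single_inr_comp_inr, polar_zero_left, zero_add]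
      rfl
  rw [e, Matrix.det_fromBlocks_zero₂₁]

theorem disc_dotQF (κ : Type) [Fintype κ] [DecidableEq κ] :
    disc (dotQF F κ) = 2 ^ Fintype.card κ := by
  unfold disc
  have e : (Matrix.of fun i j : κ => polar ⇑(dotQF F κ) (Pi.single i 1) (Pi.single j 1)) =
      (2 : F) • (1 : Matrix κ κ F) := by
    ext i j
    rw [Matrix.of_apply, polar_dotQF, Matrix.smul_apply, Matrix.one_apply, smul_eq_mul]
    congr 1
    simp [Pi.single_apply, eq_comm]
  rw [e, Matrix.det_smul, Matrix.det_one, mul_one]

end sums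

section smul

variable {F : Type*} [Field F] {ι : Type} [Fintype ι] [DecidableEq ι]

theorem smul_nondeg (Q : QuadraticForm F (ι → F)) (hQ : (polarBilin Q).Nondegenerate) {c : F}
    (hc : c ≠ 0) : (polarBilin (c • Q)).Nondegenerate := by
  have hp : ∀ x y, polar ⇑(c • Q) x y = c * polar ⇑Q x y := by
    intro x y
    unfold polar
    simp only [QuadraticMap.smul_apply, smul_eq_mul]
    ring
  constructor
  · intro x hx
    apply hQ.1
    intro y
    have := hx y
    rw [polarBilin_apply_apply, hp] at this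
    rw [polarBilin_apply_apply]
    exact (mul_eq_zero.mp this).resolve_left hc
  · intro x hx
    apply hQ.2
    intro y
    have := hx y
    rw [polarBilin_apply_apply, hp] at this
    rw [polarBilin_apply_apply]
    exact (mul_eq_zero.mp this).resolve_left hc

theorem disc_smul (Q : QuadraticForm F (ι → F)) (c : F) :
    disc (c • Q) = c ^ Fintype.card ι * disc Q := by
  unfold disc
  have e : (Matrix.of fun i j : ι => polar ⇑(c • Q) (Pi.single i 1) (Pi.single j 1)) =
      c • (Matrix.of fun i j : ι => polar ⇑Q (Pi.single i 1) (Pi.single j 1)) := by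
    ext i j
    rw [Matrix.smul_apply, Matrix.of_apply, Matrix.of_apply]
    unfold polar
    simp only [QuadraticMap.smul_apply, smul_eq_mul]
    ring
  rw [e, Matrix.det_smul]

theorem isometryGroup_smul (Q : QuadraticForm F (ι → F)) {c : F} (hc : c ≠ 0) :
    Cfsg.isometryGroup F ⇑(c • Q) = Cfsg.isometryGroup F ⇑Q := by
  ext g
  constructor
  · intro h u v
    have : (c • Q) (((g : GL ι F) : Matrix ι ι F) *ᵥ u) = (c • Q) u := h u u
    simp only [QuadraticMap.smul_apply, smul_eq_mul] at this
    exact mul_left_cancel₀ hc this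
  · intro h u v
    have : Q (((g : GL ι F) : Matrix ι ι F) *ᵥ u) = Q u := h u u
    show (c • Q) (((g : GL ι F) : Matrix ι ι F) *ᵥ u) = (c • Q) u
    simp only [QuadraticMap.smul_apply, smul_eq_mul]
    rw [this]

end smul

section std

variable {F : Type*} [Field F]

theorem disc_plus (m : ℕ) : disc (qfOf (isQF_plus (F := F) (m := m))) = (-1) ^ m := by
  unfold disc
  have hq := isQF_plus (F := F) (m := m)
  have hh := plus_std_hypQ (F := F) (m := m)
  have e : (Matrix.of fun i j : Fin m ⊕ Fin m =>
      polar ⇑(qfOf (isQF_plus (F := F) (m := m))) (Pi.single i 1) (Pi.single j 1)) =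
      Matrix.fromBlocks (0 : Matrix (Fin m) (Fin m) F) 1 1 0 := by
    ext i j
    rw [Matrix.of_apply, polar_qfOf]
    rcases i with i | i <;> rcases j with j | j
    · simp only [Matrix.fromBlocks_apply₁₁, Matrix.zero_apply]
      exact hh.ee i j
    · simp only [Matrix.fromBlocks_apply₁₂, Matrix.one_apply]
      exact hh.ef i j
    · simp only [Matrix.fromBlocks_apply₂₁, Matrix.one_apply]
      exact hh.fe hq i j
    · simp only [Matrix.fromBlocks_apply₂₂, Matrix.zero_apply]
      exact hh.ff i j
  rw [e, det_swapBlocks]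

theorem disc_odd (h2 : (2 : F) ≠ 0) (m : ℕ) :
    disc (qfOf (isQF_odd (F := F) (m := m) h2)) = 2 * (-1) ^ m := by
  unfold disc
  have hq := isQF_odd (F := F) (m := m) h2
  have hh := odd_std_hypQ (F := F) (m := m)
  have hp := odd_std_perp (F := F) (m := m)
  have e : (Matrix.of fun i j : Unit ⊕ (Fin m ⊕ Fin m) =>
      polar ⇑(qfOf (isQF_odd (F := F) (m := m) h2)) (Pi.single i 1) (Pi.single j 1)) =
      Matrix.fromBlocks (Matrix.of fun _ _ : Unit => (2 : F)) 0 0
        (Matrix.fromBlocks (0 : Matrix (Fin m) (Fin m) F) 1 1 0) := by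
    ext i j
    rw [Matrix.of_apply, polar_qfOf]
    rcases i with i | i | i <;> rcases j with j | j | j
    · simp only [Matrix.fromBlocks_apply₁₁, Matrix.of_apply]
      rw [hq.b_self, odd_std_q, mul_one]
    · simp only [Matrix.fromBlocks_apply₁₂, Matrix.zero_apply]
      exact (hp j).1
    · simp only [Matrix.fromBlocks_apply₁₂, Matrix.zero_apply]
      exact (hp j).2
    · simp only [Matrix.fromBlocks_apply₂₁, Matrix.zero_apply]
      rw [hq.b_symm]
      exact (hp i).1
    · simp only [Matrix.fromBlocks_apply₂₂, Matrix.fromBlocks_apply₁₁, Matrix.zero_apply]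
      exact hh.ee i j
    · simp only [Matrix.fromBlocks_apply₂₂, Matrix.fromBlocks_apply₁₂, Matrix.one_apply]
      exact hh.ef i j
    · simp only [Matrix.fromBlocks_apply₂₁, Matrix.zero_apply]
      rw [hq.b_symm]
      exact (hp i).2
    · simp only [Matrix.fromBlocks_apply₂₂, Matrix.fromBlocks_apply₂₁, Matrix.one_apply]
      exact hh.fe hq i j
    · simp only [Matrix.fromBlocks_apply₂₂, Matrix.zero_apply]
      exact hh.ff i j
  rw [e, Matrix.det_fromBlocks_zero₂₁, det_swapBlocks]
  simp

theorem disc_minus (k : ℕ) {a b : F} (hD : a ^ 2 - 4 * b ≠ 0) :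
    disc (qfOf (isQF_minus (n := k) hD)) = (-1) ^ (k + 1) * (a ^ 2 - 4 * b) :=
  det_gram_minus hD

end std

end Cfsg.Agent.Lib.Helper16.OmSyl
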