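import Cfsg.Agent.Lib.Helper16.OmSyl8
import Cfsg.Agent.Lib.Helper14.GOPlus2
import Cfsg.Agent.Lib.Helper14.GOMinus2

/-
helper16 library: the small isometry groups occurring as factors: `O(⟨1,1⟩)`, `O(H)`, `O(N)`,
`O(⟨d⟩)` and the trivial group.
-/

set_option autoImplicit false

namespace Cfsg.Agent.Lib.Helper16.OmSyl

open Module Matrix QuadraticMap Cfsg.Agent.Lib.Helper25.Spin Cfsg.Agent.Lib.Helper14
  Cfsg.Agent.Lib.Helper14.OrthMinus Cfsg.Agent.Lib.Helper16.SylAb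
  Cfsg.Agent.Lib.Helper14.QuadExt

variable {F : Type*} [Field F] [Fintype F]

theorem two_ne_zero_of_odd_card' (hF : Odd (Fintype.card F)) : (2 : F) ≠ 0 :=
  Cfsg.Agent.Lib.Helper25.Spin.two_ne_zero_of_odd_card hF

theorem isSquare_neg_one_of_mod (h : Fintype.card F % 4 = 1) : IsSquare (-1 : F) := by
  rw [FiniteField.isSquare_neg_one_iff]
  omega

theorem not_isSquare_neg_one_of_mod (h : Fintype.card F % 4 = 3) : ¬ IsSquare (-1 : F) := by
  rw [FiniteField.isSquare_neg_one_iff]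
  omega

theorem aniso_zero_one (h : Fintype.card F % 4 = 3) : Aniso (0 : F) 1 := by
  intro z₁ z₂ hz
  have hns := not_isSquare_neg_one_of_mod h
  have h0 : z₂ = 0 := by
    by_contra hne
    apply hns
    refine ⟨z₁ / z₂, ?_⟩
    field_simp
    linear_combination -hz
  subst h0
  refine ⟨?_, rfl⟩
  have : z₁ ^ 2 = 0 := by linear_combination hz
  exact pow_eq_zero_iff (two_ne_zero) |>.mp this

section plusone

theorem plus_one_equiv {q : ℕ} (hF : Fintype.card F = q) :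
    Nonempty (↥(Cfsg.isometryGroup F ⇑(qfOf (isQF_plus (F := F) (m := 1)))) ≃*
      DihedralGroup (q - 1)) :=
  GOPlus2.main hF

theorem card_plus_one {q : ℕ} (hF : Fintype.card F = q) (hq : 1 < q) :
    Nat.card ↥(Cfsg.isometryGroup F ⇑(qfOf (isQF_plus (F := F) (m := 1)))) = 2 * (q - 1) := by
  obtain ⟨e⟩ := plus_one_equiv hF
  haveI : NeZero (q - 1) := ⟨by omega⟩
  rw [Nat.card_congr e.toEquiv, DihedralGroup.nat_card]

theorem X2_plus_one {q : ℕ} (hF : Fintype.card F = q) (h3 : q % 4 = 3) :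
    X2 ↥(Cfsg.isometryGroup F ⇑(qfOf (isQF_plus (F := F) (m := 1)))) := by
  obtain ⟨e⟩ := plus_one_equiv hF
  haveI : NeZero (q - 1) := ⟨by omega⟩
  exact X2_of_mulEquiv e.symm (X2_dihedral (q - 1) (by omega))

end plusone

section minuszero

variable {a b : F}

theorem minus_zero_equiv {q : ℕ} (hF : Fintype.card F = q) (hab : Aniso a b)
    (hD : a ^ 2 - 4 * b ≠ 0) :
    Nonempty (↥(Cfsg.isometryGroup F ⇑(qfOf (isQF_minus (n := 0) hD))) ≃*
      DihedralGroup (q + 1)) :=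
  GOMinus2.main a b hF hab

theorem card_minus_zero {q : ℕ} (hF : Fintype.card F = q) (hab : Aniso a b)
    (hD : a ^ 2 - 4 * b ≠ 0) :
    Nat.card ↥(Cfsg.isometryGroup F ⇑(qfOf (isQF_minus (n := 0) hD))) = 2 * (q + 1) := by
  obtain ⟨e⟩ := minus_zero_equiv hF hab hD
  rw [Nat.card_congr e.toEquiv, DihedralGroup.nat_card]

theorem X2_minus_zero {q : ℕ} (hF : Fintype.card F = q) (h1 : q % 4 = 1) (hab : Aniso a b)
    (hD : a ^ 2 - 4 * b ≠ 0) :
    X2 ↥(Cfsg.isometryGroup F ⇑(qfOf (isQF_minus (n := 0) hD))) := by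
  obtain ⟨e⟩ := minus_zero_equiv hF hab hD
  exact X2_of_mulEquiv e.symm (X2_dihedral (q + 1) (by omega))

end minuszero

section binary

/-- `O(⟨1,1⟩)` is dihedral of order `2(q-1)` if `q ≡ 1 (mod 4)` -/
theorem OD_equiv_one {q : ℕ} (hF : Fintype.card F = q) (h1 : q % 4 = 1) :
    Nonempty (OD F ≃* DihedralGroup (q - 1)) := by
  have hodd : Odd (Fintype.card F) := by rw [hF, Nat.odd_iff]; omega
  have h2 := two_ne_zero_of_odd_card' hodd
  obtain ⟨e₁⟩ := nonempty_isoEquiv h2 (dotQF F (Fin 2)) (qfOf (isQF_plus (F := F) (m := 1)))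
    (by simp) (dotQF_nondeg h2) (qfOf_nondeg _) (by
      rw [disc_dotQF, disc_plus]
      obtain ⟨s, hs⟩ := isSquare_neg_one_of_mod (F := F) (by rw [hF]; exact h1)
      refine ⟨2 * s, ?_⟩
      simp only [Fintype.card_fin, pow_one]
      linear_combination (4 : F) * hs)
  obtain ⟨e₂⟩ := plus_one_equiv hF
  exact ⟨e₁.trans e₂⟩

/-- `O(⟨1,1⟩)` is dihedral of order `2(q+1)` if `q ≡ 3 (mod 4)` -/
theorem OD_equiv_three {q : ℕ} (hF : Fintype.card F = q) (h3 : q % 4 = 3) :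
    Nonempty (OD F ≃* DihedralGroup (q + 1)) := by
  have hodd : Odd (Fintype.card F) := by rw [hF, Nat.odd_iff]; omega
  have h2 := two_ne_zero_of_odd_card' hodd
  have hab : Aniso (0 : F) 1 := aniso_zero_one (by rw [hF]; exact h3)
  have hD : (0 : F) ^ 2 - 4 * 1 ≠ 0 := by
    intro h
    have h4 : (2 : F) * 2 = 0 := by linear_combination -h
    rcases mul_eq_zero.mp h4 with h5 | h5 <;> exact h2 h5
  obtain ⟨e₁⟩ := nonempty_isoEquiv h2 (dotQF F (Fin 2)) (qfOf (isQF_minus (n := 0) hD))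
    (by simp) (dotQF_nondeg h2) (qfOf_nondeg _) (by
      rw [disc_dotQF, disc_minus 0 hD]
      refine ⟨4, ?_⟩
      simp only [Fintype.card_fin]
      ring)
  obtain ⟨e₂⟩ := minus_zero_equiv hF hab hD
  exact ⟨e₁.trans e₂⟩

theorem E2_OD (hodd : Odd (Fintype.card F)) : E2 (OD F) := by
  obtain ⟨q, hF⟩ : ∃ q, Fintype.card F = q := ⟨_, rfl⟩
  have hq1 : 1 < q := by rw [← hF]; exact Fintype.one_lt_card
  rw [hF, Nat.odd_iff] at hodd
  have hcases : q % 4 = 1 ∨ q % 4 = 3 := by omega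
  rcases hcases with h | h
  · obtain ⟨e⟩ := OD_equiv_one hF h
    haveI : NeZero (q - 1) := ⟨by omega⟩
    exact E2_of_mulEquiv e.symm (E2_dihedral (q - 1))
  · obtain ⟨e⟩ := OD_equiv_three hF h
    exact E2_of_mulEquiv e.symm (E2_dihedral (q + 1))

theorem card_OD_one {q : ℕ} (hF : Fintype.card F = q) (h1 : q % 4 = 1) :
    Nat.card (OD F) = 2 * (q - 1) := by
  obtain ⟨e⟩ := OD_equiv_one hF h1
  have hq1 : 1 < q := by rw [← hF]; exact Fintype.one_lt_card
  haveI : NeZero (q - 1) := ⟨by omega⟩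
  rw [Nat.card_congr e.toEquiv, DihedralGroup.nat_card]

theorem card_OD_three {q : ℕ} (hF : Fintype.card F = q) (h3 : q % 4 = 3) :
    Nat.card (OD F) = 2 * (q + 1) := by
  obtain ⟨e⟩ := OD_equiv_three hF h3
  rw [Nat.card_congr e.toEquiv, DihedralGroup.nat_card]

end binary

section trivial

theorem card_plus_zero :
    Nat.card ↥(Cfsg.isometryGroup F ⇑(qfOf (isQF_plus (F := F) (m := 0)))) = 1 := by
  haveI : Subsingleton (GL (Fin 0 ⊕ Fin 0) F) := by
    constructor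
    intro x y
    apply Units.ext
    exact Subsingleton.elim _ _
  exact Nat.card_unique

theorem X2_plus_zero : X2 ↥(Cfsg.isometryGroup F ⇑(qfOf (isQF_plus (F := F) (m := 0)))) := by
  haveI : Subsingleton (GL (Fin 0 ⊕ Fin 0) F) := by
    constructor
    intro x y
    apply Units.ext
    exact Subsingleton.elim _ _
  exact X2_of_subsingleton _

end trivial

section line

theorem card_line (h2 : (2 : F) ≠ 0) {d : F} (hd : d ≠ 0) :
    Nat.card ↥(Cfsg.isometryGroup F ⇑(d • qfOf (isQF_odd (F := F) (m := 0) h2))) = 2 := by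
  rw [isometryGroup_smul _ hd]
  show Nat.card ↥(Cfsg.isometryGroup F (Cfsg.quadFormOdd 0 F)) = 2
  have := card_isometry_odd (F := F) h2 0
  simpa using this

theorem X2_line (h2 : (2 : F) ≠ 0) {d : F} (hd : d ≠ 0) :
    X2 ↥(Cfsg.isometryGroup F ⇑(d • qfOf (isQF_odd (F := F) (m := 0) h2))) :=
  X2_of_card_two _ (card_line h2 hd)

end line

end Cfsg.Agent.Lib.Helper16.OmSyl
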