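import Mathlib

/-!
# Groups of order 320 with `O₂(G) = F(G)` extraspecial of type `Q₈ ∗ D₈` (helper16)

Abstract counting lemmas in the quotient by the centre of `O₂(G)`, and the quadratic-action argument
bounding the centralizer of an outer involution.
-/

set_option autoImplicit false

namespace Cfsg.Agent.Lib.Helper16.Order320

open Subgroup

/-- a group of order 10 has a normal subgroup of index 2 all of whose elements have `x ^ 5 = 1`. -/
theorem exists_normal_index_two_of_card_ten {Q : Type*} [Group Q] [Finite Q] (hQ : Nat.card Q = 10) :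
    ∃ N : Subgroup Q, N.Normal ∧ N.index = 2 ∧ ∀ x ∈ N, x ^ 5 = 1 := by
  have : Fact (Nat.Prime 5) := ⟨by norm_num⟩
  obtain ⟨P⟩ : Nonempty (Sylow 5 Q) := inferInstance
  have hmul : Nat.card (P : Subgroup Q) * (P : Subgroup Q).index = 10 := by
    rw [Subgroup.card_mul_index, hQ]
  obtain ⟨k, hk⟩ := (IsPGroup.iff_card.mp P.isPGroup')
  have h5 : 5 ∣ Nat.card (P : Subgroup Q) :=
    P.dvd_card_of_dvd_card (show 5 ∣ Nat.card Q by rw [hQ]; norm_num)
  have hcard : Nat.card (P : Subgroup Q) = 5 := by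
    have hd : Nat.card (P : Subgroup Q) ∣ 10 := Dvd.intro _ hmul
    have hle : Nat.card (P : Subgroup Q) ≤ 10 := Nat.le_of_dvd (by norm_num) hd
    rw [hk] at h5 hle ⊢
    rcases k with _ | _ | k
    · norm_num at h5
    · norm_num
    · exfalso
      have : 5 ^ 2 ≤ 5 ^ (k + 1 + 1) := Nat.pow_le_pow_right (by norm_num) (by omega)
      omega
  have hidx : (P : Subgroup Q).index = 2 := by
    rw [hcard] at hmul; omega
  have hsyl : Nat.card (Sylow 5 Q) = 1 := by
    have h1 := card_sylow_modEq_one 5 Q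
    have h2 := Sylow.card_dvd_index P
    rw [hidx] at h2
    have h3 : Nat.card (Sylow 5 Q) ≤ 2 := Nat.le_of_dvd (by norm_num) h2
    have h4 : Nat.card (Sylow 5 Q) ≠ 0 := by
      intro h; rw [h] at h2; simp at h2
    unfold Nat.ModEq at h1
    generalize Nat.card (Sylow 5 Q) = n at *
    interval_cases n
    · exact absurd rfl h4
    · rfl
    · norm_num at h1
  have hsub : Subsingleton (Sylow 5 Q) := (Nat.card_eq_one_iff_unique.mp hsyl).1
  refine ⟨P, Sylow.normal_of_subsingleton P, hidx, ?_⟩
  intro x hx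
  have := pow_card_eq_one' (G := (P : Subgroup Q)) (x := ⟨x, hx⟩)
  rw [hcard] at this
  exact congrArg Subtype.val this

/-- an element of order 5 not centralizing a normal subgroup `A` of order 16 (in the sense that the
centralizers of `A` consist of involutions) has no nontrivial fixed point on `A`. -/
theorem fix_eq_bot_of_order_five {K : Type*} [Group K] [Finite K] (A : Subgroup K) [hAn : A.Normal]
    (hA : Nat.card A = 16)
    (hcent : ∀ x : K, (∀ a ∈ A, x * a = a * x) → x ^ 2 = 1)
    (g : K) (hg5 : g ^ 5 = 1) (hg1 : g ≠ 1) :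
    A ⊓ centralizer ({g} : Set K) = ⊥ := by
  have : Fact (Nat.Prime 5) := ⟨by norm_num⟩
  have hord : orderOf g = 5 := orderOf_eq_prime hg5 hg1
  set P : Subgroup K := zpowers g with hP
  have hPp : IsPGroup 5 P := by
    apply IsPGroup.of_card (n := 1)
    rw [pow_one, hP, Nat.card_zpowers, hord]
  let _ : MulAction P A :=
    { smul := fun p a => ⟨(p : K) * a * (p : K)⁻¹, hAn.conj_mem _ a.2 _⟩
      one_smul := fun a => Subtype.ext (by show (1 : K) * a * (1 : K)⁻¹ = a; simp)
      mul_smul := fun p q a => Subtype.ext (by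
        show ((p : K) * (q : K)) * a * ((p : K) * (q : K))⁻¹ = (p : K) * ((q : K) * a * (q : K)⁻¹) * (p : K)⁻¹
        group) }
  have hsm : ∀ (p : P) (a : A), ((p • a : A) : K) = (p : K) * a * (p : K)⁻¹ := fun p a => rfl
  have hmod := hPp.card_modEq_card_fixedPoints A
  have hequiv : Nat.card (MulAction.fixedPoints P A) = Nat.card ↥(A ⊓ centralizer ({g} : Set K)) := by
    apply Nat.card_congr
    refine ⟨fun a => ⟨(a.1 : K), Subgroup.mem_inf.mpr ⟨a.1.2, ?_⟩⟩,
      fun c => ⟨⟨c.1, (Subgroup.mem_inf.mp c.2).1⟩, ?_⟩, ?_, ?_⟩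
    · rw [mem_centralizer_singleton_iff]
      have h1 := a.2
      rw [MulAction.mem_fixedPoints] at h1
      have h2 := congrArg Subtype.val (h1 ⟨g, mem_zpowers g⟩)
      rw [hsm] at h2
      have h3 : g * (a.1 : K) = (a.1 : K) * g := by
        calc g * (a.1 : K) = g * (a.1 : K) * g⁻¹ * g := by group
          _ = (a.1 : K) * g := by
            have : (((⟨g, mem_zpowers g⟩ : P) : K)) = g := rfl
            rw [this] at h2; rw [h2]
      exact h3.symm
    · rw [MulAction.mem_fixedPoints]
      intro p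
      apply Subtype.ext
      rw [hsm]
      show (p : K) * c.1 * (p : K)⁻¹ = c.1
      have hc := (Subgroup.mem_inf.mp c.2).2
      rw [mem_centralizer_singleton_iff] at hc
      have hgc : g ∈ centralizer ({(c.1 : K)} : Set K) := by
        rw [mem_centralizer_singleton_iff]; exact hc.symm
      have hpc : (p : K) ∈ centralizer ({(c.1 : K)} : Set K) := (zpowers_le.mpr hgc) p.2
      rw [mem_centralizer_singleton_iff] at hpc
      rw [hpc]; group
    · intro a; rfl
    · intro c; rfl
  rw [hequiv, hA] at hmod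
  have hdvd : Nat.card ↥(A ⊓ centralizer ({g} : Set K)) ∣ 16 := by
    rw [← hA]; exact Subgroup.card_dvd_of_le inf_le_left
  have hle : Nat.card ↥(A ⊓ centralizer ({g} : Set K)) ≤ 16 := Nat.le_of_dvd (by norm_num) hdvd
  have hcases : Nat.card ↥(A ⊓ centralizer ({g} : Set K)) = 1 ∨
      Nat.card ↥(A ⊓ centralizer ({g} : Set K)) = 16 := by
    unfold Nat.ModEq at hmod
    generalize Nat.card ↥(A ⊓ centralizer ({g} : Set K)) = n at *
    interval_cases n <;> simp_all
  rcases hcases with h1 | h16
  · exact Subgroup.card_eq_one.mp h1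
  · exfalso
    have heq : A ⊓ centralizer ({g} : Set K) = A := by
      apply Subgroup.eq_of_le_of_card_ge inf_le_left
      rw [h16, hA]
    have hle : A ≤ centralizer ({g} : Set K) := by
      rw [← heq]; exact inf_le_right
    have hg2 : g ^ 2 = 1 := by
      apply hcent
      intro a ha
      have := hle ha
      rw [mem_centralizer_singleton_iff] at this
      exact this.symm
    apply hg1
    calc g = g ^ 5 * ((g ^ 2) ^ 2)⁻¹ := by group
      _ = 1 := by rw [hg5, hg2]; simp

/-- the key bound: in a group of order 160 with an abelian normal subgroup `A` of order 16 that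
contains every normal 2-subgroup and whose centralizing elements are involutions, an involution outside `A`
fixes at most 4 elements of `A`. -/
theorem fix_le_four {K : Type*} [Group K] [Finite K] (A : Subgroup K) [hAn : A.Normal]
    (hK : Nat.card K = 160) (hA : Nat.card A = 16)
    (hcore : ∀ N : Subgroup K, N.Normal → IsPGroup 2 N → N ≤ A)
    (hcent : ∀ x : K, (∀ a ∈ A, x * a = a * x) → x ^ 2 = 1)
    (t : K) (ht : t ^ 2 = 1) (htA : t ∉ A) :
    Nat.card ↥(A ⊓ centralizer ({t} : Set K)) ≤ 4 := by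
  have : Fact (Nat.Prime 2) := ⟨Nat.prime_two⟩
  have htinv : t⁻¹ = t := by
    rw [inv_eq_iff_mul_eq_one, ← pow_two, ht]
  -- the index-2 subgroup
  have hQ : Nat.card (K ⧸ A) = 10 := by
    have := Subgroup.card_eq_card_quotient_mul_card_subgroup A
    rw [hK, hA] at this; omega
  obtain ⟨N₀, hN₀n, hN₀i, hN₀5⟩ := exists_normal_index_two_of_card_ten hQ
  set N : Subgroup K := N₀.comap (QuotientGroup.mk' A) with hN
  have hNn : N.Normal := hN₀n.comap _
  have hNi : N.index = 2 := by
    rw [hN, Subgroup.index_comap_of_surjective _ (QuotientGroup.mk'_surjective A), hN₀i]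
  have hN5 : ∀ x ∈ N, x ^ 5 ∈ A := by
    intro x hx
    have h1 : (QuotientGroup.mk' A x) ^ 5 = 1 := hN₀5 _ hx
    rw [← map_pow] at h1
    exact (QuotientGroup.eq_one_iff _).mp h1
  have htN : t ∉ N := by
    intro h
    have h5 := hN5 t h
    have : t ^ 5 = t := by
      calc t ^ 5 = (t ^ 2) ^ 2 * t := by group
        _ = t := by rw [ht]; simp
    rw [this] at h5
    exact htA h5
  have hprodN : ∀ x : K, t * (x * t * x⁻¹) ∈ N := by
    intro x
    rw [Subgroup.mul_mem_iff_of_index_two hNi]
    constructor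
    · intro h; exact absurd h htN
    · intro h
      exfalso; apply htN
      have := hNn.conj_mem _ h x⁻¹
      simpa [mul_assoc] using this
  -- some conjugate of t is not in tA
  have hex : ∃ x : K, t * (x * t * x⁻¹) ∉ A := by
    by_contra hcon
    have hall : ∀ x : K, t * (x * t * x⁻¹) ∈ A := by
      intro x
      by_contra h
      exact hcon ⟨x, h⟩
    have hA2 : IsPGroup 2 A := IsPGroup.of_card (n := 4) (by rw [hA]; norm_num)
    have hT2 : IsPGroup 2 (zpowers t) := by
      apply IsPGroup.of_card (n := 1)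
      rw [pow_one, Nat.card_zpowers]
      apply orderOf_eq_prime ht
      intro h; apply htA; rw [h]; exact A.one_mem
    have hM' : IsPGroup 2 ↥(A ⊔ zpowers t) := IsPGroup.to_sup_of_normal_left hA2 hT2
    have hle : A ⊔ normalClosure ({t} : Set K) ≤ A ⊔ zpowers t := by
      apply sup_le le_sup_left
      unfold normalClosure
      rw [closure_le]
      intro y hy
      rw [Group.mem_conjugatesOfSet_iff] at hy
      obtain ⟨a, ha, hay⟩ := hy
      rw [Set.mem_singleton_iff] at ha
      subst ha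
      rw [isConj_iff] at hay
      obtain ⟨c, rfl⟩ := hay
      have h1 := hall c
      have h2 : c * a * c⁻¹ = a⁻¹ * (a * (c * a * c⁻¹)) := by group
      show c * a * c⁻¹ ∈ A ⊔ zpowers a
      rw [h2]
      exact Subgroup.mul_mem _ (Subgroup.inv_mem _ (le_sup_right (a := A) (mem_zpowers a)))
        (le_sup_left (b := zpowers a) h1)
    have hMp : IsPGroup 2 ↥(A ⊔ normalClosure ({t} : Set K)) := hM'.to_le hle
    have hMn : (A ⊔ normalClosure ({t} : Set K)).Normal := Subgroup.sup_normal _ _
    have := hcore _ hMn hMp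
    apply htA
    apply this
    exact le_sup_right (a := A) (subset_normalClosure (Set.mem_singleton t))
  obtain ⟨x, hx⟩ := hex
  set t' : K := x * t * x⁻¹ with ht'
  set c : K := t * t' with hc
  have hcN : c ∈ N := hprodN x
  have hc5 : c ^ 5 ∈ A := hN5 c hcN
  set g : K := c ^ 16 with hg
  have hg5 : g ^ 5 = 1 := by
    have h1 : g ^ 5 = (c ^ 5) ^ 16 := by rw [hg]; group
    rw [h1]
    have := pow_card_eq_one' (G := A) (x := ⟨c ^ 5, hc5⟩)
    rw [hA] at this
    exact congrArg Subtype.val this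
  have hg1 : g ≠ 1 := by
    intro h
    apply hx
    have h1 : c = ((c ^ 5) ^ 3)⁻¹ * g := by rw [hg]; group
    rw [h1, h, mul_one]
    exact A.inv_mem (A.pow_mem hc5 3)
  have hfix := fix_eq_bot_of_order_five A hA hcent g hg5 hg1
  -- the two centralizers meet trivially
  set X : Subgroup K := A ⊓ centralizer ({t} : Set K) with hX
  set Y : Subgroup K := A ⊓ centralizer ({t'} : Set K) with hY
  have hdisj : Disjoint X Y := by
    rw [disjoint_iff, eq_bot_iff, ← hfix]
    intro a ha
    obtain ⟨⟨haA, hat⟩, ⟨_, hat'⟩⟩ := ha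
    refine Subgroup.mem_inf.mpr ⟨haA, ?_⟩
    have hat : a ∈ centralizer ({t} : Set K) := hat
    have hat' : a ∈ centralizer ({t'} : Set K) := hat'
    rw [mem_centralizer_singleton_iff] at hat hat' ⊢
    have hac : Commute a c := by
      show a * (t * t') = (t * t') * a
      calc a * (t * t') = (a * t) * t' := (mul_assoc _ _ _).symm
        _ = (t * a) * t' := by rw [hat]
        _ = t * (a * t') := mul_assoc _ _ _
        _ = t * (t' * a) := by rw [hat']
        _ = (t * t') * a := (mul_assoc _ _ _).symm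
    exact (hac.pow_right 16)
  -- Y is a conjugate of X
  have hXY : Nat.card Y = Nat.card X := by
    have : Y = X.map (MulAut.conj x).toMonoidHom := by
      ext y
      rw [Subgroup.mem_map]
      constructor
      · intro hy
        obtain ⟨hyA, hyt⟩ := Subgroup.mem_inf.mp hy
        rw [mem_centralizer_singleton_iff] at hyt
        refine ⟨x⁻¹ * y * x, Subgroup.mem_inf.mpr ⟨?_, ?_⟩, ?_⟩
        · have := hAn.conj_mem _ hyA x⁻¹
          simpa using this
        · rw [mem_centralizer_singleton_iff]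
          have h1 : t = x⁻¹ * t' * x := by rw [ht']; group
          rw [h1]
          calc x⁻¹ * y * x * (x⁻¹ * t' * x) = x⁻¹ * (y * t') * x := by group
            _ = x⁻¹ * (t' * y) * x := by rw [hyt]
            _ = x⁻¹ * t' * x * (x⁻¹ * y * x) := by group
        · show x * (x⁻¹ * y * x) * x⁻¹ = y
          group
      · rintro ⟨a, ha, rfl⟩
        obtain ⟨haA, hat⟩ := Subgroup.mem_inf.mp ha
        rw [mem_centralizer_singleton_iff] at hat
        refine Subgroup.mem_inf.mpr ⟨?_, ?_⟩
        · exact hAn.conj_mem _ haA x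
        · rw [mem_centralizer_singleton_iff]
          show x * a * x⁻¹ * t' = t' * (x * a * x⁻¹)
          rw [ht']
          calc x * a * x⁻¹ * (x * t * x⁻¹) = x * (a * t) * x⁻¹ := by group
            _ = x * (t * a) * x⁻¹ := by rw [hat]
            _ = x * t * x⁻¹ * (x * a * x⁻¹) := by group
    rw [this]
    exact Subgroup.card_map_of_injective (MulAut.conj x).injective
  -- counting
  have hinj := Subgroup.mul_injective_of_disjoint hdisj
  have hle : Nat.card (X × Y) ≤ Nat.card A := by
    apply Nat.card_le_card_of_injective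
      (fun p : X × Y => (⟨(p.1 : K) * (p.2 : K), A.mul_mem p.1.2.1 p.2.2.1⟩ : A))
    intro p q hpq
    apply hinj
    exact congrArg Subtype.val hpq
  rw [Nat.card_prod, hXY, hA] at hle
  nlinarith

/-- if an involution `t` fixes at most 4 points of an elementary abelian normal subgroup `A` of order 16,
every fixed point is a commutator `a⁻¹ * (t * a * t⁻¹)`. -/
theorem fixed_eq_commutator {K : Type*} [Group K] [Finite K] (A : Subgroup K) [hAn : A.Normal]
    (hA : Nat.card A = 16)
    (hAc : ∀ a ∈ A, ∀ b ∈ A, a * b = b * a) (hA2 : ∀ a ∈ A, a ^ 2 = 1)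
    (t : K) (ht : t ^ 2 = 1)
    (h4 : Nat.card ↥(A ⊓ centralizer ({t} : Set K)) ≤ 4) :
    ∀ y ∈ A ⊓ centralizer ({t} : Set K), ∃ a ∈ A, y = a⁻¹ * (t * a * t⁻¹) := by
  have htinv : t⁻¹ = t := by
    rw [inv_eq_iff_mul_eq_one, ← pow_two, ht]
  have hainv : ∀ a ∈ A, a⁻¹ = a := by
    intro a ha
    rw [inv_eq_iff_mul_eq_one, ← pow_two, hA2 a ha]
  have hmemA : ∀ a ∈ A, a⁻¹ * (t * a * t⁻¹) ∈ A := fun a ha =>
    A.mul_mem (A.inv_mem ha) (hAn.conj_mem _ ha _)
  let ψ : A →* A := MonoidHom.mk' (fun a => ⟨(a : K)⁻¹ * (t * a * t⁻¹), hmemA a a.2⟩) (by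
    intro a b
    apply Subtype.ext
    show ((a : K) * b)⁻¹ * (t * ((a : K) * b) * t⁻¹) = (a : K)⁻¹ * (t * a * t⁻¹) * ((b : K)⁻¹ * (t * b * t⁻¹))
    have h1 := hAc _ (A.inv_mem b.2) _ (hmemA a a.2)
    calc ((a : K) * b)⁻¹ * (t * ((a : K) * b) * t⁻¹)
        = (b : K)⁻¹ * ((a : K)⁻¹ * (t * a * t⁻¹)) * (t * b * t⁻¹) := by group
      _ = (a : K)⁻¹ * (t * a * t⁻¹) * (b : K)⁻¹ * (t * b * t⁻¹) := by rw [h1]
      _ = (a : K)⁻¹ * (t * a * t⁻¹) * ((b : K)⁻¹ * (t * b * t⁻¹)) := by group)
  have hψ : ∀ a : A, ((ψ a : A) : K) = (a : K)⁻¹ * (t * a * t⁻¹) := fun a => rfl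
  set X : Subgroup K := A ⊓ centralizer ({t} : Set K) with hX
  -- kernel injects into X
  have hker : Nat.card ψ.ker ≤ Nat.card X := by
    apply Nat.card_le_card_of_injective (fun a : ψ.ker => (⟨((a : A) : K), Subgroup.mem_inf.mpr ⟨a.1.2, by
      rw [mem_centralizer_singleton_iff]
      have h1 : ψ a.1 = 1 := a.2
      have h2 := congrArg Subtype.val h1
      rw [hψ] at h2
      have h3 : t * ((a : A) : K) * t⁻¹ = ((a : A) : K) := by
        have : t * ((a : A) : K) * t⁻¹ = ((a : A) : K) * (((a : A) : K)⁻¹ * (t * ((a : A) : K) * t⁻¹)) := by group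
        rw [this, h2]; simp
      calc ((a : A) : K) * t = (t * ((a : A) : K) * t⁻¹) * t := by rw [h3]
        _ = t * ((a : A) : K) := by group⟩⟩ : X))
    intro a b hab
    apply Subtype.ext; apply Subtype.ext
    have h := congrArg (fun z : X => (z : K)) hab
    exact h
  -- range maps into X
  have hrangeX : ∀ a : A, ((ψ a : A) : K) ∈ X := by
    intro a
    refine Subgroup.mem_inf.mpr ⟨(ψ a).2, ?_⟩
    rw [mem_centralizer_singleton_iff, hψ]
    have h1 : (a : K)⁻¹ = a := hainv a a.2
    have h2 := hAc _ a.2 _ (hAn.conj_mem _ a.2 t)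
    rw [h1, htinv]
    rw [htinv] at h2
    have htt : t * t = 1 := by rw [← pow_two, ht]
    have e1 : (a : K) * (t * a * t) * t = a * t * a := by
      rw [show (a : K) * (t * a * t) * t = a * t * a * (t * t) by group, htt, mul_one]
    have e2 : t * ((a : K) * (t * a * t)) = a * t * a := by
      rw [h2, show t * (t * (a : K) * t * a) = (t * t) * a * t * a by group, htt, one_mul]
    rw [e1, e2]
  have hrange : Nat.card ψ.range ≤ Nat.card X := by
    apply Nat.card_le_card_of_injective (fun r : ψ.range => (⟨((r : A) : K), by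
      obtain ⟨a, ha⟩ := r.2
      rw [← ha]; exact hrangeX a⟩ : X))
    intro a b hab
    apply Subtype.ext; apply Subtype.ext
    have h := congrArg (fun z : X => (z : K)) hab
    exact h
  have hmul : Nat.card ψ.ker * Nat.card ψ.range = 16 := by
    have h1 := Subgroup.card_eq_card_quotient_mul_card_subgroup ψ.ker
    rw [hA, Nat.card_congr (QuotientGroup.quotientKerEquivRange ψ).toEquiv] at h1
    rw [mul_comm]; exact h1.symm
  have hrange4 : Nat.card X ≤ Nat.card ψ.range := by
    have hk4 : Nat.card ψ.ker ≤ 4 := hker.trans h4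
    have hr4 : Nat.card ψ.range ≤ 4 := hrange.trans h4
    nlinarith
  -- the injection of the range into X is a bijection
  have hbij : Function.Bijective (fun r : ψ.range => (⟨((r : A) : K), by
      obtain ⟨a, ha⟩ := r.2
      rw [← ha]; exact hrangeX a⟩ : X)) := by
    rw [Nat.bijective_iff_injective_and_card]
    refine ⟨?_, le_antisymm hrange hrange4⟩
    intro a b hab
    apply Subtype.ext; apply Subtype.ext
    have h := congrArg (fun z : X => (z : K)) hab
    exact h
  intro y hy
  obtain ⟨r, hr⟩ := hbij.2 ⟨y, hy⟩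
  obtain ⟨a, ha⟩ := r.2
  refine ⟨a, a.2, ?_⟩
  have h1 := congrArg (fun z : X => (z : K)) hr
  have h2 : ((r : A) : K) = y := h1
  rw [← h2, ← ha, hψ]

/-- the subgroup `{1, z}` for an involution `z`. -/
def zSub {G : Type*} [Group G] (z : G) (hzz : z * z = 1) : Subgroup G where
  carrier := {x | x = 1 ∨ x = z}
  one_mem' := Or.inl rfl
  mul_mem' := by
    rintro a b (rfl | rfl) (rfl | rfl)
    · left; simp
    · right; simp
    · right; simp
    · left; exact hzz
  inv_mem' := by
    rintro a (rfl | rfl)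
    · left; simp
    · right; exact inv_eq_of_mul_eq_one_left hzz

theorem mem_zSub {G : Type*} [Group G] (z : G) (hzz : z * z = 1) (x : G) :
    x ∈ zSub z hzz ↔ x = 1 ∨ x = z := Iff.rfl

theorem card_zSub {G : Type*} [Group G] (z : G) (hzz : z * z = 1) (hz1 : z ≠ 1) :
    Nat.card (zSub z hzz) = 2 := by
  rw [Nat.card_eq_two_iff]
  refine ⟨⟨1, Or.inl rfl⟩, ⟨z, Or.inr rfl⟩, ?_, ?_⟩
  · intro h
    exact hz1 (congrArg Subtype.val h).symm
  · ext ⟨x, hx⟩
    simp only [Set.mem_insert_iff, Set.mem_singleton_iff, Set.mem_univ, iff_true]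
    rcases hx with h | h
    · left; exact Subtype.ext h
    · right; exact Subtype.ext h

theorem zSub_normal {G : Type*} [Group G] (z : G) (hzz : z * z = 1) (hzc : ∀ g : G, g * z = z * g) :
    (zSub z hzz).Normal := by
  constructor
  rintro n (rfl | rfl) g
  · left; simp
  · right; rw [hzc g]; simp

theorem core_argument {G : Type*} [Group G] [Finite G] (H : Subgroup G) [hHn : H.Normal] (z : G)
    (hG : Nat.card G = 320) (h32 : Nat.card H = 32)
    (hz1 : z ≠ 1) (hzz : z * z = 1) (hzH : z ∈ H) (hzc : ∀ g : G, g * z = z * g)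
    (hcomm : ∀ a ∈ H, ∀ b ∈ H, a⁻¹ * b⁻¹ * a * b = 1 ∨ a⁻¹ * b⁻¹ * a * b = z)
    (hsq : ∀ a ∈ H, a * a = 1 ∨ a * a = z)
    (hcen : ∀ w : G, (∀ h ∈ H, w * h = h * w) → w = 1 ∨ w = z)
    (hcore : ∀ N : Subgroup G, N.Normal → IsPGroup 2 N → N ≤ H)
    (hminus : ∀ A : Subgroup G, A ≤ H → (∀ a ∈ A, ∀ b ∈ A, a * b = b * a) → (∀ a ∈ A, a * a = 1) →
      Nat.card A ≤ 4)
    (T : G) (hT : T * T = 1) (hTH : T ∉ H)
    (V : Subgroup G) (hV : V ≤ H ⊓ centralizer ({T} : Set G)) (hV4 : Nat.card V = 4) :
    H ⊓ centralizer ({T} : Set G) = V := by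
  have : Fact (Nat.Prime 2) := ⟨Nat.prime_two⟩
  have hZn : (zSub z hzz).Normal := zSub_normal z hzz hzc
  have hZ2 : Nat.card (zSub z hzz) = 2 := card_zSub z hzz hz1
  have hZH : zSub z hzz ≤ H := by
    rintro x (rfl | rfl)
    · exact H.one_mem
    · exact hzH
  have hTinv : T⁻¹ = T := inv_eq_of_mul_eq_one_left hT
  have hzinv : z⁻¹ = z := inv_eq_of_mul_eq_one_left hzz
  set π : G →* G ⧸ zSub z hzz := QuotientGroup.mk' (zSub z hzz) with hπ
  have hπs : Function.Surjective π := QuotientGroup.mk'_surjective _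
  have hπeq : ∀ x y : G, π x = π y ↔ (x⁻¹ * y = 1 ∨ x⁻¹ * y = z) := by
    intro x y
    rw [hπ, QuotientGroup.mk'_apply, QuotientGroup.mk'_apply, QuotientGroup.eq]
    exact Iff.rfl
  have hπ1 : ∀ x : G, π x = 1 ↔ (x = 1 ∨ x = z) := by
    intro x
    rw [hπ, QuotientGroup.mk'_apply, QuotientGroup.eq_one_iff]
    exact Iff.rfl
  have hK : Nat.card (G ⧸ zSub z hzz) = 160 := by
    have := Subgroup.card_eq_card_quotient_mul_card_subgroup (zSub z hzz)
    rw [hG, hZ2] at this; omega
  set A : Subgroup (G ⧸ zSub z hzz) := H.map π with hAdef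
  have hAn : A.Normal := hHn.map π hπs
  have hAmem : ∀ x : G, π x ∈ A ↔ x ∈ H := by
    intro x
    constructor
    · rintro ⟨h, hh, heq⟩
      rw [hπeq] at heq
      have : x = h * (h⁻¹ * x) := by group
      rw [this]
      rcases heq with h1 | h1
      · rw [h1, mul_one]; exact hh
      · rw [h1]; exact H.mul_mem hh hzH
    · intro hx
      exact ⟨x, hx, rfl⟩
  have hA : Nat.card A = 16 := by
    have h1 : A.index = H.index := by
      rw [hAdef, Subgroup.index_map, hπ, QuotientGroup.ker_mk', sup_of_le_left hZH,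
        MonoidHom.range_eq_top.mpr (QuotientGroup.mk'_surjective _), Subgroup.index_top, mul_one]
    have h2 := Subgroup.card_mul_index H
    have h3 := Subgroup.card_mul_index A
    rw [h32, hG] at h2
    rw [hK, h1] at h3
    have h4 : H.index = 10 := by omega
    rw [h4] at h3
    omega
  have hAc : ∀ a ∈ A, ∀ b ∈ A, a * b = b * a := by
    rintro _ ⟨h1, hh1, rfl⟩ _ ⟨h2, hh2, rfl⟩
    rw [← map_mul, ← map_mul, hπeq]
    have := hcomm h2 hh2 h1 hh1
    have e : (h1 * h2)⁻¹ * (h2 * h1) = h2⁻¹ * h1⁻¹ * h2 * h1 := by group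
    rw [e]; exact this
  have hA2 : ∀ a ∈ A, a ^ 2 = 1 := by
    rintro _ ⟨h, hh, rfl⟩
    rw [← map_pow, hπ1, pow_two]
    exact hsq h hh
  have hcoreK : ∀ N : Subgroup (G ⧸ zSub z hzz), N.Normal → IsPGroup 2 N → N ≤ A := by
    intro N hNn hNp
    have h1 : (N.comap π).Normal := hNn.comap π
    have h2 : IsPGroup 2 (N.comap π) := by
      apply hNp.comap_of_ker_isPGroup π
      rw [hπ, QuotientGroup.ker_mk']
      exact IsPGroup.of_card (n := 1) (by rw [hZ2]; norm_num)
    have h3 := hcore _ h1 h2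
    rw [← Subgroup.map_comap_eq_self_of_surjective hπs N]
    exact Subgroup.map_mono h3
  have hcentK : ∀ x : G ⧸ zSub z hzz, (∀ a ∈ A, x * a = a * x) → x ^ 2 = 1 := by
    intro x hx
    obtain ⟨g, rfl⟩ := hπs x
    rw [← map_pow, hπ1]
    apply hcen
    intro h hh
    have h1 := hx (π h) ⟨h, hh, rfl⟩
    rw [← map_mul, ← map_mul, hπeq] at h1
    -- (g h)⁻¹ (h g) ∈ {1, z}
    have key : ∀ ζ : G, (ζ = 1 ∨ ζ = z) → (g * h)⁻¹ * (h * g) = ζ → g ^ 2 * h = h * g ^ 2 := by
      intro ζ hζ he
      have hζc : ∀ y : G, y * ζ = ζ * y := by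
        rcases hζ with rfl | rfl
        · intro y; simp
        · exact hzc
      have hζ2 : ζ * ζ = 1 := by
        rcases hζ with rfl | rfl
        · simp
        · exact hzz
      have e1 : h * g = g * h * ζ := by rw [← he]; group
      calc g ^ 2 * h = g * (g * h) := by rw [pow_two, mul_assoc]
        _ = g * (g * h * ζ * ζ) := by rw [mul_assoc (g * h), hζ2, mul_one]
        _ = g * (h * g * ζ) := by rw [e1]
        _ = g * h * ζ * g := by rw [mul_assoc h, hζc g]; group
        _ = h * g * g := by rw [← e1]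
        _ = h * g ^ 2 := by rw [pow_two, mul_assoc]
    rcases h1 with h1 | h1
    · exact key 1 (Or.inl rfl) h1
    · exact key z (Or.inr rfl) h1
  set t : G ⧸ zSub z hzz := π T with ht
  have ht2 : t ^ 2 = 1 := by
    rw [ht, ← map_pow, pow_two, hT, map_one]
  have htA : t ∉ A := by
    rw [ht, hAmem]; exact hTH
  have h4 := fix_le_four A hK hA hcoreK hcentK t ht2 htA
  have hfc := fixed_eq_commutator A hA hAc hA2 t ht2 h4
  set C : Subgroup G := H ⊓ centralizer ({T} : Set G) with hC
  set X : Subgroup (G ⧸ zSub z hzz) := A ⊓ centralizer ({t} : Set (G ⧸ zSub z hzz)) with hX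
  have hZC : zSub z hzz ≤ C := by
    intro x hx
    refine Subgroup.mem_inf.mpr ⟨hZH hx, ?_⟩
    rw [mem_centralizer_singleton_iff]
    rcases hx with rfl | rfl
    · simp
    · exact (hzc T).symm
  have hCX : C.map π ≤ X := by
    rintro _ ⟨c, hc, rfl⟩
    obtain ⟨hcH, hcT⟩ := Subgroup.mem_inf.mp hc
    rw [mem_centralizer_singleton_iff] at hcT
    refine Subgroup.mem_inf.mpr ⟨⟨c, hcH, rfl⟩, ?_⟩
    rw [mem_centralizer_singleton_iff, ht, ← map_mul, ← map_mul, hcT]
  have hCcard : Nat.card C = 2 * Nat.card (C.map π) := by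
    have h1 : (C.map π).index = C.index := by
      rw [Subgroup.index_map, hπ, QuotientGroup.ker_mk', sup_of_le_left hZC,
        MonoidHom.range_eq_top.mpr (QuotientGroup.mk'_surjective _), Subgroup.index_top, mul_one]
    have h2 := Subgroup.card_mul_index C
    have h3 := Subgroup.card_mul_index (C.map π)
    rw [hG] at h2
    rw [hK, h1] at h3
    have h5 : C.index ≠ 0 := by
      intro h; rw [h] at h2; omega
    have h6 : Nat.card C * C.index = (2 * Nat.card (C.map π)) * C.index := by
      rw [mul_assoc, h3, h2]; norm_num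
    exact Nat.eq_of_mul_eq_mul_right (Nat.pos_of_ne_zero h5) h6
  have hmapX : Nat.card (C.map π) ≤ Nat.card X := Subgroup.card_le_of_le hCX
  have hVC : Nat.card V ∣ Nat.card C := Subgroup.card_dvd_of_le hV
  rw [hV4] at hVC
  have hC0 : Nat.card C ≠ 0 := Nat.card_pos.ne'
  have hCcases : Nat.card C = 4 ∨ Nat.card C = 8 := by
    obtain ⟨k, hk⟩ := hVC
    have : Nat.card C ≤ 8 := by omega
    omega
  rcases hCcases with hC4 | hC8
  · exact (Subgroup.eq_of_le_of_card_ge hV (by rw [hV4, hC4])).symm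
  · exfalso
    have hmap4 : Nat.card (C.map π) = 4 := by omega
    have hmapeq : C.map π = X := by
      apply Subgroup.eq_of_le_of_card_ge hCX
      omega
    have hexp : ∀ c ∈ C, c * c = 1 := by
      intro c hc
      obtain ⟨hcH, hcT⟩ := Subgroup.mem_inf.mp hc
      rw [mem_centralizer_singleton_iff] at hcT
      have hπc : π c ∈ X := by rw [← hmapeq]; exact ⟨c, hc, rfl⟩
      obtain ⟨a, ⟨h, hh, rfl⟩, hya⟩ := hfc _ hπc
      rw [ht, ← map_inv, ← map_inv, ← map_mul, ← map_mul, ← map_mul, hπeq] at hya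
      -- c' = h⁻¹ * (T * h * T⁻¹) = c * ζ
      have key : ∀ ζ : G, (ζ = 1 ∨ ζ = z) → c⁻¹ * (h⁻¹ * (T * h * T⁻¹)) = ζ → c * c = 1 := by
        intro ζ hζ he
        have hζc : ∀ y : G, y * ζ = ζ * y := by
          rcases hζ with rfl | rfl
          · intro y; simp
          · exact hzc
        have hζ2 : ζ * ζ = 1 := by
          rcases hζ with rfl | rfl
          · simp
          · exact hzz
        have e1 : h⁻¹ * (T * h * T) = c * ζ := by
          rw [← he, hTinv]; group
        -- T c' T = c'⁻¹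
        have e2 : T * (h⁻¹ * (T * h * T)) * T = (h⁻¹ * (T * h * T))⁻¹ := by
          rw [eq_comm, inv_eq_iff_mul_eq_one]
          calc h⁻¹ * (T * h * T) * (T * (h⁻¹ * (T * h * T)) * T)
              = h⁻¹ * T * h * (T * T) * h⁻¹ * T * h * (T * T) := by group
            _ = h⁻¹ * T * h * h⁻¹ * T * h := by rw [hT, mul_one, mul_one]
            _ = h⁻¹ * (T * T) * h := by group
            _ = 1 := by rw [hT]; group
        -- T c' T = c'
        have e3 : T * (c * ζ) * T = c * ζ := by
          calc T * (c * ζ) * T = T * c * (ζ * T) := by group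
            _ = T * c * (T * ζ) := by rw [← hζc T]
            _ = T * c * T * ζ := by group
            _ = c * T * T * ζ := by rw [← hcT]
            _ = c * ζ := by rw [mul_assoc c T T, hT, mul_one]
        rw [e1, e3] at e2
        -- (cζ) = (cζ)⁻¹
        have e4 : (c * ζ) * (c * ζ) = 1 := by
          have := e2
          rw [eq_comm, inv_eq_iff_mul_eq_one] at this
          exact this
        calc c * c = c * c * (ζ * ζ) := by rw [hζ2, mul_one]
          _ = (c * ζ) * (c * ζ) := by rw [mul_assoc c ζ, ← mul_assoc ζ c, ← hζc c]; group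
          _ = 1 := e4
      rcases hya with h1 | h1
      · exact key 1 (Or.inl rfl) h1
      · exact key z (Or.inr rfl) h1
    have hcommC : ∀ a ∈ C, ∀ b ∈ C, a * b = b * a := by
      intro a ha b hb
      have h1 := hexp a ha
      have h2 := hexp b hb
      have h3 := hexp (a * b) (C.mul_mem ha hb)
      have ha' : a⁻¹ = a := inv_eq_of_mul_eq_one_left h1
      have hb' : b⁻¹ = b := inv_eq_of_mul_eq_one_left h2
      have hab' : (a * b)⁻¹ = a * b := inv_eq_of_mul_eq_one_left h3
      calc a * b = (a * b)⁻¹ := hab'.symm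
        _ = b⁻¹ * a⁻¹ := mul_inv_rev a b
        _ = b * a := by rw [ha', hb']
    have := hminus C inf_le_left hcommC hexp
    omega

end Cfsg.Agent.Lib.Helper16.Order320
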