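/-
helper16: S4640 leaf (NV).  Members of a block `B` do not vanish identically on the `p`-section of an
element `u` of the centre of a defect group: the major subsection `(u, β)` has a nonzero contribution
`m_{χ₀χ}` (Brauer's (5H)), which would vanish if `χ(u s) = 0` for all `p`-regular `s ∈ C_G(u)`.
-/
import Mathlib
import Cfsg.Agent.Lib.Helper6.Fong
import Cfsg.Agent.Lib.Helper6.FongGen
import Cfsg.Agent.Lib.Helper6.SubsectionCount
import Cfsg.Agent.Lib.Helper8.HtBoundEX
import Cfsg.Agent.Lib.Helper23.MajSubLI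

set_option autoImplicit false
set_option linter.unusedSectionVars false
set_option linter.unusedVariables false

namespace Cfsg.Agent.Lib.Helper16.PINV

open Cfsg Cfsg.Agent.CharLib Cfsg.Agent.Lib.Helper24 Cfsg.Agent.Lib.Helper6 Cfsg.Agent.Lib.Helper23
open Cfsg.Agent.Lib.Helper23.Subsec Cfsg.Agent.Lib.Helper27.MajSub
open Cfsg.Agent.Lib.Helper23.MajSubOM Cfsg.Agent.Lib.Helper23.MajSubH5
open Cfsg.Agent.Lib.Helper6.HtBound
open scoped ComplexConjugate

universe u

variable {G : Type u} [Group G] [Fintype G] {p : ℕ} [hpp : Fact p.Prime] {M : Ideal AlgInt}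

/-- (NV) members of `B` do not vanish on the `p`-section of a central element of a defect group. -/
theorem exists_regular_apply_ne_zero (hM : IsPModular p M) (B : Set (IrrCharacter G))
    (hB : IsPBlock M B) (P : Subgroup G) (hPD : IsDefectGroup p M B P) (u : G) (hu : u ∈ P)
    (huc : ∀ x ∈ P, x * u = u * x) (χ : IrrCharacter G) (hχ : χ ∈ B) :
    ∃ s : G, s * u = u * s ∧ ¬ p ∣ orderOf s ∧ (χ : G → ℂ) (u * s) ≠ 0 := by
  classical
  by_contra hcon
  push_neg at hcon
  have hp : p.Prime := hpp.out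
  have hM1 := one_not_mem_of_isPModular hM
  obtain ⟨b0, hb0D, hb0ind⟩ := ExtFirstMain.exists_block_PC hM B hB P hPD
  obtain ⟨β, hβin, hβind, hβdef⟩ := Cfsg.Agent.Lib.Helper8.HtBoundEX.exists_majBlock hM B P hPD
    (P ⊔ Subgroup.centralizer (P : Set G)) rfl b0 hb0ind u hu huc
  -- `u` is a `p`-element
  have hPp : IsPGroup p P := ExtFirstMain.isPGroup_of_isDefectGroup hPD
  have hz : ∃ k : ℕ, orderOf u = p ^ k := by
    obtain ⟨k, hk⟩ := hPp ⟨u, hu⟩
    have h1 : u ^ (p ^ k) = 1 := by
      have := congrArg (fun x : P => (x : G)) hk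
      simpa using this
    have h2 : orderOf u ∣ p ^ k := orderOf_dvd_of_pow_eq_one h1
    obtain ⟨j, _, hj⟩ := (Nat.dvd_prime_pow hp).mp h2
    exact ⟨j, hj⟩
  obtain ⟨χ0, hχ0, hht⟩ := MajSubLI.exists_heightZero (p := p) B ⟨χ, hχ⟩
  letI : Fintype (Cz u) := Fintype.ofFinite _
  have h5 := (contrib_5H hM u hz (Cz u) rfl B β hβind hβdef χ0 χ hχ0 hht hχ).1
  have hzero : contrib p (Cz u) β u χ0 χ = 0 := by
    unfold contrib
    rw [Finset.sum_eq_zero, mul_zero]
    intro s _
    by_cases hs : p ∣ orderOf s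
    · rw [if_pos hs]
    · rw [if_neg hs]
      obtain ⟨ψ₀, hψ₀⟩ := hβind.1
      have hdec : decFun (Cz u) β u χ s = 0 := by
        unfold decFun
        rw [hψ₀]
        apply blockPart_eq_zero_of_vanish_regular hM ψ₀ _ s hs
        intro c hc
        have hcu : (c : G) * u = u * (c : G) := by
          have h := c.2
          have hiff : ∀ g : G, g ∈ Cz u → g * u = u * g := by
            intro g hg
            exact Subgroup.mem_centralizer_singleton_iff.mp hg
          exact hiff _ h
        have hord : ¬ p ∣ orderOf (c : G) := by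
          rw [Subgroup.orderOf_coe]; exact hc
        exact hcon (c : G) hcu hord
      rw [hdec, map_zero, mul_zero]
  rw [hzero, mul_zero, zero_div] at h5
  exact h5.2 (memLocalIdeal_zero hM1)

end Cfsg.Agent.Lib.Helper16.PINV
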