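/-
helper16: S4640 leaf (NE).  A linear character of `G/N` (`|G : N|` a power of `p`) fixing a member of
a block `B` with abelian defect group `P`, `G = N P`, is trivial.
-/
import Mathlib
import Cfsg.Agent.Lib.Helper6.Fong
import Cfsg.Agent.Lib.Helper6.FongGen
import Cfsg.Agent.Lib.Helper6.SubsectionCount
import Cfsg.Agent.Lib.Helper6.CharNorm
import Cfsg.Agent.Lib.Helper16.PINV

set_option autoImplicit false
set_option linter.unusedSectionVars false
set_option linter.unusedVariables false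

namespace Cfsg.Agent.Lib.Helper16.PINE

open Cfsg Cfsg.Agent.Lib.Helper6

universe u

variable {G : Type u} [Group G] [Fintype G] {p : ℕ} [hpp : Fact p.Prime] {M : Ideal AlgInt}
  (N : Subgroup G) [hN : N.Normal] [Fintype N]

/-- (NE) a linear character of `G/N` fixing a member of `B` is trivial. -/
theorem linear_eq_one_of_mul_eq (hM : IsPModular p M) (hNi : ∃ k : ℕ, N.index = p ^ k)
    (B : Set (IrrCharacter G)) (hB : IsPBlock M B) (P : Subgroup G)
    (hPD : IsDefectGroup p M B P) (hPab : ∀ x ∈ P, ∀ y ∈ P, x * y = y * x) (hsup : N ⊔ P = ⊤)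
    (lam : G → ℂ) (hlam : IsCharacter G lam) (h1 : lam 1 = 1) (hlamN : ∀ n : N, lam n = 1)
    (χ : IrrCharacter G) (hχ : χ ∈ B) (heq : lam * (χ : G → ℂ) = (χ : G → ℂ)) :
    ∀ g : G, lam g = 1 := by
  classical
  have hp : p.Prime := hpp.out
  have hmul : ∀ g h : G, lam (g * h) = lam g * lam h :=
    IsCharacter.map_mul_of_apply_one hlam h1
  have hpow : ∀ (g : G) (m : ℕ), lam (g ^ m) = lam g ^ m := by
    intro g m
    induction m with
    | zero => rw [pow_zero, pow_zero, h1]
    | succ m ih => rw [pow_succ, pow_succ, hmul, ih]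
  obtain ⟨k, hk⟩ := hNi
  -- `g ^ (p ^ k) ∈ N`
  have hpk : ∀ g : G, g ^ (p ^ k) ∈ N := by
    intro g
    have hcard : Nat.card (G ⧸ N) = p ^ k := by
      rw [← hk]; rfl
    have h2 : ((g : G ⧸ N)) ^ (p ^ k) = 1 := by
      rw [← hcard]
      exact pow_card_eq_one'
    have h3 : ((g ^ (p ^ k) : G) : G ⧸ N) = 1 := by
      rw [QuotientGroup.mk_pow]; exact h2
    exact (QuotientGroup.eq_one_iff _).mp h3
  have hlampk : ∀ g : G, lam g ^ (p ^ k) = 1 := by
    intro g
    rw [← hpow]
    exact hlamN ⟨g ^ (p ^ k), hpk g⟩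
  -- `p`-regular elements
  have hreg : ∀ s : G, ¬ p ∣ orderOf s → lam s = 1 := by
    intro s hs
    have h2 : lam s ^ orderOf s = 1 := by
      rw [← hpow, pow_orderOf_eq_one, h1]
    have hcop : Nat.Coprime (orderOf s) (p ^ k) := by
      apply Nat.Coprime.pow_right
      exact ((Nat.Prime.coprime_iff_not_dvd hp).mpr hs).symm
    have h3 : lam s ^ Nat.gcd (orderOf s) (p ^ k) = 1 := pow_gcd_eq_one.mpr ⟨h2, hlampk s⟩
    rw [hcop, pow_one] at h3
    exact h3
  -- elements of `P`
  have hP : ∀ u ∈ P, lam u = 1 := by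
    intro u hu
    obtain ⟨s, hsu, hs, hne⟩ := Cfsg.Agent.Lib.Helper16.PINV.exists_regular_apply_ne_zero hM B hB P
      hPD u hu (fun x hx => hPab x hx u hu) χ hχ
    have h2 := congrFun heq (u * s)
    rw [Pi.mul_apply] at h2
    have h3 : lam (u * s) = 1 := by
      have h4 : (lam (u * s) - 1) * (χ : G → ℂ) (u * s) = 0 := by
        rw [sub_mul, one_mul, h2, sub_self]
      rcases mul_eq_zero.mp h4 with h5 | h5
      · exact sub_eq_zero.mp h5
      · exact absurd h5 hne
    rw [hmul, hreg s hs, mul_one] at h3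
    exact h3
  -- `G = N P`
  intro g
  have hg : g ∈ N ⊔ P := by rw [hsup]; exact Subgroup.mem_top g
  have hset : (g : G) ∈ ((N ⊔ P : Subgroup G) : Set G) := hg
  rw [Subgroup.normal_mul] at hset
  obtain ⟨n, hn, x, hx, rfl⟩ := Set.mem_mul.mp hset
  rw [hmul, hP x hx, mul_one]
  exact hlamN ⟨n, hn⟩

end Cfsg.Agent.Lib.Helper16.PINE
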