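import Mathlib
import Cfsg.Prelude.Def_LocalEven
import Cfsg.Prelude.Def_Solvable
import Cfsg.Prelude.Def_Transfer
import Cfsg.Agent.Lib.Helper16.Irreducible
import Cfsg.Agent.Lib.Helper4.SubnormalFamily
import Cfsg.Agent.Lib.Helper4.Basic
import Cfsg.Agent.Lib.Helper1.Coprime

set_option autoImplicit false
set_option linter.style.haveILetI false
set_option linter.unusedSectionVars false
open Cfsg
open scoped Pointwise commutatorElement

namespace Cfsg.Agent.Lib.Helper16

-- PM1 START
section PMinimal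

variable {P : Type*} [Group P] [Finite P] {p : ℕ} [hpp : Fact p.Prime]

/-- the basic property of a `p`-minimal group: proper overgroups of `S` lie in `M`. -/
theorem pMinimal_le_of_sylow_le (hP : IsPMinimal p P) (S : Sylow p P) (M : Subgroup P)
    (hM : IsCoatom M) (hSM : (S : Subgroup P) ≤ M) (K : Subgroup P)
    (hSK : (S : Subgroup P) ≤ K) (hK : K ≠ ⊤) : K ≤ M := by
  obtain ⟨-, M', -, hM'⟩ := hP S
  apply minimalOver_key (Y := (S : Subgroup P)) (M := M) _ K hSK hK
  intro M1 hM1
  rw [hM' M1 hM1, hM' M ⟨hM, hSM⟩]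

/-- if `N S = P` for a normal subgroup `N` then `O^p(P) ≤ N`. -/
theorem pResidual_le_of_sup_sylow_eq_top (S : Sylow p P) (N : Subgroup P) [hN : N.Normal]
    (h : N ⊔ (S : Subgroup P) = ⊤) : pResidual p P ≤ N := by
  unfold pResidual
  rw [Subgroup.closure_le]
  intro g hg
  have hg' : (orderOf g).Coprime p := hg
  have hmem : g ∈ N ⊔ (S : Subgroup P) := by rw [h]; exact Subgroup.mem_top g
  rw [Subgroup.mem_sup_of_normal_left] at hmem
  obtain ⟨n, hn, s, hs, rfl⟩ := hmem
  -- the image of `n * s` in `P ⧸ N` has order a power of `p` and coprime to `p`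
  obtain ⟨k, hk⟩ := S.isPGroup' ⟨s, hs⟩
  have hk' : s ^ (p ^ k) = 1 := by simpa using congrArg Subtype.val hk
  have h1 : (QuotientGroup.mk' N (n * s)) ^ (p ^ k) = 1 := by
    have : QuotientGroup.mk' N (n * s) = QuotientGroup.mk' N s := by
      have hn1 : QuotientGroup.mk' N n = 1 := (QuotientGroup.eq_one_iff n).mpr hn
      rw [map_mul, hn1, one_mul]
    rw [this, ← map_pow, hk', map_one]
  have h2 : (QuotientGroup.mk' N (n * s)) ^ (orderOf (n * s)) = 1 := by
    rw [← map_pow, pow_orderOf_eq_one, map_one]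
  have h3 : orderOf (QuotientGroup.mk' N (n * s)) ∣ Nat.gcd (p ^ k) (orderOf (n * s)) :=
    Nat.dvd_gcd (orderOf_dvd_of_pow_eq_one h1) (orderOf_dvd_of_pow_eq_one h2)
  have h4 : Nat.gcd (p ^ k) (orderOf (n * s)) = 1 :=
    Nat.Coprime.pow_left k hg'.symm
  rw [h4, Nat.dvd_one, orderOf_eq_one_iff] at h3
  exact (QuotientGroup.eq_one_iff _).mp h3

/-- S2905 (3): a normal subgroup contains `O^p(P)` or lies in the core of `M`. -/
theorem pMinimal_normal_dichotomy (hP : IsPMinimal p P) (S : Sylow p P) (M : Subgroup P)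
    (hM : IsCoatom M) (hSM : (S : Subgroup P) ≤ M) (N : Subgroup P) (hN : N.Normal) :
    pResidual p P ≤ N ∨ N ≤ M.normalCore := by
  by_cases h : N ⊔ (S : Subgroup P) = ⊤
  · left
    exact pResidual_le_of_sup_sylow_eq_top S N h
  · right
    rw [Subgroup.normal_le_normalCore]
    exact le_trans le_sup_left (pMinimal_le_of_sylow_le hP S M hM hSM _ le_sup_right h)

/-- S2905 (5). -/
theorem pMinimal_core_lt (S : Sylow p P) (M : Subgroup P)
    (hM : IsCoatom M) (hSM : (S : Subgroup P) ≤ M) :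
    M.normalCore < pResidual p P ⊔ M.normalCore := by
  refine lt_of_le_of_ne le_sup_right ?_
  intro h
  have h1 : pResidual p P ≤ M := by
    have : pResidual p P ≤ M.normalCore := by rw [h]; exact le_sup_left
    exact le_trans this (Subgroup.normalCore_le M)
  exact hM.1 (eq_top_of_sylow_le_of_pResidual_le S hSM h1)

end PMinimal

-- PM2 START
section PMinimal2

variable {P : Type*} [Group P] [Finite P] {p : ℕ} [hpp : Fact p.Prime]

/-- `S ∩ core(M) ≤ O_p(P)` (Frattini argument). -/
theorem pMinimal_core_inf_sylow_le_pCore (hP : IsPMinimal p P) (S : Sylow p P) (M : Subgroup P)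
    (hM : IsCoatom M) (hSM : (S : Subgroup P) ≤ M) :
    (S : Subgroup P) ⊓ M.normalCore ≤ pCore p P := by
  haveI hFn : M.normalCore.Normal := Subgroup.normalCore_normal M
  obtain ⟨P', hP'⟩ := exists_sylow_of_normal_inf S M.normalCore
  have hfr := Sylow.normalizer_sup_eq_top P'
  rw [hP'] at hfr
  have hSN : (S : Subgroup P) ≤
      Subgroup.normalizer (((S : Subgroup P) ⊓ M.normalCore : Subgroup P) : Set P) := by
    intro s hs
    apply Cfsg.Agent.Lib.Helper1.mem_normalizer_of_forall_conj_mem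
    intro x hx
    exact Subgroup.mem_inf.mpr ⟨Subgroup.mul_mem _ (Subgroup.mul_mem _ hs hx.1)
      (Subgroup.inv_mem _ hs), hFn.conj_mem x hx.2 s⟩
  have htop : Subgroup.normalizer (((S : Subgroup P) ⊓ M.normalCore : Subgroup P) : Set P) = ⊤ := by
    by_contra hne
    have h1 := pMinimal_le_of_sylow_le hP S M hM hSM _ hSN hne
    apply hM.1
    rw [eq_top_iff, ← hfr]
    exact sup_le h1 (Subgroup.normalCore_le M)
  have hn : ((S : Subgroup P) ⊓ M.normalCore).Normal := Subgroup.normalizer_eq_top_iff.mp htop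
  exact le_pCore hn (S.isPGroup'.to_le inf_le_left)

/-- a finite subgroup generated by a conjugation-stable set is normalised. -/
theorem mem_normalizer_closure_of_conj_mem (T : Set P) (g : P)
    (h : ∀ x ∈ T, g * x * g⁻¹ ∈ T) :
    g ∈ Subgroup.normalizer ((Subgroup.closure T : Subgroup P) : Set P) := by
  apply Cfsg.Agent.Lib.Helper1.mem_normalizer_of_forall_conj_mem
  intro y hy
  induction hy using Subgroup.closure_induction with
  | mem x hx => exact Subgroup.subset_closure (h x hx)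
  | one => simp
  | mul x y _ _ hx hy =>
    have : g * (x * y) * g⁻¹ = (g * x * g⁻¹) * (g * y * g⁻¹) := by group
    rw [this]; exact Subgroup.mul_mem _ hx hy
  | inv x _ hx =>
    have : g * x⁻¹ * g⁻¹ = (g * x * g⁻¹)⁻¹ := by group
    rw [this]; exact Subgroup.inv_mem _ hx

/-- an `S`-invariant subnormal subgroup inside `M` lies in the core of `M`. -/
theorem pMinimal_subnormal_invariant_le_core (hP : IsPMinimal p P) (S : Sylow p P)
    (M : Subgroup P) (hM : IsCoatom M) (hSM : (S : Subgroup P) ≤ M) (X : Subgroup P)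
    (hX : X.IsSubnormal) (hSX : (S : Subgroup P) ≤ Subgroup.normalizer (X : Set P))
    (hXM : X ≤ M) : X ≤ M.normalCore := by
  set L : Subgroup P := Subgroup.normalClosure (X : Set P) with hL
  haveI hLn : L.Normal := Subgroup.normalClosure_normal
  have hXL : X ≤ L := Subgroup.le_normalClosure
  by_cases hLM : L ≤ M
  · exact le_trans hXL ((Subgroup.normal_le_normalCore).mpr hLM)
  · exfalso
    have hLS : L ⊔ (S : Subgroup P) = ⊤ := by
      by_contra hne
      exact hLM (le_trans le_sup_left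
        (pMinimal_le_of_sylow_le hP S M hM hSM _ le_sup_right hne))
    -- `X = L`
    have hXeq : X = L := by
      by_contra hne
      have hsub : (X.subgroupOf L).IsSubnormal := hX.subgroupOf
      have hsubne : X.subgroupOf L ≠ ⊤ := by
        intro h
        rw [Subgroup.subgroupOf_eq_top] at h
        exact hne (le_antisymm hXL h)
      obtain ⟨K', hK'n, hXK', hK'lt⟩ := hsub.exists_normal_and_le_and_lt_top_of_ne hsubne
      -- the subgroup generated by the `L`-conjugates of `X`
      set T : Set P := {y | ∃ l ∈ L, ∃ x ∈ X, y = l * x * l⁻¹} with hT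
      have hTK : Subgroup.closure T ≤ K'.map L.subtype := by
        rw [Subgroup.closure_le]
        rintro _ ⟨l, hl, x, hx, rfl⟩
        have hx' : (⟨x, hXL hx⟩ : ↥L) ∈ K' := hXK' (by
          rw [Subgroup.mem_subgroupOf]; exact hx)
        have := hK'n.conj_mem _ hx' ⟨l, hl⟩
        exact ⟨_, this, rfl⟩
      have hXT : X ≤ Subgroup.closure T := by
        intro x hx
        apply Subgroup.subset_closure
        exact ⟨1, Subgroup.one_mem _, x, hx, by group⟩
      have hnorm : Subgroup.normalizer ((Subgroup.closure T : Subgroup P) : Set P) = ⊤ := by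
        rw [eq_top_iff, ← hLS]
        apply sup_le
        · intro g hg
          apply mem_normalizer_closure_of_conj_mem
          rintro _ ⟨l, hl, x, hx, rfl⟩
          exact ⟨g * l, Subgroup.mul_mem _ hg hl, x, hx, by group⟩
        · intro s hs
          apply mem_normalizer_closure_of_conj_mem
          rintro _ ⟨l, hl, x, hx, rfl⟩
          refine ⟨s * l * s⁻¹, hLn.conj_mem l hl s, s * x * s⁻¹, ?_, by group⟩
          exact (Subgroup.mem_normalizer_iff.mp (hSX hs) x).mp hx
      haveI hTn : (Subgroup.closure T).Normal := Subgroup.normalizer_eq_top_iff.mp hnorm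
      have hLT : L ≤ Subgroup.closure T := Subgroup.normalClosure_le_normal hXT
      have hK'top : K' = ⊤ := by
        rw [eq_top_iff]
        intro l _
        obtain ⟨l', hl', hll'⟩ := hTK (hLT l.2)
        have : l' = l := Subtype.ext hll'
        rw [← this]; exact hl'
      exact hK'lt.ne hK'top
    exact hLM (hXeq ▸ hXM)

/-- S2905 (1). -/
theorem pMinimal_subnormal_inf_sylow_le_pCore (hP : IsPMinimal p P) (S : Sylow p P)
    (M : Subgroup P) (hM : IsCoatom M) (hSM : (S : Subgroup P) ≤ M) (N : Subgroup P)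
    (hN : N.IsSubnormal) (hNM : N ≤ M) : N ⊓ (S : Subgroup P) ≤ pCore p P := by
  set T : Set P := {y | ∃ s ∈ (S : Subgroup P), ∃ x ∈ N, y = s * x * s⁻¹} with hT
  set X : Subgroup P := Subgroup.closure T with hX
  have hXeq : X = sSup {U : Subgroup P | ∃ s ∈ (S : Subgroup P), U = MulAut.conj s • N} := by
    apply le_antisymm
    · rw [hX, Subgroup.closure_le]
      rintro _ ⟨s, hs, x, hx, rfl⟩
      have h1 : MulAut.conj s • N ≤
          sSup {U : Subgroup P | ∃ s ∈ (S : Subgroup P), U = MulAut.conj s • N} :=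
        le_sSup ⟨s, hs, rfl⟩
      apply h1
      rw [Cfsg.Agent.Lib.Helper1.mem_conj_smul_iff]
      have : s⁻¹ * (s * x * s⁻¹) * s = x := by group
      rw [this]; exact hx
    · apply sSup_le
      rintro U ⟨s, hs, rfl⟩
      intro y hy
      rw [Cfsg.Agent.Lib.Helper1.mem_conj_smul_iff] at hy
      apply Subgroup.subset_closure
      exact ⟨s, hs, s⁻¹ * y * s, hy, by group⟩
  have hXsub : X.IsSubnormal := by
    rw [hXeq]
    apply Cfsg.Agent.Lib.Helper4.isSubnormal_sSup
    rintro U ⟨s, -, rfl⟩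
    exact hN.smul _
  have hXM : X ≤ M := by
    rw [hX, Subgroup.closure_le]
    rintro _ ⟨s, hs, x, hx, rfl⟩
    exact M.mul_mem (M.mul_mem (hSM hs) (hNM hx)) (M.inv_mem (hSM hs))
  have hSX : (S : Subgroup P) ≤ Subgroup.normalizer (X : Set P) := by
    intro t ht
    apply mem_normalizer_closure_of_conj_mem
    rintro _ ⟨s, hs, x, hx, rfl⟩
    exact ⟨t * s, Subgroup.mul_mem _ ht hs, x, hx, by group⟩
  have hXF := pMinimal_subnormal_invariant_le_core hP S M hM hSM X hXsub hSX hXM
  have hNX : N ≤ X := by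
    intro x hx
    apply Subgroup.subset_closure
    exact ⟨1, Subgroup.one_mem _, x, hx, by group⟩
  refine le_trans ?_ (pMinimal_core_inf_sylow_le_pCore hP S M hM hSM)
  intro x hx
  exact Subgroup.mem_inf.mpr ⟨hx.2, hXF (hNX hx.1)⟩

end PMinimal2

-- PM3 START
section PMinimal3

variable {P : Type*} [Group P] [Finite P] {p : ℕ} [hpp : Fact p.Prime]

/-- a subgroup of index prime to `p` contains a Sylow `p`-subgroup. -/
theorem exists_sylow_le_of_index_coprime (B : Subgroup P) (h : ¬ p ∣ B.index) :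
    ∃ S : Sylow p P, (S : Subgroup P) ≤ B := by
  obtain ⟨P₀⟩ : Nonempty (Sylow p B) := inferInstance
  have hpg : IsPGroup p ((P₀ : Subgroup B).map B.subtype) := P₀.isPGroup'.map B.subtype
  have hidx2 : ¬ p ∣ ((P₀ : Subgroup B).map B.subtype).index := by
    rw [Subgroup.index_map_subtype]
    exact Nat.Prime.not_dvd_mul hpp.out P₀.not_dvd_index h
  refine ⟨hpg.toSylow hidx2, ?_⟩
  show (P₀ : Subgroup B).map B.subtype ≤ B
  exact Subgroup.map_subtype_le _

theorem index_mul_card_inf_of_sup_eq_top (N R : Subgroup P) [hR : R.Normal] (h : N ⊔ R = ⊤) :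
    N.index * Nat.card ↥(N ⊓ R) = Nat.card ↥R := by
  have hnorm : N ≤ Subgroup.normalizer (R : Set P) := by
    rw [Subgroup.normalizer_eq_top_iff.mpr hR]; exact le_top
  have h1 := Cfsg.Agent.Lib.Helper4.card_sup_mul_card_inf N R hnorm
  rw [h, Subgroup.card_top] at h1
  have h2 := N.card_mul_index
  have hpos : 0 < Nat.card ↥N := Nat.card_pos
  apply Nat.eq_of_mul_eq_mul_left hpos
  calc Nat.card ↥N * (N.index * Nat.card ↥(N ⊓ R))
      = (Nat.card ↥N * N.index) * Nat.card ↥(N ⊓ R) := by ring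
    _ = Nat.card P * Nat.card ↥(N ⊓ R) := by rw [h2]
    _ = Nat.card ↥N * Nat.card ↥R := h1

/-- a prime dividing the order of a `q`-group is `q`. -/
theorem eq_of_prime_dvd_card_isPGroup {q ℓ : ℕ} [Fact q.Prime] (hℓ : ℓ.Prime) (H : Subgroup P)
    (hH : IsPGroup q ↥H) (h : ℓ ∣ Nat.card ↥H) : ℓ = q := by
  obtain ⟨n, hn⟩ := IsPGroup.iff_card.mp hH
  rw [hn] at h
  exact (Nat.prime_dvd_prime_iff_eq hℓ Fact.out).mp (hℓ.dvd_of_dvd_pow h)

/-- S2905 (2), the key step for one prime `q ≠ p`. -/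
theorem pMinimal_two_primes_or_sylow_le (hP : IsPMinimal p P) (S : Sylow p P)
    (M : Subgroup P) (hM : IsCoatom M) (hSM : (S : Subgroup P) ≤ M)
    (hcl : ∀ T : Sylow p ↥(pResidual p P), (T : Subgroup ↥(pResidual p P)).Normal)
    (q : ℕ) [hq : Fact q.Prime] (hqp : q ≠ p) :
    (∀ ℓ : ℕ, ℓ.Prime → ℓ ∣ Nat.card P → ℓ = p ∨ ℓ = q) ∨
      ∃ Qq : Sylow q P, (Qq : Subgroup P) ≤ M := by
  set R : Subgroup P := pResidual p P with hR
  haveI hRn : R.Normal := pResidual_normal
  -- the normal Sylow `p`-subgroup of `R`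
  obtain ⟨P', hP'⟩ := exists_sylow_of_normal_inf S R
  set T₁ : Subgroup P := (S : Subgroup P) ⊓ R with hT₁
  have hP'n : (P' : Subgroup ↥R).Normal := hcl P'
  have hP'c : (P' : Subgroup ↥R).Characteristic := Sylow.characteristic_of_normal P' hP'n
  haveI hT₁n : T₁.Normal := by
    rw [← hP']; infer_instance
  have hT₁card : Nat.card ↥T₁ = p ^ (Nat.card ↥R).factorization p := by
    rw [← hP', Subgroup.card_map_of_injective (Subgroup.subtype_injective _)]
    exact P'.card_eq_multiplicity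
  have hT₁p : IsPGroup p ↥T₁ := S.isPGroup'.to_le inf_le_left
  -- a Sylow `q`-subgroup, inside `R`
  obtain ⟨Qq⟩ : Nonempty (Sylow q P) := inferInstance
  have hQR : (Qq : Subgroup P) ≤ R := by
    intro x hx
    apply mem_pResidual_of_coprime
    obtain ⟨k, hk⟩ := Qq.isPGroup' ⟨x, hx⟩
    have hk' : x ^ (q ^ k) = 1 := by simpa using congrArg Subtype.val hk
    have h1 : orderOf x ∣ q ^ k := orderOf_dvd_of_pow_eq_one hk'
    apply Nat.Coprime.coprime_dvd_left h1
    apply Nat.Coprime.pow_left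
    exact (Nat.coprime_primes hq.out hpp.out).mpr hqp
  have hfr := Sylow.normalizer_sup_eq_top' Qq hQR
  set Y : Subgroup P := (Qq : Subgroup P) ⊔ T₁ with hY
  -- `N_P(Q_q) T₁` normalises `Y`
  have hNY : Subgroup.normalizer ((Qq : Subgroup P) : Set P) ⊔ T₁ ≤
      Subgroup.normalizer (Y : Set P) := by
    apply sup_le
    · intro g hg
      apply Cfsg.Agent.Lib.Helper1.mem_normalizer_of_forall_conj_mem
      intro y hy
      rw [hY, Subgroup.mem_sup_of_normal_right] at hy ⊢
      obtain ⟨a, ha, b, hb, rfl⟩ := hy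
      refine ⟨g * a * g⁻¹, (Subgroup.mem_normalizer_iff.mp hg a).mp ha, g * b * g⁻¹,
        hT₁n.conj_mem b hb g, by group⟩
    · exact le_trans le_sup_right Subgroup.le_normalizer
  -- the index of `N_P(Q_q) T₁` is prime to `p`
  have hidx : ¬ p ∣ (Subgroup.normalizer ((Qq : Subgroup P) : Set P) ⊔ T₁).index := by
    intro hdvd
    have htop : (Subgroup.normalizer ((Qq : Subgroup P) : Set P) ⊔ T₁) ⊔ R = ⊤ := by
      rw [eq_top_iff]
      have hfr' : Subgroup.normalizer ((Qq : Subgroup P) : Set P) ⊔ R = ⊤ := hfr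
      rw [← hfr']
      exact sup_le_sup_right le_sup_left R
    have h1 := index_mul_card_inf_of_sup_eq_top _ R htop
    have h2 : T₁ ≤ (Subgroup.normalizer ((Qq : Subgroup P) : Set P) ⊔ T₁) ⊓ R :=
      le_inf le_sup_right inf_le_right
    have h3 : Nat.card ↥T₁ ∣
        Nat.card ↥((Subgroup.normalizer ((Qq : Subgroup P) : Set P) ⊔ T₁) ⊓ R : Subgroup P) :=
      Subgroup.card_dvd_of_le h2
    have h4 : p * Nat.card ↥T₁ ∣ Nat.card ↥R := by
      rw [← h1]; exact Nat.mul_dvd_mul hdvd h3
    rw [hT₁card, ← pow_succ'] at h4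
    exact Nat.pow_succ_factorization_not_dvd Nat.card_pos.ne' hpp.out h4
  obtain ⟨S', hS'⟩ := exists_sylow_le_of_index_coprime _ hidx
  obtain ⟨g, hg⟩ := MulAction.exists_smul_eq P S' S
  -- `S` normalises the conjugate `g • Y`
  set Y' : Subgroup P := MulAut.conj g • Y with hY'
  have hSY' : (S : Subgroup P) ≤ Subgroup.normalizer (Y' : Set P) := by
    intro s hs
    rw [hY', ← Cfsg.Agent.Lib.Helper1.conj_smul_normalizer,
      Cfsg.Agent.Lib.Helper1.mem_conj_smul_iff]
    apply hNY
    apply hS'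
    rw [← hg, Cfsg.Agent.Lib.Helper1.mem_sylow_smul_iff] at hs
    exact hs
  have hQY' : ((g • Qq : Sylow q P) : Subgroup P) ≤ Y' := by
    intro x hx
    rw [Cfsg.Agent.Lib.Helper1.mem_sylow_smul_iff] at hx
    rw [hY', Cfsg.Agent.Lib.Helper1.mem_conj_smul_iff]
    exact (le_sup_left : (Qq : Subgroup P) ≤ Y) hx
  by_cases hZ : Y' ⊔ (S : Subgroup P) = ⊤
  · left
    intro ℓ hℓ hdvd
    have h1 := Cfsg.Agent.Lib.Helper4.card_sup_mul_card_inf (S : Subgroup P) Y' hSY'
    rw [sup_comm, hZ, Subgroup.card_top] at h1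
    have h2 : Nat.card ↥Y' = Nat.card ↥Y :=
      (Nat.card_congr (Subgroup.equivSMul (MulAut.conj g) Y).toEquiv).symm
    have hnormT : (Qq : Subgroup P) ≤ Subgroup.normalizer (T₁ : Set P) := by
      rw [Subgroup.normalizer_eq_top_iff.mpr hT₁n]; exact le_top
    have h3 := Cfsg.Agent.Lib.Helper4.card_sup_mul_card_inf (Qq : Subgroup P) T₁ hnormT
    have h4 : ℓ ∣ Nat.card ↥(S : Subgroup P) * Nat.card ↥Y' := by
      rw [← h1]; exact Dvd.dvd.mul_right hdvd _
    rcases (Nat.Prime.dvd_mul hℓ).mp h4 with h5 | h5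
    · left
      exact eq_of_prime_dvd_card_isPGroup hℓ _ S.isPGroup' h5
    · rw [h2] at h5
      have h6 : ℓ ∣ Nat.card ↥(Qq : Subgroup P) * Nat.card ↥T₁ := by
        rw [← h3]; exact Dvd.dvd.mul_right h5 _
      rcases (Nat.Prime.dvd_mul hℓ).mp h6 with h7 | h7
      · right
        exact eq_of_prime_dvd_card_isPGroup hℓ _ Qq.isPGroup' h7
      · left
        exact eq_of_prime_dvd_card_isPGroup hℓ _ hT₁p h7
  · right
    refine ⟨g • Qq, ?_⟩
    have h1 := pMinimal_le_of_sylow_le hP S M hM hSM _ le_sup_right hZ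
    exact le_trans hQY' (le_trans le_sup_left h1)

/-- S2905 (2). -/
theorem pMinimal_two_primes (hP : IsPMinimal p P) (S : Sylow p P)
    (M : Subgroup P) (hM : IsCoatom M) (hSM : (S : Subgroup P) ≤ M)
    (hcl : ∀ T : Sylow p ↥(pResidual p P), (T : Subgroup ↥(pResidual p P)).Normal) :
    (Nat.card P).primeFactors.card ≤ 2 := by
  by_contra hcard
  -- every prime `q ≠ p` has a Sylow subgroup inside `M`
  have hall : ∀ q : ℕ, q.Prime → q ≠ p → ∃ H : Subgroup P, H ≤ M ∧ ¬ q ∣ H.index := by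
    intro q hq hqp
    haveI : Fact q.Prime := ⟨hq⟩
    rcases pMinimal_two_primes_or_sylow_le hP S M hM hSM hcl q hqp with h | ⟨Qq, hQq⟩
    · exfalso
      apply hcard
      have hsub : (Nat.card P).primeFactors ⊆ {p, q} := by
        intro ℓ hℓ
        rw [Nat.mem_primeFactors] at hℓ
        rcases h ℓ hℓ.1 hℓ.2.1 with rfl | rfl
        · exact Finset.mem_insert_self _ _
        · exact Finset.mem_insert_of_mem (Finset.mem_singleton_self _)
      exact le_trans (Finset.card_le_card hsub) Finset.card_le_two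
    · exact ⟨Qq, hQq, Qq.not_dvd_index⟩
  apply hM.1
  rw [← Subgroup.index_eq_one, Nat.eq_one_iff_not_exists_prime_dvd]
  intro ℓ hℓ hdvd
  by_cases hℓp : ℓ = p
  · subst hℓp
    exact S.not_dvd_index (hdvd.trans (Subgroup.index_dvd_of_le hSM))
  · obtain ⟨H, hHM, hH⟩ := hall ℓ hℓ hℓp
    exact hH (hdvd.trans (Subgroup.index_dvd_of_le hHM))

end PMinimal3

end Cfsg.Agent.Lib.Helper16
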