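/-
Helper16 library: components of `p`-minimal groups with `O_p(P) = 1` (S2906):
`O^p(P) = F*(P) = E(P)` is generated by the `S`-conjugates of a component `K`,
and `K N_S(K)` is again `p`-minimal.
-/
import Mathlib
import Cfsg.Prelude.Def_LocalEven
import Cfsg.Prelude.Def_Local
import Cfsg.Prelude.Def_Transfer
import Cfsg.Agent.Lib.Helper16.PMinimal
import Cfsg.Agent.Lib.Helper16.QuasisimpleResidual
import Cfsg.Agent.Lib.Helper16.McBride
import Cfsg.Agent.Lib.Helper16.Amalgam4
import Cfsg.Agent.Lib.Helper16.Subnormal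
import Cfsg.Agent.Lib.Helper8.FStar
import Cfsg.Agent.Lib.Helper9.Components
import Cfsg.Agent.Lib.Helper9.FStar3
import Cfsg.Agent.Lib.Helper9.FStar4
import Cfsg.Agent.Lib.Helper9.Quasisimple
import Cfsg.Agent.Lib.Helper9.PComponent
import Cfsg.Agent.Lib.Helper1.Fitting
import Cfsg.Agent.Lib.Helper8.SupNormalizer

set_option autoImplicit false
set_option linter.style.haveILetI false
set_option linter.unusedSectionVars false
open Cfsg
open scoped Pointwise commutatorElement

namespace Cfsg.Agent.Lib.Helper16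

section PMinimalComponents

variable {P : Type*} [Group P] [Finite P] {p : ℕ} [hpp : Fact p.Prime]

/-- a normal `p'`-subgroup of a `p`-minimal group not containing `O^p(P)` is nilpotent. -/
theorem pMinimal_isNilpotent_of_normal (hP : IsPMinimal p P) (N : Subgroup P) [hN : N.Normal]
    (hRN : ¬ pResidual p P ≤ N) (hcop : ¬ p ∣ Nat.card ↥N) : Group.IsNilpotent ↥N := by
  apply (Group.isNilpotent_of_finite_tfae (G := ↥N)).out 3 0 |>.mp
  intro q hq Xq
  apply Subgroup.Normal.of_map_subtype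
  -- Frattini
  have hfr := Sylow.normalizer_sup_eq_top Xq
  set Y : Subgroup P := (Xq : Subgroup ↥N).map N.subtype with hY
  have hidx : ¬ p ∣ (Subgroup.normalizer (Y : Set P)).index := by
    intro hdvd
    have h1 := index_mul_card_inf_of_sup_eq_top (Subgroup.normalizer (Y : Set P)) N hfr
    exact hcop (Dvd.dvd.trans (Dvd.dvd.mul_right hdvd _) (dvd_of_eq h1))
  obtain ⟨S', hS'⟩ := exists_sylow_le_of_index_coprime (p := p) _ hidx
  obtain ⟨-, M', ⟨hM', hSM'⟩, -⟩ := hP S'
  have hNM' : N ≤ M' := by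
    rcases pMinimal_normal_dichotomy hP S' M' hM' hSM' N hN with h | h
    · exact absurd h hRN
    · exact le_trans h (Subgroup.normalCore_le M')
  rw [← Subgroup.normalizer_eq_top_iff]
  by_contra hne
  have h1 := pMinimal_le_of_sylow_le hP S' M' hM' hSM' _ hS' hne
  apply hM'.1
  rw [eq_top_iff, ← hfr]
  exact sup_le h1 hNM'

/-- a normal subgroup containing a component contains `O^p(P)` (when `O_p(P) = 1`). -/
theorem pMinimal_pResidual_le_of_component_le (hP : IsPMinimal p P) (hOp : pCore p P = ⊥)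
    (K : Subgroup P) (hK : IsComponent K) (N : Subgroup P) [hN : N.Normal] (hKN : K ≤ N) :
    pResidual p P ≤ N := by
  by_contra hRN
  obtain ⟨S⟩ : Nonempty (Sylow p P) := inferInstance
  obtain ⟨-, M, ⟨hM, hSM⟩, -⟩ := hP S
  have hNF : N ≤ M.normalCore := by
    rcases pMinimal_normal_dichotomy hP S M hM hSM N hN with h | h
    · exact absurd h hRN
    · exact h
  have hSN : (S : Subgroup P) ⊓ N = ⊥ := by
    have := pMinimal_core_inf_sylow_le_pCore hP S M hM hSM
    rw [hOp] at this
    exact le_bot_iff.mp (le_trans (inf_le_inf_left _ hNF) this)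
  have hcop : ¬ p ∣ Nat.card ↥N := by
    intro hdvd
    obtain ⟨P', hP'⟩ := exists_sylow_of_normal_inf S N
    rw [hSN, Subgroup.map_eq_bot_iff_of_injective _ N.subtype_injective] at hP'
    exact P'.ne_bot_of_dvd_card hdvd hP'
  have hnil := pMinimal_isNilpotent_of_normal hP N hRN hcop
  have hKnil : Group.IsNilpotent ↥K := Cfsg.Agent.Lib.Helper9.isNilpotent_of_le hKN hnil
  exact Cfsg.Agent.Lib.Helper9.IsQuasisimple_not_isSolvable hK.2 inferInstance

/-- a component lies in `O^p(P)`. -/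
theorem component_le_pResidual (K : Subgroup P) (hK : IsComponent K) : K ≤ pResidual p P := by
  have hperf : ⁅K, K⁆ = K := Subgroup.isPerfect_iff.mp hK.2.1
  have hQp : IsPGroup p (P ⧸ pResidual p P) := pResidual_quotient_isPGroup
  haveI : Group.IsNilpotent (P ⧸ pResidual p P) := hQp.isNilpotent
  exact perfect_le_of_solvable_quotient hperf

/-- S2906 (i)–(iii). -/
theorem pMinimal_layer_facts (hP : IsPMinimal p P) (hOp : pCore p P = ⊥) (S : Sylow p P)
    (K : Subgroup P) (hK : IsComponent K) :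
    pResidual p P = generalizedFittingSubgroup P ∧
      generalizedFittingSubgroup P = layer P ∧
      layer P = ⨆ s : ↥(S : Subgroup P), K.map (MulAut.conj (s : P)).toMonoidHom := by
  haveI hEn : (layer P).Normal := Cfsg.Agent.Lib.Helper8.layer_normal P
  have hKE : K ≤ layer P := Cfsg.Agent.Lib.Helper8.component_le_layer hK
  have hRE : pResidual p P ≤ layer P := pMinimal_pResidual_le_of_component_le hP hOp K hK _ hKE
  have hER : layer P ≤ pResidual p P := by
    apply sSup_le
    intro K' hK'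
    exact component_le_pResidual K' hK'
  have hFR : fittingSubgroup P ≤ pResidual p P := fitting_le_pResidual hOp
  have hEeq : layer P = pResidual p P := le_antisymm hER hRE
  have hFstar : generalizedFittingSubgroup P = layer P := by
    unfold generalizedFittingSubgroup
    exact le_antisymm (sup_le le_rfl (hFR.trans hRE)) le_sup_left
  refine ⟨by rw [hFstar, hEeq], hFstar, ?_⟩
  -- the join of the `S`-conjugates of `K`
  set 𝒰 : Set (Subgroup P) :=
    {U | ∃ s ∈ (S : Subgroup P), U = K.map (MulAut.conj s).toMonoidHom} with h𝒰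
  have hE₁ : (⨆ s : ↥(S : Subgroup P), K.map (MulAut.conj (s : P)).toMonoidHom) = sSup 𝒰 := by
    apply le_antisymm
    · apply iSup_le
      intro s
      exact le_sSup ⟨s, s.2, rfl⟩
    · apply sSup_le
      rintro U ⟨s, hs, rfl⟩
      exact le_iSup (fun s : ↥(S : Subgroup P) => K.map (MulAut.conj (s : P)).toMonoidHom) ⟨s, hs⟩
  rw [hE₁]
  have hcomp : ∀ U ∈ 𝒰, IsComponent U := by
    rintro U ⟨s, -, rfl⟩
    exact Cfsg.Agent.Lib.Helper8.isComponent_map_conj hK s
  have hle : sSup 𝒰 ≤ layer P := by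
    apply sSup_le
    intro U hU
    exact Cfsg.Agent.Lib.Helper8.component_le_layer (hcomp U hU)
  -- `sSup 𝒰` is normal
  have hnormS : (S : Subgroup P) ≤ Subgroup.normalizer ((sSup 𝒰 : Subgroup P) : Set P) := by
    apply le_normalizer_sSup_of_conj_mem
    rintro b hb U ⟨s, hs, rfl⟩
    refine ⟨b * s, Subgroup.mul_mem _ hb hs, ?_⟩
    rw [Subgroup.map_map]
    congr 1
    ext x
    simp [MulAut.conj_apply, mul_assoc]
  have hnormE : layer P ≤ Subgroup.normalizer ((sSup 𝒰 : Subgroup P) : Set P) := by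
    apply le_normalizer_sSup_of_conj_mem
    intro b hb U hU
    have h1 := Cfsg.Agent.Lib.Helper9.layer_le_normalizer_of_isSubnormal (hcomp U hU).1 hb
    have h2 : U.map (MulAut.conj b).toMonoidHom = U :=
      Subgroup.mem_normalizer_iff_map_conj_eq.mp h1
    rw [h2]; exact hU
  have htop : layer P ⊔ (S : Subgroup P) = ⊤ :=
    eq_top_of_sylow_le_of_pResidual_le S le_sup_right (hRE.trans le_sup_left)
  haveI hn : (sSup 𝒰).Normal := by
    rw [← Subgroup.normalizer_eq_top_iff, eq_top_iff, ← htop]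
    exact sup_le hnormE hnormS
  have hK𝒰 : K ≤ sSup 𝒰 := by
    apply le_sSup
    refine ⟨1, Subgroup.one_mem _, ?_⟩
    ext x
    simp
  have := pMinimal_pResidual_le_of_component_le hP hOp K hK (sSup 𝒰) hK𝒰
  exact le_antisymm (hEeq ▸ this) hle

end PMinimalComponents


section PMinimalComponents2

variable {P : Type*} [Group P] [Finite P] {p : ℕ} [hpp : Fact p.Prime]

/-- a component of a `p`-minimal group with `O_p(P) = 1` has order divisible by `p`. -/
theorem pMinimal_component_dvd_card (hP : IsPMinimal p P) (hOp : pCore p P = ⊥)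
    (K : Subgroup P) (hK : IsComponent K) : p ∣ Nat.card ↥K := by
  by_contra hndvd
  have hp : p.Prime := hpp.out
  have hcopK : (Nat.card ↥K).Coprime p := (Nat.Coprime.symm ((Nat.Prime.coprime_iff_not_dvd hp).mpr hndvd))
  set N : Subgroup P := pPrimeCore p P with hN
  haveI hNn : N.Normal := Cfsg.Agent.Lib.Helper1.pPrimeCore_normal p P
  have hKN : K ≤ N := Cfsg.Agent.Lib.Helper9.subnormal_le_pPrimeCore p hK.1 hcopK
  have hRN : pResidual p P ≤ N := pMinimal_pResidual_le_of_component_le hP hOp K hK N hKN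
  have hNcop : (Nat.card ↥N).Coprime p := Cfsg.Agent.Lib.Helper12.pPrimeCore_coprime p
  have hRcop : (Nat.card ↥(pResidual p P)).Coprime p :=
    Nat.Coprime.coprime_dvd_left (Subgroup.card_dvd_of_le hRN) hNcop
  obtain ⟨S⟩ : Nonempty (Sylow p P) := inferInstance
  obtain ⟨hSn, M, ⟨hM, hSM⟩, -⟩ := hP S
  have hcl : ∀ T : Sylow p ↥(pResidual p P), (T : Subgroup ↥(pResidual p P)).Normal := by
    intro T
    have hT : (T : Subgroup ↥(pResidual p P)) = ⊥ := by
      rcases T.isPGroup'.card_eq_or_dvd with h1 | h1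
      · exact Subgroup.card_eq_one.mp h1
      · exfalso
        have h2 : p ∣ Nat.card ↥(pResidual p P) :=
          Dvd.dvd.trans h1 (Subgroup.card_subgroup_dvd_card _)
        exact (Nat.Prime.coprime_iff_not_dvd hp).mp hRcop.symm h2
    rw [hT]
    infer_instance
  have h2 := pMinimal_two_primes hP S M hM hSM hcl
  -- `p` divides `|P|`
  have hpP : p ∣ Nat.card P := by
    rcases S.isPGroup'.card_eq_or_dvd with h1 | h1
    · exfalso
      apply hSn
      rw [Subgroup.card_eq_one.mp h1]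
      infer_instance
    · exact Dvd.dvd.trans h1 (Subgroup.card_subgroup_dvd_card _)
  have hKP : Nat.card ↥K ∣ Nat.card P := Subgroup.card_subgroup_dvd_card K
  have hsub : (Nat.card ↥K).primeFactors ⊆ (Nat.card P).primeFactors.erase p := by
    intro q hq
    rw [Finset.mem_erase]
    refine ⟨?_, Nat.primeFactors_mono hKP Nat.card_pos.ne' hq⟩
    rintro rfl
    exact hndvd (Nat.dvd_of_mem_primeFactors hq)
  have hcard : (Nat.card ↥K).primeFactors.card ≤ 1 := by
    have h3 := Finset.card_le_card hsub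
    have h4 : p ∈ (Nat.card P).primeFactors :=
      Nat.mem_primeFactors.mpr ⟨hp, hpP, Nat.card_pos.ne'⟩
    rw [Finset.card_erase_of_mem h4] at h3
    omega
  have hnil : Group.IsNilpotent ↥K := by
    rcases Nat.lt_or_ge (Nat.card ↥K).primeFactors.card 1 with h0 | h1
    · have h5 : (Nat.card ↥K).primeFactors = ∅ := Finset.card_eq_zero.mp (by omega)
      rw [Nat.primeFactors_eq_empty] at h5
      rcases h5 with h5 | h5
      · exact absurd h5 Nat.card_pos.ne'
      · haveI : Subsingleton ↥K := (Nat.card_eq_one_iff_unique.mp h5).1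
        infer_instance
    · have h5 : (Nat.card ↥K).primeFactors.card = 1 := le_antisymm hcard h1
      obtain ⟨q, k, hq, hk, hqk⟩ := (isPrimePow_nat_iff _).mp
        (isPrimePow_iff_card_primeFactors_eq_one.mpr h5)
      haveI : Fact q.Prime := ⟨hq⟩
      exact (IsPGroup.of_card hqk.symm).isNilpotent
  exact Cfsg.Agent.Lib.Helper9.IsQuasisimple_not_isSolvable hK.2 inferInstance

/-- in a `p`-minimal group with `O_p(P) = 1`, a component does not normalize its Sylow
`p`-subgroup `S ∩ K`. -/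
theorem pMinimal_component_not_le_normalizer (hP : IsPMinimal p P) (hOp : pCore p P = ⊥)
    (S : Sylow p P) (K : Subgroup P) (hK : IsComponent K) :
    ¬ K ≤ Subgroup.normalizer (((S : Subgroup P) ⊓ K : Subgroup P) : Set P) := by
  intro hn
  have hsn : ((S : Subgroup P) ⊓ K).IsSubnormal :=
    Cfsg.Agent.Lib.Helper9.isSubnormal_of_le_normalizer inf_le_right hK.1 hn
  have hpg : IsPGroup p ↥((S : Subgroup P) ⊓ K) := S.isPGroup'.to_le inf_le_left
  have hbot : (S : Subgroup P) ⊓ K = ⊥ := by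
    have := le_pCore_of_subnormal _ hsn hpg
    rw [hOp] at this
    exact le_bot_iff.mp this
  have hdvd := pMinimal_component_dvd_card hP hOp K hK
  have hrel := Cfsg.Agent.Lib.Helper4.not_dvd_relIndex_of_isSubnormal hK.1 S
  have hcard := Cfsg.Agent.Lib.Helper4.card_mul_relIndex (inf_le_right : (S : Subgroup P) ⊓ K ≤ K)
  rw [hbot, Subgroup.card_bot, one_mul, ← hbot, Subgroup.inf_relIndex_right] at hcard
  rw [hcard] at hrel
  exact hrel hdvd

/-- S2906, the key step: a maximal subgroup of `K N_S(K)` containing `N_S(K)` lies in `M`. -/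
theorem pMinimal_component_maximal_le (hP : IsPMinimal p P) (hOp : pCore p P = ⊥)
    (S : Sylow p P) (M : Subgroup P) (hM : IsCoatom M) (hSM : (S : Subgroup P) ≤ M)
    (K : Subgroup P) (hK : IsComponent K) (H : Subgroup P)
    (hTH : (S : Subgroup P) ⊓ Subgroup.normalizer (K : Set P) ≤ H)
    (hHX : H ≤ K ⊔ ((S : Subgroup P) ⊓ Subgroup.normalizer (K : Set P)))
    (hKH : ¬ K ≤ H)
    (hmax : ∀ L : Subgroup P, H ≤ L →
      L ≤ K ⊔ ((S : Subgroup P) ⊓ Subgroup.normalizer (K : Set P)) →
      L = H ∨ L = K ⊔ ((S : Subgroup P) ⊓ Subgroup.normalizer (K : Set P))) :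
    H ≤ M := by
  set T₀ : Subgroup P := (S : Subgroup P) ⊓ Subgroup.normalizer (K : Set P) with hT₀
  set X : Subgroup P := K ⊔ T₀ with hX
  have hT₀N : T₀ ≤ Subgroup.normalizer (K : Set P) := inf_le_right
  have hXN : X ≤ Subgroup.normalizer (K : Set P) := sup_le Subgroup.le_normalizer hT₀N
  have hHN : H ≤ Subgroup.normalizer (K : Set P) := hHX.trans hXN
  set B₁ : Subgroup P := H ⊓ K with hB₁
  have hHB₁ : H ≤ Subgroup.normalizer (B₁ : Set P) := by
    intro h hh
    exact Cfsg.Agent.Lib.Helper9.mem_normalizer_inf (Subgroup.le_normalizer hh) (hHN hh)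
  have hEN : layer P ≤ Subgroup.normalizer (K : Set P) :=
    Cfsg.Agent.Lib.Helper9.layer_le_normalizer_of_isSubnormal hK.1
  suffices hB₁M : B₁ ≤ M by
    intro h hh
    obtain ⟨k, hk, t, ht, rfl⟩ := Cfsg.Agent.Lib.Helper8.mem_sup_of_le_normalizer hT₀N (hHX hh)
    have hkH : k ∈ H := by
      have := H.mul_mem hh (H.inv_mem (hTH ht))
      simpa using this
    exact M.mul_mem (hB₁M ⟨hkH, hk⟩) (hSM ht.1)
  set T : Set P := {y | ∃ s ∈ (S : Subgroup P), ∃ x ∈ B₁, y = s * x * s⁻¹} with hT
  set B : Subgroup P := Subgroup.closure T with hB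
  have hB₁B : B₁ ≤ B := by
    intro x hx
    exact Subgroup.subset_closure ⟨1, Subgroup.one_mem _, x, hx, by simp⟩
  have hSB : (S : Subgroup P) ≤ Subgroup.normalizer (B : Set P) := by
    intro s hs
    apply mem_normalizer_closure_of_conj_mem
    rintro y ⟨s', hs', x, hx, rfl⟩
    exact ⟨s * s', Subgroup.mul_mem _ hs hs', x, hx, by group⟩
  by_cases hY : B ⊔ (S : Subgroup P) = ⊤
  swap
  · have := pMinimal_le_of_sylow_le hP S M hM hSM (B ⊔ (S : Subgroup P)) le_sup_right hY
    exact hB₁B.trans (le_sup_left.trans this)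
  exfalso
  apply hKH
  set C : Subgroup P := Subgroup.centralizer (K : Set P) with hC
  have hBle : B ≤ B₁ ⊔ C := by
    rw [hB, Subgroup.closure_le]
    rintro y ⟨s, hs, x, hx, rfl⟩
    by_cases hsN : s ∈ Subgroup.normalizer (K : Set P)
    · apply (le_sup_left : B₁ ≤ B₁ ⊔ C)
      have hsT : s ∈ T₀ := ⟨hs, hsN⟩
      have hsH : s ∈ H := hTH hsT
      exact (Subgroup.mem_normalizer_iff.mp (hHB₁ hsH) x).mp hx
    · apply (le_sup_right : C ≤ B₁ ⊔ C)
      have hKsne : K.map (MulAut.conj s).toMonoidHom ≠ K := by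
        intro h
        exact hsN (Subgroup.mem_normalizer_iff_map_conj_eq.mpr h)
      have hcomm := Cfsg.Agent.Lib.Helper9.components_commute _ K
        (Cfsg.Agent.Lib.Helper8.isComponent_map_conj hK s) hK hKsne
      have hle : K.map (MulAut.conj s).toMonoidHom ≤ C :=
        Subgroup.commutator_eq_bot_iff_le_centralizer.mp hcomm
      apply hle
      exact ⟨x, hx.2, rfl⟩
  have hCB₁ : C ≤ Subgroup.normalizer (B₁ : Set P) := by
    intro c hc
    apply Cfsg.Agent.Lib.Helper1.mem_normalizer_of_forall_conj_mem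
    intro x hx
    have h1 : c * x = x * c := (Subgroup.mem_centralizer_iff.mp hc x hx.2).symm
    rw [h1]; simpa using hx
  have hBE : B ≤ layer P := by
    rw [hB, Subgroup.closure_le]
    rintro y ⟨s, hs, x, hx, rfl⟩
    exact (Cfsg.Agent.Lib.Helper8.layer_normal P).conj_mem x
      (Cfsg.Agent.Lib.Helper8.component_le_layer hK hx.2) s
  intro k hk
  have hkY : k ∈ B ⊔ (S : Subgroup P) := by rw [hY]; exact Subgroup.mem_top k
  obtain ⟨b, hb, s, hs, hkbs⟩ := Cfsg.Agent.Lib.Helper8.mem_sup_of_le_normalizer hSB hkY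
  obtain ⟨b₁, hb₁, c, hc, hbc⟩ := Cfsg.Agent.Lib.Helper8.mem_sup_of_le_normalizer hCB₁ (hBle hb)
  have hsN : s ∈ Subgroup.normalizer (K : Set P) := by
    have : s = b⁻¹ * k := by rw [hkbs]; group
    rw [this]
    exact Subgroup.mul_mem _ (Subgroup.inv_mem _ (hEN (hBE hb))) (Subgroup.le_normalizer hk)
  have hsT : s ∈ T₀ := ⟨hs, hsN⟩
  have hsH : s ∈ H := hTH hsT
  have hk₀K : c * s ∈ K := by
    have : c * s = b₁⁻¹ * k := by rw [hkbs, hbc]; group
    rw [this]
    exact K.mul_mem (K.inv_mem hb₁.2) hk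
  have hk₀N : c * s ∈ Subgroup.normalizer (B₁ : Set P) :=
    Subgroup.mul_mem _ (hCB₁ hc) (hHB₁ hsH)
  have hk₀X : c * s ∈ X := (le_sup_left : K ≤ X) hk₀K
  rcases hmax (X ⊓ Subgroup.normalizer (B₁ : Set P)) (le_inf hHX hHB₁) inf_le_left with hL | hL
  · have hk₀H : c * s ∈ H := by rw [← hL]; exact ⟨hk₀X, hk₀N⟩
    have : k = b₁ * (c * s) := by rw [hkbs, hbc]; group
    rw [this]
    exact H.mul_mem hb₁.1 hk₀H
  · exfalso
    have hXB₁ : X ≤ Subgroup.normalizer (B₁ : Set P) := by rw [← hL]; exact inf_le_right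
    have hKB₁ : K ≤ Subgroup.normalizer (B₁ : Set P) := le_sup_left.trans hXB₁
    have hne : B₁ ≠ K := by
      intro h
      apply hKH
      rw [← h]; exact inf_le_left
    have hcomm := Cfsg.Agent.Lib.Helper9.quasisimple_commutator_eq_bot_of_normal_ne K B₁ hK.2
      inf_le_right hKB₁ hne
    have hKC : K ≤ Subgroup.centralizer (B₁ : Set P) :=
      Subgroup.commutator_eq_bot_iff_le_centralizer.mp hcomm
    apply pMinimal_component_not_le_normalizer hP hOp S K hK
    intro k' hk'
    apply Cfsg.Agent.Lib.Helper1.mem_normalizer_of_forall_conj_mem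
    intro x hx
    have hxB₁ : x ∈ B₁ := ⟨hTH ⟨hx.1, Subgroup.le_normalizer hx.2⟩, hx.2⟩
    have h1 := Subgroup.mem_centralizer_iff.mp (hKC hk') x hxB₁
    rw [← h1]; simpa using hx

/-- if every coatom above `T` lies in the proper subgroup `M₀ ≥ T`, then `M₀` is the unique
coatom above `T`. -/
theorem existsUnique_coatom_of_forall_le {X : Type*} [Group X] [Finite X] (T M₀ : Subgroup X)
    (hTM : T ≤ M₀) (hM₀ : M₀ ≠ ⊤) (h : ∀ H : Subgroup X, IsCoatom H → T ≤ H → H ≤ M₀) :
    ∃! M : Subgroup X, IsCoatom M ∧ T ≤ M := by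
  rcases eq_top_or_exists_le_coatom M₀ with h0 | ⟨H₀, hH₀, hle⟩
  · exact absurd h0 hM₀
  have hH₀M : H₀ = M₀ := le_antisymm (h H₀ hH₀ (hTM.trans hle)) hle
  refine ⟨M₀, ⟨hH₀M ▸ hH₀, hTM⟩, ?_⟩
  rintro H ⟨hH, hTH⟩
  rcases hH.le_iff.mp (h H hH hTH) with h1 | h1
  · exact absurd h1 hM₀
  · exact h1.symm

/-- S2906 (iv): `K N_S(K)` is `p`-minimal. -/
theorem pMinimal_component_isPMinimal (hP : IsPMinimal p P) (hOp : pCore p P = ⊥)
    (S : Sylow p P) (K : Subgroup P) (hK : IsComponent K) :
    IsPMinimal p ↥(K ⊔ ((S : Subgroup P) ⊓ Subgroup.normalizer (K : Set P))) := by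
  set T₀ : Subgroup P := (S : Subgroup P) ⊓ Subgroup.normalizer (K : Set P) with hT₀
  set X : Subgroup P := K ⊔ T₀ with hX
  obtain ⟨-, M, ⟨hM, hSM⟩, -⟩ := hP S
  have hT₀X : T₀ ≤ X := le_sup_right
  have hT₀N : T₀ ≤ Subgroup.normalizer (K : Set P) := inf_le_right
  have hT₀K : T₀ ⊓ K = (S : Subgroup P) ⊓ K := by
    rw [hT₀, inf_assoc, inf_eq_right.mpr Subgroup.le_normalizer]
  have hpg : IsPGroup p ↥(T₀.subgroupOf X) :=
    (S.isPGroup'.to_le (inf_le_left : T₀ ≤ S)).comap_subtype
  have hidx : ¬ p ∣ (T₀.subgroupOf X).index := by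
    change ¬ p ∣ T₀.relIndex X
    have h1 := Cfsg.Agent.Lib.Helper4.card_mul_relIndex hT₀X
    have h2 := Cfsg.Agent.Lib.Helper4.card_sup_mul_card_inf T₀ K hT₀N
    have h3 := Cfsg.Agent.Lib.Helper4.card_mul_relIndex
      (inf_le_right : (S : Subgroup P) ⊓ K ≤ K)
    rw [Subgroup.inf_relIndex_right] at h3
    rw [hT₀K, sup_comm] at h2
    have h4 : T₀.relIndex X = (S : Subgroup P).relIndex K := by
      have hpos1 : 0 < Nat.card ↥T₀ := Nat.card_pos
      have hpos2 : 0 < Nat.card ↥((S : Subgroup P) ⊓ K) := Nat.card_pos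
      have : Nat.card ↥T₀ * Nat.card ↥((S : Subgroup P) ⊓ K) * T₀.relIndex X =
          Nat.card ↥T₀ * Nat.card ↥((S : Subgroup P) ⊓ K) * (S : Subgroup P).relIndex K := by
        calc Nat.card ↥T₀ * Nat.card ↥((S : Subgroup P) ⊓ K) * T₀.relIndex X
            = (Nat.card ↥T₀ * T₀.relIndex X) * Nat.card ↥((S : Subgroup P) ⊓ K) := by ring
          _ = Nat.card ↥X * Nat.card ↥((S : Subgroup P) ⊓ K) := by rw [h1]
          _ = Nat.card ↥T₀ * Nat.card ↥K := h2
          _ = Nat.card ↥T₀ * (Nat.card ↥((S : Subgroup P) ⊓ K) * (S : Subgroup P).relIndex K) := by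
            rw [h3]
          _ = _ := by ring
      exact Nat.eq_of_mul_eq_mul_left (Nat.mul_pos hpos1 hpos2) this
    rw [h4]
    exact Cfsg.Agent.Lib.Helper4.not_dvd_relIndex_of_isSubnormal hK.1 S
  apply isPMinimal_of_sylow (hpg.toSylow hidx)
  rw [IsPGroup.toSylow_coe]
  constructor
  · intro hn
    have hXT₀ : X ≤ Subgroup.normalizer (T₀ : Set P) :=
      (Subgroup.normal_subgroupOf_iff_le_normalizer hT₀X).mp hn
    apply pMinimal_component_not_le_normalizer hP hOp S K hK
    intro k hk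
    have h1 : k ∈ Subgroup.normalizer ((T₀ ⊓ K : Subgroup P) : Set P) :=
      Cfsg.Agent.Lib.Helper9.mem_normalizer_inf (hXT₀ ((le_sup_left : K ≤ X) hk))
        (Subgroup.le_normalizer hk)
    rwa [hT₀K] at h1
  · apply existsUnique_coatom_of_forall_le (T₀.subgroupOf X) (M.subgroupOf X)
    · intro x hx
      exact hSM (hx : (x : P) ∈ T₀).1
    · rw [Ne, Subgroup.subgroupOf_eq_top]
      intro hXM
      have hKM : K ≤ M := le_sup_left.trans hXM
      have hf := pMinimal_layer_facts hP hOp S K hK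
      have hEM : layer P ≤ M := by
        rw [hf.2.2]
        apply iSup_le
        intro s
        rintro _ ⟨x, hx, rfl⟩
        exact M.mul_mem (M.mul_mem (hSM s.2) (hKM hx)) (M.inv_mem (hSM s.2))
      have htop : layer P ⊔ (S : Subgroup P) = ⊤ :=
        eq_top_of_sylow_le_of_pResidual_le S le_sup_right
          ((le_of_eq (hf.1.trans hf.2.1)).trans le_sup_left)
      apply hM.1
      rw [eq_top_iff, ← htop]
      exact sup_le hEM hSM
    · intro H' hH' hTH'
      have hmapT : T₀ ≤ H'.map X.subtype := by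
        intro t ht
        exact ⟨⟨t, hT₀X ht⟩, hTH' (show ((⟨t, hT₀X ht⟩ : ↥X) : P) ∈ T₀ from ht), rfl⟩
      have hmapX : H'.map X.subtype ≤ X := Subgroup.map_subtype_le H'
      have hcomap : (H'.map X.subtype).subgroupOf X = H' :=
        Subgroup.comap_map_eq_self_of_injective X.subtype_injective H'
      have hKH : ¬ K ≤ H'.map X.subtype := by
        intro hKH
        apply hH'.1
        rw [← hcomap, Subgroup.subgroupOf_eq_top]
        exact sup_le hKH hmapT
      have hmax : ∀ L : Subgroup P, H'.map X.subtype ≤ L → L ≤ X →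
          L = H'.map X.subtype ∨ L = X := by
        intro L hHL hLX
        have h1 : H' ≤ L.subgroupOf X := by
          rw [← hcomap]
          exact Subgroup.comap_mono hHL
        rcases hH'.le_iff.mp h1 with h2 | h2
        · right
          exact le_antisymm hLX (Subgroup.subgroupOf_eq_top.mp h2)
        · left
          rw [← h2, Subgroup.map_subgroupOf_eq_of_le hLX]
      have hle := pMinimal_component_maximal_le hP hOp S M hM hSM K hK (H'.map X.subtype)
        hmapT hmapX hKH hmax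
      intro x hx
      exact hle ⟨x, hx, rfl⟩

end PMinimalComponents2

end Cfsg.Agent.Lib.Helper16
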