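import Cfsg.Prelude.Def_LocalEven
import Cfsg.Agent.Lib.Helper16.PReduced2
import Cfsg.Agent.Lib.Helper16.Subnormal
import Cfsg.Agent.Lib.Helper16.PCore
import Cfsg.Agent.Lib.Helper16.CommCentralizes

set_option autoImplicit false
open Cfsg
open scoped Pointwise commutatorElement

namespace Cfsg.Agent.Lib.Helper16

variable {G : Type*} [Group G] {p : ℕ}

/-- coprime action on an abelian normal `p`-subgroup: `[V, x] = [V, x, x]` elementwise. -/
theorem exists_comm_comm_of_coprime [Finite G] [Fact p.Prime] (V : Subgroup G) [hVn : V.Normal]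
    (hVc : ∀ a ∈ V, ∀ b ∈ V, a * b = b * a) (hVp : IsPGroup p V) (x : G)
    (hx : (orderOf x).Coprime p) :
    ∀ v ∈ V, ∃ v' ∈ V, ⁅v, x⁆ = ⁅⁅v', x⁆, x⁆ := by
  have hmem : ∀ v ∈ V, ⁅v, x⁆ ∈ V := by
    intro v hv
    rw [commutatorElement_def]
    have h1 : x * v⁻¹ * x⁻¹ ∈ V := hVn.conj_mem _ (V.inv_mem hv) x
    have : v * x * v⁻¹ * x⁻¹ = v * (x * v⁻¹ * x⁻¹) := by group
    rw [this]; exact V.mul_mem hv h1
  let f : ↥V → ↥V := fun v => ⟨⁅(v : G), x⁆, hmem v v.2⟩
  have hmul : ∀ a b : ↥V, f (a * b) = f a * f b := by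
    intro a b
    apply Subtype.ext
    show ⁅((a * b : ↥V) : G), x⁆ = ⁅(a : G), x⁆ * ⁅(b : G), x⁆
    rw [Subgroup.coe_mul, commutatorElement_def, commutatorElement_def, commutatorElement_def]
    have h1 : x * (a : G)⁻¹ * x⁻¹ ∈ V := hVn.conj_mem _ (V.inv_mem a.2) x
    have h2 := hVc _ (hmem b b.2) _ h1
    rw [commutatorElement_def] at h2
    calc (a : G) * b * x * ((a : G) * b)⁻¹ * x⁻¹
        = (a : G) * (((b : G) * x * (b : G)⁻¹ * x⁻¹) * (x * (a : G)⁻¹ * x⁻¹)) := by group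
      _ = (a : G) * ((x * (a : G)⁻¹ * x⁻¹) * ((b : G) * x * (b : G)⁻¹ * x⁻¹)) := by rw [h2]
      _ = (a : G) * x * (a : G)⁻¹ * x⁻¹ * ((b : G) * x * (b : G)⁻¹ * x⁻¹) := by group
  have hone : f 1 = 1 := by
    apply Subtype.ext
    show ⁅((1 : ↥V) : G), x⁆ = ((1 : ↥V) : G)
    simp
  have hinv : ∀ a : ↥V, f a⁻¹ = (f a)⁻¹ := by
    intro a
    have h1 : f a⁻¹ * f a = 1 := by rw [← hmul, inv_mul_cancel, hone]
    exact eq_inv_of_mul_eq_one_left h1
  -- kernel ∩ image trivial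
  have hki : ∀ a : ↥V, f (f a) = 1 → f a = 1 := by
    intro a h
    have h1 : ⁅⁅(a : G), x⁆, x⁆ = 1 := congrArg Subtype.val h
    -- u = ⁅a,x⁆ commutes with x
    set u : G := ⁅(a : G), x⁆ with hu
    have hux : u * x = x * u := by
      rw [commutatorElement_def] at h1
      calc u * x = (u * x * u⁻¹ * x⁻¹) * (x * u) := by group
        _ = x * u := by rw [h1, one_mul]
    -- z = x a x⁻¹ a⁻¹ = u⁻¹
    have hz : x * (a : G) * x⁻¹ * (a : G)⁻¹ = u⁻¹ := by
      rw [hu, commutatorElement_def]; group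
    have h2 : x * (a : G) * x⁻¹ * (a : G)⁻¹ = 1 := by
      apply coprime_step (p := p) x (a : G) hx
      · rw [hz]
        calc x * u⁻¹ = u⁻¹ * (u * x) * u⁻¹ := by group
          _ = u⁻¹ * (x * u) * u⁻¹ := by rw [hux]
          _ = u⁻¹ * x := by group
      · rw [hz]
        obtain ⟨k, hk⟩ := hVp ⟨u, hmem a a.2⟩
        refine ⟨k, ?_⟩
        have hk' : u ^ (p ^ k) = 1 := by simpa using congrArg Subtype.val hk
        rw [inv_pow, hk', inv_one]
    apply Subtype.ext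
    show u = 1
    rw [hz] at h2
    exact inv_eq_one.mp h2
  let g : Set.range f → Set.range f := fun u => ⟨f u.1, ⟨u.1, rfl⟩⟩
  have hginj : Function.Injective g := by
    rintro ⟨u₁, ⟨a₁, rfl⟩⟩ ⟨u₂, ⟨a₂, rfl⟩⟩ h
    have h1 : f (f a₁) = f (f a₂) := congrArg Subtype.val h
    apply Subtype.ext
    show f a₁ = f a₂
    have h2 : f (f (a₁ * a₂⁻¹)) = 1 := by
      rw [hmul, hinv, hmul, hinv, h1, mul_inv_cancel]
    have h3 := hki _ h2
    rw [hmul, hinv] at h3
    exact mul_inv_eq_one.mp h3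
  have hgsurj := Finite.injective_iff_surjective.mp hginj
  intro v hv
  obtain ⟨⟨u, ⟨a, rfl⟩⟩, hu⟩ := hgsurj ⟨f ⟨v, hv⟩, ⟨⟨v, hv⟩, rfl⟩⟩
  have h1 : f (f a) = f ⟨v, hv⟩ := congrArg Subtype.val hu
  exact ⟨a, a.2, (congrArg Subtype.val h1).symm⟩

/-- `[v, x] ∈ K` for `x` a `p'`-element of the subnormal subgroup `K`. -/
theorem comm_mem_of_subnormal [Finite G] [Fact p.Prime] (V : Subgroup G) [hVn : V.Normal]
    (hVc : ∀ a ∈ V, ∀ b ∈ V, a * b = b * a) (hVp : IsPGroup p V)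
    (K : Subgroup G) (hK : K.IsSubnormal) :
    ∀ x ∈ K, (orderOf x).Coprime p → ∀ v ∈ V, ⁅v, x⁆ ∈ K := by
  induction hK with
  | top => intros; exact Subgroup.mem_top _
  | step H K' h_le hSubn hN ih =>
    intro x hx hxp v hv
    obtain ⟨v', hv', e⟩ := exists_comm_comm_of_coprime V hVc hVp x hxp v hv
    rw [e]
    have hw : ⁅v', x⁆ ∈ K' := ih x (h_le hx) hxp v' hv'
    rw [commutatorElement_def ⁅v', x⁆ x]
    have h1 : ⁅v', x⁆ * x * ⁅v', x⁆⁻¹ ∈ H := by
      have := hN.conj_mem ⟨x, h_le hx⟩ (Subgroup.mem_subgroupOf.mpr hx) ⟨⁅v', x⁆, hw⟩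
      simpa [Subgroup.mem_subgroupOf] using this
    exact H.mul_mem h1 (H.inv_mem hx)

theorem commutator_OpOf_le_of_subnormal [Finite G] [Fact p.Prime] (V : Subgroup G) [hVn : V.Normal]
    (hVc : ∀ a ∈ V, ∀ b ∈ V, a * b = b * a) (hVp : IsPGroup p V)
    (K : Subgroup G) (hK : K.IsSubnormal) : ⁅V, OpOf p K⁆ ≤ K := by
  rw [Subgroup.commutator_le]
  intro v hv r hr
  revert v
  unfold OpOf at hr
  induction hr using Subgroup.closure_induction with
  | mem x hx =>
    intro v hv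
    exact comm_mem_of_subnormal V hVc hVp K hK x hx.1 hx.2 v hv
  | one =>
    intro v hv
    simp
  | mul a b ha hb iha ihb =>
    intro v hv
    have haK : a ∈ K := OpOf_le (p := p) K ha
    have e : ⁅v, a * b⁆ = ⁅v, a⁆ * (a * ⁅v, b⁆ * a⁻¹) := by
      simp only [commutatorElement_def]; group
    rw [e]
    exact K.mul_mem (iha v hv) (K.mul_mem (K.mul_mem haK (ihb v hv)) (K.inv_mem haK))
  | inv a ha iha =>
    intro v hv
    have haK : a ∈ K := OpOf_le (p := p) K ha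
    have e : ⁅v, a⁻¹⁆ = a⁻¹ * ⁅v, a⁆⁻¹ * a := by
      simp only [commutatorElement_def]; group
    rw [e]
    exact K.mul_mem (K.mul_mem (K.inv_mem haK) (K.inv_mem (iha v hv))) haK

theorem commutator_OpOf_APR [Finite G] [Fact p.Prime] (V : Subgroup G)
    (hV : IsPReducedNormal p V) (K : Subgroup G) (hK : K.IsSubnormal) :
    APR p K ⁅V, OpOf p K⁆ := by
  obtain ⟨hVn, hVe, hCn, hO⟩ := hV
  have hVc : ∀ a ∈ V, ∀ b ∈ V, a * b = b * a := by
    intro a ha b hb
    exact congrArg Subtype.val (hVe.1.is_comm.comm ⟨a, ha⟩ ⟨b, hb⟩)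
  have hVp : IsPGroup p V := by
    intro v
    refine ⟨1, ?_⟩
    apply Subtype.ext
    simpa using hVe.2 v v.2
  set R : Subgroup G := OpOf p K with hR
  set W : Subgroup G := ⁅V, R⁆ with hW
  have hWV : W ≤ V := Subgroup.commutator_le_left V R
  refine ⟨?_, ⟨⟨⟨fun a b => Subtype.ext (hVc _ (hWV a.2) _ (hWV b.2))⟩⟩,
    fun a ha => hVe.2 a (hWV ha)⟩, ?_⟩
  · intro k hk
    apply mem_normalizer_commutator
    · rw [Subgroup.normalizer_eq_top_iff.mpr hVn]; exact Subgroup.mem_top k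
    · exact le_normalizer_OpOf K hk
  · intro D hDK hKD hDp
    have hDsub : D.IsSubnormal := Subgroup.IsSubnormal.step D K hDK hK
      ((Subgroup.normal_subgroupOf_iff_le_normalizer hDK).mpr hKD)
    have hp' : ∀ d ∈ D, (orderOf d).Coprime p → d ∈ Subgroup.centralizer (V : Set G) := by
      intro d hd hdp
      obtain ⟨k, hk⟩ := hDp d hd
      have hdW : d ∈ Subgroup.centralizer (W : Set G) := by
        have hcop : (p ^ k).Coprime (orderOf d) := (Nat.Coprime.pow_right k hdp).symm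
        obtain ⟨m, hm⟩ := exists_pow_eq_self_of_coprime hcop
        rw [← hm]; exact Subgroup.pow_mem _ hk m
      have hdR : d ∈ R := Subgroup.subset_closure ⟨hDK hd, hdp⟩
      rw [Subgroup.mem_centralizer_iff]
      intro v hv
      obtain ⟨v', hv', e⟩ := exists_comm_comm_of_coprime V hVc hVp d hdp v hv
      have hw : ⁅v', d⁆ ∈ W := Subgroup.commutator_mem_commutator hv' hdR
      have h1 : ⁅⁅v', d⁆, d⁆ = 1 := by
        rw [commutatorElement_eq_one_iff_commute]
        exact (Subgroup.mem_centralizer_iff.mp hdW) _ hw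
      rw [h1] at e
      exact (commutatorElement_eq_one_iff_commute.mp e).eq
    set C : Subgroup G := Subgroup.centralizer (V : Set G) with hC
    have himg : D.map (QuotientGroup.mk' C) ≤ pCore p (G ⧸ C) := by
      apply le_pCore_of_subnormal _ (hDsub.map (QuotientGroup.mk'_surjective C))
      rintro ⟨_, ⟨d, hd, rfl⟩⟩
      obtain ⟨j, m, hm, hord⟩ := Nat.exists_eq_pow_mul_and_not_dvd (orderOf_pos d).ne' p
        (Fact.out : p.Prime).ne_one
      refine ⟨j, ?_⟩
      apply Subtype.ext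
      simp only [Subgroup.coe_pow, Subgroup.coe_one]
      rw [← map_pow, QuotientGroup.mk'_apply, QuotientGroup.eq_one_iff]
      apply hp' _ (D.pow_mem hd _)
      have h1 : orderOf (d ^ (p ^ j)) = m := by
        rw [orderOf_pow' d (pow_ne_zero j (Fact.out : p.Prime).ne_zero), hord]
        rw [Nat.gcd_eq_right (dvd_mul_right _ _)]
        exact Nat.mul_div_cancel_left m (pow_pos (Fact.out : p.Prime).pos j)
      rw [h1]
      exact ((Nat.Prime.coprime_iff_not_dvd Fact.out).mpr hm).symm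
    rw [hO] at himg
    intro d hd
    have := himg ⟨d, hd, rfl⟩
    rw [Subgroup.mem_bot, QuotientGroup.mk'_apply, QuotientGroup.eq_one_iff] at this
    exact Subgroup.centralizer_le hWV this

end Cfsg.Agent.Lib.Helper16
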