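import Mathlib.GroupTheory.Sylow
import Cfsg.Prelude.Def_Local
import Cfsg.Prelude.Def_PLocal
import Cfsg.Prelude.Def_LocalEven
import Cfsg.Prelude.Def_LocalStructure
import Cfsg.Agent.Lib.Helper16.CharP
import Cfsg.Agent.Lib.Helper16.StronglyEmbedded

set_option autoImplicit false
open Cfsg
open scoped Pointwise

namespace Cfsg.Agent.Lib.Helper16

variable {G : Type*} [Group G]

/-- conjugation iso between centralizers of conjugate elements. -/
def centralizerConjEquiv (z g : G) :
    ↥(Subgroup.centralizer ({z} : Set G)) ≃* ↥(Subgroup.centralizer ({g * z * g⁻¹} : Set G)) where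
  toFun x := ⟨g * (x : G) * g⁻¹, by
    have hx := x.2
    rw [Subgroup.mem_centralizer_singleton_iff] at hx ⊢
    calc g * (x : G) * g⁻¹ * (g * z * g⁻¹) = g * ((x : G) * z) * g⁻¹ := by group
      _ = g * (z * (x : G)) * g⁻¹ := by rw [hx]
      _ = g * z * g⁻¹ * (g * (x : G) * g⁻¹) := by group⟩
  invFun y := ⟨g⁻¹ * (y : G) * g, by
    have hy := y.2
    rw [Subgroup.mem_centralizer_singleton_iff] at hy ⊢
    calc g⁻¹ * (y : G) * g * z = g⁻¹ * ((y : G) * (g * z * g⁻¹)) * g := by group
      _ = g⁻¹ * ((g * z * g⁻¹) * (y : G)) * g := by rw [hy]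
      _ = z * (g⁻¹ * (y : G) * g) := by group⟩
  left_inv x := Subtype.ext (by simp only; group)
  right_inv y := Subtype.ext (by simp only; group)
  map_mul' x y := Subtype.ext (by simp only [Subgroup.coe_mul]; group)

theorem fstar_centralizer_conj {p : ℕ} (z g : G)
    (h : Cfsg.generalizedFittingSubgroup ↥(Subgroup.centralizer ({z} : Set G)) =
      Cfsg.pCore p ↥(Subgroup.centralizer ({z} : Set G))) :
    Cfsg.generalizedFittingSubgroup ↥(Subgroup.centralizer ({g * z * g⁻¹} : Set G)) =
      Cfsg.pCore p ↥(Subgroup.centralizer ({g * z * g⁻¹} : Set G)) :=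
  Cfsg.Agent.Lib.Helper9.generalizedFittingSubgroup_eq_pCore_of_equiv p (centralizerConjEquiv z g) h

theorem mem_sylow_smul_iff' {p : ℕ} (S : Sylow p G) (g x : G) :
    x ∈ ((g • S : Sylow p G) : Subgroup G) ↔ g⁻¹ * x * g ∈ (S : Subgroup G) := by
  rw [Sylow.coe_subgroup_smul, Subgroup.mem_pointwise_smul_iff_inv_smul_mem]
  simp [MulAut.smul_def]

/-- Core step: `T` a `p`-subgroup inside the Sylow `g • S`, `z ∈ T` centralized by `T`, and the
`S`-conjugate `g⁻¹ z g` has a characteristic-`p` centralizer; then `N_G(T)` has characteristic `p`. -/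
theorem normalizer_charP_of_conj [Finite G] {p : ℕ} [Fact p.Prime] (T : Subgroup G)
    (hT : IsPGroup p ↥T) (z g : G) (hzT : z ∈ T) (hzc : ∀ t ∈ T, t * z = z * t)
    (h : Cfsg.generalizedFittingSubgroup ↥(Subgroup.centralizer ({g⁻¹ * z * g} : Set G)) =
      Cfsg.pCore p ↥(Subgroup.centralizer ({g⁻¹ * z * g} : Set G))) :
    Cfsg.generalizedFittingSubgroup ↥(Subgroup.normalizer (T : Set G)) =
      Cfsg.pCore p ↥(Subgroup.normalizer (T : Set G)) := by
  have h1 := fstar_centralizer_conj (g⁻¹ * z * g) g h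
  have h2 : g * (g⁻¹ * z * g) * g⁻¹ = z := by group
  rw [h2] at h1
  apply Cfsg.Agent.Lib.Helper9.generalizedFittingSubgroup_normalizer_eq_pCore_of_centralizer hT hzT _ h1
  intro t ht
  rw [Subgroup.mem_centralizer_singleton_iff]
  exact hzc t ht

theorem parabolic_local_char_main [Finite G] {p : ℕ} [Fact p.Prime] (hdiv : p ∣ Nat.card G)
    (S : Sylow p G) (X : Subgroup G) (hX : X ≤ (S : Subgroup G)) :
    (∀ z : G, z ≠ 1 → z ∈ X → (∀ x ∈ X, x * z = z * x) →
      Cfsg.generalizedFittingSubgroup ↥(Subgroup.centralizer ({z} : Set G)) =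
        Cfsg.pCore p ↥(Subgroup.centralizer ({z} : Set G)) →
      Cfsg.generalizedFittingSubgroup ↥(Subgroup.normalizer (X : Set G)) =
        Cfsg.pCore p ↥(Subgroup.normalizer (X : Set G))) ∧
    (Cfsg.IsOfParabolicCharacteristic p G ↔ ∀ z : G, z ≠ 1 →
      z ∈ Cfsg.omegaOne p ((S : Subgroup G) ⊓ Subgroup.centralizer ((S : Subgroup G) : Set G)) →
      Cfsg.generalizedFittingSubgroup ↥(Subgroup.centralizer ({z} : Set G)) =
        Cfsg.pCore p ↥(Subgroup.centralizer ({z} : Set G))) ∧
    ((∀ z : G, z ∈ (S : Subgroup G) → orderOf z = p →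
      Cfsg.generalizedFittingSubgroup ↥(Subgroup.centralizer ({z} : Set G)) =
        Cfsg.pCore p ↥(Subgroup.centralizer ({z} : Set G))) →
      Cfsg.IsOfLocalCharacteristic p G) := by
  have hp : p.Prime := Fact.out
  refine ⟨?_, ⟨?_, ?_⟩, ?_⟩
  · -- (i)
    intro z _ hzX hzc h
    exact normalizer_charP_of_conj X (S.2.to_le hX) z 1 hzX hzc
      (by rw [show (1 : G)⁻¹ * z * 1 = z by group]; exact h)
  · -- (ii) ⇒
    intro hpar z hz1 hzΩ
    -- z ∈ Z(S)
    have hzZ : z ∈ (S : Subgroup G) ⊓ Subgroup.centralizer ((S : Subgroup G) : Set G) := by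
      have hle : Cfsg.omegaOne p ((S : Subgroup G) ⊓ Subgroup.centralizer ((S : Subgroup G) : Set G)) ≤
          (S : Subgroup G) ⊓ Subgroup.centralizer ((S : Subgroup G) : Set G) := by
        apply (Subgroup.closure_le _).mpr
        intro x hx
        exact hx.1
      exact hle hzΩ
    have hzS : z ∈ (S : Subgroup G) := (Subgroup.mem_inf.mp hzZ).1
    have hzC : z ∈ Subgroup.centralizer ((S : Subgroup G) : Set G) := (Subgroup.mem_inf.mp hzZ).2
    set R : Subgroup G := Subgroup.zpowers z with hR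
    have hRp : IsPGroup p ↥R := S.2.to_le (Subgroup.zpowers_le.mpr hzS)
    have hR1 : R ≠ ⊥ := by
      intro h
      rw [hR, Subgroup.zpowers_eq_bot] at h
      exact hz1 h
    have hSC : (S : Subgroup G) ≤ Subgroup.centralizer ({z} : Set G) := by
      intro s hs
      rw [Subgroup.mem_centralizer_singleton_iff]
      exact ((Subgroup.mem_centralizer_iff.mp hzC) s hs)
    have hCN : Subgroup.centralizer ({z} : Set G) ≤ Subgroup.normalizer (R : Set G) :=
      centralizer_singleton_le_normalizer_zpowers z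
    have hparab : Cfsg.IsParabolic p (Subgroup.normalizer (R : Set G)) := ⟨S, hSC.trans hCN⟩
    have hchar := hpar R hRp hR1 hparab
    rw [fstar_eq_pCore_iff]
    refine charP_of_le_normalizer hCN ?_ hchar
    -- N(zpowers z) ≤ N(C({z}))
    have h1 := normalizer_le_normalizer_centralizer R
    have h2 : Subgroup.centralizer ((R : Subgroup G) : Set G) = Subgroup.centralizer ({z} : Set G) := by
      rw [hR]
      apply le_antisymm
      · apply Subgroup.centralizer_le
        intro y hy
        rw [Set.mem_singleton_iff.mp hy]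
        exact Subgroup.mem_zpowers z
      · intro x hx
        rw [Subgroup.mem_centralizer_singleton_iff] at hx
        have hz' : z ∈ Subgroup.centralizer ({x} : Set G) := by
          rw [Subgroup.mem_centralizer_singleton_iff]; exact hx.symm
        have hle := Subgroup.zpowers_le.mpr hz'
        rw [Subgroup.mem_centralizer_iff]
        intro y hy
        have := hle hy
        rw [Subgroup.mem_centralizer_singleton_iff] at this
        exact this
    rw [h2] at h1
    exact h1
  · -- (ii) ⇐
    intro hz R hRp hR1 hparab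
    obtain ⟨P, hPN⟩ := hparab
    have hRP : R ≤ (P : Subgroup G) := by
      have h1 : IsPGroup p ↥((P : Subgroup G) ⊔ R) := IsPGroup.to_sup_of_normal_right' P.2 hRp hPN
      have h2 := P.is_maximal' h1 le_sup_left
      rw [← h2]
      exact le_sup_right
    obtain ⟨z, hzR, hzo, hzc⟩ := exists_orderOf_eq_prime_central P.2 hRP hPN hR1
    obtain ⟨g, hg⟩ := MulAction.exists_smul_eq G S P
    have hzS : g⁻¹ * z * g ∈ (S : Subgroup G) := by
      rw [← mem_sylow_smul_iff', hg]; exact hRP hzR
    rw [← fstar_eq_pCore_iff]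
    apply normalizer_charP_of_conj R hRp z g hzR (fun t ht => hzc t (hRP ht))
    apply hz
    · intro h
      have : z = 1 := by
        have h2 : g * (g⁻¹ * z * g) * g⁻¹ = z := by group
        rw [← h2, h]; group
      rw [this, orderOf_one] at hzo
      exact hp.one_lt.ne hzo
    · apply Subgroup.subset_closure
      refine ⟨Subgroup.mem_inf.mpr ⟨hzS, ?_⟩, ?_⟩
      · rw [Subgroup.mem_centralizer_iff]
        intro s hs
        -- g s g⁻¹ ∈ P commutes with z
        have hsP : g * s * g⁻¹ ∈ (P : Subgroup G) := by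
          rw [← hg, mem_sylow_smul_iff']
          have : g⁻¹ * (g * s * g⁻¹) * g = s := by group
          rw [this]; exact hs
        have h3 := hzc _ hsP
        calc s * (g⁻¹ * z * g) = g⁻¹ * ((g * s * g⁻¹) * z) * g := by group
          _ = g⁻¹ * (z * (g * s * g⁻¹)) * g := by rw [h3]
          _ = g⁻¹ * z * g * s := by group
      · have h4 : (g⁻¹ * z * g) ^ p = g⁻¹ * z ^ p * g := by
          have := conj_pow (a := g⁻¹) (b := z) (i := p)
          simpa using this
        rw [h4, ← hzo, pow_orderOf_eq_one]; group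
  · -- (iii)
    intro hz
    refine ⟨hdiv, ?_⟩
    intro T hTp hT1
    obtain ⟨P, hTP⟩ := hTp.exists_le_sylow
    obtain ⟨z, hzT, hzo, hzc⟩ := exists_orderOf_eq_prime_central hTp le_rfl Subgroup.le_normalizer hT1
    obtain ⟨g, hg⟩ := MulAction.exists_smul_eq G S P
    have hzS : g⁻¹ * z * g ∈ (S : Subgroup G) := by
      rw [← mem_sylow_smul_iff', hg]; exact hTP hzT
    rw [← fstar_eq_pCore_iff]
    apply normalizer_charP_of_conj T hTp z g hzT hzc
    apply hz _ hzS
    have h5 : g⁻¹ * z * g = MulAut.conj g⁻¹ z := by simp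
    rw [h5, MulEquiv.orderOf_eq]
    exact hzo

end Cfsg.Agent.Lib.Helper16
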