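import Cfsg.Agent.Lib.Helper16.ParabolicChar
import Cfsg.Agent.Lib.Helper16.Minimal
import Cfsg.Agent.Lib.Helper16.PReduced2

set_option autoImplicit false
open Cfsg
open scoped Pointwise

namespace Cfsg.Agent.Lib.Helper16

variable {G : Type*} [Group G]

theorem parabolic_char_normal [Finite G] {p : ℕ} [Fact p.Prime] (hdiv : p ∣ Nat.card G)
    (hG : Cfsg.IsOfParabolicCharacteristic p G) (S : Sylow p G) (G₁ : Subgroup G) [hG₁ : G₁.Normal]
    (hne : Cfsg.omegaOne p (((S : Subgroup G) ⊓ G₁) ⊓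
      Subgroup.centralizer (((S : Subgroup G) ⊓ G₁ : Subgroup G) : Set G)) ≠ ⊥)
    (hle : Cfsg.omegaOne p (((S : Subgroup G) ⊓ G₁) ⊓
      Subgroup.centralizer (((S : Subgroup G) ⊓ G₁ : Subgroup G) : Set G)) ≤
        Cfsg.omegaOne p ((S : Subgroup G) ⊓ Subgroup.centralizer ((S : Subgroup G) : Set G))) :
    Cfsg.IsOfParabolicCharacteristic p ↥G₁ := by
  have hp : p.Prime := Fact.out
  obtain ⟨Q, hQ⟩ := exists_sylow_of_normal_inf S G₁
  have hmainG := (parabolic_local_char_main hdiv S ⊥ bot_le).2.1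
  -- p ∣ |G₁|
  have hdiv₁ : p ∣ Nat.card ↥G₁ := by
    by_contra hnd
    apply hne
    rw [Cfsg.omegaOne, Subgroup.closure_eq_bot_iff]
    intro x hx
    rw [Set.mem_singleton_iff]
    obtain ⟨hx1, hxp⟩ := hx
    have hxG₁ : x ∈ G₁ := (Subgroup.mem_inf.mp (Subgroup.mem_inf.mp hx1).1).2
    have hord : orderOf x ∣ p := orderOf_dvd_of_pow_eq_one hxp
    rcases (Nat.dvd_prime hp).mp hord with h | h
    · exact orderOf_eq_one_iff.mp h
    · exfalso
      apply hnd
      rw [← h]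
      have := orderOf_dvd_natCard (⟨x, hxG₁⟩ : ↥G₁)
      rwa [Subgroup.orderOf_mk] at this
  apply (parabolic_local_char_main hdiv₁ Q ⊥ bot_le).2.1.mpr
  intro z hz1 hzΩ
  -- transport z to G
  have hzG : (z : G) ∈ Cfsg.omegaOne p (((S : Subgroup G) ⊓ G₁) ⊓
      Subgroup.centralizer (((S : Subgroup G) ⊓ G₁ : Subgroup G) : Set G)) := by
    have hmap : (Cfsg.omegaOne p ((Q : Subgroup ↥G₁) ⊓
        Subgroup.centralizer ((Q : Subgroup ↥G₁) : Set ↥G₁))).map G₁.subtype ≤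
        Cfsg.omegaOne p (((S : Subgroup G) ⊓ G₁) ⊓
          Subgroup.centralizer (((S : Subgroup G) ⊓ G₁ : Subgroup G) : Set G)) := by
      unfold Cfsg.omegaOne
      rw [MonoidHom.map_closure, Subgroup.closure_le]
      rintro _ ⟨x, ⟨hx1, hxp⟩, rfl⟩
      apply Subgroup.subset_closure
      refine ⟨Subgroup.mem_inf.mpr ⟨?_, ?_⟩, ?_⟩
      · rw [← hQ]; exact ⟨x, (Subgroup.mem_inf.mp hx1).1, rfl⟩
      · rw [Subgroup.mem_centralizer_iff]
        intro y hy
        rw [SetLike.mem_coe, ← hQ] at hy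
        obtain ⟨y', hy', rfl⟩ := hy
        have := (Subgroup.mem_centralizer_iff.mp (Subgroup.mem_inf.mp hx1).2) y' hy'
        exact congrArg Subtype.val this
      · have := congrArg Subtype.val hxp
        simpa using this
    exact hmap ⟨z, hzΩ, rfl⟩
  have hzG1 : (z : G) ≠ 1 := fun h => hz1 (Subtype.ext h)
  have hFG := hmainG.mp hG (z : G) hzG1 (hle hzG)
  rw [fstar_eq_pCore_iff] at hFG ⊢
  -- C_G(z) ⊓ G₁ has char p
  set C : Subgroup G := Subgroup.centralizer ({(z : G)} : Set G) with hC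
  have hCG₁ : Subgroup.centralizer (Cfsg.pCore p ↥(C ⊓ G₁) : Set ↥(C ⊓ G₁)) ≤ Cfsg.pCore p ↥(C ⊓ G₁) := by
    apply charP_of_le_normalizer inf_le_left _ hFG
    apply inf_le_normalizer_inf Subgroup.le_normalizer
    rw [Subgroup.normalizer_eq_top_iff.mpr hG₁]; exact le_top
  have hmapC := Cfsg.Agent.Lib.Helper9.map_subtype_centralizer_singleton G₁ z
  have e1 : ↥(Subgroup.centralizer ({z} : Set ↥G₁)) ≃*
      ↥((Subgroup.centralizer ({z} : Set ↥G₁)).map G₁.subtype) :=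
    Subgroup.equivMapOfInjective _ _ G₁.subtype_injective
  have e2 : ↥((Subgroup.centralizer ({z} : Set ↥G₁)).map G₁.subtype) ≃* ↥(C ⊓ G₁) :=
    MulEquiv.subgroupCongr hmapC
  exact charP_of_equiv (e1.trans e2).symm hCG₁

end Cfsg.Agent.Lib.Helper16
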