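/-
Helper16 library: point stabilizers of joins of subnormal subgroups in groups of local
characteristic `p` (S2806).  Ingredients: the one-step Kieler lemma of `Trace3` (ambient form),
applied inside the `p`-local subgroups `N(Ω₁Z(R))`, and helper19's Sylow-join theorem.
-/
import Mathlib
import Cfsg.Prelude.Def_LocalEven
import Cfsg.Agent.Lib.Helper16.Trace3
import Cfsg.Agent.Lib.Helper16.Large
import Cfsg.Agent.Lib.Helper19.SylowJoin

set_option autoImplicit false
open Cfsg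
open scoped Pointwise

namespace Cfsg.Agent.Lib.Helper16

section PtStab

variable {G : Type*} [Group G]

/-- `Ω₁Z(R)` in ambient form. -/
@[reducible] def ptZ (p : ℕ) (R : Subgroup G) : Subgroup G :=
  Cfsg.omegaOne p (R ⊓ Subgroup.centralizer (R : Set G))

theorem ptZ_le (p : ℕ) (R : Subgroup G) : ptZ p R ≤ R :=
  (omegaOne_le' _).trans inf_le_left

theorem le_centralizer_ptZ (p : ℕ) (R : Subgroup G) :
    R ≤ Subgroup.centralizer ((ptZ p R : Subgroup G) : Set G) := by
  rw [Subgroup.le_centralizer_iff]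
  exact omegaOne_center_le_centralizer p R

theorem normalizer_le_normalizer_ptZ (p : ℕ) (R : Subgroup G) :
    Subgroup.normalizer (R : Set G) ≤ Subgroup.normalizer ((ptZ p R : Subgroup G) : Set G) :=
  (normalizer_le_normalizer_inf_centralizer R).trans (normalizer_le_normalizer_omegaOne _)

theorem ptZ_isPGroup {p : ℕ} {R : Subgroup G} (hR : IsPGroup p ↥R) : IsPGroup p ↥(ptZ p R) :=
  hR.to_le (ptZ_le p R)

theorem ptZ_ne_bot [Finite G] {p : ℕ} [Fact p.Prime] {R : Subgroup G} (hR : IsPGroup p ↥R)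
    (hR1 : R ≠ ⊥) : ptZ p R ≠ ⊥ := by
  intro h
  exact center_ne_bot hR hR1 (eq_bot_of_omegaOne_eq_bot (hR.to_le inf_le_left) h)

/-- in a group of local characteristic `p`, a subnormal subgroup meets every `p`-local subgroup
`N(Y)` in a group of characteristic `p` (ambient form). -/
theorem locchar_inf_normalizer [Finite G] {p : ℕ} [Fact p.Prime]
    (hG : Cfsg.IsOfLocalCharacteristic p G) (Y : Subgroup G) (hY : IsPGroup p ↥Y) (hY1 : Y ≠ ⊥)
    (K : Subgroup G) (hK : K.IsSubnormal) :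
    (K ⊓ Subgroup.normalizer (Y : Set G)) ⊓ Subgroup.centralizer
        ((Cfsg.pCoreOf p (K ⊓ Subgroup.normalizer (Y : Set G)) : Subgroup G) : Set G) ≤
      Cfsg.pCoreOf p (K ⊓ Subgroup.normalizer (Y : Set G)) := by
  set M : Subgroup G := Subgroup.normalizer (Y : Set G) with hM
  have h0 := hG.2 Y hY hY1
  have hsn : (K.subgroupOf M).IsSubnormal := hK.subgroupOf
  have h1 := charP_of_subnormal h0 (K.subgroupOf M) hsn
  have e1 : (K ⊓ M).subgroupOf M = K.subgroupOf M := Subgroup.inf_subgroupOf_right K M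
  have e : ↥(K.subgroupOf M) ≃* ↥(K ⊓ M) :=
    (MulEquiv.subgroupCongr e1.symm).trans (Subgroup.subgroupOfEquivOfLe inf_le_right)
  exact charP_ambient (K ⊓ M) (charP_of_equiv e h1)

/-- `N(A) ⊓ N(B) ≤ N(A ⊓ B)`. -/
theorem normalizer_inf_normalizer_le (A B : Subgroup G) :
    Subgroup.normalizer (A : Set G) ⊓ Subgroup.normalizer (B : Set G) ≤
      Subgroup.normalizer ((A ⊓ B : Subgroup G) : Set G) := by
  rintro g ⟨hgA, hgB⟩
  rw [Subgroup.mem_normalizer_iff]
  intro x
  rw [Subgroup.mem_inf, Subgroup.mem_inf, ← Subgroup.mem_normalizer_iff.mp hgA x,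
    ← Subgroup.mem_normalizer_iff.mp hgB x]

/-- one normal step of the Kieler lemma in a group of local characteristic `p`. -/
theorem locchar_step [Finite G] {p : ℕ} [hpp : Fact p.Prime]
    (hG : Cfsg.IsOfLocalCharacteristic p G) (T : Sylow p G) (K K' : Subgroup G)
    (hK : K.IsSubnormal) (hKK' : K ≤ K')
    (hn : K' ≤ Subgroup.normalizer (K : Set G)) (hne : (T : Subgroup G) ⊓ K ≠ ⊥) :
    K ⊓ Subgroup.centralizer ((ptZ p ((T : Subgroup G) ⊓ K') : Subgroup G) : Set G) =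
      K ⊓ Subgroup.centralizer ((ptZ p ((T : Subgroup G) ⊓ K) : Subgroup G) : Set G) := by
  set P : Subgroup G := (T : Subgroup G) ⊓ K' with hP
  set R : Subgroup G := (T : Subgroup G) ⊓ K with hR
  have hPp : IsPGroup p ↥P := T.isPGroup'.to_le inf_le_left
  have hRp : IsPGroup p ↥R := T.isPGroup'.to_le inf_le_left
  have hRP : R ≤ P := inf_le_inf_left _ hKK'
  have hPK : P ⊓ K = R := by
    rw [hP, hR, inf_assoc, inf_eq_right.mpr hKK']
  have hP1 : P ≠ ⊥ := fun h => hne (le_bot_iff.mp (h ▸ hRP))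
  have hPnK : P ≤ Subgroup.normalizer (K : Set G) := inf_le_right.trans hn
  have hPnR : P ≤ Subgroup.normalizer (R : Set G) := by
    rw [← hPK]
    exact (le_inf Subgroup.le_normalizer hPnK).trans (normalizer_inf_normalizer_le P K)
  -- the common part: for `Y` a nontrivial `p`-group normalized by `P`
  have key : ∀ Y : Subgroup G, IsPGroup p ↥Y → Y ≠ ⊥ → P ≤ Subgroup.normalizer (Y : Set G) →
      (K ⊓ Subgroup.normalizer (Y : Set G)) ⊓
          Subgroup.centralizer ((ptZ p P : Subgroup G) : Set G) =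
        (K ⊓ Subgroup.normalizer (Y : Set G)) ⊓
          Subgroup.centralizer ((ptZ p R : Subgroup G) : Set G) := by
    intro Y hYp hY1 hPY
    set M : Subgroup G := Subgroup.normalizer (Y : Set G) with hM
    have hchar := locchar_inf_normalizer hG Y hYp hY1 K hK
    have hPL : P ≤ Subgroup.normalizer ((K ⊓ M : Subgroup G) : Set G) :=
      (le_inf hPnK (hPY.trans Subgroup.le_normalizer)).trans (normalizer_inf_normalizer_le K M)
    have hPLm : P ⊓ (K ⊓ M) = R := by
      rw [← inf_assoc, hPK]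
      exact inf_eq_left.mpr (hRP.trans hPY)
    have hidx : ¬ p ∣ P.relIndex (K ⊓ M) := by
      have h1 : ¬ p ∣ (T : Subgroup G).relIndex K :=
        Cfsg.Agent.Lib.Helper4.not_dvd_relIndex_of_isSubnormal hK T
      rw [← Subgroup.inf_relIndex_right] at h1
      rw [← Subgroup.inf_relIndex_right, hPLm]
      have hRM : R ≤ K ⊓ M := le_inf inf_le_right (hRP.trans hPY)
      have h2 := Subgroup.relIndex_mul_relIndex R (K ⊓ M) K hRM inf_le_left
      intro h3
      exact h1 (h2 ▸ Dvd.dvd.mul_right h3 _)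
    have hstep := inf_centralizer_omegaOne_center_step P (K ⊓ M) hPp hPL hidx hchar
    rw [hPLm] at hstep
    exact hstep
  apply le_antisymm
  · -- use `Y = Ω₁Z(P)`
    have hY1 : ptZ p P ≠ ⊥ := ptZ_ne_bot hPp hP1
    have h := key (ptZ p P) (ptZ_isPGroup hPp) hY1
      ((le_centralizer_ptZ p P).trans (Subgroup.centralizer_le_normalizer _))
    intro x hx
    have hx' : x ∈ (K ⊓ Subgroup.normalizer ((ptZ p P : Subgroup G) : Set G)) ⊓
        Subgroup.centralizer ((ptZ p P : Subgroup G) : Set G) :=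
      ⟨⟨hx.1, Subgroup.centralizer_le_normalizer _ hx.2⟩, hx.2⟩
    rw [h] at hx'
    exact ⟨hx.1, hx'.2⟩
  · -- use `Y = Ω₁Z(R)`
    have hY1 : ptZ p R ≠ ⊥ := ptZ_ne_bot hRp hne
    have h := key (ptZ p R) (ptZ_isPGroup hRp) hY1
      (hPnR.trans (normalizer_le_normalizer_ptZ p R))
    intro x hx
    have hx' : x ∈ (K ⊓ Subgroup.normalizer ((ptZ p R : Subgroup G) : Set G)) ⊓
        Subgroup.centralizer ((ptZ p R : Subgroup G) : Set G) :=
      ⟨⟨hx.1, Subgroup.centralizer_le_normalizer _ hx.2⟩, hx.2⟩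
    rw [← h] at hx'
    exact ⟨hx.1, hx'.2⟩

/-- the Kieler lemma relative to a subnormal subgroup `L` in a group of local characteristic `p`:
`C_{A ∩ L}(Ω₁Z(T ∩ L)) = C_{A ∩ L}(Ω₁Z(T ∩ A ∩ L))` for subnormal `A` with `T ∩ A ∩ L ≠ 1`. -/
theorem locchar_kieler [Finite G] {p : ℕ} [hpp : Fact p.Prime]
    (hG : Cfsg.IsOfLocalCharacteristic p G) (T : Sylow p G) (L : Subgroup G) (hL : L.IsSubnormal)
    (A : Subgroup G) (hA : A.IsSubnormal) (hne : (T : Subgroup G) ⊓ (A ⊓ L) ≠ ⊥) :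
    (A ⊓ L) ⊓ Subgroup.centralizer ((ptZ p ((T : Subgroup G) ⊓ L) : Subgroup G) : Set G) =
      (A ⊓ L) ⊓ Subgroup.centralizer ((ptZ p ((T : Subgroup G) ⊓ (A ⊓ L)) : Subgroup G) : Set G) := by
  induction hA with
  | top => simp only [top_inf_eq]
  | step H K hHK hK hN ih =>
    have hHsn : H.IsSubnormal := Subgroup.IsSubnormal.step H K hHK hK hN
    have hKH : K ≤ Subgroup.normalizer (H : Set G) :=
      (Subgroup.normal_subgroupOf_iff_le_normalizer hHK).mp hN
    have h12 : H ⊓ L ≤ K ⊓ L := inf_le_inf_right _ hHK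
    have hne' : (T : Subgroup G) ⊓ (K ⊓ L) ≠ ⊥ := fun h =>
      hne (le_bot_iff.mp (h ▸ inf_le_inf_left _ h12))
    have ih' := ih hne'
    have hn : K ⊓ L ≤ Subgroup.normalizer ((H ⊓ L : Subgroup G) : Set G) :=
      (le_inf (inf_le_left.trans hKH) (inf_le_right.trans Subgroup.le_normalizer)).trans
        (normalizer_inf_normalizer_le H L)
    have hstep := locchar_step hG T (H ⊓ L) (K ⊓ L) (hHsn.inf hL) h12 hn hne
    rw [← hstep]
    calc (H ⊓ L) ⊓ Subgroup.centralizer ((ptZ p ((T : Subgroup G) ⊓ L) : Subgroup G) : Set G)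
        = (H ⊓ L) ⊓ ((K ⊓ L) ⊓
            Subgroup.centralizer ((ptZ p ((T : Subgroup G) ⊓ L) : Subgroup G) : Set G)) := by
          rw [← inf_assoc, inf_eq_left.mpr h12]
      _ = (H ⊓ L) ⊓ ((K ⊓ L) ⊓ Subgroup.centralizer
            ((ptZ p ((T : Subgroup G) ⊓ (K ⊓ L)) : Subgroup G) : Set G)) := by rw [ih']
      _ = (H ⊓ L) ⊓ Subgroup.centralizer
            ((ptZ p ((T : Subgroup G) ⊓ (K ⊓ L)) : Subgroup G) : Set G) := by
          rw [← inf_assoc, inf_eq_left.mpr h12]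

/-- a `p`-element of a subnormal subgroup `A` with `T ∩ A = 1` is trivial. -/
theorem eq_one_of_sylow_inf_eq_bot [Finite G] {p : ℕ} [hpp : Fact p.Prime] (T : Sylow p G)
    (A : Subgroup G) (hA : A.IsSubnormal) (h : (T : Subgroup G) ⊓ A = ⊥) {x : G} (hx : x ∈ A)
    {k : ℕ} (hk : orderOf x = p ^ k) : x = 1 := by
  have h1 : ¬ p ∣ (T : Subgroup G).relIndex A :=
    Cfsg.Agent.Lib.Helper4.not_dvd_relIndex_of_isSubnormal hA T
  rw [← Subgroup.inf_relIndex_right, h, Subgroup.relIndex_bot_left] at h1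
  have h2 : orderOf x ∣ Nat.card ↥A := by
    have := orderOf_dvd_natCard (⟨x, hx⟩ : ↥A)
    rwa [Subgroup.orderOf_mk] at this
  rcases Nat.eq_zero_or_pos k with rfl | hk0
  · rw [pow_zero, orderOf_eq_one_iff] at hk
    exact hk
  · exfalso
    apply h1
    refine dvd_trans ?_ h2
    rw [hk]
    exact dvd_pow_self p hk0.ne'

/-- **S2806**: point stabilizer of a join of subnormal subgroups. -/
theorem pointStabilizer_sup [Finite G] {p : ℕ} [hpp : Fact p.Prime]
    (hG : Cfsg.IsOfLocalCharacteristic p G) (T : Sylow p G) (L₁ L₂ : Subgroup G)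
    (h₁ : L₁.IsSubnormal) (h₂ : L₂.IsSubnormal) (h₁₂ : (L₁ ⊔ L₂).IsSubnormal) :
    Cfsg.pointStabilizer p (L₁ ⊔ L₂) ((T : Subgroup G) ⊓ (L₁ ⊔ L₂)) =
      Cfsg.pointStabilizer p L₁ ((T : Subgroup G) ⊓ L₁) ⊔
        Cfsg.pointStabilizer p L₂ ((T : Subgroup G) ⊓ L₂) := by
  set L : Subgroup G := L₁ ⊔ L₂ with hLdef
  set Z : Subgroup G := ptZ p ((T : Subgroup G) ⊓ L) with hZ
  -- the comparison of centralizers for `A ≤ L` subnormal
  have hcmp : ∀ A : Subgroup G, A.IsSubnormal → A ≤ L → ∀ x ∈ A, (∃ k : ℕ, orderOf x = p ^ k) →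
      (x ∈ Subgroup.centralizer ((Z : Subgroup G) : Set G) ↔
        x ∈ Subgroup.centralizer ((ptZ p ((T : Subgroup G) ⊓ A) : Subgroup G) : Set G)) := by
    intro A hA hAL x hxA hxp
    by_cases hne : (T : Subgroup G) ⊓ A = ⊥
    · obtain ⟨k, hk⟩ := hxp
      have := eq_one_of_sylow_inf_eq_bot T A hA hne hxA hk
      subst this
      exact ⟨fun _ => Subgroup.one_mem _, fun _ => Subgroup.one_mem _⟩
    · have hAL' : A ⊓ L = A := inf_eq_left.mpr hAL
      have hK := locchar_kieler hG T L h₁₂ A hA (by rw [hAL']; exact hne)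
      rw [hAL'] at hK
      constructor
      · intro hx
        have : x ∈ A ⊓ Subgroup.centralizer ((Z : Subgroup G) : Set G) := ⟨hxA, hx⟩
        rw [hK] at this
        exact this.2
      · intro hx
        have : x ∈ A ⊓ Subgroup.centralizer
            ((ptZ p ((T : Subgroup G) ⊓ A) : Subgroup G) : Set G) := ⟨hxA, hx⟩
        rw [← hK] at this
        exact this.2
  apply le_antisymm
  · -- `≤`
    unfold Cfsg.pointStabilizer
    rw [Subgroup.closure_le]
    rintro x ⟨⟨hxL, hxC⟩, k, hk⟩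
    -- `X = L ∩ C(Z)`, with Sylow subgroup `S = T ∩ L`
    set X : Subgroup G := L ⊓ Subgroup.centralizer ((Z : Subgroup G) : Set G) with hX
    set S : Subgroup G := (T : Subgroup G) ⊓ L with hS
    have hSX : S ≤ X := le_inf inf_le_right (le_centralizer_ptZ p S)
    have hSp : IsPGroup p ↥S := T.isPGroup'.to_le inf_le_left
    have hidx : ¬ p ∣ S.relIndex X := by
      have h1 : ¬ p ∣ (T : Subgroup G).relIndex L :=
        Cfsg.Agent.Lib.Helper4.not_dvd_relIndex_of_isSubnormal h₁₂ T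
      rw [← Subgroup.inf_relIndex_right] at h1
      have h2 := Subgroup.relIndex_mul_relIndex S X L hSX inf_le_left
      intro h3
      exact h1 (h2 ▸ Dvd.dvd.mul_right h3 _)
    have hSp' : IsPGroup p ↥(S.subgroupOf X) := hSp.comap_subtype
    obtain ⟨Q, hQ⟩ : ∃ Q : Sylow p ↥X, (Q : Subgroup ↥X) = S.subgroupOf X :=
      ⟨hSp'.toSylow hidx, rfl⟩
    -- `x` lies in a conjugate of `Q`
    have hxX : x ∈ X := ⟨hxL, hxC⟩
    have hxp : IsPGroup p ↥(Subgroup.zpowers (⟨x, hxX⟩ : ↥X)) := by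
      apply IsPGroup.of_card (n := k)
      rw [Nat.card_zpowers, Subgroup.orderOf_mk, hk]
    obtain ⟨Q', hQ'⟩ := hxp.exists_le_sylow
    obtain ⟨g, hg⟩ := MulAction.exists_smul_eq ↥X Q Q'
    have hxQ' : (⟨x, hxX⟩ : ↥X) ∈ ((g • Q : Sylow p ↥X) : Subgroup ↥X) := by
      rw [hg]
      exact hQ' (Subgroup.mem_zpowers _)
    rw [Cfsg.Agent.Lib.Helper1.mem_sylow_smul_iff, hQ, Subgroup.mem_subgroupOf] at hxQ'
    have hy : (g : G)⁻¹ * x * (g : G) ∈ S := by simpa using hxQ'
    -- use the Sylow subgroup `g • T`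
    have hgL : (g : G) ∈ L := g.2.1
    have hgC : (g : G) ∈ Subgroup.centralizer ((Z : Subgroup G) : Set G) := g.2.2
    have hxT : x ∈ (((g : G) • T : Sylow p G) : Subgroup G) := by
      rw [Cfsg.Agent.Lib.Helper1.mem_sylow_smul_iff]
      exact hy.1
    have hjoin := Cfsg.Agent.Lib.Helper19.SylowJoin.sylow_join ((g : G) • T) L₁ L₂ h₁ h₂
    have hx2 : x ∈ (L₁ ⊓ (((g : G) • T : Sylow p G) : Subgroup G)) ⊔
        (L₂ ⊓ (((g : G) • T : Sylow p G) : Subgroup G)) := by
      rw [← hjoin]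
      exact ⟨hxL, hxT⟩
    have haux : ∀ A : Subgroup G, A.IsSubnormal → A ≤ L →
        A ⊓ (((g : G) • T : Sylow p G) : Subgroup G) ≤
          Subgroup.closure {x : G | x ∈ A ⊓ Subgroup.centralizer
            (Cfsg.omegaOne p (((T : Subgroup G) ⊓ A) ⊓
              Subgroup.centralizer (((T : Subgroup G) ⊓ A : Subgroup G) : Set G)) : Set G) ∧
            ∃ k : ℕ, orderOf x = p ^ k} := by
      intro A hA hAL w hw
      apply Subgroup.subset_closure
      have hwp : ∃ k : ℕ, orderOf w = p ^ k := by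
        obtain ⟨j, hj⟩ := IsPGroup.iff_orderOf.mp ((g : G) • T).isPGroup' ⟨w, hw.2⟩
        exact ⟨j, by rwa [Subgroup.orderOf_mk] at hj⟩
      refine ⟨⟨hw.1, ?_⟩, hwp⟩
      have hwT : w ∈ (((g : G) • T : Sylow p G) : Subgroup G) := hw.2
      rw [Cfsg.Agent.Lib.Helper1.mem_sylow_smul_iff] at hwT
      have hsS : (g : G)⁻¹ * w * (g : G) ∈ S :=
        ⟨hwT, L.mul_mem (L.mul_mem (L.inv_mem hgL) (hAL hw.1)) hgL⟩
      have hsC := le_centralizer_ptZ p S hsS
      have hwC : w ∈ Subgroup.centralizer ((Z : Subgroup G) : Set G) := by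
        have : w = (g : G) * ((g : G)⁻¹ * w * (g : G)) * (g : G)⁻¹ := by group
        rw [this]
        exact Subgroup.mul_mem _ (Subgroup.mul_mem _ hgC hsC) (Subgroup.inv_mem _ hgC)
      exact (hcmp A hA hAL w hw.1 hwp).mp hwC
    exact (sup_le_sup (haux L₁ h₁ le_sup_left) (haux L₂ h₂ le_sup_right)) hx2
  · -- `≥`
    have haux : ∀ A : Subgroup G, A.IsSubnormal → A ≤ L →
        Cfsg.pointStabilizer p A ((T : Subgroup G) ⊓ A) ≤
          Cfsg.pointStabilizer p L ((T : Subgroup G) ⊓ L) := by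
      intro A hA hAL
      unfold Cfsg.pointStabilizer
      rw [Subgroup.closure_le]
      rintro x ⟨⟨hxA, hxC⟩, hxp⟩
      apply Subgroup.subset_closure
      exact ⟨⟨hAL hxA, (hcmp A hA hAL x hxA hxp).mpr hxC⟩, hxp⟩
    exact sup_le (haux L₁ h₁ le_sup_left) (haux L₂ h₂ le_sup_right)

end PtStab

end Cfsg.Agent.Lib.Helper16
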