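/-
helper16 (S4581 market, planner helper5): leaf (KQ1) `rcountKer_quotient`.
Inflation: real odd-degree irreducible characters with `K` in the kernel = those of `X ⧸ K`.
-/
import Mathlib
import Cfsg.Prelude.Def_Blocks
import Cfsg.Agent.Lib.Helper5.RODefs
import Cfsg.Agent.Lib.Helper25.Inflate

set_option autoImplicit false

namespace Cfsg.Agent.Lib.Helper16.RO

open Cfsg Cfsg.Agent.Lib.Helper6 Cfsg.Agent.Lib.Helper5.RO Cfsg.Agent.Lib.Helper25

universe u

/-- **S4581 leaf (KQ1)** (frozen signature of `notes/S4581_leaves.lean`). -/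
theorem rcountKer_quotient {X : Type u} [Group X] [Finite X] (K : Subgroup X) [K.Normal] :
    rcountKer X (K : Set X) = rcount (X ⧸ K) := by
  classical
  unfold rcountKer rcount
  symm
  apply Nat.card_congr
  have hdeg : ∀ θ : IrrCharacter (X ⧸ K),
      charDegree ((inflateIrr K θ : IrrCharacter X) : X → ℂ) = charDegree (θ : X ⧸ K → ℂ) :=
    fun θ => rfl
  refine Equiv.ofBijective
    (fun θ => ⟨inflateIrr K θ.1, ⟨fun g => θ.2.1 _, by rw [hdeg]; exact θ.2.2⟩,
      fun s hs => inflateIrr_mem_ker K θ.1 s hs⟩) ⟨?_, ?_⟩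
  · intro θ θ' h
    apply Subtype.ext
    apply inflateIrr_injective K
    exact congrArg Subtype.val h
  · rintro ⟨ψ, ⟨hre, hodd⟩, hker⟩
    obtain ⟨θ, hθ⟩ := exists_inflateIrr_eq K ψ hker
    refine ⟨⟨θ, ?_, ?_⟩, ?_⟩
    · intro q
      obtain ⟨g, rfl⟩ := QuotientGroup.mk_surjective q
      have := hre g
      rw [← hθ] at this
      exact this
    · rw [← hdeg, hθ]
      exact hodd
    · apply Subtype.ext
      exact hθ

end Cfsg.Agent.Lib.Helper16.RO
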