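/-
helper16 (S4581 market, planner helper5): leaf (T2C) `allOddReal_of_selfcentralizing`.
`χ` of odd degree, `θ` a `P`-invariant constituent of `χ_V` (odd orbit), linear since `V` is a
2-group; `T` its stabilizer.  `T ≠ ⊤`: `χ = ψ^G` with `ψ ∈ Irr(T | θ)` of odd degree, real by `ihs`.
`T = ⊤`: `χ_V = χ(1) θ`, `K = ker θ ⊴ G`; `K ≠ 1`: `χ` is inflated from `G/K`, real by `ihq`;
`K = 1`: `θ` faithful and invariant, so `V` is central, `G = C_G(V) ≤ V ≤ P`, contradiction.
-/
import Mathlib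
import Cfsg.Prelude.Def_Blocks
import Cfsg.Agent.Lib.Helper6.Clifford
import Cfsg.Agent.Lib.Helper6.CliffordCorr
import Cfsg.Agent.Lib.Helper6.LinChar
import Cfsg.Agent.Lib.Helper6.CharExtra
import Cfsg.Agent.Lib.Helper5.RODefs
import Cfsg.Agent.Lib.Helper8.RealPR4
import Cfsg.Agent.Lib.Helper25.RealPR1Core
import Cfsg.Agent.Lib.Helper25.Inflate
import Cfsg.Agent.Lib.Helper24.IrrFacts

set_option autoImplicit false

namespace Cfsg.Agent.Lib.Helper16.RO

open Cfsg Cfsg.Agent.CharLib Cfsg.Agent.Lib.Helper6 Cfsg.Agent.Lib.Helper5.RO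
open Cfsg.Agent.Lib.Helper25 Cfsg.Agent.Lib.Helper25.RealP
open scoped ComplexConjugate

universe u

/-- the function induced from a real-valued function is real-valued -/
theorem indFun_im_eq_zero {G : Type u} [Group G] [Fintype G] (T : Subgroup G) (ψ : T → ℂ)
    (hψ : ∀ t : T, (ψ t).im = 0) (g : G) : (indFun T ψ g).im = 0 := by
  apply Complex.conj_eq_iff_im.mp
  rw [indFun_apply, map_mul, map_inv₀, Complex.conj_natCast, map_sum]
  congr 1
  apply Finset.sum_congr rfl
  intro x _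
  by_cases h : x⁻¹ * g * x ∈ T
  · rw [extendByZero_mem T ψ h]
    exact Complex.conj_eq_iff_im.mpr (hψ _)
  · rw [extendByZero_not_mem T ψ h, map_zero]

/-- an irreducible character of odd degree has a `P`-invariant irreducible constituent of odd
degree on a normal subgroup -/
theorem exists_inv_constituent_of_odd {G : Type u} [Group G] [Fintype G] (P : Sylow 2 G)
    (V : Subgroup G) [hV : V.Normal] [Fintype V] (χ : IrrCharacter G)
    (hodd : Odd (charDegree (χ : G → ℂ))) :
    ∃ θ : V → ℂ, IsIrrCharacter V θ ∧ classInner (resFun V (χ : G → ℂ)) θ ≠ 0 ∧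
      Odd (charDegree θ) ∧ ∀ g ∈ (P : Subgroup G), Helper6.conjFun V g θ = θ := by
  classical
  have hχc : IsCharacter G (χ : G → ℂ) := IsIrrCharacter.isCharacter χ.2
  have hcls : IsClassFunction G (χ : G → ℂ) := IsCharacter.isClassFunction hχc
  have hresc : IsCharacter V (resFun V (χ : G → ℂ)) := isCharacter_resFun V hχc
  have hne : resFun V (χ : G → ℂ) ≠ 0 := by
    intro h
    have h1 := congrFun h 1
    obtain ⟨d, hd, hd1⟩ := IsIrrCharacter.apply_one_pos χ.2
    rw [resFun_apply] at h1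
    change (χ : G → ℂ) 1 = 0 at h1
    rw [hd1] at h1
    have : d = 0 := by exact_mod_cast h1
    omega
  obtain ⟨θ₀, hθ₀, hθ₀c⟩ := IsCharacter.exists_constituent hresc hne
  have hdeg := clifford_degree V χ.2 hθ₀ hθ₀c
  obtain ⟨n, hn⟩ := IsCharacter.classInner_nat hresc (IsIrrCharacter.isCharacter hθ₀)
  obtain ⟨dθ, hdθpos, hdθ⟩ := IsIrrCharacter.apply_one_pos hθ₀
  rw [hn, hdθ] at hdeg
  have hdeg' : (χ : G → ℂ) 1 = ((n * (conjOrbit V θ₀).card * dθ : ℕ) : ℂ) := by
    rw [hdeg]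
    push_cast
    rfl
  rw [Cfsg.Agent.Lib.Helper8.RealP.charDegree_eq_of_one hdeg'] at hodd
  have ho1 : Odd ((conjOrbit V θ₀).card) := (Nat.odd_mul.mp (Nat.odd_mul.mp hodd).1).2
  have ho2 : Odd dθ := (Nat.odd_mul.mp hodd).2
  -- orbit size = index of the stabiliser
  have h1 := card_conjOrbit_mul V θ₀
  have h2 : Nat.card {g : G // Helper6.conjFun V g θ₀ = θ₀} = Nat.card (stabFun V θ₀) := rfl
  rw [h2] at h1
  have h3 := Subgroup.index_mul_card (stabFun V θ₀)
  have hpos : 0 < Nat.card (stabFun V θ₀) := Nat.card_pos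
  have hidx : (conjOrbit V θ₀).card = (stabFun V θ₀).index :=
    Nat.eq_of_mul_eq_mul_right hpos (h1.trans h3.symm)
  have hs : ¬ 2 ∣ (stabFun V θ₀).index := by
    rw [← hidx]
    intro h
    exact (Nat.not_even_iff_odd.mpr ho1) (even_iff_two_dvd.mpr h)
  obtain ⟨S, hS⟩ := Cfsg.Agent.Lib.Helper8.RealP.exists_sylow_le_of_index (stabFun V θ₀) hs
  obtain ⟨a, ha⟩ := MulAction.exists_smul_eq G S P
  refine ⟨Helper6.conjFun V a⁻¹ θ₀, isIrrCharacter_conjFun V hθ₀ a⁻¹, ?_, ?_, ?_⟩
  · rw [classInner_resFun_conjFun V hcls]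
    exact hθ₀c
  · have : Helper6.conjFun V a⁻¹ θ₀ 1 = ((dθ : ℕ) : ℂ) := by
      rw [conjFun_apply_one, hdθ]
    rw [Cfsg.Agent.Lib.Helper8.RealP.charDegree_eq_of_one this]
    exact ho2
  · intro t ht
    have hts : a⁻¹ * t * a ∈ (S : Subgroup G) := by
      have : t ∈ ((a • S : Sylow 2 G) : Subgroup G) := by rw [ha]; exact ht
      rw [Sylow.coe_subgroup_smul, Subgroup.mem_pointwise_smul_iff_inv_smul_mem] at this
      have e : (MulAut.conj a)⁻¹ • t = a⁻¹ * t * a := by
        rw [← map_inv, MulAut.smul_def, MulAut.conj_apply, inv_inv]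
      rwa [e] at this
    have hstab : Helper6.conjFun V (a⁻¹ * t * a) θ₀ = θ₀ :=
      (mem_stabFun V θ₀ _).mp (hS hts)
    rw [← conjFun_mul]
    have e2 : a⁻¹ * t = (a⁻¹ * t * a) * a⁻¹ := by group
    rw [e2, conjFun_mul, hstab]

/-- **S4581 leaf (T2C)** (frozen signature of `notes/S4581_leaves.lean`). -/
theorem allOddReal_of_selfcentralizing {G : Type u} [Group G] [Finite G] (P : Sylow 2 G)
    (V : Subgroup G) [V.Normal] (hV : IsPGroup 2 V) (hVP : V ≤ (P : Subgroup G))
    (hcent : Subgroup.centralizer (V : Set G) ≤ V) (hsq : SqComm (P : Subgroup G))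
    (hP : (P : Subgroup G) ≠ ⊤)
    (ihq : ∀ (K : Subgroup G) [K.Normal], K ≠ ⊥ → K ≤ V → AllOddReal (G ⧸ K))
    (ihs : ∀ T : Subgroup G, (P : Subgroup G) ≤ T → T ≠ ⊤ → AllOddReal ↥T) :
    AllOddReal G := by
  classical
  let _ := Fintype.ofFinite G
  let _ : Fintype V := Fintype.ofFinite V
  intro χ hχodd
  obtain ⟨θ, hθ, hθc, hθodd, hθinv⟩ := exists_inv_constituent_of_odd P V χ hχodd
  have hθchar : IsCharacter V θ := IsIrrCharacter.isCharacter hθ
  have hθcls : IsClassFunction V θ := IsCharacter.isClassFunction hθchar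
  -- `θ` is linear
  have hθ1 : θ 1 = 1 := by
    have hdvd := Cfsg.Agent.Lib.Helper24.irr_charDegree_dvd_card (⟨θ, hθ⟩ : IrrCharacter V)
    obtain ⟨k, hk⟩ := hV.exists_card_eq
    rw [hk] at hdvd
    have hcop : Nat.Coprime (charDegree θ) (2 ^ k) := (Odd.coprime_two_right hθodd).pow_right k
    have h1 : charDegree θ = 1 := Nat.Coprime.eq_one_of_dvd hcop hdvd
    have h2 := Cfsg.Agent.Lib.Helper24.irr_apply_one (⟨θ, hθ⟩ : IrrCharacter V)
    change θ 1 = _ at h2
    rw [h2]
    change ((charDegree θ : ℕ) : ℂ) = 1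
    rw [h1, Nat.cast_one]
  have hPT : (P : Subgroup G) ≤ stabFun V θ := fun g hg => hθinv g hg
  have hVT : V ≤ stabFun V θ := fun g hg => conjFun_of_mem V hθcls hg
  by_cases hT : stabFun V θ = ⊤
  · -- `θ` is invariant
    have hinv : ∀ g : G, Helper6.conjFun V g θ = θ := by
      intro g
      have : g ∈ stabFun V θ := by rw [hT]; exact Subgroup.mem_top g
      exact this
    have hcl := clifford_of_invariant V χ.2 hθ hθc hinv
    have hχv : ∀ v : V, (χ : G → ℂ) v = classInner (resFun V (χ : G → ℂ)) θ * θ v := by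
      intro v
      have := congrFun hcl v
      rw [resFun_apply, Pi.smul_apply, smul_eq_mul] at this
      exact this
    have hχ1 : (χ : G → ℂ) 1 = classInner (resFun V (χ : G → ℂ)) θ := by
      have := hχv 1
      rw [hθ1, mul_one] at this
      exact this
    let φ : V →* ℂˣ := linCharUnitsHom hθchar hθ1
    have hφ : ∀ v : V, ((φ v : ℂˣ) : ℂ) = θ v := fun v => linCharUnitsHom_apply hθchar hθ1 v
    have hKV : φ.ker.map V.subtype ≤ V := Subgroup.map_subtype_le _
    have hKn : (φ.ker.map V.subtype).Normal := by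
      constructor
      intro k hk g
      obtain ⟨v, hv, rfl⟩ := Subgroup.mem_map.mp hk
      refine Subgroup.mem_map.mpr ⟨⟨g * (v : G) * g⁻¹, ‹V.Normal›.conj_mem v v.2 g⟩, ?_, rfl⟩
      rw [MonoidHom.mem_ker] at hv ⊢
      apply Units.ext
      rw [hφ, Units.val_one]
      have h1 := congrFun (hinv g) v
      rw [conjFun_apply] at h1
      rw [h1, ← hφ, hv, Units.val_one]
    by_cases hK : φ.ker.map V.subtype = ⊥
    · exfalso
      apply hP
      rw [eq_top_iff]
      intro g _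
      apply hVP
      apply hcent
      rw [Subgroup.mem_centralizer_iff]
      intro v hv
      have h1 := congrFun (hinv g) ⟨v, hv⟩
      rw [conjFun_apply] at h1
      have h2 : φ ⟨g * v * g⁻¹, ‹V.Normal›.conj_mem v hv g⟩ = φ ⟨v, hv⟩ := by
        apply Units.ext
        rw [hφ, hφ]
        exact h1
      have h3 : (⟨g * v * g⁻¹, ‹V.Normal›.conj_mem v hv g⟩ : V) * (⟨v, hv⟩ : V)⁻¹ ∈ φ.ker := by
        rw [MonoidHom.mem_ker, map_mul, map_inv, h2, mul_inv_cancel]
      have h4 : g * v * g⁻¹ * v⁻¹ ∈ φ.ker.map V.subtype :=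
        Subgroup.mem_map.mpr ⟨_, h3, rfl⟩
      rw [hK, Subgroup.mem_bot] at h4
      have h5 : g * v * g⁻¹ = v := by
        have := mul_inv_eq_one.mp h4
        exact this
      calc v * g = (g * v * g⁻¹) * g := by rw [h5]
        _ = g * v := by group
    · haveI := hKn
      have hq := ihq (φ.ker.map V.subtype) hK hKV
      have hker : ∀ k ∈ φ.ker.map V.subtype, (χ : G → ℂ) k = (χ : G → ℂ) 1 := by
        intro k hk
        obtain ⟨v, hv, rfl⟩ := Subgroup.mem_map.mp hk
        rw [MonoidHom.mem_ker] at hv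
        have h1 := hχv v
        rw [← hφ, hv, Units.val_one, mul_one, ← hχ1] at h1
        exact h1
      obtain ⟨θ', hθ'⟩ := exists_inflateIrr_eq (φ.ker.map V.subtype) χ hker
      have hdeg : charDegree ((inflateIrr (φ.ker.map V.subtype) θ' : IrrCharacter G) : G → ℂ) =
          charDegree (θ' : G ⧸ (φ.ker.map V.subtype) → ℂ) := rfl
      have hre := hq θ' (by rw [← hdeg, hθ']; exact hχodd)
      intro g
      rw [← hθ']
      exact hre _
  · -- Clifford correspondence
    let _ : Fintype (stabFun V θ) := Fintype.ofFinite _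
    obtain ⟨ψ, hψ, hind, _⟩ := exists_indFun_inertia_eq (T := stabFun V θ) hVT hθ
      (fun g => Iff.rfl) χ.2 hθc
    obtain ⟨dψ, hdψpos, hdψ⟩ := IsIrrCharacter.apply_one_pos hψ
    have hcard : (Nat.card G : ℂ) = (Nat.card (stabFun V θ) : ℂ) * ((stabFun V θ).index : ℂ) := by
      rw [← Nat.cast_mul, Subgroup.card_mul_index]
    have hT0 : (Nat.card (stabFun V θ) : ℂ) ≠ 0 := Nat.cast_ne_zero.mpr Nat.card_pos.ne'
    have h1 : (χ : G → ℂ) 1 = (((stabFun V θ).index * dψ : ℕ) : ℂ) := by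
      rw [← hind, indFun_apply_one, hdψ, hcard]
      push_cast
      field_simp
    rw [Cfsg.Agent.Lib.Helper8.RealP.charDegree_eq_of_one h1] at hχodd
    have hψodd : Odd (charDegree ψ) := by
      rw [Cfsg.Agent.Lib.Helper8.RealP.charDegree_eq_of_one hdψ]
      exact (Nat.odd_mul.mp hχodd).2
    have hψre := ihs (stabFun V θ) hPT hT ⟨ψ, hψ⟩ hψodd
    intro g
    rw [← hind]
    exact indFun_im_eq_zero (stabFun V θ) ψ hψre g

end Cfsg.Agent.Lib.Helper16.RO
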