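import Mathlib
import Cfsg.Agent.Lib.Helper16.SFDefs
import Cfsg.Agent.Lib.Helper8.ThTwoA
import Cfsg.Agent.Lib.Helper8.ThTwoE
import Cfsg.Agent.Lib.Helper8.SFmodD
import Cfsg.Agent.Lib.Helper8.SFmodS
import Cfsg.Agent.Lib.Helper4.SFcard_le_two_mul
import Cfsg.Agent.Lib.Helper29.SFs3_of_inverts
import Cfsg.Agent.Lib.Helper29.SFfitting_odd
import Cfsg.Agent.Lib.Helper29.SFcenter_odd
import Cfsg.Agent.Lib.Helper27.SFconfD_of_odd
import Cfsg.Agent.Lib.Helper23.SFcomp_type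
import Cfsg.Agent.Lib.Helper23.SFexists_component
import Cfsg.Agent.Lib.Helper22.SFredAlpha
import Cfsg.Agent.Lib.Helper22.SFredBeta
import Cfsg.Agent.Lib.Helper22.SFnormPslOf
import Cfsg.Agent.Lib.Helper14.SFnormBeta
import Cfsg.Agent.Lib.Helper14.SFnormSz
import Cfsg.Agent.Lib.Helper14.SFpslTorus
import Cfsg.Agent.Lib.Helper15.SFpslOuter
import Cfsg.Agent.Lib.Helper26.SFpslAutOf

/-!
# S2752 (market "SF"): assembly (helper16)

`struct`: an elementary abelian `2`-subgroup `A ≠ 1` of a finite `S₃`-free group `H` with `O₂(H) = 1` whose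
non-abelian composition factors are `Sz(2^odd)` / `PSL₂(3^odd)` exhibits `ConfD A` or `ConfS A`.
`main_abs`: `|A|² |C_V(A)| ≤ |V|` on every faithful `F₂`-module `V` (induction on `|A|`).
Leaves by helpers 4, 8, 14, 15, 17, 20, 22, 23, 26, 27, 29 (see `notes/S2752_leaves.lean`).
-/

set_option autoImplicit false
universe u v
open Cfsg Cfsg.Agent.Lib.Helper16.SF Cfsg.Agent.Lib.Helper8.ThTwo

namespace Cfsg.Agent.Lib.Helper16.SFMain

section grp
variable {H : Type u} [Group H] [Finite H]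

theorem normPsl (hb : ¬ Cfsg.Involves (Equiv.Perm (Fin 3)) H)
    (A : Subgroup H) (hAe : Cfsg.IsElementaryAbelian 2 A) (K : Subgroup H)
    (hK : Cfsg.IsQuasisimple ↥K) (hZ : Odd (Nat.card ↥(Subgroup.center ↥K)))
    {F : Type} [Field F] [Fintype F] (n : ℕ) (hF : Fintype.card F = 3 ^ (2 * n + 1))
    (e : Nonempty (↥K ⧸ Subgroup.center ↥K ≃* Matrix.ProjectiveSpecialLinearGroup (Fin 2) F))
    (hAN : A ≤ Subgroup.normalizer (K : Set H))
    (h4 : 4 ≤ (A ⊓ Subgroup.centralizer (K : Set H)).relIndex A) : ConfD A :=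
  Cfsg.Agent.Lib.Helper22.SFnormPslOf.normPsl_of
    (fun a u ha hu hau => Cfsg.Agent.Lib.Helper29.SFLeaf.s3_of_inverts a u ha hu hau) hb A hAe K
    (fun E hE h4E => Cfsg.Agent.Lib.Helper26.SFLeaf.pslAut_of hK hZ n hF
      (fun hn α h2 => Cfsg.Agent.Lib.Helper15.SFLeaf.pslOuter n hn hF α h2)
      (fun hn s t hs ht hs1 ht1 hst hc =>
        Cfsg.Agent.Lib.Helper14.SFLeaf.pslTorus n hn hF s t hs ht hs1 ht1 hst hc) e E hE h4E)
    hAN h4


theorem isPGroup_of_ea (A : Subgroup H) (hAe : Cfsg.IsElementaryAbelian 2 A) : IsPGroup 2 A := by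
  rintro ⟨g, hg⟩
  exact ⟨1, Subtype.ext (by simpa using hAe.2 g hg)⟩

theorem ea_of_le {A B : Subgroup H} (hAe : Cfsg.IsElementaryAbelian 2 A) (hBA : B ≤ A) :
    Cfsg.IsElementaryAbelian 2 B := by
  refine ⟨⟨⟨fun x y => ?_⟩⟩, fun b hb => hAe.2 b (hBA hb)⟩
  have := hAe.1.is_comm.comm ⟨x.1, hBA x.2⟩ ⟨y.1, hBA y.2⟩
  exact Subtype.ext (by simpa using congrArg Subtype.val this)

theorem ea_comm {A : Subgroup H} (hAe : Cfsg.IsElementaryAbelian 2 A) {x y : H} (hx : x ∈ A) (hy : y ∈ A) :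
    x * y = y * x := by
  have := hAe.1.is_comm.comm ⟨x, hx⟩ ⟨y, hy⟩
  simpa using congrArg Subtype.val this

theorem ea_sq {A : Subgroup H} (hAe : Cfsg.IsElementaryAbelian 2 A) {x : H} (hx : x ∈ A) : x * x = 1 := by
  have := hAe.2 x hx
  rwa [pow_two] at this

/-- `no3`. -/
theorem no3 (hb : ¬ Cfsg.Involves (Equiv.Perm (Fin 3)) H) (a x : H) (ha : a * a = 1)
    (hax : a * x * a⁻¹ = x⁻¹) : ¬ 3 ∣ orderOf x := by
  intro h3
  apply hb
  have hpos : orderOf x ≠ 0 := (orderOf_pos x).ne'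
  refine Cfsg.Agent.Lib.Helper29.SFLeaf.s3_of_inverts a (x ^ (orderOf x / 3)) ha (orderOf_pow_orderOf_div hpos h3) ?_
  rw [← inv_pow, ← hax, conj_pow]

/-- the normalizing case -/
theorem normCase (hb : ¬ Cfsg.Involves (Equiv.Perm (Fin 3)) H)
    (A : Subgroup H) (hAe : Cfsg.IsElementaryAbelian 2 A) (K : Subgroup H)
    (hK : Cfsg.IsQuasisimple ↥K) (hZ : Odd (Nat.card ↥(Subgroup.center ↥K)))
    (hty : Cfsg.IsSuzukiOrPSL2OddPowerThree (↥K ⧸ Subgroup.center ↥K))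
    (hAN : A ≤ Subgroup.normalizer (K : Set H)) (hAC : ¬ A ≤ Subgroup.centralizer (K : Set H)) :
    ConfD A ∨ ConfS A := by
  have hne1 : (A ⊓ Subgroup.centralizer (K : Set H)).relIndex A ≠ 1 := by
    intro h
    apply hAC
    exact (Subgroup.relIndex_eq_one.mp h).trans inf_le_right
  obtain ⟨j, hj⟩ := IsPGroup.iff_card.mp (isPGroup_of_ea A hAe)
  have hdvd : (A ⊓ Subgroup.centralizer (K : Set H)).relIndex A ∣ 2 ^ j := by
    rw [← hj]
    exact Subgroup.relIndex_dvd_card _ _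
  obtain ⟨k, -, hk⟩ := (Nat.dvd_prime_pow Nat.prime_two).mp hdvd
  rcases k with _ | _ | k
  · exact absurd (by simpa using hk) hne1
  · left
    exact Cfsg.Agent.Lib.Helper14.SFLeaf.normBeta A hAe K hK hAN (by simpa using hk)
  · have h4 : 4 ≤ (A ⊓ Subgroup.centralizer (K : Set H)).relIndex A := by
      rw [hk, pow_succ, pow_succ]
      have : 1 ≤ 2 ^ k := Nat.one_le_two_pow
      omega
    rcases hty with hS | ⟨F, _, _, n, hF, e⟩
    · right
      exact Cfsg.Agent.Lib.Helper14.SFLeaf.normSz A hAe K hK hZ hS hAN h4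
    · left
      exact normPsl hb A hAe K hK hZ n hF e hAN h4

/-- the reduction to the normalizing case -/
theorem redR (A : Subgroup H) (hAe : Cfsg.IsElementaryAbelian 2 A) (K : Subgroup H)
    (hK : Cfsg.IsComponent K) (hAK : ¬ K ≤ Subgroup.centralizer (A : Set H)) :
    ConfD A ∨ ∃ K' : Subgroup H, Cfsg.IsQuasisimple ↥K' ∧
      Nonempty (↥K ⧸ Subgroup.center ↥K ≃* ↥K' ⧸ Subgroup.center ↥K') ∧
      Nat.card ↥(Subgroup.center ↥K') ∣ Nat.card ↥(Subgroup.center ↥K) ∧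
      A ≤ Subgroup.normalizer (K' : Set H) ∧ ¬ A ≤ Subgroup.centralizer (K' : Set H) := by
  by_cases hα : A ⊓ Subgroup.normalizer (K : Set H) ≤ Subgroup.centralizer (K : Set H)
  · left
    exact Cfsg.Agent.Lib.Helper22.SFLeaf.redAlpha A hAe K hK hAK hα
  · right
    exact Cfsg.Agent.Lib.Helper22.SFLeaf.redBeta A hAe K hK hα

theorem type_congr {X Y : Type u} [Group X] [Group Y] (e : X ≃* Y)
    (h : Cfsg.IsSuzukiOrPSL2OddPowerThree X) : Cfsg.IsSuzukiOrPSL2OddPowerThree Y := by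
  rcases h with ⟨F, _, _, m, hm, hF, ⟨f⟩⟩ | ⟨F, _, _, n, hF, ⟨f⟩⟩
  · exact Or.inl ⟨F, _, _, m, hm, hF, ⟨e.symm.trans f⟩⟩
  · exact Or.inr ⟨F, _, _, n, hF, ⟨e.symm.trans f⟩⟩

/-- **STRUCT** -/
theorem struct (ha : Cfsg.pCore 2 H = ⊥) (hb : ¬ Cfsg.Involves (Equiv.Perm (Fin 3)) H)
    (hc : Cfsg.IsCompositionKGroupWith Cfsg.IsSuzukiOrPSL2OddPowerThree H)
    (A : Subgroup H) (hAe : Cfsg.IsElementaryAbelian 2 A) (hA1 : A ≠ ⊥) : ConfD A ∨ ConfS A := by
  obtain ⟨hFn, hFodd⟩ := Cfsg.Agent.Lib.Helper29.SFLeaf.fitting_odd (H := H) ha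
  by_cases hAF : Cfsg.fittingSubgroup H ≤ Subgroup.centralizer (A : Set H)
  · obtain ⟨K, hK, hKA⟩ := Cfsg.Agent.Lib.Helper23.SFLeaf.exists_component ha A (isPGroup_of_ea A hAe) hA1 hAF
    have hZ := Cfsg.Agent.Lib.Helper29.SFLeaf.center_odd ha K hK
    have hty := Cfsg.Agent.Lib.Helper23.SFLeaf.comp_type hc K hK
    rcases redR A hAe K hK hKA with hD | ⟨K', hK'q, ⟨e⟩, hdvd, hAN, hAC⟩
    · exact Or.inl hD
    · have hZ' : Odd (Nat.card ↥(Subgroup.center ↥K')) := by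
        obtain ⟨c, hc'⟩ := hdvd
        rw [hc'] at hZ
        exact (Nat.odd_mul.mp hZ).1
      exact normCase hb A hAe K' hK'q hZ' (type_congr e hty) hAN hAC
  · exact Or.inl (Cfsg.Agent.Lib.Helper27.SFLeaf.confD_of_odd A hAe _ hFn hFodd hAF)

end grp

/-- **MAIN (abstract form)**: no offenders, quadratically. -/
theorem main_abs {Γ : Type u} {V : Type v} [Group Γ] [Finite Γ] [Group V] [Finite V]
    [MulDistribMulAction Γ V] (hVc : ∀ a b : V, a * b = b * a) (hV2 : ∀ v : V, v ^ 2 = 1)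
    (hfaith : ∀ g : Γ, (∀ v : V, g • v = v) → g = 1)
    (ha : Cfsg.pCore 2 Γ = ⊥) (hb : ¬ Cfsg.Involves (Equiv.Perm (Fin 3)) Γ)
    (hc : Cfsg.IsCompositionKGroupWith Cfsg.IsSuzukiOrPSL2OddPowerThree Γ) :
    ∀ A : Subgroup Γ, Cfsg.IsElementaryAbelian 2 A →
      Nat.card A ^ 2 * Nat.card ↥(fixSub (V := V) A) ≤ Nat.card V := by
  intro A
  induction' hn : Nat.card A using Nat.strong_induction_on with n ih generalizing A
  intro hAe
  by_cases hA1 : A = ⊥
  · subst hA1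
    have h1 : Nat.card (⊥ : Subgroup Γ) = 1 := Subgroup.card_bot
    rw [← hn, h1, one_pow, one_mul]
    exact Nat.card_le_card_of_injective _ (Subgroup.subtype_injective _)
  · rcases struct ha hb hc A hAe hA1 with hD | hS
    · obtain ⟨B, a, x, hBA, haA, haB, hAB, hx1, hxo, hBx, hax⟩ := hD
      have hBe : Cfsg.IsElementaryAbelian 2 B := ea_of_le hAe hBA
      have hBlt : B < A := lt_of_le_of_ne hBA (fun h => haB (h ▸ haA))
      have hlt : Nat.card B < Nat.card A := by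
        have h2 := two_mul_card_le_of_lt hBlt
        have : 0 < Nat.card B := Nat.card_pos
        omega
      have ihB := ih (Nat.card B) (hn ▸ hlt) B rfl hBe
      have haa : a * a = 1 := ea_sq hAe haA
      have hBa : ∀ b ∈ B, b * a = a * b := fun b hb => ea_comm hAe (hBA hb) haA
      have hx3 : ¬ 3 ∣ orderOf x := no3 hb a x haa hax
      have hmod := Cfsg.Agent.Lib.Helper8.SFLeaf.modD (V := V) hVc hV2 hfaith B (isPGroup_of_ea B hBe) a x hx1 hxo hx3 hBx hBa hax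
      have hfix : fixSub (V := V) A ≤ fixSub (V := V) B ⊓ fixElt a :=
        le_inf (fixSub_anti hBA) (fun v hv => hv a haA)
      have hfc : Nat.card ↥(fixSub (V := V) A) ≤ Nat.card ↥(fixSub (V := V) B ⊓ fixElt a) :=
        Nat.card_le_card_of_injective _ (Subgroup.inclusion_injective hfix)
      have hcard : Nat.card A ≤ 2 * Nat.card B := Cfsg.Agent.Lib.Helper4.SFLeaf.card_le_two_mul A B a haa hBa hAB
      rw [← hn]
      calc Nat.card A ^ 2 * Nat.card ↥(fixSub (V := V) A)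
          ≤ (2 * Nat.card B) ^ 2 * Nat.card ↥(fixSub (V := V) B ⊓ fixElt a) :=
            Nat.mul_le_mul (Nat.pow_le_pow_left hcard 2) hfc
        _ = Nat.card B ^ 2 * (4 * Nat.card ↥(fixSub (V := V) B ⊓ fixElt a)) := by ring
        _ ≤ Nat.card B ^ 2 * Nat.card ↥(fixSub (V := V) B) := Nat.mul_le_mul_left _ hmod
        _ ≤ Nat.card V := ihB
    · obtain ⟨A₂, K, a, t, F, _, _, m, hA₂A, haA, haA₂, hm, hF, hcard, hKA₂, hK, hZ, e, htK, ht2, htZ,
        hcK⟩ := hS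
      have hA₂e : Cfsg.IsElementaryAbelian 2 A₂ := ea_of_le hAe hA₂A
      have hA₂lt : A₂ < A := lt_of_le_of_ne hA₂A (fun h => haA₂ (h ▸ haA))
      have hlt : Nat.card A₂ < Nat.card A := by
        have h2 := two_mul_card_le_of_lt hA₂lt
        have : 0 < Nat.card A₂ := Nat.card_pos
        omega
      have ihA₂ := ih (Nat.card A₂) (hn ▸ hlt) A₂ rfl hA₂e
      have haa : a * a = 1 := ea_sq hAe haA
      have haA₂' : ∀ b ∈ A₂, a * b = b * a := fun b hb => ea_comm hAe haA (hA₂A hb)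
      have hmod := Cfsg.Agent.Lib.Helper8.SFLeaf.modS (V := V) hVc hV2 hfaith A₂ K a t m hm hF (isPGroup_of_ea A₂ hA₂e) haa haA₂' hKA₂
        hK hZ e htK ht2 htZ hcK
      have hfix : fixSub (V := V) A ≤ fixSub (V := V) A₂ ⊓ fixElt a :=
        le_inf (fixSub_anti hA₂A) (fun v hv => hv a haA)
      have hfc : Nat.card ↥(fixSub (V := V) A) ≤ Nat.card ↥(fixSub (V := V) A₂ ⊓ fixElt a) :=
        Nat.card_le_card_of_injective _ (Subgroup.inclusion_injective hfix)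
      rw [← hn]
      calc Nat.card A ^ 2 * Nat.card ↥(fixSub (V := V) A)
          ≤ (2 ^ (2 * m + 1) * Nat.card A₂) ^ 2 * Nat.card ↥(fixSub (V := V) A₂ ⊓ fixElt a) :=
            Nat.mul_le_mul (Nat.pow_le_pow_left hcard 2) hfc
        _ = Nat.card A₂ ^ 2 * ((2 ^ (2 * m + 1)) ^ 2 * Nat.card ↥(fixSub (V := V) A₂ ⊓ fixElt a)) := by
            ring
        _ ≤ Nat.card A₂ ^ 2 * Nat.card ↥(fixSub (V := V) A₂) := Nat.mul_le_mul_left _ hmod
        _ ≤ Nat.card V := ihA₂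


end Cfsg.Agent.Lib.Helper16.SFMain
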