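import Mathlib

/-!
# S2796 (market "SF", wave 2): the action of `X / C_X(V)` on a normal subgroup `V` (helper16)
-/

set_option autoImplicit false

namespace Cfsg.Agent.Lib.Helper16.SF

variable {X : Type*} [Group X]

/-- `X / C_X(V) → Aut(V)` for a normal subgroup `V`. -/
def quotActHom (V : Subgroup X) [V.Normal] :
    X ⧸ Subgroup.centralizer (V : Set X) →* MulAut ↥V :=
  QuotientGroup.lift (Subgroup.centralizer (V : Set X)) (MulAut.conjNormal (H := V)) (by
    intro c hc
    rw [MonoidHom.mem_ker]
    ext v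
    rw [MulAut.conjNormal_apply]
    have := (Subgroup.mem_centralizer_iff.mp hc) v.1 v.2
    show c * (v : X) * c⁻¹ = v
    rw [← this]
    group)

theorem quotActHom_mk (V : Subgroup X) [V.Normal] (x : X) (v : ↥V) :
    ((quotActHom V (QuotientGroup.mk x) v : ↥V) : X) = x * (v : X) * x⁻¹ := by
  show ((QuotientGroup.lift _ (MulAut.conjNormal (H := V)) _ (QuotientGroup.mk x) v : ↥V) : X) = _
  rw [QuotientGroup.lift_mk, MulAut.conjNormal_apply]

/-- The action of `X / C_X(V)` on `V` by conjugation. -/
@[reducible] def quotMDMA (V : Subgroup X) [V.Normal] :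
    MulDistribMulAction (X ⧸ Subgroup.centralizer (V : Set X)) ↥V :=
  MulDistribMulAction.compHom ↥V (quotActHom V)

theorem quotMDMA_smul_mk (V : Subgroup X) [V.Normal] (x : X) (v : ↥V) :
    letI := quotMDMA V
    (((QuotientGroup.mk x : X ⧸ Subgroup.centralizer (V : Set X)) • v : ↥V) : X) = x * (v : X) * x⁻¹ :=
  quotActHom_mk V x v

/-- The action is faithful. -/
theorem quotMDMA_faithful (V : Subgroup X) [V.Normal] :
    letI := quotMDMA V
    ∀ g : X ⧸ Subgroup.centralizer (V : Set X), (∀ v : ↥V, g • v = v) → g = 1 := by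
  letI := quotMDMA V
  intro g hg
  obtain ⟨x, rfl⟩ := QuotientGroup.mk_surjective g
  rw [QuotientGroup.eq_one_iff, Subgroup.mem_centralizer_iff]
  intro v hv
  have h := congrArg (Subtype.val) (hg ⟨v, hv⟩)
  rw [quotMDMA_smul_mk] at h
  simp only at h
  calc v * x = (x * v * x⁻¹) * x := by rw [h]
    _ = x * v := by group

end Cfsg.Agent.Lib.Helper16.SF
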