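/-
helper16: S3385 (Sims) market "SIMS", leaf L1 (`notes/S3385_leaves.lean`): the generators `x i` of Tutte-Sims data are involutions,
`[x i, x j] ∈ ⟨x (i+1), …, x (j-1)⟩` for `j < i + n`, and conjugation by `g` shifts the interval subgroups.
-/
import Mathlib
import Cfsg.Agent.Lib.Helper18.Sims3Defs
import Cfsg.Agent.Lib.Helper4.Basic

set_option autoImplicit false

namespace Cfsg.Agent.Lib.Helper16.SIMSL1

open Cfsg Cfsg.Agent.Lib.Helper29.TWPair Cfsg.Agent.Lib.Helper18.Sims3 MulAction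

variable {G : Type*} [Group G]

theorem Hx_mono {x : ℕ → G} {i j i' j' : ℕ} (hi : i' ≤ i) (hj : j ≤ j') : Hx x i j ≤ Hx x i' j' :=
  Subgroup.closure_mono (Set.image_mono (Set.Icc_subset_Icc hi hj))

theorem mem_Hx {x : ℕ → G} {i j k : ℕ} (h1 : i ≤ k) (h2 : k ≤ j) : x k ∈ Hx x i j :=
  Subgroup.subset_closure ⟨k, ⟨h1, h2⟩, rfl⟩

theorem Hx_eq_bot_of_lt {x : ℕ → G} {i j : ℕ} (h : j < i) : Hx x i j = ⊥ := by
  unfold Hx
  rw [Set.Icc_eq_empty (by omega), Set.image_empty, Subgroup.closure_empty]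

/-- a subgroup of index two (by orders) is normalized by the big group -/
theorem le_normalizer_of_card {H K : Subgroup G} (hKH : K ≤ H) (k : ℕ) (hK : Nat.card K = 2 ^ k)
    (hH : Nat.card H = 2 ^ (k + 1)) : H ≤ Subgroup.normalizer (K : Set G) := by
  have h1 : Nat.card K * K.relIndex H = Nat.card H := by
    have := Subgroup.relIndex_mul_relIndex ⊥ K H bot_le hKH
    rwa [Subgroup.relIndex_bot_left, Subgroup.relIndex_bot_left] at this
  have h2 : K.relIndex H = 2 := by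
    rw [hK, hH, pow_succ] at h1
    exact Nat.eq_of_mul_eq_mul_left (by positivity) h1
  have h3 : (K.subgroupOf H).index = 2 := h2
  have h4 : (K.subgroupOf H).Normal := Subgroup.normal_of_index_eq_two h3
  exact (Subgroup.normal_subgroupOf_iff_le_normalizer hKH).mp h4

theorem cj_Hx {g : G} {x : ℕ → G} (hs : ∀ i, g * x i * g⁻¹ = x (i + 1)) (i j : ℕ) :
    cj g (Hx x i j) = Hx x (i + 1) (j + 1) := by
  unfold cj Hx
  rw [MonoidHom.map_closure]
  congr 1
  ext y
  constructor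
  · rintro ⟨_, ⟨k, hk, rfl⟩, rfl⟩
    refine ⟨k + 1, ⟨by have := hk.1; omega, by have := hk.2; omega⟩, ?_⟩
    simp [MulAut.conj_apply, hs k]
  · rintro ⟨k, hk, rfl⟩
    have hk1 : 1 ≤ k := by have := hk.1; omega
    refine ⟨x (k - 1), ⟨k - 1, ⟨by have := hk.1; omega, by have := hk.2; omega⟩, rfl⟩, ?_⟩
    have := hs (k - 1)
    rw [Nat.sub_add_cancel hk1] at this
    simp [MulAut.conj_apply, this]

theorem cm_mem {g : G} {x : ℕ → G} {n : ℕ} (h : TSData g x n) (i j : ℕ) (hij : i < j)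
    (hjn : j < i + n) : cm (x i) (x j) ∈ Hx x (i + 1) (j - 1) := by
  set H := Hx x i j with hHdef
  set H1 := Hx x (i + 1) j with hH1def
  set H2 := Hx x i (j - 1) with hH2def
  set H0 := Hx x (i + 1) (j - 1) with hH0def
  have hH : Nat.card H = 2 ^ (j - i + 1) := h.card i j hij.le hjn
  have hH1 : Nat.card H1 = 2 ^ (j - i) := by
    have := h.card (i + 1) j (by omega) (by omega)
    rw [this]; congr 1; omega
  have hH2 : Nat.card H2 = 2 ^ (j - i) := by
    have := h.card i (j - 1) (by omega) (by omega)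
    rw [this]; congr 1; omega
  have hH1H : H1 ≤ H := Hx_mono (by omega) le_rfl
  have hH2H : H2 ≤ H := Hx_mono le_rfl (by omega)
  have hN1 : H ≤ Subgroup.normalizer (H1 : Set G) := le_normalizer_of_card hH1H (j - i) hH1 hH
  have hN2 : H ≤ Subgroup.normalizer (H2 : Set G) := le_normalizer_of_card hH2H (j - i) hH2 hH
  have hxi : x i ∈ H := mem_Hx le_rfl hij.le
  have hxj : x j ∈ H := mem_Hx hij.le le_rfl
  have hxj1 : x j ∈ H1 := mem_Hx (by omega) le_rfl
  have hxi2 : x i ∈ H2 := mem_Hx le_rfl (by omega)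
  have hc1 : cm (x i) (x j) ∈ H1 := by
    have h1 : x i * x j * (x i)⁻¹ ∈ H1 :=
      (Subgroup.mem_normalizer_iff.mp (hN1 hxi) (x j)).mp hxj1
    exact H1.mul_mem h1 (H1.inv_mem hxj1)
  have hc2 : cm (x i) (x j) ∈ H2 := by
    have h1 : x j * (x i)⁻¹ * (x j)⁻¹ ∈ H2 :=
      (Subgroup.mem_normalizer_iff.mp (hN2 hxj) (x i)⁻¹).mp (H2.inv_mem hxi2)
    have h2 := H2.mul_mem hxi2 h1
    have e : x i * (x j * (x i)⁻¹ * (x j)⁻¹) = cm (x i) (x j) := by
      unfold cm; group
    rwa [e] at h2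
  -- the intersection
  have hsup : H1 ⊔ H2 = H := by
    apply le_antisymm (sup_le hH1H hH2H)
    rw [hHdef]
    unfold Hx
    rw [Subgroup.closure_le]
    rintro _ ⟨k, hk, rfl⟩
    by_cases hki : k = i
    · subst hki
      exact (le_sup_right : H2 ≤ H1 ⊔ H2) hxi2
    · exact (le_sup_left : H1 ≤ H1 ⊔ H2) (mem_Hx (by have := hk.1; omega) hk.2)
  have hprod := Cfsg.Agent.Lib.Helper4.card_sup_mul_card_inf H1 H2 (hH1H.trans hN2)
  rw [hsup, hH, hH1, hH2] at hprod
  have hinf : Nat.card ↥(H1 ⊓ H2) = 2 ^ (j - i - 1) := by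
    obtain ⟨m, hm⟩ : ∃ m, j - i = m + 1 := ⟨j - i - 1, by omega⟩
    have hm' : j - i - 1 = m := by omega
    rw [hm] at hprod
    rw [hm']
    have : (2 : ℕ) ^ (m + 1 + 1) * Nat.card ↥(H1 ⊓ H2) = 2 ^ (m + 1 + 1) * 2 ^ m := by
      rw [hprod]; ring
    exact Nat.eq_of_mul_eq_mul_left (by positivity) this
  have hH0 : Nat.card H0 = 2 ^ (j - i - 1) := by
    by_cases hj1 : j = i + 1
    · have : H0 = ⊥ := Hx_eq_bot_of_lt (by omega)
      rw [this, Subgroup.card_bot]
      have : j - i - 1 = 0 := by omega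
      rw [this, pow_zero]
    · have := h.card (i + 1) (j - 1) (by omega) (by omega)
      rw [this]; congr 1; omega
  have hle : H0 ≤ H1 ⊓ H2 := le_inf (Hx_mono le_rfl (by omega)) (Hx_mono (by omega) le_rfl)
  haveI : Finite ↥(H1 ⊓ H2) := Nat.finite_of_card_ne_zero (by rw [hinf]; positivity)
  have heq : H0 = H1 ⊓ H2 := Subgroup.eq_of_le_of_card_ge hle (by rw [hinf, hH0])
  rw [heq]
  exact ⟨hc1, hc2⟩

/-- LEAF L1 (involutions, commutator containment, shift of interval subgroups). -/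
theorem tsdata_basic {g : G} {x : ℕ → G} {n : ℕ} (h : TSData g x n) (h1 : 1 ≤ n) :
    (∀ i, x i * x i = 1) ∧ (∀ i, x i ≠ 1) ∧
    (∀ i j, i < j → j < i + n → cm (x i) (x j) ∈ Hx x (i + 1) (j - 1)) ∧
    (∀ i j, cj g (Hx x i j) = Hx x (i + 1) (j + 1)) := by
  have hc : ∀ i, Nat.card ↥(Hx x i i) = 2 := by
    intro i
    have := h.card i i le_rfl (by omega)
    simpa using this
  refine ⟨?_, ?_, fun i j hij hjn => cm_mem h i j hij hjn, fun i j => cj_Hx h.shift i j⟩
  · intro i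
    have hm : x i ∈ Hx x i i := mem_Hx le_rfl le_rfl
    have := pow_card_eq_one' (G := ↥(Hx x i i)) (x := ⟨x i, hm⟩)
    rw [hc i] at this
    have h2 : (x i) ^ 2 = 1 := by
      have := congrArg Subtype.val this
      simpa using this
    rwa [pow_two] at h2
  · intro i hi
    have : Hx x i i = ⊥ := by
      rw [eq_bot_iff]
      unfold Hx
      rw [Subgroup.closure_le]
      rintro _ ⟨k, hk, rfl⟩
      have : k = i := le_antisymm hk.2 hk.1
      subst this
      simp [hi]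
    have h2 := hc i
    rw [this, Subgroup.card_bot] at h2
    omega

end Cfsg.Agent.Lib.Helper16.SIMSL1
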