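import Cfsg.Agent.Lib.Helper16.SL5Q

/-!
# Helper16: the centre of a Sylow 2-subgroup of the centralizer of a transvection of `SL₅(2)`, and a
normalizer-growth lemma (for S1717).
-/

set_option autoImplicit false

namespace Cfsg.Agent.Lib.Helper16.SL5

open Matrix Cfsg.Agent.Lib.Helper7

/-- In the centralizer `C'` of `s = 1 + E₀₁` in `SL₅(2)`: an element commuting with all elements of
`Qsub ⊓ C'` is `1` or `s`. -/
theorem eq_one_or_s (s : SL52)
    (hs : (s : Matrix (Fin 5) (Fin 5) (ZMod 2)) = Matrix.transvection 0 1 1)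
    (x : SL52) (hx : ∀ t ∈ Qsub, t * s = s * t → x * t = t * x) : x = 1 ∨ x = s := by
  have hs' : s = tv 0 1 (by decide) := Subtype.ext hs
  have key : ∀ (i j : Fin 5) (h : i ≠ j), b5 j + 1 ≤ b5 i →
      Matrix.transvection i j (1 : ZMod 2) * Matrix.transvection (0 : Fin 5) 1 (1 : ZMod 2)
        = Matrix.transvection (0 : Fin 5) 1 (1 : ZMod 2) * Matrix.transvection i j (1 : ZMod 2) →
      Commute (Matrix.single i j (1 : ZMod 2)) (x : Matrix (Fin 5) (Fin 5) (ZMod 2)) := by
    intro i j h hb hcomm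
    apply commute_single_of_commute_transvection
    have h1 : tv i j h * s = s * tv i j h := by
      apply Subtype.ext
      rw [Matrix.SpecialLinearGroup.coe_mul, Matrix.SpecialLinearGroup.coe_mul, hs, tv_val]
      exact hcomm
    have h2 := hx (tv i j h) (tv_mem_Qsub i j h hb) h1
    have := congrArg (fun t : SL52 => (t : Matrix (Fin 5) (Fin 5) (ZMod 2))) h2
    simpa [tv_val] using this
  have r := eq_one_or_transvection (x : Matrix (Fin 5) (Fin 5) (ZMod 2)) x.2
    (key 0 2 (by decide) (by decide) (tv_comm_s 2 (by decide)))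
    (key 0 3 (by decide) (by decide) (tv_comm_s 3 (by decide)))
    (key 0 4 (by decide) (by decide) (tv_comm_s 4 (by decide)))
    (key 2 1 (by decide) (by decide) (tv_comm_s' 2 (by decide)))
    (key 3 1 (by decide) (by decide) (tv_comm_s' 3 (by decide)))
    (key 4 1 (by decide) (by decide) (tv_comm_s' 4 (by decide)))
  rcases r with r | r
  · left; exact Subtype.ext r
  · right; apply Subtype.ext; rw [r, hs]

/-- If a Sylow 2-subgroup `T` of `C_G(z)` (`z` an involution) has centre `{1, z}` then `T` is a Sylow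
2-subgroup of `G`. -/
theorem not_dvd_index_of_center {G : Type*} [Group G] [Finite G] (z : G) (hz : orderOf z = 2)
    (C : Subgroup G) (hC : C = Subgroup.centralizer ({z} : Set G))
    (T : Sylow 2 C)
    (hZ : ∀ x : C, x ∈ T → (∀ y ∈ T, x * y = y * x) → x = 1 ∨ (x : G) = z) :
    ¬ 2 ∣ ((T : Subgroup C).map (Subgroup.subtype C)).index := by
  have : Fact (Nat.Prime 2) := ⟨Nat.prime_two⟩
  have hCmem : ∀ g : G, g ∈ C ↔ z * g = g * z := by
    intro g
    rw [hC, Subgroup.mem_centralizer_iff]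
    constructor
    · intro h; exact h z rfl
    · intro h y hy
      rw [Set.mem_singleton_iff] at hy
      rw [hy]; exact h
  set Tu : Subgroup G := (T : Subgroup C).map C.subtype with hTu
  have hmemTu : ∀ g : G, g ∈ Tu ↔ ∃ h : g ∈ C, (⟨g, h⟩ : C) ∈ T := by
    intro g
    constructor
    · rintro ⟨t, ht, rfl⟩
      exact ⟨t.2, ht⟩
    · rintro ⟨h, ht⟩
      exact ⟨⟨g, h⟩, ht, rfl⟩
  have hT2 : IsPGroup 2 Tu := T.isPGroup'.map _
  obtain ⟨S, hTS⟩ := hT2.exists_le_sylow
  by_cases heq : Tu = S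
  · rw [heq]; exact S.not_dvd_index
  exfalso
  have hlt : Tu.subgroupOf S < ⊤ := by
    rw [lt_top_iff_ne_top, Ne, Subgroup.subgroupOf_eq_top]
    intro h
    exact heq (le_antisymm hTS h)
  have hnil : Group.IsNilpotent ↥(S : Subgroup G) := S.isPGroup'.isNilpotent
  have hgrow := Group.normalizerCondition_of_isNilpotent (G := ↥(S : Subgroup G)) _ hlt
  obtain ⟨x, hxN, hxT⟩ := SetLike.exists_of_lt hgrow
  -- g normalizes Tu
  have hnorm : ∀ (y : ↥(S : Subgroup G)), y ∈ Subgroup.normalizer ((Tu.subgroupOf S : Subgroup _) : Set _) →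
      ∀ t ∈ Tu, (y : G) * t * (y : G)⁻¹ ∈ Tu := by
    intro y hy t ht
    have h1 : (⟨t, hTS ht⟩ : ↥(S : Subgroup G)) ∈ Tu.subgroupOf S := ht
    have h2 := (Subgroup.mem_normalizer_iff.mp hy _).mp h1
    exact h2
  have hg1 := hnorm x hxN
  have hg2 := hnorm x⁻¹ (Subgroup.inv_mem _ hxN)
  set g : G := (x : G) with hg
  have hgS : g ∈ (S : Subgroup G) := x.2
  have hgT : g ∉ Tu := fun h => hxT h
  have hg2' : ∀ t ∈ Tu, g⁻¹ * t * g ∈ Tu := by
    intro t ht
    have := hg2 t ht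
    simpa using this
  -- z lies in T
  have hzC : z ∈ C := (hCmem z).mpr rfl
  have hz'ord : orderOf (⟨z, hzC⟩ : C) = 2 := by
    rw [← hz]
    exact Subgroup.orderOf_mk z hzC
  have hzcomm : ∀ c : C, (⟨z, hzC⟩ : C) * c = c * ⟨z, hzC⟩ := by
    intro c
    apply Subtype.ext
    exact (hCmem _).mp c.2
  have hzT : (⟨z, hzC⟩ : C) ∈ T := by
    have hn : (Subgroup.zpowers (⟨z, hzC⟩ : C)).Normal := by
      constructor
      intro n hn c
      have : c * n * c⁻¹ = n := by
        obtain ⟨k, rfl⟩ := Subgroup.mem_zpowers_iff.mp hn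
        have hc : Commute (⟨z, hzC⟩ : C) c := hzcomm c
        have := (hc.zpow_left k).eq
        rw [← this, mul_inv_cancel_right]
      rw [this]; exact hn
    have hp : IsPGroup 2 (Subgroup.zpowers (⟨z, hzC⟩ : C)) := by
      apply IsPGroup.of_card (n := 1)
      rw [Nat.card_zpowers, hz'ord, pow_one]
    exact hp.le_sylow_of_normal T (Subgroup.mem_zpowers _)
  have hzTu : z ∈ Tu := (hmemTu z).mpr ⟨hzC, hzT⟩
  -- u = g z g⁻¹ is central in T
  have hu := hg1 z hzTu
  obtain ⟨huC, huT⟩ := (hmemTu _).mp hu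
  have hucent : ∀ y ∈ T, (⟨g * z * g⁻¹, huC⟩ : C) * y = y * ⟨g * z * g⁻¹, huC⟩ := by
    intro y hy
    apply Subtype.ext
    have hyTu : (y : G) ∈ Tu := (hmemTu _).mpr ⟨y.2, hy⟩
    have hy0 := hg2' _ hyTu
    obtain ⟨hy0C, -⟩ := (hmemTu _).mp hy0
    have h1 : z * (g⁻¹ * (y : G) * g) = g⁻¹ * (y : G) * g * z := (hCmem _).mp hy0C
    show g * z * g⁻¹ * (y : G) = (y : G) * (g * z * g⁻¹)
    have : g * z * g⁻¹ * (y : G) = g * (z * (g⁻¹ * (y : G) * g)) * g⁻¹ := by group
    rw [this, h1]; group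
  have hgz : g * z * g⁻¹ = z := by
    rcases hZ _ huT hucent with h | h
    · exfalso
      have h' : g * z * g⁻¹ = 1 := congrArg Subtype.val h
      have : z = 1 := by
        have : z = g⁻¹ * (g * z * g⁻¹) * g := by group
        rw [this, h']; group
      rw [this, orderOf_one] at hz
      omega
    · exact h
  have hgC : g ∈ C := by
    rw [hCmem]
    have : z * g = (g * z * g⁻¹) * g := by rw [hgz]
    rw [this]; group
  -- g' normalizes T
  have hgN : (⟨g, hgC⟩ : C) ∈ Subgroup.normalizer ((T : Subgroup C) : Set C) := by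
    rw [Subgroup.mem_normalizer_iff]
    intro h
    constructor
    · intro hh
      have := hg1 _ ((hmemTu _).mpr ⟨h.2, hh⟩)
      obtain ⟨h1, h2⟩ := (hmemTu _).mp this
      exact h2
    · intro hh
      have h3 : g * (h : G) * g⁻¹ ∈ Tu := (hmemTu _).mpr ⟨_, hh⟩
      have := hg2' _ h3
      have e : g⁻¹ * (g * (h : G) * g⁻¹) * g = (h : G) := by group
      rw [e] at this
      obtain ⟨h1, h2⟩ := (hmemTu _).mp this
      exact h2
  have hpz : IsPGroup 2 (Subgroup.zpowers (⟨g, hgC⟩ : C)) := by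
    obtain ⟨k, hk⟩ := S.isPGroup' ⟨g, hgS⟩
    have hk' : g ^ (2 ^ k) = 1 := congrArg Subtype.val hk
    intro y
    refine ⟨k, ?_⟩
    obtain ⟨n, hn⟩ := Subgroup.mem_zpowers_iff.mp y.2
    apply Subtype.ext
    apply Subtype.ext
    show ((y : C) : G) ^ (2 ^ k) = 1
    rw [← hn]
    show (g ^ n) ^ (2 ^ k) = 1
    rw [← zpow_natCast, ← _root_.zpow_mul, mul_comm, _root_.zpow_mul, zpow_natCast, hk', _root_.one_zpow]
  have hsup : IsPGroup 2 ↥(Subgroup.zpowers (⟨g, hgC⟩ : C) ⊔ (T : Subgroup C)) :=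
    hpz.to_sup_of_normal_right' T.isPGroup' (by
      rw [Subgroup.zpowers_le]; exact hgN)
  have hmax := T.is_maximal' hsup le_sup_right
  have : (⟨g, hgC⟩ : C) ∈ (T : Subgroup C) := by
    rw [← hmax]
    exact Subgroup.mem_sup_left (Subgroup.mem_zpowers _)
  exact hgT ((hmemTu g).mpr ⟨hgC, this⟩)

end Cfsg.Agent.Lib.Helper16.SL5
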