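import Mathlib

/-!
# Helper16: a `5 x 5` matrix over `F₂` of determinant one commuting with six elementary matrices is
`1` or a transvection (for S1717).
-/

set_option autoImplicit false

namespace Cfsg.Agent.Lib.Helper16.SL5

open Matrix

theorem zmod2_eq (a : ZMod 2) : a = 0 ∨ a = 1 := by revert a; decide

set_option maxRecDepth 100000 in
theorem det_aux : ∀ a : ZMod 2, (Matrix.of ![![(0 : ZMod 2), a, 0, 0, 0], ![0, 0, 0, 0, 0],
    ![0, 0, 0, 0, 0], ![0, 0, 0, 0, 0], ![0, 0, 0, 0, 0]] : Matrix (Fin 5) (Fin 5) (ZMod 2)).det ≠ 1 := by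
  decide

set_option maxRecDepth 100000 in
theorem shape_one : (Matrix.of ![![(1 : ZMod 2), 0, 0, 0, 0], ![0, 1, 0, 0, 0],
    ![0, 0, 1, 0, 0], ![0, 0, 0, 1, 0], ![0, 0, 0, 0, 1]] : Matrix (Fin 5) (Fin 5) (ZMod 2)) = 1 := by
  decide

set_option maxRecDepth 100000 in
theorem shape_trans : (Matrix.of ![![(1 : ZMod 2), 1, 0, 0, 0], ![0, 1, 0, 0, 0],
    ![0, 0, 1, 0, 0], ![0, 0, 0, 1, 0], ![0, 0, 0, 0, 1]] : Matrix (Fin 5) (Fin 5) (ZMod 2)) =
    Matrix.transvection (0 : Fin 5) (1 : Fin 5) (1 : ZMod 2) := by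
  decide

/-- A matrix of determinant one over `F₂` commuting with the six elementary matrices `E₀ⱼ`, `Eᵢ₁`
(`i, j ∈ {2,3,4}`) is `1` or the transvection `1 + E₀₁`. -/
theorem eq_one_or_transvection (x : Matrix (Fin 5) (Fin 5) (ZMod 2)) (hdet : x.det = 1)
    (h2 : Commute (Matrix.single (0 : Fin 5) (2 : Fin 5) (1 : ZMod 2)) x)
    (h3 : Commute (Matrix.single (0 : Fin 5) (3 : Fin 5) (1 : ZMod 2)) x)
    (h4 : Commute (Matrix.single (0 : Fin 5) (4 : Fin 5) (1 : ZMod 2)) x)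
    (k2 : Commute (Matrix.single (2 : Fin 5) (1 : Fin 5) (1 : ZMod 2)) x)
    (k3 : Commute (Matrix.single (3 : Fin 5) (1 : Fin 5) (1 : ZMod 2)) x)
    (k4 : Commute (Matrix.single (4 : Fin 5) (1 : Fin 5) (1 : ZMod 2)) x) :
    x = 1 ∨ x = Matrix.transvection (0 : Fin 5) (1 : Fin 5) (1 : ZMod 2) := by
  -- rows 2,3,4
  have r2 : ∀ k : Fin 5, k ≠ 2 → x 2 k = 0 := fun k hk => row_eq_zero_of_commute_single h2 hk
  have r3 : ∀ k : Fin 5, k ≠ 3 → x 3 k = 0 := fun k hk => row_eq_zero_of_commute_single h3 hk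
  have r4 : ∀ k : Fin 5, k ≠ 4 → x 4 k = 0 := fun k hk => row_eq_zero_of_commute_single h4 hk
  -- column 0
  have c0 : ∀ k : Fin 5, k ≠ 0 → x k 0 = 0 := fun k hk => col_eq_zero_of_commute_single h2 hk
  -- row 1
  have r1 : ∀ k : Fin 5, k ≠ 1 → x 1 k = 0 := fun k hk => row_eq_zero_of_commute_single k2 hk
  -- columns 2,3,4
  have c2 : ∀ k : Fin 5, k ≠ 2 → x k 2 = 0 := fun k hk => col_eq_zero_of_commute_single k2 hk
  have c3 : ∀ k : Fin 5, k ≠ 3 → x k 3 = 0 := fun k hk => col_eq_zero_of_commute_single k3 hk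
  have c4 : ∀ k : Fin 5, k ≠ 4 → x k 4 = 0 := fun k hk => col_eq_zero_of_commute_single k4 hk
  -- diagonal
  have d02 : x 0 0 = x 2 2 := diag_eq_of_commute_single h2
  have d03 : x 0 0 = x 3 3 := diag_eq_of_commute_single h3
  have d04 : x 0 0 = x 4 4 := diag_eq_of_commute_single h4
  have d21 : x 2 2 = x 1 1 := diag_eq_of_commute_single k2
  have e1 : x 1 1 = x 0 0 := by rw [d02, d21]
  have e2 : x 2 2 = x 0 0 := d02.symm
  have e3 : x 3 3 = x 0 0 := d03.symm
  have e4 : x 4 4 = x 0 0 := d04.symm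
  -- the shape of x
  have hx : x = Matrix.of ![![x 0 0, x 0 1, 0, 0, 0], ![0, x 0 0, 0, 0, 0], ![0, 0, x 0 0, 0, 0],
      ![0, 0, 0, x 0 0, 0], ![0, 0, 0, 0, x 0 0]] := by
    ext i j
    fin_cases i <;> fin_cases j <;> simp
    all_goals first
      | exact c0 _ (by decide) | exact c2 _ (by decide) | exact c3 _ (by decide)
      | exact c4 _ (by decide) | exact r1 _ (by decide) | exact r2 _ (by decide)
      | exact r3 _ (by decide) | exact r4 _ (by decide)
      | exact e1 | exact e2 | exact e3 | exact e4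
  have hd : x 0 0 = 1 := by
    rcases zmod2_eq (x 0 0) with h | h
    · exfalso
      rw [hx, h] at hdet
      exact det_aux _ hdet
    · exact h
  rcases zmod2_eq (x 0 1) with h | h
  · left
    rw [hx, hd, h]
    exact shape_one
  · right
    rw [hx, hd, h]
    exact shape_trans

end Cfsg.Agent.Lib.Helper16.SL5
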