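import Cfsg.Agent.Lib.Helper16.SL5Mat
import Cfsg.Agent.Lib.Helper7.Unitriangular

/-!
# Helper16: the unipotent radical `Qsub` of the centralizer of a transvection in `SL₅(2)`
(for S1717), via helper7's `unitriSubgroup`.
-/

set_option autoImplicit false

namespace Cfsg.Agent.Lib.Helper16.SL5

open Matrix Cfsg.Agent.Lib.Helper7

/-- `SL₅(2)`. -/
abbrev SL52 := Matrix.SpecialLinearGroup (Fin 5) (ZMod 2)

/-- the level function of the flag `⟨e₀⟩ < ⟨e₀,e₂,e₃,e₄⟩ < V`. -/
def b5 : Fin 5 → ℕ := ![2, 0, 1, 1, 1]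

theorem b5_lt : ∀ i, b5 i < 3 := by decide

/-- the unipotent radical of the stabilizer of the flag, as a subgroup of `SL₅(2)`. -/
def Qsub : Subgroup SL52 :=
  (unitriSubgroup (R := ZMod 2) b5 3 b5_lt 1 le_rfl).comap Matrix.SpecialLinearGroup.toGL

theorem mem_Qsub {g : SL52} :
    g ∈ Qsub ↔ Level b5 1 ((g : Matrix (Fin 5) (Fin 5) (ZMod 2)) - 1) := Iff.rfl

/-- elements of `Qsub` have order dividing 4. -/
theorem Qsub_pow_four {g : SL52} (hg : g ∈ Qsub) : g ^ 4 = 1 := by
  have h3 : ((g : Matrix (Fin 5) (Fin 5) (ZMod 2)) - 1) ^ 3 = 0 :=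
    sub_one_pow_eq_zero_of_mem_unitriSubgroup (hN := b5_lt) (g := Matrix.SpecialLinearGroup.toGL g)
      hg le_rfl
  have : Fact (Nat.Prime 2) := ⟨Nat.prime_two⟩
  apply Subtype.ext
  rw [Matrix.SpecialLinearGroup.coe_pow, Matrix.SpecialLinearGroup.coe_one]
  set A := (g : Matrix (Fin 5) (Fin 5) (ZMod 2)) with hA
  have hA' : A = 1 + (A - 1) := by abel
  have hc : Commute (1 : Matrix (Fin 5) (Fin 5) (ZMod 2)) (A - 1) := Commute.one_left _
  have e1 : A ^ 2 = 1 + (A - 1) ^ 2 := by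
    conv_lhs => rw [hA']
    rw [add_pow_char_of_commute _ hc, one_pow]
  have hc2 : Commute (1 : Matrix (Fin 5) (Fin 5) (ZMod 2)) ((A - 1) ^ 2) := Commute.one_left _
  have e2 : A ^ 4 = 1 + (A - 1) ^ 4 := by
    have : A ^ 4 = (A ^ 2) ^ 2 := by rw [← pow_mul]
    rw [this, e1, add_pow_char_of_commute _ hc2, one_pow, ← pow_mul]
  rw [e2]
  have : (A - 1) ^ 4 = (A - 1) ^ 3 * (A - 1) := by rw [← pow_succ]
  rw [this, h3, zero_mul, add_zero]

/-- elements commuting with the transvection `s = 1 + E₀₁` have level `0`. -/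
theorem level_zero_of_commute (c : Matrix (Fin 5) (Fin 5) (ZMod 2))
    (hc : Commute (Matrix.single (0 : Fin 5) (1 : Fin 5) (1 : ZMod 2)) c) : Level b5 0 c := by
  have c0 : ∀ k : Fin 5, k ≠ 0 → c k 0 = 0 := fun k hk => col_eq_zero_of_commute_single hc hk
  have r1 : ∀ k : Fin 5, k ≠ 1 → c 1 k = 0 := fun k hk => row_eq_zero_of_commute_single hc hk
  intro i j hij
  fin_cases i <;> fin_cases j <;> simp [b5] at hij ⊢
  all_goals first
    | exact c0 _ (by decide)
    | exact r1 _ (by decide)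

theorem commute_single_of_commute_transvection (c : Matrix (Fin 5) (Fin 5) (ZMod 2)) (i j : Fin 5)
    (h : c * Matrix.transvection i j (1 : ZMod 2) = Matrix.transvection i j (1 : ZMod 2) * c) :
    Commute (Matrix.single i j (1 : ZMod 2)) c := by
  unfold Matrix.transvection at h
  rw [mul_add, add_mul, mul_one, one_mul] at h
  exact (add_left_cancel h).symm

/-- the transvection `1 + E_ij` as an element of `SL₅(2)`. -/
def tv (i j : Fin 5) (h : i ≠ j) : SL52 :=
  ⟨Matrix.transvection i j (1 : ZMod 2), Matrix.det_transvection_of_ne i j h 1⟩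

theorem tv_val (i j : Fin 5) (h : i ≠ j) :
    ((tv i j h : SL52) : Matrix (Fin 5) (Fin 5) (ZMod 2)) = Matrix.transvection i j (1 : ZMod 2) := rfl

theorem level_single (i j : Fin 5) (h : b5 j + 1 ≤ b5 i) :
    Level b5 1 (Matrix.single i j (1 : ZMod 2)) := by
  intro a c hac
  rw [Matrix.single_apply]
  split_ifs with hh
  · exfalso
    obtain ⟨rfl, rfl⟩ := hh
    omega
  · rfl

theorem tv_mem_Qsub (i j : Fin 5) (h : i ≠ j) (hb : b5 j + 1 ≤ b5 i) : tv i j h ∈ Qsub := by
  rw [mem_Qsub, tv_val]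
  unfold Matrix.transvection
  rw [add_sub_cancel_left]
  exact level_single i j hb

set_option maxRecDepth 100000 in
/-- the transvections `1 + E₀ⱼ` and `1 + Eᵢ₁` commute with `s = 1 + E₀₁`. -/
theorem tv_comm_s : ∀ j : Fin 5, (0 : Fin 5) ≠ j →
    Matrix.transvection (0 : Fin 5) j (1 : ZMod 2) * Matrix.transvection (0 : Fin 5) 1 (1 : ZMod 2)
      = Matrix.transvection (0 : Fin 5) 1 (1 : ZMod 2) * Matrix.transvection (0 : Fin 5) j (1 : ZMod 2) := by
  decide

set_option maxRecDepth 100000 in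
theorem tv_comm_s' : ∀ i : Fin 5, i ≠ (1 : Fin 5) →
    Matrix.transvection i (1 : Fin 5) (1 : ZMod 2) * Matrix.transvection (0 : Fin 5) 1 (1 : ZMod 2)
      = Matrix.transvection (0 : Fin 5) 1 (1 : ZMod 2) * Matrix.transvection i (1 : Fin 5) (1 : ZMod 2) := by
  decide

/-- conjugation by an element commuting with `s` preserves `Qsub`. -/
theorem conj_mem_Qsub (c g : SL52)
    (hc : c * tv 0 1 (by decide) = tv 0 1 (by decide) * c) (hg : g ∈ Qsub) :
    c * g * c⁻¹ ∈ Qsub := by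
  rw [mem_Qsub] at hg ⊢
  have hc' : c⁻¹ * tv 0 1 (by decide) = tv 0 1 (by decide) * c⁻¹ := by
    have := congrArg (fun t => c⁻¹ * t * c⁻¹) hc
    simp only [mul_assoc, mul_inv_cancel, mul_one] at this
    rw [← mul_assoc, ← mul_assoc, inv_mul_cancel, one_mul] at this
    exact this.symm
  have l1 : Level b5 0 (c : Matrix (Fin 5) (Fin 5) (ZMod 2)) := by
    apply level_zero_of_commute
    apply commute_single_of_commute_transvection
    have := congrArg (fun t : SL52 => (t : Matrix (Fin 5) (Fin 5) (ZMod 2))) hc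
    simpa [tv_val] using this
  have l2 : Level b5 0 ((c⁻¹ : SL52) : Matrix (Fin 5) (Fin 5) (ZMod 2)) := by
    apply level_zero_of_commute
    apply commute_single_of_commute_transvection
    have := congrArg (fun t : SL52 => (t : Matrix (Fin 5) (Fin 5) (ZMod 2))) hc'
    simpa [tv_val] using this
  have e : ((c * g * c⁻¹ : SL52) : Matrix (Fin 5) (Fin 5) (ZMod 2)) - 1
      = (c : Matrix (Fin 5) (Fin 5) (ZMod 2)) * ((g : Matrix (Fin 5) (Fin 5) (ZMod 2)) - 1)
        * ((c⁻¹ : SL52) : Matrix (Fin 5) (Fin 5) (ZMod 2)) := by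
    have h1 : (c : Matrix (Fin 5) (Fin 5) (ZMod 2)) * ((c⁻¹ : SL52) : Matrix (Fin 5) (Fin 5) (ZMod 2)) = 1 := by
      rw [← Matrix.SpecialLinearGroup.coe_mul, mul_inv_cancel, Matrix.SpecialLinearGroup.coe_one]
    rw [Matrix.SpecialLinearGroup.coe_mul, Matrix.SpecialLinearGroup.coe_mul, mul_sub, sub_mul, mul_one, h1]
  rw [e]
  have := (Level.mul l1 hg).mul l2
  simpa using this

end Cfsg.Agent.Lib.Helper16.SL5
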