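import Cfsg.Agent.Lib.Helper16.SLMinDefs
import Cfsg.Agent.Lib.Helper13.SLMinW
import Cfsg.Agent.Lib.Helper29.SLMinC0
import Cfsg.Agent.Lib.Helper8.SLMinG
import Cfsg.Agent.Lib.Helper26.SLMinC4
import Cfsg.Agent.Lib.Helper24.SLMinStage0
import Cfsg.Agent.Lib.Helper21.SLMinStage1
import Cfsg.Agent.Lib.Helper17.SLMinArith

set_option autoImplicit false

namespace Cfsg.Agent.Lib.Helper16.SLMinSpine

open Matrix Module Cfsg.Agent.Lib.Helper16.SLMin
open Cfsg.Agent.Lib.Helper13.SLMin Cfsg.Agent.Lib.Helper29.SLMin Cfsg.Agent.Lib.Helper8.SLMin Cfsg.Agent.Lib.Helper26.SLMin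
open Cfsg.Agent.Lib.Helper17.SLMinArith

section basic

variable {F : Type*} [Field F] [Fintype F] {H : Type*} [Group H] {M : Type*} [AddCommGroup M]
  [Module ℂ M] {I : Type*} [Fintype I]

theorem mem_wt_zero (ρ : Representation ℂ H M) (ι : (I → F) → H) (m : M) :
    m ∈ wt ρ ι (0 : I → F) ↔ ∀ r, ρ (ι r) m = m := by
  rw [mem_wt]
  constructor
  · intro h r
    have := h r
    rwa [zero_dotProduct, AddChar.map_zero_eq_one, one_smul] at this
  · intro h r
    rw [zero_dotProduct, AddChar.map_zero_eq_one, one_smul]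
    exact h r

/-- a sum over all vectors of a function that is constant off zero -/
theorem sum_split [DecidableEq I] [DecidableEq F] (f : (I → F) → ℕ) (c : ℕ)
    (h : ∀ u, u ≠ 0 → f u = c) :
    ∑ u, f u = f 0 + (Fintype.card F ^ Fintype.card I - 1) * c := by
  rw [← Finset.add_sum_erase Finset.univ f (Finset.mem_univ (0 : I → F))]
  congr 1
  rw [Finset.sum_congr rfl (fun u hu => h u (Finset.ne_of_mem_erase hu)), Finset.sum_const,
    Finset.card_erase_of_mem (Finset.mem_univ _), Finset.card_univ, Fintype.card_fun, smul_eq_mul]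

end basic

section fix

variable {F : Type*} [Field F] [Fintype F] {ι' : Type*} [Fintype ι'] [DecidableEq ι']
  {M : Type*} [AddCommGroup M] [Module ℂ M]

/-- the fixed space of the radical is invariant under the block embedding of `SL ι'` -/
theorem emb_mem_fix (ρ : Representation ℂ (SpecialLinearGroup (Unit ⊕ ι') F) M)
    (g : SpecialLinearGroup ι' F) {m : M} (hm : m ∈ wt ρ (rad (F := F) (ι' := ι')) 0) :
    ρ (emb g) m ∈ wt ρ (rad (F := F) (ι' := ι')) 0 := by
  rw [mem_wt_zero] at hm ⊢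
  intro r
  have h1 := emb_rad (g⁻¹) r
  rw [map_inv, inv_inv] at h1
  have h2 : rad r * emb g = emb g * rad (r ᵥ* ((g⁻¹⁻¹ : SpecialLinearGroup ι' F) : Matrix ι' ι' F)) := by
    rw [← h1]
    group
  rw [← Module.End.mul_apply, ← map_mul, h2, map_mul, Module.End.mul_apply, hm]

/-- the fixed space of the radical, as a representation of `SL ι'` -/
noncomputable def fixRep (ρ : Representation ℂ (SpecialLinearGroup (Unit ⊕ ι') F) M) :
    Representation ℂ (SpecialLinearGroup ι' F) ↥(wt ρ (rad (F := F) (ι' := ι')) 0) where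
  toFun g := (ρ (emb g)).restrict (fun _ hm => emb_mem_fix ρ g hm)
  map_one' := by
    apply LinearMap.ext
    intro m
    apply Subtype.ext
    simp
  map_mul' g h := by
    apply LinearMap.ext
    intro m
    apply Subtype.ext
    simp

theorem fixRep_apply (ρ : Representation ℂ (SpecialLinearGroup (Unit ⊕ ι') F) M)
    (g : SpecialLinearGroup ι' F) (m : ↥(wt ρ (rad (F := F) (ι' := ι')) 0)) :
    ((fixRep ρ g m : ↥(wt ρ (rad (F := F) (ι' := ι')) 0)) : M) = ρ (emb g) (m : M) := rfl

end fix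

section dich

variable {F : Type*} [Field F] [Fintype F] [DecidableEq F] {ι' : Type*} [Fintype ι']
  [DecidableEq ι'] {M : Type*} [AddCommGroup M] [Module ℂ M] [FiniteDimensional ℂ M]

/-- `d = c + m (q^|ι'| - 1)`, and `m = 0` is impossible, `m ≥ 2` gives the weak bound twice -/
theorem m_dichotomy (h2 : 2 ≤ Fintype.card ι')
    (ρ : Representation ℂ (SpecialLinearGroup (Unit ⊕ ι') F) M) (hnt : ∃ g, ρ g ≠ 1) :
    2 * (Fintype.card F ^ Fintype.card ι' - 1) ≤ finrank ℂ M ∨
    ((∀ u : ι' → F, u ≠ 0 → finrank ℂ ↥(wt ρ (rad (F := F) (ι' := ι')) u) = 1) ∧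
      finrank ℂ M = finrank ℂ ↥(wt ρ (rad (F := F) (ι' := ι')) 0) +
        (Fintype.card F ^ Fintype.card ι' - 1)) := by
  classical
  have hne : Nonempty ι' := by
    rw [← Fintype.card_pos_iff]
    omega
  obtain ⟨i⟩ := hne
  set u₀ : ι' → F := Pi.single i 1 with hu₀
  have hu₀ne : u₀ ≠ 0 := by
    intro h
    have := congrFun h i
    rw [hu₀, Pi.single_eq_same] at this
    exact one_ne_zero this
  set m := finrank ℂ ↥(wt ρ (rad (F := F) (ι' := ι')) u₀) with hm
  have hconst : ∀ u : ι' → F, u ≠ 0 → finrank ℂ ↥(wt ρ (rad (F := F) (ι' := ι')) u) = m :=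
    fun u hu => finrank_wt_rad_eq h2 ρ u u₀ hu hu₀ne
  have hW1 := finrank_eq_sum_inf_wt ρ (rad (F := F) (ι' := ι')) rad_add ⊤
    (fun _ _ _ => Submodule.mem_top)
  rw [finrank_top] at hW1
  have hW1' : ∀ v : ι' → F, finrank ℂ ↥(⊤ ⊓ wt ρ (rad (F := F) (ι' := ι')) v) =
      finrank ℂ ↥(wt ρ (rad (F := F) (ι' := ι')) v) := fun v => by rw [top_inf_eq]
  rw [Finset.sum_congr rfl (fun v _ => hW1' v)] at hW1
  rw [sum_split _ m hconst] at hW1
  rcases Nat.lt_or_ge m 2 with hlt | hge
  · right
    interval_cases m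
    · exfalso
      rw [Nat.mul_zero, add_zero] at hW1
      have htop : wt ρ (rad (F := F) (ι' := ι')) 0 = ⊤ :=
        Submodule.eq_top_of_finrank_eq hW1.symm
      obtain ⟨g, hg⟩ := hnt
      apply hg
      apply trivial_of_rad_trivial h2 ρ
      intro r
      apply LinearMap.ext
      intro x
      have hx : x ∈ wt ρ (rad (F := F) (ι' := ι')) 0 := by
        rw [htop]
        exact Submodule.mem_top
      rw [mem_wt_zero] at hx
      rw [hx r]
      rfl
    · refine ⟨fun u hu => ?_, ?_⟩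
      · rw [hconst u hu]
      · rw [hW1, Nat.mul_one]
  · left
    rw [hW1]
    calc 2 * (Fintype.card F ^ Fintype.card ι' - 1)
        = (Fintype.card F ^ Fintype.card ι' - 1) * 2 := by ring
      _ ≤ (Fintype.card F ^ Fintype.card ι' - 1) * m := Nat.mul_le_mul_left _ hge
      _ ≤ _ := Nat.le_add_left _ _

end dich

section stagecount

variable {F : Type*} [Field F] [Fintype F] [DecidableEq F] {J : Type*} [Fintype J]
  [DecidableEq J] {M : Type*} [AddCommGroup M] [Module ℂ M] [FiniteDimensional ℂ M]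

theorem rb_add (r s : J → F) : rb (r + s) = rb r * rb s := by
  unfold rb
  rw [rad_add, map_mul]

/-- after stage 0: `c = c₂ + (q^|J| - 1)` -/
theorem finrank_fix_eq (ρ : Representation ℂ (SpecialLinearGroup (Unit ⊕ (Unit ⊕ J)) F) M)
    (h : ∀ w : J → F, w ≠ 0 →
      finrank ℂ ↥(wt ρ (rad (F := F) (ι' := Unit ⊕ J)) 0 ⊓ wt ρ (rb (F := F) (J := J)) w) = 1) :
    finrank ℂ ↥(wt ρ (rad (F := F) (ι' := Unit ⊕ J)) 0) =
      finrank ℂ ↥(wt ρ (rad (F := F) (ι' := Unit ⊕ J)) 0 ⊓ wt ρ (rb (F := F) (J := J)) 0) +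
        (Fintype.card F ^ Fintype.card J - 1) := by
  have hW1 := finrank_eq_sum_inf_wt ρ (rb (F := F) (J := J)) rb_add
    (wt ρ (rad (F := F) (ι' := Unit ⊕ J)) 0) (fun r m hm => emb_mem_fix ρ (rad r) hm)
  rw [hW1, sum_split _ 1 h, Nat.mul_one]

/-- after stage 0 the fixed space is a non-trivial module for `SL (Unit ⊕ J)` -/
theorem fixRep_nontrivial [Nonempty J]
    (ρ : Representation ℂ (SpecialLinearGroup (Unit ⊕ (Unit ⊕ J)) F) M)
    (h : ∀ w : J → F, w ≠ 0 →
      finrank ℂ ↥(wt ρ (rad (F := F) (ι' := Unit ⊕ J)) 0 ⊓ wt ρ (rb (F := F) (J := J)) w) = 1) :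
    ∃ g, fixRep ρ g ≠ 1 := by
  classical
  obtain ⟨j⟩ := (inferInstance : Nonempty J)
  set w : J → F := Pi.single j 1 with hw
  have hwne : w ≠ 0 := by
    intro h0
    have := congrFun h0 j
    rw [hw, Pi.single_eq_same] at this
    exact one_ne_zero this
  have h1 := h w hwne
  have hpos : 0 < finrank ℂ ↥(wt ρ (rad (F := F) (ι' := Unit ⊕ J)) 0 ⊓
      wt ρ (rb (F := F) (J := J)) w) := by omega
  rw [Module.finrank_pos_iff_exists_ne_zero] at hpos
  obtain ⟨⟨m, hm⟩, hm0⟩ := hpos
  have hm0' : m ≠ 0 := fun h0 => hm0 (Subtype.ext h0)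
  obtain ⟨hmA, hmB⟩ := Submodule.mem_inf.mp hm
  have hprim := eps_prim F
  have h1ne : (1 : F) ≠ 0 := one_ne_zero
  obtain ⟨t, ht⟩ := AddChar.ne_one_iff.mp (hprim h1ne)
  rw [AddChar.mulShift_apply, one_mul] at ht
  refine ⟨rad (Pi.single j t), ?_⟩
  intro hone
  have h2 := congrArg (fun f => ((f ⟨m, hmA⟩ : ↥(wt ρ (rad (F := F) (ι' := Unit ⊕ J)) 0)) : M)) hone
  simp only [fixRep_apply, Module.End.one_apply] at h2
  have h3 := hmB (Pi.single j t)
  have h4 : w ⬝ᵥ (Pi.single j t : J → F) = t := by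
    rw [hw, dotProduct_single, Pi.single_eq_same, one_mul]
  rw [h4] at h3
  have h5 : ρ (rb (Pi.single j t)) m = ρ (emb (rad (Pi.single j t))) m := rfl
  rw [h5, h2] at h3
  have h6 : ((1 : ℂ) - eps F t) • m = 0 := by
    rw [sub_smul, one_smul, ← h3, sub_self]
  rcases smul_eq_zero.mp h6 with h7 | h7
  · exact ht (sub_eq_zero.mp h7).symm
  · exact hm0' h7

end stagecount

/-- the induction statement: every f.d. module with non-trivial action has dimension `≥ tgt` -/
def TGen (F : Type*) [Field F] [Fintype F] (n : ℕ) : Prop :=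
  ∀ (ι : Type) [Fintype ι] [DecidableEq ι], Fintype.card ι = n →
    ∀ (W : Type) [AddCommGroup W] [Module ℂ W] [FiniteDimensional ℂ W]
      (ρ : Representation ℂ (SpecialLinearGroup ι F) W), (∃ g, ρ g ≠ 1) →
      tgt (Fintype.card F) n ≤ finrank ℂ W

section steps

variable {F : Type*} [Field F] [Fintype F] [DecidableEq F]

theorem two_le_card : 2 ≤ Fintype.card F := Fintype.one_lt_card

theorem card_unit_sum (J : Type*) [Fintype J] : Fintype.card (Unit ⊕ J) = Fintype.card J + 1 := by
  rw [Fintype.card_sum, Fintype.card_unit, add_comm]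

/-- the generic induction step -/
theorem step_generic {J : Type} [Fintype J] [DecidableEq J] (hJ : 2 ≤ Fintype.card J)
    (hgen : 3 ≤ Fintype.card J ∨ (Fintype.card J = 2 ∧ 4 ≤ Fintype.card F))
    (IH : TGen F (Fintype.card J + 1)) {W : Type} [AddCommGroup W] [Module ℂ W]
    [FiniteDimensional ℂ W] (ρ : Representation ℂ (SpecialLinearGroup (Unit ⊕ (Unit ⊕ J)) F) W)
    (hρ : ρ.IsIrreducible) (hnt : ∃ g, ρ g ≠ 1) :
    tgt (Fintype.card F) (Fintype.card J + 2) ≤ finrank ℂ W := by
  have hq : 2 ≤ Fintype.card F := two_le_card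
  have hcard : Fintype.card (Unit ⊕ J) = Fintype.card J + 1 := card_unit_sum J
  have h2 : 2 ≤ Fintype.card (Unit ⊕ J) := by omega
  have hJne : Nonempty J := by
    rw [← Fintype.card_pos_iff]
    omega
  rcases m_dichotomy h2 ρ hnt with h | ⟨hm1, hd⟩
  · rw [hcard] at h
    have := two_mul_ge' (Fintype.card F) (Fintype.card J + 2) hq (by omega)
    rw [show Fintype.card J + 2 - 1 = Fintype.card J + 1 by omega] at this
    exact le_trans this h
  · have h0 := Cfsg.Agent.Lib.Helper24.SLMin.stage0 ρ hm1 (by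
      rcases hgen with h | h
      · exact Or.inl h
      · exact Or.inr (Or.inl h))
    have hc := IH (Unit ⊕ J) hcard ↥(wt ρ (rad (F := F) (ι' := Unit ⊕ J)) 0) (fixRep ρ)
      (fixRep_nontrivial ρ h0)
    have hint := integrality h2 ρ hρ hm1
    rw [hcard] at hd hint
    by_contra hlt
    push Not at hlt
    have hsum := m_one_sum' (Fintype.card F) (Fintype.card J + 2) hq (by omega)
    rw [show Fintype.card J + 2 - 1 = Fintype.card J + 1 by omega] at hsum
    apply false_of_dvd_general (Fintype.card F) (Fintype.card J + 2) (finrank ℂ W) hq (by omega)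
    · rw [show Fintype.card J + 2 - 1 = Fintype.card J + 1 by omega]
      exact hint
    · rw [← hsum, hd]
      unfold tgt at hc
      omega
    · exact hlt

/-- the base case `n = 3` -/
theorem step_base {J : Type} [Fintype J] [DecidableEq J] (hJ : Fintype.card J = 1)
    (hq2 : Fintype.card F ≠ 2) (hq4 : Fintype.card F ≠ 4) {W : Type} [AddCommGroup W] [Module ℂ W]
    [FiniteDimensional ℂ W] (ρ : Representation ℂ (SpecialLinearGroup (Unit ⊕ (Unit ⊕ J)) F) W)
    (hρ : ρ.IsIrreducible) (hnt : ∃ g, ρ g ≠ 1) :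
    tgt (Fintype.card F) 3 ≤ finrank ℂ W := by
  have hq : 2 ≤ Fintype.card F := two_le_card
  have hcard : Fintype.card (Unit ⊕ J) = 2 := by rw [card_unit_sum, hJ]
  have h2 : 2 ≤ Fintype.card (Unit ⊕ J) := by omega
  rcases m_dichotomy h2 ρ hnt with h | ⟨hm1, hd⟩
  · rw [hcard] at h
    have := two_mul_ge' (Fintype.card F) 3 hq (by omega)
    exact le_trans this h
  · have h0 := Cfsg.Agent.Lib.Helper24.SLMin.stage0 ρ hm1 (Or.inr (Or.inr ⟨hJ, hq2, hq4⟩))
    have hc := finrank_fix_eq ρ h0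
    have hint := integrality h2 ρ hρ hm1
    rw [hcard] at hd hint
    rw [hJ, pow_one] at hc
    by_contra hlt
    push Not at hlt
    unfold tgt at hlt
    rw [target_three _ hq] at hlt
    have hq2' : 4 ≤ Fintype.card F ^ 2 := by nlinarith
    exact false_of_dvd_base (Fintype.card F) (finrank ℂ W) (Fintype.isPrimePow_card_of_field)
      hq2 hq4 hint (by omega) hlt

/-- invariance of the second fixed space -/
theorem embemb_mem_fix2 {J : Type*} [Fintype J] [DecidableEq J] {M : Type*} [AddCommGroup M]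
    [Module ℂ M] (ρ : Representation ℂ (SpecialLinearGroup (Unit ⊕ (Unit ⊕ J)) F) M)
    (g : SpecialLinearGroup J F) {m : M}
    (hm : m ∈ wt ρ (rad (F := F) (ι' := Unit ⊕ J)) 0 ⊓ wt ρ (rb (F := F) (J := J)) 0) :
    ρ (emb (emb g)) m ∈
      wt ρ (rad (F := F) (ι' := Unit ⊕ J)) 0 ⊓ wt ρ (rb (F := F) (J := J)) 0 := by
  obtain ⟨hA, hB⟩ := Submodule.mem_inf.mp hm
  refine Submodule.mem_inf.mpr ⟨emb_mem_fix ρ (emb g) hA, ?_⟩
  have hB' : m ∈ wt (ρ.comp (emb (F := F) (ι' := Unit ⊕ J))) (rad (F := F) (ι' := J)) 0 := hB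
  exact emb_mem_fix (ρ.comp (emb (F := F) (ι' := Unit ⊕ J))) g hB'

/-- the three special cases `(4,4)`, `(5,2)`, `(5,3)`: the bound after two stages -/
theorem special_bound {J : Type} [Fintype J] [DecidableEq J]
    (hgen0 : 3 ≤ Fintype.card (Unit ⊕ J) ∨
      (Fintype.card (Unit ⊕ J) = 2 ∧ 4 ≤ Fintype.card F))
    (hgen1 : 2 ≤ Fintype.card J ∨ (Fintype.card J = 1 ∧ 3 ≤ Fintype.card F))
    {W : Type} [AddCommGroup W] [Module ℂ W] [FiniteDimensional ℂ W]
    (ρ : Representation ℂ (SpecialLinearGroup (Unit ⊕ (Unit ⊕ (Unit ⊕ J))) F) W)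
    (hρ : ρ.IsIrreducible) (hnt : ∃ g, ρ g ≠ 1) :
    2 * (Fintype.card F ^ (Fintype.card J + 2) - 1) ≤ finrank ℂ W ∨
    ((Fintype.card F ^ (Fintype.card J + 2) - 1) + (Fintype.card F ^ (Fintype.card J + 1) - 1) +
        (Fintype.card F ^ Fintype.card J - 1) ≤ finrank ℂ W ∧
      finrank ℂ W ∣ Fintype.card F ^ (Fintype.card J + 2) *
        ((Fintype.card F ^ (Fintype.card J + 2 + 1) - 1) *
          (Fintype.card F ^ (Fintype.card J + 2) - 1) / (Fintype.card F - 1))) := by
  have hcard1 : Fintype.card (Unit ⊕ J) = Fintype.card J + 1 := card_unit_sum J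
  have hcard2 : Fintype.card (Unit ⊕ (Unit ⊕ J)) = Fintype.card J + 2 := by
    rw [card_unit_sum, hcard1]
  have hJpos : 1 ≤ Fintype.card J := by
    rcases hgen1 with h | h <;> omega
  have h2 : 2 ≤ Fintype.card (Unit ⊕ (Unit ⊕ J)) := by omega
  rcases m_dichotomy h2 ρ hnt with h | ⟨hm1, hd⟩
  · left
    rw [hcard2] at h
    exact h
  · right
    have h0 := Cfsg.Agent.Lib.Helper24.SLMin.stage0 ρ hm1 (by
      rcases hgen0 with h | h
      · exact Or.inl h
      · exact Or.inr (Or.inl h))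
    have h1 := Cfsg.Agent.Lib.Helper21.SLMin.stage1 ρ hm1 h0 hgen1
    have hc := finrank_fix_eq ρ h0
    have hint := integrality h2 ρ hρ hm1
    have hW1 := finrank_eq_sum_inf_wt ρ (fun w : J → F => emb (rb (F := F) (J := J) w))
      (fun r s => by rw [rb_add, map_mul])
      (wt ρ (rad (F := F) (ι' := Unit ⊕ (Unit ⊕ J))) 0 ⊓ wt ρ (rb (F := F) (J := Unit ⊕ J)) 0)
      (fun r m hm => embemb_mem_fix2 ρ (rad r) hm)
    rw [sum_split _ 1 h1, Nat.mul_one] at hW1
    rw [hcard2] at hd hint
    rw [hcard1] at hc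
    refine ⟨?_, hint⟩
    omega

/-- the three special cases -/
theorem step_special {J : Type} [Fintype J] [DecidableEq J]
    (h : (Fintype.card J = 1 ∧ Fintype.card F = 4) ∨ (Fintype.card J = 2 ∧ Fintype.card F = 2) ∨
      (Fintype.card J = 2 ∧ Fintype.card F = 3))
    {W : Type} [AddCommGroup W] [Module ℂ W] [FiniteDimensional ℂ W]
    (ρ : Representation ℂ (SpecialLinearGroup (Unit ⊕ (Unit ⊕ (Unit ⊕ J))) F) W)
    (hρ : ρ.IsIrreducible) (hnt : ∃ g, ρ g ≠ 1) :
    tgt (Fintype.card F) (Fintype.card J + 3) ≤ finrank ℂ W := by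
  have hcard1 : Fintype.card (Unit ⊕ J) = Fintype.card J + 1 := card_unit_sum J
  rcases h with ⟨hJ, hq⟩ | ⟨hJ, hq⟩ | ⟨hJ, hq⟩
  · have hb := special_bound (J := J) (Or.inr ⟨by omega, by omega⟩) (Or.inr ⟨hJ, by omega⟩) ρ hρ hnt
    rw [hJ, hq] at hb ⊢
    have ht : tgt 4 (1 + 3) = 84 := by decide
    rw [ht]
    rcases hb with hb | ⟨hlo, hdvd⟩
    · norm_num at hb
      omega
    · by_contra hlt
      push Not at hlt
      have hlo' : 81 ≤ finrank ℂ W := by
        norm_num at hlo
        omega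
      exact window_44 _ hlo' hlt hdvd
  · have hb := special_bound (J := J) (Or.inl (by omega)) (Or.inl (by omega)) ρ hρ hnt
    rw [hJ, hq] at hb ⊢
    have ht : tgt 2 (2 + 3) = 30 := by decide
    rw [ht]
    rcases hb with hb | ⟨hlo, hdvd⟩
    · norm_num at hb
      omega
    · by_contra hlt
      push Not at hlt
      have hlo' : 25 ≤ finrank ℂ W := by
        norm_num at hlo
        omega
      exact window_52 _ hlo' hlt hdvd
  · have hb := special_bound (J := J) (Or.inl (by omega)) (Or.inl (by omega)) ρ hρ hnt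
    rw [hJ, hq] at hb ⊢
    have ht : tgt 3 (2 + 3) = 120 := by decide
    rw [ht]
    rcases hb with hb | ⟨hlo, hdvd⟩
    · norm_num at hb
      omega
    · by_contra hlt
      push Not at hlt
      have hlo' : 114 ≤ finrank ℂ W := by
        norm_num at hlo
        omega
      exact window_53 _ hlo' hlt hdvd

end steps

section transport

/-- precomposition of a representation with a group isomorphism -/
def compEquiv {G G' : Type*} [Group G] [Group G'] {W : Type*} [AddCommGroup W]
    [Module ℂ W] (ρ : Representation ℂ G W) (φ : G' ≃* G) : Representation ℂ G' W :=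
  ρ.comp φ.toMonoidHom

theorem compEquiv_apply {G G' : Type*} [Group G] [Group G'] {W : Type*} [AddCommGroup W]
    [Module ℂ W] (ρ : Representation ℂ G W) (φ : G' ≃* G) (g : G') :
    compEquiv ρ φ g = ρ (φ g) := rfl

/-- irreducibility is invariant under precomposition with a group isomorphism -/
theorem isIrreducible_comp_equiv {G G' : Type*} [Group G] [Group G'] {W : Type*} [AddCommGroup W]
    [Module ℂ W] (ρ : Representation ℂ G W) (φ : G' ≃* G) (h : ρ.IsIrreducible) :
    (compEquiv ρ φ).IsIrreducible := by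
  let e : Subrepresentation ρ ≃o Subrepresentation (compEquiv ρ φ) :=
    { toFun := fun σ => ⟨σ.toSubmodule, fun g _ hv => σ.apply_mem_toSubmodule (φ g) hv⟩
      invFun := fun σ' => ⟨σ'.toSubmodule, fun g v hv => by
        have := σ'.apply_mem_toSubmodule (φ.symm g) hv
        rw [compEquiv_apply, MulEquiv.apply_symm_apply] at this
        exact this⟩
      left_inv := fun σ => rfl
      right_inv := fun σ' => rfl
      map_rel_iff' := Iff.rfl }
  exact (e.isSimpleOrder_iff).mp h

variable {F : Type*} [Field F] {ι κ : Type*} [Fintype ι] [DecidableEq ι] [Fintype κ]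
  [DecidableEq κ]

/-- reindexing `SL ι F ≃* SL κ F` -/
def slRe (e : ι ≃ κ) : SpecialLinearGroup ι F ≃* SpecialLinearGroup κ F where
  toFun A := ⟨Matrix.reindex e e (A : Matrix ι ι F), by rw [Matrix.det_reindex_self]; exact A.2⟩
  invFun B := ⟨Matrix.reindex e.symm e.symm (B : Matrix κ κ F), by
    rw [Matrix.det_reindex_self]; exact B.2⟩
  left_inv A := by
    apply Subtype.ext
    ext i j
    simp [Matrix.reindex_apply, Matrix.submatrix_apply]
  right_inv B := by
    apply Subtype.ext
    ext i j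
    simp [Matrix.reindex_apply, Matrix.submatrix_apply]
  map_mul' A B := by
    apply Subtype.ext
    show Matrix.reindex e e ((A : Matrix ι ι F) * (B : Matrix ι ι F))
      = Matrix.reindex e e (A : Matrix ι ι F) * Matrix.reindex e e (B : Matrix ι ι F)
    simp only [Matrix.reindex_apply]
    rw [Matrix.submatrix_mul_equiv]

/-- transport of a bound for irreducible non-trivial modules along a reindexing -/
theorem irr_bound_transport [Fintype F] [DecidableEq F] (e : ι ≃ κ) (N : ℕ)
    (h : ∀ (W : Type) [AddCommGroup W] [Module ℂ W] [FiniteDimensional ℂ W]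
      (ρ : Representation ℂ (SpecialLinearGroup κ F) W), ρ.IsIrreducible → (∃ g, ρ g ≠ 1) →
      N ≤ finrank ℂ W)
    (W : Type) [AddCommGroup W] [Module ℂ W] [FiniteDimensional ℂ W]
    (ρ : Representation ℂ (SpecialLinearGroup ι F) W) (hρ : ρ.IsIrreducible)
    (hnt : ∃ g, ρ g ≠ 1) : N ≤ finrank ℂ W := by
  apply h W (compEquiv ρ (slRe (F := F) e).symm)
    (isIrreducible_comp_equiv ρ (slRe (F := F) e).symm hρ)
  obtain ⟨g, hg⟩ := hnt
  refine ⟨slRe e g, ?_⟩
  intro h1
  apply hg
  have : (compEquiv ρ (slRe (F := F) e).symm) (slRe e g) = ρ g := by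
    rw [compEquiv_apply, MulEquiv.symm_apply_apply]
  rw [← this, h1]

/-- Maschke: a bound for irreducible non-trivial modules gives the bound for all non-trivial ones -/
theorem gen_of_irr [Fintype F] [DecidableEq F] (N : ℕ)
    (h : ∀ (W : Type) [AddCommGroup W] [Module ℂ W] [FiniteDimensional ℂ W]
      (ρ : Representation ℂ (SpecialLinearGroup ι F) W), ρ.IsIrreducible → (∃ g, ρ g ≠ 1) →
      N ≤ finrank ℂ W)
    (W : Type) [AddCommGroup W] [Module ℂ W] [FiniteDimensional ℂ W]
    (ρ : Representation ℂ (SpecialLinearGroup ι F) W) (hnt : ∃ g, ρ g ≠ 1) :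
    N ≤ finrank ℂ W := by
  obtain ⟨σ, hσ, hσnt⟩ := exists_irreducible_sub_nontrivial ρ hnt
  have := h ↥σ.toSubmodule σ.toRepresentation hσ hσnt
  exact le_trans this (Submodule.finrank_le _)

end transport

section main

variable {F : Type*} [Field F] [Fintype F] [DecidableEq F]

/-- the exceptional pairs -/
def Exc (n q : ℕ) : Prop := (n = 3 ∧ q = 2) ∨ (n = 3 ∧ q = 4) ∨ (n = 4 ∧ q = 2) ∨ (n = 4 ∧ q = 3)

theorem exists_equiv_of_card {ι κ : Type} [Fintype ι] [Fintype κ]
    (h : Fintype.card ι = Fintype.card κ) : Nonempty (ι ≃ κ) :=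
  ⟨Fintype.equivOfCardEq h⟩

/-- the lower bound for all modules with non-trivial action, by induction on `n` -/
theorem tgen_all (n : ℕ) (h3 : 3 ≤ n) (hex : ¬ Exc n (Fintype.card F)) : TGen F n := by
  induction n using Nat.strong_induction_on with
  | _ n IH =>
    intro ι _ _ hcard
    apply gen_of_irr
    intro W _ _ _ ρ hρ hnt
    have hq : 2 ≤ Fintype.card F := two_le_card
    rcases Nat.lt_or_ge n 4 with hlt | hge
    · -- n = 3
      have hn : n = 3 := by omega
      subst hn
      have hq2 : Fintype.card F ≠ 2 := fun h => hex (Or.inl ⟨rfl, h⟩)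
      have hq4 : Fintype.card F ≠ 4 := fun h => hex (Or.inr (Or.inl ⟨rfl, h⟩))
      have hc : Fintype.card ι = Fintype.card (Unit ⊕ (Unit ⊕ Fin 1)) := by
        rw [hcard, card_unit_sum, card_unit_sum, Fintype.card_fin]
      obtain ⟨e⟩ := exists_equiv_of_card hc
      exact irr_bound_transport e _
        (fun W' _ _ _ ρ' hρ' hnt' => step_base (J := Fin 1) (Fintype.card_fin 1) hq2 hq4 ρ' hρ' hnt')
        W ρ hρ hnt
    · by_cases hexp : Exc (n - 1) (Fintype.card F)
      · -- the predecessor is exceptional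
        have hsp : (n = 4 ∧ Fintype.card F = 4) ∨ (n = 5 ∧ Fintype.card F = 2) ∨
            (n = 5 ∧ Fintype.card F = 3) := by
          rcases hexp with ⟨h1, h2⟩ | ⟨h1, h2⟩ | ⟨h1, h2⟩ | ⟨h1, h2⟩
          · exfalso
            exact hex (Or.inr (Or.inr (Or.inl ⟨by omega, h2⟩)))
          · exact Or.inl ⟨by omega, h2⟩
          · exact Or.inr (Or.inl ⟨by omega, h2⟩)
          · exact Or.inr (Or.inr ⟨by omega, h2⟩)
        have hc : Fintype.card ι = Fintype.card (Unit ⊕ (Unit ⊕ (Unit ⊕ Fin (n - 3)))) := by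
          rw [hcard, card_unit_sum, card_unit_sum, card_unit_sum, Fintype.card_fin]
          omega
        obtain ⟨e⟩ := exists_equiv_of_card hc
        have hJ : Fintype.card (Fin (n - 3)) + 3 = n := by
          rw [Fintype.card_fin]
          omega
        refine irr_bound_transport e _ (fun W' _ _ _ ρ' hρ' hnt' => ?_) W ρ hρ hnt
        have := step_special (J := Fin (n - 3)) (by
          rw [Fintype.card_fin]
          rcases hsp with ⟨h1, h2⟩ | ⟨h1, h2⟩ | ⟨h1, h2⟩
          · exact Or.inl ⟨by omega, h2⟩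
          · exact Or.inr (Or.inl ⟨by omega, h2⟩)
          · exact Or.inr (Or.inr ⟨by omega, h2⟩)) ρ' hρ' hnt'
        rw [hJ] at this
        exact this
      · -- generic step
        have IH' : TGen F (n - 1) := IH (n - 1) (by omega) (by omega) hexp
        have hc : Fintype.card ι = Fintype.card (Unit ⊕ (Unit ⊕ Fin (n - 2))) := by
          rw [hcard, card_unit_sum, card_unit_sum, Fintype.card_fin]
          omega
        obtain ⟨e⟩ := exists_equiv_of_card hc
        have hJ : Fintype.card (Fin (n - 2)) + 2 = n := by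
          rw [Fintype.card_fin]
          omega
        have hJ1 : Fintype.card (Fin (n - 2)) + 1 = n - 1 := by
          rw [Fintype.card_fin]
          omega
        refine irr_bound_transport e _ (fun W' _ _ _ ρ' hρ' hnt' => ?_) W ρ hρ hnt
        have := step_generic (J := Fin (n - 2)) (by rw [Fintype.card_fin]; omega) (by
          rw [Fintype.card_fin]
          rcases Nat.lt_or_ge n 5 with h5 | h5
          · right
            refine ⟨by omega, ?_⟩
            have hn4 : n = 4 := by omega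
            have h2' : Fintype.card F ≠ 2 := fun h => hex (Or.inr (Or.inr (Or.inl ⟨hn4, h⟩)))
            have h3' : Fintype.card F ≠ 3 := fun h => hex (Or.inr (Or.inr (Or.inr ⟨hn4, h⟩)))
            omega
          · left
            omega) (by rw [hJ1]; exact IH') ρ' hρ' hnt'
        rw [hJ] at this
        exact this

/-- a trivial representation of degree at least two is not irreducible -/
theorem not_irr_of_trivial {G : Type*} [Group G] (k : ℕ) (hk : 2 ≤ k)
    (ρ : Representation ℂ G (Fin k → ℂ)) (h : ∀ g, ρ g = 1) : ¬ ρ.IsIrreducible := by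
  intro hρ
  let e0 : Fin k → ℂ := Pi.single ⟨0, by omega⟩ 1
  let S : Subrepresentation ρ :=
    { toSubmodule := Submodule.span ℂ {e0}
      apply_mem_toSubmodule := by
        intro g v hv
        rw [h g]
        exact hv }
  rcases hρ.eq_bot_or_eq_top S with hS | hS
  · have h0 : e0 ∈ S.toSubmodule := Submodule.subset_span rfl
    rw [hS] at h0
    have h1 : e0 = 0 := h0
    have := congrFun h1 ⟨0, by omega⟩
    simp [e0] at this
  · have h0 : (Pi.single ⟨1, by omega⟩ 1 : Fin k → ℂ) ∈ S.toSubmodule := by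
      rw [hS]
      trivial
    obtain ⟨c, hc⟩ := Submodule.mem_span_singleton.mp h0
    have := congrFun hc ⟨1, by omega⟩
    simp [e0, Fin.ext_iff] at this

/-- the lower bound half of S2332 -/
theorem lower_bound (n : ℕ) (hn : 3 ≤ n)
    (hex : (n, Fintype.card F) ≠ (3, 2) ∧ (n, Fintype.card F) ≠ (3, 4) ∧
      (n, Fintype.card F) ≠ (4, 2) ∧ (n, Fintype.card F) ≠ (4, 3))
    (k : ℕ) (ρ : Representation ℂ (Matrix.SpecialLinearGroup (Fin n) F) (Fin k → ℂ))
    (hρ : ρ.IsIrreducible) (hk : 2 ≤ k) :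
    (Fintype.card F ^ n - Fintype.card F) / (Fintype.card F - 1) ≤ k := by
  have hE : ¬ Exc n (Fintype.card F) := by
    rintro (⟨h1, h2⟩ | ⟨h1, h2⟩ | ⟨h1, h2⟩ | ⟨h1, h2⟩)
    · exact hex.1 (by rw [h1, h2])
    · exact hex.2.1 (by rw [h1, h2])
    · exact hex.2.2.1 (by rw [h1, h2])
    · exact hex.2.2.2 (by rw [h1, h2])
  have hT := tgen_all (F := F) n hn hE
  have hnt : ∃ g, ρ g ≠ 1 := by
    by_contra hcon
    push Not at hcon
    exact not_irr_of_trivial k hk ρ hcon hρ
  have := hT (Fin n) (Fintype.card_fin n) (Fin k → ℂ) ρ hnt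
  rw [Module.finrank_fin_fun] at this
  exact this

end main

end Cfsg.Agent.Lib.Helper16.SLMinSpine
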