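import Mathlib

/-!
# Transvections in `SL(I, ZMod 2)` and the stabilizer of a linear functional (helper16)

`TT a b = 1 + a bᵀ`; `tv a b h : SL` for `b ⬝ᵥ a = 0`.  For an index `i1`, with `e = Pi.single i1 1`:
`Pst i1` is the stabilizer of the row vector `e`, `Utr i1` the group of transvections with axis
`ker e`, `Mlv i1` the subgroup of `Pst i1` fixing the column vector `e`.
-/

set_option autoImplicit false
set_option linter.unusedSectionVars false

namespace Cfsg.Agent.Lib.Helper16.SLT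

open Matrix

variable {I : Type*} [Fintype I] [DecidableEq I]

/-- the basis vector -/
def E (i : I) : I → ZMod 2 := Pi.single i 1

theorem E_dot (i : I) (v : I → ZMod 2) : E i ⬝ᵥ v = v i := by
  rw [E, single_dotProduct, one_mul]

theorem dot_E (i : I) (v : I → ZMod 2) : v ⬝ᵥ E i = v i := by
  rw [E, dotProduct_single, mul_one]

theorem E_apply_self (i : I) : E i i = 1 := by rw [E, Pi.single_eq_same]

theorem E_apply_ne {i j : I} (h : j ≠ i) : E i j = 0 := by rw [E, Pi.single_eq_of_ne h]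

theorem add_self_vec (v : I → ZMod 2) : v + v = 0 := by
  ext i
  have : ∀ x : ZMod 2, x + x = 0 := by decide
  exact this (v i)

theorem add_self_mat (A : Matrix I I (ZMod 2)) : A + A = 0 := by
  ext i j
  have : ∀ x : ZMod 2, x + x = 0 := by decide
  exact this (A i j)

/-- `1 + a bᵀ` -/
def TT (a b : I → ZMod 2) : Matrix I I (ZMod 2) := 1 + vecMulVec a b

theorem TT_mul (a b a' b' : I → ZMod 2) :
    TT a b * TT a' b' = 1 + vecMulVec a b + vecMulVec a' b' + (b ⬝ᵥ a') • vecMulVec a b' := by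
  unfold TT
  rw [mul_add, add_mul, add_mul, one_mul, mul_one, one_mul, vecMulVec_mul_vecMulVec,
    vecMulVec_smul]
  abel

theorem TT_sq {a b : I → ZMod 2} (hab : b ⬝ᵥ a = 0) : TT a b * TT a b = 1 := by
  rw [TT_mul, hab, zero_smul, add_zero, add_assoc, add_self_mat, add_zero]

theorem TT_mul_same_row (a a' b : I → ZMod 2) (h : b ⬝ᵥ a' = 0) :
    TT a b * TT a' b = TT (a + a') b := by
  rw [TT_mul, h, zero_smul, add_zero]
  unfold TT
  rw [add_vecMulVec, add_assoc]

theorem TT_mul_same_col (a b b' : I → ZMod 2) (h : b ⬝ᵥ a = 0) :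
    TT a b * TT a b' = TT a (b + b') := by
  rw [TT_mul, h, zero_smul, add_zero]
  unfold TT
  rw [vecMulVec_add, add_assoc]

theorem TT_zero_left (b : I → ZMod 2) : TT 0 b = 1 := by
  unfold TT; rw [zero_vecMulVec, add_zero]

theorem TT_zero_right (a : I → ZMod 2) : TT a 0 = 1 := by
  unfold TT; rw [vecMulVec_zero, add_zero]

theorem TT_mulVec (a b x : I → ZMod 2) : TT a b *ᵥ x = x + (b ⬝ᵥ x) • a := by
  unfold TT
  rw [add_mulVec, one_mulVec, vecMulVec_mulVec, op_smul_eq_smul]

theorem vecMul_TT (a b x : I → ZMod 2) : x ᵥ* TT a b = x + (x ⬝ᵥ a) • b := by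
  unfold TT
  rw [vecMul_add, vecMul_one, vecMul_vecMulVec]

theorem det_eq_one_of_mul_eq_one {A B : Matrix I I (ZMod 2)} (h : A * B = 1) : A.det = 1 := by
  have h1 : A.det * B.det = 1 := by rw [← det_mul, h, det_one]
  have : ∀ x y : ZMod 2, x * y = 1 → x = 1 := by decide
  exact this _ _ h1

/-- the transvection `1 + a bᵀ` as an element of the special linear group -/
def tv (a b : I → ZMod 2) (hab : b ⬝ᵥ a = 0) : SpecialLinearGroup I (ZMod 2) :=
  ⟨TT a b, det_eq_one_of_mul_eq_one (TT_sq hab)⟩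

/-- the underlying matrix -/
def mat (g : SpecialLinearGroup I (ZMod 2)) : Matrix I I (ZMod 2) := g.1

theorem mat_mul (g k : SpecialLinearGroup I (ZMod 2)) : mat (g * k) = mat g * mat k := rfl

theorem mat_one : mat (1 : SpecialLinearGroup I (ZMod 2)) = 1 := rfl

theorem mat_tv (a b : I → ZMod 2) (hab : b ⬝ᵥ a = 0) : mat (tv a b hab) = TT a b := rfl

theorem sl_ext {g k : SpecialLinearGroup I (ZMod 2)} (h : mat g = mat k) : g = k := Subtype.ext h

theorem mat_mul_inv (g : SpecialLinearGroup I (ZMod 2)) : mat g * mat g⁻¹ = 1 := by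
  rw [← mat_mul, mul_inv_cancel, mat_one]

theorem mat_inv_mul (g : SpecialLinearGroup I (ZMod 2)) : mat g⁻¹ * mat g = 1 := by
  rw [← mat_mul, inv_mul_cancel, mat_one]

theorem tv_mul_self (a b : I → ZMod 2) (hab : b ⬝ᵥ a = 0) : tv a b hab * tv a b hab = 1 := by
  apply sl_ext
  rw [mat_mul, mat_tv, TT_sq hab, mat_one]

theorem tv_inv (a b : I → ZMod 2) (hab : b ⬝ᵥ a = 0) : (tv a b hab)⁻¹ = tv a b hab :=
  inv_eq_of_mul_eq_one_left (tv_mul_self a b hab)

/-- conjugation of `1 + a bᵀ` -/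
theorem conj_TT (g : SpecialLinearGroup I (ZMod 2)) (a b : I → ZMod 2) :
    mat g * TT a b * mat g⁻¹ = TT (mat g *ᵥ a) (b ᵥ* mat g⁻¹) := by
  unfold TT
  rw [mul_add, add_mul, mul_one, mat_mul_inv, mul_vecMulVec, vecMulVec_mul]

theorem dot_conj (g : SpecialLinearGroup I (ZMod 2)) (a b : I → ZMod 2) :
    (b ᵥ* mat g⁻¹) ⬝ᵥ (mat g *ᵥ a) = b ⬝ᵥ a := by
  rw [dotProduct_mulVec, vecMul_vecMul, mat_inv_mul, vecMul_one]

theorem conj_tv (g : SpecialLinearGroup I (ZMod 2)) (a b : I → ZMod 2) (hab : b ⬝ᵥ a = 0) :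
    g * tv a b hab * g⁻¹ = tv (mat g *ᵥ a) (b ᵥ* mat g⁻¹)
      (by rw [dot_conj]; exact hab) := by
  apply sl_ext
  rw [mat_mul, mat_mul, mat_tv, mat_tv, conj_TT]

/-- a rank one matrix determines its column vector given a nonzero entry of the row vector -/
theorem TT_inj_left {a a' b : I → ZMod 2} {j : I} (hb : b j = 1) (h : TT a b = TT a' b) :
    a = a' := by
  ext i
  have h1 := congrFun (congrFun h i) j
  unfold TT at h1
  rw [Matrix.add_apply, Matrix.add_apply, vecMulVec_apply, vecMulVec_apply, hb, mul_one, mul_one] at h1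
  exact add_left_cancel h1

theorem TT_inj_right {a b b' : I → ZMod 2} {i : I} (ha : a i = 1) (h : TT a b = TT a b') :
    b = b' := by
  ext j
  have h1 := congrFun (congrFun h i) j
  unfold TT at h1
  rw [Matrix.add_apply, Matrix.add_apply, vecMulVec_apply, vecMulVec_apply, ha, one_mul, one_mul] at h1
  exact add_left_cancel h1

theorem TT_eq_one_iff {a b : I → ZMod 2} {j : I} (hb : b j = 1) : TT a b = 1 ↔ a = 0 := by
  constructor
  · intro h
    rw [← TT_zero_left b] at h
    exact TT_inj_left hb h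
  · rintro rfl
    exact TT_zero_left b

end Cfsg.Agent.Lib.Helper16.SLT
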