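import Mathlib
import Cfsg.Agent.Lib.Helper16.SLT1

/-!
# The stabilizer of a functional in `SL(I, ZMod 2)` as an affine group (helper16)
-/

set_option autoImplicit false
set_option linter.unusedSectionVars false

namespace Cfsg.Agent.Lib.Helper16.SLT

open Matrix

variable {I : Type*} [Fintype I] [DecidableEq I]

/-- the stabilizer of the row vector `E i1` -/
def Pst (i1 : I) : Subgroup (SpecialLinearGroup I (ZMod 2)) where
  carrier := {g | E i1 ᵥ* mat g = E i1}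
  one_mem' := by rw [Set.mem_setOf_eq, mat_one, vecMul_one]
  mul_mem' := by
    intro g k hg hk
    rw [Set.mem_setOf_eq] at *
    rw [mat_mul, ← vecMul_vecMul, hg, hk]
  inv_mem' := by
    intro g hg
    rw [Set.mem_setOf_eq] at *
    conv_lhs => rw [← hg]
    rw [vecMul_vecMul, mat_mul_inv, vecMul_one]

theorem mem_Pst (i1 : I) (g : SpecialLinearGroup I (ZMod 2)) :
    g ∈ Pst i1 ↔ E i1 ᵥ* mat g = E i1 := Iff.rfl

/-- the transvections with axis `ker (E i1)` -/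
def Utr (i1 : I) : Subgroup (SpecialLinearGroup I (ZMod 2)) where
  carrier := {g | ∃ a, E i1 ⬝ᵥ a = 0 ∧ mat g = TT a (E i1)}
  one_mem' := ⟨0, dotProduct_zero _, by rw [mat_one, TT_zero_left]⟩
  mul_mem' := by
    rintro g k ⟨a, ha, hg⟩ ⟨a', ha', hk⟩
    exact ⟨a + a', by rw [dotProduct_add, ha, ha', add_zero],
      by rw [mat_mul, hg, hk, TT_mul_same_row _ _ _ ha']⟩
  inv_mem' := by
    rintro g ⟨a, ha, hg⟩
    have : g = tv a (E i1) ha := sl_ext (by rw [hg, mat_tv])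
    rw [Set.mem_setOf_eq, this, tv_inv]
    exact ⟨a, ha, mat_tv _ _ _⟩

theorem mem_Utr (i1 : I) (g : SpecialLinearGroup I (ZMod 2)) :
    g ∈ Utr i1 ↔ ∃ a, E i1 ⬝ᵥ a = 0 ∧ mat g = TT a (E i1) := Iff.rfl

theorem mem_Utr' (i1 : I) (g : SpecialLinearGroup I (ZMod 2)) :
    g ∈ Utr i1 ↔ ∃ a, ∃ ha : E i1 ⬝ᵥ a = 0, g = tv a (E i1) ha := by
  constructor
  · rintro ⟨a, ha, hg⟩
    exact ⟨a, ha, sl_ext (by rw [hg, mat_tv])⟩
  · rintro ⟨a, ha, rfl⟩
    exact ⟨a, ha, mat_tv _ _ _⟩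

theorem tv_mem_Utr (i1 : I) (a : I → ZMod 2) (ha : E i1 ⬝ᵥ a = 0) : tv a (E i1) ha ∈ Utr i1 :=
  ⟨a, ha, mat_tv _ _ _⟩

/-- the Levi complement: stabilizer of the row vector and of the column vector -/
def Mlv (i1 : I) : Subgroup (SpecialLinearGroup I (ZMod 2)) where
  carrier := {g | E i1 ᵥ* mat g = E i1 ∧ mat g *ᵥ E i1 = E i1}
  one_mem' := by
    rw [Set.mem_setOf_eq, mat_one, vecMul_one, one_mulVec]
    exact ⟨rfl, rfl⟩
  mul_mem' := by
    rintro g k ⟨hg1, hg2⟩ ⟨hk1, hk2⟩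
    rw [Set.mem_setOf_eq]
    rw [mat_mul, ← vecMul_vecMul, hg1, hk1, ← mulVec_mulVec, hk2, hg2]
    exact ⟨rfl, rfl⟩
  inv_mem' := by
    rintro g ⟨hg1, hg2⟩
    rw [Set.mem_setOf_eq]
    constructor
    · conv_lhs => rw [← hg1]
      rw [vecMul_vecMul, mat_mul_inv, vecMul_one]
    · conv_lhs => rw [← hg2]
      rw [mulVec_mulVec, mat_inv_mul, one_mulVec]

theorem Utr_le_Pst (i1 : I) : Utr i1 ≤ Pst i1 := by
  rintro g ⟨a, ha, hg⟩
  rw [mem_Pst, hg, vecMul_TT, ha, zero_smul, add_zero]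

theorem Mlv_le_Pst (i1 : I) : Mlv i1 ≤ Pst i1 := fun _ hg => hg.1

theorem E_dot_E (i1 : I) : E i1 ⬝ᵥ E i1 = 1 := by rw [E_dot, E_apply_self]

/-- conjugation of a transvection in `Utr` by an element of `Pst` -/
theorem conj_Utr (i1 : I) {p : SpecialLinearGroup I (ZMod 2)} (hp : p ∈ Pst i1) (a : I → ZMod 2)
    (ha : E i1 ⬝ᵥ a = 0) :
    ∃ ha' : E i1 ⬝ᵥ (mat p *ᵥ a) = 0, p * tv a (E i1) ha * p⁻¹ = tv (mat p *ᵥ a) (E i1) ha' := by
  have hp' : E i1 ᵥ* mat p⁻¹ = E i1 := (Pst i1).inv_mem hp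
  have ha' : E i1 ⬝ᵥ (mat p *ᵥ a) = 0 := by
    rw [dotProduct_mulVec, (mem_Pst i1 p).mp hp, ha]
  refine ⟨ha', ?_⟩
  rw [conj_tv]
  apply sl_ext
  rw [mat_tv, mat_tv, hp']

theorem conj_mem_Utr (i1 : I) {p u : SpecialLinearGroup I (ZMod 2)} (hp : p ∈ Pst i1)
    (hu : u ∈ Utr i1) : p * u * p⁻¹ ∈ Utr i1 := by
  obtain ⟨a, ha, rfl⟩ := (mem_Utr' i1 u).mp hu
  obtain ⟨ha', h1⟩ := conj_Utr i1 hp a ha
  rw [h1]
  exact tv_mem_Utr i1 _ ha'

theorem Utr_comm (i1 : I) {u u' : SpecialLinearGroup I (ZMod 2)} (hu : u ∈ Utr i1)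
    (hu' : u' ∈ Utr i1) : u * u' = u' * u := by
  obtain ⟨a, ha, hg⟩ := hu
  obtain ⟨a', ha', hg'⟩ := hu'
  apply sl_ext
  rw [mat_mul, mat_mul, hg, hg', TT_mul_same_row _ _ _ ha', TT_mul_same_row _ _ _ ha, add_comm]

theorem Utr_sq (i1 : I) {u : SpecialLinearGroup I (ZMod 2)} (hu : u ∈ Utr i1) : u * u = 1 := by
  obtain ⟨a, ha, rfl⟩ := (mem_Utr' i1 u).mp hu
  exact tv_mul_self _ _ _

theorem Utr_inf_Mlv (i1 : I) {g : SpecialLinearGroup I (ZMod 2)} (hu : g ∈ Utr i1)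
    (hm : g ∈ Mlv i1) : g = 1 := by
  obtain ⟨a, ha, hg⟩ := hu
  have h1 := hm.2
  rw [hg, TT_mulVec, E_dot_E, one_smul] at h1
  have ha0 : a = 0 := by
    have := add_left_cancel (a := E i1) (b := a) (c := 0) (by rw [add_zero]; exact h1)
    exact this
  apply sl_ext
  rw [hg, ha0, TT_zero_left, mat_one]

theorem Pst_decomp (i1 : I) {g : SpecialLinearGroup I (ZMod 2)} (hg : g ∈ Pst i1) :
    ∃ u ∈ Utr i1, ∃ m ∈ Mlv i1, g = u * m := by
  have hg' := (mem_Pst i1 g).mp hg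
  have hdot : E i1 ⬝ᵥ (mat g *ᵥ E i1) = 1 := by rw [dotProduct_mulVec, hg', E_dot_E]
  have ha : E i1 ⬝ᵥ (mat g *ᵥ E i1 + E i1) = 0 := by
    rw [dotProduct_add, hdot, E_dot_E]
    decide
  refine ⟨tv _ (E i1) ha, tv_mem_Utr i1 _ ha, tv _ (E i1) ha * g, ?_, ?_⟩
  · refine ⟨(Pst i1).mul_mem (Utr_le_Pst i1 (tv_mem_Utr i1 _ ha)) hg, ?_⟩
    rw [mat_mul, mat_tv, ← mulVec_mulVec, TT_mulVec, hdot, one_smul, ← add_assoc, add_self_vec,
      zero_add]
  · rw [← mul_assoc, tv_mul_self, one_mul]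

/-- `Mlv` acts faithfully on `Utr` -/
theorem Mlv_faith (i1 : I) {m : SpecialLinearGroup I (ZMod 2)} (hm : m ∈ Mlv i1)
    (hc : ∀ u ∈ Utr i1, m * u * m⁻¹ = u) : m = 1 := by
  have hcol : ∀ j, mat m *ᵥ E j = E j := by
    intro j
    by_cases hj : j = i1
    · rw [hj]; exact hm.2
    · have ha : E i1 ⬝ᵥ E j = 0 := by rw [E_dot, E_apply_ne (Ne.symm hj)]
      obtain ⟨ha', h1⟩ := conj_Utr i1 (Mlv_le_Pst i1 hm) (E j) ha
      rw [hc _ (tv_mem_Utr i1 _ ha)] at h1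
      have h2 := congrArg mat h1
      rw [mat_tv, mat_tv] at h2
      exact (TT_inj_left (E_apply_self i1) h2).symm
  apply sl_ext
  rw [mat_one]
  ext i j
  have := congrFun (hcol j) i
  rw [E, mulVec_single_one] at this
  rw [Matrix.one_apply]
  rw [Matrix.col_apply] at this
  rw [this, Pi.single_apply]

/-- the central transvection -/
def zt (i0 i1 : I) (h : i0 ≠ i1) : SpecialLinearGroup I (ZMod 2) :=
  tv (E i0) (E i1) (by rw [E_dot, E_apply_ne h.symm])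

theorem zt_mem_Utr (i0 i1 : I) (h : i0 ≠ i1) : zt i0 i1 h ∈ Utr i1 := tv_mem_Utr i1 _ _

theorem mat_zt (i0 i1 : I) (h : i0 ≠ i1) : mat (zt i0 i1 h) = transvection i0 i1 1 := by
  rw [zt, mat_tv, TT, transvection, single_eq_single_vecMulVec_single]
  rfl

theorem zt_ne_one (i0 i1 : I) (h : i0 ≠ i1) : zt i0 i1 h ≠ 1 := by
  intro h1
  have h2 := congrArg mat h1
  rw [zt, mat_tv, mat_one, TT_eq_one_iff (E_apply_self i1)] at h2
  have := congrFun h2 i0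
  rw [E_apply_self] at this
  exact one_ne_zero this

/-- the centralizer of the central transvection lies in `Pst` -/
theorem cent_le_Pst (i0 i1 : I) (h : i0 ≠ i1) {g : SpecialLinearGroup I (ZMod 2)}
    (hg : g * zt i0 i1 h = zt i0 i1 h * g) : g ∈ Pst i1 := by
  have h1 : g * zt i0 i1 h * g⁻¹ = zt i0 i1 h := by
    rw [hg, mul_assoc, mul_inv_cancel, mul_one]
  rw [zt, conj_tv] at h1
  have h2 := congrArg mat h1
  rw [mat_tv, mat_tv] at h2
  have hent : ∀ i j, (mat g *ᵥ E i0) i * (E i1 ᵥ* mat g⁻¹) j = E i0 i * E i1 j := by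
    intro i j
    have h3 := congrFun (congrFun h2 i) j
    unfold TT at h3
    rw [Matrix.add_apply, Matrix.add_apply, vecMulVec_apply, vecMulVec_apply] at h3
    exact add_left_cancel h3
  have h4 : (mat g *ᵥ E i0) i0 = 1 := by
    have := hent i0 i1
    rw [E_apply_self, E_apply_self, mul_one] at this
    have key : ∀ x y : ZMod 2, x * y = 1 → x = 1 := by decide
    exact key _ _ this
  have h5 : E i1 ᵥ* mat g⁻¹ = E i1 := by
    ext j
    have := hent i0 j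
    rw [h4, one_mul, E_apply_self, one_mul] at this
    exact this
  have : g⁻¹ ∈ Pst i1 := h5
  have h6 := (Pst i1).inv_mem this
  rwa [inv_inv] at h6

end Cfsg.Agent.Lib.Helper16.SLT
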