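import Mathlib
import Cfsg.Agent.Lib.Helper16.SLT2

/-!
# Every automorphism of `Utr` is induced by `Mlv`; the order of `Utr` (helper16)
-/

set_option autoImplicit false
set_option linter.unusedSectionVars false

namespace Cfsg.Agent.Lib.Helper16.SLT

open Matrix

variable {I : Type*} [Fintype I] [DecidableEq I] (i1 : I)

/-- the column vector of an element of `Utr` -/
def vecOf (g : SpecialLinearGroup I (ZMod 2)) : I → ZMod 2 := mat g *ᵥ E i1 + E i1

theorem vecOf_tv (a : I → ZMod 2) (ha : E i1 ⬝ᵥ a = 0) : vecOf i1 (tv a (E i1) ha) = a := by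
  rw [vecOf, mat_tv, TT_mulVec, E_dot_E, one_smul, add_comm, ← add_assoc, add_self_vec, zero_add]

theorem vecOf_one : vecOf i1 (1 : SpecialLinearGroup I (ZMod 2)) = 0 := by
  rw [vecOf, mat_one, one_mulVec, add_self_vec]

theorem vecOf_dot {u : SpecialLinearGroup I (ZMod 2)} (hu : u ∈ Utr i1) :
    E i1 ⬝ᵥ vecOf i1 u = 0 := by
  obtain ⟨a, ha, rfl⟩ := (mem_Utr' i1 u).mp hu
  rw [vecOf_tv]; exact ha

theorem eq_tv_vecOf {u : SpecialLinearGroup I (ZMod 2)} (hu : u ∈ Utr i1) :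
    u = tv (vecOf i1 u) (E i1) (vecOf_dot i1 hu) := by
  obtain ⟨a, ha, rfl⟩ := (mem_Utr' i1 u).mp hu
  apply sl_ext
  rw [mat_tv, mat_tv, vecOf_tv]

theorem vecOf_mul {u u' : SpecialLinearGroup I (ZMod 2)} (hu : u ∈ Utr i1) (hu' : u' ∈ Utr i1) :
    vecOf i1 (u * u') = vecOf i1 u + vecOf i1 u' := by
  obtain ⟨a, ha, rfl⟩ := (mem_Utr' i1 u).mp hu
  obtain ⟨a', ha', rfl⟩ := (mem_Utr' i1 u').mp hu'
  have h1 : tv a (E i1) ha * tv a' (E i1) ha'
      = tv (a + a') (E i1) (by rw [dotProduct_add, ha, ha', add_zero]) := by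
    apply sl_ext
    rw [mat_mul, mat_tv, mat_tv, mat_tv, TT_mul_same_row _ _ _ ha']
  rw [h1, vecOf_tv, vecOf_tv, vecOf_tv]

/-- zeroing the `i1` coordinate -/
def pr (x : I → ZMod 2) : I → ZMod 2 := x + (x i1) • E i1

theorem pr_dot (x : I → ZMod 2) : E i1 ⬝ᵥ pr i1 x = 0 := by
  rw [pr, dotProduct_add, dotProduct_smul, E_dot_E, E_dot, smul_eq_mul, mul_one]
  have : ∀ t : ZMod 2, t + t = 0 := by decide
  exact this _

theorem pr_add (x y : I → ZMod 2) : pr i1 (x + y) = pr i1 x + pr i1 y := by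
  unfold pr
  rw [Pi.add_apply, add_smul]
  abel

theorem pr_of_dot {x : I → ZMod 2} (hx : E i1 ⬝ᵥ x = 0) : pr i1 x = x := by
  rw [E_dot] at hx
  rw [pr, hx, zero_smul, add_zero]

/-- the element of `Utr` attached to a vector -/
def tU (x : I → ZMod 2) : ↥(Utr i1) := ⟨tv (pr i1 x) (E i1) (pr_dot i1 x), tv_mem_Utr i1 _ _⟩

theorem mat_tU (x : I → ZMod 2) :
    mat ((tU i1 x : ↥(Utr i1)) : SpecialLinearGroup I (ZMod 2)) = TT (pr i1 x) (E i1) := rfl

theorem tU_add (x y : I → ZMod 2) : tU i1 (x + y) = tU i1 x * tU i1 y := by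
  apply Subtype.ext
  apply sl_ext
  rw [Subgroup.coe_mul, mat_mul, mat_tU, mat_tU, mat_tU, TT_mul_same_row _ _ _ (pr_dot i1 y),
    pr_add]

theorem tU_vecOf (u : ↥(Utr i1)) : tU i1 (vecOf i1 (u : SpecialLinearGroup I (ZMod 2))) = u := by
  apply Subtype.ext
  apply sl_ext
  rw [mat_tU, pr_of_dot i1 (vecOf_dot i1 u.2)]
  conv_rhs => rw [eq_tv_vecOf i1 u.2]
  rw [mat_tv]

theorem vecOf_tU (x : I → ZMod 2) :
    vecOf i1 ((tU i1 x : ↥(Utr i1)) : SpecialLinearGroup I (ZMod 2)) = pr i1 x :=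
  vecOf_tv i1 _ (pr_dot i1 x)

/-- the additive map induced by an endomorphism of `Utr` -/
def LAdd (φ : ↥(Utr i1) →* ↥(Utr i1)) : (I → ZMod 2) →+ (I → ZMod 2) where
  toFun x := vecOf i1 ((φ (tU i1 x) : ↥(Utr i1)) : SpecialLinearGroup I (ZMod 2)) + (x i1) • E i1
  map_zero' := by
    have h0 : tU i1 (0 : I → ZMod 2) = 1 := by
      have := tU_add i1 (0 : I → ZMod 2) 0
      rw [add_zero] at this
      exact (mul_eq_left.mp this.symm)
    rw [h0, map_one, Subgroup.coe_one, vecOf_one, Pi.zero_apply, zero_smul, add_zero]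
  map_add' x y := by
    rw [tU_add, map_mul, Subgroup.coe_mul, vecOf_mul i1 (φ (tU i1 x)).2 (φ (tU i1 y)).2,
      Pi.add_apply, add_smul]
    abel

theorem LAdd_apply (φ : ↥(Utr i1) →* ↥(Utr i1)) (x : I → ZMod 2) :
    LAdd i1 φ x
      = vecOf i1 ((φ (tU i1 x) : ↥(Utr i1)) : SpecialLinearGroup I (ZMod 2)) + (x i1) • E i1 :=
  rfl

theorem LAdd_apply_i1 (φ : ↥(Utr i1) →* ↥(Utr i1)) (x : I → ZMod 2) :
    LAdd i1 φ x i1 = x i1 := by
  rw [LAdd_apply, Pi.add_apply, Pi.smul_apply, E_apply_self, smul_eq_mul, mul_one]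
  have := vecOf_dot i1 (φ (tU i1 x)).2
  rw [E_dot] at this
  rw [this, zero_add]

theorem LAdd_comp (φ ψ : ↥(Utr i1) →* ↥(Utr i1)) (hφψ : ∀ u, φ (ψ u) = u) (x : I → ZMod 2) :
    LAdd i1 φ (LAdd i1 ψ x) = x := by
  have h1 : pr i1 (LAdd i1 ψ x)
      = vecOf i1 ((ψ (tU i1 x) : ↥(Utr i1)) : SpecialLinearGroup I (ZMod 2)) := by
    rw [pr, LAdd_apply_i1, LAdd_apply, add_assoc, add_self_vec, add_zero]
  have h2 : tU i1 (LAdd i1 ψ x) = ψ (tU i1 x) := by
    conv_rhs => rw [← tU_vecOf i1 (ψ (tU i1 x))]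
    apply Subtype.ext
    apply sl_ext
    rw [mat_tU, mat_tU, h1, pr_of_dot i1 (vecOf_dot i1 (ψ (tU i1 x)).2)]
  rw [LAdd_apply, h2, hφψ, vecOf_tU, LAdd_apply_i1, pr, add_assoc, add_self_vec, add_zero]

/-- the matrix of the linear map induced by an endomorphism of `Utr` -/
noncomputable def LMat (φ : ↥(Utr i1) →* ↥(Utr i1)) : Matrix I I (ZMod 2) :=
  LinearMap.toMatrix' ((LAdd i1 φ).toZModLinearMap 2)

theorem LMat_mulVec (φ : ↥(Utr i1) →* ↥(Utr i1)) (x : I → ZMod 2) :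
    LMat i1 φ *ᵥ x = LAdd i1 φ x := by
  rw [LMat, LinearMap.toMatrix'_mulVec]
  rfl

theorem LMat_mul (φ ψ : ↥(Utr i1) →* ↥(Utr i1)) (hφψ : ∀ u, φ (ψ u) = u) :
    LMat i1 φ * LMat i1 ψ = 1 := by
  rw [LMat, LMat, ← LinearMap.toMatrix'_comp, ← LinearMap.toMatrix'_id]
  congr 1
  exact LinearMap.ext (fun x => LAdd_comp i1 φ ψ hφψ x)

/-- every automorphism of `Utr` is induced by an element of `Mlv` -/
theorem Mlv_full (φ : ↥(Utr i1) ≃* ↥(Utr i1)) :
    ∃ m ∈ Mlv i1, ∀ u : ↥(Utr i1),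
      ((φ u : ↥(Utr i1)) : SpecialLinearGroup I (ZMod 2)) = m * u * m⁻¹ := by
  have hmul : LMat i1 φ.toMonoidHom * LMat i1 φ.symm.toMonoidHom = 1 :=
    LMat_mul i1 _ _ (fun u => φ.apply_symm_apply u)
  set m : SpecialLinearGroup I (ZMod 2) :=
    ⟨LMat i1 φ.toMonoidHom, det_eq_one_of_mul_eq_one hmul⟩ with hm
  have hmat : mat m = LMat i1 φ.toMonoidHom := rfl
  have hmv : ∀ x, mat m *ᵥ x = LAdd i1 φ.toMonoidHom x := by
    intro x; rw [hmat, LMat_mulVec]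
  have hmM : m ∈ Mlv i1 := by
    constructor
    · ext j
      have h1 : (E i1 ᵥ* mat m) ⬝ᵥ E j = E i1 ⬝ᵥ E j := by
        rw [← dotProduct_mulVec, hmv, E_dot, LAdd_apply_i1, E_dot]
      rwa [dot_E, dot_E] at h1
    · rw [hmv, LAdd_apply]
      have h0 : tU i1 (E i1) = 1 := by
        apply Subtype.ext
        apply sl_ext
        rw [mat_tU, Subgroup.coe_one, mat_one]
        have : pr i1 (E i1) = 0 := by
          rw [pr, E_apply_self, one_smul, add_self_vec]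
        rw [this, TT_zero_left]
      rw [h0, map_one, Subgroup.coe_one, vecOf_one, E_apply_self, one_smul, zero_add]
  refine ⟨m, hmM, fun u => ?_⟩
  obtain ⟨ha', h1⟩ := conj_Utr i1 (Mlv_le_Pst i1 hmM) (vecOf i1 (u : SpecialLinearGroup I (ZMod 2)))
    (vecOf_dot i1 u.2)
  have h2 : (u : SpecialLinearGroup I (ZMod 2))
      = tv (vecOf i1 (u : SpecialLinearGroup I (ZMod 2))) (E i1) (vecOf_dot i1 u.2) :=
    eq_tv_vecOf i1 u.2
  have h3 : m * (u : SpecialLinearGroup I (ZMod 2)) * m⁻¹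
      = tv (mat m *ᵥ vecOf i1 (u : SpecialLinearGroup I (ZMod 2))) (E i1) ha' := by
    conv_lhs => rw [h2]
    exact h1
  rw [h3]
  have h4 : mat m *ᵥ vecOf i1 (u : SpecialLinearGroup I (ZMod 2))
      = vecOf i1 ((φ u : ↥(Utr i1)) : SpecialLinearGroup I (ZMod 2)) := by
    rw [hmv, LAdd_apply, tU_vecOf]
    have := vecOf_dot i1 u.2
    rw [E_dot] at this
    rw [this, zero_smul, add_zero]
    rfl
  conv_lhs => rw [eq_tv_vecOf i1 (φ u).2]
  apply sl_ext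
  rw [mat_tv, mat_tv, h4]

end Cfsg.Agent.Lib.Helper16.SLT

namespace Cfsg.Agent.Lib.Helper16.SLT

open Matrix

variable {I : Type*} [Fintype I] [DecidableEq I] (i1 : I)

theorem tU_smul_E (c : ZMod 2) : tU i1 (c • E i1) = 1 := by
  apply Subtype.ext
  apply sl_ext
  rw [mat_tU, Subgroup.coe_one, mat_one]
  have : pr i1 (c • E i1) = 0 := by
    rw [pr, Pi.smul_apply, E_apply_self, smul_eq_mul, mul_one, add_self_vec]
  rw [this, TT_zero_left]

/-- vectors are pairs (coordinate, element of `Utr`) -/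
def vecEquiv : (I → ZMod 2) ≃ ZMod 2 × ↥(Utr i1) where
  toFun x := (x i1, tU i1 x)
  invFun p := vecOf i1 (p.2 : SpecialLinearGroup I (ZMod 2)) + p.1 • E i1
  left_inv x := by
    change vecOf i1 ((tU i1 x : ↥(Utr i1)) : SpecialLinearGroup I (ZMod 2)) + (x i1) • E i1 = x
    rw [vecOf_tU, pr, add_assoc, add_self_vec, add_zero]
  right_inv p := by
    obtain ⟨c, u⟩ := p
    have h1 : (vecOf i1 (u : SpecialLinearGroup I (ZMod 2)) + c • E i1) i1 = c := by
      have := vecOf_dot i1 u.2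
      rw [E_dot] at this
      rw [Pi.add_apply, this, zero_add, Pi.smul_apply, E_apply_self, smul_eq_mul, mul_one]
    have h2 : tU i1 (vecOf i1 (u : SpecialLinearGroup I (ZMod 2)) + c • E i1) = u := by
      rw [tU_add, tU_vecOf, tU_smul_E, mul_one]
    exact Prod.ext h1 h2

theorem card_Utr : 2 * Nat.card ↥(Utr i1) = 2 ^ Fintype.card I := by
  have h1 := Nat.card_congr (vecEquiv i1)
  rw [Nat.card_prod, Nat.card_fun, Nat.card_zmod, Nat.card_eq_fintype_card] at h1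
  exact h1.symm

end Cfsg.Agent.Lib.Helper16.SLT
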