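import Mathlib
import Cfsg.Agent.Lib.Helper16.SLT3
import Cfsg.Agent.Lib.Helper16.AGLT
import Cfsg.Agent.Lib.Helper29.ElemEight

/-!
# The transvection centralizer in `SL(I, ZMod 2)`: the affine configuration and the odd-order
condition (helper16)
-/

set_option autoImplicit false
set_option linter.unusedSectionVars false
set_option linter.style.haveILetI false

namespace Cfsg.Agent.Lib.Helper16.SLT

open Matrix Cfsg.Agent.Lib.Helper16.AGL

variable {I : Type*} [Fintype I] [DecidableEq I]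

theorem mem_cent_iff' (z g : SpecialLinearGroup I (ZMod 2)) :
    g ∈ Subgroup.centralizer ({z} : Set (SpecialLinearGroup I (ZMod 2))) ↔ g * z = z * g :=
  Setup.mem_cent_iff g

/-- the affine configuration -/
theorem aSetup (i0 i1 i2 : I) (h01 : i0 ≠ i1) (h20 : i2 ≠ i0) (h21 : i2 ≠ i1) :
    ASetup (Pst i1) (Utr i1) (Mlv i1) (zt i0 i1 h01) where
  UP := Utr_le_Pst i1
  MP := Mlv_le_Pst i1
  normal := fun p hp u hu => conj_mem_Utr i1 hp hu
  comm := fun a ha b hb => Utr_comm i1 ha hb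
  sq := fun a ha => Utr_sq i1 ha
  inf := fun g hg hm => Utr_inf_Mlv i1 hg hm
  sup := fun g hg => Pst_decomp i1 hg
  faith := fun m hm hc => Mlv_faith i1 hm hc
  full := Mlv_full i1
  zU := zt_mem_Utr i0 i1 h01
  z1 := zt_ne_one i0 i1 h01
  big := by
    have ha : E i1 ⬝ᵥ E i2 = 0 := by rw [E_dot, E_apply_ne h21.symm]
    refine ⟨tv (E i2) (E i1) ha, tv_mem_Utr i1 _ ha, ?_, ?_⟩
    · intro h1
      have h2 := congrArg mat h1
      rw [mat_tv, mat_one, TT_eq_one_iff (E_apply_self i1)] at h2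
      have := congrFun h2 i2
      rw [E_apply_self] at this
      exact one_ne_zero this
    · intro h1
      have h2 := congrArg mat h1
      rw [zt, mat_tv, mat_tv] at h2
      have h3 := TT_inj_left (E_apply_self i1) h2
      have := congrFun h3 i2
      rw [E_apply_self, E_apply_ne h20] at this
      exact one_ne_zero this
  cent := fun g hg => cent_le_Pst i0 i1 h01 hg

theorem TT_eq_one_iff_right {a b : I → ZMod 2} {i : I} (ha : a i = 1) : TT a b = 1 ↔ b = 0 := by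
  constructor
  · intro h
    rw [← TT_zero_right a] at h
    exact TT_inj_right ha h
  · rintro rfl
    exact TT_zero_right a

/-- a nonzero vector perpendicular to `x`, supported on two given indices -/
theorem exists_perp (x : I → ZMod 2) (p q : I) (hpq : p ≠ q) :
    ∃ ψ : I → ZMod 2, ψ ⬝ᵥ x = 0 ∧ (∀ r, r ≠ p → r ≠ q → ψ r = 0) ∧ ∃ j, ψ j = 1 := by
  by_cases hp : x p = 0
  · exact ⟨E p, by rw [E_dot, hp], fun r hrp _ => E_apply_ne hrp, p, E_apply_self p⟩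
  · by_cases hq : x q = 0
    · exact ⟨E q, by rw [E_dot, hq], fun r _ hrq => E_apply_ne hrq, q, E_apply_self q⟩
    · have key : ∀ t : ZMod 2, t ≠ 0 → t = 1 := by decide
      refine ⟨E p + E q, ?_, ?_, p, ?_⟩
      · rw [add_dotProduct, E_dot, E_dot, key _ hp, key _ hq]
        decide
      · intro r hrp hrq
        rw [Pi.add_apply, E_apply_ne hrp, E_apply_ne hrq, add_zero]
      · rw [Pi.add_apply, E_apply_self, E_apply_ne hpq, add_zero]

section odd

variable (i0 i1 i2 : I) (h01 : i0 ≠ i1) (h20 : i2 ≠ i0) (h21 : i2 ≠ i1)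

/-- transvections with centre `E i0` lie in `Q1` -/
theorem tv_mem_Q1 (ψ : I → ZMod 2) (hψ : ψ i0 = 0) :
    tv (E i0) ψ (by rw [dot_E]; exact hψ) ∈ (aSetup i0 i1 i2 h01 h20 h21).Q1 := by
  have hψ' : ψ ⬝ᵥ E i0 = 0 := by rw [dot_E]; exact hψ
  have h10 : E i1 ⬝ᵥ E i0 = 0 := by rw [E_dot, E_apply_ne h01.symm]
  rw [ASetup.mem_Q1]
  refine ⟨?_, ?_, ?_⟩
  · rw [mem_Pst, mat_tv, vecMul_TT, h10, zero_smul, add_zero]
  · apply sl_ext
    rw [mat_mul, mat_mul, zt, mat_tv, mat_tv, TT_mul_same_col _ _ _ hψ',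
      TT_mul_same_col _ _ _ h10, add_comm]
  · intro u hu
    obtain ⟨w, hw, rfl⟩ := (mem_Utr' i1 u).mp hu
    have hP : tv (E i0) ψ hψ' ∈ Pst i1 := by
      rw [mem_Pst, mat_tv, vecMul_TT, h10, zero_smul, add_zero]
    obtain ⟨hw', h1⟩ := conj_Utr i1 hP w hw
    rw [h1, tv_inv]
    have h2 : mat (tv (E i0) ψ hψ') *ᵥ w = w + (ψ ⬝ᵥ w) • E i0 := by
      rw [mat_tv, TT_mulVec]
    have key : ∀ c : ZMod 2, c = 0 ∨ c = 1 := by decide
    rcases key (ψ ⬝ᵥ w) with hc | hc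
    · left
      have : tv (mat (tv (E i0) ψ hψ') *ᵥ w) (E i1) hw' = tv w (E i1) hw := by
        apply sl_ext
        change TT (mat (tv (E i0) ψ hψ') *ᵥ w) (E i1) = TT w (E i1)
        rw [h2, hc, zero_smul, add_zero]
      rw [this, tv_mul_self]
    · right
      apply sl_ext
      change TT (mat (tv (E i0) ψ hψ') *ᵥ w) (E i1) * TT w (E i1) = TT (E i0) (E i1)
      rw [h2, hc, one_smul, TT_mul_same_row _ _ _ hw, add_comm w, add_assoc, add_self_vec,
        add_zero]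

variable (K : Subgroup (SpecialLinearGroup I (ZMod 2))) (hK : Odd (Nat.card K))
  (hQK : (aSetup i0 i1 i2 h01 h20 h21).Q1 ≤ Subgroup.normalizer (K : Set (SpecialLinearGroup I (ZMod 2))))

include hK hQK

/-- `C_K(z) = 1` -/
theorem odd_cent {x : SpecialLinearGroup I (ZMod 2)} (hx : x ∈ K)
    (hxz : x * zt i0 i1 h01 = zt i0 i1 h01 * x) : x = 1 := by
  set a := aSetup i0 i1 i2 h01 h20 h21 with ha
  -- `x` centralizes `Q1`
  have hcent : x ∈ Subgroup.centralizer (a.Q1 : Set (SpecialLinearGroup I (ZMod 2))) := by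
    rw [Subgroup.mem_centralizer_iff]
    intro q hq
    have hqn := hQK hq
    have h1 : q * x * q⁻¹ ∈ K := (Subgroup.mem_normalizer_iff.mp hqn x).mp hx
    have hcK : q * x * q⁻¹ * x⁻¹ ∈ K := K.mul_mem h1 (K.inv_mem hx)
    have hcQ : q * x * q⁻¹ * x⁻¹ ∈ a.Q1 := by
      have e : q * x * q⁻¹ * x⁻¹ = q * (x * q⁻¹ * x⁻¹) := by group
      rw [e]
      exact a.Q1.mul_mem hq (a.conj_mem_Q1 hxz (a.Q1.inv_mem hq))
    -- an element of odd order in a 2-group
    have hp : IsPGroup 2 ↥a.Q1 :=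
      Cfsg.Agent.Lib.Helper20.ES.ESData.isPGroup
        (Classical.choose_spec (Cfsg.Agent.Lib.Helper20.ES.exists_esData
          (p := 2) (hp := ⟨Nat.prime_two⟩) a.isExtraspecial_Q1))
    obtain ⟨k, hk⟩ := hp ⟨_, hcQ⟩
    have hk' : (q * x * q⁻¹ * x⁻¹) ^ 2 ^ k = 1 := by
      have := congrArg Subtype.val hk
      simpa using this
    have h2 : orderOf (q * x * q⁻¹ * x⁻¹) ∣ 2 ^ k := orderOf_dvd_of_pow_eq_one hk'
    have h3 : orderOf (q * x * q⁻¹ * x⁻¹) ∣ Nat.card K := by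
      have := orderOf_dvd_natCard (⟨_, hcK⟩ : K)
      rwa [Subgroup.orderOf_mk] at this
    have h4 : orderOf (q * x * q⁻¹ * x⁻¹) ∣ Nat.gcd (2 ^ k) (Nat.card K) := Nat.dvd_gcd h2 h3
    have h5 : Nat.gcd (2 ^ k) (Nat.card K) = 1 :=
      Nat.Coprime.pow_left k hK.coprime_two_left
    rw [h5, Nat.dvd_one, orderOf_eq_one_iff] at h4
    have e : q * x = (q * x * q⁻¹ * x⁻¹) * (x * q) := by group
    rw [e, h4, one_mul]
  rw [a.large_Q1.1] at hcent
  obtain ⟨w, hw, rfl⟩ := hcent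
  have h6 := a.center_Q1 hw
  apply eq_one_of_sq_of_odd K hK hx
  rcases h6 with h6 | h6
  · change (w : SpecialLinearGroup I (ZMod 2)) * w = 1
    rw [h6, mul_one]
  · change (w : SpecialLinearGroup I (ZMod 2)) * w = 1
    rw [h6]
    exact a.sq _ a.zU

/-- `z` inverts `K` -/
theorem odd_inv {k : SpecialLinearGroup I (ZMod 2)} (hk : k ∈ K) :
    zt i0 i1 h01 * k * (zt i0 i1 h01)⁻¹ = k⁻¹ := by
  set a := aSetup i0 i1 i2 h01 h20 h21 with ha
  have hzz : zt i0 i1 h01 * zt i0 i1 h01 = 1 := a.sq _ a.zU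
  have hzi : (zt i0 i1 h01)⁻¹ = zt i0 i1 h01 := inv_eq_of_mul_eq_one_left hzz
  have hzn := hQK a.z_mem_Q1
  have := Cfsg.Agent.Lib.Helper29.ElemEight.inv_of_fpf K (MulAut.conj (zt i0 i1 h01))
    (fun u hu => by
      rw [MulAut.conj_apply]
      exact (Subgroup.mem_normalizer_iff.mp hzn u).mp hu)
    (fun u => by
      rw [MulAut.conj_apply, MulAut.conj_apply, hzi]
      calc zt i0 i1 h01 * (zt i0 i1 h01 * u * zt i0 i1 h01) * zt i0 i1 h01
          = (zt i0 i1 h01 * zt i0 i1 h01) * u * (zt i0 i1 h01 * zt i0 i1 h01) := by group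
        _ = u := by rw [hzz, one_mul, mul_one])
    (fun u hu hfix => by
      rw [MulAut.conj_apply] at hfix
      apply odd_cent i0 i1 i2 h01 h20 h21 K hK hQK hu
      have e : zt i0 i1 h01 * u = zt i0 i1 h01 * u * (zt i0 i1 h01)⁻¹ * zt i0 i1 h01 := by group
      rw [e, hfix]) k hk
  rwa [MulAut.conj_apply] at this

/-- `k z` is a conjugate of `z` -/
theorem odd_conj {k : SpecialLinearGroup I (ZMod 2)} (hk : k ∈ K) :
    ∃ h : SpecialLinearGroup I (ZMod 2), k * zt i0 i1 h01 = h * zt i0 i1 h01 * h⁻¹ := by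
  obtain ⟨t, ht⟩ := hK
  have hpow : k ^ Nat.card K = 1 := by
    calc k ^ Nat.card K = (((⟨k, hk⟩ : K) ^ Nat.card K : K) : SpecialLinearGroup I (ZMod 2)) := by
          rw [Subgroup.coe_pow]
      _ = 1 := by rw [pow_card_eq_one']; rfl
  have hh : k ^ (t + 1) * k ^ (t + 1) = k := by
    rw [← pow_add]
    have : t + 1 + (t + 1) = Nat.card K + 1 := by omega
    rw [this, pow_succ, hpow, one_mul]
  refine ⟨k ^ (t + 1), ?_⟩
  have hinv := odd_inv i0 i1 i2 h01 h20 h21 K ⟨t, ht⟩ hQK (K.inv_mem (K.pow_mem hk (t + 1)))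
  rw [inv_inv] at hinv
  -- z h⁻¹ z⁻¹ = h
  have e : k ^ (t + 1) * zt i0 i1 h01 * (k ^ (t + 1))⁻¹
      = k ^ (t + 1) * (zt i0 i1 h01 * (k ^ (t + 1))⁻¹ * (zt i0 i1 h01)⁻¹) * zt i0 i1 h01 := by
    group
  rw [e, hinv, hh]

/-- the odd-order condition -/
theorem odd_trivial : K = ⊥ := by
  set a := aSetup i0 i1 i2 h01 h20 h21 with ha
  have hzz : zt i0 i1 h01 * zt i0 i1 h01 = 1 := a.sq _ a.zU
  rw [Subgroup.eq_bot_iff_forall]
  intro k hk
  by_contra hk1
  obtain ⟨h, hh⟩ := odd_conj i0 i1 i2 h01 h20 h21 K hK hQK hk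
  have hkt : ∃ t', t' = k * zt i0 i1 h01 := ⟨_, rfl⟩
  obtain ⟨t', ht'⟩ := hkt
  rw [← ht'] at hh
  have h10 : E i1 ⬝ᵥ E i0 = 0 := by rw [E_dot, E_apply_ne h01.symm]
  -- `k z = 1 + v φᵀ`
  set v := mat h *ᵥ E i0 with hv
  set φ := E i1 ᵥ* mat h⁻¹ with hφ
  have hφv : φ ⬝ᵥ v = 0 := by rw [hφ, hv, dot_conj]; exact h10
  have hkz : mat t' = TT v φ := by
    rw [hh, zt, conj_tv, mat_tv]
  -- `k z ≠ 1`
  have hne : TT v φ ≠ 1 := by
    intro h1
    rw [← hkz, ← mat_one] at h1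
    have h2 : k * zt i0 i1 h01 = 1 := by rw [← ht']; exact sl_ext h1
    have h3 : k = zt i0 i1 h01 := by
      have : k = k * zt i0 i1 h01 * zt i0 i1 h01 := by rw [mul_assoc, hzz, mul_one]
      rw [this, h2, one_mul]
    apply hk1
    apply odd_cent i0 i1 i2 h01 h20 h21 K hK hQK hk
    rw [h3]
  -- conjugating `k` by an element of `Q1` stays in `K`
  have hconj : ∀ q ∈ a.Q1, q * k * q⁻¹ ∈ K := fun q hq =>
    (Subgroup.mem_normalizer_iff.mp (hQK hq) k).mp hk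
  -- the product `(k z) (q k z q⁻¹)` lies in `K` for `q ∈ Q1` with `q q = 1`
  have hprod : ∀ q ∈ a.Q1, q * q = 1 → t' * (q * t' * q⁻¹) ∈ K := by
    intro q hq hqq
    rw [ht']
    have hqz : q * zt i0 i1 h01 = zt i0 i1 h01 * q := ((a.mem_Q1 q).mp hq).2.1
    have hinv := odd_inv i0 i1 i2 h01 h20 h21 K hK hQK (hconj q hq)
    have hzi : (zt i0 i1 h01)⁻¹ = zt i0 i1 h01 := inv_eq_of_mul_eq_one_left hzz
    -- z (q k q⁻¹) = (q k q⁻¹)⁻¹ z
    have e1 : zt i0 i1 h01 * (q * k * q⁻¹) = (q * k * q⁻¹)⁻¹ * zt i0 i1 h01 := by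
      have : zt i0 i1 h01 * (q * k * q⁻¹)
          = zt i0 i1 h01 * (q * k * q⁻¹) * (zt i0 i1 h01)⁻¹ * zt i0 i1 h01 := by group
      rw [this, hinv]
    have e2 : k * zt i0 i1 h01 * (q * (k * zt i0 i1 h01) * q⁻¹)
        = k * (zt i0 i1 h01 * (q * k * q⁻¹)) * (q * zt i0 i1 h01 * q⁻¹) := by group
    have e3 : q * zt i0 i1 h01 * q⁻¹ = zt i0 i1 h01 := by
      rw [hqz, mul_assoc, mul_inv_cancel, mul_one]
    rw [e2, e1, e3]
    have e4 : k * ((q * k * q⁻¹)⁻¹ * zt i0 i1 h01) * zt i0 i1 h01 = k * (q * k * q⁻¹)⁻¹ := by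
      rw [mul_assoc, mul_assoc, hzz, mul_one]
    rw [e4]
    exact K.mul_mem hk (K.inv_mem (hconj q hq))
  have key01 : ∀ c : ZMod 2, c = 0 ∨ c = 1 := by decide
  rcases key01 (φ ⬝ᵥ E i0) with hc | hc
  · rcases key01 (E i1 ⬝ᵥ v) with hd | hd
    · -- `z` commutes with `k z`, hence with `k`
      apply hk1
      apply odd_cent i0 i1 i2 h01 h20 h21 K hK hQK hk
      have h1 : mat (zt i0 i1 h01 * t') = mat (t' * zt i0 i1 h01) := by
        rw [mat_mul, mat_mul, hkz, zt, mat_tv, TT_mul, TT_mul, hc, hd, zero_smul, zero_smul,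
          add_zero, add_zero, add_assoc, add_assoc, add_comm (vecMulVec (E i0) (E i1))]
      have h2 := sl_ext h1
      rw [ht'] at h2
      have h3 : zt i0 i1 h01 * k = k * zt i0 i1 h01 := by
        have := congrArg (fun t => t * zt i0 i1 h01) h2
        simp only [mul_assoc, hzz, mul_one] at this
        exact this
      exact h3.symm
    · -- case `d = 1`
      obtain ⟨w, hw1, hw2, j, hwj⟩ := exists_perp φ i0 i2 h20.symm
      have hw1' : φ ⬝ᵥ w = 0 := by rw [dotProduct_comm]; exact hw1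
      have hwi1 : E i1 ⬝ᵥ w = 0 := by rw [E_dot]; exact hw2 i1 h01.symm h21.symm
      have hq : tv w (E i1) hwi1 ∈ a.Q1 := a.U_le_Q1 (tv_mem_Utr i1 w hwi1)
      have hy := hprod _ hq (tv_mul_self _ _ _)
      have hmat : mat (t' * (tv w (E i1) hwi1 * t' * (tv w (E i1) hwi1)⁻¹))
          = TT w φ := by
        rw [mat_mul, mat_mul, mat_mul, hkz, conj_TT, tv_inv, mat_tv, TT_mulVec, vecMul_TT, hd, hw1',
          one_smul, zero_smul, add_zero]
        rw [TT_mul_same_row _ _ _ (by rw [dotProduct_add, hφv, hw1', add_zero]), ← add_assoc,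
          add_self_vec, zero_add]
      have hsq : (t' * (tv w (E i1) hwi1 * t' * (tv w (E i1) hwi1)⁻¹)) *
          (t' * (tv w (E i1) hwi1 * t' * (tv w (E i1) hwi1)⁻¹)) = 1 := by
        apply sl_ext
        rw [mat_mul, hmat, TT_sq hw1', mat_one]
      have h1 := eq_one_of_sq_of_odd K hK hy hsq
      have h2 := congrArg mat h1
      rw [hmat, mat_one, TT_eq_one_iff_right hwj] at h2
      apply hne
      rw [h2, TT_zero_right]
  · -- case `c = 1`
    obtain ⟨ψ, hψ1, hψ2, j, hψj⟩ := exists_perp v i1 i2 h21.symm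
    have hψ0 : ψ i0 = 0 := hψ2 i0 h01 h20.symm
    have hψ0' : ψ ⬝ᵥ E i0 = 0 := by rw [dot_E]; exact hψ0
    have hq := tv_mem_Q1 i0 i1 i2 h01 h20 h21 ψ hψ0
    have hy := hprod _ hq (tv_mul_self _ _ _)
    have hmat : mat (t' * (tv (E i0) ψ hψ0' * t' * (tv (E i0) ψ hψ0')⁻¹))
        = TT v ψ := by
      rw [mat_mul, mat_mul, mat_mul, hkz, conj_TT, tv_inv, mat_tv, TT_mulVec, vecMul_TT, hψ1, hc,
        one_smul, zero_smul, add_zero]
      rw [TT_mul_same_col _ _ _ hφv, ← add_assoc, add_self_vec, zero_add]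
    have hsq : (t' * (tv (E i0) ψ hψ0' * t' * (tv (E i0) ψ hψ0')⁻¹)) *
        (t' * (tv (E i0) ψ hψ0' * t' * (tv (E i0) ψ hψ0')⁻¹)) = 1 := by
      apply sl_ext
      rw [mat_mul, hmat, TT_sq hψ1, mat_one]
    have h1 := eq_one_of_sq_of_odd K hK hy hsq
    have h2 := congrArg mat h1
    rw [hmat, mat_one, TT_eq_one_iff hψj] at h2
    apply hne
    rw [h2, TT_zero_left]

end odd

end Cfsg.Agent.Lib.Helper16.SLT
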