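import Mathlib
import Cfsg.Agent.Lib.Helper16.SLT4

/-!
# `SL_n(2) ≃* GL_n(2)` and the main theorem on transvection centralizers in `SL_{n+2}(2)` (helper16)
-/

set_option autoImplicit false
set_option linter.unusedSectionVars false
set_option linter.style.haveILetI false

namespace Cfsg.Agent.Lib.Helper16.SLT

open Matrix Cfsg.Agent.Lib.Helper16.AGL

/-- over the field with two elements the special and general linear groups coincide -/
noncomputable def slEquivGL (m : Type*) [Fintype m] [DecidableEq m] :
    SpecialLinearGroup m (ZMod 2) ≃* GeneralLinearGroup m (ZMod 2) :=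
  MulEquiv.ofBijective SpecialLinearGroup.toGL
    ⟨SpecialLinearGroup.toGL_injective, fun g => by
      have hdet : (g : Matrix m m (ZMod 2)).det = 1 := by
        have h1 : IsUnit (g : Matrix m m (ZMod 2)).det :=
          (Matrix.isUnit_iff_isUnit_det _).mp (Units.isUnit g)
        have key : ∀ x : ZMod 2, IsUnit x → x = 1 := by decide
        exact key _ h1
      refine ⟨⟨(g : Matrix m m (ZMod 2)), hdet⟩, ?_⟩
      apply Units.ext
      rfl⟩

end Cfsg.Agent.Lib.Helper16.SLT
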