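import Cfsg.Agent.Lib.Helper16.GLWreath
import Cfsg.Agent.Lib.Helper16.SylAb5

set_option autoImplicit false

namespace Cfsg.Agent.Lib.Helper16.SylAb

open Matrix

section basics

variable {F : Type*} [Field F] {ι κ : Type*} [Fintype ι] [DecidableEq ι] [Fintype κ] [DecidableEq κ]
  {m : ℕ}

/-- reindexing `SL` -/
def slReindex (F : Type*) [Field F] (e : ι ≃ κ) :
    SpecialLinearGroup ι F ≃* SpecialLinearGroup κ F where
  toFun A := ⟨Matrix.reindex e e A.1, by rw [Matrix.det_reindex_self]; exact A.2⟩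
  invFun A := ⟨Matrix.reindex e.symm e.symm A.1, by rw [Matrix.det_reindex_self]; exact A.2⟩
  left_inv A := by
    apply Subtype.ext
    simp
  right_inv A := by
    apply Subtype.ext
    simp
  map_mul' A B := by
    apply Subtype.ext
    show Matrix.reindex e e (A.1 * B.1) = Matrix.reindex e e A.1 * Matrix.reindex e e B.1
    rw [Matrix.reindex_apply, Matrix.reindex_apply, Matrix.reindex_apply,
      Matrix.submatrix_mul_equiv]

theorem range_toGL :
    (SpecialLinearGroup.toGL : SpecialLinearGroup ι F →* GL ι F).range =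
      (GeneralLinearGroup.det : GL ι F →* Fˣ).ker := by
  ext A
  rw [MonoidHom.mem_ker]
  constructor
  · rintro ⟨B, rfl⟩
    exact SpecialLinearGroup.coeToGL_det B
  · intro h
    refine ⟨⟨A.val, ?_⟩, ?_⟩
    · have := congrArg Units.val h
      exact this
    · apply Units.ext
      rfl

theorem det_bdHom (g : Fin m → GL ι F) :
    GeneralLinearGroup.det (bdHom F ι m g) = ∏ k, GeneralLinearGroup.det (g k) := by
  apply Units.ext
  rw [GeneralLinearGroup.val_det_apply, bdHom_val, Matrix.det_blockDiagonal, Units.coe_prod]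
  rfl

omit [Fintype ι] in
theorem pp_eq_permMatrix (σ : Equiv.Perm (Fin m)) :
    pp F ι σ = Equiv.Perm.permMatrix F
      (Equiv.prodCongrRight (fun _ : ι => σ⁻¹) : Equiv.Perm (ι × Fin m)) := by
  ext x y
  rw [pp_apply, Equiv.Perm.permMatrix, PEquiv.toMatrix_apply, Equiv.toPEquiv_apply]
  congr 1
  rw [eq_iff_iff, Option.mem_some_iff]
  constructor
  · rintro ⟨h1, h2⟩
    apply Prod.ext
    · exact h1
    · show σ⁻¹ x.2 = y.2
      rw [h2, Equiv.Perm.inv_def, Equiv.symm_apply_apply]
  · intro h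
    have h' : (x.1, σ⁻¹ x.2) = y := h
    have h1 : x.1 = y.1 := by rw [← h']
    have h2 : σ⁻¹ x.2 = y.2 := by rw [← h']
    refine ⟨h1, ?_⟩
    rw [← h2, Equiv.Perm.inv_def, Equiv.apply_symm_apply]

theorem det_pp (σ : Equiv.Perm (Fin m)) :
    (pp F ι σ).det = (((Equiv.Perm.sign σ : ℤˣ) : ℤ) : F) ^ Fintype.card ι := by
  rw [pp_eq_permMatrix, Matrix.det_permutation, Equiv.Perm.sign_prodCongrRight,
    Finset.prod_const, Finset.card_univ, Equiv.Perm.sign_inv]
  push_cast
  rfl

end basics

end Cfsg.Agent.Lib.Helper16.SylAb
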