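import Cfsg.Agent.Lib.Helper16.GLWreath
import Cfsg.Agent.Lib.Helper16.SylAb5
import Cfsg.Agent.Lib.Helper16.SLWreathA

set_option autoImplicit false

namespace Cfsg.Agent.Lib.Helper16.SylAb

open Matrix

section doubling

variable {F : Type*} [Field F] {ι : Type*} [Fintype ι] [DecidableEq ι]

/-- `(a, b) ↦ ![a, b]` -/
def vec2 (M : Type*) [Group M] : M × M →* (Fin 2 → M) :=
  MonoidHom.mk' (fun p k => if k = 0 then p.1 else p.2) (by
    intro p q
    funext k
    by_cases hk : k = 0
    · simp [hk]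
    · simp [hk])

theorem vec2_zero {M : Type*} [Group M] (p : M × M) : vec2 M p 0 = p.1 := rfl

theorem vec2_one {M : Type*} [Group M] (p : M × M) : vec2 M p 1 = p.2 := rfl

/-- the block diagonal embedding of `GL × GL` -/
def jj (F : Type*) [Field F] (ι : Type*) [Fintype ι] [DecidableEq ι] :
    GL ι F × GL ι F →* GL (ι × Fin 2) F :=
  (bdHom F ι 2).comp (vec2 (GL ι F))

theorem jj_injective : Function.Injective (jj F ι) := by
  intro p q h
  have h1 := bdHom_injective h
  apply Prod.ext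
  · exact congrFun h1 0
  · exact congrFun h1 1

theorem det_jj (p : GL ι F × GL ι F) :
    GeneralLinearGroup.det (jj F ι p) = GeneralLinearGroup.det p.1 * GeneralLinearGroup.det p.2 := by
  show GeneralLinearGroup.det (bdHom F ι 2 (vec2 _ p)) = _
  rw [det_bdHom, Fin.prod_univ_two, vec2_zero, vec2_one]

/-- the block swap -/
def swp (F : Type*) [Field F] (ι : Type*) [Fintype ι] [DecidableEq ι] : GL (ι × Fin 2) F :=
  ppHom F ι 2 (Equiv.swap 0 1)

theorem swp_mul_self : swp F ι * swp F ι = 1 := by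
  unfold swp
  rw [← map_mul, Equiv.swap_mul_self, map_one]

theorem swp_conj (p : GL ι F × GL ι F) :
    swp F ι * jj F ι p * (swp F ι)⁻¹ = jj F ι (p.2, p.1) := by
  unfold swp
  show ppHom F ι 2 (Equiv.swap 0 1) * bdHom F ι 2 (vec2 _ p) * _ = bdHom F ι 2 (vec2 _ (p.2, p.1))
  rw [ppHom_mul_bdHom]
  congr 1
  funext k
  rw [Equiv.swap_inv]
  fin_cases k
  · show vec2 _ p (Equiv.swap 0 1 0) = _
    rw [Equiv.swap_apply_left]; rfl
  · show vec2 _ p (Equiv.swap 0 1 1) = _
    rw [Equiv.swap_apply_right]; rfl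

theorem det_swp (hι : Even (Fintype.card ι)) : GeneralLinearGroup.det (swp F ι) = 1 := by
  apply Units.ext
  rw [GeneralLinearGroup.val_det_apply]
  show (pp F ι (Equiv.swap 0 1)).det = 1
  rw [det_pp, Equiv.Perm.sign_swap (by decide)]
  simp [hι.neg_one_pow]

theorem swp_ne_jj [Nonempty ι] (p : GL ι F × GL ι F) : swp F ι ≠ jj F ι p := by
  intro h
  have h1 := congrArg Units.val h
  have h2 : pp F ι (Equiv.swap (0 : Fin 2) 1) = blockDiagonal _ := h1
  have h3 := pp_eq_blockDiagonal _ _ h2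
  have h4 := congrArg (fun σ : Equiv.Perm (Fin 2) => σ 0) h3
  simp at h4

theorem E2_SL_double [Fintype F] [Nonempty ι] (hι : Even (Fintype.card ι))
    (hv : (Nat.card (GL (ι × Fin 2) F)).factorization 2 =
      2 * (Nat.card (GL ι F)).factorization 2 + 1)
    (h : E2 (SpecialLinearGroup ι F)) : E2 (SpecialLinearGroup (ι × Fin 2) F) := by
  classical
  obtain ⟨U₀, hU₀⟩ := exists_sylow_inf_range_of_E2
    (SpecialLinearGroup.toGL : SpecialLinearGroup ι F →* GL ι F)
    SpecialLinearGroup.toGL_injective h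
  rw [range_toGL] at hU₀
  set s := swp F ι with hs
  set N : Subgroup (GL (ι × Fin 2) F) := ((U₀ : Subgroup (GL ι F)).prod U₀).map (jj F ι) with hN
  set K : Subgroup (GL (ι × Fin 2) F) := Subgroup.zpowers s with hK
  have sinv : s⁻¹ = s := inv_eq_of_mul_eq_one_right swp_mul_self
  have hKmem : ∀ k ∈ K, k = 1 ∨ k = s := by
    rintro k ⟨i, rfl⟩
    rcases Int.even_or_odd i with ⟨c, rfl⟩ | ⟨c, rfl⟩
    · left
      show s ^ (c + c) = 1
      rw [← two_mul, _root_.zpow_mul, zpow_ofNat, pow_two, swp_mul_self, _root_.one_zpow]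
    · right
      show s ^ (2 * c + 1) = s
      rw [_root_.zpow_add, _root_.zpow_mul, zpow_ofNat, pow_two, swp_mul_self, _root_.one_zpow,
        one_mul, zpow_one]
  have hsN : s ∈ Subgroup.normalizer (N : Set (GL (ι × Fin 2) F)) := by
    apply mem_normalizer_of_conj
    · rintro _ ⟨p, hp, rfl⟩
      rw [swp_conj]
      exact ⟨(p.2, p.1), ⟨hp.2, hp.1⟩, rfl⟩
    · rintro _ ⟨p, hp, rfl⟩
      have := swp_conj (F := F) p
      rw [sinv] at this
      nth_rewrite 1 [sinv]
      rw [this]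
      exact ⟨(p.2, p.1), ⟨hp.2, hp.1⟩, rfl⟩
  have hKN : K ≤ Subgroup.normalizer (N : Set (GL (ι × Fin 2) F)) := by
    rw [hK, Subgroup.zpowers_le]
    exact hsN
  have hdisj : N ⊓ K = ⊥ := by
    rw [eq_bot_iff]
    rintro x ⟨⟨p, _, hp⟩, hxK⟩
    rw [Subgroup.mem_bot]
    rcases hKmem x hxK with h1 | h1
    · exact h1
    · exfalso
      rw [h1] at hp
      exact swp_ne_jj p hp.symm
  have hcardK : Nat.card K = 2 := by
    rw [hK, Nat.card_zpowers]
    apply orderOf_eq_prime
    · rw [pow_two]; exact swp_mul_self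
    · intro h1
      have := swp_ne_jj (F := F) (ι := ι) 1
      rw [map_one] at this
      exact this h1
  have hcardN : Nat.card N = Nat.card (U₀ : Subgroup (GL ι F)) ^ 2 := by
    rw [hN, Subgroup.card_map_of_injective jj_injective,
      Nat.card_congr (Subgroup.prodEquiv _ _).toEquiv, Nat.card_prod, pow_two]
  have hcardW : Nat.card ↥(K ⊔ N) = 2 ^ (Nat.card (GL (ι × Fin 2) F)).factorization 2 := by
    rw [card_sup_of_normalizer N K hKN hdisj, hcardK, hcardN, hv, Sylow.card_eq_multiplicity]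
    ring
  have hsq : SqS ((K ⊔ N) ⊓ (GeneralLinearGroup.det : GL (ι × Fin 2) F →* Fˣ).ker) := by
    apply sqS_wreath (GeneralLinearGroup.det : GL (ι × Fin 2) F →* Fˣ)
      (GeneralLinearGroup.det : GL ι F →* Fˣ)
      ((jj F ι).comp (MonoidHom.inl _ _)) ((jj F ι).comp (MonoidHom.inr _ _)) s
      _ swp_mul_self _ _ (det_swp hι) (U₀ : Subgroup (GL ι F)) hU₀ (K ⊔ N)
    · intro w hw
      rw [← SetLike.mem_coe, Subgroup.coe_mul_of_left_le_normalizer_right K N hKN,
        Set.mem_mul] at hw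
      obtain ⟨k, hk, n, ⟨p, hp, rfl⟩, rfl⟩ := hw
      refine ⟨p.1, hp.1, p.2, hp.2, ?_⟩
      have e : (jj F ι).comp (MonoidHom.inl _ _) p.1 * (jj F ι).comp (MonoidHom.inr _ _) p.2 =
          jj F ι p := by
        show jj F ι (p.1, 1) * jj F ι (1, p.2) = jj F ι p
        rw [← map_mul]
        congr 1
        simp
      rw [e]
      rcases hKmem k hk with rfl | rfl
      · left; rw [one_mul]
      · right; rfl
    · intro a ha
      apply Subgroup.mem_sup_right
      exact ⟨(a, 1), ⟨ha, one_mem _⟩, rfl⟩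
    · apply Subgroup.mem_sup_left
      exact Subgroup.mem_zpowers s
    · intro a b
      show Commute (jj F ι (a, 1)) (jj F ι (1, b))
      rw [Commute, SemiconjBy, ← map_mul, ← map_mul]
      congr 1
      simp
    · intro a
      show s * jj F ι (a, 1) * s⁻¹ = jj F ι (1, a)
      rw [hs, swp_conj]
    · intro a
      show GeneralLinearGroup.det (jj F ι (a, 1)) = _
      rw [det_jj, map_one, mul_one]
  have hnorm : (SpecialLinearGroup.toGL :
      SpecialLinearGroup (ι × Fin 2) F →* GL (ι × Fin 2) F).range.Normal := by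
    rw [range_toGL]
    infer_instance
  apply E2_of_sylow_inf_range
    (SpecialLinearGroup.toGL : SpecialLinearGroup (ι × Fin 2) F →* GL (ι × Fin 2) F)
    SpecialLinearGroup.toGL_injective hnorm (Sylow.ofCard (K ⊔ N) hcardW)
  rw [range_toGL, Sylow.coe_ofCard]
  exact hsq

end doubling

end Cfsg.Agent.Lib.Helper16.SylAb
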