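import Cfsg.Agent.Lib.Helper16.SLWreathB

set_option autoImplicit false

namespace Cfsg.Agent.Lib.Helper16.SylAb

open Matrix

section caseA

variable {F : Type*} [Field F] {m : ℕ}

/-- the cast `ℤˣ → Fˣ` -/
def castU (F : Type*) [Field F] : ℤˣ →* Fˣ := Units.map (Int.castRingHom F : ℤ →* F)

theorem castU_injective (h2 : (2 : F) ≠ 0) : Function.Injective (castU F) := by
  rw [injective_iff_map_eq_one]
  intro ε hε
  rcases Int.units_eq_one_or ε with rfl | rfl
  · rfl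
  · exfalso
    have h1 := congrArg Units.val hε
    simp [castU] at h1
    apply h2
    have : (2 : F) = 1 - (-1) := by ring
    rw [this, h1]; ring

/-- `ε ↦ diag(ε, 1)` -/
def dg (F : Type*) [Field F] : ℤˣ →* GL (Fin 2) F :=
  (Units.map (Cfsg.Agent.Lib.Helper13.diagOne (F := F))).comp (castU F)

theorem det_dg (ε : ℤˣ) : GeneralLinearGroup.det (dg F ε) = castU F ε := by
  apply Units.ext
  rw [GeneralLinearGroup.val_det_apply]
  show (!![((castU F ε : Fˣ) : F), 0; 0, 1] : Matrix (Fin 2) (Fin 2) F).det = _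
  rw [Matrix.det_fin_two_of]
  ring

/-- the product homomorphism -/
def prodHom (m : ℕ) : (Fin m → ℤˣ) →* ℤˣ :=
  MonoidHom.mk' (fun ε => ∏ k, ε k) (by
    intro a b
    simp [Finset.prod_mul_distrib])

theorem prodHom_apply (ε : Fin m → ℤˣ) : prodHom m ε = ∏ k, ε k := rfl

theorem card_ker_prodHom (hm : 1 ≤ m) : Nat.card (prodHom m).ker * 2 = 2 ^ m := by
  have hsurj : Function.Surjective (prodHom m) := by
    intro ε
    refine ⟨Pi.mulSingle (⟨0, hm⟩ : Fin m) ε, ?_⟩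
    rw [prodHom_apply, Finset.prod_eq_single (⟨0, hm⟩ : Fin m)]
    · rw [Pi.mulSingle_eq_same]
    · intro k _ hk
      rw [Pi.mulSingle_eq_of_ne hk]
    · intro h
      exact absurd (Finset.mem_univ _) h
  have h1 := Subgroup.card_mul_index (prodHom m).ker
  rw [Subgroup.index_ker, MonoidHom.range_eq_top.mpr hsurj, Subgroup.card_top] at h1
  rw [Nat.card_fun, Nat.card_fin] at h1
  have h2 : Nat.card ℤˣ = 2 := by
    rw [Nat.card_eq_fintype_card]; rfl
  rw [h2] at h1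
  exact h1

/-- `SL₂^m → GL₂^m` -/
def slPi (F : Type*) [Field F] (m : ℕ) :
    (Fin m → SpecialLinearGroup (Fin 2) F) →* (Fin m → GL (Fin 2) F) :=
  (SpecialLinearGroup.toGL).compLeft (Fin m)

theorem slPi_apply (g : Fin m → SpecialLinearGroup (Fin 2) F) (k : Fin m) :
    slPi F m g k = SpecialLinearGroup.toGL (g k) := rfl

theorem slPi_injective : Function.Injective (slPi F m) := by
  intro g h hgh
  funext k
  exact SpecialLinearGroup.toGL_injective (congrFun hgh k)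

/-- the sign part -/
def sgPi (F : Type*) [Field F] (m : ℕ) : (prodHom m).ker →* (Fin m → GL (Fin 2) F) :=
  ((dg F).compLeft (Fin m)).comp (prodHom m).ker.subtype

theorem sgPi_apply (ε : (prodHom m).ker) (k : Fin m) :
    sgPi F m ε k = dg F ((ε : Fin m → ℤˣ) k) := rfl

theorem dg_injective (h2 : (2 : F) ≠ 0) : Function.Injective (dg F) := by
  intro a b h
  have h1 := congrArg GeneralLinearGroup.det h
  rw [det_dg, det_dg] at h1
  exact castU_injective h2 h1

theorem sgPi_injective (h2 : (2 : F) ≠ 0) : Function.Injective (sgPi F m) := by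
  intro a b h
  apply Subtype.ext
  funext k
  have := congrFun h k
  rw [sgPi_apply, sgPi_apply] at this
  exact dg_injective h2 this

theorem conj_slPi (d : Fin m → GL (Fin 2) F) (g : Fin m → SpecialLinearGroup (Fin 2) F) :
    ∃ g' : Fin m → SpecialLinearGroup (Fin 2) F, d * slPi F m g * d⁻¹ = slPi F m g' := by
  have hnorm : (SpecialLinearGroup.toGL :
      SpecialLinearGroup (Fin 2) F →* GL (Fin 2) F).range.Normal := by
    rw [range_toGL]
    infer_instance
  choose g' hg' using fun k => hnorm.conj_mem (SpecialLinearGroup.toGL (g k)) ⟨g k, rfl⟩ (d k)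
  refine ⟨g', ?_⟩
  funext k
  rw [slPi_apply, hg' k]
  rfl

/-- the three subgroups -/
def N1 (F : Type*) [Field F] (m : ℕ) : Subgroup (GL (Fin 2 × Fin m) F) :=
  ((bdHom F (Fin 2) m).comp (slPi F m)).range

/-- the sign subgroup -/
def D1 (F : Type*) [Field F] (m : ℕ) : Subgroup (GL (Fin 2 × Fin m) F) :=
  ((bdHom F (Fin 2) m).comp (sgPi F m)).range

/-- the permutation subgroup -/
def S1 (F : Type*) [Field F] (m : ℕ) : Subgroup (GL (Fin 2 × Fin m) F) :=
  (ppHom F (Fin 2) m).range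

theorem bd_mem_normalizer_N1 (d : Fin m → GL (Fin 2) F) :
    bdHom F (Fin 2) m d ∈ Subgroup.normalizer (N1 F m : Set (GL (Fin 2 × Fin m) F)) := by
  apply mem_normalizer_of_conj
  · rintro _ ⟨g, rfl⟩
    obtain ⟨g', hg'⟩ := conj_slPi d g
    refine ⟨g', ?_⟩
    show bdHom F (Fin 2) m (slPi F m g') = bdHom F (Fin 2) m d *
      bdHom F (Fin 2) m (slPi F m g) * (bdHom F (Fin 2) m d)⁻¹
    rw [← hg', map_mul, map_mul, map_inv]
  · rintro _ ⟨g, rfl⟩
    obtain ⟨g', hg'⟩ := conj_slPi d⁻¹ g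
    refine ⟨g', ?_⟩
    show bdHom F (Fin 2) m (slPi F m g') = (bdHom F (Fin 2) m d)⁻¹ *
      bdHom F (Fin 2) m (slPi F m g) * bdHom F (Fin 2) m d
    rw [← hg', map_mul, map_mul, map_inv, inv_inv]

theorem D1_le_normalizer_N1 :
    D1 F m ≤ Subgroup.normalizer (N1 F m : Set (GL (Fin 2 × Fin m) F)) := by
  rintro _ ⟨ε, rfl⟩
  exact bd_mem_normalizer_N1 _

theorem S1_le_normalizer_N1 :
    S1 F m ≤ Subgroup.normalizer (N1 F m : Set (GL (Fin 2 × Fin m) F)) := by
  rintro _ ⟨σ, rfl⟩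
  apply mem_normalizer_of_conj
  · rintro _ ⟨g, rfl⟩
    refine ⟨fun k => g (σ⁻¹ k), ?_⟩
    exact (ppHom_mul_bdHom σ (slPi F m g)).symm
  · rintro _ ⟨g, rfl⟩
    have := ppHom_mul_bdHom σ⁻¹ (slPi F m g)
    rw [map_inv, inv_inv] at this
    refine ⟨fun k => g (σ⁻¹⁻¹ k), ?_⟩
    exact this.symm

theorem S1_le_normalizer_D1 :
    S1 F m ≤ Subgroup.normalizer (D1 F m : Set (GL (Fin 2 × Fin m) F)) := by
  have key : ∀ (σ : Equiv.Perm (Fin m)) (ε : (prodHom m).ker),
      ppHom F (Fin 2) m σ * bdHom F (Fin 2) m (sgPi F m ε) * (ppHom F (Fin 2) m σ)⁻¹ ∈ D1 F m := by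
    intro σ ε
    have hmem : (fun k => (ε : Fin m → ℤˣ) (σ⁻¹ k)) ∈ (prodHom m).ker := by
      rw [MonoidHom.mem_ker, prodHom_apply]
      have h1 : prodHom m (ε : Fin m → ℤˣ) = 1 := ε.2
      rw [prodHom_apply] at h1
      rw [← h1]
      exact Equiv.prod_comp σ⁻¹ (fun k => (ε : Fin m → ℤˣ) k)
    refine ⟨⟨_, hmem⟩, ?_⟩
    exact (ppHom_mul_bdHom σ (sgPi F m ε)).symm
  rintro _ ⟨σ, rfl⟩
  apply mem_normalizer_of_conj
  · rintro _ ⟨ε, rfl⟩
    exact key σ ε
  · rintro _ ⟨ε, rfl⟩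
    have := key σ⁻¹ ε
    rw [map_inv, inv_inv] at this
    exact this

theorem D1_inf_S1 : D1 F m ⊓ S1 F m = ⊥ := by
  rw [eq_bot_iff]
  rintro x ⟨⟨ε, rfl⟩, ⟨σ, hσ⟩⟩
  rw [Subgroup.mem_bot]
  have h1 := congrArg Units.val hσ
  have h2 : pp F (Fin 2) σ = blockDiagonal _ := h1
  have h3 : σ = 1 := pp_eq_blockDiagonal σ _ h2
  rw [← hσ, h3, map_one]

theorem N1_inf_sup (h2 : (2 : F) ≠ 0) : N1 F m ⊓ (S1 F m ⊔ D1 F m) = ⊥ := by
  rw [eq_bot_iff]
  rintro x ⟨⟨g, hg⟩, hx⟩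
  rw [Subgroup.mem_bot]
  have hx' : x ∈ ((S1 F m ⊔ D1 F m : Subgroup (GL (Fin 2 × Fin m) F)) :
      Set (GL (Fin 2 × Fin m) F)) := hx
  rw [Subgroup.coe_mul_of_left_le_normalizer_right (S1 F m) (D1 F m) S1_le_normalizer_D1,
    Set.mem_mul] at hx'
  clear hx
  rename' hx' => hx
  obtain ⟨_, ⟨σ, rfl⟩, _, ⟨ε, rfl⟩, hx⟩ := hx
  -- σ = 1
  have e1 : ppHom F (Fin 2) m σ = bdHom F (Fin 2) m (slPi F m g * (sgPi F m ε)⁻¹) := by
    rw [map_mul, map_inv, eq_mul_inv_iff_mul_eq]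
    rw [← hg] at hx
    exact hx
  have h1 := congrArg Units.val e1
  have h3 : pp F (Fin 2) σ = blockDiagonal _ := h1
  have hσ : σ = 1 := pp_eq_blockDiagonal σ _ h3
  rw [hσ, map_one, one_mul] at hx
  rw [← hg] at hx
  have h4 : sgPi F m ε = slPi F m g := bdHom_injective hx
  have h5 : ε = 1 := by
    apply Subtype.ext
    funext k
    have h6 := congrFun h4 k
    rw [sgPi_apply, slPi_apply] at h6
    have h7 := congrArg GeneralLinearGroup.det h6
    rw [det_dg, SpecialLinearGroup.coeToGL_det] at h7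
    have := castU_injective h2 (h7.trans (map_one (castU F)).symm)
    rw [this]
    rfl
  rw [← hg, ← hx, h5, map_one]

theorem le_ker_det : (S1 F m ⊔ D1 F m) ⊔ N1 F m ≤
    (GeneralLinearGroup.det : GL (Fin 2 × Fin m) F →* Fˣ).ker := by
  refine sup_le (sup_le ?_ ?_) ?_
  · rintro _ ⟨σ, rfl⟩
    rw [MonoidHom.mem_ker]
    apply Units.ext
    rw [GeneralLinearGroup.val_det_apply]
    show (pp F (Fin 2) σ).det = 1
    rw [det_pp, Fintype.card_fin, ← Int.cast_pow, ← Units.val_pow_eq_pow_val, Int.units_sq]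
    simp
  · rintro _ ⟨ε, rfl⟩
    rw [MonoidHom.mem_ker]
    show GeneralLinearGroup.det (bdHom F (Fin 2) m (sgPi F m ε)) = 1
    rw [det_bdHom]
    have h1 : prodHom m (ε : Fin m → ℤˣ) = 1 := ε.2
    rw [prodHom_apply] at h1
    calc ∏ k, GeneralLinearGroup.det (sgPi F m ε k) = ∏ k, castU F ((ε : Fin m → ℤˣ) k) := by
          apply Finset.prod_congr rfl
          intro k _
          rw [sgPi_apply, det_dg]
      _ = castU F (∏ k, (ε : Fin m → ℤˣ) k) := (map_prod (castU F) _ _).symm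
      _ = 1 := by rw [h1, map_one]
  · rintro _ ⟨g, rfl⟩
    rw [MonoidHom.mem_ker]
    show GeneralLinearGroup.det (bdHom F (Fin 2) m (slPi F m g)) = 1
    rw [det_bdHom]
    apply Finset.prod_eq_one
    intro k _
    rw [slPi_apply, SpecialLinearGroup.coeToGL_det]

end caseA

end Cfsg.Agent.Lib.Helper16.SylAb
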