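import Cfsg.Agent.Lib.Helper16.SLWreathC

/-
helper16 library: `E2 (SL_{2^r}(q))` for all odd `q` (wreath doubling) and `E2 (SL_{2m}(q))` for
`q = 3 mod 4` (odd-index subgroup `SL_2(q)^m : (2^(m-1) : S_m)`).
-/

set_option autoImplicit false

namespace Cfsg.Agent.Lib.Helper16.SylAb

open Matrix

section twopow



theorem factorization_factorial_two_pow (k : ℕ) :
    (Nat.factorial (2 ^ k)).factorization 2 + 1 = 2 ^ k := by
  induction k with
  | zero => simp
  | succ k ih =>
    rw [pow_succ', factorization_two_mul_factorial]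
    omega

theorem tsum_double (q : ℕ) (hq : Odd q) (hq1 : 1 < q) (r : ℕ) :
    tsum q (2 ^ (r + 1) * 2) = 2 * tsum q (2 ^ (r + 1)) + 1 := by
  have e1 : 2 ^ (r + 1) * 2 = 2 * (2 * 2 ^ r) := by ring
  have e2 : 2 ^ (r + 1) = 2 * 2 ^ r := by ring
  rw [e1, e2, tsum_even q hq hq1, tsum_even q hq hq1, factorization_two_mul_factorial]
  have := factorization_factorial_two_pow r
  generalize (Nat.factorial (2 ^ r)).factorization 2 = v at *
  generalize (2 * (q - 1).factorization 2 + (q + 1).factorization 2) = c at *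
  rw [← this]
  ring

variable {F : Type*} [Field F] [Fintype F]

theorem E2_SL_two_pow (hodd : Odd (Fintype.card F)) (r : ℕ) :
    E2 (SpecialLinearGroup (Fin (2 ^ (r + 1))) F) := by
  have hq1 : 1 < Fintype.card F := Fintype.one_lt_card
  induction r with
  | zero =>
    have : Finite (SpecialLinearGroup (Fin (2 ^ (0 + 1))) F) := Subtype.finite
    exact E2_of_mulEquiv (slReindex F (finCongr (by norm_num : 2 = 2 ^ (0 + 1)))) (E2_SL2 hodd)
  | succ r ih =>
    have h1 : E2 (SpecialLinearGroup (Fin (2 ^ (r + 1)) × Fin 2) F) := by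
      have : Nonempty (Fin (2 ^ (r + 1))) := ⟨⟨0, by positivity⟩⟩
      apply E2_SL_double _ _ ih
      · rw [Fintype.card_fin]
        exact (Nat.even_pow.mpr ⟨even_two, by omega⟩)
      · rw [card_GL_of_equiv (finProdFinEquiv (m := 2 ^ (r + 1)) (n := 2)),
          val_prod_gl _ hodd hq1, Matrix.card_GL_field, val_prod_gl _ hodd hq1,
          tsum_double _ hodd hq1]
    have : Finite (SpecialLinearGroup (Fin (2 ^ (r + 1 + 1))) F) := Subtype.finite
    exact E2_of_mulEquiv (slReindex F ((finProdFinEquiv (m := 2 ^ (r + 1)) (n := 2)).trans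
      (finCongr (by ring)))) h1


end twopow



section caseAfinal

variable {F : Type*} [Field F] [Fintype F] {m : ℕ}

theorem two_ne_zero_of_odd_card (hodd : Odd (Fintype.card F)) : (2 : F) ≠ 0 := by
  intro h
  obtain ⟨p, hp⟩ := CharP.exists F
  have hpp : p.Prime := CharP.char_is_prime F p
  have : Fact p.Prime := ⟨hpp⟩
  have h2 : ((2 : ℕ) : F) = 0 := by exact_mod_cast h
  rw [CharP.cast_eq_zero_iff F p] at h2
  have hp2 : p = 2 := (Nat.prime_dvd_prime_iff_eq hpp Nat.prime_two).mp h2
  obtain ⟨k, hk⟩ := FiniteField.card F p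
  rw [hk.2, hp2] at hodd
  have : Even ((2 : ℕ) ^ (k : ℕ)) := (Nat.even_pow.mpr ⟨even_two, k.pos.ne'⟩)
  exact (Nat.not_odd_iff_even.mpr this) hodd

theorem E2_N1 (hodd : Odd (Fintype.card F)) : E2 ↥(N1 F m) := by
  have hinj : Function.Injective ((bdHom F (Fin 2) m).comp (slPi F m)) :=
    bdHom_injective.comp slPi_injective
  have : Finite (SpecialLinearGroup (Fin 2) F) := Subtype.finite
  exact E2_of_mulEquiv (MonoidHom.ofInjective hinj) (E2_pi (E2_SL2 hodd) m)

theorem E2_D1 (hodd : Odd (Fintype.card F)) : E2 ↥(D1 F m) := by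
  have hinj : Function.Injective ((bdHom F (Fin 2) m).comp (sgPi F m)) :=
    bdHom_injective.comp (sgPi_injective (two_ne_zero_of_odd_card hodd))
  apply E2_of_mulEquiv (MonoidHom.ofInjective hinj)
  apply E2_of_sq_eq_one
  intro x
  apply Subtype.ext
  funext k
  show ((x : Fin m → ℤˣ) k) ^ 2 = 1
  exact Int.units_sq _

theorem E2_S1 : E2 ↥(S1 F m) :=
  E2_of_mulEquiv (MonoidHom.ofInjective ppHom_injective) (E2_perm m)

theorem E2_L1 (hodd : Odd (Fintype.card F)) : E2 ↥((S1 F m ⊔ D1 F m) ⊔ N1 F m) :=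
  E2_sup_of_normalizer (N1 F m) (S1 F m ⊔ D1 F m)
    (sup_le S1_le_normalizer_N1 D1_le_normalizer_N1)
    (N1_inf_sup (two_ne_zero_of_odd_card hodd)) (E2_N1 hodd)
    (E2_sup_of_normalizer (D1 F m) (S1 F m) S1_le_normalizer_D1 D1_inf_S1 (E2_D1 hodd) E2_S1)

theorem card_L1 (hodd : Odd (Fintype.card F)) :
    Nat.card ↥((S1 F m ⊔ D1 F m) ⊔ N1 F m) =
      Nat.card (SpecialLinearGroup (Fin 2) F) ^ m *
        (Nat.card (prodHom m).ker * Nat.factorial m) := by
  have hinjN : Function.Injective ((bdHom F (Fin 2) m).comp (slPi F m)) :=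
    bdHom_injective.comp slPi_injective
  have hinjD : Function.Injective ((bdHom F (Fin 2) m).comp (sgPi F m)) :=
    bdHom_injective.comp (sgPi_injective (two_ne_zero_of_odd_card hodd))
  rw [card_sup_of_normalizer (N1 F m) (S1 F m ⊔ D1 F m)
    (sup_le S1_le_normalizer_N1 D1_le_normalizer_N1)
    (N1_inf_sup (two_ne_zero_of_odd_card hodd)),
    card_sup_of_normalizer (D1 F m) (S1 F m) S1_le_normalizer_D1 D1_inf_S1]
  have h1 : Nat.card ↥(N1 F m) = Nat.card (SpecialLinearGroup (Fin 2) F) ^ m := by
    rw [N1, Nat.card_congr (MonoidHom.ofInjective hinjN).toEquiv.symm, Nat.card_fun, Nat.card_fin]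
  have h2 : Nat.card ↥(D1 F m) = Nat.card (prodHom m).ker := by
    rw [D1, Nat.card_congr (MonoidHom.ofInjective hinjD).toEquiv.symm]
  have h3 : Nat.card ↥(S1 F m) = Nat.factorial m := by
    rw [S1, Nat.card_congr (MonoidHom.ofInjective
      (ppHom_injective (F := F) (ι := Fin 2) (m := m))).toEquiv.symm, Nat.card_perm, Nat.card_fin]
  rw [h1, h2, h3]

/-- the inclusion of the subgroup into `SL` -/
def toSL1 (F : Type*) [Field F] (m : ℕ) :
    ↥((S1 F m ⊔ D1 F m) ⊔ N1 F m) →* SpecialLinearGroup (Fin 2 × Fin m) F :=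
  MonoidHom.mk' (fun x => ⟨((x : GL (Fin 2 × Fin m) F) : Matrix (Fin 2 × Fin m) (Fin 2 × Fin m) F), by
    have h1 := le_ker_det x.2
    rw [MonoidHom.mem_ker] at h1
    exact congrArg Units.val h1⟩) (by
    intro x y
    apply Subtype.ext
    rfl)

omit [Fintype F] in
theorem toSL1_injective : Function.Injective (toSL1 F m) := by
  intro x y h
  apply Subtype.ext
  apply Units.ext
  exact congrArg Subtype.val h

theorem val_SL_even (hodd : Odd (Fintype.card F)) (hm : 1 ≤ m) :
    (Nat.card (SpecialLinearGroup (Fin (2 * m)) F)).factorization 2 +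
      (Fintype.card F - 1).factorization 2 = tsum (Fintype.card F) (2 * m) := by
  have h := Cfsg.Agent.Lib.Helper2.card_SL_field (F := F) (2 * m) (by omega)
  have hq1 : 1 < Fintype.card F := Fintype.one_lt_card
  have h1 : ((Fintype.card F - 1) *
      Nat.card (SpecialLinearGroup (Fin (2 * m)) F)).factorization 2 =
      (∏ i : Fin (2 * m),
        (Fintype.card F ^ (2 * m) - Fintype.card F ^ (i : ℕ))).factorization 2 := by
    rw [h]
  have : Finite (SpecialLinearGroup (Fin (2 * m)) F) := Subtype.finite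
  rw [val_prod_gl _ hodd hq1,
    Nat.factorization_mul (by omega) Nat.card_pos.ne', Finsupp.add_apply] at h1
  omega

theorem E2_SL_even (hq3 : Fintype.card F % 4 = 3) (hm : 1 ≤ m) :
    E2 (SpecialLinearGroup (Fin (2 * m)) F) := by
  have hodd : Odd (Fintype.card F) := by rw [Nat.odd_iff]; omega
  have hq1 : 1 < Fintype.card F := Fintype.one_lt_card
  have : Finite (SpecialLinearGroup (Fin (2 * m)) F) := Subtype.finite
  have : Finite (SpecialLinearGroup (Fin 2 × Fin m) F) := Subtype.finite
  have : Finite (SpecialLinearGroup (Fin 2) F) := Subtype.finite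
  apply E2_of_mulEquiv (slReindex F (finProdFinEquiv (m := 2) (n := m)))
  apply E2_of_injective' (toSL1 F m) toSL1_injective _ (E2_L1 hodd)
  rw [Nat.card_congr (slReindex F (finProdFinEquiv (m := 2) (n := m))).toEquiv, card_L1 hodd]
  have hv := val_SL_even (m := m) hodd hm
  rw [tsum_even _ hodd hq1] at hv
  have ha : (Fintype.card F - 1).factorization 2 = 1 :=
    Cfsg.Agent.Lib.Helper13.fact_two_of_mod_four_eq_two _ (by omega)
  have hker := card_ker_prodHom hm
  have hker2 : (Nat.card (prodHom m).ker).factorization 2 + 1 = m := by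
    have h1 : (Nat.card (prodHom m).ker * 2).factorization 2 = m := by
      rw [hker, Nat.factorization_pow, Finsupp.smul_apply,
        Nat.Prime.factorization_self Nat.prime_two, smul_eq_mul, mul_one]
    rw [Nat.factorization_mul Nat.card_pos.ne' (by norm_num), Finsupp.add_apply,
      Nat.Prime.factorization_self Nat.prime_two] at h1
    exact h1
  have hsl2 : (Nat.card (SpecialLinearGroup (Fin 2) F)).factorization 2 =
      (Fintype.card F - 1).factorization 2 + (Fintype.card F + 1).factorization 2 := by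
    have h2q : ¬ 2 ∣ Fintype.card F := by omega
    rw [Cfsg.Agent.Lib.Helper2.card_SL2,
      Nat.factorization_mul (Nat.mul_ne_zero (by omega) (by omega)) (by omega),
      Nat.factorization_mul (by omega) (by omega), Finsupp.add_apply, Finsupp.add_apply,
      Nat.factorization_eq_zero_of_not_dvd h2q, zero_add]
  rw [Nat.factorization_mul (pow_ne_zero _ Nat.card_pos.ne')
      (Nat.mul_ne_zero Nat.card_pos.ne' (Nat.factorial_ne_zero m)),
    Nat.factorization_mul Nat.card_pos.ne' (Nat.factorial_ne_zero m), Nat.factorization_pow,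
    Finsupp.add_apply, Finsupp.add_apply, Finsupp.smul_apply, smul_eq_mul, hsl2]
  rw [ha] at hv ⊢
  generalize (Fintype.card F + 1).factorization 2 = b at *
  generalize (Nat.factorial m).factorization 2 = c at *
  generalize (Nat.card (prodHom m).ker).factorization 2 = d at *
  generalize (Nat.card (SpecialLinearGroup (Fin (2 * m)) F)).factorization 2 = e at *
  have e1 : m * (2 * 1 + b) = 2 * m + m * b := by ring
  have e2 : m * (1 + b) = m + m * b := by ring
  rw [e1] at hv
  rw [e2]
  omega

end caseAfinal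


end Cfsg.Agent.Lib.Helper16.SylAb
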