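import Mathlib
import Cfsg.Prelude.Def_Classical
import Cfsg.Prelude.Def_ClassicalGeometry

/-!
# Helper16: the sign-twisted permutation representation of `S4` on the sum-zero hyperplane of
`(ZMod 3)^4`, in coordinates where the invariant form is `x² + y z` (for S0823).
-/

set_option autoImplicit false

namespace Cfsg.Agent.Lib.Helper16.SO3

open Matrix

/-- the index type of `quadFormOdd 1`. -/
abbrev I3 := Unit ⊕ (Fin 1 ⊕ Fin 1)

/-- columns: a basis of the sum-zero hyperplane of `(ZMod 3)^4`. -/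
def SM : Matrix (Fin 4) I3 (ZMod 3) :=
  Matrix.of fun j r => Sum.elim (fun _ => (![1, -1, 0, 0] : Fin 4 → ZMod 3) j)
    (Sum.elim (fun _ => (![1, 1, 1, 0] : Fin 4 → ZMod 3) j)
      (fun _ => (![-1, -1, 0, -1] : Fin 4 → ZMod 3) j)) r

/-- coordinates on the sum-zero hyperplane. -/
def PiM : Matrix I3 (Fin 4) (ZMod 3) :=
  Matrix.of fun r j => Sum.elim (fun _ => (![1, 0, -1, -1] : Fin 4 → ZMod 3) j)
    (Sum.elim (fun _ => (![0, 0, 1, 0] : Fin 4 → ZMod 3) j)
      (fun _ => (![0, 0, 0, -1] : Fin 4 → ZMod 3) j)) r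

/-- the sign of a permutation in `ZMod 3`. -/
def sgn3 (σ : Equiv.Perm (Fin 4)) : ZMod 3 := if Equiv.Perm.sign σ = 1 then 1 else -1

/-- the sign-twisted permutation representation on the sum-zero hyperplane. -/
def MM (σ : Equiv.Perm (Fin 4)) : Matrix I3 I3 (ZMod 3) :=
  sgn3 σ • (PiM * (σ⁻¹).permMatrix (ZMod 3) * SM)

set_option maxRecDepth 1000000 in
theorem MM_one : MM 1 = 1 := by decide

set_option maxRecDepth 1000000 in
theorem MM_mul : ∀ σ τ : Equiv.Perm (Fin 4), MM (σ * τ) = MM σ * MM τ := by decide +kernel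

set_option maxRecDepth 1000000 in
theorem MM_iso : ∀ σ : Equiv.Perm (Fin 4), ∀ w : I3 → ZMod 3,
    Cfsg.quadFormOdd 1 (ZMod 3) (MM σ *ᵥ w) = Cfsg.quadFormOdd 1 (ZMod 3) w := by decide +kernel

set_option maxRecDepth 1000000 in
theorem MM_det : ∀ σ : Equiv.Perm (Fin 4), (MM σ).det = 1 := by decide +kernel

set_option maxRecDepth 1000000 in
theorem MM_inj : ∀ σ : Equiv.Perm (Fin 4), MM σ = 1 → σ = 1 := by decide +kernel

end Cfsg.Agent.Lib.Helper16.SO3
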