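import Cfsg.Agent.Lib.Helper18.SPDec
import Cfsg.Agent.Lib.Helper18.SPHom

/-!
# S3713 (helper18's market), leaf GENP (helper16): `PJ (insert o J) o` is generated by `MM o p` and `GJ J`;
all the `M`'s commute with each other.
-/

set_option autoImplicit false

namespace Cfsg.Agent.Lib.Helper16.SPGENP

open Matrix Cfsg.Agent.Lib.Helper5 Cfsg.Agent.Lib.Helper14.SpPerfect
open Cfsg.Agent.Lib.Helper18.SP

variable {F : Type*} [Field F] {n : ℕ} {H : Type*} [Group H]

/-- the long root elements `T_{e_o}(c)` lie in `M_{op}` -/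
theorem Tr_eV_mem_MM (o p : Fin n) (c : F) : Tr (eV n F o) c ∈ MM n F o p := by
  constructor
  · intro k
    rw [act_Tr, ω_eV_eV, mul_zero, zero_smul, add_zero]
  · intro k hko _
    rw [act_Tr, ω_fV_eV, if_neg (Ne.symm hko), mul_zero, zero_smul, add_zero]

/-- the Eichler element `E(e_o, e_p)` lies in `M_{op}` -/
theorem E_eV_eV_mem_MM (o p : Fin n) : E (eV n F o) (eV n F p) ∈ MM n F o p := by
  have h0 : ω n F (eV n F o) (eV n F p) = 0 := ω_eV_eV o p
  constructor
  · intro k
    rw [act_E _ _ _ h0, ω_eV_eV, ω_eV_eV, zero_smul, zero_smul, add_zero, add_zero]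
  · intro k hko hkp
    rw [act_E _ _ _ h0, ω_fV_eV, ω_fV_eV, if_neg (Ne.symm hko), if_neg (Ne.symm hkp), zero_smul,
      zero_smul, add_zero, add_zero]

theorem PJ_le_closure {J : Set (Fin n)} {o p : Fin n} (ho : o ∉ J) (hp : p ∈ J) :
    PJ n F (insert o J) o ≤ Subgroup.closure ((MM n F o p : Set (Sp n F)) ∪ (GJ n F J : Set (Sp n F))) := by
  intro g hg
  obtain ⟨u, hu, c, l, hl, rfl⟩ := PJ_decomp ho hg
  have hM : ∀ m ∈ MM n F o p,
      m ∈ Subgroup.closure ((MM n F o p : Set (Sp n F)) ∪ (GJ n F J : Set (Sp n F))) :=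
    fun m hm => Subgroup.subset_closure (Or.inl hm)
  have hG : ∀ m ∈ GJ n F J,
      m ∈ Subgroup.closure ((MM n F o p : Set (Sp n F)) ∪ (GJ n F J : Set (Sp n F))) :=
    fun m hm => Subgroup.subset_closure (Or.inr hm)
  have hE : E (eV n F o) u ∈
      Subgroup.closure ((MM n F o p : Set (Sp n F)) ∪ (GJ n F J : Set (Sp n F))) := by
    by_cases hu0 : u = 0
    · rw [hu0, E_zero_right]
      exact one_mem _
    · obtain ⟨l', hl', hl'u⟩ := GJ_trans J (eV_mem_VJ hp) hu (eV_ne_zero p) hu0
      have h1 : l' * E (eV n F o) (eV n F p) * l'⁻¹ = E (eV n F o) u := by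
        rw [conj_E, (hl' o ho).1, hl'u]
      rw [← h1]
      exact mul_mem (mul_mem (hG l' hl') (hM _ (E_eV_eV_mem_MM o p))) (inv_mem (hG l' hl'))
  unfold qH
  exact mul_mem (mul_mem hE (hM _ (Tr_eV_mem_MM o p c))) (hG l hl)

/-- an element fixing all `e_k` moves `f_k` by a vector without `f`-coordinates -/
theorem act_fV_sub_inr {g : Sp n F} (hg : ∀ k, act g (eV n F k) = eV n F k) (k j : Fin n) :
    (act g (fV n F k) - fV n F k) (Sum.inr j) = 0 := by
  have h1 : ω n F (act g (fV n F k)) (eV n F j) = ω n F (fV n F k) (eV n F j) := by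
    conv_lhs => rw [← hg j]
    exact ω_act g _ _
  rw [← ω_eV_right (act g (fV n F k) - fV n F k) j, ω_sub_left, h1, sub_self]

/-- a vector without `f`-coordinates is fixed by every element fixing all `e_k` -/
theorem act_eq_of_inr_zero {h : Sp n F} (hh : ∀ k, act h (eV n F k) = eV n F k) {x : V n F}
    (hx : ∀ j, x (Sum.inr j) = 0) : act h x = x := by
  have e : x = ∑ k : Fin n, x (Sum.inl k) • eV n F k := by
    conv_lhs => rw [vec_eq_sum x]
    refine Finset.sum_congr rfl fun k _ => ?_
    rw [hx k, zero_smul, add_zero]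
  obtain ⟨c, hc⟩ : ∃ c : Fin n → F, x = ∑ k : Fin n, c k • eV n F k := ⟨fun k => x (Sum.inl k), e⟩
  rw [hc, act_sum]
  refine Finset.sum_congr rfl fun k _ => ?_
  rw [act_smul, hh]

/-- all the `M`'s commute with each other -/
theorem MM_commute {i p i' p' : Fin n} {g h : Sp n F} (hg : g ∈ MM n F i p) (hh : h ∈ MM n F i' p') :
    Commute g h := by
  show g * h = h * g
  apply sp_ext_basis
  · intro k
    rw [act_mul, act_mul, hh.1 k, hg.1 k, hh.1 k]
  · intro k
    rw [act_mul, act_mul]
    have hdg : act g (fV n F k) = fV n F k + (act g (fV n F k) - fV n F k) := by abel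
    have hdh : act h (fV n F k) = fV n F k + (act h (fV n F k) - fV n F k) := by abel
    have h1 : act g (act h (fV n F k) - fV n F k) = act h (fV n F k) - fV n F k :=
      act_eq_of_inr_zero hg.1 (act_fV_sub_inr hh.1 k)
    have h2 : act h (act g (fV n F k) - fV n F k) = act g (fV n F k) - fV n F k :=
      act_eq_of_inr_zero hh.1 (act_fV_sub_inr hg.1 k)
    calc act g (act h (fV n F k))
        = act g (fV n F k + (act h (fV n F k) - fV n F k)) := by rw [← hdh]
      _ = act g (fV n F k) + (act h (fV n F k) - fV n F k) := by rw [act_add, h1]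
      _ = act h (fV n F k) + (act g (fV n F k) - fV n F k) := by abel
      _ = act h (fV n F k + (act g (fV n F k) - fV n F k)) := by rw [act_add, h2]
      _ = act h (act g (fV n F k)) := by rw [← hdg]

end Cfsg.Agent.Lib.Helper16.SPGENP
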