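import Cfsg.Agent.S5655

/-!
# Low-dimensional version of S5655 (stabilisers of non-degenerate decompositions are maximal in SU_n(q)) (helper16)

Verbatim copies of the theorems of the S5655 tower carrying `13 ≤ n` (helper6 `kge2_core'`, `kge2_core`, `isMaximalIn_kge2`;
helper11 `k1_of_std`, `k1_std_core_q2`; helper18 `k1_std_core_q3_of`, `k1_std_core_q3`) with the bound relaxed:
blocks of dimension `≥ 2`: `4 ≤ n`; blocks of dimension one: `11 ≤ n`.
-/

set_option autoImplicit false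
set_option linter.unusedSectionVars false
set_option linter.unusedVariables false

namespace Cfsg.Agent.Lib.Helper16.SUg

section kge2
open Cfsg Matrix Cfsg.Agent.Lib.Helper5.UForm Cfsg.Agent.Lib.Helper5.HermBridge
  Cfsg.Agent.Lib.Helper5.SUGen Cfsg.Agent.Lib.Helper5.SUMax Cfsg.Agent.Lib.Helper18.C2
  Cfsg.Agent.Lib.Helper6.UA Cfsg.Agent.Lib.Helper6.UALeaf

section
variable {F : Type*} [Field F] [Fintype F] {q n t k : ℕ} (hF : Fintype.card F = q ^ 2)
  {D : Fin t → Submodule F (Fin n → F)}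
  (hD : Cfsg.Geo.IsNondegenerateMDecomposition (Cfsg.hermForm n F q) k D)
  {M : Subgroup (GL (Fin n) F)}
include hF hD

theorem kge2_core_low' (hn : 4 ≤ n) (hk : 2 ≤ k) (hex : ¬ (k = 2 ∧ q = 2))
    (hM : M ≤ Cfsg.GU n F q ⊓ Cfsg.Geo.specialLinear (Fin n) F) (hH : HU D q ≤ M)
    (g : GL (Fin n) F) (hg : g ∈ M) (hgD : g ∉ Cfsg.Geo.decompositionStabilizer D) :
    Cfsg.GU n F q ⊓ Cfsg.Geo.specialLinear (Fin n) F ≤ M := by
  have hf := herm_unitary (n := n) hF
  have hgU : g ∈ Cfsg.GU n F q := (hM hg).1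
  obtain ⟨i₀, u, hu, huu, hnp⟩ := Cfsg.Agent.Lib.Helper9.UALeaf.exists_mixed hF hD hk hgU hgD
  have huS : u ∈ Sset hF M := Cfsg.Agent.Lib.Helper9.UALeaf.block_iso_mem hF hD hH hu huu
  have hwS := Sset_mulVec_mem hF hg hgU huS
  have hww : Cfsg.hermForm n F q ((g : Matrix (Fin n) (Fin n) F) *ᵥ u)
      ((g : Matrix (Fin n) (Fin n) F) *ᵥ u) = 0 := by rw [mem_GU.mp hgU]; exact huu
  obtain ⟨i, j, hij, a, ha, b, hb, haa, hab, hs⟩ := exists_two_comp hF hD hk hM hH hwS hww hnp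
  have hP1 := Cfsg.Agent.Lib.Helper9.UALeaf.pair_noniso_core hF hD
    (fun ha hb hab ha0 => exists_move hF hD hk ha hb hab ha0) hk hM hH hij ha hb haa hab hs
  have hP2 := Cfsg.Agent.Lib.Helper9.UALeaf.pair_iso_core hF hD
    (fun hx hx0 _ _ hμ hcase => Cfsg.Agent.Lib.Helper11.UALeaf.exists_presc hF hD hk hx hx0 hμ hcase)
    hk hex hH hij hP1
  have hpg : PairGood hF D M i j := by
    intro x hx y hy hxy
    by_cases hxx : Cfsg.hermForm n F q x x = 0
    · apply hP2 x hx y hy hxx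
      have hxy0 : Cfsg.hermForm n F q x y = 0 := hD.orthogonal i j hij x hx y hy
      rw [hf.add_left, u_add_right hf, u_add_right hf, hxx, hxy0, u_symm_zero hf hxy0] at hxy
      linear_combination hxy
    · exact hP1 x hx y hy hxx hxy
  have hall : ∀ i' j', i' ≠ j' → PairGood hF D M i' j' :=
    fun i' j' h' => Cfsg.Agent.Lib.Helper9.UALeaf.pairGood_all_core hF hD
      (fun a b hab => exists_swap hF hD hk a b hab) hk hM hH hij hpg h'
  exact le_of_forall_mem_Sset hF (by omega) (by omega) M (all_iso hF hD hk hH hall)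

end

/-- S5655, part A, in the shape of helper18's glue -/
theorem kge2_core_low {F : Type*} [Field F] [Fintype F] (n q : ℕ) (hF : Fintype.card F = q ^ 2)
    (hn : 4 ≤ n) {t : ℕ} (k : ℕ) (hk : 2 ≤ k) (D : Fin t → Submodule F (Fin n → F))
    (hD : Cfsg.Geo.IsNondegenerateMDecomposition (Cfsg.hermForm n F q) k D)
    (hex : ¬ (k = 2 ∧ q = 2)) (M : Subgroup (GL (Fin n) F))
    (hM : M ≤ Cfsg.GU n F q ⊓ Cfsg.Geo.specialLinear (Fin n) F)
    (hH : Cfsg.Geo.decompositionStabilizer D ⊓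
      (Cfsg.GU n F q ⊓ Cfsg.Geo.specialLinear (Fin n) F) ≤ M)
    (g : GL (Fin n) F) (hg : g ∈ M) (hgD : g ∉ Cfsg.Geo.decompositionStabilizer D) :
    Cfsg.GU n F q ⊓ Cfsg.Geo.specialLinear (Fin n) F ≤ M :=
  kge2_core_low' hF hD hn hk hex hM hH g hg hgD

/-- S5655 for `k ≥ 2`: the full maximality statement -/
theorem isMaximalIn_kge2_low {F : Type*} [Field F] [Fintype F] (n q : ℕ)
    (hF : Fintype.card F = q ^ 2) (hn : 4 ≤ n) {t : ℕ} (k : ℕ) (hk : 2 ≤ k)
    (D : Fin t → Submodule F (Fin n → F))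
    (hD : Cfsg.Geo.IsNondegenerateMDecomposition (Cfsg.hermForm n F q) k D)
    (hex : ¬ (k = 2 ∧ q = 2)) :
    Cfsg.Geo.IsMaximalIn (Cfsg.GU n F q ⊓ Cfsg.Geo.specialLinear (Fin n) F)
      (Cfsg.Geo.decompositionStabilizer D ⊓
        (Cfsg.GU n F q ⊓ Cfsg.Geo.specialLinear (Fin n) F)) := by
  refine ⟨lt_of_le_of_ne inf_le_right (fun h => ?_), fun M hHM hMK => ?_⟩
  · obtain ⟨g, hgG, hgS⟩ := exists_not_stab hF hD hk
    rw [← h] at hgG
    exact hgS hgG.1
  · by_cases hall : M ≤ Cfsg.Geo.decompositionStabilizer D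
    · left
      exact le_antisymm (le_inf hall hMK) hHM
    · right
      obtain ⟨g, hgM, hgS⟩ := SetLike.not_le_iff_exists.mp hall
      exact le_antisymm hMK (kge2_core_low n q hF hn k hk D hD hex M hMK hHM g hgM hgS)


end kge2


section k1std
open Matrix Cfsg.Agent.Lib.Helper11.Mono Cfsg.Agent.Lib.Helper5.SUMax
  Cfsg.Agent.Lib.Helper5.HermBridge Cfsg.Agent.Lib.Helper5.UForm Cfsg.Agent.Lib.Helper11.UTr

noncomputable section
variable {F : Type*} [Field F] [Fintype F] {q n : ℕ}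

/-- (b) of S5655, `k = 1`: transport to the standard frame. -/
theorem k1_of_std_low (n q : ℕ) (hF : Fintype.card F = q ^ 2) (hn : 11 ≤ n)
    (hcore : ∀ M : Subgroup (GL (Fin n) F),
      M ≤ Cfsg.GU n F q ⊓ Cfsg.Geo.specialLinear (Fin n) F →
      (∀ g ∈ Cfsg.GU n F q ⊓ Cfsg.Geo.specialLinear (Fin n) F,
        IsMono (g : Matrix (Fin n) (Fin n) F) → g ∈ M) →
      (∃ g ∈ M, ¬ IsMono (g : Matrix (Fin n) (Fin n) F)) →
      Cfsg.GU n F q ⊓ Cfsg.Geo.specialLinear (Fin n) F ≤ M)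
    {t : ℕ} (D : Fin t → Submodule F (Fin n → F))
    (hD : Cfsg.Geo.IsNondegenerateMDecomposition (Cfsg.hermForm n F q) 1 D) :
    Cfsg.Geo.IsMaximalIn (Cfsg.GU n F q ⊓ Cfsg.Geo.specialLinear (Fin n) F)
      (Cfsg.Geo.decompositionStabilizer D ⊓
        (Cfsg.GU n F q ⊓ Cfsg.Geo.specialLinear (Fin n) F)) := by
  have hU := herm_unitary (n := n) hF
  -- normalised generators of the lines
  have hgen : ∀ i, ∃ x : Fin n → F, Cfsg.hermForm n F q x x = 1 ∧ D i = Submodule.span F {x} := by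
    intro i
    have h1 := hD.decomp.finrank_eq i
    obtain ⟨v, hv0, hv⟩ := finrank_eq_one_iff'.mp h1
    have hv0' : (v : Fin n → F) ≠ 0 := fun h => hv0 (Subtype.ext h)
    have hDv : D i = Submodule.span F {(v : Fin n → F)} := by
      apply le_antisymm
      · intro w hw
        obtain ⟨c, hc⟩ := hv ⟨w, hw⟩
        rw [Submodule.mem_span_singleton]
        exact ⟨c, by simpa using congrArg Subtype.val hc⟩
      · rw [Submodule.span_singleton_le_iff_mem]
        exact v.2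
    have hvv : Cfsg.hermForm n F q v v ≠ 0 := by
      obtain ⟨⟨y, hyD, hy⟩, -⟩ := hD.nondegenerate i v v.2 hv0'
      rw [hDv, Submodule.mem_span_singleton] at hyD
      obtain ⟨a, rfl⟩ := hyD
      rw [hU.smul_left] at hy
      exact right_ne_zero_of_mul hy
    have hfix : frobQ hF (Cfsg.hermForm n F q v v)⁻¹ = (Cfsg.hermForm n F q v v)⁻¹ := by
      rw [map_inv₀, u_self_fixed hU]
    obtain ⟨z, hz⟩ := norm_surj hU.involutive hU.ne_refl _ (inv_ne_zero hvv) hfix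
    have hz0 : z ≠ 0 := by
      intro h
      rw [h, zero_mul] at hz
      exact inv_ne_zero hvv hz.symm
    refine ⟨z • (v : Fin n → F), ?_, ?_⟩
    · rw [hU.smul_left, u_smul_right hU, ← mul_assoc, hz, inv_mul_cancel₀ hvv]
    · exact hDv.trans (Submodule.span_singleton_smul_eq (IsUnit.mk0 z hz0) _).symm
  choose x hxx hxD using hgen
  have hx0 : ∀ i, x i ≠ 0 := by
    intro i h
    have := hxx i
    rw [h, u_zero_left hU] at this
    exact zero_ne_one this
  have hxmem : ∀ i, x i ∈ D i := fun i => by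
    rw [hxD i]; exact Submodule.mem_span_singleton_self _
  have hli : LinearIndependent F x :=
    hD.decomp.indep.linearIndependent D hxmem hx0
  have hsp : ⊤ ≤ Submodule.span F (Set.range x) := by
    rw [Submodule.span_range_eq_iSup, ← hD.decomp.iSup_eq_top]
    exact le_of_eq (iSup_congr fun i => hxD i)
  let b : Module.Basis (Fin t) F (Fin n → F) := Module.Basis.mk hli hsp
  have ht : t = n := by
    have h1 := Module.finrank_eq_card_basis b
    rw [Module.finrank_fin_fun, Fintype.card_fin] at h1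
    exact h1.symm
  subst ht
  have hb : ∀ i, b i = x i := fun i => Module.Basis.mk_apply hli hsp i
  have hortho : ∀ i j, Cfsg.hermForm t F q (x i) (x j) = if i = j then 1 else 0 := by
    intro i j
    by_cases hij : i = j
    · subst hij
      rw [if_pos rfl, hxx]
    · rw [if_neg hij]
      exact hD.orthogonal i j hij _ (hxmem i) _ (hxmem j)
  -- the change of basis
  let φ : (Fin t → F) ≃ₗ[F] (Fin t → F) := b.equivFun.symm
  have hφ : ∀ v, φ v = ∑ i, v i • x i := by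
    intro v
    change b.equivFun.symm v = _
    rw [Module.Basis.equivFun_symm_apply]
    exact Finset.sum_congr rfl fun i _ => by rw [hb]
  let P : GL (Fin t) F :=
    ⟨LinearMap.toMatrix' (φ : (Fin t → F) →ₗ[F] (Fin t → F)),
      LinearMap.toMatrix' (φ.symm : (Fin t → F) →ₗ[F] (Fin t → F)),
      by rw [← LinearMap.toMatrix'_comp]; simp,
      by rw [← LinearMap.toMatrix'_comp]; simp⟩
  have hPv : ∀ v, (P : Matrix (Fin t) (Fin t) F) *ᵥ v = ∑ i, v i • x i := by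
    intro v
    change LinearMap.toMatrix' (φ : (Fin t → F) →ₗ[F] (Fin t → F)) *ᵥ v = _
    rw [LinearMap.toMatrix'_mulVec]
    exact hφ v
  have hP : ∀ j, D j = Submodule.span F
      {(P : Matrix (Fin t) (Fin t) F) *ᵥ (Pi.single j (1 : F))} := by
    intro j
    rw [hPv, hxD j, Finset.sum_eq_single j]
    · rw [Pi.single_eq_same, one_smul]
    · intro i _ hij
      rw [Pi.single_eq_of_ne hij, zero_smul]
    · intro h
      exact absurd (Finset.mem_univ j) h
  have hPGU : P ∈ Cfsg.GU t F q := mem_GU_of_orthonormal hF x hortho P hPv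
  have hSLn : (Cfsg.Geo.specialLinear (Fin t) F).Normal := by
    unfold Cfsg.Geo.specialLinear
    infer_instance
  -- conjugation by `P` and by `P⁻¹` preserves `G`
  have hconj : ∀ g ∈ Cfsg.GU t F q ⊓ Cfsg.Geo.specialLinear (Fin t) F,
      P * g * P⁻¹ ∈ Cfsg.GU t F q ⊓ Cfsg.Geo.specialLinear (Fin t) F := fun g hg =>
    ⟨(Cfsg.GU t F q).mul_mem ((Cfsg.GU t F q).mul_mem hPGU hg.1) ((Cfsg.GU t F q).inv_mem hPGU),
      hSLn.conj_mem _ hg.2 P⟩
  have hconj' : ∀ g ∈ Cfsg.GU t F q ⊓ Cfsg.Geo.specialLinear (Fin t) F,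
      P⁻¹ * g * P ∈ Cfsg.GU t F q ⊓ Cfsg.Geo.specialLinear (Fin t) F := fun g hg => by
    refine ⟨(Cfsg.GU t F q).mul_mem ((Cfsg.GU t F q).mul_mem ((Cfsg.GU t F q).inv_mem hPGU) hg.1)
      hPGU, ?_⟩
    have := hSLn.conj_mem _ hg.2 P⁻¹
    rwa [inv_inv] at this
  constructor
  · -- strictness
    refine lt_of_le_of_ne inf_le_right fun heq => ?_
    obtain ⟨g, hgG, hgnm⟩ := exists_nonmono (n := t) hF (by omega)
    have h1 : P * g * P⁻¹ ∈ Cfsg.Geo.decompositionStabilizer D ⊓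
        (Cfsg.GU t F q ⊓ Cfsg.Geo.specialLinear (Fin t) F) := by
      rw [heq]
      exact hconj g hgG
    exact hgnm (isMono_of_conj_mem_stab D P hP g h1.1)
  · intro M hHM hMG
    by_cases hne : M = Cfsg.Geo.decompositionStabilizer D ⊓
        (Cfsg.GU t F q ⊓ Cfsg.Geo.specialLinear (Fin t) F)
    · exact Or.inl hne
    right
    let ψ : GL (Fin t) F →* GL (Fin t) F := (MulAut.conj P).toMonoidHom
    have hψ : ∀ h, ψ h = P * h * P⁻¹ := fun h => rfl
    let M' : Subgroup (GL (Fin t) F) := M.comap ψ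
    have hM'G : M' ≤ Cfsg.GU t F q ⊓ Cfsg.Geo.specialLinear (Fin t) F := by
      intro h hh
      have h1 : P * h * P⁻¹ ∈ Cfsg.GU t F q ⊓ Cfsg.Geo.specialLinear (Fin t) F := hMG hh
      have h2 := hconj' _ h1
      have h3 : P⁻¹ * (P * h * P⁻¹) * P = h := by group
      rwa [h3] at h2
    have hH' : ∀ g ∈ Cfsg.GU t F q ⊓ Cfsg.Geo.specialLinear (Fin t) F,
        IsMono (g : Matrix (Fin t) (Fin t) F) → g ∈ M' := by
      intro h hG hmono
      change ψ h ∈ M
      rw [hψ]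
      apply hHM
      exact ⟨conj_mem_stab D P hP h hmono, hconj h hG⟩
    have hex : ∃ g ∈ M, g ∉ Cfsg.Geo.decompositionStabilizer D := by
      by_contra hno
      push Not at hno
      apply hne
      apply le_antisymm
      · intro g hg
        exact ⟨hno g hg, hMG hg⟩
      · exact hHM
    obtain ⟨g, hgM, hgD⟩ := hex
    have hB'M : P⁻¹ * g * P ∈ M' := by
      change ψ (P⁻¹ * g * P) ∈ M
      rw [hψ]
      have : P * (P⁻¹ * g * P) * P⁻¹ = g := by group
      rwa [this]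
    have hB'nm : ¬ IsMono ((P⁻¹ * g * P : GL (Fin t) F) : Matrix (Fin t) (Fin t) F) := by
      intro hmono
      apply hgD
      have := conj_mem_stab D P hP (P⁻¹ * g * P) hmono
      have h2 : P * (P⁻¹ * g * P) * P⁻¹ = g := by group
      rwa [h2] at this
    have hmain := hcore M' hM'G hH' ⟨P⁻¹ * g * P, hB'M, hB'nm⟩
    apply le_antisymm hMG
    intro y hy
    have h2 : P⁻¹ * y * P ∈ M' := hmain (hconj' y hy)
    change ψ (P⁻¹ * y * P) ∈ M at h2
    rw [hψ] at h2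
    have h3 : P * (P⁻¹ * y * P) * P⁻¹ = y := by group
    rwa [h3] at h2


end

end k1std

section k1q2
open Matrix Cfsg.Agent.Lib.Helper11.Mono Cfsg.Agent.Lib.Helper5.SUMax
  Cfsg.Agent.Lib.Helper5.HermBridge Cfsg.Agent.Lib.Helper15.MonoLeaf Cfsg.Agent.Lib.Helper11.UQ2

open scoped Classical
noncomputable section

/-- **S5655, k = 1, q = 2, standard frame.** -/
theorem k1_std_core_q2_low {F : Type*} [Field F] [Fintype F] (n q : ℕ)
    (hF : Fintype.card F = q ^ 2) (hn : 11 ≤ n) (hq : q = 2)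
    (M : Subgroup (GL (Fin n) F))
    (hM : M ≤ Cfsg.GU n F q ⊓ Cfsg.Geo.specialLinear (Fin n) F)
    (hH : ∀ g ∈ Cfsg.GU n F q ⊓ Cfsg.Geo.specialLinear (Fin n) F,
      IsMono (g : Matrix (Fin n) (Fin n) F) → g ∈ M)
    (hne : ∃ g ∈ M, ¬ IsMono (g : Matrix (Fin n) (Fin n) F)) :
    Cfsg.GU n F q ⊓ Cfsg.Geo.specialLinear (Fin n) F ≤ M := by
  subst hq
  have hN : ContainsMono M := fun h hh hmono => hH h hh hmono
  obtain ⟨g, hgM, hgm⟩ := hne
  obtain ⟨v, hvS, hvv, hv4⟩ := exists_centre_of_not_isMono hF (by omega) hM hN hgM hgm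
  obtain ⟨u, huS, hu4⟩ := exists_wt_four hF (by omega) hN hvS hvv hv4
  apply le_of_forall_mem_Sset hF (by omega) (by omega) M
  intro x hxx
  exact iso_mem_Sset hF (by omega) hN huS hu4 (wt x) x hxx rfl


end

end k1q2

section k1q3
open Cfsg Matrix Cfsg.Agent.Lib.Helper11.Mono Cfsg.Agent.Lib.Helper15.MonoLeaf
  Cfsg.Agent.Lib.Helper2.MonoLeaf Cfsg.Agent.Lib.Helper5.SUMax Cfsg.Agent.Lib.Helper5.HermBridge
  Cfsg.Agent.Lib.Helper5.UForm Cfsg.Agent.Lib.Helper18.UNd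

variable {F : Type*} [Field F] [Fintype F] {n q : ℕ}

theorem k1_std_core_q3_of_low (hF : Fintype.card F = q ^ 2) (hq : 3 ≤ q) (hn : 11 ≤ n)
    (M : Subgroup (GL (Fin n) F))
    (hGROW : (∀ (a b : Fin n) (α β : F), a ≠ b → α ^ (q + 1) + β ^ (q + 1) = 0 →
        w2 a b α β ∈ Sset hF M) → ∀ v : Fin n → F, Cfsg.hermForm n F q v v = 0 → v ∈ Sset hF M)
    (hM : M ≤ Cfsg.GU n F q ⊓ Cfsg.Geo.specialLinear (Fin n) F)
    (hH : ∀ g : GL (Fin n) F, g ∈ Cfsg.GU n F q ⊓ Cfsg.Geo.specialLinear (Fin n) F →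
      IsMono (g : Matrix (Fin n) (Fin n) F) → g ∈ M)
    (hne : ∃ g ∈ M, ¬ IsMono (g : Matrix (Fin n) (Fin n) F)) :
    Cfsg.GU n F q ⊓ Cfsg.Geo.specialLinear (Fin n) F ≤ M := by
  obtain ⟨g, hg, hnm⟩ := hne
  obtain ⟨h, hh, hhnm, j, i, hcol⟩ := exists_nonmono_monoCol hF hq (by omega) M hH g hg hnm
  have htv : HasTv hF M i := by
    by_cases h2 : (2 : F) = 0
    · exact Cfsg.Agent.Lib.Helper12.UNdLeaf.hasTv_even hF hq h2 M hM hH h hh hhnm j i hcol
    · exact hasTv_odd hF hq h2 M hM hH h hh hhnm j i hcol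
  obtain ⟨z, c, t, l, ht, hzi, hli, hzl, hzz, hc0, hc, htx, hcl⟩ := htv
  have hzS : z ∈ Sset hF M :=
    Cfsg.Agent.Lib.Helper24.UNdLeaf.mem_Sset_of_tv hF M hM hH i l hli z hzi hzl hzz c hc0 hc t ht htx hcl
  have hz0 : z ≠ 0 := fun h0 => hzl (by rw [h0]; rfl)
  obtain ⟨a, b, α, β, hab, hα, hβ, hαβ, hS⟩ :=
    Cfsg.Agent.Lib.Helper11.UNdLeaf.exists_weight_two hF hq M hM hH i z hzi hz0 hzz hzS
  have hall2 := Cfsg.Agent.Lib.Helper11.UNdLeaf.all_weight_two hF (by omega) M hM hH a b α β hab hα hβ hαβ hS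
  have hall := hGROW (fun a' b' α' β' hab' h' => hall2 a' b' α' β' hab' h')
  exact le_of_forall_mem_Sset hF (by omega) (by omega) M hall

theorem k1_std_core_q3_low (hF : Fintype.card F = q ^ 2) (hq : 3 ≤ q) (hn : 11 ≤ n)
    (M : Subgroup (GL (Fin n) F))
    (hM : M ≤ Cfsg.GU n F q ⊓ Cfsg.Geo.specialLinear (Fin n) F)
    (hH : ∀ g : GL (Fin n) F, g ∈ Cfsg.GU n F q ⊓ Cfsg.Geo.specialLinear (Fin n) F →
      IsMono (g : Matrix (Fin n) (Fin n) F) → g ∈ M)
    (hne : ∃ g ∈ M, ¬ IsMono (g : Matrix (Fin n) (Fin n) F)) :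
    Cfsg.GU n F q ⊓ Cfsg.Geo.specialLinear (Fin n) F ≤ M :=
  k1_std_core_q3_of_low hF hq hn M
    (Cfsg.Agent.Lib.Helper12.UNdLeaf.all_isotropic hF hq (by omega) M hM) hM hH hne


end k1q3

/-- S5655 with the bound relaxed to `11 ≤ n`. -/
theorem dec_max_low {F : Type*} [Field F] [Fintype F] (n q : ℕ) (hF : Fintype.card F = q ^ 2) (hn : 11 ≤ n) {t : ℕ}
    (k : ℕ) (D : Fin t → Submodule F (Fin n → F))
    (hD : Cfsg.Geo.IsNondegenerateMDecomposition (Cfsg.hermForm n F q) k D) (hex : ¬ (k = 2 ∧ q = 2)) :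
    Cfsg.Geo.IsMaximalIn (Cfsg.GU n F q ⊓ Cfsg.Geo.specialLinear (Fin n) F)
      (Cfsg.Geo.decompositionStabilizer D ⊓ (Cfsg.GU n F q ⊓ Cfsg.Geo.specialLinear (Fin n) F)) := by
  classical
  have hq2 : 2 ≤ q := Cfsg.Agent.Lib.Helper14.herm_two_le hF
  have hk0 : 0 < k := hD.decomp.pos
  rcases Nat.lt_or_ge k 2 with hk | hk
  · have hk1 : k = 1 := by omega
    subst hk1
    refine k1_of_std_low n q hF hn (fun M hM hH hne => ?_) D hD
    rcases Nat.lt_or_ge q 3 with hq | hq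
    · exact k1_std_core_q2_low n q hF hn (by omega) M hM hH hne
    · exact k1_std_core_q3_low hF hq hn M hM hH hne
  · exact isMaximalIn_kge2_low n q hF (by omega) k hk D hD hex

end Cfsg.Agent.Lib.Helper16.SUg
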