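import Mathlib
import Cfsg.Agent.Lib.Helper18.UDenseMain

/-!
# The dense case of the unitary frame tower for `10 ≤ card ι` (helper16)

`Helper23.UDenseLeaf.false_of_comb` (K2e support combinatorics) needs `11 ≤ card ι`.  Here is a different argument that
works for `10 ≤ card ι`: the rows `ρ_x = (G x a, G x b, G x c)` of the three columns lie, off an exceptional triple, in a
plane `P_j : w = α_j s + β_j t`; two different planes meet in a line, which contains all rows outside two exceptional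
triples; choosing the third pair among those rows (with the possible zero of column `a` inside the pair), the third plane
contains the line, hence the two rows of the pair, so the third relation fails in at most one row.
-/

set_option autoImplicit false

namespace Cfsg.Agent.Lib.Helper16.SUgDense10
open Matrix Cfsg.Agent.Lib.Helper11.Mono Cfsg.Agent.Lib.Helper15.MonoLeaf Cfsg.Agent.Lib.Helper18.UDense

variable {F : Type*} [Field F] {ι : Type} [Fintype ι] [DecidableEq ι]

/-- an index outside a small finset -/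
lemma exists_not_mem_ten {m : ℕ} (hm : m < Fintype.card ι) (S : Finset ι) (hS : S.card ≤ m) :
    ∃ x, x ∉ S := by
  by_contra h
  push Not at h
  have : S = Finset.univ := Finset.eq_univ_iff_forall.mpr h
  rw [this, Finset.card_univ] at hS
  omega

/-- a non-zero combination `u_c - α u_a - β u_b` of columns of a non-monomial `g ∈ L` is not supported on one row -/
lemma weight_ge_two_five (h5 : 5 ≤ Fintype.card ι) (L : Subgroup (GL ι F)) (hD : ColDense L)
    (g : GL ι F) (hg : g ∈ L) (hnm : ¬ IsMono (g : Matrix ι ι F))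
    (a b c : ι) (hca : c ≠ a) (hcb : c ≠ b) (α β : F) (i : ι)
    (hw : ∀ x, x ≠ i → (g : Matrix ι ι F) x c = α * (g : Matrix ι ι F) x a + β * (g : Matrix ι ι F) x b) :
    False := by
  classical
  have hginv : g⁻¹ ∈ L := L.inv_mem hg
  have hnm' : ¬ IsMono ((g⁻¹ : GL ι F) : Matrix ι ι F) := fun h => hnm (by
    have := isMono_inv g⁻¹ h
    simpa using this)
  set G : Matrix ι ι F := (g : Matrix ι ι F) with hG
  set t : ι → F := Pi.single c (1 : F) - α • Pi.single a (1 : F) - β • Pi.single b (1 : F) with ht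
  set κ : F := G i c - α * G i a - β * G i b with hκ
  have hgt : G *ᵥ t = Pi.single i κ := by
    ext x
    rw [ht, Matrix.mulVec_sub, Matrix.mulVec_sub, Matrix.mulVec_smul, Matrix.mulVec_smul,
      Matrix.mulVec_single_one, Matrix.mulVec_single_one, Matrix.mulVec_single_one]
    simp only [Pi.sub_apply, Pi.smul_apply, Matrix.col_apply, smul_eq_mul]
    by_cases hx : x = i
    · subst hx
      rw [Pi.single_eq_same]
    · rw [Pi.single_eq_of_ne hx, hw x hx]
      ring
  have hinv : ((g⁻¹ : GL ι F) : Matrix ι ι F) *ᵥ (Pi.single i κ) = t := by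
    rw [← hgt, Matrix.mulVec_mulVec, hG, ← Units.val_mul, inv_mul_cancel, Units.val_one,
      Matrix.one_mulVec]
  have hentry : ∀ y, ((g⁻¹ : GL ι F) : Matrix ι ι F) y i * κ = t y := by
    intro y
    have := congrFun hinv y
    rw [Matrix.mulVec_single] at this
    simpa using this
  have htc : t c = 1 := by
    rw [ht]
    simp [Pi.single_eq_of_ne hca, Pi.single_eq_of_ne hcb]
  have hκ0 : κ ≠ 0 := by
    intro h0
    have := hentry c
    rw [h0, mul_zero, htc] at this
    exact zero_ne_one this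
  have hzero : ∀ y, y ≠ a → y ≠ b → y ≠ c → ((g⁻¹ : GL ι F) : Matrix ι ι F) y i = 0 := by
    intro y hya hyb hyc
    have h := hentry y
    have hty : t y = 0 := by
      rw [ht]
      simp [Pi.single_eq_of_ne hya, Pi.single_eq_of_ne hyb, Pi.single_eq_of_ne hyc]
    rw [hty] at h
    rcases mul_eq_zero.mp h with h | h
    · exact h
    · exact absurd h hκ0
  obtain ⟨y1, hy1⟩ := exists_not_mem_ten (m := 3) (by omega) ([a, b, c] : List ι).toFinset
    (le_trans (List.toFinset_card_le _) (by simp))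
  obtain ⟨y2, hy2⟩ := exists_not_mem_ten (m := 4) (by omega) ([a, b, c, y1] : List ι).toFinset
    (le_trans (List.toFinset_card_le _) (by simp))
  simp only [List.mem_toFinset, List.mem_cons, List.not_mem_nil, or_false, not_or] at hy1 hy2
  exact hD g⁻¹ hginv hnm' i y1 y2 (Ne.symm hy2.2.2.2) (hzero y1 hy1.1 hy1.2.1 hy1.2.2)
    (hzero y2 hy2.1 hy2.2.1 hy2.2.2.1)

/-- K2e COMBINATORICS for `10 ≤ card ι` (pure linear algebra). -/
theorem false_of_comb_ten (h10 : 10 ≤ Fintype.card ι) (L : Subgroup (GL ι F)) (hD : ColDense L)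
    (g : GL ι F) (hg : g ∈ L) (hnm : ¬ IsMono (g : Matrix ι ι F))
    (a b c : ι) (hab : a ≠ b) (hca : c ≠ a) (hcb : c ≠ b)
    (hcomb : ∀ k l : ι, k ≠ l → ∃ (α β : F) (i : ι), ∀ x, x ≠ k → x ≠ l → x ≠ i →
      (g : Matrix ι ι F) x c = α * (g : Matrix ι ι F) x a + β * (g : Matrix ι ι F) x b) : False := by
  classical
  have hA := weight_ge_two_five (by omega) L hD g hg hnm a b c hca hcb
  set G : Matrix ι ι F := (g : Matrix ι ι F) with hG
  obtain ⟨α1, β1, i1, h1⟩ := hcomb a b hab
  obtain ⟨k2, hk2⟩ := exists_not_mem_ten (m := 3) (by omega) ([a, b, i1] : List ι).toFinset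
    (le_trans (List.toFinset_card_le _) (by simp))
  obtain ⟨l2, hl2⟩ := exists_not_mem_ten (m := 4) (by omega) ([a, b, i1, k2] : List ι).toFinset
    (le_trans (List.toFinset_card_le _) (by simp))
  simp only [List.mem_toFinset, List.mem_cons, List.not_mem_nil, or_false, not_or] at hk2 hl2
  obtain ⟨α2, β2, i2, h2⟩ := hcomb k2 l2 (Ne.symm hl2.2.2.2)
  by_cases hsame : α2 = α1 ∧ β2 = β1
  · obtain ⟨rfl, rfl⟩ := hsame
    refine hA α2 β2 i2 (fun x hx => ?_)
    by_cases hxk : x = k2 ∨ x = l2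
    · rcases hxk with rfl | rfl
      · exact h1 x hk2.1 hk2.2.1 hk2.2.2
      · exact h1 x hl2.1 hl2.2.1 hl2.2.2.1
    · push Not at hxk
      exact h2 x hxk.1 hxk.2 hx
  · -- the rows outside the two exceptional triples lie on a line
    have hDE : α1 - α2 ≠ 0 ∨ β1 - β2 ≠ 0 := by
      by_contra hcon
      push Not at hcon
      exact hsame ⟨(sub_eq_zero.mp hcon.1).symm, (sub_eq_zero.mp hcon.2).symm⟩
    have hline : ∀ x, x ≠ a → x ≠ b → x ≠ i1 → x ≠ k2 → x ≠ l2 → x ≠ i2 →
        (α1 - α2) * G x a + (β1 - β2) * G x b = 0 := by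
      intro x xa xb xi1 xk2 xl2 xi2
      have e1 := h1 x xa xb xi1
      have e2 := h2 x xk2 xl2 xi2
      linear_combination e2 - e1
    -- the third pair
    set E : Finset ι := ([a, b, i1, k2, l2, i2] : List ι).toFinset with hE
    have hEc : E.card ≤ 6 := le_trans (List.toFinset_card_le _) (by simp)
    have hEmem : ∀ x, x ∉ E ↔ (x ≠ a ∧ x ≠ b ∧ x ≠ i1 ∧ x ≠ k2 ∧ x ≠ l2 ∧ x ≠ i2) := by
      intro x
      simp only [hE, List.mem_toFinset, List.mem_cons, List.not_mem_nil, or_false, not_or]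
    -- `k3`: the zero of column `a` outside `E` if there is one
    obtain ⟨k3, hk3E, hk3z⟩ : ∃ k3, k3 ∉ E ∧ ∀ x, x ∉ E → x ≠ k3 → G x a ≠ 0 := by
      by_cases hz : ∃ z, z ∉ E ∧ G z a = 0
      · obtain ⟨z, hzE, hz0⟩ := hz
        refine ⟨z, hzE, fun x _ hxz hx0 => ?_⟩
        exact hD g hg hnm a x z hxz hx0 hz0
      · push Not at hz
        obtain ⟨k3, hk3⟩ := exists_not_mem_ten (m := 6) (by omega) E hEc
        exact ⟨k3, hk3, fun x hx _ => hz x hx⟩
    obtain ⟨l3, hl3⟩ := exists_not_mem_ten (m := 7) (by omega) (insert k3 E)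
      (le_trans (Finset.card_insert_le _ _) (by omega))
    rw [Finset.mem_insert, not_or] at hl3
    obtain ⟨hl3k, hl3E⟩ := hl3
    obtain ⟨α3, β3, i3, h3⟩ := hcomb k3 l3 (Ne.symm hl3k)
    obtain ⟨x0, hx0⟩ := exists_not_mem_ten (m := 9) (by omega) (insert i3 (insert l3 (insert k3 E)))
      (le_trans (Finset.card_insert_le _ _) (le_trans (Nat.succ_le_succ (Finset.card_insert_le _ _))
        (le_trans (Nat.succ_le_succ (Nat.succ_le_succ (Finset.card_insert_le _ _))) (by omega))))
    simp only [Finset.mem_insert, not_or] at hx0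
    obtain ⟨hx0i, hx0l, hx0k, hx0E⟩ := hx0
    have hs0 : G x0 a ≠ 0 := hk3z x0 hx0E hx0k
    have q0 := (hEmem x0).mp hx0E
    have e0 := hline x0 q0.1 q0.2.1 q0.2.2.1 q0.2.2.2.1 q0.2.2.2.2.1 q0.2.2.2.2.2
    have f0 : (α1 - α3) * G x0 a + (β1 - β3) * G x0 b = 0 := by
      have e1 := h1 x0 q0.1 q0.2.1 q0.2.2.1
      have e3 := h3 x0 hx0k hx0l hx0i
      linear_combination e3 - e1
    -- proportionality of the two linear forms
    have hprop : (β1 - β3) * (α1 - α2) = (β1 - β2) * (α1 - α3) := by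
      have : ((β1 - β3) * (α1 - α2) - (β1 - β2) * (α1 - α3)) * G x0 a = 0 := by
        linear_combination (β1 - β3) * e0 - (β1 - β2) * f0
      have h' := (mul_eq_zero.mp this).resolve_right hs0
      linear_combination h'
    have hrow : ∀ x, x ∉ E → G x c = α3 * G x a + β3 * G x b := by
      intro x hxE
      have q := (hEmem x).mp hxE
      have e := hline x q.1 q.2.1 q.2.2.1 q.2.2.2.1 q.2.2.2.2.1 q.2.2.2.2.2
      have e1 := h1 x q.1 q.2.1 q.2.2.1
      have key : (α1 - α3) * G x a + (β1 - β3) * G x b = 0 := by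
        rcases hDE with hD0 | hE0
        · have : (α1 - α2) * ((α1 - α3) * G x a + (β1 - β3) * G x b) = 0 := by
            linear_combination (α1 - α3) * e + (G x b) * hprop
          exact (mul_eq_zero.mp this).resolve_left hD0
        · have : (β1 - β2) * ((α1 - α3) * G x a + (β1 - β3) * G x b) = 0 := by
            linear_combination (β1 - β3) * e - (G x a) * hprop
          exact (mul_eq_zero.mp this).resolve_left hE0
      linear_combination e1 + key
    refine hA α3 β3 i3 (fun x hx => ?_)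
    by_cases hxk : x = k3 ∨ x = l3
    · rcases hxk with rfl | rfl
      · exact hrow x hk3E
      · exact hrow x hl3E
    · push Not at hxk
      exact h3 x hxk.1 hxk.2 hx

/-- K2 (assembly) for `10 ≤ card ι`: (D) forces `L` to be monomial. -/
theorem isMono_of_colDense_ten [Fintype F] (h10 : 10 ≤ Fintype.card ι) (L : Subgroup (GL ι F))
    (hD : ColDense L) (ζ : Fˣ) (r : ℕ) (hr : r.Prime) (hζ : orderOf ζ = r)
    (hz : ∀ k l : ι, k ≠ l → dg (tcc k l ζ) ∈ L) (g : GL ι F) (hg : g ∈ L) :
    IsMono (g : Matrix ι ι F) := by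
  by_contra hnm
  have h3 : ∃ a b c : ι, a ≠ b ∧ c ≠ a ∧ c ≠ b := by
    have : 2 < Fintype.card ι := by omega
    obtain ⟨a, b, c, hab, hac, hbc⟩ := Fintype.two_lt_card_iff.mp this
    exact ⟨a, b, c, hab, hac.symm, hbc.symm⟩
  obtain ⟨a, b, c, hab, hca, hcb⟩ := h3
  exact false_of_comb_ten h10 L hD g hg hnm a b c hab hca hcb
    (fun k l hkl => exists_comb (by omega) L hD ζ r hr hζ hz g hg a b c hab hca hcb k l hkl)

/-- `¬ WorldW L` for `10 ≤ card ι`. -/
theorem not_worldW_ten [Fintype F] (h10 : 10 ≤ Fintype.card ι) (Θ : Subgroup Fˣ)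
    (hΘ : 4 ≤ Nat.card Θ) (L : Subgroup (GL ι F)) (hT : HasTorus Θ L) (ζ : Fˣ) (hζΘ : ζ ∈ Θ)
    (r : ℕ) (hr : r.Prime) (hζ : orderOf ζ = r)
    (g : GL ι F) (hg : g ∈ L) (hnm : ¬ IsMono (g : Matrix ι ι F)) : ¬ WorldW L := by
  intro hW
  exact hnm (isMono_of_colDense_ten h10 L
    (Cfsg.Agent.Lib.Helper15.UDenseLeaf.colDense_of_worldW (by omega) Θ hΘ L hT hW) ζ r hr hζ
    (fun k l hkl => hT k l hkl ζ hζΘ) g hg)

end Cfsg.Agent.Lib.Helper16.SUgDense10
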