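import Cfsg.Agent.S5654

/-!
# Low-dimensional version of S5654 (non-degenerate subspace stabilisers are maximal in SU_n(q)) (helper16)

Verbatim copy of `Cfsg.Agent.S5654.S5654aux.main` (helper5) with the bound `13 ≤ n` relaxed to `6 ≤ n`.
-/

set_option autoImplicit false
set_option linter.unusedSectionVars false
set_option linter.unusedVariables false
set_option linter.unusedSimpArgs false

namespace Cfsg.Agent.Lib.Helper16.SUg
open Cfsg Matrix Cfsg.Agent.Lib.Helper14 Cfsg.Agent.Lib.Helper5.SpMax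
  Cfsg.Agent.Lib.Helper5.UForm Cfsg.Agent.Lib.Helper5.UEichler Cfsg.Agent.Lib.Helper5.HermBridge
  Cfsg.Agent.Lib.Helper5.SUGen Cfsg.Agent.Lib.Helper5.SUMax Cfsg.Agent.S5654.S5654aux

variable {F : Type*} [Field F] [Fintype F] {q n : ℕ}

theorem nd_main_low (hF : Fintype.card F = q ^ 2) (hn : 6 ≤ n) (W : Submodule F (Fin n → F))
    (hW0 : W ≠ ⊥) (hW : Cfsg.Geo.IsNondegenerateOn (Cfsg.hermForm n F q) W)
    (hdim : 2 * Module.finrank F W < n) :
    Cfsg.Geo.IsMaximalIn (Cfsg.GU n F q ⊓ Cfsg.Geo.specialLinear (Fin n) F)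
      (Cfsg.Geo.subspaceStabilizer W ⊓ (Cfsg.GU n F q ⊓ Cfsg.Geo.specialLinear (Fin n) F)) := by
  have hf := herm_unitary (n := n) hF
  have hWnd : ND (Cfsg.hermForm n F q) W := fun u hu hu0 => (hW u hu hu0).1
  have hPnd := ND_uperp hf hWnd
  have hfr := finrank_add hf hWnd
  have hPd : 4 ≤ Module.finrank F (uperp hf W) := by omega
  have hWP : ∀ w ∈ W, ∀ p ∈ uperp hf W, Cfsg.hermForm n F q w p = 0 :=
    fun w hw p hp => uperp_symm hf hp hw
  have hPW : ∀ p ∈ uperp hf W, ∀ w ∈ W, Cfsg.hermForm n F q p w = 0 := fun p hp w hw => hp w hw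
  refine ⟨?_, ?_⟩
  · rw [lt_iff_le_and_ne]
    refine ⟨inf_le_right, fun heq => ?_⟩
    obtain ⟨a, haW, ha0⟩ := (Submodule.ne_bot_iff W).mp hW0
    obtain ⟨b, hbP, hb0, hbb⟩ : ∃ b ∈ uperp hf W, b ≠ 0 ∧
        Cfsg.hermForm n F q b b = -(Cfsg.hermForm n F q a a) := by
      by_cases haa : Cfsg.hermForm n F q a a = 0
      · obtain ⟨e, heP, he0, hee⟩ := exists_iso hf hPnd (by omega)
        exact ⟨e, heP, he0, by rw [hee, haa, neg_zero]⟩
      · obtain ⟨u, huP, huu⟩ := exists_norm hf hPnd (by omega) (-(Cfsg.hermForm n F q a a))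
          (by rw [map_neg, u_self_fixed hf])
        refine ⟨u, huP, ?_, huu⟩
        rintro rfl
        rw [u_zero_left hf] at huu
        exact haa (by linear_combination huu)
    have hss : Cfsg.hermForm n F q (a + b) (a + b) = 0 := by
      rw [hf.add_left, u_add_right hf, u_add_right hf, hbb, hWP a haW b hbP, hPW b hbP a haW]
      ring
    obtain ⟨c, hc0, hc⟩ := exists_skew hf.involutive hf.ne_refl
    obtain ⟨g, hgG, hg⟩ := exists_tvg hF hss hc
    have hgH : g ∈ Cfsg.Geo.subspaceStabilizer W ⊓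
        (Cfsg.GU n F q ⊓ Cfsg.Geo.specialLinear (Fin n) F) := by rw [heq]; exact hgG
    obtain ⟨x, hxW, hxa⟩ := hWnd a haW ha0
    have h1 := (mem_stab.mp hgH.1 x).mp hxW
    have h2 : Cfsg.hermForm n F q x (a + b) = Cfsg.hermForm n F q x a := by
      rw [u_add_right hf, hWP x hxW b hbP, add_zero]
    rw [hg, h2, W.add_mem_iff_right hxW] at h1
    have h3 : a + b ∈ W := by
      have h4 := W.smul_mem (c * Cfsg.hermForm n F q x a)⁻¹ h1
      rwa [smul_smul, inv_mul_cancel₀ (mul_ne_zero hc0 hxa), one_smul] at h4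
    have h5 : b ∈ W := (W.add_mem_iff_right haW).mp h3
    exact hb0 (inf_uperp hf hWnd h5 hbP)
  · intro M hHM hMG
    by_cases hMH : M = Cfsg.Geo.subspaceStabilizer W ⊓
        (Cfsg.GU n F q ⊓ Cfsg.Geo.specialLinear (Fin n) F)
    · left; exact hMH
    right
    apply le_antisymm hMG
    obtain ⟨g, hgM, hgH⟩ : ∃ g ∈ M, g ∉ Cfsg.Geo.subspaceStabilizer W ⊓
        (Cfsg.GU n F q ⊓ Cfsg.Geo.specialLinear (Fin n) F) := by
      by_contra hcon
      push Not at hcon
      exact hMH (le_antisymm hcon hHM)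
    have hgS : g ∉ Cfsg.Geo.subspaceStabilizer W := fun h => hgH ⟨h, hMG hgM⟩
    have hgU : g ∈ Cfsg.GU n F q := (hMG hgM).1
    have hIW : ∀ x ∈ W, Cfsg.hermForm n F q x x = 0 → x ∈ Sset hF M :=
      fun x hx hxx => mem_Sset_of_mem hF hHM hx hxx
    have hIP : ∀ x ∈ uperp hf W, Cfsg.hermForm n F q x x = 0 → x ∈ Sset hF M :=
      fun x hx hxx => mem_Sset_of_perp hF hHM (fun w hw => uperp_symm hf hx hw) hxx
    obtain ⟨s, hsP, hss, hgsW, hgsP⟩ := exists_mixed hF hWnd (by omega) (by omega) hgU hgS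
    have hgsS := Sset_mulVec_mem hF hgM hgU (hIP s hsP hss)
    have hgss : Cfsg.hermForm n F q ((g : Matrix (Fin n) (Fin n) F) *ᵥ s)
        ((g : Matrix (Fin n) (Fin n) F) *ᵥ s) = 0 := by rw [mem_GU.mp hgU]; exact hss
    obtain ⟨a, haW, hbP⟩ := exists_decomp hf hWnd ((g : Matrix (Fin n) (Fin n) F) *ᵥ s)
    obtain ⟨b, hbdef⟩ : ∃ b, b = (g : Matrix (Fin n) (Fin n) F) *ᵥ s - a := ⟨_, rfl⟩
    rw [← hbdef] at hbP
    have hdec : (g : Matrix (Fin n) (Fin n) F) *ᵥ s = a + b := by rw [hbdef]; abel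
    rw [hdec] at hgsS hgss hgsW hgsP
    have ha0 : a ≠ 0 := by
      rintro rfl
      apply hgsP
      rw [zero_add]
      exact hbP
    have hb0 : b ≠ 0 := by
      rintro rfl
      apply hgsW
      rw [add_zero]
      exact haW
    obtain ⟨a', ha'W, b', hb'P, ha'a', hs's', hs'S⟩ : ∃ a' ∈ W, ∃ b' ∈ uperp hf W,
        Cfsg.hermForm n F q a' a' ≠ 0 ∧ Cfsg.hermForm n F q (a' + b') (a' + b') = 0 ∧
        a' + b' ∈ Sset hF M := by
      by_cases haa : Cfsg.hermForm n F q a a = 0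
      · have hbb : Cfsg.hermForm n F q b b = 0 := by
          have h4 := hgss
          rw [hf.add_left, u_add_right hf, u_add_right hf, haa, hWP a haW b hbP,
            hPW b hbP a haW] at h4
          linear_combination h4
        exact type1 hF hWnd (by omega) hIW hIP haW hbP ha0 hb0 haa hbb hgsS
      · exact ⟨a, haW, b, hbP, haa, hgss, hgsS⟩
    have hIU₁ := grow hF hWnd (by omega) (fun x hxx hx => hIP x hx hxx) ha'W ha'a' hb'P hs'S hs's'
    apply Cfsg.Agent.Lib.Helper5.SUMax.le_of_forall_mem_Sset hF (by omega) (by omega)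
    intro v hvv
    exact induct hF (by omega) hIW _ (W ⊓ pp hf a') inf_le_left
      (ND_noniso hf hWnd ha'W ha'a') rfl
      ⟨a', ha'W, fun w hw => u_symm_zero hf ((mem_pp hf).mp (Submodule.mem_inf.mp hw).2),
        ha'a'⟩ hIU₁ v hvv


end Cfsg.Agent.Lib.Helper16.SUg
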