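import Cfsg.Agent.Lib.Helper24.OSubB1


set_option autoImplicit false
set_option linter.unusedSectionVars false
set_option linter.unusedVariables false

namespace Cfsg.Agent.Lib.Helper16.SUgO
open Cfsg.Agent.Lib.Helper24.OSubLeaf
open Cfsg Matrix Cfsg.Agent.Lib.Helper5.SpMax
  Cfsg.Agent.Lib.Helper5.UForm Cfsg.Agent.Lib.Helper5.HermBridge
  Cfsg.Agent.Lib.Helper5.SUGen Cfsg.Agent.Lib.Helper5.SUMax Cfsg.Agent.Lib.Helper5.USub
  Cfsg.Agent.Lib.Helper17.OSub

variable {F : Type*} [Field F] [Fintype F] {q n : ℕ}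

section Rat
variable {hF : Fintype.card F = q ^ 2} {F₀ : Subfield F} {P : GL (Fin n) F}
  (S : Setup hF F₀ P)
include S

theorem exists_sing_perp_low (hn : 12 ≤ n) (y : Fin 5 → (Fin n → F)) (hy4 : y 4 = 0) :
    ∃ z, RS q F₀ P z ∧ ∀ i, Cfsg.hermForm n F q z (y i) = 0 := by
  have hf := herm_unitary (n := n) hF
  have h2 : Module.finrank F₀ F = 2 := finrank_eq_two hF F₀ S.card
  have h8 : Module.finrank F₀ (Fin 4 → F) = 8 := by
    rw [Module.finrank_pi_fintype]
    simp [h2]
  set L4 : (Fin n → F₀) →ₗ[F₀] (Fin 4 → F) :=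
    (LinearMap.funLeft F₀ F (Fin.castSucc : Fin 4 → Fin 5)).comp (Lmap hF F₀ P y) with hL4
  have hrn := LinearMap.finrank_range_add_finrank_ker L4
  rw [Module.finrank_fin_fun] at hrn
  have hle : Module.finrank F₀ (LinearMap.range L4) ≤ 8 := by
    rw [← h8]
    exact Submodule.finrank_le _
  have h3 : 3 ≤ Module.finrank F₀ (LinearMap.ker L4) := by omega
  obtain ⟨e, heK, he0, hQe⟩ := Cfsg.Agent.Lib.Helper15.exists_singular_in
    (LinearMap.BilinMap.toQuadraticMap (ratForm S)) (LinearMap.ker L4) h3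
  refine ⟨pm F₀ P e, ⟨isRat_pm _ _ e, ?_, ?_⟩, ?_⟩
  · intro h0
    apply he0
    apply pm_injective F₀ P
    rw [h0, map_zero]
  · rw [LinearMap.BilinMap.toQuadraticMap_apply] at hQe
    have := congrArg (fun t : F₀ => (t : F)) hQe
    simpa [ratForm_apply] using this
  · intro i
    have hk := LinearMap.mem_ker.1 heK
    refine Fin.lastCases ?_ (fun j => ?_) i
    · have h4 : (Fin.last 4 : Fin 5) = 4 := rfl
      rw [h4, hy4, u_zero_right hf]
    · have := congrFun hk j
      exact this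

end Rat

end Cfsg.Agent.Lib.Helper16.SUgO
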