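import Cfsg.Agent.Lib.Helper17.OSubF


set_option autoImplicit false
set_option linter.unusedSectionVars false
set_option linter.unusedVariables false

namespace Cfsg.Agent.Lib.Helper16.SUgO
open Cfsg.Agent.Lib.Helper17.OSubLeaf
open Cfsg Matrix Cfsg.Agent.Lib.Helper5.SpMax
  Cfsg.Agent.Lib.Helper5.UForm Cfsg.Agent.Lib.Helper5.HermBridge
  Cfsg.Agent.Lib.Helper5.SUGen Cfsg.Agent.Lib.Helper5.SUMax Cfsg.Agent.Lib.Helper5.USub
  Cfsg.Agent.Lib.Helper17.OSub

variable {F : Type*} [Field F] [Fintype F] {q n : ℕ}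

section Rat
variable {hF : Fintype.card F = q ^ 2} {F₀ : Subfield F} {P : GL (Fin n) F}
  (S : Setup hF F₀ P)
include S

/-- LEAF F. -/
theorem tv_not_mem_low (hn : 12 ≤ n) {z : Fin n → F} (hz : RS q F₀ P z) {c : F}
    (hc : frobQ hF c = -c) (hc0 : c ≠ 0) {t : GL (Fin n) F} (ht : IsTv q t z c) :
    t ∉ Cfsg.Geo.subfieldSubgroup F₀ P := by
  have hf := herm_unitary (n := n) hF
  intro hmem
  obtain ⟨hzr, hz0, hzz⟩ := hz
  obtain ⟨μ, hμ0, hμ⟩ := rat_of_mem_subfield t hmem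
  -- μ is rational
  have hμF : μ ∈ F₀ := by
    obtain ⟨r, hr, htr⟩ := hμ z hzr
    rw [ht, hzz, mul_zero, zero_smul, add_zero] at htr
    have hr0 : r ≠ 0 := by
      intro h0
      apply hz0
      rw [htr, h0, smul_zero]
    apply smul_rat_mem hr hr0
    rw [← htr]
    exact hzr
  obtain ⟨p, hp, hzp⟩ := S.nd hzr hz0
  have hpz : Cfsg.hermForm n F q p z ≠ 0 := u_symm_ne hf hzp
  obtain ⟨r, hr, htr⟩ := hμ p hp
  rw [ht] at htr
  have h1 : IsRat F₀ P ((c * Cfsg.hermForm n F q p z) • z) := by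
    have : (c * Cfsg.hermForm n F q p z) • z = μ • r - p := by
      rw [← htr]; abel
    rw [this]
    exact isRat_sub (isRat_smul hμF hr) hp
  have h2 := smul_rat_mem hzr hz0 h1
  have h3 : c ∈ F₀ := by
    have : c = c * Cfsg.hermForm n F q p z / Cfsg.hermForm n F q p z := by
      rw [mul_div_cancel_right₀ _ hpz]
    rw [this]
    exact F₀.div_mem h2 (S.form p z hp hzr)
  have h4 := (S.fix_iff c).mp h3
  rw [hc] at h4
  have h5 : (2 : F) * c = 0 := by linear_combination -h4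
  rcases mul_eq_zero.mp h5 with h | h
  · exact S.two_ne_zero h
  · exact hc0 h

end Rat

end Cfsg.Agent.Lib.Helper16.SUgO
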