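import Cfsg.Agent.Lib.Helper24.OSubB1

/-!
Orthogonal-type subfield subgroup of `SU_n(q)`, `q` odd, low dimension (`7 ≤ n`): the
Chevalley-Warning leaf B1 in the two forms that are actually used by the S5659 argument:
a rational isotropic vector orthogonal to TWO arbitrary vectors, or to FOUR rational vectors
(either way four `F₀`-linear conditions).
-/

set_option autoImplicit false
set_option linter.unusedSectionVars false
set_option linter.unusedVariables false

namespace Cfsg.Agent.Lib.Helper16.SUgOT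
open Cfsg.Agent.Lib.Helper24.OSubLeaf
open Cfsg Matrix Cfsg.Agent.Lib.Helper5.SpMax
  Cfsg.Agent.Lib.Helper5.UForm Cfsg.Agent.Lib.Helper5.HermBridge
  Cfsg.Agent.Lib.Helper5.SUGen Cfsg.Agent.Lib.Helper5.SUMax Cfsg.Agent.Lib.Helper5.USub
  Cfsg.Agent.Lib.Helper17.OSub

variable {F : Type*} [Field F] [Fintype F] {q n : ℕ}

section Rat
variable {hF : Fintype.card F = q ^ 2} {F₀ : Subfield F} {P : GL (Fin n) F}
  (S : Setup hF F₀ P)
include S

/-- a rational isotropic vector in any `F₀`-subspace of dimension at least three -/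
theorem exists_sing_in (K : Submodule F₀ (Fin n → F₀)) (h3 : 3 ≤ Module.finrank F₀ K) :
    ∃ e ∈ K, RS q F₀ P (pm F₀ P e) := by
  obtain ⟨e, heK, he0, hQe⟩ := Cfsg.Agent.Lib.Helper15.exists_singular_in
    (LinearMap.BilinMap.toQuadraticMap (ratForm S)) K h3
  refine ⟨e, heK, isRat_pm _ _ e, ?_, ?_⟩
  · intro h0
    apply he0
    apply pm_injective F₀ P
    rw [h0, map_zero]
  · rw [LinearMap.BilinMap.toQuadraticMap_apply] at hQe
    have := congrArg (fun t : F₀ => (t : F)) hQe
    simpa [ratForm_apply] using this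

/-- a rational isotropic vector in the kernel of an `F₀`-linear map of small rank -/
theorem exists_sing_ker {W : Type*} [AddCommGroup W] [Module F₀ W] [Module.Finite F₀ W]
    (L : (Fin n → F₀) →ₗ[F₀] W) (h : Module.finrank F₀ W + 3 ≤ n) :
    ∃ e, L e = 0 ∧ RS q F₀ P (pm F₀ P e) := by
  have hrn := LinearMap.finrank_range_add_finrank_ker L
  rw [Module.finrank_fin_fun] at hrn
  have hle : Module.finrank F₀ (LinearMap.range L) ≤ Module.finrank F₀ W :=
    Submodule.finrank_le _
  have h3 : 3 ≤ Module.finrank F₀ (LinearMap.ker L) := by omega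
  obtain ⟨e, heK, he⟩ := exists_sing_in S (LinearMap.ker L) h3
  exact ⟨e, LinearMap.mem_ker.1 heK, he⟩

/-- B1a: a rational isotropic vector orthogonal to two arbitrary vectors. -/
theorem exists_sing_perp_two (hn : 7 ≤ n) (y0 y1 : Fin n → F) :
    ∃ z, RS q F₀ P z ∧ Cfsg.hermForm n F q z y0 = 0 ∧ Cfsg.hermForm n F q z y1 = 0 := by
  have h2 : Module.finrank F₀ F = 2 := finrank_eq_two hF F₀ S.card
  haveI : Module.Finite F₀ F := Module.finite_of_finrank_pos (by omega)
  have h4 : Module.finrank F₀ (Fin 2 → F) = 4 := by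
    rw [Module.finrank_pi_fintype]
    simp [h2]
  set L2 : (Fin n → F₀) →ₗ[F₀] (Fin 2 → F) :=
    (LinearMap.funLeft F₀ F (Fin.castLE (by omega : 2 ≤ 5))).comp
      (Lmap hF F₀ P ![y0, y1, 0, 0, 0]) with hL2
  obtain ⟨e, heK, he⟩ := exists_sing_ker S L2 (by omega)
  refine ⟨pm F₀ P e, he, ?_, ?_⟩
  · have := congrFun heK 0
    exact this
  · have := congrFun heK 1
    exact this

/-- B1r: a rational isotropic vector orthogonal to four rational vectors. -/
theorem exists_sing_perp_rat (hn : 7 ≤ n) (y : Fin 4 → (Fin n → F))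
    (hy : ∀ i, IsRat F₀ P (y i)) :
    ∃ z, RS q F₀ P z ∧ ∀ i, Cfsg.hermForm n F q z (y i) = 0 := by
  set f : Fin 4 → (Fin n → F₀) := fun i j =>
    ⟨(((P⁻¹ : GL (Fin n) F) : Matrix (Fin n) (Fin n) F) *ᵥ (y i)) j, hy i j⟩ with hf
  have hpf : ∀ i, pm F₀ P (f i) = y i := by
    intro i
    rw [pm_apply]
    exact mul_inv_mulVec P (y i)
  set L4 : (Fin n → F₀) →ₗ[F₀] (Fin 4 → F₀) :=
    LinearMap.pi (fun i => (ratForm S).flip (f i)) with hL4
  obtain ⟨e, heK, he⟩ := exists_sing_ker S L4 (by rw [Module.finrank_fin_fun]; omega)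
  refine ⟨pm F₀ P e, he, fun i => ?_⟩
  have h1 : ratForm S e (f i) = 0 := congrFun heK i
  have h2 := congrArg (fun t : F₀ => (t : F)) h1
  simp only [ratForm_apply, hpf] at h2
  simpa using h2

end Rat

end Cfsg.Agent.Lib.Helper16.SUgOT
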