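import Cfsg.Agent.Lib.Helper17.OSubC1


set_option autoImplicit false
set_option linter.unusedSectionVars false
set_option linter.unusedVariables false

namespace Cfsg.Agent.Lib.Helper16.SUgOT
open Cfsg.Agent.Lib.Helper17.OSubLeaf
open Cfsg Matrix Cfsg.Agent.Lib.Helper5.SpMax
  Cfsg.Agent.Lib.Helper5.UForm Cfsg.Agent.Lib.Helper5.HermBridge
  Cfsg.Agent.Lib.Helper5.SUGen Cfsg.Agent.Lib.Helper5.SUMax Cfsg.Agent.Lib.Helper5.USub
  Cfsg.Agent.Lib.Helper17.OSub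

variable {F : Type*} [Field F] [Fintype F] {q n : ℕ}

section Rat
variable {hF : Fintype.card F = q ^ 2} {F₀ : Subfield F} {P : GL (Fin n) F}
  (S : Setup hF F₀ P)
include S

variable {M : Subgroup (GL (Fin n) F)}

/-- LEAF C1 (scaling). -/
theorem sset_of_tv_ten (hn : 7 ≤ n)
    (hHM : Cfsg.Geo.subfieldSubgroup F₀ P ⊓
      (Cfsg.GU n F q ⊓ Cfsg.Geo.specialLinear (Fin n) F) ≤ M)
    {z : Fin n → F} (hz : RS q F₀ P z) {c : F} (hc : frobQ hF c = -c) (hc0 : c ≠ 0)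
    {t : GL (Fin n) F} (ht : IsTv q t z c) (htM : t ∈ M) : z ∈ Sset hF M := by
  have hf := herm_unitary (n := n) hF
  obtain ⟨z', hz', hzz'⟩ := partner' S hz
  obtain ⟨hzr, hz0, hzz⟩ := hz
  obtain ⟨hz'r, hz'0, hz'z'⟩ := hz'
  -- for every s in F₀ an element of M acting as t_{z, c s²}
  have key : ∀ s : F, s ∈ F₀ → ∃ t' : GL (Fin n) F, t' ∈ M ∧ IsTv q t' z (c * (s * s)) := by
    intro s hs
    by_cases hs0 : s = 0
    · refine ⟨1, M.one_mem, fun x => ?_⟩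
      rw [hs0, mul_zero, mul_zero, zero_mul, zero_smul, add_zero, Units.val_one,
        Matrix.one_mulVec]
    have hsf : frobQ hF s = s := (S.fix_iff s).mp hs
    obtain ⟨D, hDG, hD⟩ := exists_dil hF hzz hz'z' hzz' hs0 hsf
    have hDH : D ∈ Cfsg.Geo.subfieldSubgroup F₀ P ⊓
        (Cfsg.GU n F q ⊓ Cfsg.Geo.specialLinear (Fin n) F) := by
      apply S.mem_H_of_maps (by omega) hDG
      intro x hx
      rw [hD]
      refine isRat_add (isRat_add hx (isRat_smul ?_ hzr)) (isRat_smul ?_ hz'r)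
      · exact F₀.mul_mem (F₀.sub_mem hs F₀.one_mem) (S.form x z' hx hz'r)
      · exact F₀.mul_mem (F₀.sub_mem (F₀.inv_mem hs) F₀.one_mem) (S.form x z hx hzr)
    have hDM : D ∈ M := hHM hDH
    have hDz : (D : Matrix (Fin n) (Fin n) F) *ᵥ z = s • z := by
      rw [hD, hzz', hzz]
      module
    have h1 := tv_conj hF hDG.1 ht
    rw [hDz] at h1
    have h2 := tv_smul hF h1
    rw [hsf] at h2
    exact ⟨D * t * D⁻¹, M.mul_mem (M.mul_mem hDM htM) (M.inv_mem hDM), h2⟩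
  intro c' hc' g hg
  have hr : c' / c ∈ F₀ := by
    rw [S.fix_iff, map_div₀, hc, hc', neg_div_neg_eq]
  have h2m : (2 : F)⁻¹ ∈ F₀ := two_inv_mem F₀
  obtain ⟨t₁, ht₁M, ht₁⟩ := key ((c' / c + 1) * 2⁻¹)
    (F₀.mul_mem (F₀.add_mem hr F₀.one_mem) h2m)
  obtain ⟨t₂, ht₂M, ht₂⟩ := key ((c' / c - 1) * 2⁻¹)
    (F₀.mul_mem (F₀.sub_mem hr F₀.one_mem) h2m)
  have h3 := tv_mul' hF hzz ht₁ (tv_inv' hF hzz ht₂)
  have hcc : c * ((c' / c + 1) * 2⁻¹ * ((c' / c + 1) * 2⁻¹)) +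
      -(c * ((c' / c - 1) * 2⁻¹ * ((c' / c - 1) * 2⁻¹))) = c' := by
    have h22 : (2 : F) * 2⁻¹ = 1 := mul_inv_cancel₀ S.two_ne_zero
    have hcd : c * (c' / c) = c' := mul_div_cancel₀ _ hc0
    linear_combination (4 * 2⁻¹ * 2⁻¹) * hcd + (c' * (2 * 2⁻¹ + 1)) * h22
  rw [hcc] at h3
  have hg' : IsTv q g z c' := hg
  rw [tv_unique' hg' h3]
  exact M.mul_mem ht₁M (M.inv_mem ht₂M)

end Rat

end Cfsg.Agent.Lib.Helper16.SUgOT
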