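import Cfsg.Agent.Lib.Helper9.OSubC2core


set_option autoImplicit false
set_option linter.unusedSectionVars false
set_option linter.unusedVariables false

namespace Cfsg.Agent.Lib.Helper16.SUgOT
open Cfsg.Agent.Lib.Helper9.OSubLeaf
open Cfsg Matrix Cfsg.Agent.Lib.Helper5.SpMax
  Cfsg.Agent.Lib.Helper5.UForm Cfsg.Agent.Lib.Helper5.HermBridge
  Cfsg.Agent.Lib.Helper5.SUGen Cfsg.Agent.Lib.Helper5.SUMax Cfsg.Agent.Lib.Helper5.USub
  Cfsg.Agent.Lib.Helper17.OSub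

variable {F : Type*} [Field F] [Fintype F] {q n : ℕ}

section Rat
variable {hF : Fintype.card F = q ^ 2} {F₀ : Subfield F} {P : GL (Fin n) F}
  (S : Setup hF F₀ P)
include S

variable {M : Subgroup (GL (Fin n) F)}

/-- LEAF C2, core version (A1, B4, B1 as hypotheses). -/
theorem sset_trans_core_ten
    (hA1 : ∀ {z w : Fin n → F}, Cfsg.hermForm n F q z z = 0 → Cfsg.hermForm n F q w z = 0 →
      ∃ g : GL (Fin n) F, g ∈ Cfsg.GU n F q ⊓ Cfsg.Geo.specialLinear (Fin n) F ∧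
        IsSiegel q g z w)
    (hB4 : ∀ {g : GL (Fin n) F} {z w : Fin n → F}, IsRat F₀ P z → IsRat F₀ P w →
      g ∈ Cfsg.GU n F q ⊓ Cfsg.Geo.specialLinear (Fin n) F → IsSiegel q g z w →
      g ∈ Cfsg.Geo.subfieldSubgroup F₀ P ⊓
        (Cfsg.GU n F q ⊓ Cfsg.Geo.specialLinear (Fin n) F))
    (hB1r : ∀ (y : Fin 4 → (Fin n → F)), (∀ i, IsRat F₀ P (y i)) →
      ∃ z, RS q F₀ P z ∧ ∀ i, Cfsg.hermForm n F q z (y i) = 0)
    (hHM : Cfsg.Geo.subfieldSubgroup F₀ P ⊓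
      (Cfsg.GU n F q ⊓ Cfsg.Geo.specialLinear (Fin n) F) ≤ M)
    {z₀ z₁ : Fin n → F} (h₀ : RS q F₀ P z₀) (h₁ : RS q F₀ P z₁) (hm : z₀ ∈ Sset hF M) :
    z₁ ∈ Sset hF M := by
  obtain ⟨z₄, h₄, hy⟩ := hB1r ![z₀, z₁, 0, 0]
    (by intro i; fin_cases i <;> simp [h₀.1, h₁.1, isRat_zero])
  have h40 : Cfsg.hermForm n F q z₄ z₀ = 0 := by simpa using hy 0
  have h41 : Cfsg.hermForm n F q z₄ z₁ = 0 := by simpa using hy 1
  have h14 : Cfsg.hermForm n F q z₁ z₄ = 0 := by rw [S.sym h₄.1 h₁.1]; exact h41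
  have hm4 : z₄ ∈ Sset hF M := sset_step S hA1 hB4 hHM h₀ h₄ h40 hm
  exact sset_step S hA1 hB4 hHM h₄ h₁ h14 hm4

end Rat

end Cfsg.Agent.Lib.Helper16.SUgOT
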