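import Cfsg.Agent.Lib.Helper9.OSubC2
import Cfsg.Agent.Lib.Helper16.SUgOTC2core
import Cfsg.Agent.Lib.Helper16.SUgOTB1


set_option autoImplicit false
set_option linter.unusedSectionVars false
set_option linter.unusedVariables false

namespace Cfsg.Agent.Lib.Helper16.SUgOT
open Cfsg.Agent.Lib.Helper9.OSubLeaf
open Cfsg Matrix Cfsg.Agent.Lib.Helper5.SpMax
  Cfsg.Agent.Lib.Helper5.UForm Cfsg.Agent.Lib.Helper5.HermBridge
  Cfsg.Agent.Lib.Helper5.SUGen Cfsg.Agent.Lib.Helper5.SUMax Cfsg.Agent.Lib.Helper5.USub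
  Cfsg.Agent.Lib.Helper17.OSub

variable {F : Type*} [Field F] [Fintype F] {q n : ℕ}

section Rat
variable {hF : Fintype.card F = q ^ 2} {F₀ : Subfield F} {P : GL (Fin n) F}
  (S : Setup hF F₀ P)
include S

variable {M : Subgroup (GL (Fin n) F)}

/-- LEAF C2 (transitivity): rational Siegel elements move rational isotropic points around. -/
theorem sset_trans_ten (hn : 7 ≤ n)
    (hHM : Cfsg.Geo.subfieldSubgroup F₀ P ⊓
      (Cfsg.GU n F q ⊓ Cfsg.Geo.specialLinear (Fin n) F) ≤ M)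
    {z₀ z₁ : Fin n → F} (h₀ : RS q F₀ P z₀) (h₁ : RS q F₀ P z₁) (hm : z₀ ∈ Sset hF M) :
    z₁ ∈ Sset hF M :=
  sset_trans_core_ten S
    (fun hzz hwz => Cfsg.Agent.Lib.Helper17.OSubLeaf.exists_siegel hF S.two_ne_zero hzz hwz)
    (fun hz hw hg hs => Cfsg.Agent.Lib.Helper17.OSubLeaf.siegel_mem_H S (by omega) hz hw hg hs)
    (fun y hy => Cfsg.Agent.Lib.Helper16.SUgOT.exists_sing_perp_rat S hn y hy) hHM h₀ h₁ hm

end Rat

end Cfsg.Agent.Lib.Helper16.SUgOT
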