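import Cfsg.Agent.Lib.Helper13.OSubD12


set_option autoImplicit false
set_option linter.unusedSectionVars false
set_option linter.unusedVariables false

namespace Cfsg.Agent.Lib.Helper16.SUgOT
open Cfsg.Agent.Lib.Helper13.OSubLeaf
open Cfsg Matrix Cfsg.Agent.Lib.Helper5.SpMax
  Cfsg.Agent.Lib.Helper5.UForm Cfsg.Agent.Lib.Helper5.HermBridge
  Cfsg.Agent.Lib.Helper5.SUGen Cfsg.Agent.Lib.Helper5.SUMax Cfsg.Agent.Lib.Helper5.USub
  Cfsg.Agent.Lib.Helper17.OSub Cfsg.Agent.Lib.Helper17.OSubLeaf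
  Cfsg.Agent.Lib.Helper29.OSubLeaf Cfsg.Agent.Lib.Helper6.OSubLeaf

variable {F : Type*} [Field F] [Fintype F] {q n : ℕ}


section Rat
variable {hF : Fintype.card F = q ^ 2} {F₀ : Subfield F} {P : GL (Fin n) F}
  (S : Setup hF F₀ P)
include S

variable {M : Subgroup (GL (Fin n) F)}

/-- LEAF D1. -/
theorem rat_on_perp_ten (hn : 7 ≤ n)
    (hHM : Cfsg.Geo.subfieldSubgroup F₀ P ⊓
      (Cfsg.GU n F q ⊓ Cfsg.Geo.specialLinear (Fin n) F) ≤ M)
    (hMG : M ≤ Cfsg.GU n F q ⊓ Cfsg.Geo.specialLinear (Fin n) F) (hNT : NT hF F₀ P M)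
    {g : GL (Fin n) F} (hg : g ∈ M) {z z' : Fin n → F} {l : F} (hz : RS q F₀ P z)
    (hz' : IsRat F₀ P z') (hgz : (g : Matrix (Fin n) (Fin n) F) *ᵥ z = l • z')
    {w : Fin n → F} (hw : IsRat F₀ P w) (hwz : Cfsg.hermForm n F q w z = 0) :
    IsRat F₀ P (frobQ hF l • ((g : Matrix (Fin n) (Fin n) F) *ᵥ w)) := by
  have hf := herm_unitary (n := n) hF
  have h2 := S.two_ne_zero
  obtain ⟨hzr, hz0, hzz⟩ := hz
  have hgG := hMG hg
  have hgU : g ∈ Cfsg.GU n F q := hgG.1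
  obtain ⟨hl0, hz'0⟩ := ne_zero_of_map hz0 hgz
  have hform := form_img hF hgU hl0 hgz
  have hz'z' := iso_img hF hgU hl0 hgz hzz
  have hz'RS : RS q F₀ P z' := ⟨hz', hz'0, hz'z'⟩
  -- the Siegel element `E_{z,w}`
  obtain ⟨E, hEG, hE⟩ := exists_siegel hF h2 hzz hwz
  have hEM : E ∈ M := hHM (siegel_mem_H S (by omega) hzr hw hEG hE)
  obtain ⟨y, hy⟩ : ∃ y, y = frobQ hF l • ((g : Matrix (Fin n) (Fin n) F) *ᵥ w) := ⟨_, rfl⟩
  rw [← hy]
  have hE1 : IsSiegel q (g * E * g⁻¹) z' y := by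
    have := siegel_conj hF hgU hE
    rw [hgz] at this
    rw [hy]
    exact siegel_smul hF this
  have hE1M : g * E * g⁻¹ ∈ M := M.mul_mem (M.mul_mem hg hEM) (M.inv_mem hg)
  have hyz' : Cfsg.hermForm n F q y z' = 0 := by
    rw [hy, hf.smul_left, hform, hwz, mul_zero, mul_zero]
  -- `h y w' ∈ F₀` for rational `w' ⊥ z'`
  have key : ∀ w', IsRat F₀ P w' → Cfsg.hermForm n F q w' z' = 0 →
      Cfsg.hermForm n F q y w' ∈ F₀ := by
    intro w' hw' hw'z'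
    obtain ⟨E2, hE2G, hE2⟩ := exists_siegel hF h2 hz'z' hw'z'
    have hE2M : E2 ∈ M := hHM (siegel_mem_H S (by omega) hz' hw' hE2G hE2)
    have hcomm := siegel_comm hF h2 hz'z' hyz' hw'z' hE1 hE2
    have hcM : (g * E * g⁻¹) * E2 * (g * E * g⁻¹)⁻¹ * E2⁻¹ ∈ M :=
      M.mul_mem (M.mul_mem (M.mul_mem hE1M hE2M) (M.inv_mem hE1M)) (M.inv_mem hE2M)
    have hskew : frobQ hF (Cfsg.hermForm n F q y w' - Cfsg.hermForm n F q w' y) =
        -(Cfsg.hermForm n F q y w' - Cfsg.hermForm n F q w' y) := by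
      rw [map_sub, ← hf.herm, ← hf.herm]
      ring
    have h0 := hNT z' _ _ hz'RS hskew hcomm hcM
    rw [S.fix_iff, ← hf.herm]
    linear_combination -h0
  -- decompose `y`
  obtain ⟨ζ, hζ0, hζ⟩ := S.exists_zeta
  have hω := S.zeta_moved hζ0 hζ
  obtain ⟨y1, y2, hy1, hy2, hyd⟩ := S.decomp_vec hω y
  obtain ⟨s0, hs0, hy2e⟩ := eq_smul_of_perp S hz' hz'0 hy2 (perp_of_mem S hω hy1 hy2 hyd key)
  have hy1z' : Cfsg.hermForm n F q y1 z' = 0 := by
    have := hyz'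
    rw [hyd, hf.add_left, hf.smul_left, hy2e, hf.smul_left, hz'z', mul_zero, mul_zero,
      add_zero] at this
    exact this
  obtain ⟨E3, hE3G, hE3⟩ := exists_siegel hF h2 hz'z' hy1z'
  have hE3M : E3 ∈ M := hHM (siegel_mem_H S (by omega) hz' hy1 hE3G hE3)
  have hε : frobQ hF (ζ * s0) = -(ζ * s0) := by
    rw [map_mul, hζ, (S.fix_iff s0).mp hs0]
    ring
  have hE1' : IsSiegel q (g * E * g⁻¹) z' (y1 + (ζ * s0) • z') := by
    have : y1 + (ζ * s0) • z' = y := by rw [hyd, hy2e, smul_smul]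
    rw [this]
    exact hE1
  have htv := siegel_add_center hF h2 hz'z' hy1z' hε hE1' hE3
  have htvM : (g * E * g⁻¹) * E3⁻¹ ∈ M := M.mul_mem hE1M (M.inv_mem hE3M)
  have hskew2 : frobQ hF (2 * (ζ * s0)) = -(2 * (ζ * s0)) := by
    rw [map_mul, hε, map_ofNat]
    ring
  have h0 := hNT z' _ _ hz'RS hskew2 htv htvM
  have hs00 : s0 = 0 := by
    rcases mul_eq_zero.mp h0 with h | h
    · exact absurd h h2
    · rcases mul_eq_zero.mp h with h | h
      · exact absurd h hζ0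
      · exact h
  rw [hyd, hy2e, hs00, zero_smul, smul_zero, add_zero]
  exact hy1

/-- LEAF D2. -/
theorem mem_of_maps_sing_ten (hn : 7 ≤ n)
    (hHM : Cfsg.Geo.subfieldSubgroup F₀ P ⊓
      (Cfsg.GU n F q ⊓ Cfsg.Geo.specialLinear (Fin n) F) ≤ M)
    (hMG : M ≤ Cfsg.GU n F q ⊓ Cfsg.Geo.specialLinear (Fin n) F) (hNT : NT hF F₀ P M)
    {g : GL (Fin n) F} (hg : g ∈ M) {z z' : Fin n → F} {l : F} (hz : RS q F₀ P z)
    (hz' : IsRat F₀ P z') (hgz : (g : Matrix (Fin n) (Fin n) F) *ᵥ z = l • z') :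
    g ∈ Cfsg.Geo.subfieldSubgroup F₀ P := by
  have hf := herm_unitary (n := n) hF
  have hzRS := hz
  obtain ⟨hzr, hz0, hzz⟩ := hz
  have hgG := hMG hg
  have hgU : g ∈ Cfsg.GU n F q := hgG.1
  obtain ⟨hl0, hz'0⟩ := ne_zero_of_map hz0 hgz
  have hσl0 : frobQ hF l ≠ 0 := (map_ne_zero (frobQ hF)).mpr hl0
  have hform := form_img hF hgU hl0 hgz
  have hz'z' := iso_img hF hgU hl0 hgz hzz
  have hz'RS : RS q F₀ P z' := ⟨hz', hz'0, hz'z'⟩
  -- partner of `z`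
  obtain ⟨zs, hzs, hzzs⟩ := exists_partner S hzRS
  have hzsz : Cfsg.hermForm n F q zs z = 1 := by rw [hf.herm, hzzs, map_one]
  -- `g⁻¹ z' = l⁻¹ • z`
  have hginv : ((g⁻¹ : GL (Fin n) F) : Matrix (Fin n) (Fin n) F) *ᵥ z' = l⁻¹ • z := by
    have : ((g⁻¹ : GL (Fin n) F) : Matrix (Fin n) (Fin n) F) *ᵥ (l • z') = z := by
      rw [← hgz, inv_mul_mulVec]
    rw [Matrix.mulVec_smul] at this
    rw [← this, smul_smul, inv_mul_cancel₀ hl0, one_smul]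
  have hD1inv : ∀ r, IsRat F₀ P r → Cfsg.hermForm n F q r z' = 0 →
      IsRat F₀ P (frobQ hF l⁻¹ • (((g⁻¹ : GL (Fin n) F) : Matrix (Fin n) (Fin n) F) *ᵥ r)) :=
    fun r hr hrz' => rat_on_perp_ten S hn hHM hMG hNT (M.inv_mem hg) hz'RS hzr hginv hr hrz'
  obtain ⟨y, hy⟩ : ∃ y, y = frobQ hF l • ((g : Matrix (Fin n) (Fin n) F) *ᵥ zs) := ⟨_, rfl⟩
  have key : ∀ r, IsRat F₀ P r → Cfsg.hermForm n F q r z' = 0 →
      Cfsg.hermForm n F q y r ∈ F₀ := by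
    intro r hr hrz'
    have h1 := hD1inv r hr hrz'
    have e1 : Cfsg.hermForm n F q ((g : Matrix (Fin n) (Fin n) F) *ᵥ zs) r =
        Cfsg.hermForm n F q zs (((g⁻¹ : GL (Fin n) F) : Matrix (Fin n) (Fin n) F) *ᵥ r) := by
      have := mem_GU.mp hgU zs (((g⁻¹ : GL (Fin n) F) : Matrix (Fin n) (Fin n) F) *ᵥ r)
      rw [mul_inv_mulVec] at this
      exact this
    have e2 : Cfsg.hermForm n F q zs
        (frobQ hF l⁻¹ • (((g⁻¹ : GL (Fin n) F) : Matrix (Fin n) (Fin n) F) *ᵥ r)) =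
        l⁻¹ * Cfsg.hermForm n F q zs
          (((g⁻¹ : GL (Fin n) F) : Matrix (Fin n) (Fin n) F) *ᵥ r) := by
      rw [u_smul_right hf, hf.involutive]
    have e3 : Cfsg.hermForm n F q y r = (l * frobQ hF l) * Cfsg.hermForm n F q zs
        (frobQ hF l⁻¹ • (((g⁻¹ : GL (Fin n) F) : Matrix (Fin n) (Fin n) F) *ᵥ r)) := by
      rw [hy, hf.smul_left, e1, e2, mul_comm l, mul_assoc, ← mul_assoc l,
        mul_inv_cancel₀ hl0, one_mul]
    rw [e3]
    apply F₀.mul_mem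
    · rw [S.fix_iff, map_mul, hf.involutive]
      ring
    · exact S.form _ _ hzs.1 h1
  obtain ⟨ζ, hζ0, hζ⟩ := S.exists_zeta
  have hω := S.zeta_moved hζ0 hζ
  obtain ⟨y1, y2, hy1, hy2, hyd⟩ := S.decomp_vec hω y
  obtain ⟨s0, hs0, hy2e⟩ := eq_smul_of_perp S hz' hz'0 hy2 (perp_of_mem S hω hy1 hy2 hyd key)
  have hc : frobQ hF (-(s0 * ζ)) = -(-(s0 * ζ)) := by
    rw [map_neg, map_mul, hζ, (S.fix_iff s0).mp hs0]
    ring
  obtain ⟨tm, htmG, htm⟩ := exists_tvg hF hz'z' hc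
  have hmG : tm * g ∈ Cfsg.GU n F q ⊓ Cfsg.Geo.specialLinear (Fin n) F :=
    Subgroup.mul_mem _ htmG hgG
  have hm : ∀ x, ((tm * g : GL (Fin n) F) : Matrix (Fin n) (Fin n) F) *ᵥ x =
      (g : Matrix (Fin n) (Fin n) F) *ᵥ x +
        (-(s0 * ζ) * ((frobQ hF l)⁻¹ * Cfsg.hermForm n F q x z)) • z' := by
    intro x
    rw [Units.val_mul, ← Matrix.mulVec_mulVec, htm, hform]
  have hmzs : frobQ hF l • (((tm * g : GL (Fin n) F) : Matrix (Fin n) (Fin n) F) *ᵥ zs) = y1 := by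
    rw [hm, hzsz, smul_add, ← hy, hyd, hy2e, smul_smul, smul_smul]
    have : frobQ hF l * (-(s0 * ζ) * ((frobQ hF l)⁻¹ * 1)) = -(ζ * s0) := by
      field_simp
    rw [this, add_assoc, ← add_smul, add_neg_cancel, zero_smul, add_zero]
  have hmap : ∀ x, IsRat F₀ P x → ∃ (κ : F) (r : Fin n → F), IsRat F₀ P r ∧
      ((tm * g : GL (Fin n) F) : Matrix (Fin n) (Fin n) F) *ᵥ x = κ • r := by
    intro x hx
    have hxz : Cfsg.hermForm n F q x z ∈ F₀ := S.form x z hx hzr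
    obtain ⟨x0, hx0def⟩ : ∃ x0, x0 = x - Cfsg.hermForm n F q x z • zs := ⟨_, rfl⟩
    have hx0 : IsRat F₀ P x0 := by
      rw [hx0def]
      exact isRat_sub hx (isRat_smul hxz hzs.1)
    have hx0z : Cfsg.hermForm n F q x0 z = 0 := by
      rw [hx0def, u_sub_left hf, hf.smul_left, hzsz, mul_one, sub_self]
    have hD1 := rat_on_perp_ten S hn hHM hMG hNT hg hzRS hz' hgz hx0 hx0z
    refine ⟨(frobQ hF l)⁻¹, frobQ hF l • ((g : Matrix (Fin n) (Fin n) F) *ᵥ x0) +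
      Cfsg.hermForm n F q x z • y1, isRat_add hD1 (isRat_smul hxz hy1), ?_⟩
    have hx_eq : x = x0 + Cfsg.hermForm n F q x z • zs := by
      rw [hx0def, sub_add_cancel]
    have hmx0 : ((tm * g : GL (Fin n) F) : Matrix (Fin n) (Fin n) F) *ᵥ x0 =
        (g : Matrix (Fin n) (Fin n) F) *ᵥ x0 := by
      rw [hm, hx0z, mul_zero, mul_zero, zero_smul, add_zero]
    calc ((tm * g : GL (Fin n) F) : Matrix (Fin n) (Fin n) F) *ᵥ x
        = ((tm * g : GL (Fin n) F) : Matrix (Fin n) (Fin n) F) *ᵥ x0 +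
          Cfsg.hermForm n F q x z •
            (((tm * g : GL (Fin n) F) : Matrix (Fin n) (Fin n) F) *ᵥ zs) := by
          conv_lhs => rw [hx_eq]
          rw [Matrix.mulVec_add, Matrix.mulVec_smul]
      _ = (g : Matrix (Fin n) (Fin n) F) *ᵥ x0 +
          Cfsg.hermForm n F q x z • ((frobQ hF l)⁻¹ • y1) := by
          rw [hmx0, ← hmzs, smul_smul (frobQ hF l)⁻¹, inv_mul_cancel₀ hσl0, one_smul]
      _ = _ := by
          rw [smul_add, smul_smul (frobQ hF l)⁻¹ (frobQ hF l), inv_mul_cancel₀ hσl0, one_smul,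
            smul_comm]
  have hmsub : tm * g ∈ Cfsg.Geo.subfieldSubgroup F₀ P :=
    mem_subfield_of_maps (by omega) _ hmap
  have hmM : tm * g ∈ M := hHM ⟨hmsub, hmG⟩
  have htmM : tm ∈ M := by
    have : tm = (tm * g) * g⁻¹ := by group
    rw [this]
    exact M.mul_mem hmM (M.inv_mem hg)
  have h0 := hNT z' (-(s0 * ζ)) tm hz'RS hc htm htmM
  have htm1 : tm = 1 := by
    apply Units.ext
    apply mat_eq_of_mulVec
    intro x
    rw [htm, h0, zero_mul, zero_smul, add_zero, Units.val_one, Matrix.one_mulVec]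
  rw [htm1, one_mul] at hmsub
  exact hmsub

end Rat

end Cfsg.Agent.Lib.Helper16.SUgOT
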