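import Cfsg.Agent.Lib.Helper27.OSubE12core


set_option autoImplicit false
set_option linter.unusedSectionVars false
set_option linter.unusedVariables false
set_option linter.unusedSimpArgs false

namespace Cfsg.Agent.Lib.Helper16.SUgOT
open Cfsg.Agent.Lib.Helper27.OSubLeaf
open Cfsg Matrix Cfsg.Agent.Lib.Helper5.SpMax
  Cfsg.Agent.Lib.Helper5.UForm Cfsg.Agent.Lib.Helper5.HermBridge
  Cfsg.Agent.Lib.Helper5.SUGen Cfsg.Agent.Lib.Helper5.SUMax Cfsg.Agent.Lib.Helper5.USub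
  Cfsg.Agent.Lib.Helper17.OSub

variable {F : Type*} [Field F] [Fintype F] {q n : ℕ}

section Rat
variable {hF : Fintype.card F = q ^ 2} {F₀ : Subfield F} {P : GL (Fin n) F}
  (S : Setup hF F₀ P)
include S

variable {M : Subgroup (GL (Fin n) F)}

/-- LEAF E1: the rational components of `g z` lie in the plane spanned by `g z, g w`. -/
theorem pair_rat_of_ten (hn : 7 ≤ n)
    (hHM : Cfsg.Geo.subfieldSubgroup F₀ P ⊓
      (Cfsg.GU n F q ⊓ Cfsg.Geo.specialLinear (Fin n) F) ≤ M)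
    (hMG : M ≤ Cfsg.GU n F q ⊓ Cfsg.Geo.specialLinear (Fin n) F) (hNT : NT hF F₀ P M)
    (hB1a : ∀ (y0 y1 : Fin n → F), ∃ z, RS q F₀ P z ∧ Cfsg.hermForm n F q z y0 = 0 ∧
      Cfsg.hermForm n F q z y1 = 0)
    (hB1r : ∀ (y : Fin 4 → (Fin n → F)), (∀ i, IsRat F₀ P (y i)) →
      ∃ z, RS q F₀ P z ∧ ∀ i, Cfsg.hermForm n F q z (y i) = 0)
    (hB4 : ∀ {g : GL (Fin n) F} {z w : Fin n → F}, IsRat F₀ P z → IsRat F₀ P w →
      g ∈ Cfsg.GU n F q ⊓ Cfsg.Geo.specialLinear (Fin n) F → IsSiegel q g z w →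
      g ∈ Cfsg.Geo.subfieldSubgroup F₀ P ⊓
        (Cfsg.GU n F q ⊓ Cfsg.Geo.specialLinear (Fin n) F))
    (hB7 : ∀ {z : Fin n → F} {μ : F}, IsRat F₀ P z → z ≠ 0 → IsRat F₀ P (μ • z) → μ ∈ F₀)
    (hD2 : ∀ {g : GL (Fin n) F}, g ∈ M → ∀ {z z' : Fin n → F} {l : F}, RS q F₀ P z →
      IsRat F₀ P z' → (g : Matrix (Fin n) (Fin n) F) *ᵥ z = l • z' →
      g ∈ Cfsg.Geo.subfieldSubgroup F₀ P)
    {g : GL (Fin n) F} (hg : g ∈ M) {z w : Fin n → F} (hz : RS q F₀ P z) (hw : RS q F₀ P w)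
    (hzw : Cfsg.hermForm n F q w z = 0)
    (hli : ∀ s t : F, s • z + t • w = 0 → s = 0 ∧ t = 0)
    {ζ : F} (hζ0 : ζ ≠ 0) (hζ : frobQ hF ζ = -ζ) {a b : Fin n → F} (ha : IsRat F₀ P a)
    (hb : IsRat F₀ P b) (hab : (g : Matrix (Fin n) (Fin n) F) *ᵥ z = a + ζ • b) :
    (∃ α β : F, a = α • ((g : Matrix (Fin n) (Fin n) F) *ᵥ z) +
        β • ((g : Matrix (Fin n) (Fin n) F) *ᵥ w)) ∧
    (∃ α β : F, b = α • ((g : Matrix (Fin n) (Fin n) F) *ᵥ z) +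
        β • ((g : Matrix (Fin n) (Fin n) F) *ᵥ w)) := by
  have hf := herm_unitary (n := n) hF
  have hgGU : g ∈ Cfsg.GU n F q := (hMG hg).1
  have hn0 : 0 < n := by omega
  obtain ⟨E, hEG, hE⟩ :=
    Cfsg.Agent.Lib.Helper17.OSubLeaf.exists_siegel hF S.two_ne_zero hz.2.2 hzw
  have hEM : E ∈ M :=
    hHM (hB4 hz.1 hw.1 hEG hE)
  have hE1M : g * E * g⁻¹ ∈ M := M.mul_mem (M.mul_mem hg hEM) (M.inv_mem hg)
  have hE1 := Cfsg.Agent.Lib.Helper17.OSubLeaf.siegel_conj hF hgGU hE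
  have hgww : Cfsg.hermForm n F q ((g : Matrix (Fin n) (Fin n) F) *ᵥ w)
      ((g : Matrix (Fin n) (Fin n) F) *ᵥ w) = 0 := by
    rw [mem_GU.mp hgGU w w]; exact hw.2.2
  generalize hgz : (g : Matrix (Fin n) (Fin n) F) *ᵥ z = gz at *
  generalize hgw : (g : Matrix (Fin n) (Fin n) F) *ᵥ w = gw at *
  -- the formula for the conjugated Siegel element
  have hform : ∀ x, ((g * E * g⁻¹ : GL (Fin n) F) : Matrix (Fin n) (Fin n) F) *ᵥ x =
      x + Cfsg.hermForm n F q x gz • gw - Cfsg.hermForm n F q x gw • gz := by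
    intro x
    rw [hE1 x, hgww, mul_zero, zero_mul, add_zero]
  -- a rational isotropic vector fixed by it
  obtain ⟨z1, hz1, hz1z, hz1w⟩ := hB1a gz gw
  have hfix : ((g * E * g⁻¹ : GL (Fin n) F) : Matrix (Fin n) (Fin n) F) *ᵥ z1 = (1 : F) • z1 := by
    rw [hform, hz1z, hz1w, zero_smul, zero_smul, add_zero, sub_zero, one_smul]
  have hsub := hD2 hE1M hz1 hz1.1 hfix
  obtain ⟨μ, hμ0, hμ⟩ := rat_of_mem_subfield (g * E * g⁻¹) hsub
  have hμmem : μ ∈ F₀ := by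
    obtain ⟨r, hr, hr'⟩ := hμ z1 hz1.1
    rw [hfix, one_smul] at hr'
    have hr2 : r = μ⁻¹ • z1 := by rw [hr', smul_smul, inv_mul_cancel₀ hμ0, one_smul]
    have h1 := hB7 hz1.1 hz1.2.1 (μ := μ⁻¹)
      (by rw [← hr2]; exact hr)
    have h2 := F₀.inv_mem h1
    rwa [inv_inv] at h2
  have hmaps : ∀ x, IsRat F₀ P x →
      IsRat F₀ P (Cfsg.hermForm n F q x gz • gw - Cfsg.hermForm n F q x gw • gz) := by
    intro x hx
    obtain ⟨r, hr, hr'⟩ := hμ x hx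
    have h1 : Cfsg.hermForm n F q x gz • gw - Cfsg.hermForm n F q x gw • gz =
        ((g * E * g⁻¹ : GL (Fin n) F) : Matrix (Fin n) (Fin n) F) *ᵥ x - x := by
      rw [hform]; abel
    rw [h1, hr']
    exact isRat_sub (isRat_smul hμmem hr) hx
  -- a vector x with D x = g z
  have hwspan : w ∉ Submodule.span F {z} := by
    intro hmem
    obtain ⟨s, hs⟩ := Submodule.mem_span_singleton.mp hmem
    have h1 := (hli s (-1) (by rw [hs, neg_one_smul, add_neg_cancel])).2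
    exact one_ne_zero (neg_eq_zero.mp h1)
  obtain ⟨p, hp1, hp2⟩ := exists_sep hf hz.2.1 hwspan
  have hσne : frobQ hF (Cfsg.hermForm n F q w p) ≠ 0 := by
    intro h0
    apply hp2
    have h1 := congrArg (frobQ hF) h0
    rwa [hf.involutive, map_zero] at h1
  obtain ⟨c, hc⟩ : ∃ c : F, c = -(frobQ hF (Cfsg.hermForm n F q w p))⁻¹ := ⟨_, rfl⟩
  -- x := g (c • p)
  have hx1 : Cfsg.hermForm n F q ((g : Matrix (Fin n) (Fin n) F) *ᵥ (c • p)) gz = 0 := by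
    rw [← hgz, mem_GU.mp hgGU, hf.smul_left, hf.herm p z, hp1, map_zero, mul_zero]
  have hx2 : Cfsg.hermForm n F q ((g : Matrix (Fin n) (Fin n) F) *ᵥ (c • p)) gw = -1 := by
    rw [← hgw, mem_GU.mp hgGU, hf.smul_left, hf.herm p w, hc, neg_mul, inv_mul_cancel₀ hσne]
  obtain ⟨x1, x2, hx1r, hx2r, hx⟩ :=
    S.decomp_vec (S.zeta_moved hζ0 hζ) ((g : Matrix (Fin n) (Fin n) F) *ᵥ (c • p))
  have hD : gz = (Cfsg.hermForm n F q x1 gz • gw - Cfsg.hermForm n F q x1 gw • gz) +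
      ζ • (Cfsg.hermForm n F q x2 gz • gw - Cfsg.hermForm n F q x2 gw • gz) := by
    have e1 : Cfsg.hermForm n F q x1 gz + ζ * Cfsg.hermForm n F q x2 gz = 0 := by
      rw [← hf.smul_left, ← hf.add_left, ← hx, hx1]
    have e2 : Cfsg.hermForm n F q x1 gw + ζ * Cfsg.hermForm n F q x2 gw = -1 := by
      rw [← hf.smul_left, ← hf.add_left, ← hx, hx2]
    have e1' : Cfsg.hermForm n F q x1 gz = -(ζ * Cfsg.hermForm n F q x2 gz) :=
      eq_neg_of_add_eq_zero_left e1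
    have e2' : Cfsg.hermForm n F q x1 gw = -1 - ζ * Cfsg.hermForm n F q x2 gw := by
      rw [← e2]; ring
    rw [e1', e2']
    module
  have hzero : (a - (Cfsg.hermForm n F q x1 gz • gw - Cfsg.hermForm n F q x1 gw • gz)) +
      ζ • (b - (Cfsg.hermForm n F q x2 gz • gw - Cfsg.hermForm n F q x2 gw • gz)) = 0 := by
    have h1 : a + ζ • b = (Cfsg.hermForm n F q x1 gz • gw - Cfsg.hermForm n F q x1 gw • gz) +
        ζ • (Cfsg.hermForm n F q x2 gz • gw - Cfsg.hermForm n F q x2 gw • gz) := by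
      rw [← hab]; exact hD
    rw [smul_sub, ← sub_eq_zero.mpr h1]
    abel
  obtain ⟨ea, eb⟩ := S.decomp_unique (S.zeta_moved hζ0 hζ) (isRat_sub ha (hmaps x1 hx1r))
    (isRat_sub hb (hmaps x2 hx2r)) hzero
  refine ⟨⟨-Cfsg.hermForm n F q x1 gw, Cfsg.hermForm n F q x1 gz, ?_⟩,
    ⟨-Cfsg.hermForm n F q x2 gw, Cfsg.hermForm n F q x2 gz, ?_⟩⟩
  · rw [sub_eq_zero.mp ea]; module
  · rw [sub_eq_zero.mp eb]; module

/-- LEAF E2. -/
theorem maps_sing_of_ten (hn : 7 ≤ n)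
    (hHM : Cfsg.Geo.subfieldSubgroup F₀ P ⊓
      (Cfsg.GU n F q ⊓ Cfsg.Geo.specialLinear (Fin n) F) ≤ M)
    (hMG : M ≤ Cfsg.GU n F q ⊓ Cfsg.Geo.specialLinear (Fin n) F) (hNT : NT hF F₀ P M)
    (hB1a : ∀ (y0 y1 : Fin n → F), ∃ z, RS q F₀ P z ∧ Cfsg.hermForm n F q z y0 = 0 ∧
      Cfsg.hermForm n F q z y1 = 0)
    (hB1r : ∀ (y : Fin 4 → (Fin n → F)), (∀ i, IsRat F₀ P (y i)) →
      ∃ z, RS q F₀ P z ∧ ∀ i, Cfsg.hermForm n F q z (y i) = 0)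
    (hB4 : ∀ {g : GL (Fin n) F} {z w : Fin n → F}, IsRat F₀ P z → IsRat F₀ P w →
      g ∈ Cfsg.GU n F q ⊓ Cfsg.Geo.specialLinear (Fin n) F → IsSiegel q g z w →
      g ∈ Cfsg.Geo.subfieldSubgroup F₀ P ⊓
        (Cfsg.GU n F q ⊓ Cfsg.Geo.specialLinear (Fin n) F))
    (hB7 : ∀ {z : Fin n → F} {μ : F}, IsRat F₀ P z → z ≠ 0 → IsRat F₀ P (μ • z) → μ ∈ F₀)
    (hD2 : ∀ {g : GL (Fin n) F}, g ∈ M → ∀ {z z' : Fin n → F} {l : F}, RS q F₀ P z →
      IsRat F₀ P z' → (g : Matrix (Fin n) (Fin n) F) *ᵥ z = l • z' →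
      g ∈ Cfsg.Geo.subfieldSubgroup F₀ P)
    (hB3 : ∀ {z : Fin n → F}, RS q F₀ P z →
      ∃ z', RS q F₀ P z' ∧ Cfsg.hermForm n F q z z' = 1)
    {g : GL (Fin n) F} (hg : g ∈ M) {z : Fin n → F} (hz : RS q F₀ P z) :
    ∃ (l : F) (z' : Fin n → F), IsRat F₀ P z' ∧
      (g : Matrix (Fin n) (Fin n) F) *ᵥ z = l • z' := by
  have hf := herm_unitary (n := n) hF
  obtain ⟨ζ, hζ0, hζ⟩ := S.exists_zeta
  obtain ⟨zs, hzs, hzzs⟩ := hB3 hz
  obtain ⟨w, hw, hwp⟩ := hB1r ![z, zs, 0, 0]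
    (by intro i; fin_cases i <;> simp [hz.1, hzs.1, isRat_zero])
  have hwz : Cfsg.hermForm n F q w z = 0 := by simpa using hwp 0
  have hwzs : Cfsg.hermForm n F q w zs = 0 := by simpa using hwp 1
  obtain ⟨ws, hws, hwws⟩ := hB3 hw
  obtain ⟨w', hw', hw'p⟩ := hB1r ![z, zs, w, ws]
    (by intro i; fin_cases i <;> simp [hz.1, hzs.1, hw.1, hws.1])
  have hw'z : Cfsg.hermForm n F q w' z = 0 := by simpa using hw'p 0
  have hw'zs : Cfsg.hermForm n F q w' zs = 0 := by simpa using hw'p 1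
  have hw'w : Cfsg.hermForm n F q w' w = 0 := by simpa using hw'p 2
  have hw'ws : Cfsg.hermForm n F q w' ws = 0 := by simpa using hw'p 3
  -- independence of z, w, w'
  have hind : ∀ s t u : F, s • z + t • w + u • w' = 0 → s = 0 ∧ t = 0 ∧ u = 0 := by
    intro s t u h
    have h1 := congrArg (fun v => Cfsg.hermForm n F q v zs) h
    simp only [hf.add_left, hf.smul_left, hzzs, hwzs, hw'zs, mul_zero, add_zero, mul_one,
      u_zero_left hf] at h1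
    subst h1
    have h2 := congrArg (fun v => Cfsg.hermForm n F q v ws) h
    simp only [hf.add_left, hf.smul_left, hwws, hw'ws, mul_zero, add_zero, mul_one, zero_mul,
      zero_add, zero_smul, u_zero_left hf] at h2
    subst h2
    rw [zero_smul, zero_smul, zero_add, zero_add] at h
    exact ⟨rfl, rfl, (smul_eq_zero.mp h).resolve_right hw'.2.1⟩
  obtain ⟨a, b, ha, hb, hab⟩ :=
    S.decomp_vec (S.zeta_moved hζ0 hζ) ((g : Matrix (Fin n) (Fin n) F) *ᵥ z)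
  have hli1 : ∀ s t : F, s • z + t • w = 0 → s = 0 ∧ t = 0 := by
    intro s t h
    have := hind s t 0 (by rw [zero_smul, add_zero]; exact h)
    exact ⟨this.1, this.2.1⟩
  have hli2 : ∀ s t : F, s • z + t • w' = 0 → s = 0 ∧ t = 0 := by
    intro s t h
    have := hind s 0 t (by rw [zero_smul, add_zero]; exact h)
    exact ⟨this.1, this.2.2⟩
  obtain ⟨⟨α₁, β₁, ha1⟩, ⟨γ₁, δ₁, hb1⟩⟩ :=
    pair_rat_of_ten S hn hHM hMG hNT hB1a hB1r hB4 hB7 hD2 hg hz hw hwz hli1 hζ0 hζ ha hb hab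
  obtain ⟨⟨α₂, β₂, ha2⟩, ⟨γ₂, δ₂, hb2⟩⟩ :=
    pair_rat_of_ten S hn hHM hMG hNT hB1a hB1r hB4 hB7 hD2 hg hz hw' hw'z hli2 hζ0 hζ ha hb hab
  -- compare
  have key : ∀ α β α' β' : F,
      α • ((g : Matrix (Fin n) (Fin n) F) *ᵥ z) + β • ((g : Matrix (Fin n) (Fin n) F) *ᵥ w) =
      α' • ((g : Matrix (Fin n) (Fin n) F) *ᵥ z) + β' • ((g : Matrix (Fin n) (Fin n) F) *ᵥ w') →
      β = 0 := by
    intro α β α' β' h
    have h1 : (g : Matrix (Fin n) (Fin n) F) *ᵥ ((α - α') • z + β • w + (-β') • w') =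
        (g : Matrix (Fin n) (Fin n) F) *ᵥ 0 := by
      rw [Matrix.mulVec_add, Matrix.mulVec_add, Matrix.mulVec_smul, Matrix.mulVec_smul,
        Matrix.mulVec_smul, Matrix.mulVec_zero, sub_smul, neg_smul]
      rw [← sub_eq_zero] at h
      rw [← h]
      abel
    exact (hind _ _ _ (mulVec_inj g h1)).2.1
  have hβ : β₁ = 0 := key α₁ β₁ α₂ β₂ (by rw [← ha1, ← ha2])
  have hδ : δ₁ = 0 := key γ₁ δ₁ γ₂ δ₂ (by rw [← hb1, ← hb2])
  rw [hβ, zero_smul, add_zero] at ha1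
  rw [hδ, zero_smul, add_zero] at hb1
  by_cases ha0 : a = 0
  · refine ⟨ζ, b, hb, ?_⟩
    rw [hab, ha0, zero_add]
  · have hα : α₁ ≠ 0 := by
      intro h0
      apply ha0
      rw [ha1, h0, zero_smul]
    refine ⟨α₁⁻¹, a, ha, ?_⟩
    rw [ha1, smul_smul, inv_mul_cancel₀ hα, one_smul]

end Rat

end Cfsg.Agent.Lib.Helper16.SUgOT
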