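import Cfsg.Agent.Lib.Helper17.OSubMain
import Cfsg.Agent.Lib.Helper16.SUgOTE12
import Cfsg.Agent.Lib.Helper16.SUgOTD12
import Cfsg.Agent.Lib.Helper16.SUgOTB5
import Cfsg.Agent.Lib.Helper16.SUgOTC2
import Cfsg.Agent.Lib.Helper16.SUgOTB1
import Cfsg.Agent.Lib.Helper16.SUgOTF
import Cfsg.Agent.Lib.Helper16.SUgOTC1


set_option autoImplicit false
set_option linter.unusedSectionVars false
set_option linter.unusedVariables false

namespace Cfsg.Agent.Lib.Helper16.SUgOT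
open Cfsg.Agent.Lib.Helper17.OSubLeaf
open Cfsg Matrix Cfsg.Agent.Lib.Helper5.SpMax
  Cfsg.Agent.Lib.Helper5.UForm Cfsg.Agent.Lib.Helper5.HermBridge
  Cfsg.Agent.Lib.Helper5.SUGen Cfsg.Agent.Lib.Helper5.SUMax Cfsg.Agent.Lib.Helper5.USub
  Cfsg.Agent.Lib.Helper17.OSub

variable {F : Type*} [Field F] [Fintype F] {q n : ℕ}
variable {hF : Fintype.card F = q ^ 2} {F₀ : Subfield F} {P : GL (Fin n) F}
  (S : Setup hF F₀ P)
include S

theorem maximal_ten (hn : 7 ≤ n) :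
    Cfsg.Geo.IsMaximalIn (Cfsg.GU n F q ⊓ Cfsg.Geo.specialLinear (Fin n) F)
      (Cfsg.Geo.subfieldSubgroup F₀ P ⊓
        (Cfsg.GU n F q ⊓ Cfsg.Geo.specialLinear (Fin n) F)) := by
  obtain ⟨ζ, hζ0, hζ⟩ := S.exists_zeta
  obtain ⟨z₀, hz₀, -⟩ := Cfsg.Agent.Lib.Helper16.SUgOT.exists_sing_perp_two S hn 0 0
  refine ⟨lt_of_le_of_ne inf_le_right ?_, ?_⟩
  · intro heq
    obtain ⟨t, htG, ht⟩ := exists_tvg hF hz₀.2.2 hζ
    rw [← heq] at htG
    exact tv_not_mem_ten S hn hz₀ hζ hζ0 ht htG.1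
  · intro M hHM hMG
    by_cases hNT : NT hF F₀ P M
    · left
      refine le_antisymm (fun g hg => ⟨?_, hMG hg⟩) hHM
      obtain ⟨l, z', hz', hgz⟩ :=
        Cfsg.Agent.Lib.Helper16.SUgOT.maps_sing_ten S hn hHM hMG hNT hg hz₀
      exact Cfsg.Agent.Lib.Helper16.SUgOT.mem_of_maps_sing_ten S hn hHM hMG hNT hg hz₀ hz' hgz
    · right
      apply le_antisymm hMG
      unfold NT at hNT
      push Not at hNT
      obtain ⟨z, c, t, hz, hc, ht, htM, hc0⟩ := hNT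
      have hzS := sset_of_tv_ten S hn hHM hz hc hc0 ht htM
      exact le_of_forall_mem_Sset hF (by omega) (by omega) M
        (Cfsg.Agent.Lib.Helper16.SUgOT.sset_all_ten S hn
          (fun z₁ hz₁ => Cfsg.Agent.Lib.Helper16.SUgOT.sset_trans_ten S hn hHM hz hz₁ hzS))

end Cfsg.Agent.Lib.Helper16.SUgOT
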