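import Mathlib
import Cfsg.Agent.Lib.Helper5.USfG
import Cfsg.Agent.Lib.Helper9.Om7SK1b

/-!
# Unitary subfield subgroups of odd prime degree are maximal in `SU_n(q)` for every `n ≥ 6` and EVERY `q` (helper16)

Replaces `hard` of `Cfsg.Agent.Lib.Helper5.USfG` (which needs `13 ≤ n`) by an argument valid from `n = 6` on
(conjunct (9) of S5801, `SU_6(q)`).  `w = g u` for a rational isotropic `u`; by `key` we may assume that `w` is
orthogonal to no non-zero rational isotropic vector.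

* `q` odd: for a rational isotropic `a` the transvections at `a` and at `w` generate on the hyperbolic plane `⟨a, w⟩` a
  copy of `⟨lSL 1, tSL δ⟩` with `δ = c₀² N(f(a,w))`; Dickson (`k1b_dickson`, helper9/helper13) and `nlong` give
  `N(f(a,w)) ∈ F₀` (`norm_mem`); polarisation along a rational totally isotropic line then produces a rational isotropic
  vector orthogonal to `w`.
* `q` even: the transvections at `a` and `w` are involutions with product of odd order, hence conjugate in the dihedral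
  group they generate (`exists_conj`); two such conjugating elements for two points of a rational totally isotropic line
  give an element of `M` in the subfield group (`l5`) fixing the point of the line orthogonal to `w`; that point has
  degree at most two over `F₀`, hence is rational.
-/

set_option autoImplicit false
set_option linter.unusedSectionVars false
set_option linter.unusedVariables false
set_option linter.unusedSimpArgs false

namespace Cfsg.Agent.Lib.Helper16.SUgSf6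
open Cfsg Matrix Cfsg.Agent.Lib.Helper5.SpMax Cfsg.Agent.Lib.Helper5.TMCalc
  Cfsg.Agent.Lib.Helper5.UForm Cfsg.Agent.Lib.Helper5.USub Cfsg.Agent.Lib.Helper5.HermBridge
  Cfsg.Agent.Lib.Helper5.SUMax Cfsg.Agent.Lib.Helper5.LSub Cfsg.Agent.Lib.Helper5.SUGen
  Cfsg.Agent.Lib.Helper5.USf

section FieldFacts
variable {F : Type*} [Field F] [Fintype F] {q : ℕ}

/-- in a field extension of odd degree a square root of `-1` lies in the ground field -/
lemma sq_neg_one_mem (F₀ : Subfield F) (hodd : Odd (Module.finrank F₀ F)) {δ : F}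
    (hδ : δ ^ 2 = -1) : δ ∈ F₀ := by
  set J : F →ₗ[F₀] F := LinearMap.mulLeft F₀ δ with hJ
  have hJJ : J * J = (-1 : F₀) • (1 : F →ₗ[F₀] F) := by
    ext x
    simp only [hJ, Module.End.mul_apply, LinearMap.mulLeft_apply, LinearMap.smul_apply,
      Module.End.one_apply]
    rw [← mul_assoc, ← pow_two, hδ]
    simp
  have hdet : LinearMap.det J * LinearMap.det J = -1 := by
    rw [← map_mul, hJJ, LinearMap.det_smul, map_one, hodd.neg_one_pow, mul_one]
  set ε : F := ((LinearMap.det J : F₀) : F) with hε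
  have hεε : ε * ε = -1 := by
    have := congrArg (Subtype.val) hdet
    simpa using this
  have h0 : (δ - ε) * (δ + ε) = 0 := by linear_combination hδ - hεε
  rcases mul_eq_zero.mp h0 with h | h
  · have : δ = ε := sub_eq_zero.mp h
    rw [this]
    exact (LinearMap.det J : F₀).2
  · have : δ = -ε := eq_neg_of_add_eq_zero_left h
    rw [this]
    exact F₀.neg_mem (LinearMap.det J : F₀).2

/-- an element of degree at most two over `F₀` lies in `F₀` when `[F : F₀]` is odd -/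
lemma quad_mem (F₀ : Subfield F) (hodd : Odd (Module.finrank F₀ F)) {x e r₂ r₁ : F}
    (he : e ∈ F₀) (he0 : e ≠ 0) (hr₂ : r₂ ∈ F₀) (hr₁ : r₁ ∈ F₀)
    (h : e * x ^ 2 + r₂ * x + r₁ = 0) : x ∈ F₀ := by
  classical
  have hint : IsIntegral F₀ x := Algebra.IsIntegral.isIntegral x
  set p : Polynomial F₀ := Polynomial.C ⟨e, he⟩ * Polynomial.X ^ 2 +
    Polynomial.C ⟨r₂, hr₂⟩ * Polynomial.X + Polynomial.C ⟨r₁, hr₁⟩ with hp
  have hpe : Polynomial.aeval x p = 0 := by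
    rw [hp]
    simp only [map_add, map_mul, Polynomial.aeval_C, Polynomial.aeval_X, map_pow]
    exact h
  have hp0 : p ≠ 0 := by
    intro h0
    have := congrArg (fun r => Polynomial.coeff r 2) h0
    simp [hp, Polynomial.coeff_X, Polynomial.coeff_C] at this
    exact he0 (congrArg Subtype.val this)
  have hdeg : p.natDegree ≤ 2 := by
    rw [hp]
    compute_degree
  have hdvd := minpoly.dvd F₀ x hpe
  have hle : (minpoly F₀ x).natDegree ≤ 2 :=
    le_trans (Polynomial.natDegree_le_of_dvd hdvd hp0) hdeg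
  have hdd : (minpoly F₀ x).natDegree ∣ Module.finrank F₀ F := minpoly.degree_dvd hint
  have hpos : 0 < (minpoly F₀ x).natDegree := minpoly.natDegree_pos hint
  have h1 : (minpoly F₀ x).natDegree = 1 := by
    rcases Nat.lt_or_ge (minpoly F₀ x).natDegree 2 with h' | h'
    · omega
    · have h2 : (minpoly F₀ x).natDegree = 2 := le_antisymm hle h'
      rw [h2] at hdd
      exact absurd (even_iff_two_dvd.mpr hdd) (Nat.not_even_iff_odd.mpr hodd)
  have := (minpoly.natDegree_eq_one_iff (A := F₀) (B := F) (x := x)).mp h1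
  obtain ⟨y, hy⟩ := this
  rw [← hy]
  exact y.2

/-- the `plus` twist: if `s t + σ(s t) ∈ F₀` for every `s ∈ F₀`, then `t ∈ F₀` -/
lemma mem_of_plus_twist (hF : Fintype.card F = q ^ 2) (F₀ : Subfield F)
    (hθ : ∃ θ ∈ F₀, frobQ hF θ ≠ θ) {t : F}
    (h : ∀ s ∈ F₀, s * t + frobQ hF (s * t) ∈ F₀) : t ∈ F₀ := by
  obtain ⟨θ, hθF, hθ⟩ := hθ
  have hA := h 1 F₀.one_mem
  have hB := h θ hθF
  rw [one_mul] at hA
  rw [map_mul] at hB
  have hσθ : frobQ hF θ ∈ F₀ := frob_mem hF F₀ hθF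
  have h1 : (θ - frobQ hF θ) * t ∈ F₀ := by
    have := F₀.sub_mem hB (F₀.mul_mem hσθ hA)
    have e : θ * t + frobQ hF θ * frobQ hF t - frobQ hF θ * (t + frobQ hF t) =
        (θ - frobQ hF θ) * t := by ring
    rwa [e] at this
  have h0 : θ - frobQ hF θ ≠ 0 := sub_ne_zero.mpr (Ne.symm hθ)
  have h2 := F₀.mul_mem (F₀.inv_mem (F₀.sub_mem hθF hσθ)) h1
  rwa [← mul_assoc, inv_mul_cancel₀ h0, one_mul] at h2

end FieldFacts

section Plane
variable {F : Type*} [Field F] [Fintype F] {q n : ℕ}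

/-- the action of a `2 × 2` matrix (twisted by `diag(1, c)`) on the hyperbolic plane `⟨u₁, u₂⟩`, identity on its
perp -/
def pl (q : ℕ) (c : F) (u₁ u₂ : Fin n → F) (A : Matrix (Fin 2) (Fin 2) F) (x : Fin n → F) :
    Fin n → F :=
  x + ((A 0 0 - 1) * Cfsg.hermForm n F q x u₂ + A 0 1 * c⁻¹ * Cfsg.hermForm n F q x u₁) • u₁
    + (A 1 0 * c * Cfsg.hermForm n F q x u₂ + (A 1 1 - 1) * Cfsg.hermForm n F q x u₁) • u₂

lemma pl_one (c : F) (u₁ u₂ x : Fin n → F) : pl q c u₁ u₂ 1 x = x := by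
  simp [pl]

lemma pl_mul (hF : Fintype.card F = q ^ 2) {c : F} (hc : c ≠ 0) {u₁ u₂ : Fin n → F}
    (h12 : Cfsg.hermForm n F q u₁ u₂ = 1) (h21 : Cfsg.hermForm n F q u₂ u₁ = 1)
    (h11 : Cfsg.hermForm n F q u₁ u₁ = 0) (h22 : Cfsg.hermForm n F q u₂ u₂ = 0)
    (A B : Matrix (Fin 2) (Fin 2) F) (x : Fin n → F) :
    pl q c u₁ u₂ (A * B) x = pl q c u₁ u₂ A (pl q c u₁ u₂ B x) := by
  have hf := herm_unitary (n := n) hF
  have e1 : Cfsg.hermForm n F q (pl q c u₁ u₂ B x) u₂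
      = B 0 0 * Cfsg.hermForm n F q x u₂ + B 0 1 * c⁻¹ * Cfsg.hermForm n F q x u₁ := by
    unfold pl
    rw [hf.add_left, hf.add_left, hf.smul_left, hf.smul_left, h12, h22]
    ring
  have e2 : Cfsg.hermForm n F q (pl q c u₁ u₂ B x) u₁
      = B 1 0 * c * Cfsg.hermForm n F q x u₂ + B 1 1 * Cfsg.hermForm n F q x u₁ := by
    unfold pl
    rw [hf.add_left, hf.add_left, hf.smul_left, hf.smul_left, h21, h11]
    ring
  have e3 : pl q c u₁ u₂ A (pl q c u₁ u₂ B x) = pl q c u₁ u₂ B x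
      + ((A 0 0 - 1) * Cfsg.hermForm n F q (pl q c u₁ u₂ B x) u₂
        + A 0 1 * c⁻¹ * Cfsg.hermForm n F q (pl q c u₁ u₂ B x) u₁) • u₁
      + (A 1 0 * c * Cfsg.hermForm n F q (pl q c u₁ u₂ B x) u₂
        + (A 1 1 - 1) * Cfsg.hermForm n F q (pl q c u₁ u₂ B x) u₁) • u₂ := rfl
  rw [e3, e1, e2]
  unfold pl
  simp only [Matrix.mul_apply, Fin.sum_univ_two]
  have hcc : c⁻¹ * c = 1 := inv_mul_cancel₀ hc
  have k1 : (A 0 0 * B 0 0 + A 0 1 * B 1 0 - 1) * Cfsg.hermForm n F q x u₂ +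
      (A 0 0 * B 0 1 + A 0 1 * B 1 1) * c⁻¹ * Cfsg.hermForm n F q x u₁ =
      ((B 0 0 - 1) * Cfsg.hermForm n F q x u₂ + B 0 1 * c⁻¹ * Cfsg.hermForm n F q x u₁) +
      ((A 0 0 - 1) * (B 0 0 * Cfsg.hermForm n F q x u₂ + B 0 1 * c⁻¹ * Cfsg.hermForm n F q x u₁) +
        A 0 1 * c⁻¹ * (B 1 0 * c * Cfsg.hermForm n F q x u₂ + B 1 1 * Cfsg.hermForm n F q x u₁)) := by
    linear_combination (-(A 0 1 * B 1 0 * Cfsg.hermForm n F q x u₂)) * hcc
  have k2 : (A 1 0 * B 0 0 + A 1 1 * B 1 0) * c * Cfsg.hermForm n F q x u₂ +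
      (A 1 0 * B 0 1 + A 1 1 * B 1 1 - 1) * Cfsg.hermForm n F q x u₁ =
      (B 1 0 * c * Cfsg.hermForm n F q x u₂ + (B 1 1 - 1) * Cfsg.hermForm n F q x u₁) +
      (A 1 0 * c * (B 0 0 * Cfsg.hermForm n F q x u₂ + B 0 1 * c⁻¹ * Cfsg.hermForm n F q x u₁) +
        (A 1 1 - 1) * (B 1 0 * c * Cfsg.hermForm n F q x u₂ + B 1 1 * Cfsg.hermForm n F q x u₁)) := by
    linear_combination (-(A 1 0 * B 0 1 * Cfsg.hermForm n F q x u₁)) * hcc
  rw [k1, k2]
  module

/-- everything in the closure of a set of `SL₂`-elements realised in `M` on the plane is realised in `M` -/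
lemma pl_closure (hF : Fintype.card F = q ^ 2) {c : F} (hc : c ≠ 0) {u₁ u₂ : Fin n → F}
    (h12 : Cfsg.hermForm n F q u₁ u₂ = 1) (h21 : Cfsg.hermForm n F q u₂ u₁ = 1)
    (h11 : Cfsg.hermForm n F q u₁ u₁ = 0) (h22 : Cfsg.hermForm n F q u₂ u₂ = 0)
    {M : Subgroup (GL (Fin n) F)} (S : Set (Matrix.SpecialLinearGroup (Fin 2) F))
    (hS : ∀ s ∈ S, ∃ g ∈ M, ∀ x, (g : Matrix (Fin n) (Fin n) F) *ᵥ x =
      pl q c u₁ u₂ (s : Matrix (Fin 2) (Fin 2) F) x) :
    ∀ s ∈ Subgroup.closure S, ∃ g ∈ M, ∀ x, (g : Matrix (Fin n) (Fin n) F) *ᵥ x =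
      pl q c u₁ u₂ (s : Matrix (Fin 2) (Fin 2) F) x := by
  intro s hs
  induction hs using Subgroup.closure_induction with
  | mem s hs => exact hS s hs
  | one => exact ⟨1, M.one_mem, fun x => by
      rw [Units.val_one, Matrix.one_mulVec, Matrix.SpecialLinearGroup.coe_one, pl_one]⟩
  | mul s t _ _ ihs iht =>
    obtain ⟨g, hg, hgx⟩ := ihs
    obtain ⟨g', hg', hgx'⟩ := iht
    refine ⟨g * g', M.mul_mem hg hg', fun x => ?_⟩
    rw [Units.val_mul, ← Matrix.mulVec_mulVec, hgx', hgx, Matrix.SpecialLinearGroup.coe_mul,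
      pl_mul hF hc h12 h21 h11 h22]
  | inv s _ ihs =>
    obtain ⟨g, hg, hgx⟩ := ihs
    refine ⟨g⁻¹, M.inv_mem hg, fun x => ?_⟩
    have h1 : (g : Matrix (Fin n) (Fin n) F) *ᵥ
        (pl q c u₁ u₂ ((s⁻¹ : Matrix.SpecialLinearGroup (Fin 2) F) : Matrix (Fin 2) (Fin 2) F) x)
        = x := by
      rw [hgx, ← pl_mul hF hc h12 h21 h11 h22, ← Matrix.SpecialLinearGroup.coe_mul, mul_inv_cancel,
        Matrix.SpecialLinearGroup.coe_one, pl_one]
    conv_lhs => rw [← h1]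
    rw [inv_mul_mulVec]

end Plane

section OddCase
variable {F : Type*} [Field F] [Fintype F] {q n : ℕ} {hF : Fintype.card F = q ^ 2}
  {F₀ : Subfield F} {P : GL (Fin n) F} {M : Subgroup (GL (Fin n) F)}

lemma odd_finrank (h : Ctx hF F₀ P M) : Odd (Module.finrank F₀ F) :=
  h.prime.odd_of_ne_two (by have := h.three; omega)

/-- the key step for `q` odd: `N(f(a,w)) ∈ F₀` for rational isotropic `a` when `M` contains a transvection with
centre `w` and rational parameter (Dickson on the plane `⟨a,w⟩`) -/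
lemma norm_mem (h2 : (2 : F) ≠ 0) (hn : 6 ≤ n) (h : Ctx hF F₀ P M) {a w : Fin n → F}
    (ha : IsRat F₀ P a) (haa : Cfsg.hermForm n F q a a = 0) (hww : Cfsg.hermForm n F q w w = 0)
    {c₀ : F} (hc₀ : c₀ ∈ F₀) (hc₀0 : c₀ ≠ 0) (hc₀s : frobQ hF c₀ = -c₀)
    (htw : TV (Cfsg.hermForm n F q) M w c₀) :
    Cfsg.hermForm n F q a w * frobQ hF (Cfsg.hermForm n F q a w) ∈ F₀ := by
  have hf := herm_unitary (n := n) hF
  have hn0 : 0 < n := by omega
  obtain ⟨μ, hμ⟩ : ∃ μ : F, μ = Cfsg.hermForm n F q a w := ⟨_, rfl⟩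
  rw [← hμ]
  by_cases hμ0 : μ = 0
  · rw [hμ0, zero_mul]
    exact F₀.zero_mem
  have hσμ0 : frobQ hF μ ≠ 0 := by rwa [Ne, map_eq_zero]
  have ha0 : a ≠ 0 := by
    rintro rfl
    apply hμ0
    rw [hμ, u_zero_left hf]
  have hwa : Cfsg.hermForm n F q w a = frobQ hF μ := by rw [hf.herm, ← hμ]
  obtain ⟨u₁, hu₁⟩ : ∃ u₁ : Fin n → F, u₁ = (frobQ hF μ)⁻¹ • w := ⟨_, rfl⟩
  have h12 : Cfsg.hermForm n F q u₁ a = 1 := by
    rw [hu₁, hf.smul_left, hwa, inv_mul_cancel₀ hσμ0]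
  have h21 : Cfsg.hermForm n F q a u₁ = 1 := by rw [hf.herm, h12, map_one]
  have h11 : Cfsg.hermForm n F q u₁ u₁ = 0 := by
    rw [hu₁, hf.smul_left, u_smul_right hf, hww, mul_zero, mul_zero]
  obtain ⟨δ, hδ⟩ : ∃ δ : F, δ = c₀ ^ 2 * (μ * frobQ hF μ) := ⟨_, rfl⟩
  have hδ0 : δ ≠ 0 := by
    rw [hδ]
    exact mul_ne_zero (pow_ne_zero 2 hc₀0) (mul_ne_zero hμ0 hσμ0)
  have hδfix : frobQ hF δ = δ := by
    rw [hδ, map_mul, map_pow, map_mul, hf.involutive, hc₀s]
    ring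
  have hxu₁ : ∀ x, Cfsg.hermForm n F q x u₁ = μ⁻¹ * Cfsg.hermForm n F q x w := by
    intro x
    rw [hu₁, u_smul_right hf, map_inv₀, hf.involutive]
  have hS : ∀ s ∈ ({Cfsg.Agent.Lib.Helper13.lSL 1, Cfsg.Agent.Lib.Helper13.tSL δ} :
      Set (Matrix.SpecialLinearGroup (Fin 2) F)),
      ∃ g ∈ M, ∀ x, (g : Matrix (Fin n) (Fin n) F) *ᵥ x =
        pl q c₀ u₁ a (s : Matrix (Fin 2) (Fin 2) F) x := by
    intro s hs
    rcases hs with rfl | rfl
    · obtain ⟨g, hgM, hg⟩ := TV_mono h.le (rat_TV hn0 h.dat ha haa hc₀ hc₀s)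
      refine ⟨g, hgM, fun x => ?_⟩
      rw [hg, Cfsg.Agent.Lib.Helper13.lSL_coe]
      simp [pl]
    · obtain ⟨g, hgM, hg⟩ := htw
      refine ⟨g, hgM, fun x => ?_⟩
      rw [hg, Cfsg.Agent.Lib.Helper13.tSL_coe]
      simp only [pl, Matrix.of_apply, Matrix.cons_val', Matrix.cons_val_zero, Matrix.cons_val_one,
        Matrix.empty_val', Matrix.cons_val_fin_one, sub_self, zero_mul, zero_add,
        add_zero, zero_smul]
      rw [hxu₁, hu₁, smul_smul, hδ]
      congr 2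
      field_simp
  have hcl := pl_closure hF hc₀0 h12 h21 h11 haa _ hS
  have hδF : δ ∈ F₀ := by
    rcases Cfsg.Agent.Lib.Helper9.Om7SLeaf.k1b_dickson h2 hδ0 with h1 | ⟨h1, -⟩
    · obtain ⟨g, hgM, hgx⟩ := hcl _ (h1 δ (Subfield.subset_closure rfl))
      have hT : TV (Cfsg.hermForm n F q) M a (δ * c₀) := by
        refine ⟨g, hgM, fun x => ?_⟩
        rw [hgx, Cfsg.Agent.Lib.Helper13.lSL_coe]
        simp [pl]
      have hsk : frobQ hF (δ * c₀) = -(δ * c₀) := by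
        rw [map_mul, hδfix, hc₀s]
        ring
      have hmem := nlong hn h ha ha0 haa hsk hT
      have e : δ = (δ * c₀) * c₀⁻¹ := by field_simp
      rw [e]
      exact F₀.mul_mem hmem (F₀.inv_mem hc₀)
    · exact sq_neg_one_mem F₀ (odd_finrank h) h1
  have e : μ * frobQ hF μ = δ * (c₀ ^ 2)⁻¹ := by
    rw [hδ]
    field_simp
  rw [e]
  exact F₀.mul_mem hδF (F₀.inv_mem (F₀.pow_mem hc₀ 2))

end OddCase

section EvenCase
variable {F : Type*} [Field F] [Fintype F] {q n : ℕ}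

/-- the elements of `M` fixing `⟨c, w⟩^⊥` pointwise -/
def fixG (q : ℕ) (M : Subgroup (GL (Fin n) F)) (c w : Fin n → F) : Subgroup (GL (Fin n) F) where
  carrier := {g | g ∈ M ∧ ∀ v, Cfsg.hermForm n F q v c = 0 → Cfsg.hermForm n F q v w = 0 →
    (g : Matrix (Fin n) (Fin n) F) *ᵥ v = v}
  mul_mem' := by
    rintro g g' ⟨hg, hgv⟩ ⟨hg', hgv'⟩
    refine ⟨M.mul_mem hg hg', fun v h1 h2 => ?_⟩
    rw [Units.val_mul, ← Matrix.mulVec_mulVec, hgv' v h1 h2, hgv v h1 h2]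
  one_mem' := ⟨M.one_mem, fun v _ _ => by rw [Units.val_one, Matrix.one_mulVec]⟩
  inv_mem' := by
    rintro g ⟨hg, hgv⟩
    refine ⟨M.inv_mem hg, fun v h1 h2 => ?_⟩
    conv_lhs => rw [← hgv v h1 h2]
    rw [inv_mul_mulVec]

/-- the dihedral trick in characteristic two: two unitary transvections `t_c(1), t_w(1) ∈ M` with `f(c,w) ≠ 0` are
conjugate by an element of `M` which is the identity on `⟨c,w⟩^⊥` -/
lemma exists_conj (hF : Fintype.card F = q ^ 2) (h2 : (2 : F) = 0) {M : Subgroup (GL (Fin n) F)}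
    {c w : Fin n → F} (hcw : Cfsg.hermForm n F q c w ≠ 0) (hcc : Cfsg.hermForm n F q c c = 0)
    (hww : Cfsg.hermForm n F q w w = 0) (hc : TV (Cfsg.hermForm n F q) M c 1)
    (hw : TV (Cfsg.hermForm n F q) M w 1) :
    ∃ x ∈ M, (∃ l : F, (x : Matrix (Fin n) (Fin n) F) *ᵥ c = l • w) ∧
      ∀ v, Cfsg.hermForm n F q v c = 0 → Cfsg.hermForm n F q v w = 0 →
        (x : Matrix (Fin n) (Fin n) F) *ᵥ v = v := by
  classical
  have hf := herm_unitary (n := n) hF
  have hwc : Cfsg.hermForm n F q w c ≠ 0 := u_symm_ne hf hcw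
  obtain ⟨i₀, hi₀M, hi₀⟩ := hc
  obtain ⟨j₀, hj₀M, hj₀⟩ := hw
  have hw0 : w ≠ 0 := by
    rintro rfl
    exact hwc (u_zero_left hf c)
  have hc0 : c ≠ 0 := by
    rintro rfl
    exact hcw (u_zero_left hf w)
  have hsq : ∀ (t : GL (Fin n) F) (v : Fin n → F), Cfsg.hermForm n F q v v = 0 →
      (∀ x, (t : Matrix (Fin n) (Fin n) F) *ᵥ x = x + (1 * Cfsg.hermForm n F q x v) • v) →
      t * t = 1 := by
    intro t v hvv ht
    apply Units.ext
    apply mat_eq_of_mulVec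
    intro x
    rw [Units.val_mul, ← Matrix.mulVec_mulVec, Units.val_one, Matrix.one_mulVec, ht (_ *ᵥ x), ht x,
      hf.add_left, hf.smul_left, hvv]
    have e : x + (1 * Cfsg.hermForm n F q x v) • v +
        (1 * (Cfsg.hermForm n F q x v + 1 * Cfsg.hermForm n F q x v * 0)) • v =
        x + ((2 : F) * Cfsg.hermForm n F q x v) • v := by module
    rw [e, h2, zero_mul, zero_smul, add_zero]
  let i : ↥(fixG q M c w) := ⟨i₀, hi₀M, fun v h1 _ => by
    rw [hi₀, h1, mul_zero, zero_smul, add_zero]⟩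
  let j : ↥(fixG q M c w) := ⟨j₀, hj₀M, fun v _ h1 => by
    rw [hj₀, h1, mul_zero, zero_smul, add_zero]⟩
  have hi : i * i = 1 := Subtype.ext (hsq i₀ c hcc hi₀)
  have hj : j * j = 1 := Subtype.ext (hsq j₀ w hww hj₀)
  rcases Cfsg.Agent.Lib.Helper5.LSub.dihedral i j hi hj with ⟨x, hx⟩ | ⟨k, hz1, hzz, hzi, hzj⟩
  · have hxM : (x : GL (Fin n) F) ∈ M := x.2.1
    have h1 : (x : GL (Fin n) F) * i₀ * (x : GL (Fin n) F)⁻¹ = j₀ := by
      have := congrArg Subtype.val hx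
      simpa using this
    refine ⟨x, hxM, ?_, x.2.2⟩
    -- apply both sides to `c`
    have h3 : ((x : GL (Fin n) F) : Matrix (Fin n) (Fin n) F) *ᵥ
        ((i₀ : Matrix (Fin n) (Fin n) F) *ᵥ
          ((((x : GL (Fin n) F)⁻¹ : GL (Fin n) F) : Matrix (Fin n) (Fin n) F) *ᵥ c)) =
        (j₀ : Matrix (Fin n) (Fin n) F) *ᵥ c := by
      rw [← h1, Units.val_mul, Units.val_mul, ← Matrix.mulVec_mulVec, ← Matrix.mulVec_mulVec]
    rw [hi₀, hj₀, Matrix.mulVec_add, mul_inv_mulVec, Matrix.mulVec_smul, one_mul, one_mul] at h3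
    have h4 : Cfsg.hermForm n F q
        ((((x : GL (Fin n) F)⁻¹ : GL (Fin n) F) : Matrix (Fin n) (Fin n) F) *ᵥ c) c •
        (((x : GL (Fin n) F) : Matrix (Fin n) (Fin n) F) *ᵥ c) = Cfsg.hermForm n F q c w • w :=
      add_left_cancel h3
    obtain ⟨κ, hκ⟩ : ∃ κ : F, κ = Cfsg.hermForm n F q
        ((((x : GL (Fin n) F)⁻¹ : GL (Fin n) F) : Matrix (Fin n) (Fin n) F) *ᵥ c) c := ⟨_, rfl⟩
    rw [← hκ] at h4
    have hκ0 : κ ≠ 0 := by
      rintro rfl
      rw [zero_smul] at h4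
      exact (smul_ne_zero hcw hw0) h4.symm
    refine ⟨κ⁻¹ * Cfsg.hermForm n F q c w, ?_⟩
    rw [← smul_smul, ← h4, smul_smul, inv_mul_cancel₀ hκ0, one_smul]
  · exfalso
    apply hz1
    obtain ⟨z, hz⟩ : ∃ z : ↥(fixG q M c w), z = (i * j) ^ k := ⟨_, rfl⟩
    rw [← hz] at hzz hzi hzj ⊢
    have hzi' : (z : GL (Fin n) F) * i₀ = i₀ * (z : GL (Fin n) F) := by
      have := congrArg Subtype.val hzi
      simpa using this
    have hzj' : (z : GL (Fin n) F) * j₀ = j₀ * (z : GL (Fin n) F) := by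
      have := congrArg Subtype.val hzj
      simpa using this
    have hzz' : (z : GL (Fin n) F) * (z : GL (Fin n) F) = 1 := by
      have := congrArg Subtype.val hzz
      simpa using this
    -- `z` scales `c` and `w`
    have hscal : ∀ (t : GL (Fin n) F) (v v' : Fin n → F), Cfsg.hermForm n F q v' v ≠ 0 →
        (∀ x, (t : Matrix (Fin n) (Fin n) F) *ᵥ x = x + (1 * Cfsg.hermForm n F q x v) • v) →
        (z : GL (Fin n) F) * t = t * (z : GL (Fin n) F) →
        ((z : GL (Fin n) F) : Matrix (Fin n) (Fin n) F) *ᵥ v = v := by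
      intro t v v' hv'v ht hcomm
      have e1 : ((z : GL (Fin n) F) : Matrix (Fin n) (Fin n) F) *ᵥ
          ((t : Matrix (Fin n) (Fin n) F) *ᵥ v') =
          (t : Matrix (Fin n) (Fin n) F) *ᵥ
            (((z : GL (Fin n) F) : Matrix (Fin n) (Fin n) F) *ᵥ v') := by
        rw [Matrix.mulVec_mulVec, Matrix.mulVec_mulVec, ← Units.val_mul, ← Units.val_mul, hcomm]
      rw [ht, ht, Matrix.mulVec_add, Matrix.mulVec_smul, one_mul, one_mul] at e1
      have e2 := add_left_cancel e1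
      obtain ⟨l, hl⟩ : ∃ l : F, l = (Cfsg.hermForm n F q v' v)⁻¹ * Cfsg.hermForm n F q
          (((z : GL (Fin n) F) : Matrix (Fin n) (Fin n) F) *ᵥ v') v := ⟨_, rfl⟩
      have e3 : ((z : GL (Fin n) F) : Matrix (Fin n) (Fin n) F) *ᵥ v = l • v := by
        rw [hl, ← smul_smul, ← e2, smul_smul, inv_mul_cancel₀ hv'v, one_smul]
      have e4 : ((z : GL (Fin n) F) : Matrix (Fin n) (Fin n) F) *ᵥ
          (((z : GL (Fin n) F) : Matrix (Fin n) (Fin n) F) *ᵥ v) = v := by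
        rw [Matrix.mulVec_mulVec, ← Units.val_mul, hzz', Units.val_one, Matrix.one_mulVec]
      rw [e3, Matrix.mulVec_smul, e3, smul_smul] at e4
      have hv0 : v ≠ 0 := by
        rintro rfl
        exact hv'v (u_zero_right hf v')
      have e5 : (l * l - 1) • v = 0 := by rw [sub_smul, e4, one_smul, sub_self]
      have e6 : l * l - 1 = 0 := (smul_eq_zero.mp e5).resolve_right hv0
      have e7 : (l - 1) * (l - 1) = 0 := by linear_combination e6 - (l - 1) * h2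
      have e8 : l = 1 := by
        rcases mul_eq_zero.mp e7 with h' | h' <;> exact sub_eq_zero.mp h'
      rw [e3, e8, one_smul]
    have hzc := hscal i₀ c w hwc hi₀ hzi'
    have hzw := hscal j₀ w c hcw hj₀ hzj'
    apply Subtype.ext
    apply Units.ext
    apply mat_eq_of_mulVec
    intro v
    obtain ⟨α, hα⟩ : ∃ α : F, α = Cfsg.hermForm n F q v w / Cfsg.hermForm n F q c w := ⟨_, rfl⟩
    obtain ⟨β, hβ⟩ : ∃ β : F, β = Cfsg.hermForm n F q v c / Cfsg.hermForm n F q w c := ⟨_, rfl⟩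
    have p1 : Cfsg.hermForm n F q (v - α • c - β • w) c = 0 := by
      rw [u_sub_left hf, u_sub_left hf, hf.smul_left, hf.smul_left, hcc, hβ]
      field_simp
      ring
    have p2 : Cfsg.hermForm n F q (v - α • c - β • w) w = 0 := by
      rw [u_sub_left hf, u_sub_left hf, hf.smul_left, hf.smul_left, hww, hα]
      field_simp
      ring
    have p3 := z.2.2 _ p1 p2
    have p4 : v = (v - α • c - β • w) + α • c + β • w := by abel
    show ((z : GL (Fin n) F) : Matrix (Fin n) (Fin n) F) *ᵥ v = (1 : GL (Fin n) F).val *ᵥ v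
    rw [Units.val_one, Matrix.one_mulVec]
    conv_lhs => rw [p4]
    rw [Matrix.mulVec_add, Matrix.mulVec_add, Matrix.mulVec_smul, Matrix.mulVec_smul, p3, hzc, hzw]
    abel

end EvenCase

section Hard
variable {F : Type*} [Field F] [Fintype F] {q n : ℕ} {hF : Fintype.card F = q ^ 2}
  {F₀ : Subfield F} {P : GL (Fin n) F} {M : Subgroup (GL (Fin n) F)}

/-- the common end of both cases: a rational point of the rational totally isotropic line `⟨a, a'⟩` orthogonal to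
`g u` -/
lemma finish (hn : 6 ≤ n) (h : Ctx hF F₀ P M) {g : GL (Fin n) F} (hg : g ∈ M)
    {u a a' b' : Fin n → F} (hu : IsRat F₀ P u) (hu0 : u ≠ 0) (huu : Cfsg.hermForm n F q u u = 0)
    (ha : IsRat F₀ P a) (ha' : IsRat F₀ P a') (haa : Cfsg.hermForm n F q a a = 0)
    (ha'a' : Cfsg.hermForm n F q a' a' = 0) (haa' : Cfsg.hermForm n F q a a' = 0)
    (hab' : Cfsg.hermForm n F q a b' = 0) (ha'b' : Cfsg.hermForm n F q a' b' = 1)
    {s t : F} (hs : s ∈ F₀) (ht : t ∈ F₀) (ht0 : t ≠ 0)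
    (hperp : s * Cfsg.hermForm n F q a ((g : Matrix (Fin n) (Fin n) F) *ᵥ u) +
      t * Cfsg.hermForm n F q a' ((g : Matrix (Fin n) (Fin n) F) *ᵥ u) = 0) :
    g ∈ Cfsg.Geo.subfieldSubgroup F₀ P := by
  have hf := herm_unitary (n := n) hF
  have ha'a : Cfsg.hermForm n F q a' a = 0 := u_symm_zero hf haa'
  have hx0 : s • a + t • a' ≠ 0 := by
    intro h0
    have e := congrArg (fun x => Cfsg.hermForm n F q x b') h0
    simp only [hf.add_left, hf.smul_left, hab', ha'b', u_zero_left hf, mul_zero, mul_one,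
      zero_add] at e
    exact ht0 e
  have hxx : Cfsg.hermForm n F q (s • a + t • a') (s • a + t • a') = 0 := by
    simp only [hf.add_left, u_add_right hf, hf.smul_left, u_smul_right hf, haa, ha'a', haa', ha'a,
      mul_zero, add_zero]
  refine key hn h hg hu hu0 huu (isRat_add (isRat_smul hs ha) (isRat_smul ht ha')) hx0 hxx ?_
  apply u_symm_zero hf
  rw [hf.add_left, hf.smul_left, hf.smul_left]
  exact hperp

/-- every element of a proper overgroup of the subfield group lies in the subfield group, `n ≥ 6`, `q` odd -/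
theorem hard6_odd (h2 : (2 : F) ≠ 0) (hn : 6 ≤ n) (h : Ctx hF F₀ P M) {g : GL (Fin n) F}
    (hg : g ∈ M) : g ∈ Cfsg.Geo.subfieldSubgroup F₀ P := by
  have hf := herm_unitary (n := n) hF
  have hn0 : 0 < n := by omega
  obtain ⟨a₀, ha₀R, ha₀0, ha₀a₀⟩ := exists_rat_iso h.dat (by omega)
  obtain ⟨fr, -, hrat, hgram⟩ := exists_rat_frame h.dat 2 (by omega) ha₀R ha₀0 ha₀a₀
  have Fr : Frame hF F₀ P fr := ⟨hrat, hgram⟩
  have h01 : (0 : Fin 3) ≠ 1 := by decide
  have h10 : (1 : Fin 3) ≠ 0 := by decide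
  obtain ⟨c₀, hc₀, hc₀0, hc₀s⟩ := h.toCtx0.skew
  obtain ⟨w, hw⟩ : ∃ w : Fin n → F, w = (g : Matrix (Fin n) (Fin n) F) *ᵥ fr 0 true := ⟨_, rfl⟩
  have hww : Cfsg.hermForm n F q w w = 0 := by rw [hw, h.iso hg, Fr.iso]
  have hTw : TV (Cfsg.hermForm n F q) M w c₀ := by
    rw [hw]
    exact TV_conj hf hg (h.iso hg)
      (TV_mono h.le (rat_TV hn0 h.dat (Fr.rat 0 true) (Fr.iso 0 true) hc₀ hc₀s))
  obtain ⟨μ, hμ⟩ : ∃ μ : F, μ = Cfsg.hermForm n F q (fr 0 true) w := ⟨_, rfl⟩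
  obtain ⟨μ', hμ'⟩ : ∃ μ' : F, μ' = Cfsg.hermForm n F q (fr 1 true) w := ⟨_, rfl⟩
  have haa' : Cfsg.hermForm n F q (fr 0 true) (fr 1 true) = 0 := Fr.orth h01 true true
  have ha'a : Cfsg.hermForm n F q (fr 1 true) (fr 0 true) = 0 := Fr.orth h10 true true
  have hab' : Cfsg.hermForm n F q (fr 0 true) (fr 1 false) = 0 := Fr.orth h01 true false
  have ha'b' : Cfsg.hermForm n F q (fr 1 true) (fr 1 false) = 1 := Fr.pair 1 true
  by_cases hμ0 : μ = 0
  · -- `a` itself is orthogonal to `w`: use the point `a' + 1·a`?  no: use `key` directly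
    refine key hn h hg (Fr.rat 0 true) (Fr.ne_zero 0 true) (Fr.iso 0 true) (Fr.rat 0 true)
      (Fr.ne_zero 0 true) (Fr.iso 0 true) ?_
    apply u_symm_zero hf
    rw [← hw, ← hμ, hμ0]
  have hσμ0 : frobQ hF μ ≠ 0 := by rwa [Ne, map_eq_zero]
  -- norms
  have hN : ∀ s ∈ F₀, (μ + s * μ') * frobQ hF (μ + s * μ') ∈ F₀ := by
    intro s hs
    have hR : IsRat F₀ P (fr 0 true + s • fr 1 true) :=
      isRat_add (Fr.rat 0 true) (isRat_smul hs (Fr.rat 1 true))
    have hI : Cfsg.hermForm n F q (fr 0 true + s • fr 1 true) (fr 0 true + s • fr 1 true) = 0 := by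
      simp only [hf.add_left, u_add_right hf, hf.smul_left, u_smul_right hf, Fr.iso, haa', ha'a,
        mul_zero, add_zero]
    have := norm_mem h2 hn h hR hI hww hc₀ hc₀0 hc₀s hTw
    rwa [hf.add_left, hf.smul_left, ← hμ, ← hμ'] at this
  have hN0 : μ * frobQ hF μ ∈ F₀ := by
    have := hN 0 F₀.zero_mem
    rwa [zero_mul, add_zero] at this
  have hN1 : μ' * frobQ hF μ' ∈ F₀ := by
    have := norm_mem h2 hn h (Fr.rat 1 true) (Fr.iso 1 true) hww hc₀ hc₀0 hc₀s hTw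
    rwa [← hμ'] at this
  have ht : μ' * frobQ hF μ ∈ F₀ := by
    apply mem_of_plus_twist hF F₀ h.dat.moved
    intro s hs
    have e : s * (μ' * frobQ hF μ) + frobQ hF (s * (μ' * frobQ hF μ)) =
        (μ + s * μ') * frobQ hF (μ + s * μ') - μ * frobQ hF μ -
          (s * frobQ hF s) * (μ' * frobQ hF μ') := by
      simp only [map_add, map_mul, hf.involutive]
      ring
    rw [e]
    exact F₀.sub_mem (F₀.sub_mem (hN s hs) hN0)
      (F₀.mul_mem (F₀.mul_mem hs (frob_mem hF F₀ hs)) hN1)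
  refine finish hn h hg (Fr.rat 0 true) (Fr.ne_zero 0 true) (Fr.iso 0 true) (Fr.rat 0 true)
    (Fr.rat 1 true) (Fr.iso 0 true) (Fr.iso 1 true) haa' hab' ha'b' ht
    (F₀.neg_mem hN0) (neg_ne_zero.mpr (mul_ne_zero hμ0 hσμ0)) ?_
  rw [← hw, ← hμ, ← hμ']
  ring

/-- every element of a proper overgroup of the subfield group lies in the subfield group, `n ≥ 6`, `q` even -/
theorem hard6_even (h2 : (2 : F) = 0) (hn : 6 ≤ n) (h : Ctx hF F₀ P M) {g : GL (Fin n) F}
    (hg : g ∈ M) : g ∈ Cfsg.Geo.subfieldSubgroup F₀ P := by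
  have hf := herm_unitary (n := n) hF
  have hn0 : 0 < n := by omega
  obtain ⟨a₀, ha₀R, ha₀0, ha₀a₀⟩ := exists_rat_iso h.dat (by omega)
  obtain ⟨fr, -, hrat, hgram⟩ := exists_rat_frame h.dat 2 (by omega) ha₀R ha₀0 ha₀a₀
  have Fr : Frame hF F₀ P fr := ⟨hrat, hgram⟩
  have h01 : (0 : Fin 3) ≠ 1 := by decide
  have h10 : (1 : Fin 3) ≠ 0 := by decide
  have h1s : frobQ hF (1 : F) = -1 := by
    rw [map_one]
    linear_combination h2
  obtain ⟨w, hw⟩ : ∃ w : Fin n → F, w = (g : Matrix (Fin n) (Fin n) F) *ᵥ fr 0 true := ⟨_, rfl⟩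
  have hww : Cfsg.hermForm n F q w w = 0 := by rw [hw, h.iso hg, Fr.iso]
  have hTa : TV (Cfsg.hermForm n F q) M (fr 0 true) 1 :=
    TV_mono h.le (rat_TV hn0 h.dat (Fr.rat 0 true) (Fr.iso 0 true) F₀.one_mem h1s)
  have hTa' : TV (Cfsg.hermForm n F q) M (fr 1 true) 1 :=
    TV_mono h.le (rat_TV hn0 h.dat (Fr.rat 1 true) (Fr.iso 1 true) F₀.one_mem h1s)
  have hTw : TV (Cfsg.hermForm n F q) M w 1 := by
    rw [hw]
    exact TV_conj hf hg (h.iso hg) hTa
  obtain ⟨μ, hμ⟩ : ∃ μ : F, μ = Cfsg.hermForm n F q (fr 0 true) w := ⟨_, rfl⟩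
  obtain ⟨μ', hμ'⟩ : ∃ μ' : F, μ' = Cfsg.hermForm n F q (fr 1 true) w := ⟨_, rfl⟩
  have haa' : Cfsg.hermForm n F q (fr 0 true) (fr 1 true) = 0 := Fr.orth h01 true true
  have ha'a : Cfsg.hermForm n F q (fr 1 true) (fr 0 true) = 0 := Fr.orth h10 true true
  have hab : Cfsg.hermForm n F q (fr 0 true) (fr 0 false) = 1 := Fr.pair 0 true
  have ha'b : Cfsg.hermForm n F q (fr 1 true) (fr 0 false) = 0 := Fr.orth h10 true false
  have hab' : Cfsg.hermForm n F q (fr 0 true) (fr 1 false) = 0 := Fr.orth h01 true false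
  have ha'b' : Cfsg.hermForm n F q (fr 1 true) (fr 1 false) = 1 := Fr.pair 1 true
  by_cases hμ0 : μ = 0
  · refine key hn h hg (Fr.rat 0 true) (Fr.ne_zero 0 true) (Fr.iso 0 true) (Fr.rat 0 true)
      (Fr.ne_zero 0 true) (Fr.iso 0 true) ?_
    apply u_symm_zero hf
    rw [← hw, ← hμ, hμ0]
  by_cases hμ'0 : μ' = 0
  · refine key hn h hg (Fr.rat 0 true) (Fr.ne_zero 0 true) (Fr.iso 0 true) (Fr.rat 1 true)
      (Fr.ne_zero 1 true) (Fr.iso 1 true) ?_
    apply u_symm_zero hf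
    rw [← hw, ← hμ', hμ'0]
  obtain ⟨x, hxM, ⟨l, hxl⟩, hxfix⟩ := exists_conj hF h2 (by rw [← hμ]; exact hμ0) (Fr.iso 0 true)
    hww hTa hTw
  obtain ⟨x', hx'M, ⟨l', hx'l⟩, hx'fix⟩ := exists_conj hF h2 (by rw [← hμ']; exact hμ'0)
    (Fr.iso 1 true) hww hTa' hTw
  have hl'0 : l' ≠ 0 := by
    rintro rfl
    rw [zero_smul] at hx'l
    have := inv_mul_mulVec x' (fr 1 true)
    rw [hx'l, Matrix.mulVec_zero] at this
    exact Fr.ne_zero 1 true this.symm
  have hl0 : l ≠ 0 := by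
    rintro rfl
    rw [zero_smul] at hxl
    have := inv_mul_mulVec x (fr 0 true)
    rw [hxl, Matrix.mulVec_zero] at this
    exact Fr.ne_zero 0 true this.symm
  have hx'w : ((x'⁻¹ : GL (Fin n) F) : Matrix (Fin n) (Fin n) F) *ᵥ w = l'⁻¹ • fr 1 true := by
    have := inv_mul_mulVec x' (fr 1 true)
    rw [hx'l, Matrix.mulVec_smul] at this
    rw [← this, smul_smul, inv_mul_cancel₀ hl'0, one_smul]
  obtain ⟨y, hy⟩ : ∃ y : GL (Fin n) F, y = x'⁻¹ * x := ⟨_, rfl⟩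
  have hyM : y ∈ M := by
    rw [hy]
    exact M.mul_mem (M.inv_mem hx'M) hxM
  obtain ⟨ρ, hρ⟩ : ∃ ρ : F, ρ = l * l'⁻¹ := ⟨_, rfl⟩
  have hρ0 : ρ ≠ 0 := by
    rw [hρ]
    exact mul_ne_zero hl0 (inv_ne_zero hl'0)
  have hya : (y : Matrix (Fin n) (Fin n) F) *ᵥ fr 0 true = ρ • fr 1 true := by
    rw [hy, Units.val_mul, ← Matrix.mulVec_mulVec, hxl, Matrix.mulVec_smul, hx'w, smul_smul, hρ]
  obtain ⟨z, hz⟩ : ∃ z : Fin n → F, z = μ' • fr 0 true - μ • fr 1 true := ⟨_, rfl⟩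
  have hza : Cfsg.hermForm n F q z (fr 0 true) = 0 := by
    rw [hz, u_sub_left hf, hf.smul_left, hf.smul_left, Fr.iso, ha'a, mul_zero, mul_zero, sub_zero]
  have hza' : Cfsg.hermForm n F q z (fr 1 true) = 0 := by
    rw [hz, u_sub_left hf, hf.smul_left, hf.smul_left, Fr.iso, haa', mul_zero, mul_zero, sub_zero]
  have hzw : Cfsg.hermForm n F q z w = 0 := by
    rw [hz, u_sub_left hf, hf.smul_left, hf.smul_left, ← hμ, ← hμ']
    ring
  have hxz := hxfix z hza hzw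
  have hx'z := hx'fix z hza' hzw
  have hyz : (y : Matrix (Fin n) (Fin n) F) *ᵥ z = z := by
    rw [hy, Units.val_mul, ← Matrix.mulVec_mulVec, hxz]
    conv_lhs => rw [← hx'z]
    rw [inv_mul_mulVec]
  have hyS := l5 hn h hyM (Fr.rat 0 true) (Fr.ne_zero 0 true) (Fr.iso 0 true) (Fr.rat 1 true) hya
  obtain ⟨ν, hν0, hmap⟩ := rat_of_mem_subfield y hyS
  obtain ⟨r₁, hr₁, e₁⟩ := hmap _ (Fr.rat 0 true)
  obtain ⟨r₂, hr₂, e₂⟩ := hmap _ (Fr.rat 1 true)
  obtain ⟨e, he⟩ : ∃ e : F, e = Cfsg.hermForm n F q r₁ (fr 1 false) := ⟨_, rfl⟩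
  obtain ⟨A, hA⟩ : ∃ A : F, A = Cfsg.hermForm n F q r₂ (fr 0 false) := ⟨_, rfl⟩
  obtain ⟨B, hB⟩ : ∃ B : F, B = Cfsg.hermForm n F q r₂ (fr 1 false) := ⟨_, rfl⟩
  have heF : e ∈ F₀ := by rw [he]; exact h.dat.form_mem hr₁ (Fr.rat 1 false)
  have hAF : A ∈ F₀ := by rw [hA]; exact h.dat.form_mem hr₂ (Fr.rat 0 false)
  have hBF : B ∈ F₀ := by rw [hB]; exact h.dat.form_mem hr₂ (Fr.rat 1 false)
  have R3 : ν * e = ρ := by
    have := congrArg (fun v => Cfsg.hermForm n F q v (fr 1 false)) (e₁.symm.trans hya)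
    simp only [hf.smul_left, ha'b', mul_one] at this
    rw [he]
    exact this
  have he0 : e ≠ 0 := by
    rintro rfl
    rw [mul_zero] at R3
    exact hρ0 R3.symm
  have E0 : μ' • (ρ • fr 1 true) - μ • (ν • r₂) = μ' • fr 0 true - μ • fr 1 true := by
    have := hyz
    rw [hz, Matrix.mulVec_sub, Matrix.mulVec_smul, Matrix.mulVec_smul, hya, e₂] at this
    exact this
  have E2 : -(μ * (ν * A)) = μ' := by
    have := congrArg (fun v => Cfsg.hermForm n F q v (fr 0 false)) E0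
    simp only [u_sub_left hf, hf.smul_left, ha'b, hab, mul_zero, mul_one, zero_sub, sub_zero,
      ← hA] at this
    exact this
  have E3 : μ' * ρ - μ * (ν * B) = -μ := by
    have := congrArg (fun v => Cfsg.hermForm n F q v (fr 1 false)) E0
    simp only [u_sub_left hf, hf.smul_left, ha'b', hab', mul_zero, mul_one, zero_sub, sub_zero,
      ← hB] at this
    exact this
  obtain ⟨κ, hκ⟩ : ∃ κ : F, κ = μ' / μ := ⟨_, rfl⟩
  have hκμ : κ * μ = μ' := by
    rw [hκ]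
    field_simp
  have R1 : ν * A + κ = 0 := by
    have e' : μ * (ν * A + κ) = 0 := by linear_combination (-1 : F) * E2 + hκμ
    exact (mul_eq_zero.mp e').resolve_left hμ0
  have R2 : κ * ρ - ν * B + 1 = 0 := by
    have e' : μ * (κ * ρ - ν * B + 1) = 0 := by linear_combination E3 + ρ * hκμ
    exact (mul_eq_zero.mp e').resolve_left hμ0
  have hquad : e * κ ^ 2 + (-B) * κ + (-A) = 0 := by
    have e' : ν * (e * κ ^ 2 + (-B) * κ + (-A)) = 0 := by
      linear_combination κ ^ 2 * R3 + κ * R2 - R1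
    exact (mul_eq_zero.mp e').resolve_left hν0
  have hκF : κ ∈ F₀ :=
    quad_mem F₀ (odd_finrank h) heF he0 (F₀.neg_mem hBF) (F₀.neg_mem hAF) hquad
  refine finish hn h hg (Fr.rat 0 true) (Fr.ne_zero 0 true) (Fr.iso 0 true) (Fr.rat 0 true)
    (Fr.rat 1 true) (Fr.iso 0 true) (Fr.iso 1 true) haa' hab' ha'b' (F₀.neg_mem hκF)
    F₀.one_mem one_ne_zero ?_
  rw [← hw, ← hμ, ← hμ']
  linear_combination (-1 : F) * hκμ

/-- every element of a proper overgroup of the subfield group lies in the subfield group, `n ≥ 6`, every `q` -/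
theorem hard6 (hn : 6 ≤ n) (h : Ctx hF F₀ P M) {g : GL (Fin n) F} (hg : g ∈ M) :
    g ∈ Cfsg.Geo.subfieldSubgroup F₀ P := by
  by_cases h2 : (2 : F) = 0
  · exact hard6_even h2 hn h hg
  · exact hard6_odd h2 hn h hg

end Hard

section Final
variable {F : Type*} [Field F] [Fintype F] {q n : ℕ}

/-- the subfield group of odd prime degree is maximal in `GU_n(q) ⊓ SL_n`, `n ≥ 6`, every `q` -/
theorem maximal6 (hn : 6 ≤ n) (hF : Fintype.card F = q ^ 2) (F₀ : Subfield F) {r : ℕ}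
    (hr : r.Prime) (hro : Odd r) (hcard : Fintype.card F = Nat.card F₀ ^ r) (P : GL (Fin n) F)
    (hP : Cfsg.Geo.IsFormRationalStructure (Cfsg.hermForm n F q) F₀ 1 P) :
    Cfsg.Geo.IsMaximalIn (Cfsg.GU n F q ⊓ Cfsg.Geo.specialLinear (Fin n) F)
      (Cfsg.Geo.subfieldSubgroup F₀ P ⊓ (Cfsg.GU n F q ⊓ Cfsg.Geo.specialLinear (Fin n) F)) := by
  have hfr : Module.finrank F₀ F = r := finrank_eq_of_card F₀ hcard
  have hr3 : 3 ≤ r := by
    have h2 := hr.two_le
    rcases hro with ⟨k, hk⟩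
    omega
  have D : Dat hF F₀ P := ⟨hP, exists_moved_sub hF F₀ hr hro hcard⟩
  refine ⟨Hsub_lt hn D (by rw [hfr]; omega), ?_⟩
  intro M hHM hMG
  by_cases hG : Cfsg.GU n F q ⊓ Cfsg.Geo.specialLinear (Fin n) F ≤ M
  · right
    exact le_antisymm hMG hG
  · left
    have h : Ctx hF F₀ P M := ⟨D, hHM, hMG, hG, by rw [hfr]; exact hr, by rw [hfr]; exact hr3⟩
    apply le_antisymm _ hHM
    intro g hg
    exact ⟨hard6 hn h hg, hMG hg⟩

/-- conjunct (9) of S5801 verbatim -/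
theorem su6_subfield_conjunct {F : Type*} [Field F] [Fintype F] (q : ℕ)
    (hF : Fintype.card F = q ^ 2) :
    ∀ (F₀ : Subfield F) (r : ℕ) (P : Matrix.GeneralLinearGroup (Fin 6) F), r.Prime → Odd r →
      Fintype.card F = Nat.card F₀ ^ r →
      Cfsg.Geo.IsFormRationalStructure (Cfsg.hermForm 6 F q) F₀ 1 P →
      Cfsg.Geo.IsMaximalIn (Cfsg.GU 6 F q ⊓ Cfsg.Geo.specialLinear (Fin 6) F)
        (Cfsg.Geo.subfieldSubgroup F₀ P ⊓ (Cfsg.GU 6 F q ⊓ Cfsg.Geo.specialLinear (Fin 6) F)) :=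
  fun F₀ r P hr hro hcard hP => maximal6 le_rfl hF F₀ hr hro hcard P hP

end Final

end Cfsg.Agent.Lib.Helper16.SUgSf6
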