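import Cfsg.Agent.Lib.Helper5.USfG

/-!
# Low-dimensional version of S5658 (subfield groups of odd prime index are maximal in SU_n(q)) (helper16)

Verbatim copies of `Cfsg.Agent.Lib.Helper5.USf.hard` and `maximal` (helper5) with the bound `13 ≤ n` relaxed to `10 ≤ n`.
-/

set_option autoImplicit false
set_option linter.unusedSectionVars false
set_option linter.unusedVariables false
set_option linter.unusedSimpArgs false

namespace Cfsg.Agent.Lib.Helper16.SUg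
open Cfsg Matrix Cfsg.Agent.Lib.Helper5.SpMax Cfsg.Agent.Lib.Helper5.TMCalc
  Cfsg.Agent.Lib.Helper5.UForm Cfsg.Agent.Lib.Helper5.USub Cfsg.Agent.Lib.Helper5.HermBridge
  Cfsg.Agent.Lib.Helper5.SUMax Cfsg.Agent.Lib.Helper5.LSub Cfsg.Agent.Lib.Helper5.SUGen
  Cfsg.Agent.Lib.Helper5.USf

section Hard
variable {F : Type*} [Field F] [Fintype F] {q n : ℕ} {hF : Fintype.card F = q ^ 2}
  {F₀ : Subfield F} {P : GL (Fin n) F} {M : Subgroup (GL (Fin n) F)}

/-- the dihedral trick: every element of a proper overgroup lies in the subfield group -/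
theorem hard_low (hn : 10 ≤ n) (h : Ctx hF F₀ P M) {g : GL (Fin n) F} (hg : g ∈ M) :
    g ∈ Cfsg.Geo.subfieldSubgroup F₀ P := by
  classical
  have hf := herm_unitary (n := n) hF
  have hn0 : 0 < n := by omega
  obtain ⟨a₀, ha₀R, ha₀0, ha₀a₀⟩ := exists_rat_iso h.dat (by omega)
  obtain ⟨fr, -, hrat, hgram⟩ := exists_rat_frame h.dat 4 (by omega) ha₀R ha₀0 ha₀a₀
  have Fr : Frame hF F₀ P fr := ⟨hrat, hgram⟩
  obtain ⟨u₁, hu₁⟩ : ∃ u₁ : Fin n → F, u₁ = fr 0 true + fr 1 true := ⟨_, rfl⟩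
  obtain ⟨u₁', hu₁'⟩ : ∃ u₁' : Fin n → F, u₁' = fr 0 false + fr 1 false := ⟨_, rfl⟩
  obtain ⟨u₂, hu₂⟩ : ∃ u₂ : Fin n → F, u₂ = fr 2 true + fr 3 true := ⟨_, rfl⟩
  obtain ⟨u₂', hu₂'⟩ : ∃ u₂' : Fin n → F, u₂' = fr 2 false + fr 3 false := ⟨_, rfl⟩
  have hu₁R : IsRat F₀ P u₁ := by rw [hu₁]; exact isRat_add (Fr.rat _ _) (Fr.rat _ _)
  have hu₁'R : IsRat F₀ P u₁' := by rw [hu₁']; exact isRat_add (Fr.rat _ _) (Fr.rat _ _)
  have hu₂R : IsRat F₀ P u₂ := by rw [hu₂]; exact isRat_add (Fr.rat _ _) (Fr.rat _ _)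
  have hu₂'R : IsRat F₀ P u₂' := by rw [hu₂']; exact isRat_add (Fr.rat _ _) (Fr.rat _ _)
  -- Gram values
  have G11 : Cfsg.hermForm n F q u₁ u₁ = 0 := by rw [hu₁, Fr.gram2]; simp
  have G1'1' : Cfsg.hermForm n F q u₁' u₁' = 0 := by rw [hu₁', Fr.gram2]; simp
  have G11' : Cfsg.hermForm n F q u₁ u₁' = 2 := by rw [hu₁, hu₁', Fr.gram2]; simp <;> norm_num
  have G1'1 : Cfsg.hermForm n F q u₁' u₁ = 2 := by rw [hu₁, hu₁', Fr.gram2]; simp <;> norm_num
  have G22 : Cfsg.hermForm n F q u₂ u₂ = 0 := by rw [hu₂, Fr.gram2]; simp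
  have G2'2' : Cfsg.hermForm n F q u₂' u₂' = 0 := by rw [hu₂', Fr.gram2]; simp
  have G22' : Cfsg.hermForm n F q u₂ u₂' = 2 := by rw [hu₂, hu₂', Fr.gram2]; simp <;> norm_num
  have G2'2 : Cfsg.hermForm n F q u₂' u₂ = 2 := by rw [hu₂, hu₂', Fr.gram2]; simp <;> norm_num
  have G12 : Cfsg.hermForm n F q u₁ u₂ = 0 := by rw [hu₁, hu₂, Fr.gram2]; simp
  have G12' : Cfsg.hermForm n F q u₁ u₂' = 0 := by rw [hu₁, hu₂', Fr.gram2]; simp
  have G1'2 : Cfsg.hermForm n F q u₁' u₂ = 0 := by rw [hu₁', hu₂, Fr.gram2]; simp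
  have G1'2' : Cfsg.hermForm n F q u₁' u₂' = 0 := by rw [hu₁', hu₂', Fr.gram2]; simp
  have G21 : Cfsg.hermForm n F q u₂ u₁ = 0 := by rw [hu₁, hu₂, Fr.gram2]; simp
  have G21' : Cfsg.hermForm n F q u₂ u₁' = 0 := by rw [hu₁', hu₂, Fr.gram2]; simp
  have G2'1 : Cfsg.hermForm n F q u₂' u₁ = 0 := by rw [hu₁, hu₂', Fr.gram2]; simp
  have G2'1' : Cfsg.hermForm n F q u₂' u₁' = 0 := by rw [hu₁', hu₂', Fr.gram2]; simp
  have G15 : Cfsg.hermForm n F q u₁ (fr 4 true) = 0 := by rw [hu₁, Fr.gramL]; simp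
  have G1'5 : Cfsg.hermForm n F q u₁' (fr 4 true) = 0 := by rw [hu₁', Fr.gramL]; simp
  have G25 : Cfsg.hermForm n F q u₂ (fr 4 true) = 0 := by rw [hu₂, Fr.gramL]; simp
  have G2'5 : Cfsg.hermForm n F q u₂' (fr 4 true) = 0 := by rw [hu₂', Fr.gramL]; simp
  -- values against the dual vectors
  have A1 : Cfsg.hermForm n F q u₁ (fr 0 false) = 1 := by rw [hu₁, Fr.gramL]; simp
  have A2 : Cfsg.hermForm n F q u₁' (fr 0 false) = 0 := by rw [hu₁', Fr.gramL]; simp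
  have A3 : Cfsg.hermForm n F q u₂ (fr 0 false) = 0 := by rw [hu₂, Fr.gramL]; simp
  have A4 : Cfsg.hermForm n F q u₂' (fr 0 false) = 0 := by rw [hu₂', Fr.gramL]; simp
  have B1 : Cfsg.hermForm n F q u₁ (fr 0 true) = 0 := by rw [hu₁, Fr.gramL]; simp
  have B2 : Cfsg.hermForm n F q u₁' (fr 0 true) = 1 := by rw [hu₁', Fr.gramL]; simp
  have B3 : Cfsg.hermForm n F q u₂ (fr 0 true) = 0 := by rw [hu₂, Fr.gramL]; simp
  have B4 : Cfsg.hermForm n F q u₂' (fr 0 true) = 0 := by rw [hu₂', Fr.gramL]; simp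
  have C1 : Cfsg.hermForm n F q u₁ (fr 2 false) = 0 := by rw [hu₁, Fr.gramL]; simp
  have C2 : Cfsg.hermForm n F q u₁' (fr 2 false) = 0 := by rw [hu₁', Fr.gramL]; simp
  have C3 : Cfsg.hermForm n F q u₂ (fr 2 false) = 1 := by rw [hu₂, Fr.gramL]; simp
  have C4 : Cfsg.hermForm n F q u₂' (fr 2 false) = 0 := by rw [hu₂', Fr.gramL]; simp
  have D1 : Cfsg.hermForm n F q u₁ (fr 2 true) = 0 := by rw [hu₁, Fr.gramL]; simp
  have D2 : Cfsg.hermForm n F q u₁' (fr 2 true) = 0 := by rw [hu₁', Fr.gramL]; simp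
  have D3 : Cfsg.hermForm n F q u₂ (fr 2 true) = 0 := by rw [hu₂, Fr.gramL]; simp
  have D4 : Cfsg.hermForm n F q u₂' (fr 2 true) = 1 := by rw [hu₂', Fr.gramL]; simp
  have E1 : Cfsg.hermForm n F q (fr 0 true) u₁' = 1 := by rw [hu₁', Fr.gramR]; simp
  have E2 : Cfsg.hermForm n F q (fr 0 true) u₁ = 0 := by rw [hu₁, Fr.gramR]; simp
  have E3 : Cfsg.hermForm n F q (fr 0 true) u₂' = 0 := by rw [hu₂', Fr.gramR]; simp
  have E4 : Cfsg.hermForm n F q (fr 0 true) u₂ = 0 := by rw [hu₂, Fr.gramR]; simp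
  -- the two involutions
  obtain ⟨t, htH, ht⟩ := exists_tau hn0 h.dat hu₁R hu₁'R G11 G1'1' G11'
  obtain ⟨t₂, ht₂H, ht₂⟩ := exists_tau hn0 h.dat hu₂R hu₂'R G22 G2'2' G22'
  obtain ⟨t', ht'def⟩ : ∃ t' : GL (Fin n) F, t' = t * t₂ := ⟨_, rfl⟩
  have htM : t ∈ M := h.le htH
  have ht'M : t' ∈ M := by
    rw [ht'def]
    exact M.mul_mem htM (h.le ht₂H)
  have ht' : ∀ x, (t' : Matrix (Fin n) (Fin n) F) *ᵥ x =
      x - Cfsg.hermForm n F q x u₁' • u₁ - Cfsg.hermForm n F q x u₁ • u₁' -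
        Cfsg.hermForm n F q x u₂' • u₂ - Cfsg.hermForm n F q x u₂ • u₂' := by
    intro x
    rw [ht'def, Units.val_mul, ← Matrix.mulVec_mulVec, ht, ht₂]
    simp only [u_sub_left hf, hf.smul_left, G21', G2'1', G21, G2'1, mul_zero, sub_zero]
    abel
  have htt : t * t = 1 := tau_sq hF G11 G1'1' G11' G1'1 ht
  have ht't' : t' * t' = 1 := by
    apply Units.ext
    apply mat_eq_of_mulVec
    intro x
    rw [Units.val_mul, ← Matrix.mulVec_mulVec, Units.val_one, Matrix.one_mulVec,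
      ht' ((t' : Matrix (Fin n) (Fin n) F) *ᵥ x)]
    have e1 : Cfsg.hermForm n F q ((t' : Matrix (Fin n) (Fin n) F) *ᵥ x) u₁' =
        -Cfsg.hermForm n F q x u₁' := by
      rw [ht']
      simp only [u_sub_left hf, hf.smul_left, G11', G1'1', G21', G2'1']
      ring
    have e2 : Cfsg.hermForm n F q ((t' : Matrix (Fin n) (Fin n) F) *ᵥ x) u₁ =
        -Cfsg.hermForm n F q x u₁ := by
      rw [ht']
      simp only [u_sub_left hf, hf.smul_left, G11, G1'1, G21, G2'1]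
      ring
    have e3 : Cfsg.hermForm n F q ((t' : Matrix (Fin n) (Fin n) F) *ᵥ x) u₂' =
        -Cfsg.hermForm n F q x u₂' := by
      rw [ht']
      simp only [u_sub_left hf, hf.smul_left, G12', G1'2', G22', G2'2']
      ring
    have e4 : Cfsg.hermForm n F q ((t' : Matrix (Fin n) (Fin n) F) *ᵥ x) u₂ =
        -Cfsg.hermForm n F q x u₂ := by
      rw [ht']
      simp only [u_sub_left hf, hf.smul_left, G12, G1'2, G22, G2'2]
      ring
    rw [e1, e2, e3, e4, ht' x]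
    module
  -- functionals
  obtain ⟨φ, hφ⟩ : ∃ φ : Fin 2 → ((Fin n → F) →ₗ[F] F), φ = ![uL hf u₁', uL hf u₁] := ⟨_, rfl⟩
  obtain ⟨φ', hφ'⟩ : ∃ φ' : Fin 4 → ((Fin n → F) →ₗ[F] F),
      φ' = ![uL hf u₁', uL hf u₁, uL hf u₂', uL hf u₂] := ⟨_, rfl⟩
  have hφ0 : ∀ v, φ 0 v = Cfsg.hermForm n F q v u₁' := fun v => by rw [hφ]; rfl
  have hφ1 : ∀ v, φ 1 v = Cfsg.hermForm n F q v u₁ := fun v => by rw [hφ]; rfl
  have hφ'0 : ∀ v, φ' 0 v = Cfsg.hermForm n F q v u₁' := fun v => by rw [hφ']; rfl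
  have hφ'1 : ∀ v, φ' 1 v = Cfsg.hermForm n F q v u₁ := fun v => by rw [hφ']; rfl
  have hφ'2 : ∀ v, φ' 2 v = Cfsg.hermForm n F q v u₂' := fun v => by rw [hφ']; rfl
  have hφ'3 : ∀ v, φ' 3 v = Cfsg.hermForm n F q v u₂ := fun v => by rw [hφ']; rfl
  have ht_fix : ∀ v, (∀ l, φ l v = 0) → (t : Matrix (Fin n) (Fin n) F) *ᵥ v = v := by
    intro v hv
    have h0 := hv 0
    have h1 := hv 1
    rw [hφ0] at h0
    rw [hφ1] at h1
    rw [ht, h0, h1, zero_smul, zero_smul, sub_zero, sub_zero]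
  have ht'_fix : ∀ v, (∀ l, φ' l v = 0) → (t' : Matrix (Fin n) (Fin n) F) *ᵥ v = v := by
    intro v hv
    have h0 := hv 0
    have h1 := hv 1
    have h2 := hv 2
    have h3 := hv 3
    rw [hφ'0] at h0
    rw [hφ'1] at h1
    rw [hφ'2] at h2
    rw [hφ'3] at h3
    rw [ht', h0, h1, h2, h3, zero_smul, zero_smul, zero_smul, zero_smul, sub_zero, sub_zero,
      sub_zero, sub_zero]
  have ht'_imp : ∀ v, (t' : Matrix (Fin n) (Fin n) F) *ᵥ v = v → ∀ l, φ' l v = 0 := by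
    intro v hv
    rw [ht'] at hv
    have hz : Cfsg.hermForm n F q v u₁' • u₁ + Cfsg.hermForm n F q v u₁ • u₁' +
        Cfsg.hermForm n F q v u₂' • u₂ + Cfsg.hermForm n F q v u₂ • u₂' = 0 := by
      have e : Cfsg.hermForm n F q v u₁' • u₁ + Cfsg.hermForm n F q v u₁ • u₁' +
          Cfsg.hermForm n F q v u₂' • u₂ + Cfsg.hermForm n F q v u₂ • u₂' =
          v - (v - Cfsg.hermForm n F q v u₁' • u₁ - Cfsg.hermForm n F q v u₁ • u₁' -
            Cfsg.hermForm n F q v u₂' • u₂ - Cfsg.hermForm n F q v u₂ • u₂') := by abel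
      rw [e, hv, sub_self]
    have d1 := congrArg (fun w => Cfsg.hermForm n F q w (fr 0 false)) hz
    simp only [hf.add_left, hf.smul_left, u_zero_left hf, A1, A2, A3, A4, mul_zero, mul_one,
      add_zero] at d1
    have d2 := congrArg (fun w => Cfsg.hermForm n F q w (fr 0 true)) hz
    simp only [hf.add_left, hf.smul_left, u_zero_left hf, B1, B2, B3, B4, mul_zero, mul_one,
      add_zero, zero_add] at d2
    have d3 := congrArg (fun w => Cfsg.hermForm n F q w (fr 2 false)) hz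
    simp only [hf.add_left, hf.smul_left, u_zero_left hf, C1, C2, C3, C4, mul_zero, mul_one,
      add_zero, zero_add] at d3
    have d4 := congrArg (fun w => Cfsg.hermForm n F q w (fr 2 true)) hz
    simp only [hf.add_left, hf.smul_left, u_zero_left hf, D1, D2, D3, D4, mul_zero, mul_one,
      add_zero, zero_add] at d4
    have a0 : φ' 0 v = 0 := by rw [hφ'0]; exact d1
    have a1 : φ' 1 v = 0 := by rw [hφ'1]; exact d2
    have a2 : φ' 2 v = 0 := by rw [hφ'2]; exact d3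
    have a3 : φ' 3 v = 0 := by rw [hφ'3]; exact d4
    intro l
    fin_cases l
    · exact a0
    · exact a1
    · exact a2
    · exact a3
  obtain ⟨dv, hdv⟩ : ∃ dv : Fin 4 → (Fin n → F),
      dv = ![fr 0 true, fr 0 false, fr 2 true, fr 2 false] := ⟨_, rfl⟩
  have hdual : ∀ l m, φ' l (dv m) = if l = m then 1 else 0 := by
    intro l m
    fin_cases l <;> fin_cases m <;>
      simp [hφ', hdv, uL_apply, hu₁, hu₁', hu₂, hu₂', Fr.gramR]
  -- the conjugate involution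
  obtain ⟨j, hj⟩ : ∃ j : GL (Fin n) F, j = g * t' * g⁻¹ := ⟨_, rfl⟩
  have hjM : j ∈ M := by
    rw [hj]
    exact M.mul_mem (M.mul_mem hg ht'M) (M.inv_mem hg)
  have hjj : j * j = 1 := by
    rw [hj]
    calc g * t' * g⁻¹ * (g * t' * g⁻¹) = g * (t' * t') * g⁻¹ := by group
      _ = 1 := by rw [ht't', mul_one, mul_inv_cancel]
  rcases dihedral t j htt hjj with ⟨w, hw⟩ | ⟨m, hz1, hzz, hzt, hzj⟩
  · exfalso
    have hx : t * (w⁻¹ * g) = (w⁻¹ * g) * t' := by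
      rw [hj] at hw
      have e : t = w⁻¹ * (g * t' * g⁻¹) * w := by
        rw [← hw]
        group
      calc t * (w⁻¹ * g) = w⁻¹ * (g * t' * g⁻¹) * w * (w⁻¹ * g) := by rw [← e]
        _ = (w⁻¹ * g) * t' := by group
    exact not_conj (k := 2) (k' := 4) (by norm_num) (by omega) φ φ' dv hdual t t' (w⁻¹ * g)
      ht_fix ht'_imp hx
  · obtain ⟨z, hz⟩ : ∃ z : GL (Fin n) F, z = (t * j) ^ m := ⟨_, rfl⟩
    rw [← hz] at hz1 hzz hzt hzj
    have hzM : z ∈ M := by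
      rw [hz]
      exact M.pow_mem (M.mul_mem htM hjM) m
    have hu₁0 : u₁ ≠ 0 := by
      intro h0
      rw [h0, u_zero_left hf] at A1
      exact zero_ne_one A1
    obtain ⟨cv, hcv⟩ : ∃ cv : Fin n → F, cv = -(fr 0 true) := ⟨_, rfl⟩
    have htc : (t : Matrix (Fin n) (Fin n) F) *ᵥ cv - cv = u₁ := by
      rw [ht, hcv, u_neg_left hf, u_neg_left hf, E1, E2]
      module
    have ht'c : (t' : Matrix (Fin n) (Fin n) F) *ᵥ cv - cv = u₁ := by
      rw [ht', hcv, u_neg_left hf, u_neg_left hf, u_neg_left hf, u_neg_left hf, E1, E2, E3, E4]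
      module
    have hzu₁ : (z : Matrix (Fin n) (Fin n) F) *ᵥ u₁ =
        (t : Matrix (Fin n) (Fin n) F) *ᵥ ((z : Matrix (Fin n) (Fin n) F) *ᵥ cv) -
          (z : Matrix (Fin n) (Fin n) F) *ᵥ cv := by
      rw [← htc, Matrix.mulVec_sub, Matrix.mulVec_mulVec, ← Units.val_mul, hzt, Units.val_mul,
        ← Matrix.mulVec_mulVec]
    have hzperp : Cfsg.hermForm n F q ((z : Matrix (Fin n) (Fin n) F) *ᵥ u₁) (fr 4 true) = 0 := by
      rw [hzu₁, ht]
      simp only [u_sub_left hf, hf.smul_left, G15, G1'5, mul_zero, sub_zero, sub_self]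
    have hzS : z ∈ Cfsg.Geo.subfieldSubgroup F₀ P :=
      key (by omega) h hzM hu₁R hu₁0 G11 (Fr.rat 4 true) (Fr.ne_zero 4 true) (Fr.iso 4 true) hzperp
    obtain ⟨z', hz'⟩ : ∃ z' : GL (Fin n) F, z' = g⁻¹ * z * g := ⟨_, rfl⟩
    have hz'M : z' ∈ M := by
      rw [hz']
      exact M.mul_mem (M.mul_mem (M.inv_mem hg) hzM) hg
    have hz'z' : z' * z' = 1 := by
      rw [hz']
      calc g⁻¹ * z * g * (g⁻¹ * z * g) = g⁻¹ * (z * z) * g := by group
        _ = 1 := by rw [hzz, mul_one, inv_mul_cancel]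
    have hz't' : z' * t' = t' * z' := by
      rw [hj] at hzj
      rw [hz']
      calc g⁻¹ * z * g * t' = g⁻¹ * (z * (g * t' * g⁻¹)) * g := by group
        _ = g⁻¹ * ((g * t' * g⁻¹) * z) * g := by rw [hzj]
        _ = t' * (g⁻¹ * z * g) := by group
    have hz'u₁ : (z' : Matrix (Fin n) (Fin n) F) *ᵥ u₁ =
        (t' : Matrix (Fin n) (Fin n) F) *ᵥ ((z' : Matrix (Fin n) (Fin n) F) *ᵥ cv) -
          (z' : Matrix (Fin n) (Fin n) F) *ᵥ cv := by
      rw [← ht'c, Matrix.mulVec_sub, Matrix.mulVec_mulVec, ← Units.val_mul, hz't', Units.val_mul,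
        ← Matrix.mulVec_mulVec]
    have hz'perp : Cfsg.hermForm n F q ((z' : Matrix (Fin n) (Fin n) F) *ᵥ u₁) (fr 4 true) = 0 := by
      rw [hz'u₁, ht']
      simp only [u_sub_left hf, hf.smul_left, G15, G1'5, G25, G2'5, mul_zero, sub_zero, sub_self]
    have hz'S : z' ∈ Cfsg.Geo.subfieldSubgroup F₀ P :=
      key (by omega) h hz'M hu₁R hu₁0 G11 (Fr.rat 4 true) (Fr.ne_zero 4 true) (Fr.iso 4 true)
        hz'perp
    have hzr := ratact (P := P) hn0 h.prime h.three hzS hzz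
    have hz'r := ratact (P := P) hn0 h.prime h.three hz'S hz'z'
    have hfix : ∀ ψ : (Fin n → F) →ₗ[F] F, ∃ v : Fin n → F, v ≠ 0 ∧
        (z' : Matrix (Fin n) (Fin n) F) *ᵥ v = v ∧ ψ v = 0 := by
      intro ψ
      obtain ⟨v, hv0, hφv, hφ'v⟩ := exists_common_fixed (k := 2) (k' := 5) (by omega) φ
        (Fin.snoc (α := fun _ => (Fin n → F) →ₗ[F] F) φ' ψ) g
      have h1 : ∀ l : Fin 4, φ' l v = 0 := by
        intro l
        have := hφ'v l.castSucc
        rwa [Fin.snoc_castSucc] at this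
      have h2 : ψ v = 0 := by
        have := hφ'v (Fin.last 4)
        rwa [Fin.snoc_last] at this
      have htg : (t : Matrix (Fin n) (Fin n) F) *ᵥ ((g : Matrix (Fin n) (Fin n) F) *ᵥ v) =
          (g : Matrix (Fin n) (Fin n) F) *ᵥ v := ht_fix _ hφv
      have ht'v : (t' : Matrix (Fin n) (Fin n) F) *ᵥ v = v := ht'_fix v h1
      have hjg : (j : Matrix (Fin n) (Fin n) F) *ᵥ ((g : Matrix (Fin n) (Fin n) F) *ᵥ v) =
          (g : Matrix (Fin n) (Fin n) F) *ᵥ v := by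
        rw [hj, Units.val_mul, Units.val_mul, ← Matrix.mulVec_mulVec, ← Matrix.mulVec_mulVec,
          inv_mul_mulVec, ht'v]
      have hzg : (z : Matrix (Fin n) (Fin n) F) *ᵥ ((g : Matrix (Fin n) (Fin n) F) *ᵥ v) =
          (g : Matrix (Fin n) (Fin n) F) *ᵥ v := by
        rw [hz]
        exact pow_fix (mul_fix htg hjg) m
      refine ⟨v, hv0, ?_, h2⟩
      rw [hz', Units.val_mul, Units.val_mul, ← Matrix.mulVec_mulVec, ← Matrix.mulVec_mulVec, hzg,
        inv_mul_mulVec]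
    obtain ⟨a', ha'R, ha'0, ha'a', hz'a'⟩ :=
      exists_rat_iso_fixed h.dat (h.iso hz'M) hz'r hfix
    have hzb : (z : Matrix (Fin n) (Fin n) F) *ᵥ ((g : Matrix (Fin n) (Fin n) F) *ᵥ a') =
        (g : Matrix (Fin n) (Fin n) F) *ᵥ a' := by
      have e : z * g = g * z' := by
        rw [hz']
        group
      rw [Matrix.mulVec_mulVec, ← Units.val_mul, e, Units.val_mul, ← Matrix.mulVec_mulVec, hz'a']
    obtain ⟨y, hy, hd0, hdd⟩ := exists_rat_iso_im h.dat (h.leG hzM) hzr hz1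
    have hperp : Cfsg.hermForm n F q ((g : Matrix (Fin n) (Fin n) F) *ᵥ a')
        ((z : Matrix (Fin n) (Fin n) F) *ᵥ y - y) = 0 := by
      rw [u_sub_right hf]
      have e := h.iso hzM ((g : Matrix (Fin n) (Fin n) F) *ᵥ a') y
      rw [hzb] at e
      rw [e, sub_self]
    exact key (by omega) h hg ha'R ha'0 ha'a' (isRat_sub (hzr y hy) hy) hd0 hdd hperp

end Hard

section Final
variable {F : Type*} [Field F] [Fintype F] {q n : ℕ} {hF : Fintype.card F = q ^ 2}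
  {F₀ : Subfield F} {P : GL (Fin n) F}

/-- the subfield group of odd prime degree is maximal in `GU_n(q) ⊓ SL_n`, `n ≥ 13` -/
theorem maximal_low (hn : 10 ≤ n) (hF : Fintype.card F = q ^ 2) (F₀ : Subfield F) {r : ℕ}
    (hr : r.Prime) (hro : Odd r) (hcard : Fintype.card F = Nat.card F₀ ^ r) (P : GL (Fin n) F)
    (hP : Cfsg.Geo.IsFormRationalStructure (Cfsg.hermForm n F q) F₀ 1 P) :
    Cfsg.Geo.IsMaximalIn (Cfsg.GU n F q ⊓ Cfsg.Geo.specialLinear (Fin n) F)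
      (Cfsg.Geo.subfieldSubgroup F₀ P ⊓ (Cfsg.GU n F q ⊓ Cfsg.Geo.specialLinear (Fin n) F)) := by
  have hfr : Module.finrank F₀ F = r := finrank_eq_of_card F₀ hcard
  have hr3 : 3 ≤ r := by
    have h2 := hr.two_le
    rcases hro with ⟨k, hk⟩
    omega
  have D : Dat hF F₀ P := ⟨hP, exists_moved_sub hF F₀ hr hro hcard⟩
  refine ⟨Hsub_lt (by omega) D (by rw [hfr]; omega), ?_⟩
  intro M hHM hMG
  by_cases hG : Cfsg.GU n F q ⊓ Cfsg.Geo.specialLinear (Fin n) F ≤ M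
  · right
    exact le_antisymm hMG hG
  · left
    have h : Ctx hF F₀ P M := ⟨D, hHM, hMG, hG, by rw [hfr]; exact hr, by rw [hfr]; exact hr3⟩
    apply le_antisymm _ hHM
    intro g hg
    exact ⟨hard_low hn h hg, hMG hg⟩

end Final

end Cfsg.Agent.Lib.Helper16.SUg
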