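import Cfsg.Agent.S5653

/-!
# Low-dimensional version of S5653 (t.s. subspace stabilisers are maximal in SU_n(q)) (helper16)

Verbatim copy of `Cfsg.Agent.S5653.S5653aux.main` (helper5) with the bound `13 ≤ n` relaxed to `4 ≤ n`.
-/

set_option autoImplicit false
set_option linter.unusedSectionVars false
set_option linter.unusedVariables false
set_option linter.unusedSimpArgs false

namespace Cfsg.Agent.Lib.Helper16.SUg
open Cfsg Matrix Cfsg.Agent.Lib.Helper14 Cfsg.Agent.Lib.Helper5.SpMax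
  Cfsg.Agent.Lib.Helper5.UForm Cfsg.Agent.Lib.Helper5.UEichler Cfsg.Agent.Lib.Helper5.HermBridge
  Cfsg.Agent.Lib.Helper5.SUGen Cfsg.Agent.Lib.Helper5.SUMax Cfsg.Agent.S5653.S5653aux

variable {F : Type*} [Field F] [Fintype F] {q n : ℕ}

theorem ts_main_low (hF : Fintype.card F = q ^ 2) (hn : 4 ≤ n) (W : Submodule F (Fin n → F))
    (hW0 : W ≠ ⊥) (hW : Cfsg.Geo.IsTotallySingularFor (Cfsg.hermForm n F q) W) :
    Cfsg.Geo.IsMaximalIn (Cfsg.GU n F q ⊓ Cfsg.Geo.specialLinear (Fin n) F)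
      (Cfsg.Geo.subspaceStabilizer W ⊓ (Cfsg.GU n F q ⊓ Cfsg.Geo.specialLinear (Fin n) F)) := by
  have hf := herm_unitary (n := n) hF
  refine ⟨?_, ?_⟩
  · rw [lt_iff_le_and_ne]
    refine ⟨inf_le_right, fun heq => ?_⟩
    obtain ⟨w, hwW, hw0⟩ := (Submodule.ne_bot_iff W).mp hW0
    have hww := hW w hwW w hwW
    obtain ⟨z, -, hzz, hwz⟩ := exists_partner hf (ND_top hf)
      (Submodule.mem_top : w ∈ (⊤ : Submodule F (Fin n → F))) hw0 hww
    obtain ⟨c, hc0, hc⟩ := exists_skew hf.involutive hf.ne_refl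
    obtain ⟨g, hgG, hg⟩ := exists_tvg hF hzz hc
    have hgH : g ∈ Cfsg.Geo.subspaceStabilizer W ⊓
        (Cfsg.GU n F q ⊓ Cfsg.Geo.specialLinear (Fin n) F) := by rw [heq]; exact hgG
    have h1 := (mem_stab.mp hgH.1 w).mp hwW
    rw [hg, hwz, mul_one, W.add_mem_iff_right hwW] at h1
    have h3 : z ∈ W := by
      have := W.smul_mem c⁻¹ h1
      rwa [smul_smul, inv_mul_cancel₀ hc0, one_smul] at this
    have h4 := hW w hwW z h3
    rw [hwz] at h4
    exact one_ne_zero h4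
  · intro M hHM hMG
    by_cases hMH : M = Cfsg.Geo.subspaceStabilizer W ⊓
        (Cfsg.GU n F q ⊓ Cfsg.Geo.specialLinear (Fin n) F)
    · left; exact hMH
    right
    apply le_antisymm hMG
    obtain ⟨g, hgM, hgH⟩ : ∃ g ∈ M, g ∉ Cfsg.Geo.subspaceStabilizer W ⊓
        (Cfsg.GU n F q ⊓ Cfsg.Geo.specialLinear (Fin n) F) := by
      by_contra hcon
      push Not at hcon
      exact hMH (le_antisymm hcon hHM)
    have hgS : g ∉ Cfsg.Geo.subspaceStabilizer W := fun h => hgH ⟨h, hMG hgM⟩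
    have hgU : g ∈ Cfsg.GU n F q := (hMG hgM).1
    obtain ⟨a, haW, hga⟩ : ∃ a ∈ W, (g : Matrix (Fin n) (Fin n) F) *ᵥ a ∉ W := by
      by_contra hcon
      push Not at hcon
      exact hgS (mem_stab_of_maps_le hcon)
    have haa := hW a haW a haW
    have haS : a ∈ Sset hF M := mem_Sset_of_mem hF hHM haW haa
    have hsS := Sset_mulVec_mem hF hgM hgU haS
    have hss : Cfsg.hermForm n F q ((g : Matrix (Fin n) (Fin n) F) *ᵥ a)
        ((g : Matrix (Fin n) (Fin n) F) *ᵥ a) = 0 := by rw [mem_GU.mp hgU]; exact haa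
    obtain ⟨s₀, hs₀S, hs₀s₀, hs₀W⟩ : ∃ s₀ ∈ Sset hF M, Cfsg.hermForm n F q s₀ s₀ = 0 ∧
        ∃ w ∈ W, Cfsg.hermForm n F q w s₀ ≠ 0 := by
      by_cases hsW : ∃ w ∈ W, Cfsg.hermForm n F q w ((g : Matrix (Fin n) (Fin n) F) *ᵥ a) ≠ 0
      · exact ⟨_, hsS, hss, hsW⟩
      push Not at hsW
      have hsp : (g : Matrix (Fin n) (Fin n) F) *ᵥ a ∈ uperp hf W :=
        fun w hw => u_symm_zero hf (hsW w hw)
      obtain ⟨z, -, hzW, hzs⟩ := exists_rad hf _ ⊤ W _ (ND_top hf) le_top hW rfl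
        Submodule.mem_top hsp hga
      obtain ⟨l, hl⟩ := exists_iso_add hf hss hzs 0 (map_zero _)
      have hyW : ∀ w ∈ W, Cfsg.hermForm n F q w
          (z + l • (g : Matrix (Fin n) (Fin n) F) *ᵥ a) = 0 := by
        intro w hw
        rw [u_add_right hf, u_smul_right hf, uperp_symm hf hzW hw, hsW w hw]
        ring
      have hyS : z + l • (g : Matrix (Fin n) (Fin n) F) *ᵥ a ∈ Sset hF M :=
        mem_Sset_of_perp hF hHM hyW hl
      have hys : Cfsg.hermForm n F q (z + l • (g : Matrix (Fin n) (Fin n) F) *ᵥ a)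
          ((g : Matrix (Fin n) (Fin n) F) *ᵥ a) ≠ 0 := by
        rw [hf.add_left, hf.smul_left, hss, mul_zero, add_zero]
        exact hzs
      have hgU' : g⁻¹ ∈ Cfsg.GU n F q := inv_mem hgU
      refine ⟨((g⁻¹ : GL (Fin n) F) : Matrix (Fin n) (Fin n) F) *ᵥ
        (z + l • (g : Matrix (Fin n) (Fin n) F) *ᵥ a),
        Sset_mulVec_mem hF (M.inv_mem hgM) hgU' hyS, ?_, a, haW, ?_⟩
      · rw [mem_GU.mp hgU']
        exact hl
      · have h5 : Cfsg.hermForm n F q a (((g⁻¹ : GL (Fin n) F) : Matrix (Fin n) (Fin n) F) *ᵥ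
            (z + l • (g : Matrix (Fin n) (Fin n) F) *ᵥ a)) =
            Cfsg.hermForm n F q ((g : Matrix (Fin n) (Fin n) F) *ᵥ a)
              (z + l • (g : Matrix (Fin n) (Fin n) F) *ᵥ a) := by
          rw [← mem_GU.mp hgU a, mul_inv_mulVec]
        rw [h5]
        exact u_symm_ne hf hys
    apply Cfsg.Agent.Lib.Helper5.SUMax.le_of_forall_mem_Sset hF (by omega) (by omega)
    intro v hvv
    exact all_mem hF hW hHM hs₀S hs₀s₀ hs₀W hvv


end Cfsg.Agent.Lib.Helper16.SUg
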