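import Cfsg.Agent.S5657

/-!
# Low-dimensional version of S5657 (stabilisers of pairs of complementary t.i. subspaces are maximal in SU_n(q)) (helper16)

Verbatim copy of `Cfsg.Agent.S5657.S5657aux.main` (helper5) with the bound `13 ≤ n` relaxed to `10 ≤ n`.
-/

set_option autoImplicit false
set_option linter.unusedSectionVars false
set_option linter.unusedVariables false
set_option linter.unusedSimpArgs false

namespace Cfsg.Agent.Lib.Helper16.SUg
open Cfsg Matrix Cfsg.Agent.Lib.Helper14 Cfsg.Agent.Lib.Helper5.SpMax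
  Cfsg.Agent.Lib.Helper5.UForm Cfsg.Agent.Lib.Helper5.UEichler Cfsg.Agent.Lib.Helper5.HermBridge
  Cfsg.Agent.Lib.Helper5.SUGen Cfsg.Agent.S5657.S5657aux
open Cfsg.Agent.S5647.S5647aux (map_eq_of_maps)
open Cfsg.Agent.Lib.Helper5.SUMax (mem_GU emb emb_mulVec emb_mem exists_tvg tv_mem_G
  Sset_smul Sset_tv)

variable {F : Type*} [Field F] [Fintype F] {q n : ℕ}

theorem tspair_main_low (hF : Fintype.card F = q ^ 2) (hn : 10 ≤ n) (k : ℕ) (hk : 2 * k = n)
    (D : Fin 2 → Submodule F (Fin n → F)) (hD : Cfsg.Geo.IsMDecomposition k D)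
    (hts : ∀ i, Cfsg.Geo.IsTotallySingularFor (Cfsg.hermForm n F q) (D i)) :
    Cfsg.Geo.IsMaximalIn (Cfsg.GU n F q ⊓ Cfsg.Geo.specialLinear (Fin n) F)
      (Cfsg.Geo.decompositionStabilizer D ⊓
        (Cfsg.GU n F q ⊓ Cfsg.Geo.specialLinear (Fin n) F)) := by
  have hf := herm_unitary (n := n) hF
  have hk7 : 5 ≤ k := by omega
  have hc : IsCompl (D 0) (D 1) := by
    refine ⟨hD.indep.pairwiseDisjoint (by decide), ?_⟩
    rw [codisjoint_iff, eq_top_iff, ← hD.iSup_eq_top]
    apply iSup_le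
    intro i
    fin_cases i
    · exact le_sup_left
    · exact le_sup_right
  have h : LP (Cfsg.hermForm n F q) (D 0) (D 1) := ⟨hts 0, hts 1, hc⟩
  have hfrA := hD.finrank_eq 0
  have hfrB := hD.finrank_eq 1
  have hmem_of : ∀ g : GL (Fin n) F,
      ((∀ a ∈ D 0, (g : Matrix (Fin n) (Fin n) F) *ᵥ a ∈ D 0) ∧
        (∀ b ∈ D 1, (g : Matrix (Fin n) (Fin n) F) *ᵥ b ∈ D 1)) ∨
      ((∀ a ∈ D 0, (g : Matrix (Fin n) (Fin n) F) *ᵥ a ∈ D 1) ∧
        (∀ b ∈ D 1, (g : Matrix (Fin n) (Fin n) F) *ᵥ b ∈ D 0)) →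
      g ∈ Cfsg.Geo.decompositionStabilizer D := by
    rintro g (⟨h1, h2⟩ | ⟨h1, h2⟩)
    · refine ⟨1, fun i => ?_⟩
      fin_cases i
      · exact map_eq_of_maps h1 rfl
      · exact map_eq_of_maps h2 rfl
    · refine ⟨Equiv.swap 0 1, fun i => ?_⟩
      fin_cases i
      · change (D 0).map _ = D (Equiv.swap 0 1 0)
        rw [Equiv.swap_apply_left]
        exact map_eq_of_maps h1 (by rw [hfrA, hfrB])
      · change (D 1).map _ = D (Equiv.swap 0 1 1)
        rw [Equiv.swap_apply_right]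
        exact map_eq_of_maps h2 (by rw [hfrA, hfrB])
  have hne0 : ∃ a ∈ D 0, a ≠ 0 := by
    apply (Submodule.ne_bot_iff _).mp
    intro hbot
    rw [hbot, finrank_bot] at hfrA
    omega
  have hne1 : ∃ b ∈ D 1, b ≠ 0 := by
    apply (Submodule.ne_bot_iff _).mp
    intro hbot
    rw [hbot, finrank_bot] at hfrB
    omega
  have hE0 : ∀ a ∈ D 0, ∀ b ∈ D 1, Cfsg.hermForm n F q b a = 0 → ∀ g : GL (Fin n) F,
      IsE q g a b → g ∈ Cfsg.Geo.decompositionStabilizer D ⊓
        (Cfsg.GU n F q ⊓ Cfsg.Geo.specialLinear (Fin n) F) := by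
    intro a ha b hb hba g hg
    refine ⟨hmem_of _ (Or.inl ⟨?_, ?_⟩),
      IsE_mem_GU hF (h.hA a ha a ha) (h.hB b hb b hb) hba hg,
      IsE_mem_SL hF (h.hA a ha a ha) hba hg⟩
    · intro x hx
      rw [hg x, h.hA x hx a ha, zero_smul, sub_zero]
      exact (D 0).add_mem hx ((D 0).smul_mem _ ha)
    · intro x hx
      rw [hg x, h.hB x hx b hb, zero_smul, add_zero]
      exact (D 1).sub_mem hx ((D 1).smul_mem _ hb)
  have hE1 : ∀ b ∈ D 1, ∀ a ∈ D 0, Cfsg.hermForm n F q a b = 0 → ∀ g : GL (Fin n) F,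
      IsE q g b a → g ∈ Cfsg.Geo.decompositionStabilizer D ⊓
        (Cfsg.GU n F q ⊓ Cfsg.Geo.specialLinear (Fin n) F) := by
    intro b hb a ha hab g hg
    refine ⟨hmem_of _ (Or.inl ⟨?_, ?_⟩),
      IsE_mem_GU hF (h.hB b hb b hb) (h.hA a ha a ha) hab hg,
      IsE_mem_SL hF (h.hB b hb b hb) hab hg⟩
    · intro x hx
      rw [hg x, h.hA x hx a ha, zero_smul, add_zero]
      exact (D 0).sub_mem hx ((D 0).smul_mem _ ha)
    · intro x hx
      rw [hg x, h.hB x hx b hb, zero_smul, sub_zero]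
      exact (D 1).add_mem hx ((D 1).smul_mem _ hb)
  refine ⟨?_, ?_⟩
  · rw [lt_iff_le_and_ne]
    refine ⟨inf_le_right, fun heq => ?_⟩
    obtain ⟨a, ha, ha0⟩ := hne0
    obtain ⟨b, hb, hab⟩ := h.nd hf ha ha0
    obtain ⟨c, hc0, hcs⟩ := exists_skew hf.involutive hf.ne_refl
    obtain ⟨t, htG, ht⟩ := exists_tvg hF (h.hA a ha a ha) hcs
    have hT : t ∈ Cfsg.Geo.decompositionStabilizer D ⊓
        (Cfsg.GU n F q ⊓ Cfsg.Geo.specialLinear (Fin n) F) := by
      rw [heq]; exact htG
    obtain ⟨σ, hσ⟩ := hT.1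
    have hTa : (t : Matrix (Fin n) (Fin n) F) *ᵥ a = a := by
      rw [ht, h.hA a ha a ha, mul_zero, zero_smul, add_zero]
    have h0 : σ 0 = 0 := by
      by_contra hne
      have h1 : σ 0 = 1 := by
        obtain ⟨v, hv⟩ : ∃ v, σ 0 = v := ⟨_, rfl⟩
        fin_cases v
        · exact absurd hv hne
        · exact hv
      have h3 : a ∈ D (σ 0) := by
        rw [← hσ 0]
        exact ⟨a, ha, by rw [Matrix.toLin'_apply]; exact hTa⟩
      rw [h1] at h3
      exact ha0 (h.inf_eq ha h3)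
    have h1 : σ 1 = 1 := by
      obtain ⟨v, hv⟩ : ∃ v, σ 1 = v := ⟨_, rfl⟩
      fin_cases v
      · exfalso
        have := σ.injective (hv.trans h0.symm)
        exact absurd this (by decide)
      · exact hv
    have h3 : (t : Matrix (Fin n) (Fin n) F) *ᵥ b ∈ D 1 := by
      have h4 : (t : Matrix (Fin n) (Fin n) F) *ᵥ b ∈ D (σ 1) := by
        rw [← hσ 1]
        exact ⟨b, hb, by rw [Matrix.toLin'_apply]⟩
      rwa [h1] at h4
    rw [ht, (D 1).add_mem_iff_right hb] at h3
    have hba : Cfsg.hermForm n F q b a ≠ 0 := u_symm_ne hf hab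
    have h5 : a ∈ D 1 := by
      have := (D 1).smul_mem (c * Cfsg.hermForm n F q b a)⁻¹ h3
      rwa [smul_smul, inv_mul_cancel₀ (mul_ne_zero hc0 hba), one_smul] at this
    exact ha0 (h.inf_eq ha h5)
  · intro M hHM hMG
    have hMU : M ≤ Cfsg.GU n F q := fun x hx => (hMG hx).1
    by_cases hMH : M = Cfsg.Geo.decompositionStabilizer D ⊓
        (Cfsg.GU n F q ⊓ Cfsg.Geo.specialLinear (Fin n) F)
    · left; exact hMH
    right
    apply le_antisymm hMG
    obtain ⟨g, hgM, hgH⟩ : ∃ g ∈ M, g ∉ Cfsg.Geo.decompositionStabilizer D ⊓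
        (Cfsg.GU n F q ⊓ Cfsg.Geo.specialLinear (Fin n) F) := by
      by_contra hcon
      push Not at hcon
      exact hMH (le_antisymm hcon hHM)
    have hgS : g ∉ Cfsg.Geo.decompositionStabilizer D := fun hh => hgH ⟨hh, hMG hgM⟩
    obtain ⟨J, hJG, hJA, hJB, -⟩ := exists_swap hF k (D 0) (D 1) (hts 0) (hts 1)
      (fun a ha ha0 => h.nd hf ha ha0)
      (fun b hb hb0 => by
        obtain ⟨a, ha, hba⟩ := h.symm.nd hf hb hb0
        exact ⟨a, ha, u_symm_ne hf hba⟩) hfrA
    have hJM : J ∈ M := hHM ⟨hmem_of J (Or.inr ⟨hJA, hJB⟩), hJG⟩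
    have hJU' : J⁻¹ ∈ Cfsg.GU n F q := inv_mem hJG.1
    have hall : ∀ v, Cfsg.hermForm n F q v v = 0 →
        v ∈ Cfsg.Agent.Lib.Helper5.SUMax.Sset hF M := by
      by_cases hstarA : ∀ a ∈ D 0, a ≠ 0 → ∀ m₀ ∈ M,
          (m₀ : Matrix (Fin n) (Fin n) F) *ᵥ a = a → ∀ x,
          InC (Cfsg.hermForm n F q) (D 1) a x →
          InC (Cfsg.hermForm n F q) (D 1) a ((m₀ : Matrix (Fin n) (Fin n) F) *ᵥ x)
      · by_cases hstarB : ∀ b ∈ D 1, b ≠ 0 → ∀ m₀ ∈ M,
            (m₀ : Matrix (Fin n) (Fin n) F) *ᵥ b = b → ∀ x,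
            InC (Cfsg.hermForm n F q) (D 0) b x →
            InC (Cfsg.hermForm n F q) (D 0) b ((m₀ : Matrix (Fin n) (Fin n) F) *ᵥ x)
        · exfalso
          apply hgS
          have d1 := all_or_all hf (by omega : 5 ≤ k) h hfrA hfrB g
            (fun a' ha' b' hb' hab =>
              dep_of_star hF (by omega : 5 ≤ k) hMU h hfrA
                (fun a ha b hb hba e he => hHM (hE0 a ha b hb hba e he))
                hstarA hgM ha' hb' hab)
          have d2 := all_or_all hf (by omega : 5 ≤ k) h.symm hfrB hfrA g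
            (fun a' ha' b' hb' hab =>
              dep_of_star hF (by omega : 5 ≤ k) hMU h.symm hfrB
                (fun b hb a ha hab e he => hHM (hE1 b hb a ha hab e he))
                hstarB hgM ha' hb' hab)
          apply hmem_of
          rcases d1 with d1 | d1
          · rcases d2 with d2 | d2
            · exact Or.inr ⟨d1, d2⟩
            · exfalso
              obtain ⟨a, ha, ha0⟩ := hne0
              have h3 := h.inf_eq (d2 a ha) (d1 a ha)
              apply ha0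
              have h4 := inv_mul_mulVec g a
              rw [h3, Matrix.mulVec_zero] at h4
              exact h4.symm
          · rcases d2 with d2 | d2
            · exfalso
              obtain ⟨b, hb, hb0⟩ := hne1
              have h3 := h.inf_eq (d2 b hb) (d1 b hb)
              apply hb0
              have h4 := inv_mul_mulVec g b
              rw [h3, Matrix.mulVec_zero] at h4
              exact h4.symm
            · exact Or.inl ⟨d2, d1⟩
        · push Not at hstarB
          obtain ⟨b, hb, hb0, m₀, hm₀, hfix, x, hx, hmx⟩ := hstarB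
          have hbS := local_of_moved hF h.symm hb hb0
            (fun a ha hab e he => hHM (hE1 b hb a ha hab e he)) hm₀ (hMU hm₀) hfix hx hmx
          have hBS := spread hF h.symm
            (fun b hb a ha hab e he => hHM (hE1 b hb a ha hab e he)) hb hb0 hbS
          have hAS : ∀ a ∈ D 0, a ∈ Cfsg.Agent.Lib.Helper5.SUMax.Sset hF M := by
            intro a ha
            have h3 := Cfsg.Agent.Lib.Helper5.SUMax.Sset_mulVec_mem hF (M.inv_mem hJM) hJU'
              (hBS _ (hJA a ha))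
            rwa [inv_mul_mulVec] at h3
          exact all_of_AB hF h hAS hBS
      · push Not at hstarA
        obtain ⟨a, ha, ha0, m₀, hm₀, hfix, x, hx, hmx⟩ := hstarA
        have haS := local_of_moved hF h ha ha0
          (fun b hb hba e he => hHM (hE0 a ha b hb hba e he)) hm₀ (hMU hm₀) hfix hx hmx
        have hAS := spread hF h
          (fun a ha b hb hba e he => hHM (hE0 a ha b hb hba e he)) ha ha0 haS
        have hBS : ∀ b ∈ D 1, b ∈ Cfsg.Agent.Lib.Helper5.SUMax.Sset hF M := by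
          intro b hb
          have h3 := Cfsg.Agent.Lib.Helper5.SUMax.Sset_mulVec_mem hF (M.inv_mem hJM) hJU'
            (hAS _ (hJB b hb))
          rwa [inv_mul_mulVec] at h3
        exact all_of_AB hF h hAS hBS
    exact Cfsg.Agent.Lib.Helper5.SUMax.le_of_forall_mem_Sset hF (by omega) (by omega) M hall



end Cfsg.Agent.Lib.Helper16.SUg
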