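import Mathlib
import Cfsg.Agent.Lib.Helper20.UTCore
import Cfsg.Agent.Lib.Helper20.UTStageII

/-!
Low-dimensional re-run of S5670 (unitary tensor product stabilisers `GU_{n₁}(q) ⊗ GU_{n₂}(q)` are maximal
in `SU_n(q)`): the proof of helper20's market only needs `4 ≤ n₂` (and `8 ≤ n = n₁ n₂`).
-/

set_option autoImplicit false
set_option linter.unusedSectionVars false
set_option linter.unusedVariables false

namespace Cfsg.Agent.Lib.Helper16.SUg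
open Matrix
open Cfsg.Agent.Lib.Helper25.Tens Cfsg.Agent.Lib.Helper25.TensLeaf Cfsg.Agent.Lib.Helper20.UT
open scoped Kronecker

theorem tensor_low {F : Type*} [Field F] [Fintype F] (n q : ℕ) (hF : Fintype.card F = q ^ 2)
    (hn : 8 ≤ n) (n₁ n₂ : ℕ) (h1 : 2 ≤ n₁) (h12 : n₁ < n₂) (hb : 4 ≤ n₂)
    (hex : ¬ (n₁ = 2 ∧ q = 2)) (e : Fin n ≃ Fin n₁ × Fin n₂)
    (P : Matrix.GeneralLinearGroup (Fin n) F) (f₁ : (Fin n₁ → F) → (Fin n₁ → F) → F)
    (f₂ : (Fin n₂ → F) → (Fin n₂ → F) → F) (hf₁ : Cfsg.Geo.IsUnitaryFormPow q f₁)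
    (hf₂ : Cfsg.Geo.IsUnitaryFormPow q f₂)
    (hT : Cfsg.Geo.IsTensorFormStructure (fun x : F => x ^ q) (Cfsg.hermForm n F q) f₁ f₂ e P) :
    Cfsg.Geo.IsMaximalIn (Cfsg.GU n F q ⊓ Cfsg.Geo.specialLinear (Fin n) F)
      (Cfsg.Geo.tensorProductSubgroup n₁ n₂ e P ⊓
        (Cfsg.GU n F q ⊓ Cfsg.Geo.specialLinear (Fin n) F)) := by
  have hcard : n = n₁ * n₂ := by
    have := Fintype.card_congr e
    simpa using this
  have hc : Ctx n₁ n₂ q F :=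
    { hF := hF, ha := h1, hab := h12, hb := hb, hn := by rw [← hcard]; exact hn, hex := hex }
  exact Cfsg.Agent.Lib.Helper7.UTTLeaf.transportU hF n₁ n₂ e P f₁ f₂ hf₁ hf₂ hT
    (Cfsg.Agent.Lib.Helper20.UTCore.core_of hc
      (fun M h hR => Cfsg.Agent.Lib.Helper20.UTStageII.lemmaNU h hR))

end Cfsg.Agent.Lib.Helper16.SUg
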