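/-
helper16: S4395 leaf D2AP `mem_closure_of_commutator_eq` (planner helper21, notes/S4395_leaves.lean).
-/
import Mathlib
import Cfsg.Prelude.Def_Transfer
import Cfsg.Agent.Lib.Helper21.SchDefs

set_option autoImplicit false
universe u v
open Cfsg
open Cfsg.Agent.Lib.Helper21.Sch

namespace Cfsg.Agent.Lib.Helper16.SchD2AP

/-- **TAG D2AP** `[P, ⟨y⟩] = P` in the form needed for `Frame.IsComm`. -/
theorem mem_closure_of_commutator_eq {X : Type*} [Group X] [Finite X] (P : Subgroup X) (y : X)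
    (hy : ∀ x ∈ P, y * x * y⁻¹ ∈ P) (hc : ⁅P, Subgroup.zpowers y⁆ = P) :
    ∀ x ∈ P, x ∈ Subgroup.closure {c : X | ∃ x' ∈ P, c = x'⁻¹ * (y * x' * y⁻¹)} := by
  set C : Subgroup X := Subgroup.closure {c : X | ∃ x' ∈ P, c = x'⁻¹ * (y * x' * y⁻¹)} with hC
  have hgen : ∀ x' ∈ P, x'⁻¹ * (y * x' * y⁻¹) ∈ C := fun x' hx' =>
    Subgroup.subset_closure ⟨x', hx', rfl⟩
  have hinv : ∀ c ∈ C, y * c * y⁻¹ ∈ C := by
    intro c hc'
    induction hc' using Subgroup.closure_induction with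
    | mem c hc'' =>
      obtain ⟨x', hx', rfl⟩ := hc''
      have h1 : y * (x'⁻¹ * (y * x' * y⁻¹)) * y⁻¹ =
          (y * x' * y⁻¹)⁻¹ * (y * (y * x' * y⁻¹) * y⁻¹) := by group
      rw [h1]
      exact hgen _ (hy x' hx')
    | one => simp [C.one_mem]
    | mul a b _ _ iha ihb =>
      have h1 : y * (a * b) * y⁻¹ = (y * a * y⁻¹) * (y * b * y⁻¹) := by group
      rw [h1]
      exact C.mul_mem iha ihb
    | inv a _ iha =>
      have h1 : y * a⁻¹ * y⁻¹ = (y * a * y⁻¹)⁻¹ := by group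
      rw [h1]
      exact C.inv_mem iha
  have hk : ∀ k : ℕ, ∀ x ∈ P, x * y ^ k * x⁻¹ * (y ^ k)⁻¹ ∈ C := by
    intro k
    induction k with
    | zero =>
      intro x _
      simp [C.one_mem]
    | succ k ih =>
      intro x hx
      have h1 : x * y ^ (k + 1) * x⁻¹ * (y ^ (k + 1))⁻¹ =
          ((x⁻¹)⁻¹ * (y * x⁻¹ * y⁻¹)) * (y * (x * y ^ k * x⁻¹ * (y ^ k)⁻¹) * y⁻¹) := by
        rw [pow_succ']
        group
      rw [h1]
      exact C.mul_mem (hgen _ (P.inv_mem hx)) (hinv _ (ih x hx))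
  have hle : ⁅P, Subgroup.zpowers y⁆ ≤ C := by
    rw [Subgroup.commutator_le]
    intro g₁ h₁ g₂ h₂
    rw [← mem_powers_iff_mem_zpowers] at h₂
    obtain ⟨k, rfl⟩ := h₂
    rw [commutatorElement_def]
    exact hk k g₁ h₁
  intro x hx
  rw [← hc] at hx
  exact hle hx

end Cfsg.Agent.Lib.Helper16.SchD2AP
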