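/-
helper16: S4395 leaf D2BI `exists_field_of_module` (planner helper21, notes/S4395_leaves.lean).
`L` = the subring of `AddMonoid.End (Additive V)` generated by `T`.
-/
import Mathlib
import Cfsg.Prelude.Def_Transfer
import Cfsg.Agent.Lib.Helper21.SchDefs

set_option autoImplicit false
universe u v
open Cfsg
open Cfsg.Agent.Lib.Helper21.Sch

namespace Cfsg.Agent.Lib.Helper16.SchD2BI

theorem mulAut_pow_apply_eq {V : Type u} [CommGroup V] (T : V ≃* V) (k : ℕ) (v : V) :
    (T ^ k) v = (⇑T)^[k] v := by
  induction k with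
  | zero => rfl
  | succ k ih =>
    rw [pow_succ', Function.iterate_succ_apply']
    show T ((T ^ k) v) = _
    rw [ih]

/-- **TAG D2BI** a finite elementary abelian `p`-group `V` with an automorphism `T` leaving no proper nontrivial
subgroup invariant is the additive group of a finite field `L` on which `T` is the multiplication by some `t`
generating `L`. -/
theorem exists_field_of_module (p q : ℕ) [Fact p.Prime] {V : Type u} [CommGroup V] [Finite V]
    (hVp : ∀ v : V, v ^ p = 1) (T : V ≃* V)
    (hTq : ∀ v : V, (T ^ q) v = v) (hT1 : ∃ v : V, T v ≠ v)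
    (hirr : ∀ S : Subgroup V, (∀ v ∈ S, T v ∈ S) → S = ⊥ ∨ S = ⊤) :
    ∃ (L : Type u) (_ : Field L) (_ : Finite L) (_ : CharP L p) (t : L) (θ : V ≃* Multiplicative L),
      t ^ q = 1 ∧ t ≠ 1 ∧ (∀ v : V, Multiplicative.toAdd (θ (T v)) = t * Multiplicative.toAdd (θ v)) ∧
      (∀ S : AddSubgroup L, (1 : L) ∈ S → (∀ v ∈ S, t * v ∈ S) → S = ⊤) := by
  classical
  have hp : p.Prime := Fact.out
  let A := Additive V
  let τ : AddMonoid.End A := (MulEquiv.toAdditive T).toAddMonoidHom
  have hτ : ∀ v : V, τ (Additive.ofMul v) = Additive.ofMul (T v) := fun v => rfl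
  let R : Subring (AddMonoid.End A) := Subring.closure {τ}
  have hcomm : ∀ a ∈ ({τ} : Set (AddMonoid.End A)), ∀ b ∈ ({τ} : Set (AddMonoid.End A)),
      a * b = b * a := by
    intro a ha b hb
    rw [Set.mem_singleton_iff] at ha hb
    rw [ha, hb]
  letI cR : CommRing R := Subring.closureCommRingOfComm hcomm
  let t : R := ⟨τ, Subring.subset_closure (Set.mem_singleton τ)⟩
  haveI : Finite (AddMonoid.End A) :=
    Finite.of_injective (fun f : AddMonoid.End A => (f : A → A)) DFunLike.coe_injective
  haveI : Finite R := Subtype.finite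
  obtain ⟨v₁, hv₁⟩ := hT1
  have hv₁1 : v₁ ≠ 1 := by
    rintro rfl
    exact hv₁ (map_one T)
  -- elements of `R` commute with `τ`
  have hct : ∀ (e : R) (a : A), e.1 (τ a) = τ (e.1 a) := by
    intro e a
    have h1 : e * t = t * e := mul_comm e t
    have h2 : e.1 * τ = τ * e.1 := congrArg Subtype.val h1
    exact DFunLike.congr_fun h2 a
  -- non-zero elements are injective
  have hinj : ∀ e : R, e ≠ 0 → Function.Injective (e.1 : A → A) := by
    intro e he
    let S : Subgroup V :=
      { carrier := {v | e.1 (Additive.ofMul v) = 0}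
        one_mem' := map_zero e.1
        mul_mem' := by
          intro a b ha hb
          show e.1 (Additive.ofMul a + Additive.ofMul b) = 0
          rw [map_add, ha, hb, add_zero]
        inv_mem' := by
          intro a ha
          show e.1 (-Additive.ofMul a) = 0
          rw [map_neg, ha, neg_zero] }
    have hS : ∀ v ∈ S, T v ∈ S := by
      intro v hv
      show e.1 (Additive.ofMul (T v)) = 0
      rw [← hτ, hct]
      have : e.1 (Additive.ofMul v) = 0 := hv
      rw [this, map_zero]
    rcases hirr S hS with h | h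
    · rw [injective_iff_map_eq_zero]
      intro a ha
      have : Additive.toMul a ∈ S := ha
      rw [h, Subgroup.mem_bot] at this
      exact this
    · exfalso
      apply he
      apply Subtype.ext
      apply AddMonoidHom.ext
      intro a
      have : Additive.toMul a ∈ S := by rw [h]; exact Subgroup.mem_top _
      exact this
  haveI : Nontrivial R := by
    refine ⟨⟨0, 1, ?_⟩⟩
    intro h
    have h2 : (0 : AddMonoid.End A) = 1 := congrArg Subtype.val h
    have h3 := DFunLike.congr_fun h2 (Additive.ofMul v₁)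
    exact hv₁1 h3.symm
  haveI : NoZeroDivisors R := by
    refine ⟨?_⟩
    intro a b hab
    by_contra hcon
    push Not at hcon
    apply hcon.2
    apply Subtype.ext
    apply AddMonoidHom.ext
    intro x
    have h2 : a.1 * b.1 = 0 := congrArg Subtype.val hab
    have h3 : a.1 (b.1 x) = 0 := DFunLike.congr_fun h2 x
    have h4 := hinj a hcon.1 (h3.trans (map_zero a.1).symm)
    exact h4
  haveI : IsDomain R := NoZeroDivisors.to_isDomain R
  haveI : Fintype R := Fintype.ofFinite R
  letI fR : Field R := Fintype.fieldOfDomain R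
  -- characteristic
  have hchar : CharP R p := by
    rw [CharP.charP_iff_prime_eq_zero hp]
    apply Subtype.ext
    apply AddMonoidHom.ext
    intro x
    show ((p : R) : AddMonoid.End A) x = 0
    have h1 : ((p : R) : AddMonoid.End A) = (p : AddMonoid.End A) := by
      simp
    rw [h1]
    have h2 : ((p : AddMonoid.End A)) x = p • x := by
      simp
    rw [h2]
    exact hVp (Additive.toMul x)
  -- the evaluation map
  let a₀ : A := Additive.ofMul v₁
  have ha₀ : a₀ ≠ 0 := hv₁1
  let Φ : R →+ A :=
    { toFun := fun e => e.1 a₀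
      map_zero' := rfl
      map_add' := fun _ _ => rfl }
  have hΦinj : Function.Injective Φ := by
    rw [injective_iff_map_eq_zero]
    intro e he
    by_contra hne
    exact ha₀ (hinj e hne (he.trans (map_zero e.1).symm))
  have hΦsurj : Function.Surjective Φ := by
    let S : Subgroup V :=
      { carrier := {v | ∃ e : R, Φ e = Additive.ofMul v}
        one_mem' := ⟨0, rfl⟩
        mul_mem' := by
          rintro a b ⟨e, he⟩ ⟨e', he'⟩
          exact ⟨e + e', by rw [map_add, he, he']; rfl⟩
        inv_mem' := by
          rintro a ⟨e, he⟩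
          exact ⟨-e, by rw [map_neg, he]; rfl⟩ }
    have hS : ∀ v ∈ S, T v ∈ S := by
      rintro v ⟨e, he⟩
      refine ⟨t * e, ?_⟩
      show τ (e.1 a₀) = Additive.ofMul (T v)
      have : e.1 a₀ = Additive.ofMul v := he
      rw [this, hτ]
    have hv₁S : v₁ ∈ S := ⟨1, rfl⟩
    rcases hirr S hS with h | h
    · exfalso
      rw [h, Subgroup.mem_bot] at hv₁S
      exact hv₁1 hv₁S
    · intro a
      have : Additive.toMul a ∈ S := by rw [h]; exact Subgroup.mem_top _
      obtain ⟨e, he⟩ := this
      exact ⟨e, he⟩
  let Ψ : R ≃+ A := AddEquiv.ofBijective Φ ⟨hΦinj, hΦsurj⟩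
  let θ : V ≃* Multiplicative R := AddEquiv.toMultiplicativeRight Ψ.symm
  have hθ : ∀ v : V, (Multiplicative.toAdd (θ v)).1 a₀ = Additive.ofMul v := by
    intro v
    exact Ψ.apply_symm_apply (Additive.ofMul v)
  refine ⟨R, fR, inferInstance, hchar, t, θ, ?_, ?_, ?_, ?_⟩
  · -- t ^ q = 1
    apply Subtype.ext
    apply AddMonoidHom.ext
    intro x
    have h1 : ((t ^ q : R) : AddMonoid.End A) = τ ^ q := by simp [t]
    show ((t ^ q : R) : AddMonoid.End A) x = x
    rw [h1]
    have h2 : ∀ k : ℕ, ∀ v : V, (τ ^ k) (Additive.ofMul v) = Additive.ofMul ((T ^ k) v) := by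
      intro k
      induction k with
      | zero => intro v; rfl
      | succ k ih =>
        intro v
        rw [pow_succ', pow_succ']
        show τ ((τ ^ k) (Additive.ofMul v)) = Additive.ofMul (T ((T ^ k) v))
        rw [ih, hτ]
    have h3 := h2 q (Additive.toMul x)
    rw [hTq] at h3
    exact h3
  · -- t ≠ 1
    intro h
    have h2 : τ = 1 := congrArg Subtype.val h
    have h3 := DFunLike.congr_fun h2 (Additive.ofMul v₁)
    exact hv₁ h3
  · intro v
    apply hΦinj
    show (Multiplicative.toAdd (θ (T v))).1 a₀ = (t * Multiplicative.toAdd (θ v)).1 a₀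
    rw [hθ]
    show _ = τ ((Multiplicative.toAdd (θ v)).1 a₀)
    rw [hθ, hτ]
  · intro S h1 hS
    have key : ∀ (x : AddMonoid.End A) (hx : x ∈ Subring.closure {τ}),
        ∀ s : R, s ∈ S → (⟨x, hx⟩ : R) * s ∈ S := by
      intro x hx
      induction hx using Subring.closure_induction with
      | mem x hx =>
        intro s hs
        rw [Set.mem_singleton_iff] at hx
        subst hx
        exact hS s hs
      | zero =>
        intro s _
        have : (⟨0, Subring.zero_mem _⟩ : R) * s = 0 := zero_mul s
        rw [this]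
        exact S.zero_mem
      | one =>
        intro s hs
        have : (⟨1, Subring.one_mem _⟩ : R) * s = s := one_mul s
        rw [this]
        exact hs
      | add x y hx hy ihx ihy =>
        intro s hs
        have : (⟨x + y, Subring.add_mem _ hx hy⟩ : R) * s = ⟨x, hx⟩ * s + ⟨y, hy⟩ * s :=
          add_mul (⟨x, hx⟩ : R) ⟨y, hy⟩ s
        rw [this]
        exact S.add_mem (ihx s hs) (ihy s hs)
      | neg x hx ihx =>
        intro s hs
        have : (⟨-x, Subring.neg_mem _ hx⟩ : R) * s = -(⟨x, hx⟩ * s) :=
          neg_mul (⟨x, hx⟩ : R) s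
        rw [this]
        exact S.neg_mem (ihx s hs)
      | mul x y hx hy ihx ihy =>
        intro s hs
        have : (⟨x * y, Subring.mul_mem _ hx hy⟩ : R) * s = ⟨x, hx⟩ * (⟨y, hy⟩ * s) :=
          mul_assoc (⟨x, hx⟩ : R) ⟨y, hy⟩ s
        rw [this]
        exact ihx _ (ihy s hs)
    rw [eq_top_iff]
    intro e _
    have := key e.1 e.2 1 h1
    rwa [mul_one] at this

end Cfsg.Agent.Lib.Helper16.SchD2BI
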