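/-
helper16: S4395 leaf D2BII `exists_ringEquiv_pow` (planner helper21, notes/S4395_leaves.lean).
-/
import Mathlib
import Cfsg.Prelude.Def_Transfer
import Cfsg.Agent.Lib.Helper21.SchDefs

set_option autoImplicit false
universe u v
open Cfsg
open Cfsg.Agent.Lib.Helper21.Sch

namespace Cfsg.Agent.Lib.Helper16.SchD2BII

/-- **TAG D2BII** finite fields of the same order are isomorphic, and the elements of order `q` of `K` are
the `ω^j`, `0 < j < q`. -/
theorem exists_ringEquiv_pow {K : Type*} [Field K] [Finite K] {L : Type*} [Field L] [Finite L]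
    (q : ℕ) [Fact q.Prime] (hcard : Nat.card L = Nat.card K) (ω : K) (hω : orderOf ω = q)
    (t : L) (ht : orderOf t = q) :
    ∃ j : ℕ, 0 < j ∧ j < q ∧ ∃ ψ : L ≃+* K, ψ t = ω ^ j := by
  classical
  haveI : Fintype K := Fintype.ofFinite K
  haveI : Fintype L := Fintype.ofFinite L
  have hq : q.Prime := Fact.out
  have hc : Fintype.card L = Fintype.card K := by
    rw [← Nat.card_eq_fintype_card, ← Nat.card_eq_fintype_card, hcard]
  let ψ₀ : L ≃+* K := FiniteField.ringEquivOfCardEq hc
  have h1 : orderOf (ψ₀ t) = q := by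
    rw [← ht]
    exact orderOf_injective (ψ₀ : L →* K) ψ₀.injective t
  have hprim : IsPrimitiveRoot ω q := by
    rw [← hω]
    exact IsPrimitiveRoot.orderOf ω
  haveI : NeZero q := ⟨hq.ne_zero⟩
  have h2 : (ψ₀ t) ^ q = 1 := by
    rw [← h1]
    exact pow_orderOf_eq_one _
  obtain ⟨i, hi, hi'⟩ := hprim.eq_pow_of_pow_eq_one h2
  refine ⟨i, ?_, hi, ψ₀, hi'.symm⟩
  rcases Nat.eq_zero_or_pos i with h0 | h0
  · exfalso
    rw [h0, pow_zero] at hi'
    rw [← hi', orderOf_one] at h1
    exact hq.one_lt.ne h1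
  · exact h0

end Cfsg.Agent.Lib.Helper16.SchD2BII
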