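/-
helper16: S4395 leaf D2C `exists_frame_of_center_data` (planner helper21, notes/S4395_leaves.lean).
-/
import Mathlib
import Cfsg.Prelude.Def_Transfer
import Cfsg.Agent.Lib.Helper21.SchDefs

set_option autoImplicit false
universe u v
open Cfsg
open Cfsg.Agent.Lib.Helper21.Sch

namespace Cfsg.Agent.Lib.Helper16.SchD2C

/-- **TAG D2C** assemble the frame for `ω^j`: `V = ↥P ⧸ Z.subgroupOf P`, `T` = conjugation by `y`, `π = θ ∘ mk`. -/
theorem exists_frame_of_center_data {K : Type v} [Field K] [Finite K] (p q : ℕ) [Fact p.Prime] [Fact q.Prime]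
    [CharP K p] (hpq : p ≠ q) (ω : K) {X : Type u} [Group X] [Finite X]
    (hmod : ∀ {V : Type u} [CommGroup V] [Finite V] (_ : ∀ v : V, v ^ p = 1) (T : V ≃* V)
      (_ : ∀ v : V, (T ^ q) v = v) (_ : ∃ v : V, T v ≠ v)
      (_ : ∀ S : Subgroup V, (∀ v ∈ S, T v ∈ S) → S = ⊥ ∨ S = ⊤),
      ∃ j : ℕ, 0 < j ∧ j < q ∧ ∃ θ : V ≃* Multiplicative K,
        ∀ v : V, Multiplicative.toAdd (θ (T v)) = ω ^ j * Multiplicative.toAdd (θ v))
    (P : Subgroup X) (y : X) (hPn : P.Normal) (hyq : ∀ x ∈ P, y ^ q * x * (y ^ q)⁻¹ = x)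
    (Z : Subgroup X) (hZP : Z < P) (hZc : ∀ z ∈ Z, ∀ x ∈ P, z * x = x * z) (hZp : ∀ z ∈ Z, z ^ p = 1)
    (hZy : ∀ z ∈ Z, y * z * y⁻¹ = z) (hcomm : ∀ x ∈ P, ∀ x' ∈ P, x * x' * x⁻¹ * x'⁻¹ ∈ Z)
    (hpow : ∀ x ∈ P, x ^ p ∈ Z)
    (hirr : ∀ U : Subgroup X, Z ≤ U → U ≤ P → (∀ u ∈ U, y * u * y⁻¹ ∈ U) → U = Z ∨ U = P)
    (hnt : ∃ x ∈ P, y * x * y⁻¹ ≠ x) :
    ∃ j : ℕ, 0 < j ∧ j < q ∧ ∃ 𝔣 : Frame p (ω ^ j) X, 𝔣.P = P ∧ 𝔣.y = y := by
  classical
  have hp : p.Prime := Fact.out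
  have hq : q.Prime := Fact.out
  have hZle : Z ≤ P := hZP.le
  let Z' : Subgroup ↥P := Z.subgroupOf P
  have hZ'mem : ∀ x : ↥P, x ∈ Z' ↔ (x : X) ∈ Z := fun x => Subgroup.mem_subgroupOf
  haveI hZ'n : Z'.Normal := by
    refine ⟨fun z hz g => ?_⟩
    rw [hZ'mem] at hz ⊢
    have h1 : ((g * z * g⁻¹ : ↥P) : X) = (z : X) := by
      push_cast
      rw [← hZc (z : X) hz (g : X) g.2, mul_inv_cancel_right]
    rw [h1]
    exact hz
  let V := ↥P ⧸ Z'
  have hVcomm : ∀ a b : V, a * b = b * a := by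
    intro a b
    induction a using QuotientGroup.induction_on with
    | H a =>
      induction b using QuotientGroup.induction_on with
      | H b =>
        rw [← QuotientGroup.mk_mul, ← QuotientGroup.mk_mul]
        apply (QuotientGroup.eq).mpr
        rw [hZ'mem]
        have h1 : (((a * b)⁻¹ * (b * a) : ↥P) : X) = (b : X)⁻¹ * (a : X)⁻¹ * (b : X) * (a : X) := by
          push_cast
          group
        rw [h1]
        have h2 := hcomm ((b : X)⁻¹) (P.inv_mem b.2) ((a : X)⁻¹) (P.inv_mem a.2)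
        simpa using h2
  letI cV : CommGroup V := { (inferInstance : Group V) with mul_comm := hVcomm }
  -- conjugation by `y`
  let e : ↥P ≃* ↥P := MulAut.conjNormal y
  have he : ∀ x : ↥P, ((e x : ↥P) : X) = y * (x : X) * y⁻¹ := fun x => MulAut.conjNormal_apply y x
  have heZ : Z'.map (e : ↥P ≃* ↥P).toMonoidHom = Z' := by
    ext x
    rw [Subgroup.mem_map]
    constructor
    · rintro ⟨z, hz, rfl⟩
      rw [hZ'mem] at hz ⊢
      show ((e z : ↥P) : X) ∈ Z
      rw [he, hZy _ hz]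
      exact hz
    · intro hx
      refine ⟨x, hx, ?_⟩
      rw [hZ'mem] at hx
      apply Subtype.ext
      show ((e x : ↥P) : X) = x
      rw [he, hZy _ hx]
  let T : V ≃* V := QuotientGroup.congr Z' Z' e heZ
  have hT : ∀ x : ↥P, T (QuotientGroup.mk x) = QuotientGroup.mk (e x) := fun x =>
    QuotientGroup.congr_mk Z' Z' e heZ x
  have hmk1 : ∀ x : ↥P, (QuotientGroup.mk x : V) = 1 ↔ (x : X) ∈ Z := by
    intro x
    rw [QuotientGroup.eq_one_iff, hZ'mem]
  -- (1)
  have h1 : ∀ v : V, v ^ p = 1 := by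
    intro v
    induction v using QuotientGroup.induction_on with
    | H x =>
      rw [← QuotientGroup.mk_pow, hmk1]
      push_cast
      exact hpow _ x.2
  -- iterate
  have hTk : ∀ (k : ℕ) (x : ↥P), ∃ x' : ↥P, (T ^ k) (QuotientGroup.mk x) = QuotientGroup.mk x' ∧
      (x' : X) = y ^ k * (x : X) * (y ^ k)⁻¹ := by
    intro k
    induction k with
    | zero =>
      intro x
      exact ⟨x, rfl, by simp⟩
    | succ k ih =>
      intro x
      obtain ⟨x', h1, h2⟩ := ih x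
      refine ⟨e x', ?_, ?_⟩
      · rw [pow_succ']
        show T ((T ^ k) (QuotientGroup.mk x)) = _
        rw [h1, hT]
      · rw [he, h2, pow_succ']
        group
  -- (2)
  have h2 : ∀ v : V, (T ^ q) v = v := by
    intro v
    induction v using QuotientGroup.induction_on with
    | H x =>
      obtain ⟨x', h1, h2⟩ := hTk q x
      rw [h1]
      congr 1
      apply Subtype.ext
      rw [h2, hyq _ x.2]
  -- (3)
  have h3 : ∃ v : V, T v ≠ v := by
    by_contra hcon
    push Not at hcon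
    obtain ⟨x, hx, hxy⟩ := hnt
    have h4 := hcon (QuotientGroup.mk ⟨x, hx⟩)
    rw [hT] at h4
    have h5 : (⟨x, hx⟩ : ↥P)⁻¹ * e ⟨x, hx⟩ ∈ Z' := (QuotientGroup.eq).mp h4.symm
    rw [hZ'mem] at h5
    have h6 : x⁻¹ * (y * x * y⁻¹) ∈ Z := by
      have : (((⟨x, hx⟩ : ↥P)⁻¹ * e ⟨x, hx⟩ : ↥P) : X) = x⁻¹ * (y * x * y⁻¹) := by
        push_cast
        rw [he]
      rw [← this]
      exact h5
    set z := x⁻¹ * (y * x * y⁻¹) with hz
    have hyx : y * x * y⁻¹ = x * z := by rw [hz]; group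
    have hk : ∀ k : ℕ, y ^ k * x * (y ^ k)⁻¹ = x * z ^ k := by
      intro k
      induction k with
      | zero => simp
      | succ k ih =>
        have h7 : y ^ (k + 1) * x * (y ^ (k + 1))⁻¹ = y * (y ^ k * x * (y ^ k)⁻¹) * y⁻¹ := by
          rw [pow_succ']
          group
        rw [h7, ih]
        have h8 : y * (x * z ^ k) * y⁻¹ = (y * x * y⁻¹) * (y * z ^ k * y⁻¹) := by group
        rw [h8, hyx, hZy _ (Z.pow_mem h6 k), mul_assoc, ← pow_succ']
    have h9 : z ^ q = 1 := by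
      have := hk q
      rw [hyq x hx] at this
      exact (mul_eq_left.mp this.symm)
    have h10 : z ^ p = 1 := hZp z h6
    have h11 : z ^ (q.gcd p) = 1 := pow_gcd_eq_one.mpr ⟨h9, h10⟩
    have h12 : q.gcd p = 1 := (Nat.coprime_primes hq hp).mpr hpq.symm
    rw [h12, pow_one] at h11
    rw [h11, mul_one] at hyx
    exact hxy hyx
  -- (4)
  have h4 : ∀ S : Subgroup V, (∀ v ∈ S, T v ∈ S) → S = ⊥ ∨ S = ⊤ := by
    intro S hS
    let U : Subgroup X := (S.comap (QuotientGroup.mk' Z')).map P.subtype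
    have hUmem : ∀ u : X, u ∈ U ↔ ∃ hu : u ∈ P, (QuotientGroup.mk (⟨u, hu⟩ : ↥P) : V) ∈ S := by
      intro u
      constructor
      · rintro ⟨x, hx, rfl⟩
        exact ⟨x.2, hx⟩
      · rintro ⟨hu, h⟩
        exact ⟨⟨u, hu⟩, h, rfl⟩
    have hZU : Z ≤ U := by
      intro z hz
      rw [hUmem]
      refine ⟨hZle hz, ?_⟩
      rw [(hmk1 ⟨z, hZle hz⟩).mpr hz]
      exact S.one_mem
    have hUP : U ≤ P := by
      intro u hu
      rw [hUmem] at hu
      exact hu.1
    have hUy : ∀ u ∈ U, y * u * y⁻¹ ∈ U := by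
      intro u hu
      rw [hUmem] at hu ⊢
      obtain ⟨huP, huS⟩ := hu
      refine ⟨hPn.conj_mem u huP y, ?_⟩
      have := hS _ huS
      rw [hT] at this
      convert this using 2
      apply Subtype.ext
      rw [he]
    rcases hirr U hZU hUP hUy with h | h
    · left
      rw [eq_bot_iff]
      intro s hs
      induction s using QuotientGroup.induction_on with
      | H x =>
        rw [Subgroup.mem_bot, hmk1, ← h, hUmem]
        exact ⟨x.2, hs⟩
    · right
      rw [eq_top_iff]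
      intro s _
      induction s using QuotientGroup.induction_on with
      | H x =>
        have : (x : X) ∈ U := by rw [h]; exact x.2
        rw [hUmem] at this
        exact this.2
  obtain ⟨j, hj0, hjq, θ, hθ⟩ := @hmod V cV inferInstance h1 T h2 h3 h4
  let π : ↥P →* Multiplicative K := θ.toMonoidHom.comp (QuotientGroup.mk' Z')
  have hπ : ∀ x : ↥P, π x = θ (QuotientGroup.mk x) := fun x => rfl
  have hπ1 : ∀ z : ↥P, π z = 1 → (z : X) ∈ Z := by
    intro z hz
    rw [hπ] at hz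
    have : (QuotientGroup.mk z : V) = 1 := by
      apply θ.injective
      rw [hz, map_one]
    exact (hmk1 z).mp this
  refine ⟨j, hj0, hjq, ⟨P, y, π, fun x hx => hPn.conj_mem x hx y, ?_, ?_, ?_, ?_, ?_⟩, rfl, rfl⟩
  · intro x hx
    rw [hπ, hπ]
    have : (QuotientGroup.mk (⟨y * x * y⁻¹, hPn.conj_mem x hx y⟩ : ↥P) : V) =
        T (QuotientGroup.mk ⟨x, hx⟩) := by
      rw [hT]
      congr 1
    rw [this, hθ]
  · intro u
    obtain ⟨v, rfl⟩ := θ.surjective u
    obtain ⟨x, rfl⟩ := QuotientGroup.mk_surjective v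
    exact ⟨x, rfl⟩
  · intro z hz x
    apply Subtype.ext
    push_cast
    exact hZc _ (hπ1 z hz) _ x.2
  · intro z hz
    apply Subtype.ext
    push_cast
    exact hZp _ (hπ1 z hz)
  · intro z hz
    exact hZy _ (hπ1 z hz)

end Cfsg.Agent.Lib.Helper16.SchD2C
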