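import Cfsg.Agent.Lib.Helper16.SpMT

/-!
# SpnMax leaves (helper16): P3 `not_sp_le_field`, P8 `not_sp_le_quad`
(exact signatures of notes/SpnMax_leaves.lean).
-/

set_option autoImplicit false
set_option linter.unusedSectionVars false
set_option linter.unusedVariables false

namespace Cfsg.Agent.Lib.Helper16.SpMLeaf

open Cfsg Cfsg.Geo Matrix Module Cfsg.Agent.Lib.Helper27.SpM
open Cfsg.Agent.Lib.Helper5 Cfsg.Agent.Lib.Helper5.SpMax

variable {m : ℕ} {F : Type*} [Field F] [Fintype F]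

theorem sympForm_zero_right16 (z : Fin m ⊕ Fin m → F) : sympForm m F z 0 = 0 := by
  rw [sympForm_swap, sympForm_zero_left, neg_zero]

/-- for `2m ≥ 4` two linear conditions have a common non-zero solution -/
theorem exists_ne_zero_two_cond16 (hm : 2 ≤ m) (a : Fin m ⊕ Fin m → F)
    (k : Matrix (Fin m ⊕ Fin m) (Fin m ⊕ Fin m) F) :
    ∃ v : Fin m ⊕ Fin m → F, v ≠ 0 ∧ sympForm m F v a = 0 ∧ sympForm m F (k *ᵥ v) a = 0 := by
  classical
  let L : (Fin m ⊕ Fin m → F) →ₗ[F] (Fin 2 → F) :=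
    { toFun := fun v => ![sympForm m F v a, sympForm m F (k *ᵥ v) a]
      map_add' := by
        intro x y
        ext i
        fin_cases i
        · simp [sympForm_add_left]
        · simp [sympForm_add_left, Matrix.mulVec_add]
      map_smul' := by
        intro c x
        ext i
        fin_cases i
        · simp [sympForm_smul_left]
        · simp [sympForm_smul_left, Matrix.mulVec_smul] }
  have hlt : finrank F (Fin 2 → F) < finrank F (Fin m ⊕ Fin m → F) := by
    rw [Module.finrank_fin_fun, Module.finrank_pi]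
    simp only [Fintype.card_sum, Fintype.card_fin]
    omega
  have hker := LinearMap.ker_ne_bot_of_finrank_lt (f := L) hlt
  obtain ⟨v, hv, hv0⟩ := (Submodule.ne_bot_iff _).mp hker
  rw [LinearMap.mem_ker] at hv
  refine ⟨v, hv0, ?_, ?_⟩
  · have := congrFun hv 0
    simpa [L] using this
  · have := congrFun hv 1
    simpa [L] using this

/-- P3. -/
theorem not_sp_le_field (hm : 2 ≤ m) {r : ℕ} (hr : 2 ≤ r)
    {K : Subalgebra F (Matrix (Fin m ⊕ Fin m) (Fin m ⊕ Fin m) F)} (hK : IsFieldSubalgebra r K) :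
    ¬ spGL m F ≤ subalgebraNormalizer K := by
  classical
  intro hle
  have hcomm : ∀ k ∈ K, ∀ a : Fin m ⊕ Fin m → F,
      k * sympTransvection m a 1 = sympTransvection m a 1 * k := by
    intro k hk a
    have hT : tvc a (1 : F) ∈ subalgebraNormalizer K := hle (tvc_mem a 1)
    have hk' : ((tvc a (1 : F) : GL (Fin m ⊕ Fin m) F) : Matrix (Fin m ⊕ Fin m) (Fin m ⊕ Fin m) F) * k *
        (((tvc a (1 : F))⁻¹ : GL (Fin m ⊕ Fin m) F) : Matrix (Fin m ⊕ Fin m) (Fin m ⊕ Fin m) F) ∈ K :=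
      (hT k).mp hk
    set k' := ((tvc a (1 : F) : GL (Fin m ⊕ Fin m) F) : Matrix (Fin m ⊕ Fin m) (Fin m ⊕ Fin m) F) * k *
        (((tvc a (1 : F))⁻¹ : GL (Fin m ⊕ Fin m) F) : Matrix (Fin m ⊕ Fin m) (Fin m ⊕ Fin m) F) with hk'def
    obtain ⟨v, hv0, hva, hkva⟩ := exists_ne_zero_two_cond16 hm a k
    have hT1 : ((tvc a (-1 : F) : GL (Fin m ⊕ Fin m) F) : Matrix (Fin m ⊕ Fin m) (Fin m ⊕ Fin m) F) *ᵥ v = v := by
      rw [tvc_mulVec, hva, mul_zero, zero_smul, add_zero]
    have hT2 : ((tvc a (1 : F) : GL (Fin m ⊕ Fin m) F) : Matrix (Fin m ⊕ Fin m) (Fin m ⊕ Fin m) F) *ᵥ (k *ᵥ v)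
        = k *ᵥ v := by
      rw [tvc_mulVec, hkva, mul_zero, zero_smul, add_zero]
    have h1 : k' *ᵥ v = k *ᵥ v := by
      rw [hk'def, ← Matrix.mulVec_mulVec, ← Matrix.mulVec_mulVec, tvc_inv, hT1, hT2]
    have hd : k' - k = 0 := by
      by_contra hne
      obtain ⟨y, hy, hy1⟩ := hK.inv (k' - k) (K.sub_mem hk' hk) hne
      have hy2 : y * (k' - k) = 1 := by rw [hK.comm y hy _ (K.sub_mem hk' hk)]; exact hy1
      apply hv0
      have : (y * (k' - k)) *ᵥ v = 0 := by
        rw [← Matrix.mulVec_mulVec, Matrix.sub_mulVec, h1, sub_self, Matrix.mulVec_zero]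
      rwa [hy2, Matrix.one_mulVec] at this
    have hkk : k' = k := sub_eq_zero.mp hd
    -- `T k T⁻¹ = k` gives `T k = k T`
    have h2 : k' * ((tvc a (1 : F) : GL (Fin m ⊕ Fin m) F) : Matrix (Fin m ⊕ Fin m) (Fin m ⊕ Fin m) F)
        = ((tvc a (1 : F) : GL (Fin m ⊕ Fin m) F) : Matrix (Fin m ⊕ Fin m) (Fin m ⊕ Fin m) F) * k := by
      rw [hk'def, mul_assoc, ← Units.val_mul, inv_mul_cancel, Units.val_one, mul_one]
    rw [hkk] at h2
    exact h2
  have hle1 : K ≤ ⊥ := by
    intro k hk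
    obtain ⟨c, hc⟩ := scalar_of_commute_sympTransvections k (hcomm k hk)
    rw [Algebra.mem_bot]
    refine ⟨c, ?_⟩
    rw [hc, Algebra.algebraMap_eq_smul_one]
  have hKbot : K = ⊥ := le_bot_iff.mp hle1
  have hnt : Nontrivial (Matrix (Fin m ⊕ Fin m) (Fin m ⊕ Fin m) F) := by
    have : Nonempty (Fin m ⊕ Fin m) := ⟨Sum.inl ⟨0, by omega⟩⟩
    infer_instance
  have h1 : finrank F K = 1 := by
    rw [hKbot]
    exact Subalgebra.finrank_bot
  rw [hK.finrank_eq] at h1
  omega

/-- a finite field of even order has characteristic two -/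
theorem two_eq_zero_of_not_odd16 (heven : ¬ Odd (Fintype.card F)) : (2 : F) = 0 := by
  by_contra h
  apply heven
  have : ringChar F ≠ 2 := by
    intro hc
    apply h
    have : CharP F 2 := by
      have := ringChar.charP F
      rwa [hc] at this
    exact CharTwo.two_eq_zero
  exact Nat.odd_iff.mpr (FiniteField.odd_card_of_char_ne_two this)

/-- P8. -/
theorem not_sp_le_quad (hm : 2 ≤ m) (heven : ¬ Odd (Fintype.card F)) {Q : (Fin m ⊕ Fin m → F) → F}
    (hQ : IsNondegenerateQuadraticForm Q) (hpol : ∀ u v, QuadraticMap.polar Q u v = sympForm m F u v) :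
    ¬ spGL m F ≤ quadSimilarityGroup Q := by
  classical
  intro hle
  have h2 : (2 : F) = 0 := two_eq_zero_of_not_odd16 heven
  have hadd : ∀ x y, Q (x + y) = Q x + Q y + sympForm m F x y := by
    intro x y
    rw [← hpol, QuadraticMap.polar]
    ring
  set u : Fin m ⊕ Fin m → F := Cfsg.Agent.Lib.Helper14.SpPerfect.eL m F ⟨0, by omega⟩ with hu
  set w : Fin m ⊕ Fin m → F := Cfsg.Agent.Lib.Helper14.SpPerfect.eL m F ⟨1, by omega⟩ with hw
  have hu0 : u ≠ 0 := by
    intro h0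
    have := congrFun h0 (Sum.inl ⟨0, by omega⟩)
    rw [hu, Cfsg.Agent.Lib.Helper14.SpPerfect.eL_apply_self] at this
    exact one_ne_zero this
  have hw0 : w ≠ 0 := by
    intro h0
    have := congrFun h0 (Sum.inl ⟨1, by omega⟩)
    rw [hw, Cfsg.Agent.Lib.Helper14.SpPerfect.eL_apply_self] at this
    exact one_ne_zero this
  have huw0 : u + w ≠ 0 := by
    intro h0
    have := congrFun h0 (Sum.inl ⟨1, by omega⟩)
    rw [Pi.add_apply, hw, Cfsg.Agent.Lib.Helper14.SpPerfect.eL_apply_self, hu,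
      Cfsg.Agent.Lib.Helper14.SpPerfect.eL_apply_ne _ _ (by simp [Fin.ext_iff]), zero_add] at this
    exact one_ne_zero this
  have huw : sympForm m F u w = 0 := Cfsg.Agent.Lib.Helper14.SpPerfect.sympForm_eL_eL _ _
  -- `Q` is invariant under `Sp`
  have hinv : ∀ g ∈ spGL m F, ∀ v, Q ((g : Matrix (Fin m ⊕ Fin m) (Fin m ⊕ Fin m) F) *ᵥ v) = Q v := by
    intro g hg v
    obtain ⟨c, hc⟩ := hle hg
    obtain ⟨y, hy⟩ := sympForm_nondeg u hu0
    have e1 := hadd ((g : Matrix (Fin m ⊕ Fin m) (Fin m ⊕ Fin m) F) *ᵥ u)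
      ((g : Matrix (Fin m ⊕ Fin m) (Fin m ⊕ Fin m) F) *ᵥ y)
    rw [← Matrix.mulVec_add, hc, hc, hc, mem_spGL.mp hg, hadd] at e1
    have e2 : ((c : F) - 1) * sympForm m F u y = 0 := by linear_combination e1
    have hc1 : (c : F) = 1 := by
      rcases mul_eq_zero.mp e2 with h | h
      · exact sub_eq_zero.mp h
      · exact absurd h hy
    rw [hc, hc1, one_mul]
  -- `Q` is constant on non-zero vectors
  have hconst : ∀ x y : Fin m ⊕ Fin m → F, x ≠ 0 → y ≠ 0 → Q x = Q y := by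
    intro x y hx hy
    obtain ⟨g, hg, hgx⟩ := Cfsg.Agent.Lib.Helper27.SpMLeaf.exists_sp_map_vec hx hy
    rw [← hgx, hinv g hg]
  -- the constant is `1`
  obtain ⟨y, hy⟩ := sympForm_nondeg u hu0
  set v : Fin m ⊕ Fin m → F := (sympForm m F u y)⁻¹ • y with hv
  have huv : sympForm m F u v = 1 := by
    rw [hv, sympForm_smul_right, inv_mul_cancel₀ hy]
  have hv0 : v ≠ 0 := by
    intro h0
    rw [h0, sympForm_zero_right16] at huv
    exact zero_ne_one huv
  have huv0 : u + v ≠ 0 := by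
    intro h0
    have : v = -u := eq_neg_of_add_eq_zero_right h0
    rw [this, sympForm_neg_right, sympForm_self, neg_zero] at huv
    exact zero_ne_one huv
  have e3 := hadd u v
  rw [huv, hconst (u + v) u huv0 hu0, hconst v u hv0 hu0] at e3
  have hQu : Q u = 1 := by linear_combination (-1 : F) * e3 - h2
  have e4 := hadd u w
  rw [huw, hconst (u + w) u huw0 hu0, hconst w u hw0 hu0, hQu] at e4
  have : (1 : F) = 0 := by linear_combination (-1 : F) * e4
  exact one_ne_zero this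

end Cfsg.Agent.Lib.Helper16.SpMLeaf
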