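import Mathlib
import Cfsg.Agent.Lib.Helper27.SpUDefs

/-!
# S2316 leaf L2b (market of helper27): the standard tuple `e_1..e_d` is totally isotropic and
the order of its pointwise stabiliser in `Sp_{2(d+k)}(q)`.
-/

set_option autoImplicit false

namespace Cfsg.Agent.Lib.Helper27.SpU

open Cfsg Matrix Cfsg.Agent.S0775

variable {F : Type*} [Field F]

namespace L2baux

theorem sympForm_single_inl (m : ℕ) (a b : Fin m) :
    Cfsg.sympForm m F (Pi.single (Sum.inl a) 1) (Pi.single (Sum.inl b) 1) = 0 := by
  unfold Cfsg.sympForm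
  rw [Matrix.mulVec_single_one, single_one_dotProduct]
  show Matrix.J (Fin m) F (Sum.inl a) (Sum.inl b) = 0
  exact Cfsg.Agent.Lib.Helper14.J_inl_inl a b

end L2baux

theorem stdTup_TI (d k : ℕ) : TI d (stdTup F d k) := by
  refine ⟨?_, fun i j => ?_⟩
  · have h := (Pi.linearIndependent_single_one (Fin (d + k) ⊕ Fin (d + k)) F)
    have hinj : Function.Injective (fun i : Fin d => (Sum.inl (Fin.castAdd k i) :
        Fin (d + k) ⊕ Fin (d + k))) := by
      intro a b hab
      exact Fin.castAdd_injective d k (Sum.inl_injective hab)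
    exact h.comp _ hinj
  · exact L2baux.sympForm_single_inl (d + k) _ _

theorem card_stab_std [Fintype F] (d k : ℕ) :
    Nat.card (MulAction.stabilizer (Matrix.symplecticGroup (Fin (d + k)) F) (stdTup F d k)) =
      Fintype.card F ^ eExp d k * Nat.card (Matrix.symplecticGroup (Fin k) F) := by
  have h1 := card_stab_mul d (stdTup F d k) (stdTup_TI d k)
  rw [card_TI, Cfsg.Agent.Lib.Helper14.card_symplectic,
    ← Cfsg.Agent.S0775.arith (Fintype.card F) (d + k) d (by omega)] at h1
  rw [Cfsg.Agent.Lib.Helper14.card_symplectic]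
  set q := Fintype.card F with hq
  have hq2 : 2 ≤ q := Fintype.one_lt_card
  have e1 : d + k - d = k := by omega
  rw [e1] at h1
  have hpos : 0 < ∏ i ∈ Finset.range d, (q ^ (2 * (d + k) - i) - q ^ i) := by
    apply Finset.prod_pos
    intro i hi
    rw [Finset.mem_range] at hi
    have : q ^ i < q ^ (2 * (d + k) - i) := Nat.pow_lt_pow_right (by omega) (by omega)
    omega
  apply Nat.eq_of_mul_eq_mul_right hpos
  rw [h1]
  unfold eExp
  rw [pow_add, pow_add, pow_add]
  ring

end Cfsg.Agent.Lib.Helper27.SpU
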