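/-
Helper16 library: a finite group of order 72 generated by a pair `n1, n2` of commuting elements of
order 3 and a quaternion pair `a, x` normalizing them is `3² : Q₈`.
-/
import Mathlib
import Cfsg.Agent.Lib.Helper3.Dihedral

set_option autoImplicit false

namespace Cfsg.Agent.Lib.Helper16.Struct72

open Cfsg.Agent.Lib.Helper3

/-- The homomorphism from the generalized quaternion group determined by `a`, `x` with
`a ^ (2 n) = 1`, `x ^ 2 = a ^ n`, `x a x⁻¹ = a⁻¹` (after helper18's `quatLift`). -/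
noncomputable def qLift {G : Type*} [Group G] {n : ℕ} (a x : G) (ha : a ^ (2 * n) = 1)
    (hx : x ^ 2 = a ^ n) (hxa : x * a * x⁻¹ = a⁻¹) : QuaternionGroup n →* G where
  toFun
    | .a i => (dihPow a ha i).toMul
    | .xa i => x * (dihPow a ha i).toMul
  map_one' := by
    show (dihPow a ha 0).toMul = 1
    rw [map_zero]; rfl
  map_mul' := by
    have hconj : ∀ i : ZMod (2 * n), x * (dihPow a ha i).toMul * x⁻¹ = ((dihPow a ha i).toMul)⁻¹ := by
      intro i
      obtain ⟨k, rfl⟩ := ZMod.intCast_surjective i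
      rw [dihPow_intCast, ← conj_zpow, hxa, inv_zpow]
    have hconj' : ∀ i : ZMod (2 * n), (dihPow a ha i).toMul * x = x * ((dihPow a ha i).toMul)⁻¹ := by
      intro i
      have h0 := hconj i
      have h1 : x * ((dihPow a ha i).toMul)⁻¹ * x⁻¹ = (dihPow a ha i).toMul := by
        have : x * ((dihPow a ha i).toMul)⁻¹ * x⁻¹ = (x * (dihPow a ha i).toMul * x⁻¹)⁻¹ := by group
        rw [this, h0, inv_inv]
      calc (dihPow a ha i).toMul * x = (x * ((dihPow a ha i).toMul)⁻¹ * x⁻¹) * x := by rw [h1]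
        _ = x * ((dihPow a ha i).toMul)⁻¹ := by group
    have hadd : ∀ i j : ZMod (2 * n), (dihPow a ha (i + j)).toMul
        = (dihPow a ha i).toMul * (dihPow a ha j).toMul := by
      intro i j; rw [map_add]; rfl
    have hneg : ∀ i : ZMod (2 * n), (dihPow a ha (-i)).toMul = ((dihPow a ha i).toMul)⁻¹ := by
      intro i; rw [map_neg]; rfl
    have hn : (dihPow a ha ((n : ℕ) : ZMod (2 * n))).toMul = x * x := by
      have := dihPow_intCast a ha (n : ℤ)
      rw [Int.cast_natCast, zpow_natCast] at this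
      rw [this, ← hx, pow_two]
    rintro (i | i) (j | j)
    · show (dihPow a ha (i + j)).toMul = (dihPow a ha i).toMul * (dihPow a ha j).toMul
      exact hadd i j
    · show x * (dihPow a ha (j - i)).toMul = (dihPow a ha i).toMul * (x * (dihPow a ha j).toMul)
      rw [sub_eq_add_neg, add_comm, hadd, hneg, ← mul_assoc ((dihPow a ha i).toMul), hconj' i]
      group
    · show x * (dihPow a ha (i + j)).toMul = x * (dihPow a ha i).toMul * (dihPow a ha j).toMul
      rw [hadd, mul_assoc]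
    · show (dihPow a ha ((n : ZMod (2 * n)) + j - i)).toMul
        = x * (dihPow a ha i).toMul * (x * (dihPow a ha j).toMul)
      rw [sub_eq_add_neg, hadd, hadd, hneg, hn]
      have h1 : x * (dihPow a ha i).toMul * (x * (dihPow a ha j).toMul)
          = x * ((dihPow a ha i).toMul * x) * (dihPow a ha j).toMul := by group
      rw [h1, hconj' i]
      have hc : Commute ((dihPow a ha j).toMul) (((dihPow a ha i).toMul)⁻¹) := by
        have h2 := hadd j (-i)
        have h3 := hadd (-i) j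
        rw [add_comm] at h3
        rw [hneg] at h2 h3
        exact h2.symm.trans h3
      rw [mul_assoc (x * x), hc.eq]
      group

theorem qLift_a {G : Type*} [Group G] {n : ℕ} (a x : G) (ha : a ^ (2 * n) = 1)
    (hx : x ^ 2 = a ^ n) (hxa : x * a * x⁻¹ = a⁻¹) (i : ZMod (2 * n)) :
    qLift a x ha hx hxa (.a i) = (dihPow a ha i).toMul := rfl

theorem qLift_xa {G : Type*} [Group G] {n : ℕ} (a x : G) (ha : a ^ (2 * n) = 1)
    (hx : x ^ 2 = a ^ n) (hxa : x * a * x⁻¹ = a⁻¹) (i : ZMod (2 * n)) :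
    qLift a x ha hx hxa (.xa i) = x * (dihPow a ha i).toMul := rfl

/-- every value of `qLift` is `a ^ k` or `x * a ^ k`. -/
theorem qLift_cases {G : Type*} [Group G] {n : ℕ} (a x : G) (ha : a ^ (2 * n) = 1)
    (hx : x ^ 2 = a ^ n) (hxa : x * a * x⁻¹ = a⁻¹) (q : QuaternionGroup n) :
    ∃ k : ℤ, qLift a x ha hx hxa q = a ^ k ∨ qLift a x ha hx hxa q = x * a ^ k := by
  rcases q with i | i
  · obtain ⟨k, rfl⟩ := ZMod.intCast_surjective i
    exact ⟨k, Or.inl (by rw [qLift_a, dihPow_intCast])⟩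
  · obtain ⟨k, rfl⟩ := ZMod.intCast_surjective i
    exact ⟨k, Or.inr (by rw [qLift_xa, dihPow_intCast])⟩

theorem qLift_gen_a {G : Type*} [Group G] {n : ℕ} (a x : G) (ha : a ^ (2 * n) = 1)
    (hx : x ^ 2 = a ^ n) (hxa : x * a * x⁻¹ = a⁻¹) :
    qLift a x ha hx hxa (.a 1) = a := by
  rw [qLift_a, dihPow_one]

theorem qLift_gen_x {G : Type*} [Group G] {n : ℕ} (a x : G) (ha : a ^ (2 * n) = 1)
    (hx : x ^ 2 = a ^ n) (hxa : x * a * x⁻¹ = a⁻¹) :
    qLift a x ha hx hxa (.xa 0) = x := by
  rw [qLift_xa, map_zero]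
  show x * 1 = x
  rw [mul_one]

/-- in a finite group, `g` normalizes `N` as soon as it conjugates `N` into itself. -/
theorem mem_normalizer_of_conj_le {G : Type*} [Group G] [Finite G] (N : Subgroup G) (g : G)
    (h : ∀ y ∈ N, g * y * g⁻¹ ∈ N) : g ∈ Subgroup.normalizer (N : Set G) := by
  have hle : N.map (MulAut.conj g).toMonoidHom ≤ N := by
    rintro _ ⟨y, hy, rfl⟩
    exact h y hy
  have hcard : Nat.card (N.map (MulAut.conj g).toMonoidHom) = Nat.card N :=
    Subgroup.card_map_of_injective (MulAut.conj g).injective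
  have heq : N.map (MulAut.conj g).toMonoidHom = N :=
    Subgroup.eq_of_le_of_card_ge hle (by rw [hcard])
  rw [Subgroup.mem_normalizer_iff]
  intro y
  constructor
  · exact h y
  · intro hy
    rw [← heq] at hy
    obtain ⟨y', hy', e⟩ := hy
    have e' : g * y' * g⁻¹ = g * y * g⁻¹ := e
    have : y' = y := by
      have := congrArg (fun t => g⁻¹ * t * g) e'
      simpa [mul_assoc] using this
    rwa [← this]

theorem mem_zpowers_three {G : Type*} [Group G] (g : G) (h3 : g ^ 3 = 1) (y : G)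
    (hy : y ∈ Subgroup.zpowers g) : y = 1 ∨ y = g ∨ y = g ^ 2 := by
  obtain ⟨k, rfl⟩ := Subgroup.mem_zpowers_iff.mp hy
  have e : g ^ k = g ^ (k % 3) := by
    have h1 : g ^ k = g ^ (k % 3 + 3 * (k / 3)) := by rw [Int.emod_add_mul_ediv]
    rw [h1, zpow_add, zpow_mul]
    have : g ^ (3 : ℤ) = 1 := by exact_mod_cast h3
    rw [this, one_zpow, mul_one]
  rw [e]
  have : k % 3 = 0 ∨ k % 3 = 1 ∨ k % 3 = 2 := by omega
  rcases this with h | h | h <;> rw [h]
  · left; simp
  · right; left; simp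
  · right; right; exact_mod_cast rfl

theorem mem_zpowers_four {G : Type*} [Group G] (g : G) (h4 : g ^ 4 = 1) (y : G)
    (hy : y ∈ Subgroup.zpowers g) : y = 1 ∨ y = g ∨ y = g ^ 2 ∨ y = g ^ 3 := by
  obtain ⟨k, rfl⟩ := Subgroup.mem_zpowers_iff.mp hy
  have e : g ^ k = g ^ (k % 4) := by
    have h1 : g ^ k = g ^ (k % 4 + 4 * (k / 4)) := by rw [Int.emod_add_mul_ediv]
    rw [h1, zpow_add, zpow_mul]
    have : g ^ (4 : ℤ) = 1 := by exact_mod_cast h4
    rw [this, one_zpow, mul_one]
  rw [e]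
  have : k % 4 = 0 ∨ k % 4 = 1 ∨ k % 4 = 2 ∨ k % 4 = 3 := by omega
  rcases this with h | h | h | h <;> rw [h]
  · left; simp
  · right; left; simp
  · right; right; left; exact_mod_cast rfl
  · right; right; right; exact_mod_cast rfl

theorem struct72 {G : Type*} [Group G] [Finite G] (hcard : Nat.card G = 72)
    (n1 n2 a x : G)
    (h13 : n1 ^ 3 = 1) (h23 : n2 ^ 3 = 1) (hc : n1 * n2 = n2 * n1)
    (ha4 : a ^ 4 = 1) (hx2 : x ^ 2 = a ^ 2) (hxa : x * a * x⁻¹ = a⁻¹)
    (han1 : a * n1 * a⁻¹ = n2) (han2 : a * n2 * a⁻¹ = n1 ^ 2)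
    (hxn1 : x * n1 * x⁻¹ = n1 ^ 2 * n2) (hxn2 : x * n2 * x⁻¹ = n1 * n2)
    (hn1 : n1 ≠ 1) (hn2 : n2 ≠ 1) (hn21 : n2 ≠ n1) (hn22 : n2 ≠ n1 ^ 2)
    (ha2 : a ^ 2 ≠ 1) (hx0 : x ≠ 1) (hx1 : x ≠ a) (hx2' : x ≠ a ^ 2) (hx3 : x ≠ a ^ 3) :
    ∃ (N : Subgroup G) (_ : N.Normal), Nat.card N = 9 ∧ (∀ y ∈ N, y ^ 3 = 1) ∧
      Nonempty (G ⧸ N ≃* QuaternionGroup 2) := by
  classical
  set N : Subgroup G := Subgroup.closure {n1, n2} with hN
  have hn1N : n1 ∈ N := Subgroup.subset_closure (by simp)
  have hn2N : n2 ∈ N := Subgroup.subset_closure (by simp)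
  have hcc : Commute n1 n2 := hc
  have hcomm1 : ∀ y ∈ N, Commute y n1 ∧ Commute y n2 := by
    intro y hy
    induction hy using Subgroup.closure_induction with
    | mem y hy =>
      rcases hy with rfl | rfl
      · exact ⟨Commute.refl _, hcc⟩
      · exact ⟨hcc.symm, Commute.refl _⟩
    | one => exact ⟨Commute.one_left _, Commute.one_left _⟩
    | mul y z _ _ hy hz => exact ⟨hy.1.mul_left hz.1, hy.2.mul_left hz.2⟩
    | inv y _ hy => exact ⟨hy.1.inv_left, hy.2.inv_left⟩
  have hcomm : ∀ y ∈ N, ∀ z ∈ N, Commute y z := by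
    intro y hy z hz
    induction hz using Subgroup.closure_induction with
    | mem z hz =>
      rcases hz with rfl | rfl
      · exact (hcomm1 y hy).1
      · exact (hcomm1 y hy).2
    | one => exact Commute.one_right _
    | mul z w _ _ hz hw => exact hz.mul_right hw
    | inv z _ hz => exact hz.inv_right
  have hexp : ∀ y ∈ N, y ^ 3 = 1 := by
    intro y hy
    induction hy using Subgroup.closure_induction with
    | mem y hy =>
      rcases hy with rfl | rfl
      · exact h13
      · exact h23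
    | one => exact one_pow 3
    | mul y z hy hz ihy ihz => rw [(hcomm y hy z hz).mul_pow, ihy, ihz, one_mul]
    | inv y _ ihy => rw [inv_pow, ihy, inv_one]
  -- the order of `N`
  have hNp : IsPGroup 3 N := by
    rintro ⟨y, hy⟩
    refine ⟨1, ?_⟩
    apply Subtype.ext
    simp [hexp y hy]
  obtain ⟨k, hk⟩ := hNp.exists_card_eq
  have hdiv : Nat.card N ∣ 72 := hcard ▸ Subgroup.card_subgroup_dvd_card N
  have ho1 : orderOf n1 = 3 := by
    have : Fact (Nat.Prime 3) := ⟨by norm_num⟩
    exact orderOf_eq_prime h13 hn1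
  have hz1 : Nat.card (Subgroup.zpowers n1) = 3 := by rw [Nat.card_zpowers, ho1]
  have hn2z : n2 ∉ Subgroup.zpowers n1 := by
    intro h
    rcases mem_zpowers_three n1 h13 n2 h with h | h | h
    · exact hn2 h
    · exact hn21 h
    · exact hn22 h
  have hlt : 3 < Nat.card N := by
    by_contra hle
    have hle' : Nat.card N ≤ 3 := Nat.le_of_not_lt hle
    have hzle : Subgroup.zpowers n1 ≤ N := Subgroup.zpowers_le.mpr hn1N
    have := Subgroup.eq_of_le_of_card_ge hzle (by rw [hz1]; exact hle')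
    exact hn2z (this ▸ hn2N)
  have hN9 : Nat.card N = 9 := by
    rw [hk] at hdiv hlt ⊢
    have hk2 : k ≤ 2 := by
      by_contra h
      have h3 : 3 ≤ k := by omega
      have h4 : 3 ^ 3 ∣ 3 ^ k := pow_dvd_pow 3 h3
      have h5 := dvd_trans h4 hdiv
      norm_num at h5
    interval_cases k
    · norm_num at hlt
    · norm_num at hlt
    · norm_num
  -- the quaternion subgroup
  have ha4' : a ^ (2 * 2) = 1 := ha4
  set ψ : QuaternionGroup 2 →* G := qLift a x ha4' hx2 hxa with hψ
  set Q : Subgroup G := ψ.range with hQ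
  have haQ : a ∈ Q := ⟨.a 1, qLift_gen_a a x ha4' hx2 hxa⟩
  have hxQ : x ∈ Q := ⟨.xa 0, qLift_gen_x a x ha4' hx2 hxa⟩
  have hcardQ8 : Nat.card (QuaternionGroup 2) = 8 := by
    rw [Nat.card_eq_fintype_card, QuaternionGroup.card]
  have hQdvd : Nat.card Q ∣ 8 := by
    have := Subgroup.card_range_dvd ψ
    rwa [hcardQ8] at this
  have hoa : orderOf a = 4 := by
    have := orderOf_eq_prime_pow (x := a) (p := 2) (n := 1) (by simpa using ha2) (by simpa using ha4)
    simpa using this
  have hza : Nat.card (Subgroup.zpowers a) = 4 := by rw [Nat.card_zpowers, hoa]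
  have hxz : x ∉ Subgroup.zpowers a := by
    intro h
    rcases mem_zpowers_four a ha4 x h with h | h | h | h
    · exact hx0 h
    · exact hx1 h
    · exact hx2' h
    · exact hx3 h
  have hQ4 : 4 < Nat.card Q := by
    by_contra hle
    have hle' : Nat.card Q ≤ 4 := Nat.le_of_not_lt hle
    have hzle : Subgroup.zpowers a ≤ Q := Subgroup.zpowers_le.mpr haQ
    have := Subgroup.eq_of_le_of_card_ge hzle (by rw [hza]; exact hle')
    exact hxz (this ▸ hxQ)
  have hQ8 : Nat.card Q = 8 := by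
    have hle : Nat.card Q ≤ 8 := Nat.le_of_dvd (by norm_num) hQdvd
    interval_cases h : Nat.card Q
    · norm_num at hQdvd
    · norm_num at hQdvd
    · norm_num at hQdvd
    · rfl
  -- normalizer
  have haN : a ∈ Subgroup.normalizer (N : Set G) := by
    apply mem_normalizer_of_conj_le
    intro y hy
    induction hy using Subgroup.closure_induction with
    | mem y hy =>
      rcases hy with rfl | rfl
      · rw [han1]; exact hn2N
      · rw [han2]; exact N.pow_mem hn1N 2
    | one => simp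
    | mul y z _ _ ihy ihz =>
      have : a * (y * z) * a⁻¹ = (a * y * a⁻¹) * (a * z * a⁻¹) := by group
      rw [this]; exact N.mul_mem ihy ihz
    | inv y _ ihy =>
      have : a * y⁻¹ * a⁻¹ = (a * y * a⁻¹)⁻¹ := by group
      rw [this]; exact N.inv_mem ihy
  have hxN : x ∈ Subgroup.normalizer (N : Set G) := by
    apply mem_normalizer_of_conj_le
    intro y hy
    induction hy using Subgroup.closure_induction with
    | mem y hy =>
      rcases hy with rfl | rfl
      · rw [hxn1]; exact N.mul_mem (N.pow_mem hn1N 2) hn2N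
      · rw [hxn2]; exact N.mul_mem hn1N hn2N
    | one => simp
    | mul y z _ _ ihy ihz =>
      have : x * (y * z) * x⁻¹ = (x * y * x⁻¹) * (x * z * x⁻¹) := by group
      rw [this]; exact N.mul_mem ihy ihz
    | inv y _ ihy =>
      have : x * y⁻¹ * x⁻¹ = (x * y * x⁻¹)⁻¹ := by group
      rw [this]; exact N.inv_mem ihy
  have hQN : Q ≤ Subgroup.normalizer (N : Set G) := by
    rintro _ ⟨q, rfl⟩
    obtain ⟨k, h | h⟩ := qLift_cases a x ha4' hx2 hxa q
    · rw [h]; exact Subgroup.zpow_mem _ haN k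
    · rw [h]; exact Subgroup.mul_mem _ hxN (Subgroup.zpow_mem _ haN k)
  have hsup : N ⊔ Q = ⊤ := by
    have h9 : 9 ∣ Nat.card (N ⊔ Q : Subgroup G) := hN9 ▸ Subgroup.card_dvd_of_le le_sup_left
    have h8 : 8 ∣ Nat.card (N ⊔ Q : Subgroup G) := hQ8 ▸ Subgroup.card_dvd_of_le le_sup_right
    have h72 : 72 ∣ Nat.card (N ⊔ Q : Subgroup G) :=
      (Nat.Coprime.mul_dvd_of_dvd_of_dvd (by norm_num : Nat.Coprime 9 8) h9 h8)
    have hle : Nat.card (N ⊔ Q : Subgroup G) ≤ 72 := hcard ▸ Subgroup.card_le_card_group _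
    have hpos : 0 < Nat.card (N ⊔ Q : Subgroup G) := Nat.card_pos
    have heq : Nat.card (N ⊔ Q : Subgroup G) = 72 := by
      obtain ⟨m, hm⟩ := h72
      have : m = 1 := by nlinarith
      rw [hm, this]
    exact (Subgroup.card_eq_iff_eq_top _).mp (heq.trans hcard.symm)
  have hnorm : Subgroup.normalizer (N : Set G) = ⊤ := by
    rw [eq_top_iff, ← hsup]
    exact sup_le Subgroup.le_normalizer hQN
  have hNn : N.Normal := Subgroup.normalizer_eq_top_iff.mp hnorm
  refine ⟨N, hNn, hN9, hexp, ?_⟩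
  -- the quotient
  have hinf : N ⊓ Q = ⊥ := (Subgroup.disjoint_of_coprime_natCard (by rw [hN9, hQ8]; norm_num)).eq_bot
  have hψinj : Function.Injective ψ := by
    have hsurj : Function.Surjective ψ.rangeRestrict := ψ.rangeRestrict_surjective
    have hbij : Function.Bijective ψ.rangeRestrict := by
      rw [Nat.bijective_iff_surjective_and_card]
      exact ⟨hsurj, by rw [hcardQ8]; exact hQ8.symm⟩
    intro p q hpq
    apply hbij.1
    apply Subtype.ext
    exact hpq
  set χ : QuaternionGroup 2 →* G ⧸ N := (QuotientGroup.mk' N).comp ψ with hχ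
  have hχinj : Function.Injective χ := by
    rw [injective_iff_map_eq_one]
    intro q hq
    have h1 : ψ q ∈ N := by
      have : (QuotientGroup.mk' N) (ψ q) = 1 := hq
      rwa [QuotientGroup.mk'_apply, QuotientGroup.eq_one_iff] at this
    have h2 : ψ q ∈ N ⊓ Q := ⟨h1, ⟨q, rfl⟩⟩
    rw [hinf, Subgroup.mem_bot] at h2
    exact hψinj (h2.trans (map_one ψ).symm)
  have hcardquot : Nat.card (G ⧸ N) = 8 := by
    have := Subgroup.card_eq_card_quotient_mul_card_subgroup N
    rw [hcard, hN9] at this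
    omega
  have hχbij : Function.Bijective χ := by
    rw [Nat.bijective_iff_injective_and_card]
    exact ⟨hχinj, by rw [hcardQ8, hcardquot]⟩
  exact ⟨(MulEquiv.ofBijective χ hχbij).symm⟩

end Cfsg.Agent.Lib.Helper16.Struct72
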