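import Mathlib
import Cfsg.Prelude.Def_Local
import Cfsg.Agent.Lib.Helper25.TSDefs
import Cfsg.Agent.Lib.Helper24.PSolvable
import Cfsg.Agent.Lib.Helper9.PLengthOne
import Cfsg.Agent.Lib.Helper12.Cores
import Cfsg.Agent.Lib.Helper1.Fitting

set_option autoImplicit false

namespace Cfsg.Agent.Lib.Helper16.TSCENTK

open Cfsg.Agent.Lib.Helper25.TS
open scoped commutatorElement

universe u

section groupLeaves

variable {G : Type u} [Group G] [Finite G]

/-- **G10 `mem_K_of_comm_mem`** : `C_{G/T}(K/T) ≤ K/T`. -/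
theorem mem_K_of_comm_mem {T E K : Subgroup G} (c : Cfg G T E) (k : KCfg T K) :
    ∀ g : G, (∀ x ∈ K, ⁅g, x⁆ ∈ T) → g ∈ K := by
  haveI hTn : T.Normal := c.T_normal
  haveI := c.hyp.sol
  let f := QuotientGroup.mk' T
  have hf : Function.Surjective f := QuotientGroup.mk'_surjective T
  have hker : f.ker = T := QuotientGroup.ker_mk' T
  -- `F*(X) = F(X)`
  have hlay : Cfsg.layer (G ⧸ T) = ⊥ :=
    Cfsg.Agent.Lib.Helper9.layer_eq_bot_of_le_isSolvable (Y := ⊤) inferInstance le_top
  have hF : Cfsg.generalizedFittingSubgroup (G ⧸ T) = Cfsg.fittingSubgroup (G ⧸ T) := by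
    unfold Cfsg.generalizedFittingSubgroup
    rw [hlay, bot_sup_eq]
  have hcentF := Cfsg.Agent.Lib.Helper9.centralizer_generalizedFittingSubgroup_le (G := G ⧸ T)
  rw [hF] at hcentF
  -- `F(X) ≤ K/T`
  have hFK : Cfsg.fittingSubgroup (G ⧸ T) ≤ K.map f := by
    rw [Cfsg.Agent.Lib.Helper1.fittingSubgroup_eq_iSup_pCore]
    apply iSup_le
    intro q
    haveI hq : Fact (Nat.Prime (q : ℕ)) := ⟨q.2⟩
    set P := Cfsg.pCore (q : ℕ) (G ⧸ T) with hP
    haveI hPn : P.Normal := Cfsg.Agent.Lib.Helper24.pCore_normal' (q : ℕ)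
    have hPq : IsPGroup (q : ℕ) P := Cfsg.Agent.Lib.Helper1.pCore_isPGroup (q : ℕ) (G ⧸ T)
    obtain ⟨n, hn⟩ := IsPGroup.iff_card.mp hPq
    set R := P.comap f with hR
    have hRn : R.Normal := Subgroup.Normal.comap hPn f
    have hTR : T ≤ R := by
      rw [← hker]
      exact Subgroup.ker_le_comap f P
    have hmap : R.map f = P := Subgroup.map_comap_eq_self_of_surjective hf P
    have hrel : T.relIndex R = (q : ℕ) ^ n := by
      have h1 : T = (⊥ : Subgroup (G ⧸ T)).comap f := hker.symm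
      have h2 : T.relIndex R = ((⊥ : Subgroup (G ⧸ T)).comap f).relIndex R :=
        congrArg (fun H : Subgroup G => H.relIndex R) h1
      rw [h2, Subgroup.relIndex_comap, hmap, Subgroup.relIndex_bot_left, hn]
    by_cases hq2 : (q : ℕ) = 2
    · -- `R` is a normal 2-subgroup
      have hR2 : IsPGroup 2 R := by
        obtain ⟨a, ha⟩ := IsPGroup.iff_card.mp c.T_two
        have hcard : Nat.card R = 2 ^ (a + n) := by
          have := Subgroup.relIndex_mul_relIndex (⊥ : Subgroup G) T R bot_le hTR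
          rw [Subgroup.relIndex_bot_left, Subgroup.relIndex_bot_left, hrel, ha, hq2] at this
          rw [← this, pow_add]
        haveI : Fact (Nat.Prime 2) := ⟨Nat.prime_two⟩
        exact IsPGroup.of_card hcard
      have hRT : R ≤ T := c.T_max R hRn hR2
      rw [← hmap]
      exact Subgroup.map_mono (hRT.trans k.T_le)
    · have hodd : Odd (T.relIndex R) := by
        rw [hrel]
        exact Odd.pow (q.2.odd_of_ne_two hq2)
      have hRK : R ≤ K := k.max R hRn hTR hodd
      rw [← hmap]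
      exact Subgroup.map_mono hRK
  intro g hg
  -- `f g` centralizes `K/T`, hence `F(X)`
  have hgc : f g ∈ Subgroup.centralizer ((Cfsg.fittingSubgroup (G ⧸ T) : Subgroup (G ⧸ T)) :
      Set (G ⧸ T)) := by
    rw [Subgroup.mem_centralizer_iff]
    intro y hy
    obtain ⟨x, hx, rfl⟩ := hFK hy
    have h1 : f ⁅g, x⁆ = 1 := by
      have : ⁅g, x⁆ ∈ f.ker := by rw [hker]; exact hg x hx
      exact this
    rw [map_commutatorElement, commutatorElement_eq_one_iff_mul_comm] at h1
    exact h1.symm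
  have hgK : f g ∈ K.map f := hFK (hcentF hgc)
  obtain ⟨x, hx, hxg⟩ := hgK
  have : x⁻¹ * g ∈ T := by
    rw [← hker, MonoidHom.mem_ker, map_mul, map_inv, hxg, inv_mul_cancel]
  have hgx : g = x * (x⁻¹ * g) := by group
  rw [hgx]
  exact K.mul_mem hx (k.T_le this)

end groupLeaves

end Cfsg.Agent.Lib.Helper16.TSCENTK
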