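import Mathlib
import Cfsg.Prelude.Def_Local
import Cfsg.Agent.Lib.Helper25.TSDefs
import Cfsg.Agent.Lib.Helper25.PSolvableOfSolvable
import Cfsg.Agent.Lib.Helper24.PSolvable
import Cfsg.Agent.Lib.Helper9.PLengthOne
import Cfsg.Agent.Lib.Helper12.Cores

set_option autoImplicit false

namespace Cfsg.Agent.Lib.Helper16.TSCFG

open Cfsg.Agent.Lib.Helper25.TS
open scoped commutatorElement

universe u

section groupLeaves

variable {G : Type u} [Group G] [Finite G]

/-- with `O(G) = 1`: every `x` with `x ^ 2 = 1` lies in `C_G(O_2(G))`. -/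
theorem sq_one_mem_centralizer (h : Hyp G) (hO : Cfsg.pPrimeCore 2 G = ⊥) :
    ∀ x : G, x ^ 2 = 1 → x ∈ Subgroup.centralizer ((Cfsg.pCore 2 G : Subgroup G) : Set G) := by
  haveI : Fact (Nat.Prime 2) := ⟨Nat.prime_two⟩
  haveI := h.sol
  set T := Cfsg.pCore 2 G with hT
  haveI hTn : T.Normal := Cfsg.Agent.Lib.Helper24.pCore_normal' 2
  have hT2 : IsPGroup 2 T := Cfsg.Agent.Lib.Helper12.pCore_isPGroup' 2
  have hcent : Subgroup.centralizer (T : Set G) ≤ T :=
    Cfsg.Agent.Lib.Helper9.centralizer_pCore_le_of_isSolvable 2 hO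
  obtain ⟨x0, y0, hxy0, hx01, hx02, -⟩ := h.two
  haveI : Nontrivial G := ⟨⟨x0, 1, hx01⟩⟩
  have hTne : T ≠ ⊥ := Cfsg.Agent.Lib.Helper24.pCore_ne_bot_of_isPSolvable 2
    (Cfsg.Agent.Lib.Helper25.isPSolvable_of_isSolvable' 2 Nat.prime_two h.sol) hO
  set Z := Subgroup.centralizer (T : Set G) with hZ
  haveI hZn : Z.Normal := Subgroup.normal_centralizer
  -- `Z ≠ ⊥`
  haveI : Nontrivial T := (Subgroup.nontrivial_iff_ne_bot T).mpr hTne
  haveI : Nontrivial (Subgroup.center T) := hT2.center_nontrivial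
  have hZne : Z ≠ ⊥ := by
    obtain ⟨⟨z, hz⟩, hz1⟩ := exists_ne (1 : Subgroup.center T)
    intro hbot
    apply hz1
    have hzZ : (z : G) ∈ Z := by
      rw [Subgroup.mem_centralizer_iff]
      intro t ht
      have := (Subgroup.mem_center_iff.mp hz) ⟨t, ht⟩
      exact congrArg Subtype.val this
    rw [hbot, Subgroup.mem_bot] at hzZ
    apply Subtype.ext
    apply Subtype.ext
    exact hzZ
  -- an involution in `Z`
  have hZ2 : IsPGroup 2 Z := hT2.to_le hcent
  have hdvd : 2 ∣ Nat.card Z := by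
    rcases hZ2.card_eq_or_dvd with h1 | h1
    · exfalso
      exact hZne ((Subgroup.card_eq_one).mp h1)
    · exact h1
  obtain ⟨i, hi⟩ := exists_prime_orderOf_dvd_card' 2 hdvd
  have hi1 : (i : G) ≠ 1 := by
    intro h1
    have : i = 1 := Subtype.ext h1
    rw [this, orderOf_one] at hi
    exact absurd hi (by norm_num)
  have hi2 : (i : G) ^ 2 = 1 := by
    have := pow_orderOf_eq_one i
    rw [hi] at this
    exact congrArg Subtype.val this
  intro x hx
  by_cases hx1 : x = 1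
  · rw [hx1]; exact Z.one_mem
  · obtain ⟨g, hg⟩ := isConj_iff.mp (h.conj (i : G) x hi1 hi2 hx1 hx)
    rw [← hg]
    exact hZn.conj_mem _ i.2 g

/-- **G2 `cfg_of_hyp`** -/
theorem cfg_of_hyp (h : Hyp G) (hO : Cfsg.pPrimeCore 2 G = ⊥) :
    Cfg G (Cfsg.pCore 2 G) (invSub G) := by
  haveI : Fact (Nat.Prime 2) := ⟨Nat.prime_two⟩
  haveI := h.sol
  have hcent : Subgroup.centralizer ((Cfsg.pCore 2 G : Subgroup G) : Set G) ≤ Cfsg.pCore 2 G :=
    Cfsg.Agent.Lib.Helper9.centralizer_pCore_le_of_isSolvable 2 hO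
  have hsq := sq_one_mem_centralizer h hO
  -- elements of `invSub` : `x ^ 2 = 1` and central in `T`
  have hE : ∀ x ∈ invSub G, x ^ 2 = 1 ∧
      x ∈ Subgroup.centralizer ((Cfsg.pCore 2 G : Subgroup G) : Set G) := by
    intro x hx
    unfold invSub at hx
    induction hx using Subgroup.closure_induction with
    | mem x hx => exact ⟨hx, hsq x hx⟩
    | one => exact ⟨one_pow 2, Subgroup.one_mem _⟩
    | mul x y _ _ ihx ihy =>
      refine ⟨?_, Subgroup.mul_mem _ ihx.2 ihy.2⟩
      have hcomm : Commute x y := by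
        have := (Subgroup.mem_centralizer_iff.mp ihy.2) x (hcent ihx.2)
        exact this
      rw [hcomm.mul_pow, ihx.1, ihy.1, one_mul]
    | inv x _ ihx =>
      refine ⟨?_, Subgroup.inv_mem _ ihx.2⟩
      rw [inv_pow, ihx.1, inv_one]
  refine ⟨h, Cfsg.Agent.Lib.Helper24.pCore_normal' 2, Cfsg.Agent.Lib.Helper12.pCore_isPGroup' 2,
    fun R hR hR2 => Cfsg.Agent.Lib.Helper12.le_pCore' 2 R hR hR2, hcent, ?_, ?_, ?_, ?_⟩
  · intro R hR hodd
    have hcop : (Nat.card R).Coprime 2 := Nat.Coprime.symm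
      ((Nat.coprime_primes Nat.prime_two Nat.prime_two).not.mp (by simp) |> fun _ =>
        (Nat.Prime.coprime_iff_not_dvd Nat.prime_two).mpr (fun h2 => by
          rcases hodd with ⟨k, hk⟩
          omega))
    have := Cfsg.Agent.Lib.Helper12.le_pPrimeCore 2 R hR hcop
    rw [hO, le_bot_iff] at this
    exact this
  · intro x
    exact ⟨fun hx => (hE x hx).1, fun hx => Subgroup.subset_closure hx⟩
  · intro x hx
    exact hcent (hE x hx).2
  · intro e he t ht
    exact ((Subgroup.mem_centralizer_iff.mp (hE e he).2) t ht).symm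

end groupLeaves

end Cfsg.Agent.Lib.Helper16.TSCFG
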