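import Mathlib
import Cfsg.Prelude.Def_Local
import Cfsg.Agent.Lib.Helper25.TSDefs
import Cfsg.Agent.Lib.Helper9.PLengthFusion

set_option autoImplicit false

namespace Cfsg.Agent.Lib.Helper16.TSPY

open Cfsg.Agent.Lib.Helper25.TS
open scoped commutatorElement

section partTwo

variable {G : Type*} [Group G] [Finite G]

/-- **P2 `exists_solvable_transitive`** -/
theorem exists_solvable_transitive (hG : Group.IsSolvable G) (S : Sylow 2 G)
    (hconj : ∀ x y : G, x ≠ 1 → x ^ 2 = 1 → y ≠ 1 → y ^ 2 = 1 → IsConj x y)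
    (hlen : Cfsg.PLengthLE 2 1 G) :
    ∃ Y : Subgroup (MulAut ↥(S : Subgroup G)), Group.IsSolvable Y ∧
      ∀ x y : ↥(S : Subgroup G), x ≠ 1 → x ^ 2 = 1 → y ≠ 1 → y ^ 2 = 1 → ∃ a ∈ Y, a x = y := by
  haveI : Fact (Nat.Prime 2) := ⟨Nat.prime_two⟩
  haveI := hG
  refine ⟨(S : Subgroup G).normalizerMonoidHom.range, ?_, ?_⟩
  · exact Group.isSolvable_of_surjective
      (MonoidHom.rangeRestrict_surjective (S : Subgroup G).normalizerMonoidHom)
  · intro x y hx1 hx2 hy1 hy2
    have hx1' : (x : G) ≠ 1 := fun h => hx1 (Subtype.ext h)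
    have hy1' : (y : G) ≠ 1 := fun h => hy1 (Subtype.ext h)
    have hx2' : (x : G) ^ 2 = 1 := congrArg Subtype.val hx2
    have hy2' : (y : G) ^ 2 = 1 := congrArg Subtype.val hy2
    obtain ⟨g, hg⟩ := isConj_iff.mp (hconj (x : G) (y : G) hx1' hx2' hy1' hy2')
    obtain ⟨n, hn, c, hc, hnc⟩ := Cfsg.Agent.Lib.Helper9.exists_normalizer_mul_centralizer hlen S
      ({(x : G)} : Set G) g (by
        intro z hz
        rw [Set.mem_singleton_iff] at hz
        rw [hz]
        exact x.2) (by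
        rintro z ⟨w, hw, rfl⟩
        rw [Set.mem_singleton_iff] at hw
        rw [hw]
        show g * (x : G) * g⁻¹ ∈ (S : Subgroup G)
        rw [hg]
        exact y.2)
    have hcx : c * (x : G) * c⁻¹ = x := by
      have := (Subgroup.mem_centralizer_iff.mp hc) (x : G) rfl
      rw [← this]
      group
    have hnx : n * (x : G) * n⁻¹ = y := by
      rw [← hg, ← hnc]
      calc n * (x : G) * n⁻¹ = n * (c * (x : G) * c⁻¹) * n⁻¹ := by rw [hcx]
        _ = n * c * ↑x * (n * c)⁻¹ := by group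
    refine ⟨(S : Subgroup G).normalizerMonoidHom ⟨n, hn⟩, ⟨⟨n, hn⟩, rfl⟩, ?_⟩
    apply Subtype.ext
    exact hnx

end partTwo

end Cfsg.Agent.Lib.Helper16.TSPY
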