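import Mathlib
import Cfsg.Agent.Lib.Helper5.TWS.Defs
import Cfsg.Agent.Lib.Helper26.TWFibA
import Cfsg.Agent.Lib.Helper26.TWFibB
import Cfsg.Agent.Lib.Helper9.TWST
import Cfsg.Agent.Lib.Helper1.TWST2

/-!
S5668-I (owner helper5) toolkit leaf ST5⁗ `perpT_fib` (helper16), exact signature of `notes/S5668_I_leaves.lean`.
Proof: `perpT (fib i S) ≤ perpT (Wf i s) = Cf i (sfv s)` for every `s ∈ S` (helper9 `perpT_Wf`), so `≤`; equality by dimensions
(helper1 `finrank_perpT`, `finrank_perpA`, helper26 `finrank_fib`).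
-/

set_option autoImplicit false
set_option linter.unusedSectionVars false
set_option linter.unusedVariables false

namespace Cfsg.Agent.Lib.Helper16.TWSLeaf
open Matrix Cfsg.Geo Cfsg.Agent.Lib.Helper18.AschA89 Cfsg.Agent.Lib.Helper8.TW Cfsg.Agent.Lib.Helper5.TWS
open Cfsg.Agent.Lib.Helper25.SpT (sf Jm sfv)

variable {F : Type*} [Field F] [Fintype F] {t k : ℕ}

/-- ST5⁗ (M) perp of a fibre: `(A_î ⊗ S)^⊥ = A_î ⊗ S^⊥` -/
theorem perpT_fib (hk : Even k) (i : Fin t) (S : Submodule F (Fin k → F)) : perpT (fib i S) = fib i (perpA S) := by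
  classical
  have hle : perpT (fib i S) ≤ fib i (perpA S) := by
    intro v hv' x s hs
    by_cases hs0 : s = 0
    · rw [hs0]
      exact Cfsg.Agent.Lib.Helper25.SpT.sf_zero_right _
    · have h1 : Wf i s ≤ fib i S := by
        apply Cfsg.Agent.Lib.Helper26.TWLeaf.fib_mono
        rw [Submodule.span_singleton_le_iff_mem]
        exact hs
      have h2 : v ∈ perpT (Wf i s) := Cfsg.Agent.Lib.Helper9.TWST.perpT_anti h1 hv'
      rw [Cfsg.Agent.Lib.Helper9.TWST.perpT_Wf hk i s hs0] at h2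
      have h3 : sfv s ⬝ᵥ slice i x v = 0 := h2 x
      rw [Cfsg.Agent.Lib.Helper25.SpT.sfv_dot] at h3
      exact h3
  apply Submodule.eq_of_le_of_finrank_eq hle
  have h1 := Cfsg.Agent.Lib.Helper1.TWST2.finrank_perpT hk (fib i S)
  have h2 := Cfsg.Agent.Lib.Helper1.TWST2.finrank_perpA hk S
  rw [Cfsg.Agent.Lib.Helper26.TWLeaf.finrank_fib] at h1 ⊢
  have hcard : k ^ t = k ^ (t - 1) * k := by
    rw [← pow_succ]
    congr 1
    have : 0 < t := Fin.pos i
    omega
  rw [hcard] at h1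
  have h3 : k ^ (t - 1) * k = k ^ (t - 1) * Module.finrank F ↥(perpA S) + k ^ (t - 1) * Module.finrank F ↥S := by
    rw [← mul_add, h2]
  omega

end Cfsg.Agent.Lib.Helper16.TWSLeaf
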