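import Mathlib
import Cfsg.Agent.Lib.Helper5.TWS.Defs
import Cfsg.Agent.Lib.Helper26.TWFibA
import Cfsg.Agent.Lib.Helper26.TWFibB
import Cfsg.Agent.Lib.Helper9.TWST

/-!
S5668-I (owner helper5) toolkit leaf ST7' `grp_eq_of_W` (helper16), exact signature of `notes/S5668_I_leaves.lean`:
two admissible root data with the same fibre have the same (full) root group (`r'.y = a • r.y`, `N' = a² N`).
Template: `Helper23.TWULeaf.ugrp_eq_of_W`; the form-free `Wf_eq_Wf16`, `rootN_smul_left16/right16` are local copies.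
-/

set_option autoImplicit false
set_option linter.unusedSectionVars false
set_option linter.unusedVariables false

namespace Cfsg.Agent.Lib.Helper16.TWSLeaf
open Matrix Cfsg.Geo Cfsg.Agent.Lib.Helper18.AschA89 Cfsg.Agent.Lib.Helper8.TW Cfsg.Agent.Lib.Helper5.TWS
open Cfsg.Agent.Lib.Helper25.SpT (sf Jm sfv)

variable {F : Type*} [Field F] [Fintype F] {t k : ℕ}

lemma rootN_smul_right16 (i : Fin t) (y η : Fin k → F) (a : F) : rootN i y (a • η) = a • rootN i y η := by
  unfold rootN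
  rw [← slot_smul]
  congr 1
  funext b c
  simp only [Matrix.vecMulVec_apply, Matrix.smul_apply, Pi.smul_apply, smul_eq_mul]
  ring

lemma rootN_smul_left16 (i : Fin t) (y η : Fin k → F) (a : F) : rootN i (a • y) η = a • rootN i y η := by
  unfold rootN
  rw [← slot_smul]
  congr 1
  funext b c
  simp only [Matrix.vecMulVec_apply, Matrix.smul_apply, Pi.smul_apply, smul_eq_mul]
  ring

/-- equal fibres: same position (`k ≥ 2`) and proportional vectors -/
theorem Wf_eq_Wf16 (hk : 2 ≤ k) (i i' : Fin t) (y y' : Fin k → F) (hy : y ≠ 0) (hy' : y' ≠ 0)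
    (h : Wf i y = Wf i' y') : i = i' ∧ ∃ a : F, a ≠ 0 ∧ y' = a • y := by
  have hi : i = i' := by
    by_contra hne
    have h1 := Cfsg.Agent.Lib.Helper26.TWLeaf.finrank_fib_inf_fib (F := F) i i' hne (F ∙ y) (F ∙ y')
    have h2 : (fib i (F ∙ y) ⊓ fib i' (F ∙ y') : Submodule F (Idx t k → F)) = fib i (F ∙ y) := by
      have : fib i' (F ∙ y') = fib i (F ∙ y) := h.symm
      rw [this, inf_idem]
    rw [h2, Cfsg.Agent.Lib.Helper26.TWLeaf.finrank_fib, finrank_span_singleton hy,
      finrank_span_singleton hy'] at h1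
    have ht : 2 ≤ t := by
      have h3 : (i : ℕ) ≠ (i' : ℕ) := fun h' => hne (Fin.ext h')
      have := i.2
      have := i'.2
      omega
    have h4 : k ^ (t - 1) = k ^ (t - 2) * k := by
      rw [← pow_succ]
      congr 1
      omega
    rw [h4] at h1
    have hpos : 0 < k ^ (t - 2) := Nat.pow_pos (by omega)
    nlinarith
  subst hi
  refine ⟨rfl, ?_⟩
  have h1 : (F ∙ y' : Submodule F (Fin k → F)) ≤ F ∙ y := by
    rw [← Cfsg.Agent.Lib.Helper26.TWLeaf.fib_le_iff i]
    exact h.symm.le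
  have h2 : y' ∈ (F ∙ y : Submodule F (Fin k → F)) := h1 (Submodule.mem_span_singleton_self y')
  obtain ⟨a, ha⟩ := Submodule.mem_span_singleton.1 h2
  refine ⟨a, ?_, ha.symm⟩
  rintro rfl
  rw [zero_smul] at ha
  exact hy' ha.symm

lemma sfv_smul16 (a : F) (y : Fin k → F) : sfv (a • y) = a • sfv y := by
  unfold Cfsg.Agent.Lib.Helper25.SpT.sfv
  rw [Matrix.mulVec_smul]

/-- ST7' (S) two admissible root data with the same fibre have the same root group -/
theorem grp_eq_of_W (hk : Even k) (hk2 : 2 ≤ k) (r r' : RD t k F) (hr : RS r) (hr' : RS r') (hW : r.W = r'.W) :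
    r.grp = r'.grp := by
  obtain ⟨hi, a, ha0, hya⟩ := Wf_eq_Wf16 hk2 r.i r'.i r.y r'.y r.hy r'.hy hW
  have hN : r'.N = (a * a) • r.N := by
    rw [Cfsg.Agent.Lib.Helper9.TWST.RD_N_eq hr, Cfsg.Agent.Lib.Helper9.TWST.RD_N_eq hr', ← hi, hya,
      sfv_smul16, rootN_smul_left16, rootN_smul_right16, smul_smul]
  have hb0 : a * a ≠ 0 := mul_ne_zero ha0 ha0
  have helt : ∀ c : F, r'.elt c = r.elt ((a * a) * c) := by
    intro c
    apply Units.ext
    unfold RD.elt
    rw [unip_val, unip_val, hN, smul_smul, mul_comm]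
  ext x
  rw [RD.mem_grp, RD.mem_grp]
  constructor
  · rintro ⟨c, rfl⟩
    refine ⟨(a * a)⁻¹ * c, ?_⟩
    rw [helt, ← mul_assoc, mul_inv_cancel₀ hb0, one_mul]
  · rintro ⟨c, rfl⟩
    exact ⟨(a * a) * c, helt c⟩

end Cfsg.Agent.Lib.Helper16.TWSLeaf
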