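import Mathlib
import Cfsg.Agent.Lib.Helper5.TWS.Defs
import Cfsg.Agent.Lib.Helper26.TWFibA
import Cfsg.Agent.Lib.Helper16.TWImg
import Cfsg.Agent.Lib.Helper16.TWUIIConj
import Cfsg.Agent.Lib.Helper9.TWST
import Cfsg.Agent.Lib.Helper14.TWSIIDefs

/-!
S5668-II (helper14's market, `notes/S5668_II_leaves.lean`): T11 `img_Cf`, U2 `InUS_conj`, U3 `InUS_mul` / `InUS_inv` (helper16),
ports of `Helper16.TWUIIConj`.
-/

set_option autoImplicit false
set_option linter.unusedSectionVars false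
set_option linter.unusedVariables false

namespace Cfsg.Agent.Lib.Helper16.TWSIILeaf
open Matrix Cfsg.Geo Cfsg.Agent.Lib.Helper18.AschA89 Cfsg.Agent.Lib.Helper8.TW Cfsg.Agent.Lib.Helper5.TWS
  Cfsg.Agent.Lib.Helper14.TWII Cfsg.Agent.Lib.Helper14.TWSII
open Cfsg.Agent.Lib.Helper25.SpT (sf Jm sfv)
open Cfsg.Agent.Lib.Helper16.TWUIILeaf (mv_mul16 mv_sub16 mv_zero16 mv_inv_mv16 mv_mv_inv16 mv_mem_of_img_eq mv_inv_mem_of_img_eq)

variable {F : Type*} [Field F] [Fintype F] {t k : ℕ}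

/-- `W(i,y) ≤ C(i,y†)` for EVERY `y` (no hypothesis: `sf y y = 0`) -/
theorem Wf_le_Cf16 (i : Fin t) (y : Fin k → F) : Wf i y ≤ Cf i (sfv y) := by
  apply Cfsg.Agent.Lib.Helper26.TWLeaf.fib_mono
  rw [Submodule.span_singleton_le_iff_mem]
  change sfv y ⬝ᵥ y = 0
  rw [Cfsg.Agent.Lib.Helper25.SpT.sfv_dot]
  exact Cfsg.Agent.Lib.Helper25.SpT.sf_self y

/-- T11 (M) a similitude stabilising `W(i,y)` stabilises `C(i,y) = W^⊥` -/
theorem img_Cf (hk : Even k) (i : Fin t) (y : Fin k → F) (hy0 : y ≠ 0) (g : GL (Idx t k) F) (hg : g ∈ DSV t k F)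
    (hstab : img g (Wf i y) = Wf i y) : img g (Cf i (sfv y)) = Cf i (sfv y) := by
  rw [← Cfsg.Agent.Lib.Helper9.TWST.perpT_Wf hk i y hy0, Cfsg.Agent.Lib.Helper9.TWST.img_perpT hg, hstab]

/-- U2 (M) `U^W` is normalised by the similitudes stabilising `W` -/
theorem InUS_conj (hk : Even k) (i : Fin t) (y : Fin k → F) (hy0 : y ≠ 0) (g u : GL (Idx t k) F)
    (hg : g ∈ DSV t k F) (hstab : img g (Wf i y) = Wf i y) (hu : InUS i y u) : InUS i y (g * u * g⁻¹) := by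
  have hC : img g (Cf i (sfv y)) = Cf i (sfv y) := img_Cf hk i y hy0 g hg hstab
  obtain ⟨h1, h2, h3⟩ := hu
  have key : ∀ v, mv (g * u * g⁻¹) v - v = mv g (mv u (mv g⁻¹ v) - mv g⁻¹ v) := by
    intro v
    rw [mv_mul16, mv_mul16, mv_sub16, mv_mv_inv16]
  refine ⟨?_, ?_, ?_⟩
  · intro v hv'
    have := key v
    rw [h1 _ (mv_inv_mem_of_img_eq hstab hv'), sub_self, mv_zero16] at this
    exact sub_eq_zero.mp this
  · intro v hv'
    rw [key v]
    exact mv_mem_of_img_eq hstab (h2 _ (mv_inv_mem_of_img_eq hC hv'))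
  · intro v
    rw [key v]
    exact mv_mem_of_img_eq hC (h3 _)

/-- U3 (M) `U^W` is a group (form-free up to `W ≤ C`) -/
theorem InUS_mul (i : Fin t) (y : Fin k → F) (u u' : GL (Idx t k) F) (hu : InUS i y u) (hu' : InUS i y u') :
    InUS i y (u * u') := by
  obtain ⟨h1, h2, h3⟩ := hu
  obtain ⟨h1', h2', h3'⟩ := hu'
  have e : ∀ v, mv (u * u') v - v = (mv u (mv u' v) - mv u' v) + (mv u' v - v) := by
    intro v
    rw [mv_mul16]
    abel
  refine ⟨?_, ?_, ?_⟩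
  · intro v hv
    rw [mv_mul16, h1' v hv, h1 v hv]
  · intro v hv
    rw [e]
    have hu'v : mv u' v ∈ Cf i (sfv y) := by
      have : mv u' v = (mv u' v - v) + v := by abel
      rw [this]
      exact (Cf i (sfv y)).add_mem (Wf_le_Cf16 i y (h2' v hv)) hv
    exact (Wf i y).add_mem (h2 _ hu'v) (h2' v hv)
  · intro v
    rw [e]
    exact (Cf i (sfv y)).add_mem (h3 _) (h3' _)

theorem InUS_inv (i : Fin t) (y : Fin k → F) (u : GL (Idx t k) F) (hu : InUS i y u) : InUS i y u⁻¹ := by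
  obtain ⟨h1, h2, h3⟩ := hu
  have e : ∀ v, mv u⁻¹ v - v = -(mv u (mv u⁻¹ v) - mv u⁻¹ v) := by
    intro v
    rw [mv_mv_inv16]
    abel
  refine ⟨?_, ?_, ?_⟩
  · intro v hv
    calc mv u⁻¹ v = mv u⁻¹ (mv u v) := by rw [h1 v hv]
      _ = v := mv_inv_mv16 u v
  · intro v hv
    have hv' : mv u⁻¹ v ∈ Cf i (sfv y) := by
      have : mv u⁻¹ v = (mv u⁻¹ v - v) + v := by abel
      rw [this, e]
      exact (Cf i (sfv y)).add_mem ((Cf i (sfv y)).neg_mem (h3 _)) hv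
    rw [e]
    exact (Wf i y).neg_mem (h2 _ hv')
  · intro v
    rw [e]
    exact (Cf i (sfv y)).neg_mem (h3 _)

end Cfsg.Agent.Lib.Helper16.TWSIILeaf
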