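import Mathlib
import Cfsg.Agent.Lib.Helper5.TWS.Defs
import Cfsg.Agent.Lib.Helper22.TWExtBasic
import Cfsg.Agent.Lib.Helper22.TWExtMore
import Cfsg.Agent.Lib.Helper26.TWFibA
import Cfsg.Agent.Lib.Helper14.TWSIIDefs

/-!
S5668-II (helper14's market, `notes/S5668_II_leaves.lean`): T9 `torS_mem`, U4 `InUS_slot_shape` (helper16).
-/

set_option autoImplicit false
set_option linter.unusedSectionVars false
set_option linter.unusedVariables false

namespace Cfsg.Agent.Lib.Helper16.TWSIILeaf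
open Matrix Cfsg.Geo Cfsg.Agent.Lib.Helper18.AschA89 Cfsg.Agent.Lib.Helper8.TW Cfsg.Agent.Lib.Helper5.TWS
  Cfsg.Agent.Lib.Helper14.TWII Cfsg.Agent.Lib.Helper14.TWSII
open Cfsg.Agent.Lib.Helper25.SpT (sf Jm sfv)

variable {F : Type*} [Field F] [Fintype F] {t k : ℕ}

/-- the action of the torus matrix -/
theorem torS_mulVec (y y' : Fin k → F) (l : F) (a : Fin k → F) :
    torS y y' l *ᵥ a = a + ((l - 1) * sf a y') • y - ((l⁻¹ - 1) * sf a y) • y' := by
  unfold torS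
  rw [Matrix.sub_mulVec, Matrix.add_mulVec, Matrix.one_mulVec, Matrix.smul_mulVec, Matrix.smul_mulVec]
  simp only [Matrix.vecMulVec_mulVec, Cfsg.Agent.Lib.Helper25.SpT.sfv_dot]
  ext i
  simp only [Pi.add_apply, Pi.sub_apply, Pi.smul_apply, MulOpposite.smul_eq_mul_unop,
    MulOpposite.unop_op, smul_eq_mul]
  ring

/-- the torus matrices multiply -/
theorem torS_mul_inv (y y' : Fin k → F) (hyy' : sf y y' = 1) (l : F) (hl : l ≠ 0) :
    torS y y' l * torS y y' l⁻¹ = 1 := by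
  have hy'y : sf y' y = -1 := by rw [Cfsg.Agent.Lib.Helper25.SpT.sf_skew, hyy']
  unfold torS
  simp only [Matrix.add_mul, Matrix.mul_add, Matrix.sub_mul, Matrix.mul_sub, Matrix.smul_mul,
    Matrix.mul_smul, Matrix.one_mul, Matrix.mul_one,
    Matrix.vecMulVec_mul_vecMulVec, Cfsg.Agent.Lib.Helper25.SpT.sfv_dot, hyy', hy'y,
    Cfsg.Agent.Lib.Helper25.SpT.sf_self, zero_smul, one_smul, neg_smul, Matrix.vecMulVec_zero,
    Matrix.vecMulVec_neg, smul_zero, add_zero, sub_zero, smul_neg, inv_inv]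
  ext a b
  simp only [Matrix.add_apply, Matrix.sub_apply, Matrix.smul_apply, Matrix.neg_apply, smul_eq_mul,
    Matrix.one_apply]
  field_simp
  ring

/-- a torus matrix is an isometry -/
theorem torS_isom (y y' : Fin k → F) (hyy' : sf y y' = 1) (l : F) (hl : l ≠ 0) (a b : Fin k → F) :
    sf (torS y y' l *ᵥ a) (torS y y' l *ᵥ b) = sf a b := by
  have hy'y : sf y' y = -1 := by rw [Cfsg.Agent.Lib.Helper25.SpT.sf_skew, hyy']
  have e1 : sf y b = - sf b y := Cfsg.Agent.Lib.Helper25.SpT.sf_skew y b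
  have e2 : sf y' b = - sf b y' := Cfsg.Agent.Lib.Helper25.SpT.sf_skew y' b
  rw [torS_mulVec, torS_mulVec]
  simp only [Cfsg.Agent.Lib.Helper25.SpT.sf_add_left, Cfsg.Agent.Lib.Helper25.SpT.sf_add_right,
    Cfsg.Agent.Lib.Helper25.SpT.sf_sub_left, Cfsg.Agent.Lib.Helper25.SpT.sf_sub_right,
    Cfsg.Agent.Lib.Helper25.SpT.sf_smul_left, Cfsg.Agent.Lib.Helper25.SpT.sf_smul_right,
    Cfsg.Agent.Lib.Helper25.SpT.sf_self, hyy', hy'y, e1, e2]
  field_simp
  ring

/-- T9 (M) the torus -/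
theorem torS_mem (y y' : Fin k → F) (hyy' : sf y y' = 1) (l : F) (hl : l ≠ 0) :
    ∃ d : GL (Fin k) F, (d : Matrix (Fin k) (Fin k) F) = torS y y' l ∧ d ∈ GSA k F ∧
      (d : Matrix (Fin k) (Fin k) F) *ᵥ y = l • y ∧ (d : Matrix (Fin k) (Fin k) F) *ᵥ y' = l⁻¹ • y' ∧
      ∀ a : Fin k → F, sf a y = 0 → sf a y' = 0 → (d : Matrix (Fin k) (Fin k) F) *ᵥ a = a := by
  have hy'y : sf y' y = -1 := by rw [Cfsg.Agent.Lib.Helper25.SpT.sf_skew, hyy']
  have h1 : torS y y' l * torS y y' l⁻¹ = 1 := torS_mul_inv y y' hyy' l hl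
  have h2 : torS y y' l⁻¹ * torS y y' l = 1 := by
    have := torS_mul_inv y y' hyy' l⁻¹ (inv_ne_zero hl)
    rwa [inv_inv] at this
  refine ⟨⟨torS y y' l, torS y y' l⁻¹, h1, h2⟩, rfl, ?_, ?_, ?_, ?_⟩
  · intro a b
    exact torS_isom y y' hyy' l hl a b
  · change torS y y' l *ᵥ y = l • y
    rw [torS_mulVec, hyy', Cfsg.Agent.Lib.Helper25.SpT.sf_self]
    ext j
    simp only [Pi.add_apply, Pi.sub_apply, Pi.smul_apply, smul_eq_mul]
    ring
  · change torS y y' l *ᵥ y' = l⁻¹ • y'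
    rw [torS_mulVec, hy'y, Cfsg.Agent.Lib.Helper25.SpT.sf_self]
    ext j
    simp only [Pi.add_apply, Pi.sub_apply, Pi.smul_apply, smul_eq_mul]
    ring
  · intro a ha ha'
    change torS y y' l *ᵥ a = a
    rw [torS_mulVec, ha, ha']
    simp

/-- slices of a pure tensor -/
theorem slice_tens16 (i : Fin (t + 1)) (c : Fin k) (u : Idx t k) (b : Idx t k → F) (a : Fin k → F) :
    slice i (ins i c u) (tens i b a) = b u • a := by
  funext a'
  simp only [slice, Cfsg.Agent.Lib.Helper22.TWLeaf.update_ins, tens, ins_same,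
    Cfsg.Agent.Lib.Helper22.TWLeaf.ins_comp, Pi.smul_apply, smul_eq_mul]

/-- a pure tensor with second factor in `S` lies in the fibre -/
theorem tens_mem_fib16 (i : Fin (t + 1)) (S : Submodule F (Fin k → F)) (b : Idx t k → F) (a : Fin k → F)
    (ha : a ∈ S) : tens i b a ∈ fib i S := by
  intro x
  obtain ⟨c, u, rfl⟩ := Cfsg.Agent.Lib.Helper22.TWLeaf.ins_surj i x
  rw [slice_tens16]
  exact S.smul_mem _ ha

/-- U4 (M) shape of a slot element of `U^W` -/
theorem InUS_slot_shape (i : Fin (t + 1)) (y : Fin k → F) (hy0 : y ≠ 0) (M : GL (Fin k) F)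
    (h : InUS i y (slotGL i M)) :
    (M : Matrix (Fin k) (Fin k) F) *ᵥ y = y ∧
      (∀ a : Fin k → F, sf a y = 0 → ∃ c : F, (M : Matrix (Fin k) (Fin k) F) *ᵥ a = a + c • y) ∧
      (∀ a : Fin k → F, sf ((M : Matrix (Fin k) (Fin k) F) *ᵥ a - a) y = 0) := by
  classical
  obtain ⟨h1, h2, h3⟩ := h
  -- a base point of `Idx t k` (exists since `k ≥ 1`)
  obtain ⟨c₀, hc₀⟩ : ∃ c₀ : Fin k, y c₀ ≠ 0 := by
    by_contra hcon
    simp only [not_exists, not_not] at hcon
    exact hy0 (funext hcon)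
  set u₀ : Idx t k := fun _ => c₀ with hu₀
  set b : Idx t k → F := Pi.single u₀ 1 with hb
  have hbu : b u₀ = 1 := by rw [hb, Pi.single_eq_same]
  have hmv : ∀ a : Fin k → F, mv (slotGL i M) (tens i b a) = tens i b ((M : Matrix (Fin k) (Fin k) F) *ᵥ a) := by
    intro a
    unfold mv
    rw [slotGL_val, Cfsg.Agent.Lib.Helper22.TWLeaf.slot_mulVec_tens]
  have hdiff : ∀ a : Fin k → F, slice i (ins i c₀ u₀) (mv (slotGL i M) (tens i b a) - tens i b a) =
      (M : Matrix (Fin k) (Fin k) F) *ᵥ a - a := by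
    intro a
    rw [hmv]
    have : slice i (ins i c₀ u₀) (tens i b ((M : Matrix (Fin k) (Fin k) F) *ᵥ a) - tens i b a) =
        slice i (ins i c₀ u₀) (tens i b ((M : Matrix (Fin k) (Fin k) F) *ᵥ a)) -
          slice i (ins i c₀ u₀) (tens i b a) := rfl
    rw [this, slice_tens16, slice_tens16, hbu, one_smul, one_smul]
  refine ⟨?_, ?_, ?_⟩
  · have hW : tens i b y ∈ Wf i y := tens_mem_fib16 i _ b y (Submodule.mem_span_singleton_self y)
    have e := h1 _ hW
    have e2 := hdiff y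
    rw [e, sub_self] at e2
    have e3 : slice i (ins i c₀ u₀) (0 : Idx (t + 1) k → F) = 0 := rfl
    rw [e3] at e2
    exact (sub_eq_zero.mp e2.symm)
  · intro a ha
    have hC : tens i b a ∈ Cf i (sfv y) := by
      apply tens_mem_fib16
      change sfv y ⬝ᵥ a = 0
      rw [Cfsg.Agent.Lib.Helper25.SpT.sfv_dot]
      exact ha
    have e := h2 _ hC (ins i c₀ u₀)
    rw [hdiff a] at e
    obtain ⟨c, hc⟩ := Submodule.mem_span_singleton.mp e
    refine ⟨c, ?_⟩
    rw [hc]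
    abel
  · intro a
    have e := h3 (tens i b a) (ins i c₀ u₀)
    rw [hdiff a] at e
    have e' : sfv y ⬝ᵥ ((M : Matrix (Fin k) (Fin k) F) *ᵥ a - a) = 0 := e
    rw [Cfsg.Agent.Lib.Helper25.SpT.sfv_dot] at e'
    exact e'

end Cfsg.Agent.Lib.Helper16.TWSIILeaf
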