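/-
helper16 (S1632 market, planner helper7): core of leaf (B3a) `summable_latticeTheta`, with the
leaves (B1) `exists_gdata` and (A2c) `summable_exp_Q` as hypotheses.
-/
import Cfsg.Agent.Lib.Helper7.ThetaDefs

set_option autoImplicit false

noncomputable section

namespace Cfsg.Agent.Lib.Helper16.ThetaB3a

open Cfsg.Agent.Lib.Helper7.Theta

/-- clearing denominators of a rational vector -/
theorem exists_int_multiple {n : ℕ} (x : Fin n → ℚ) :
    ∃ (N : ℕ) (y : Fin n → ℤ), 0 < N ∧ ∀ i, ((y i : ℤ) : ℚ) = (N : ℚ) * x i := by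
  classical
  have hN : ∀ i, ∃ z : ℤ, (z : ℚ) = ((∏ j, (x j).den : ℕ) : ℚ) * x i := by
    intro i
    obtain ⟨k, hk⟩ := Finset.dvd_prod_of_mem (fun j => (x j).den) (Finset.mem_univ i)
    refine ⟨(x i).num * k, ?_⟩
    rw [hk]
    push_cast
    have := Rat.mul_den_eq_num (x i)
    rw [← this]
    ring
  choose y hy using hN
  refine ⟨∏ j, (x j).den, y, ?_, hy⟩
  apply Finset.prod_pos
  intro j _
  exact (x j).den_pos

/-- positivity over `ℤ` gives positivity over `ℚ` -/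
theorem pos_rat_of_pos_int {n : ℕ} (B : Matrix (Fin n) (Fin n) ℤ)
    (hpos : ∀ x : Fin n → ℤ, x ≠ 0 → 0 < x ⬝ᵥ (B.mulVec x)) (x : Fin n → ℚ) (hx : x ≠ 0) :
    0 < x ⬝ᵥ ((B.map (fun z : ℤ => (z : ℚ))).mulVec x) := by
  obtain ⟨N, y, hN, hy⟩ := exists_int_multiple x
  have hy0 : y ≠ 0 := by
    intro h0
    apply hx
    funext i
    have h1 := hy i
    rw [h0, Pi.zero_apply, Int.cast_zero] at h1
    have hN' : (N : ℚ) ≠ 0 := Nat.cast_ne_zero.mpr hN.ne'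
    rcases mul_eq_zero.mp h1.symm with h | h
    · exact absurd h hN'
    · exact h
  have h1 := hpos y hy0
  have h2 : (((y ⬝ᵥ (B.mulVec y) : ℤ)) : ℚ) =
      (N : ℚ) ^ 2 * (x ⬝ᵥ ((B.map (fun z : ℤ => (z : ℚ))).mulVec x)) := by
    simp only [dotProduct, Matrix.mulVec, Matrix.map_apply]
    push_cast
    simp only [hy]
    rw [Finset.mul_sum]
    apply Finset.sum_congr rfl
    intro i _
    rw [Finset.mul_sum, Finset.mul_sum, Finset.mul_sum]
    apply Finset.sum_congr rfl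
    intro j _
    ring
  have h3 : (0 : ℚ) < (((y ⬝ᵥ (B.mulVec y) : ℤ)) : ℚ) := by exact_mod_cast h1
  rw [h2] at h3
  have hN2 : (0 : ℚ) < (N : ℚ) ^ 2 := by positivity
  exact (mul_pos_iff_of_pos_left hN2).mp h3

/-- **core of S1632 leaf (B3a)**, with (B1) and (A2c) as hypotheses -/
theorem summable_latticeTheta_of
    (hB1 : ∀ {n : ℕ} (A : Matrix (Fin n) (Fin n) ℚ), A.IsSymm →
      (∀ x : Fin n → ℚ, x ≠ 0 → 0 < x ⬝ᵥ (A.mulVec x)) →
      ∃ d : GData n, d.Pos ∧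
        ∀ x : Fin n → ℝ, d.Q x = x ⬝ᵥ ((A.map (fun q : ℚ => (q : ℝ))).mulVec x))
    (hA2 : ∀ {n : ℕ} (d : GData n), d.Pos → ∀ t : ℝ, 0 < t →
      ∃ M : ℝ, ∀ s : Fin n → ℝ,
        Summable (fun x : Fin n → ℤ => Real.exp (-t * d.Q (fun i => (x i : ℝ) + s i))) ∧
        ∑' x : Fin n → ℤ, Real.exp (-t * d.Q (fun i => (x i : ℝ) + s i)) ≤ M)
    {n : ℕ} (B : Matrix (Fin n) (Fin n) ℤ) (hsymm : B.IsSymm)
    (hpos : ∀ x : Fin n → ℤ, x ≠ 0 → 0 < x ⬝ᵥ (B.mulVec x)) (t : ℝ) (ht : 0 < t) :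
    Summable (fun x : Fin n → ℤ => Real.exp (-t * ((x ⬝ᵥ (B.mulVec x) : ℤ) : ℝ))) := by
  have hAsymm : (B.map (fun z : ℤ => (z : ℚ))).IsSymm := hsymm.map _
  obtain ⟨d, hd, hQ⟩ := hB1 (B.map (fun z : ℤ => (z : ℚ))) hAsymm (pos_rat_of_pos_int B hpos)
  obtain ⟨M, hM⟩ := hA2 d hd t ht
  have h0 := (hM 0).1
  have heq : (fun x : Fin n → ℤ => Real.exp (-t * d.Q (fun i => (x i : ℝ) + (0 : Fin n → ℝ) i))) =
      (fun x : Fin n → ℤ => Real.exp (-t * ((x ⬝ᵥ (B.mulVec x) : ℤ) : ℝ))) := by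
    funext x
    congr 2
    have h1 : (fun i => (x i : ℝ) + (0 : Fin n → ℝ) i) = (fun i => (x i : ℝ)) := by
      funext i
      rw [Pi.zero_apply, add_zero]
    rw [h1, hQ]
    simp only [dotProduct, Matrix.mulVec, Matrix.map_apply]
    push_cast
    rfl
  rw [heq] at h0
  exact h0

end Cfsg.Agent.Lib.Helper16.ThetaB3a

end
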