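/-
helper16 (S1632 market, planner helper7): leaf (B3a) `summable_latticeTheta`
(= `ThetaB3aCore.summable_latticeTheta_of` + helper29 (B1) `exists_gdata` + helper12 (A2c)
`summable_exp_Q`).
-/
import Cfsg.Agent.Lib.Helper7.ThetaDefs
import Cfsg.Agent.Lib.Helper16.ThetaB3aCore
import Cfsg.Agent.Lib.Helper29.ThetaB1
import Cfsg.Agent.Lib.Helper12.ThetaA2

set_option autoImplicit false

noncomputable section

namespace Cfsg.Agent.Lib.Helper16.ThetaB3a

open Cfsg.Agent.Lib.Helper7.Theta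

/-- **S1632 leaf (B3a)**: summability of the lattice theta series. -/
theorem summable_latticeTheta {n : ℕ} (B : Matrix (Fin n) (Fin n) ℤ) (hsymm : B.IsSymm)
    (hpos : ∀ x : Fin n → ℤ, x ≠ 0 → 0 < x ⬝ᵥ (B.mulVec x)) (t : ℝ) (ht : 0 < t) :
    Summable (fun x : Fin n → ℤ => Real.exp (-t * ((x ⬝ᵥ (B.mulVec x) : ℤ) : ℝ))) :=
  summable_latticeTheta_of
    (fun A hA hp => Cfsg.Agent.Lib.Helper29.ThetaB1.exists_gdata A hA hp)
    (fun d hd t ht => Cfsg.Agent.Lib.Helper12.ThetaA2.summable_exp_Q d hd t ht)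
    B hsymm hpos t ht

end Cfsg.Agent.Lib.Helper16.ThetaB3a

end
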