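import Mathlib

/-
helper16 library: an elementary abelian 2-group of isometries of a nondegenerate alternating form
on a space of dimension `d` has order at most `2 ^ (d / 2)` (`main_bound`).
-/

set_option autoImplicit false

namespace Cfsg.Agent.Lib.Helper16.TwoRank

universe u

variable {F : Type*} [Field F]

/-- a nondegenerate alternating form lives on a space of dimension `≥ 2`, or on the zero space -/
theorem subsingleton_or_two_le_finrank {V : Type u} [AddCommGroup V] [Module F V]
    [FiniteDimensional F V] (B : LinearMap.BilinForm F V) (halt : ∀ v, B v v = 0)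
    (hnd : ∀ v, (∀ w, B v w = 0) → v = 0) :
    Subsingleton V ∨ 2 ≤ Module.finrank F V := by
  by_cases h : Module.finrank F V ≤ 1
  · left
    rw [finrank_le_one_iff] at h
    obtain ⟨v₀, hv₀⟩ := h
    refine ⟨fun a b => ?_⟩
    have key : ∀ v : V, v = 0 := by
      intro v
      apply hnd
      intro w
      obtain ⟨c, rfl⟩ := hv₀ v
      obtain ⟨c', rfl⟩ := hv₀ w
      rw [map_smul, map_smul, LinearMap.smul_apply, halt, smul_zero, smul_zero]
    rw [key a, key b]
  · right
    omega

open Classical in
/-- restriction of an endomorphism to a submodule (zero if not invariant) -/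
noncomputable def resW {V : Type u} [AddCommGroup V] [Module F V] (W : Submodule F V)
    (g : Module.End F V) : Module.End F W :=
  if h : ∀ x ∈ W, g x ∈ W then g.restrict h else 0

theorem resW_apply {V : Type u} [AddCommGroup V] [Module F V] (W : Submodule F V)
    (g : Module.End F V) (h : ∀ x ∈ W, g x ∈ W) (x : W) : ((resW W g x : W) : V) = g x := by
  unfold resW
  rw [dif_pos h]
  rfl

theorem restricted_props {V : Type u} [AddCommGroup V] [Module F V]
    (B : LinearMap.BilinForm F V) (halt : ∀ v, B v v = 0)
    (E : Set (Module.End F V)) (hfin : E.Finite) (hinv : ∀ g ∈ E, g * g = 1)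
    (hcomm : ∀ g ∈ E, ∀ h ∈ E, g * h = h * g) (hiso : ∀ g ∈ E, ∀ v w, B (g v) (g w) = B v w)
    (W : Submodule F V) (hW : ∀ g ∈ E, ∀ x ∈ W, g x ∈ W)
    (hndW : ∀ v ∈ W, (∀ w ∈ W, B v w = 0) → v = 0) :
    (∀ v, (B.restrict W) v v = 0) ∧ (∀ v, (∀ w, (B.restrict W) v w = 0) → v = 0) ∧
    (resW W '' E).Finite ∧ (∀ g ∈ resW W '' E, g * g = 1) ∧
    (∀ g ∈ resW W '' E, ∀ h ∈ resW W '' E, g * h = h * g) ∧
    (∀ g ∈ resW W '' E, ∀ v w, (B.restrict W) (g v) (g w) = (B.restrict W) v w) := by
  refine ⟨fun v => halt v, ?_, hfin.image _, ?_, ?_, ?_⟩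
  · intro v hv
    apply Subtype.ext
    apply hndW v v.2
    intro w hw
    exact hv ⟨w, hw⟩
  · rintro _ ⟨g, hg, rfl⟩
    ext x
    rw [Module.End.mul_apply, resW_apply W g (hW g hg), resW_apply W g (hW g hg),
      Module.End.one_apply]
    have := congrArg (fun f : Module.End F V => f (x : V)) (hinv g hg)
    exact this
  · rintro _ ⟨g, hg, rfl⟩ _ ⟨h, hh, rfl⟩
    ext x
    rw [Module.End.mul_apply, Module.End.mul_apply, resW_apply W g (hW g hg),
      resW_apply W h (hW h hh), resW_apply W h (hW h hh), resW_apply W g (hW g hg)]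
    have := congrArg (fun f : Module.End F V => f (x : V)) (hcomm g hg h hh)
    exact this
  · rintro _ ⟨g, hg, rfl⟩ v w
    show B (resW W g v : V) (resW W g w : V) = B v w
    rw [resW_apply W g (hW g hg), resW_apply W g (hW g hg)]
    exact hiso g hg v w

theorem main_bound (h2 : (2 : F) ≠ 0) : ∀ (d : ℕ) (V : Type u) [AddCommGroup V] [Module F V]
    [FiniteDimensional F V], Module.finrank F V = d → ∀ (B : LinearMap.BilinForm F V),
    (∀ v, B v v = 0) → (∀ v, (∀ w, B v w = 0) → v = 0) →
    ∀ (E : Set (Module.End F V)), E.Finite → (∀ g ∈ E, g * g = 1) →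
    (∀ g ∈ E, ∀ h ∈ E, g * h = h * g) → (∀ g ∈ E, ∀ v w, B (g v) (g w) = B v w) →
    E.ncard ^ 2 ≤ 2 ^ d := by
  intro d
  induction d using Nat.strong_induction_on with
  | _ d ih =>
    intro V _ _ _ hd B halt hnd E hfin hinv hcomm hiso
    by_cases hc : ∀ g ∈ E, g = 1 ∨ g = -1
    · -- E ⊆ {1, -1}
      rcases subsingleton_or_two_le_finrank B halt hnd with hs | hs
      · have : Subsingleton (Module.End F V) := by
          refine ⟨fun a b => ?_⟩
          ext v
          exact Subsingleton.elim _ _
        have h1 : E.ncard ≤ 1 := by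
          rw [Set.ncard_le_one_iff_subsingleton]
          exact Set.subsingleton_of_subsingleton
        calc E.ncard ^ 2 ≤ 1 ^ 2 := Nat.pow_le_pow_left h1 2
          _ ≤ 2 ^ d := by rw [one_pow]; exact Nat.one_le_two_pow
      · have h1 : E.ncard ≤ 2 := by
          have hsub : E ⊆ {1, -1} := by
            intro g hg
            rcases hc g hg with h | h
            · left; exact h
            · right; exact h
          calc E.ncard ≤ ({1, -1} : Set (Module.End F V)).ncard :=
                Set.ncard_le_ncard hsub (Set.toFinite _)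
            _ ≤ 2 := by
                refine (Set.ncard_insert_le _ _).trans ?_
                rw [Set.ncard_singleton]
        rw [hd] at hs
        calc E.ncard ^ 2 ≤ 2 ^ 2 := Nat.pow_le_pow_left h1 2
          _ ≤ 2 ^ d := Nat.pow_le_pow_right (by norm_num) hs
    · -- a non-scalar involution
      have hc' : ∃ t ∈ E, t ≠ 1 ∧ t ≠ -1 := by
        by_contra hcon
        apply hc
        intro g hg
        by_contra h3
        apply hcon
        refine ⟨g, hg, fun h => h3 (Or.inl h), fun h => h3 (Or.inr h)⟩
      obtain ⟨t, htE, ht1, htm1⟩ := hc'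
      have htt : ∀ v, t (t v) = v := by
        intro v
        have := congrArg (fun f : Module.End F V => f v) (hinv t htE)
        exact this
      set Vp : Submodule F V := LinearMap.ker (t - 1) with hVp
      set Vm : Submodule F V := LinearMap.ker (t + 1) with hVm
      have memp : ∀ v, v ∈ Vp ↔ t v = v := by
        intro v
        rw [hVp, LinearMap.mem_ker, LinearMap.sub_apply, Module.End.one_apply, sub_eq_zero]
      have memm : ∀ v, v ∈ Vm ↔ t v = -v := by
        intro v
        rw [hVm, LinearMap.mem_ker, LinearMap.add_apply, Module.End.one_apply,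
          add_eq_zero_iff_eq_neg]
      have hinv2 : IsUnit (2 : F) := IsUnit.mk0 _ h2
      have hdisj : Vp ⊓ Vm = ⊥ := by
        rw [eq_bot_iff]
        rintro v ⟨hp, hm⟩
        rw [SetLike.mem_coe, memp] at hp
        rw [SetLike.mem_coe, memm] at hm
        rw [Submodule.mem_bot]
        have h3 : (2 : F) • v = 0 := by
          rw [two_smul]
          nth_rewrite 1 [← hp]
          rw [hm, neg_add_cancel]
        exact (smul_eq_zero.mp h3).resolve_left h2
      have hdecomp : ∀ v : V, ∃ a ∈ Vp, ∃ b ∈ Vm, v = a + b := by
        intro v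
        refine ⟨(2 : F)⁻¹ • (v + t v), ?_, (2 : F)⁻¹ • (v - t v), ?_, ?_⟩
        · rw [memp, map_smul, map_add, htt, add_comm]
        · rw [memm, map_smul, map_sub, htt, ← smul_neg, neg_sub]
        · rw [← smul_add, add_add_sub_cancel, ← two_smul F v, smul_smul, inv_mul_cancel₀ h2,
            one_smul]
      have hsup : Vp ⊔ Vm = ⊤ := by
        rw [eq_top_iff]
        intro v _
        obtain ⟨a, ha, b, hb, rfl⟩ := hdecomp v
        exact Submodule.add_mem_sup ha hb
      have hcompl : IsCompl Vp Vm := ⟨disjoint_iff.mpr hdisj, codisjoint_iff.mpr hsup⟩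
      have hsum : Module.finrank F Vp + Module.finrank F Vm = d := by
        rw [← hd]
        exact Submodule.finrank_add_eq_of_isCompl hcompl
      -- both nonzero
      have hVp0 : Vp ≠ ⊥ := by
        intro h
        apply htm1
        ext v
        have h3 : v + t v ∈ Vp := by
          rw [memp, map_add, htt, add_comm]
        rw [h, Submodule.mem_bot] at h3
        rw [LinearMap.neg_apply, Module.End.one_apply]
        exact eq_neg_of_add_eq_zero_right h3
      have hVm0 : Vm ≠ ⊥ := by
        intro h
        apply ht1
        ext v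
        have h3 : v - t v ∈ Vm := by
          rw [memm, map_sub, htt, neg_sub]
        rw [h, Submodule.mem_bot, sub_eq_zero] at h3
        rw [Module.End.one_apply]
        exact h3.symm
      have hdp : 0 < Module.finrank F Vp := by
        rw [Module.finrank_pos_iff]
        exact Submodule.nontrivial_iff_ne_bot.mpr hVp0
      have hdm : 0 < Module.finrank F Vm := by
        rw [Module.finrank_pos_iff]
        exact Submodule.nontrivial_iff_ne_bot.mpr hVm0
      -- orthogonality
      have horth : ∀ a ∈ Vp, ∀ b ∈ Vm, B a b = 0 := by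
        intro a ha b hb
        have h3 := hiso t htE a b
        rw [(memp a).mp ha, (memm b).mp hb, map_neg] at h3
        have h4 : (2 : F) * B a b = 0 := by
          rw [two_mul]
          nth_rewrite 1 [← h3]
          rw [neg_add_cancel]
        exact (mul_eq_zero.mp h4).resolve_left h2
      have horth' : ∀ a ∈ Vp, ∀ b ∈ Vm, B b a = 0 := by
        intro a ha b hb
        have h3 := hiso t htE b a
        rw [(memp a).mp ha, (memm b).mp hb, map_neg, LinearMap.neg_apply] at h3
        have h4 : (2 : F) * B b a = 0 := by
          rw [two_mul]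
          nth_rewrite 1 [← h3]
          rw [neg_add_cancel]
        exact (mul_eq_zero.mp h4).resolve_left h2
      -- invariance
      have hinvp : ∀ g ∈ E, ∀ x ∈ Vp, g x ∈ Vp := by
        intro g hg x hx
        rw [memp] at hx ⊢
        have := congrArg (fun f : Module.End F V => f x) (hcomm t htE g hg)
        simp only [Module.End.mul_apply] at this
        rw [this, hx]
      have hinvm : ∀ g ∈ E, ∀ x ∈ Vm, g x ∈ Vm := by
        intro g hg x hx
        rw [memm] at hx ⊢
        have := congrArg (fun f : Module.End F V => f x) (hcomm t htE g hg)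
        simp only [Module.End.mul_apply] at this
        rw [this, hx, map_neg]
      -- nondegeneracy on the summands
      have hndp : ∀ v ∈ Vp, (∀ w ∈ Vp, B v w = 0) → v = 0 := by
        intro v hv h
        apply hnd
        intro w
        obtain ⟨a, ha, b, hb, rfl⟩ := hdecomp w
        rw [map_add, h a ha, horth v hv b hb, add_zero]
      have hndm : ∀ v ∈ Vm, (∀ w ∈ Vm, B v w = 0) → v = 0 := by
        intro v hv h
        apply hnd
        intro w
        obtain ⟨a, ha, b, hb, rfl⟩ := hdecomp w
        rw [map_add, h b hb, horth' a ha v hv, add_zero]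
      obtain ⟨p1, p2, p3, p4, p5, p6⟩ :=
        restricted_props B halt E hfin hinv hcomm hiso Vp hinvp hndp
      obtain ⟨m1, m2, m3, m4, m5, m6⟩ :=
        restricted_props B halt E hfin hinv hcomm hiso Vm hinvm hndm
      have ihp := ih (Module.finrank F Vp) (by omega) Vp rfl (B.restrict Vp) p1 p2
        (resW Vp '' E) p3 p4 p5 p6
      have ihm := ih (Module.finrank F Vm) (by omega) Vm rfl (B.restrict Vm) m1 m2
        (resW Vm '' E) m3 m4 m5 m6
      have hinj : E.ncard ≤ ((resW Vp '' E) ×ˢ (resW Vm '' E)).ncard := by
        refine Set.ncard_le_ncard_of_injOn (fun g => (resW Vp g, resW Vm g)) ?_ ?_ (p3.prod m3)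
        · intro g hg
          exact ⟨⟨g, hg, rfl⟩, ⟨g, hg, rfl⟩⟩
        · intro g hg h hh hgh
          have h1 : resW Vp g = resW Vp h := congrArg Prod.fst hgh
          have h2 : resW Vm g = resW Vm h := congrArg Prod.snd hgh
          ext v
          obtain ⟨a, ha, b, hb, rfl⟩ := hdecomp v
          rw [map_add, map_add]
          have e1 : g a = h a := by
            have := congrArg (fun f : Module.End F Vp => ((f ⟨a, ha⟩ : Vp) : V)) h1
            simp only [resW_apply Vp g (hinvp g hg), resW_apply Vp h (hinvp h hh)] at this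
            exact this
          have e2 : g b = h b := by
            have := congrArg (fun f : Module.End F Vm => ((f ⟨b, hb⟩ : Vm) : V)) h2
            simp only [resW_apply Vm g (hinvm g hg), resW_apply Vm h (hinvm h hh)] at this
            exact this
          rw [e1, e2]
      rw [Set.ncard_prod] at hinj
      calc E.ncard ^ 2 ≤ ((resW Vp '' E).ncard * (resW Vm '' E).ncard) ^ 2 :=
            Nat.pow_le_pow_left hinj 2
        _ = (resW Vp '' E).ncard ^ 2 * (resW Vm '' E).ncard ^ 2 := by ring
        _ ≤ 2 ^ Module.finrank F Vp * 2 ^ Module.finrank F Vm := Nat.mul_le_mul ihp ihm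
        _ = 2 ^ d := by rw [← pow_add, hsum]

end Cfsg.Agent.Lib.Helper16.TwoRank
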