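import Cfsg.Agent.Lib.Helper16.TwoRank

set_option autoImplicit false

namespace Cfsg.Agent.Lib.Helper16.TwoRank

open Matrix

variable {F : Type*} [Field F] {l : Type*} [Fintype l] [DecidableEq l]

theorem J_alternating (v : (l ⊕ l) → F) : v ⬝ᵥ (Matrix.J l F) *ᵥ v = 0 := by
  rw [Matrix.J, dotProduct, Fintype.sum_sum_type]
  simp only [fromBlocks_mulVec, Sum.elim_inl, Sum.elim_inr, Matrix.zero_mulVec, Matrix.neg_mulVec,
    Matrix.one_mulVec, zero_add, add_zero, Pi.neg_apply, Function.comp_apply, mul_neg]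
  rw [← Finset.sum_add_distrib]
  apply Finset.sum_eq_zero
  intro i _
  ring

theorem J_separating (v : (l ⊕ l) → F) (h : ∀ w, v ⬝ᵥ (Matrix.J l F) *ᵥ w = 0) : v = 0 := by
  have hdet : (Matrix.J l F).det ≠ 0 := by
    intro h0
    have := Matrix.J_det_mul_J_det (l := l) (R := F)
    rw [h0, zero_mul] at this
    exact zero_ne_one this
  have hnd := Matrix.nondegenerate_of_det_ne_zero hdet
  exact (Matrix.nondegenerate_def.mp hnd).1 v h

theorem symplectic_isometry (A : Matrix (l ⊕ l) (l ⊕ l) F) (hA : A ∈ symplecticGroup l F)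
    (v w : (l ⊕ l) → F) :
    (A *ᵥ v) ⬝ᵥ (Matrix.J l F) *ᵥ (A *ᵥ w) = v ⬝ᵥ (Matrix.J l F) *ᵥ w := by
  rw [SymplecticGroup.mem_iff'] at hA
  rw [Matrix.mulVec_mulVec, Matrix.dotProduct_mulVec, ← Matrix.vecMul_transpose A v,
    Matrix.vecMul_vecMul, ← Matrix.mul_assoc, hA, ← Matrix.dotProduct_mulVec]

theorem card_le_of_elementary_abelian (h2 : (2 : F) ≠ 0) {X : Type*} [Group X] [Finite X]
    (ρ : X →* symplecticGroup l F) (hρ : Function.Injective ρ)
    (hc : ∀ x y : X, x * y = y * x) (hsq : ∀ x : X, x ^ 2 = 1) :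
    Nat.card X ≤ 2 ^ Fintype.card l := by
  obtain ⟨f, hf⟩ : ∃ f : X → Module.End F ((l ⊕ l) → F),
      f = fun x => Matrix.toLinAlgEquiv' ((ρ x : symplecticGroup l F) : Matrix (l ⊕ l) (l ⊕ l) F) :=
    ⟨_, rfl⟩
  have hf_apply : ∀ x v, f x v = ((ρ x : symplecticGroup l F) : Matrix (l ⊕ l) (l ⊕ l) F) *ᵥ v := by
    intro x v
    rw [hf]
    exact Matrix.toLinAlgEquiv'_apply _ _
  have hf_mul : ∀ x y, f (x * y) = f x * f y := by
    intro x y
    rw [hf]
    simp only [map_mul]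
    have : ((ρ x * ρ y : symplecticGroup l F) : Matrix (l ⊕ l) (l ⊕ l) F) =
        (ρ x : Matrix (l ⊕ l) (l ⊕ l) F) * (ρ y : Matrix (l ⊕ l) (l ⊕ l) F) := rfl
    rw [this, map_mul]
  have hf_one : f 1 = 1 := by
    rw [hf]
    simp only [map_one]
    have : ((1 : symplecticGroup l F) : Matrix (l ⊕ l) (l ⊕ l) F) = 1 := rfl
    rw [this, map_one]
  have hfinj : Function.Injective f := by
    intro x y hxy
    rw [hf] at hxy
    exact hρ (Subtype.ext (Matrix.toLinAlgEquiv'.injective hxy))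
  have key := main_bound h2 (Module.finrank F ((l ⊕ l) → F)) ((l ⊕ l) → F) rfl
    (Matrix.toBilin' (Matrix.J l F))
    (fun v => by rw [Matrix.toBilin'_apply']; exact J_alternating v)
    (fun v hv => J_separating v (fun w => by rw [← Matrix.toBilin'_apply']; exact hv w))
    (Set.range f) (Set.finite_range f)
    (by
      rintro _ ⟨x, rfl⟩
      rw [← hf_mul, ← pow_two, hsq, hf_one])
    (by
      rintro _ ⟨x, rfl⟩ _ ⟨y, rfl⟩
      rw [← hf_mul, ← hf_mul, hc])
    (by
      rintro _ ⟨x, rfl⟩ v w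
      rw [Matrix.toBilin'_apply', Matrix.toBilin'_apply', hf_apply, hf_apply]
      exact symplectic_isometry _ (ρ x).2 v w)
  rw [Set.ncard_range_of_injective hfinj, Module.finrank_fintype_fun_eq_card, Fintype.card_sum,
    ← two_mul, pow_mul'] at key
  exact (Nat.pow_le_pow_iff_left (by norm_num)).mp key

end Cfsg.Agent.Lib.Helper16.TwoRank
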