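import Cfsg.Agent.Lib.Helper16.TwoRank2
import Cfsg.Agent.Lib.Helper16.SpWreath
import Cfsg.Agent.Lib.Helper16.DerLen5

set_option autoImplicit false

namespace Cfsg.Agent.Lib.Helper16.TwoRank

open Matrix Cfsg.Agent.Lib.Helper16.SylAb

section general

variable {G : Type*} [Group G]

/-- a Sylow 2-subgroup inside a subgroup of odd index, conjugate to a given one -/
theorem exists_sylow_le_of_odd_index [Finite G] (L : Subgroup G) (hodd : ¬ 2 ∣ L.index)
    (S : Sylow 2 G) : ∃ S' : Sylow 2 G, (S' : Subgroup G) ≤ L ∧ ∃ g : G, g • S' = S := by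
  obtain ⟨P₀⟩ : Nonempty (Sylow 2 ↥L) := inferInstance
  have hp : IsPGroup 2 ((P₀ : Subgroup ↥L).map L.subtype) := P₀.isPGroup'.map _
  have hidx : ¬ 2 ∣ ((P₀ : Subgroup ↥L).map L.subtype).index := by
    rw [Subgroup.index_map_of_injective _ L.subtype_injective, Subgroup.range_subtype]
    intro hd
    rcases (Nat.Prime.dvd_mul Nat.prime_two).mp hd with h1 | h1
    · exact P₀.not_dvd_index h1
    · exact hodd h1
  refine ⟨hp.toSylow hidx, ?_, MulAction.exists_smul_eq G _ S⟩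
  rw [IsPGroup.toSylow_coe]
  rintro _ ⟨x, _, rfl⟩
  exact x.2

/-- a normal elementary abelian subgroup of a Sylow 2-subgroup from one normalized by an
odd-index subgroup -/
theorem exists_normal_of_normalized [Finite G] (L E₀ : Subgroup G) (hodd : ¬ 2 ∣ L.index)
    (hE₀ : IsPGroup 2 E₀) (hLE : L ≤ Subgroup.normalizer (E₀ : Set G))
    (hcomm : ∀ x ∈ E₀, ∀ y ∈ E₀, x * y = y * x) (hsq : ∀ x ∈ E₀, x ^ 2 = 1) (S : Sylow 2 G) :
    ∃ E : Subgroup ↥(S : Subgroup G), E.Normal ∧ (∀ a b : ↥E, a * b = b * a) ∧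
      (∀ a ∈ E, a ^ 2 = 1) ∧ Nat.card ↥E = Nat.card ↥E₀ := by
  obtain ⟨S', hS'L, g, hg⟩ := exists_sylow_le_of_odd_index L hodd S
  have hS'N : (S' : Subgroup G) ≤ Subgroup.normalizer (E₀ : Set G) := hS'L.trans hLE
  have hE₀S' : E₀ ≤ (S' : Subgroup G) := by
    have h1 : IsPGroup 2 ((S' : Subgroup G) ⊔ E₀ : Subgroup G) :=
      S'.isPGroup'.to_sup_of_normal_right' hE₀ hS'N
    have h2 := S'.is_maximal' h1 le_sup_left
    rw [← h2]
    exact le_sup_right
  obtain ⟨c, hc⟩ : ∃ c : G →* G,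
    c = MulDistribMulAction.toMonoidEnd (MulAut G) G (MulAut.conj g) := ⟨_, rfl⟩
  have hc_apply : ∀ x, c x = g * x * g⁻¹ := by
    intro x; rw [hc]; rfl
  have hcinj : Function.Injective c := by
    intro x y hxy
    rw [hc_apply, hc_apply] at hxy
    exact mul_left_cancel (mul_right_cancel hxy)
  have hS : (S : Subgroup G) = (S' : Subgroup G).map c := by
    rw [← hg, Sylow.coe_subgroup_smul, Subgroup.pointwise_smul_def, hc]
  have hE₁S : E₀.map c ≤ (S : Subgroup G) := by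
    rw [hS]
    exact Subgroup.map_mono hE₀S'
  have hnorm : (S : Subgroup G) ≤ Subgroup.normalizer ((E₀.map c : Subgroup G) : Set G) := by
    rw [hS]
    rintro _ ⟨y, hy, rfl⟩
    have hy' := hS'N hy
    apply mem_normalizer_of_conj
    · rintro _ ⟨x, hx, rfl⟩
      refine ⟨y * x * y⁻¹, (Subgroup.mem_normalizer_iff.mp hy' x).mp hx, ?_⟩
      rw [map_mul, map_mul, map_inv]
    · rintro _ ⟨x, hx, rfl⟩
      refine ⟨y⁻¹ * x * y, ?_, ?_⟩
      · have := (Subgroup.mem_normalizer_iff.mp (Subgroup.inv_mem _ hy') x).mp hx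
        rwa [inv_inv] at this
      · rw [map_mul, map_mul, map_inv]
  refine ⟨(E₀.map c).subgroupOf S, ?_, ?_, ?_, ?_⟩
  · rw [Subgroup.normal_subgroupOf_iff_le_normalizer hE₁S]
    exact hnorm
  · rintro ⟨a, ha⟩ ⟨b, hb⟩
    rw [Subgroup.mem_subgroupOf] at ha hb
    obtain ⟨x, hx, hxa⟩ := ha
    obtain ⟨y, hy, hyb⟩ := hb
    apply Subtype.ext
    apply Subtype.ext
    show (a : G) * (b : G) = (b : G) * (a : G)
    rw [← hxa, ← hyb, ← map_mul, ← map_mul, hcomm x hx y hy]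
  · intro a ha
    rw [Subgroup.mem_subgroupOf] at ha
    obtain ⟨x, hx, hxa⟩ := ha
    apply Subtype.ext
    show (a : G) ^ 2 = 1
    rw [← hxa, ← map_pow, hsq x hx, map_one]
  · rw [Nat.card_congr (Subgroup.subgroupOfEquivOfLe hE₁S).toEquiv,
      Subgroup.card_map_of_injective hcinj]

end general

end Cfsg.Agent.Lib.Helper16.TwoRank
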