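import Cfsg.Agent.Lib.Helper16.TwoRank3

set_option autoImplicit false

namespace Cfsg.Agent.Lib.Helper16.TwoRank

open Matrix Cfsg.Agent.Lib.Helper16.SylAb

variable {F : Type*} [Field F] {n : ℕ}

/-- `ε ↦ ε • 1` in `SL₂` -/
def zHom (F : Type*) [Field F] : ℤˣ →* SpecialLinearGroup (Fin 2) F :=
  MonoidHom.mk' (fun ε => if ε = 1 then 1 else -1) (by
    intro a b
    rcases Int.units_eq_one_or a with rfl | rfl <;> rcases Int.units_eq_one_or b with rfl | rfl
    · simp
    · simp
    · simp
    · simp)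

theorem zHom_neg_one : zHom F (-1) = -1 := by
  show (if (-1 : ℤˣ) = 1 then (1 : SpecialLinearGroup (Fin 2) F) else -1) = -1
  rw [if_neg (by decide)]

theorem zHom_central (ε : ℤˣ) (g : SpecialLinearGroup (Fin 2) F) :
    g * zHom F ε * g⁻¹ = zHom F ε := by
  rcases Int.units_eq_one_or ε with rfl | rfl
  · rw [map_one, mul_one, mul_inv_cancel]
  · rw [zHom_neg_one, mul_neg, mul_one, neg_mul, mul_inv_cancel]

theorem zHom_injective (h2 : (2 : F) ≠ 0) : Function.Injective (zHom F) := by
  rw [injective_iff_map_eq_one]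
  intro ε hε
  rcases Int.units_eq_one_or ε with rfl | rfl
  · rfl
  · exfalso
    rw [zHom_neg_one] at hε
    have h1 := congrArg (fun g : SpecialLinearGroup (Fin 2) F => g.1 0 0) hε
    simp at h1
    apply h2
    have : (2 : F) = 1 - (-1) := by ring
    rw [this, h1]; ring

/-- the central elementary abelian subgroup -/
def zetaHom (F : Type*) [Field F] (n : ℕ) : (Fin n → ℤˣ) →* symplecticGroup (Fin n) F :=
  (blkHom F n).comp ((zHom F).compLeft (Fin n))

theorem zetaHom_apply (ε : Fin n → ℤˣ) :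
    zetaHom F n ε = blkHom F n (fun k => zHom F (ε k)) := rfl

theorem zetaHom_injective (h2 : (2 : F) ≠ 0) : Function.Injective (zetaHom F n) := by
  intro a b h
  have h1 := blkHom_injective h
  funext k
  exact zHom_injective h2 (congrFun h1 k)

theorem le_normalizer_zeta :
    (pmHom F n).range ⊔ (blkHom F n).range ≤
      Subgroup.normalizer ((zetaHom F n).range : Set (symplecticGroup (Fin n) F)) := by
  refine sup_le ?_ ?_
  · have key : ∀ (σ : Equiv.Perm (Fin n)) (ε : Fin n → ℤˣ),
        pmHom F n σ * zetaHom F n ε * (pmHom F n σ)⁻¹ ∈ (zetaHom F n).range := by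
      intro σ ε
      refine ⟨fun k => ε (σ⁻¹ k), ?_⟩
      rw [zetaHom_apply, zetaHom_apply, pmHom_mul_blkHom]
    rintro _ ⟨σ, rfl⟩
    apply mem_normalizer_of_conj
    · rintro _ ⟨ε, rfl⟩
      exact key σ ε
    · rintro _ ⟨ε, rfl⟩
      have := key σ⁻¹ ε
      rwa [map_inv, inv_inv] at this
  · have key : ∀ (g : Fin n → SpecialLinearGroup (Fin 2) F) (ε : Fin n → ℤˣ),
        blkHom F n g * zetaHom F n ε * (blkHom F n g)⁻¹ = zetaHom F n ε := by
      intro g ε
      rw [zetaHom_apply, ← map_inv, ← map_mul, ← map_mul]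
      congr 1
      funext k
      exact zHom_central (ε k) (g k)
    rintro _ ⟨g, rfl⟩
    apply mem_normalizer_of_conj
    · rintro _ ⟨ε, rfl⟩
      rw [key]
      exact ⟨ε, rfl⟩
    · rintro _ ⟨ε, rfl⟩
      have := key g⁻¹ ε
      rw [map_inv, inv_inv] at this
      rw [this]
      exact ⟨ε, rfl⟩

variable [Fintype F]

theorem odd_index_wreath (hF : Odd (Fintype.card F)) :
    ¬ 2 ∣ ((pmHom F n).range ⊔ (blkHom F n).range).index := by
  classical
  have : Finite (symplecticGroup (Fin n) F) := Subtype.finite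
  have hK : (pmHom F n).range ≤ Subgroup.normalizer ((blkHom F n).range : Set _) := by
    rintro _ ⟨σ, rfl⟩
    apply mem_normalizer_of_conj
    · rintro _ ⟨g, rfl⟩
      exact ⟨_, (pmHom_mul_blkHom σ g).symm⟩
    · rintro _ ⟨g, rfl⟩
      have := pmHom_mul_blkHom σ⁻¹ g
      rw [map_inv, inv_inv] at this
      exact ⟨_, this.symm⟩
  have hdisj : (blkHom F n).range ⊓ (pmHom F n).range = ⊥ := by
    ext x
    rw [Subgroup.mem_inf, Subgroup.mem_bot]
    constructor
    · rintro ⟨⟨g, rfl⟩, ⟨σ, hσ⟩⟩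
      have h2 : σ = 1 := (spWreathPair F n).disj σ g hσ
      rw [← hσ, h2, map_one]
    · rintro rfl
      exact ⟨one_mem _, one_mem _⟩
  apply not_dvd_index_of_factorization
  rw [card_sup_of_normalizer _ _ hK hdisj,
    Nat.card_congr (MonoidHom.ofInjective blkHom_injective).toEquiv.symm,
    Nat.card_congr (MonoidHom.ofInjective pmHom_injective).toEquiv.symm,
    Cfsg.Agent.Lib.Helper14.card_symplectic, Nat.card_fun, Nat.card_fin, Nat.card_perm,
    Nat.card_fin, Cfsg.Agent.Lib.Helper2.card_SL2,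
    val_sp _ hF Fintype.one_lt_card,
    Nat.factorization_mul (pow_ne_zero _ (by
      have : 1 < Fintype.card F := Fintype.one_lt_card
      exact Nat.mul_ne_zero (Nat.mul_ne_zero (by omega) (by omega)) (by omega)))
      (Nat.factorial_ne_zero n),
    Nat.factorization_pow, Finsupp.add_apply, Finsupp.smul_apply, smul_eq_mul]

end Cfsg.Agent.Lib.Helper16.TwoRank
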