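import Cfsg.Agent.Lib.Helper16.TwoRank4

set_option autoImplicit false

namespace Cfsg.Agent.Lib.Helper16.TwoRank

open Matrix Cfsg.Agent.Lib.Helper16.SylAb

variable {F : Type*} [Field F] [Fintype F] {n : ℕ}

theorem two_ne_zero_of_odd (hodd : Odd (Fintype.card F)) : (2 : F) ≠ 0 := by
  intro h
  obtain ⟨p, hp⟩ := CharP.exists F
  have hpp : p.Prime := CharP.char_is_prime F p
  have : Fact p.Prime := ⟨hpp⟩
  have h2 : ((2 : ℕ) : F) = 0 := by exact_mod_cast h
  rw [CharP.cast_eq_zero_iff F p] at h2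
  have hp2 : p = 2 := (Nat.prime_dvd_prime_iff_eq hpp Nat.prime_two).mp h2
  obtain ⟨k, hk⟩ := FiniteField.card F p
  rw [hk.2, hp2] at hodd
  have : Even ((2 : ℕ) ^ (k : ℕ)) := (Nat.even_pow.mpr ⟨even_two, k.pos.ne'⟩)
  exact (Nat.not_odd_iff_even.mpr this) hodd

omit [Fintype F] in
theorem card_zeta_range (h2 : (2 : F) ≠ 0) :
    Nat.card ↥(zetaHom F n).range = 2 ^ n := by
  rw [Nat.card_congr (MonoidHom.ofInjective (zetaHom_injective h2)).toEquiv.symm,
    Nat.card_fun, Nat.card_fin]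
  congr 1
  rw [Nat.card_eq_fintype_card]
  rfl

theorem normal_two_rank_symplectic (hF : Odd (Fintype.card F)) (n : ℕ)
    (S : Sylow 2 ↥(symplecticGroup (Fin n) F)) :
    (∃ E : Subgroup ↥(S : Subgroup ↥(symplecticGroup (Fin n) F)), E.Normal ∧
      (∀ a b : ↥E, a * b = b * a) ∧ (∀ a ∈ E, a ^ 2 = 1) ∧ Nat.card ↥E = 2 ^ n) ∧
    ∀ E : Subgroup ↥(S : Subgroup ↥(symplecticGroup (Fin n) F)),
      (∀ a b : ↥E, a * b = b * a) → (∀ a ∈ E, a ^ 2 = 1) → Nat.card ↥E ≤ 2 ^ n := by
  classical
  have h2 : (2 : F) ≠ 0 := two_ne_zero_of_odd hF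
  have : Finite (symplecticGroup (Fin n) F) := Subtype.finite
  constructor
  · have hcard := card_zeta_range (F := F) (n := n) h2
    have hp : IsPGroup 2 ↥(zetaHom F n).range := IsPGroup.of_card hcard
    obtain ⟨E, hEn, hEc, hEs, hEcard⟩ := exists_normal_of_normalized
      ((pmHom F n).range ⊔ (blkHom F n).range) (zetaHom F n).range (odd_index_wreath hF) hp
      le_normalizer_zeta
      (by
        rintro _ ⟨a, rfl⟩ _ ⟨b, rfl⟩
        rw [← map_mul, ← map_mul, mul_comm])
      (by
        rintro _ ⟨a, rfl⟩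
        rw [← map_pow]
        have : a ^ 2 = 1 := by
          funext k
          exact Int.units_sq (a k)
        rw [this, map_one])
      S
    exact ⟨E, hEn, hEc, hEs, hEcard.trans hcard⟩
  · intro E hEc hEs
    have hfin : Finite ↥E := Subtype.finite
    have := card_le_of_elementary_abelian h2 (X := ↥E)
      ((S : Subgroup ↥(symplecticGroup (Fin n) F)).subtype.comp E.subtype)
      (by
        intro a b hab
        exact Subtype.ext (Subtype.ext hab))
      hEc
      (by
        intro x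
        apply Subtype.ext
        exact hEs x.1 x.2)
    rwa [Fintype.card_fin] at this

end Cfsg.Agent.Lib.Helper16.TwoRank
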