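import Mathlib
import Cfsg.Prelude.Def_LocalStructure
import Cfsg.Prelude.Def_Amalgam
import Cfsg.Prelude.Def_Solvable
import Cfsg.Prelude.Def_Transfer
import Cfsg.Agent.Lib.Helper16.Amalgam4
import Cfsg.Agent.Lib.Helper16.Amalgam3
import Cfsg.Agent.Lib.Helper16.Irreducible
import Cfsg.Agent.Lib.Helper16.Subnormal
import Cfsg.Agent.S2744
import Cfsg.Agent.Lib.Helper16.WCPair
import Cfsg.Agent.Lib.Helper8.SupNormalizer

/-! The subgroups `V_λ^{(n)}` of the coset graph of an amalgam: equivariance, and the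
noncentral chief factors of `O^p(L_λ)` on `V_λ^{(n)}` (helper16). -/

set_option autoImplicit false
open Cfsg
open scoped Pointwise commutatorElement

namespace Cfsg.Agent.Lib.Helper16

theorem le_normalizer_of_forall_map_conj_le {X : Type*} [Group X] {B W : Subgroup X}
    (h : ∀ b ∈ B, W.map (MulAut.conj b).toMonoidHom ≤ W) :
    B ≤ Subgroup.normalizer (W : Set X) := by
  intro b hb
  rw [Subgroup.mem_normalizer_iff]
  intro w
  constructor
  · intro hw
    exact h b hb ⟨w, hw, rfl⟩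
  · intro hw
    have := h b⁻¹ (B.inv_mem hb) ⟨b * w * b⁻¹, hw, rfl⟩
    simpa [mul_assoc] using this

theorem omegaOne_map_conj {X : Type*} [Group X] {p : ℕ} (A : Subgroup X) (g : X) :
    (omegaOne p A).map (MulAut.conj g).toMonoidHom =
      omegaOne p (A.map (MulAut.conj g).toMonoidHom) := by
  have key : ∀ (A : Subgroup X) (g : X), (omegaOne p A).map (MulAut.conj g).toMonoidHom ≤
      omegaOne p (A.map (MulAut.conj g).toMonoidHom) := by
    intro A g
    conv_lhs => unfold omegaOne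
    rw [MonoidHom.map_closure, Subgroup.closure_le]
    rintro _ ⟨x, ⟨hx, hxp⟩, rfl⟩
    apply Subgroup.subset_closure
    refine ⟨⟨x, hx, rfl⟩, ?_⟩
    rw [← map_pow, hxp, map_one]
  apply le_antisymm (key A g)
  have h := key (A.map (MulAut.conj g).toMonoidHom) g⁻¹
  rw [map_conj_inv_map_conj] at h
  have h2 := Subgroup.map_mono (f := (MulAut.conj g).toMonoidHom) h
  rwa [map_conj_map_conj_inv] at h2

theorem le_sylowCenterClosure {X : Type*} [Group X] {p : ℕ} (H : Subgroup X) (S : Sylow p ↥H) :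
    omegaOne p (((S : Subgroup H).map H.subtype) ⊓
      Subgroup.centralizer (((S : Subgroup H).map H.subtype : Subgroup X) : Set X)) ≤
      sylowCenterClosure p H := by
  unfold sylowCenterClosure
  exact le_iSup (fun S : Sylow p ↥H => omegaOne p (((S : Subgroup H).map H.subtype) ⊓
      Subgroup.centralizer (((S : Subgroup H).map H.subtype : Subgroup X) : Set X))) S

theorem sylowCenterClosure_map_conj {X : Type*} [Group X] {p : ℕ} (H : Subgroup X) (g : X) :
    (sylowCenterClosure p H).map (MulAut.conj g).toMonoidHom =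
      sylowCenterClosure p (H.map (MulAut.conj g).toMonoidHom) := by
  have hinj : ∀ x : X, Function.Injective (MulAut.conj x).toMonoidHom :=
    fun x => (MulAut.conj x).injective
  have key : ∀ (H : Subgroup X) (g : X), (sylowCenterClosure p H).map (MulAut.conj g).toMonoidHom ≤
      sylowCenterClosure p (H.map (MulAut.conj g).toMonoidHom) := by
    intro H g
    conv_lhs => unfold sylowCenterClosure
    rw [Subgroup.map_iSup]
    apply iSup_le
    intro S
    obtain ⟨S₀, hS₀⟩ := sylow_image_conj (p := p) (H.map (MulAut.conj g).toMonoidHom) g⁻¹ H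
      (by rw [map_conj_inv_map_conj]) S
    have hS₀' : (S₀ : Subgroup ↥(H.map (MulAut.conj g).toMonoidHom)).map
        (H.map (MulAut.conj g).toMonoidHom).subtype =
        ((S : Subgroup ↥H).map H.subtype).map (MulAut.conj g).toMonoidHom := by
      rw [← hS₀, map_conj_map_conj_inv]
    have e1 : (omegaOne p (((S : Subgroup ↥H).map H.subtype) ⊓
        Subgroup.centralizer (((S : Subgroup ↥H).map H.subtype : Subgroup X) : Set X))).map
        (MulAut.conj g).toMonoidHom =
        omegaOne p (((S₀ : Subgroup ↥(H.map (MulAut.conj g).toMonoidHom)).map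
          (H.map (MulAut.conj g).toMonoidHom).subtype) ⊓
        Subgroup.centralizer (((S₀ : Subgroup ↥(H.map (MulAut.conj g).toMonoidHom)).map
          (H.map (MulAut.conj g).toMonoidHom).subtype : Subgroup X) : Set X)) := by
      rw [omegaOne_map_conj, Subgroup.map_inf_eq _ _ _ (hinj g), hS₀', centralizer_map_conj]
    rw [e1]
    exact le_sylowCenterClosure _ S₀
  apply le_antisymm (key H g)
  have h := key (H.map (MulAut.conj g).toMonoidHom) g⁻¹
  rw [map_conj_inv_map_conj] at h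
  have h2 := Subgroup.map_mono (f := (MulAut.conj g).toMonoidHom) h
  rwa [map_conj_map_conj_inv] at h2

theorem stabilizer_smul_eq_map_conj {X : Type*} [Group X] {α : Type*} [MulAction X α] (g : X)
    (a : α) : MulAction.stabilizer X (g • a) =
      (MulAction.stabilizer X a).map (MulAut.conj g).toMonoidHom := by
  ext x
  rw [mem_map_conj_iff, MulAction.mem_stabilizer_iff, MulAction.mem_stabilizer_iff]
  constructor
  · intro h
    rw [mul_smul, mul_smul, h, inv_smul_smul]
  · intro h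
    have : g • ((g⁻¹ * x * g) • a) = g • a := by rw [h]
    rw [← mul_smul] at this
    have e : g * (g⁻¹ * x * g) = x * g := by group
    rw [e, mul_smul] at this
    exact this

theorem vertexZ_smul {X : Type*} [Group X] {p : ℕ} {M₁ M₂ : Subgroup X} (g : X)
    (ν : CosetVertex M₁ M₂) :
    vertexZ p (g • ν) = (vertexZ p ν).map (MulAut.conj g).toMonoidHom := by
  unfold vertexZ
  rw [stabilizer_smul_eq_map_conj, sylowCenterClosure_map_conj]

theorem cosetGraph_dist_smul {X : Type*} [Group X] {M₁ M₂ : Subgroup X} (hgen : M₁ ⊔ M₂ = ⊤)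
    (g : X) (a b : CosetVertex M₁ M₂) :
    (cosetGraph M₁ M₂).dist (g • a) (g • b) = (cosetGraph M₁ M₂).dist a b := by
  have hconn := cosetGraph_connected M₁ M₂ hgen
  have key : ∀ (g : X) (a b : CosetVertex M₁ M₂),
      (cosetGraph M₁ M₂).dist (g • a) (g • b) ≤ (cosetGraph M₁ M₂).dist a b := by
    intro g a b
    obtain ⟨w, hw⟩ := hconn.exists_walk_length_eq_dist a b
    have := SimpleGraph.dist_le (w.map (cosetGraphSmulHom M₁ M₂ g))
    rw [SimpleGraph.Walk.length_map, hw] at this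
    exact this
  apply le_antisymm (key g a b)
  have := key g⁻¹ (g • a) (g • b)
  rwa [inv_smul_smul, inv_smul_smul] at this

theorem le_vertexVIter {X : Type*} [Group X] {p : ℕ} {M₁ M₂ : Subgroup X} {n : ℕ}
    {δ : CosetVertex M₁ M₂} (μ : CosetVertex M₁ M₂) (h : (cosetGraph M₁ M₂).dist δ μ ≤ n) :
    vertexZ p μ ≤ vertexVIter p M₁ M₂ n δ := by
  unfold vertexVIter
  exact le_iSup (fun μ : {μ : CosetVertex M₁ M₂ // (cosetGraph M₁ M₂).dist δ μ ≤ n} =>
    vertexZ p (μ : CosetVertex M₁ M₂)) ⟨μ, h⟩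

theorem vertexVIter_le_iff {X : Type*} [Group X] {p : ℕ} {M₁ M₂ : Subgroup X} {n : ℕ}
    {δ : CosetVertex M₁ M₂} {B : Subgroup X} :
    vertexVIter p M₁ M₂ n δ ≤ B ↔
      ∀ μ : CosetVertex M₁ M₂, (cosetGraph M₁ M₂).dist δ μ ≤ n → vertexZ p μ ≤ B := by
  unfold vertexVIter
  rw [iSup_le_iff]
  constructor
  · intro h μ hμ; exact h ⟨μ, hμ⟩
  · rintro h ⟨μ, hμ⟩; exact h μ hμ

theorem vertexVIter_smul {X : Type*} [Group X] {p : ℕ} {M₁ M₂ : Subgroup X}
    (hgen : M₁ ⊔ M₂ = ⊤) (n : ℕ) (g : X) (δ : CosetVertex M₁ M₂) :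
    vertexVIter p M₁ M₂ n (g • δ) =
      (vertexVIter p M₁ M₂ n δ).map (MulAut.conj g).toMonoidHom := by
  have key : ∀ (g : X) (δ : CosetVertex M₁ M₂),
      (vertexVIter p M₁ M₂ n δ).map (MulAut.conj g).toMonoidHom ≤
        vertexVIter p M₁ M₂ n (g • δ) := by
    intro g δ
    rw [Subgroup.map_le_iff_le_comap, vertexVIter_le_iff]
    intro μ hμ
    rw [← Subgroup.map_le_iff_le_comap, ← vertexZ_smul]
    exact le_vertexVIter (g • μ) (by rw [cosetGraph_dist_smul hgen]; exact hμ)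
  apply le_antisymm _ (key g δ)
  have h := key g⁻¹ (g • δ)
  rw [inv_smul_smul] at h
  have h2 := Subgroup.map_mono (f := (MulAut.conj g).toMonoidHom) h
  rwa [map_conj_map_conj_inv] at h2

theorem stab_le_normalizer_vertexVIter {X : Type*} [Group X] {p : ℕ} {M₁ M₂ : Subgroup X}
    (hgen : M₁ ⊔ M₂ = ⊤) (n : ℕ) (δ : CosetVertex M₁ M₂) :
    MulAction.stabilizer X δ ≤
      Subgroup.normalizer ((vertexVIter p M₁ M₂ n δ : Subgroup X) : Set X) := by
  apply le_normalizer_of_forall_map_conj_le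
  intro b hb
  rw [← vertexVIter_smul hgen, MulAction.mem_stabilizer_iff.mp hb]

theorem vertexVIter_le_of_adj {X : Type*} [Group X] {p : ℕ} {M₁ M₂ : Subgroup X}
    (hgen : M₁ ⊔ M₂ = ⊤) (k : ℕ) {δ μ : CosetVertex M₁ M₂}
    (hadj : (cosetGraph M₁ M₂).Adj δ μ) :
    vertexVIter p M₁ M₂ k δ ≤ vertexVIter p M₁ M₂ (k + 1) μ := by
  have hconn := cosetGraph_connected M₁ M₂ hgen
  rw [vertexVIter_le_iff]
  intro ν hν
  apply le_vertexVIter
  have h1 : (cosetGraph M₁ M₂).dist μ δ = 1 := SimpleGraph.dist_eq_one_iff_adj.mpr hadj.symm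
  have h2 := hconn.dist_triangle (u := μ) (v := δ) (w := ν)
  omega

theorem pElementClosure_le' {X : Type*} [Group X] {p : ℕ} (H : Subgroup X) :
    pElementClosure p H ≤ H := by
  unfold pElementClosure
  rw [Subgroup.closure_le]
  intro x hx
  exact hx.1

theorem le_pElementClosure_of_isPGroup {X : Type*} [Group X] {p : ℕ} [Fact p.Prime]
    {H T : Subgroup X} (hTH : T ≤ H) (hT : IsPGroup p T) : T ≤ pElementClosure p H := by
  intro t ht
  apply Subgroup.subset_closure
  refine ⟨hTH ht, ?_⟩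
  obtain ⟨k, hk⟩ := (IsPGroup.iff_orderOf.mp hT) ⟨t, ht⟩
  exact ⟨k, by rw [← hk]; exact (Subgroup.orderOf_mk t ht).symm⟩

/-- `G_δ = O^p(O^{p'}(G_δ)) (G_δ ∩ G_μ)` for adjacent `δ`, `μ`. -/
theorem stab_decomp {X : Type*} [Group X] {p : ℕ} [Fact p.Prime] {M₁ M₂ : Subgroup X}
    (h : IsSpeAmalgamPair p M₁ M₂) (δ μ : CosetVertex M₁ M₂)
    (hadj : (cosetGraph M₁ M₂).Adj δ μ) :
    ∀ g ∈ MulAction.stabilizer X δ,
      ∃ r ∈ OpOf p (pElementClosure p (MulAction.stabilizer X δ)),
        ∃ m ∈ MulAction.stabilizer X δ ⊓ MulAction.stabilizer X μ, g = r * m := by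
  have hc := h.1
  have := stab_finite hc δ
  have : Finite ↥(MulAction.stabilizer X δ ⊓ MulAction.stabilizer X μ) :=
    finite_of_le (inf_le_left : _ ≤ MulAction.stabilizer X δ)
  obtain ⟨S⟩ : Nonempty (Sylow p ↥(MulAction.stabilizer X δ ⊓ MulAction.stabilizer X μ)) :=
    inferInstance
  obtain ⟨Q, hQ⟩ := edge_sylow_is_vertex_sylow hc δ μ hadj S
  have hNeq := edge_normalizer_eq h δ μ hadj S
  have hTE : (S : Subgroup ↥(MulAction.stabilizer X δ ⊓ MulAction.stabilizer X μ)).map
      (MulAction.stabilizer X δ ⊓ MulAction.stabilizer X μ).subtype ≤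
      MulAction.stabilizer X δ ⊓ MulAction.stabilizer X μ := Subgroup.map_subtype_le _
  have hTp : IsPGroup p ((S : Subgroup ↥(MulAction.stabilizer X δ ⊓ MulAction.stabilizer X μ)).map
      (MulAction.stabilizer X δ ⊓ MulAction.stabilizer X μ).subtype) := S.isPGroup'.map _
  have hLG : pElementClosure p (MulAction.stabilizer X δ) ≤ MulAction.stabilizer X δ :=
    pElementClosure_le' _
  have : Finite ↥(pElementClosure p (MulAction.stabilizer X δ)) := finite_of_le hLG
  have hTL := le_pElementClosure_of_isPGroup (hTE.trans inf_le_left) hTp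
  -- a Sylow subgroup of `L` with image `T`
  obtain ⟨TL, hTL'⟩ := (hTp.comap_subtype : IsPGroup p
    (((S : Subgroup ↥(MulAction.stabilizer X δ ⊓ MulAction.stabilizer X μ)).map
      (MulAction.stabilizer X δ ⊓ MulAction.stabilizer X μ).subtype).subgroupOf
        (pElementClosure p (MulAction.stabilizer X δ)))).exists_le_sylow
  have hTLmap : (TL : Subgroup ↥(pElementClosure p (MulAction.stabilizer X δ))).map
      (pElementClosure p (MulAction.stabilizer X δ)).subtype =
      (S : Subgroup ↥(MulAction.stabilizer X δ ⊓ MulAction.stabilizer X μ)).map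
        (MulAction.stabilizer X δ ⊓ MulAction.stabilizer X μ).subtype := by
    rw [← hQ]
    apply sylow_map_maximal Q (TL.isPGroup'.map _)
    · rw [hQ]
      intro t ht
      exact ⟨⟨t, hTL ht⟩, hTL' (by rw [Subgroup.mem_comap]; exact ht), rfl⟩
    · exact (Subgroup.map_subtype_le _).trans hLG
  have htop : pResidual p ↥(pElementClosure p (MulAction.stabilizer X δ)) ⊔
      (TL : Subgroup ↥(pElementClosure p (MulAction.stabilizer X δ))) = ⊤ :=
    eq_top_of_sylow_le_of_pResidual_le TL le_sup_right le_sup_left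
  intro g hg
  obtain ⟨k, hk, n', hn', rfl⟩ := frattini_pElementClosure _ Q hg
  rw [hQ, hNeq] at hn'
  have hk' : (⟨k, hk⟩ : ↥(pElementClosure p (MulAction.stabilizer X δ))) ∈
      pResidual p ↥(pElementClosure p (MulAction.stabilizer X δ)) ⊔
      (TL : Subgroup ↥(pElementClosure p (MulAction.stabilizer X δ))) := by
    rw [htop]; exact Subgroup.mem_top _
  obtain ⟨r, hr, t, ht, hrt⟩ := Cfsg.Agent.Lib.Helper8.mem_sup_of_le_normalizer
    (by rw [Subgroup.normalizer_eq_top]; exact le_top) hk'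
  have hrt' : k = (r : X) * (t : X) := by
    have := congrArg Subtype.val hrt
    simpa using this
  have htT : (t : X) ∈ (S : Subgroup ↥(MulAction.stabilizer X δ ⊓ MulAction.stabilizer X μ)).map
      (MulAction.stabilizer X δ ⊓ MulAction.stabilizer X μ).subtype := by
    rw [← hTLmap]; exact ⟨t, ht, rfl⟩
  refine ⟨(r : X), ?_, (t : X) * n', ?_, ?_⟩
  · rw [← pResidual_map_subtype]
    exact ⟨r, hr, rfl⟩
  · have hn'δ : n' ∈ MulAction.stabilizer X δ := by
      have h0 := hn'
      rw [← hNeq] at h0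
      exact h0.1
    exact Subgroup.mul_mem _ (hTE htT) ⟨hn'δ, hn'.1⟩
  · rw [hrt']; group

theorem center_ne_bot' {X : Type*} [Group X] {p : ℕ} [Fact p.Prime] {S : Subgroup X} [Finite S]
    (hS : IsPGroup p S) (hS1 : S ≠ ⊥) : S ⊓ Subgroup.centralizer (S : Set X) ≠ ⊥ := by
  have : Nontrivial ↥S := (Subgroup.nontrivial_iff_ne_bot S).mpr hS1
  have hZ : Nontrivial (Subgroup.center ↥S) := hS.center_nontrivial
  obtain ⟨⟨z, hz⟩, hz1⟩ := exists_ne (1 : Subgroup.center ↥S)
  intro hbot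
  have hmem : (z : X) ∈ S ⊓ Subgroup.centralizer (S : Set X) := by
    refine ⟨z.2, ?_⟩
    show (z : X) ∈ Subgroup.centralizer (S : Set X)
    rw [Subgroup.mem_centralizer_iff]
    intro s hs
    have := Subgroup.mem_center_iff.mp hz ⟨s, hs⟩
    exact congrArg Subtype.val this
  rw [hbot, Subgroup.mem_bot] at hmem
  apply hz1
  apply Subtype.ext
  apply Subtype.ext
  exact hmem

theorem stab_card_dvd {X : Type*} [Group X] {p : ℕ} {M₁ M₂ : Subgroup X}
    (h : IsCharPAmalgamPair p M₁ M₂) (δ : CosetVertex M₁ M₂) :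
    p ∣ Nat.card ↥(MulAction.stabilizer X δ) := by
  obtain ⟨_, _, _, hd1, hd2, _⟩ := h
  rcases stab_equiv M₁ M₂ δ with ⟨⟨e⟩⟩ | ⟨⟨e⟩⟩
  · rw [← Nat.card_congr e.toEquiv]; exact hd1
  · rw [← Nat.card_congr e.toEquiv]; exact hd2

theorem vertexZ_ne_bot {X : Type*} [Group X] {p : ℕ} [Fact p.Prime] {M₁ M₂ : Subgroup X}
    (h : IsCharPAmalgamPair p M₁ M₂) (δ : CosetVertex M₁ M₂) : vertexZ p δ ≠ ⊥ := by
  have := stab_finite h δ
  obtain ⟨S⟩ : Nonempty (Sylow p ↥(MulAction.stabilizer X δ)) := inferInstance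
  have hS1 : (S : Subgroup ↥(MulAction.stabilizer X δ)) ≠ ⊥ :=
    S.ne_bot_of_dvd_card (stab_card_dvd h δ)
  have hS' : (S : Subgroup ↥(MulAction.stabilizer X δ)).map (MulAction.stabilizer X δ).subtype ≠ ⊥ := by
    intro hb
    apply hS1
    exact (Subgroup.map_eq_bot_iff_of_injective _ (Subgroup.subtype_injective _)).mp hb
  have hS'p : IsPGroup p ((S : Subgroup ↥(MulAction.stabilizer X δ)).map
      (MulAction.stabilizer X δ).subtype) := S.isPGroup'.map _
  have : Finite ↥((S : Subgroup ↥(MulAction.stabilizer X δ)).map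
      (MulAction.stabilizer X δ).subtype) :=
    finite_of_le (Subgroup.map_subtype_le _ : _ ≤ MulAction.stabilizer X δ)
  have h1 := center_ne_bot' hS'p hS'
  intro hbot
  apply h1
  apply eq_bot_of_omegaOne_eq_bot (p := p) (hS'p.to_le inf_le_left)
  rw [eq_bot_iff, ← hbot]
  exact le_sylowCenterClosure _ S

theorem exists_adj_vertex {X : Type*} [Group X] {M₁ M₂ : Subgroup X} (δ : CosetVertex M₁ M₂) :
    ∃ μ : CosetVertex M₁ M₂, (cosetGraph M₁ M₂).Adj δ μ := by
  rcases δ with a | b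
  · obtain ⟨x, rfl⟩ := QuotientGroup.mk_surjective a
    exact ⟨Sum.inr (x : X ⧸ M₂), cosetGraph_adj_inl_inr M₁ M₂ x⟩
  · obtain ⟨x, rfl⟩ := QuotientGroup.mk_surjective b
    exact ⟨Sum.inl (x : X ⧸ M₁), (cosetGraph_adj_inl_inr M₁ M₂ x).symm⟩

theorem sylow_smul_map_subtype {X : Type*} [Group X] {p : ℕ} (H : Subgroup X) (Q : Sylow p ↥H)
    (g : ↥H) : ((g • Q : Sylow p ↥H) : Subgroup ↥H).map H.subtype =
      ((Q : Subgroup ↥H).map H.subtype).map (MulAut.conj (g : X)).toMonoidHom := by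
  ext x
  rw [mem_map_conj_iff]
  constructor
  · rintro ⟨y, hy, rfl⟩
    rw [SetLike.mem_coe, Cfsg.Agent.Lib.Helper1.mem_sylow_smul_iff] at hy
    exact ⟨g⁻¹ * y * g, hy, by simp⟩
  · rintro ⟨y, hy, hyx⟩
    refine ⟨g * y * g⁻¹, ?_, ?_⟩
    · rw [SetLike.mem_coe, Cfsg.Agent.Lib.Helper1.mem_sylow_smul_iff]
      have : g⁻¹ * (g * y * g⁻¹) * g = y := by group
      rw [this]; exact hy
    · have h1 : (H.subtype y : X) = (g : X)⁻¹ * x * (g : X) := hyx
      simp only [Subgroup.subtype_apply, Subgroup.coe_mul, Subgroup.coe_inv] at h1 ⊢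
      rw [h1]; group

/-- the reduction: if all `G_λ`-conjugates of `V_μ^{(n-1)}` lie in `B`, so does `V_λ^{(n)}`. -/
theorem vertexVIter_le_of_conj_le {X : Type*} [Group X] {p : ℕ} [Fact p.Prime]
    {M₁ M₂ : Subgroup X} (h : IsSpeAmalgamPair p M₁ M₂) (n : ℕ) (hn : 1 ≤ n)
    {lam μ : CosetVertex M₁ M₂} (hadj : (cosetGraph M₁ M₂).Adj lam μ) (B : Subgroup X)
    (hB : ∀ g ∈ MulAction.stabilizer X lam,
      (vertexVIter p M₁ M₂ (n - 1) μ).map (MulAut.conj g).toMonoidHom ≤ B) :
    vertexVIter p M₁ M₂ n lam ≤ B := by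
  have hc := h.1
  have hgen : M₁ ⊔ M₂ = ⊤ := hc.1.1
  have hconn := cosetGraph_connected M₁ M₂ hgen
  have hinj : ∀ x : X, Function.Injective (MulAut.conj x).toMonoidHom :=
    fun x => (MulAut.conj x).injective
  have hZμ : vertexZ p μ ≤ vertexVIter p M₁ M₂ (n - 1) μ :=
    le_vertexVIter μ (by rw [SimpleGraph.dist_self]; exact Nat.zero_le _)
  rw [vertexVIter_le_iff]
  intro ν hν
  by_cases hνl : lam = ν
  · subst hνl
    -- `Z_λ` is generated by conjugates of `Ω₁Z(T) ≤ Z_μ`
    have := stab_finite hc lam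
    have := stab_finite hc μ
    have : Finite ↥(MulAction.stabilizer X lam ⊓ MulAction.stabilizer X μ) :=
      finite_of_le (inf_le_left : _ ≤ MulAction.stabilizer X lam)
    obtain ⟨SE⟩ : Nonempty (Sylow p ↥(MulAction.stabilizer X lam ⊓ MulAction.stabilizer X μ)) :=
      inferInstance
    obtain ⟨Q, hQ⟩ := edge_sylow_is_vertex_sylow hc lam μ hadj SE
    have hfacμ := edge_factorization hc μ lam hadj.symm
    rw [inf_comm] at hfacμ
    obtain ⟨Qμ, hQμ⟩ := exists_sylow_map_eq_of_factorization_eq (MulAction.stabilizer X μ)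
      (MulAction.stabilizer X lam ⊓ MulAction.stabilizer X μ) inf_le_right hfacμ SE
    have hΩ : omegaOne p (((Q : Subgroup ↥(MulAction.stabilizer X lam)).map
        (MulAction.stabilizer X lam).subtype) ⊓ Subgroup.centralizer
        (((Q : Subgroup ↥(MulAction.stabilizer X lam)).map
          (MulAction.stabilizer X lam).subtype : Subgroup X) : Set X)) ≤ vertexZ p μ := by
      rw [hQ, ← hQμ]
      exact le_sylowCenterClosure _ Qμ
    show sylowCenterClosure p _ ≤ B
    unfold sylowCenterClosure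
    apply iSup_le
    intro S
    obtain ⟨g, rfl⟩ := MulAction.exists_smul_eq ↥(MulAction.stabilizer X lam) Q S
    rw [sylow_smul_map_subtype, centralizer_map_conj, ← Subgroup.map_inf_eq _ _ _ (hinj _),
      ← omegaOne_map_conj]
    exact (Subgroup.map_mono (hΩ.trans hZμ)).trans (hB _ g.2)
  · obtain ⟨μ', hadj', hlt⟩ := exists_adj_dist_lt _ hconn hνl
    obtain ⟨g, hg, hgμ⟩ := Cfsg.Agent.S2744.result M₁ M₂ lam μ μ' hadj hadj'
    have h1 : vertexZ p ν ≤ vertexVIter p M₁ M₂ (n - 1) μ' := le_vertexVIter ν (by omega)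
    rw [← hgμ, vertexVIter_smul hgen] at h1
    exact h1.trans (hB g hg)

/-- `V_λ^{(n)} ≤ Q_λ` is never contained in `V_μ^{(n-1)}` for a neighbour `μ`. -/
theorem vertexVIter_not_le {X : Type*} [Group X] {p : ℕ} [Fact p.Prime]
    {M₁ M₂ : Subgroup X} (h : IsSpeAmalgamPair p M₁ M₂) (n : ℕ) (hn : 1 ≤ n)
    {lam μ : CosetVertex M₁ M₂} (hadj : (cosetGraph M₁ M₂).Adj lam μ)
    (hVQ : vertexVIter p M₁ M₂ n lam ≤ vertexQ p lam) :
    ¬ vertexVIter p M₁ M₂ n lam ≤ vertexVIter p M₁ M₂ (n - 1) μ := by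
  intro hle
  have hc := h.1
  have hgen : M₁ ⊔ M₂ = ⊤ := hc.1.1
  have hge : vertexVIter p M₁ M₂ (n - 1) μ ≤ vertexVIter p M₁ M₂ n lam := by
    have := vertexVIter_le_of_adj (p := p) hgen (n - 1) hadj.symm
    rwa [Nat.sub_add_cancel hn] at this
  have heq : vertexVIter p M₁ M₂ n lam = vertexVIter p M₁ M₂ (n - 1) μ := le_antisymm hle hge
  have hN1 := stab_le_normalizer_vertexVIter (p := p) hgen n lam
  have hN2 := stab_le_normalizer_vertexVIter (p := p) hgen (n - 1) μ
  rw [← heq] at hN2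
  have hVn : (vertexVIter p M₁ M₂ n lam).Normal := by
    rw [← Subgroup.normalizer_eq_top_iff, eq_top_iff, ← stab_sup_stab_eq_top hgen lam μ hadj]
    exact sup_le hN1 hN2
  have hbot := normal_le_edge_eq_bot hc.1 lam μ hadj _ hVn
    (hVQ.trans (vertexQ_le_stab_of_adj hc lam μ hadj))
  apply vertexZ_ne_bot hc lam
  rw [eq_bot_iff, ← hbot]
  exact le_vertexVIter lam (by rw [SimpleGraph.dist_self]; exact Nat.zero_le _)

theorem le_normalizer_commutator' {X : Type*} [Group X] {K A B : Subgroup X}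
    (hA : K ≤ Subgroup.normalizer (A : Set X)) (hB : K ≤ Subgroup.normalizer (B : Set X)) :
    K ≤ Subgroup.normalizer ((⁅A, B⁆ : Subgroup X) : Set X) := by
  apply le_normalizer_of_forall_map_conj_le
  intro k hk
  rw [Subgroup.map_commutator, map_conj_eq_of_mem_normalizer (hA hk),
    map_conj_eq_of_mem_normalizer (hB hk)]

theorem le_normalizer_sup' {X : Type*} [Group X] {K A B : Subgroup X}
    (hA : K ≤ Subgroup.normalizer (A : Set X)) (hB : K ≤ Subgroup.normalizer (B : Set X)) :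
    K ≤ Subgroup.normalizer ((A ⊔ B : Subgroup X) : Set X) := by
  apply le_normalizer_of_forall_map_conj_le
  intro k hk
  rw [Subgroup.map_sup, map_conj_eq_of_mem_normalizer (hA hk),
    map_conj_eq_of_mem_normalizer (hB hk)]

theorem conj_eq_comm_inv_mul {X : Type*} [Group X] (r w : X) : r * w * r⁻¹ = ⁅w, r⁆⁻¹ * w := by
  rw [commutatorElement_def]; group

/-- S2857 in library form. -/
theorem vertexVIter_noncentral_two {X : Type*} [Group X] {p : ℕ} [Fact p.Prime]
    (M₁ M₂ : Subgroup X) (h : IsSpeAmalgamPair p M₁ M₂) (lam : CosetVertex M₁ M₂) (n : ℕ)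
    (hn : 2 ≤ n) (hVQ : vertexVIter p M₁ M₂ n lam ≤ vertexQ p lam) :
    ¬ ⁅vertexVIter p M₁ M₂ n lam, OpOf p (pElementClosure p (MulAction.stabilizer X lam))⁆ ≤
      vertexVIter p M₁ M₂ (n - 2) lam := by
  intro hcon
  have hc := h.1
  have hgen : M₁ ⊔ M₂ = ⊤ := hc.1.1
  obtain ⟨μ, hadj⟩ := exists_adj_vertex lam
  apply vertexVIter_not_le h n (by omega) hadj hVQ
  have hUW : vertexVIter p M₁ M₂ (n - 2) lam ≤ vertexVIter p M₁ M₂ (n - 1) μ := by
    have := vertexVIter_le_of_adj (p := p) hgen (n - 2) hadj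
    rwa [show n - 2 + 1 = n - 1 by omega] at this
  have hWV : vertexVIter p M₁ M₂ (n - 1) μ ≤ vertexVIter p M₁ M₂ n lam := by
    have := vertexVIter_le_of_adj (p := p) hgen (n - 1) hadj.symm
    rwa [show n - 1 + 1 = n by omega] at this
  apply vertexVIter_le_of_conj_le h n (by omega) hadj
  intro g hg
  obtain ⟨r, hr, m, hm, rfl⟩ := stab_decomp h lam μ hadj g hg
  rw [← map_conj_map_conj]
  have hm' : (vertexVIter p M₁ M₂ (n - 1) μ).map (MulAut.conj m).toMonoidHom =
      vertexVIter p M₁ M₂ (n - 1) μ := by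
    rw [← vertexVIter_smul hgen, MulAction.mem_stabilizer_iff.mp hm.2]
  rw [hm']
  rintro _ ⟨w, hw, rfl⟩
  simp only [MulEquiv.coe_toMonoidHom, MulAut.conj_apply]
  have h1 : ⁅w, r⁆ ∈ vertexVIter p M₁ M₂ (n - 1) μ :=
    hUW (hcon (Subgroup.commutator_mem_commutator (hWV hw) hr))
  rw [conj_eq_comm_inv_mul]
  exact Subgroup.mul_mem _ (Subgroup.inv_mem _ h1) hw

/-- the iterated commutators `[V, Q, …, Q]`. -/
def commIter {X : Type*} [Group X] (V Q : Subgroup X) : ℕ → Subgroup X
  | 0 => V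
  | (k + 1) => ⁅commIter V Q k, Q⁆

/-- S2856 in library form. -/
theorem vertexVIter_noncentral_one {X : Type*} [Group X] {p : ℕ} [Fact p.Prime]
    (M₁ M₂ : Subgroup X) (h : IsSpeAmalgamPair p M₁ M₂) (lam : CosetVertex M₁ M₂) (n : ℕ)
    (hn : 1 ≤ n) (hVQ : vertexVIter p M₁ M₂ n lam ≤ vertexQ p lam) :
    ¬ ⁅vertexVIter p M₁ M₂ n lam, OpOf p (pElementClosure p (MulAction.stabilizer X lam))⁆ ≤
      ⁅vertexVIter p M₁ M₂ n lam, vertexQ p lam⁆ := by
  intro hcon
  have hc := h.1
  have hgen : M₁ ⊔ M₂ = ⊤ := hc.1.1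
  obtain ⟨μ, hadj⟩ := exists_adj_vertex lam
  apply vertexVIter_not_le h n hn hadj hVQ
  have hWV : vertexVIter p M₁ M₂ (n - 1) μ ≤ vertexVIter p M₁ M₂ n lam := by
    have := vertexVIter_le_of_adj (p := p) hgen (n - 1) hadj.symm
    rwa [show n - 1 + 1 = n by omega] at this
  have hGV := stab_le_normalizer_vertexVIter (p := p) hgen n lam
  have hGQ : MulAction.stabilizer X lam ≤ Subgroup.normalizer ((vertexQ p lam : Subgroup X) : Set X) :=
    le_normalizer_map_subtype_of_normal _ _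
  have hQE := vertexQ_le_stab_of_adj hc lam μ hadj
  have hQG : vertexQ p lam ≤ MulAction.stabilizer X lam := hQE.trans inf_le_left
  have hEW : MulAction.stabilizer X lam ⊓ MulAction.stabilizer X μ ≤
      Subgroup.normalizer ((vertexVIter p M₁ M₂ (n - 1) μ : Subgroup X) : Set X) :=
    inf_le_right.trans (stab_le_normalizer_vertexVIter (p := p) hgen (n - 1) μ)
  generalize hVdef : vertexVIter p M₁ M₂ n lam = V at *
  generalize hWdef : vertexVIter p M₁ M₂ (n - 1) μ = W at *
  generalize hQdef : vertexQ p lam = Q at *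
  -- Step A
  have hA : V ≤ W ⊔ ⁅V, Q⁆ := by
    have hA' : vertexVIter p M₁ M₂ n lam ≤ W ⊔ ⁅V, Q⁆ := ?_
    · rwa [hVdef] at hA'
    apply vertexVIter_le_of_conj_le h n hn hadj
    intro g hg
    obtain ⟨r, hr, m, hm, rfl⟩ := stab_decomp h lam μ hadj g hg
    rw [← map_conj_map_conj, hWdef, map_conj_eq_of_mem_normalizer (hEW hm)]
    rintro _ ⟨w, hw, rfl⟩
    simp only [MulEquiv.coe_toMonoidHom, MulAut.conj_apply]
    have h1 : ⁅w, r⁆ ∈ ⁅V, Q⁆ := hcon (Subgroup.commutator_mem_commutator (hWV hw) hr)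
    rw [conj_eq_comm_inv_mul]
    exact Subgroup.mul_mem _ (Subgroup.inv_mem _ ((le_sup_right : ⁅V, Q⁆ ≤ W ⊔ ⁅V, Q⁆) h1))
      ((le_sup_left : W ≤ W ⊔ ⁅V, Q⁆) hw)
  -- the descending series
  have hVk0 : commIter V Q 0 = V := rfl
  have hVks : ∀ k, commIter V Q (k + 1) = ⁅commIter V Q k, Q⁆ := fun k => rfl
  have hGVk : ∀ k, MulAction.stabilizer X lam ≤ Subgroup.normalizer ((commIter V Q k : Subgroup X) : Set X) := by
    intro k
    induction k with
    | zero => rw [hVk0]; exact hGV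
    | succ k ih => rw [hVks]; exact le_normalizer_commutator' ih hGQ
  have hVkanti : ∀ k, commIter V Q (k + 1) ≤ commIter V Q k := by
    intro k
    rw [hVks]
    exact Subgroup.le_normalizer_iff_commutator_le_left.mp (hQG.trans (hGVk k))
  have hVkV : ∀ k, commIter V Q k ≤ V := by
    intro k
    induction k with
    | zero => exact le_rfl
    | succ k ih => exact (hVkanti k).trans ih
  have hVklcs : ∀ k, commIter V Q k ≤ Q.lowerCentralSeries k := by
    intro k
    induction k with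
    | zero => rw [hVk0, Subgroup.lowerCentralSeries_zero]; exact hVQ
    | succ k ih =>
      rw [hVks, Subgroup.lowerCentralSeries_succ]
      exact Subgroup.commutator_mono ih le_rfl
  have hWQ : W ≤ Q := hWV.trans hVQ
  have hQW : Q ≤ Subgroup.normalizer (W : Set X) := hQE.trans hEW
  have hC : ∀ k, V ≤ W ⊔ commIter V Q (k + 1) := by
    intro k
    induction k with
    | zero => exact hA
    | succ k ih =>
      have hWN : W ≤ Subgroup.normalizer ((W ⊔ commIter V Q (k + 2) : Subgroup X) : Set X) :=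
        le_normalizer_sup' Subgroup.le_normalizer ((hWQ.trans hQG).trans (hGVk (k + 2)))
      have hVN : commIter V Q (k + 1) ≤ Subgroup.normalizer ((W ⊔ commIter V Q (k + 2) : Subgroup X) : Set X) := by
        apply le_normalizer_of_forall_map_conj_le
        intro v hv
        rw [Subgroup.map_sup, map_conj_eq_of_mem_normalizer
          (hGVk (k + 2) (hQG (hVQ (hVkV (k + 1) hv))))]
        apply sup_le _ le_sup_right
        rintro _ ⟨w, hw, rfl⟩
        simp only [MulEquiv.coe_toMonoidHom, MulAut.conj_apply]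
        have h1 : ⁅v, w⁆ ∈ commIter V Q (k + 2) := by
          rw [hVks (k + 1)]
          exact Subgroup.commutator_mem_commutator hv (hWQ hw)
        have e : v * w * v⁻¹ = ⁅v, w⁆ * w := by rw [commutatorElement_def]; group
        rw [e]
        exact Subgroup.mul_mem _ ((le_sup_right : commIter V Q (k + 2) ≤ W ⊔ commIter V Q (k + 2)) h1)
          ((le_sup_left : W ≤ W ⊔ commIter V Q (k + 2)) hw)
      have h1 : ⁅Q, W⁆ ≤ W ⊔ commIter V Q (k + 2) :=
        (Subgroup.le_normalizer_iff_commutator_le_right.mp hQW).trans le_sup_left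
      have h2 : ⁅Q, commIter V Q (k + 1)⁆ ≤ W ⊔ commIter V Q (k + 2) := by
        rw [Subgroup.commutator_comm, ← hVks (k + 1)]
        exact le_sup_right
      have h3 : ⁅Q, W ⊔ commIter V Q (k + 1)⁆ ≤ W ⊔ commIter V Q (k + 2) := commutator_sup_le' hWN hVN h1 h2
      have h4 : ⁅V, Q⁆ ≤ W ⊔ commIter V Q (k + 2) := by
        rw [Subgroup.commutator_comm]
        exact (Subgroup.commutator_mono le_rfl ih).trans h3
      exact hA.trans (sup_le le_sup_left h4)
  -- nilpotency of `Q`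
  have : Finite ↥(MulAction.stabilizer X lam) := stab_finite hc lam
  have : Finite ↥Q := finite_of_le hQG
  have hQp : IsPGroup p Q := by rw [← hQdef]; exact pCoreOf_isPGroup _
  have hnil : Group.IsNilpotent ↥Q := hQp.isNilpotent
  obtain ⟨k, hk⟩ := (Subgroup.isNilpotent_iff_lowerCentralSeries Q).mp hnil
  have hbot : commIter V Q (k + 1) = ⊥ := by
    rw [eq_bot_iff, ← hk]
    exact (hVkanti k).trans (hVklcs k)
  have := hC k
  rw [hbot, sup_bot_eq] at this
  exact this

end Cfsg.Agent.Lib.Helper16
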