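/-
helper16: S0720 (Wielandt 2p) leaf W2P-PI (`notes/S0720_leaves.lean`): the permutation character vanishes on the
`p`-singular elements (a Sylow `p`-subgroup is semiregular) and is invariant under powers prime to `|G|`.
-/
import Mathlib
import Cfsg.Agent.Lib.Helper19.W2PDefs
import Cfsg.Agent.Lib.Lead.PermChar

set_option autoImplicit false

namespace Cfsg.Agent.Lib.Helper16.W2PPI

open Cfsg Cfsg.Agent.CharLib Cfsg.Agent.Lib.Helper19.CentAlg Cfsg.Agent.Lib.Helper19.W2P

open scoped Pointwise

universe u v

section chars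

variable {G : Type u} [Group G] [Fintype G] {Ω : Type v} [Fintype Ω] [DecidableEq Ω] [MulAction G Ω]

/-- W2P-PI: the permutation character vanishes on `p`-singular elements and is invariant under coprime powers. -/
theorem permChar_facts {p : ℕ} (hp : p.Prime) (hcard : Fintype.card Ω = 2 * p) (P : Subgroup G)
    (hP : Nat.card P = p) (hSyl : ¬ p ∣ P.index) (hsemi : Semireg P Ω) :
    (∀ g : G, p ∣ orderOf g → permChar G Ω g = 0) ∧
    (∀ (g : G) (k : ℕ), k.Coprime (Nat.card G) → permChar G Ω (g ^ k) = permChar G Ω g) ∧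
    permChar G Ω 1 = 2 * p := by
  classical
  haveI : Fact p.Prime := ⟨hp⟩
  have hPp : IsPGroup p P := IsPGroup.of_card (n := 1) (by rw [hP, pow_one])
  refine ⟨?_, ?_, ?_⟩
  · intro g hg
    have hfix : ∀ a : Ω, g • a ≠ a := by
      intro a ha
      set h := g ^ (orderOf g / p) with hh
      have hordh : orderOf h = p := orderOf_pow_orderOf_div (orderOf_pos g).ne' hg
      have hZ : IsPGroup p (Subgroup.zpowers h) :=
        IsPGroup.of_card (n := 1) (by rw [Nat.card_zpowers, hordh, pow_one])
      obtain ⟨Q, hQ⟩ := hZ.exists_le_sylow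
      obtain ⟨t, ht⟩ := MulAction.exists_smul_eq G Q (hPp.toSylow hSyl)
      have hxP : t * h * t⁻¹ ∈ P := by
        have h1 : MulAut.conj t • h ∈ MulAut.conj t • (Q : Subgroup G) :=
          Subgroup.smul_mem_pointwise_smul _ _ _ (hQ (Subgroup.mem_zpowers h))
        rw [← Sylow.coe_subgroup_smul, ht, IsPGroup.toSylow_coe, MulAut.smul_def,
          MulAut.conj_apply] at h1
        exact h1
      have hx1 : t * h * t⁻¹ ≠ 1 := by
        intro h1
        have h2 : h = 1 := conj_eq_one_iff.mp h1
        rw [h2, orderOf_one] at hordh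
        exact hp.one_lt.ne hordh
      have hha : h • a = a :=
        MulAction.mem_stabilizer_iff.mp
          (Subgroup.pow_mem _ (MulAction.mem_stabilizer_iff.mpr ha) _)
      have hfx : (t * h * t⁻¹) • (t • a) = t • a := by
        rw [mul_smul, mul_smul, inv_smul_smul, hha]
      exact hsemi _ hxP hx1 (t • a) hfx
    have hempty : MulAction.fixedBy Ω g = ∅ := by
      rw [Set.eq_empty_iff_forall_notMem]
      intro a ha
      exact hfix a (MulAction.mem_fixedBy.mp ha)
    unfold permChar
    rw [hempty]
    simp
  · intro g k hk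
    have hdvd : orderOf g ∣ Nat.card G := orderOf_dvd_natCard g
    have hk' : k.Coprime (orderOf g) := Nat.Coprime.coprime_dvd_right hdvd hk
    obtain ⟨l, hl⟩ := exists_pow_eq_self_of_coprime hk'
    have heq : MulAction.fixedBy Ω (g ^ k) = MulAction.fixedBy Ω g := by
      ext a
      rw [MulAction.mem_fixedBy, MulAction.mem_fixedBy]
      constructor
      · intro ha
        have h1 : (g ^ k) ^ l • a = a :=
          MulAction.mem_stabilizer_iff.mp
            (Subgroup.pow_mem _ (MulAction.mem_stabilizer_iff.mpr ha) _)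
        rwa [hl] at h1
      · intro ha
        exact MulAction.mem_stabilizer_iff.mp
          (Subgroup.pow_mem _ (MulAction.mem_stabilizer_iff.mpr ha) _)
    unfold permChar
    rw [heq]
  · unfold permChar
    have huniv : MulAction.fixedBy Ω (1 : G) = Set.univ := by
      ext a
      simp [MulAction.mem_fixedBy]
    rw [huniv, Nat.card_congr (Equiv.Set.univ Ω), Nat.card_eq_fintype_card, hcard]
    push_cast
    ring

end chars

end Cfsg.Agent.Lib.Helper16.W2PPI
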