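/-
helper16: S0720 (Wielandt 2p) leaf W2P-REDUCE (`notes/S0720_leaves.lean`): in a primitive, not 2-transitive group of
degree `2p` (`p` odd) every element of order `p` is fixed-point-free (Jordan), so a Sylow `p`-subgroup is semiregular
of order `p`.
-/
import Mathlib
import Cfsg.Agent.Lib.Helper19.W2PDefs
import Cfsg.Agent.Lib.Lead.PermChar

set_option autoImplicit false

namespace Cfsg.Agent.Lib.Helper16.W2PREDUCE

open Cfsg Cfsg.Agent.CharLib Cfsg.Agent.Lib.Helper19.CentAlg Cfsg.Agent.Lib.Helper19.W2P

open scoped Pointwise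

universe u v

section perm

variable {G : Type u} [Group G] {Ω : Type v} [MulAction G Ω]

/-- an element of prime order `p` of a primitive, not 2-transitive group of degree `2p` has no fixed point -/
theorem smul_ne_of_orderOf_eq {p : ℕ} (hp : p.Prime) (hodd : p ≠ 2) [Finite G] [Fintype Ω]
    [FaithfulSMul G Ω] (hcard : Fintype.card Ω = 2 * p) (hprim : MulAction.IsPreprimitive G Ω)
    (h2 : ¬ MulAction.IsMultiplyPretransitive G Ω 2) (y : G) (hy : orderOf y = p) (a : Ω) :
    y • a ≠ a := by
  classical
  intro hya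
  apply h2
  haveI : Fact p.Prime := ⟨hp⟩
  have hp3 : 3 ≤ p := by
    have := hp.two_le
    omega
  set H := Subgroup.zpowers y with hH
  have hHcard : Nat.card H = p := by rw [Nat.card_zpowers, hy]
  have hHp : IsPGroup p H := IsPGroup.of_card (n := 1) (by rw [hHcard, pow_one])
  set s : Set Ω := MulAction.fixedPoints H Ω with hs
  have hmem : ∀ b : Ω, b ∈ s ↔ y • b = b := by
    intro b
    rw [hs, MulAction.mem_fixedPoints]
    constructor
    · intro h
      exact h ⟨y, Subgroup.mem_zpowers y⟩
    · rintro h ⟨g, hg⟩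
      obtain ⟨k, rfl⟩ := Subgroup.mem_zpowers_iff.mp hg
      show y ^ k • b = b
      exact MulAction.mem_stabilizer_iff.mp
        (Subgroup.zpow_mem _ (MulAction.mem_stabilizer_iff.mpr h) k)
  have hcardΩ : Nat.card Ω = 2 * p := by rw [Nat.card_eq_fintype_card, hcard]
  -- the number of fixed points is `p`
  have hmod := hHp.card_modEq_card_fixedPoints Ω
  have hpd : p ∣ s.ncard := by
    rw [← Nat.card_coe_set_eq s]
    have h1 : Nat.card (MulAction.fixedPoints H Ω) ≡ 0 [MOD p] := by
      refine hmod.symm.trans ?_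
      rw [hcardΩ]
      exact (Nat.modEq_zero_iff_dvd).mpr (Dvd.intro_left 2 rfl)
    exact (Nat.modEq_zero_iff_dvd).mp h1
  have hsne : s ≠ Set.univ := by
    intro h
    have hy1 : y = 1 := by
      apply FaithfulSMul.eq_of_smul_eq_smul (α := Ω)
      intro b
      rw [one_smul]
      exact (hmem b).mp (h ▸ Set.mem_univ b)
    rw [hy1, orderOf_one] at hy
    omega
  have hlt : s.ncard < 2 * p := by
    have h1 : s ⊂ Set.univ := Set.ssubset_univ_iff.mpr hsne
    have h3 := Set.ncard_lt_ncard h1 (Set.toFinite _)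
    rw [Set.ncard_univ, hcardΩ] at h3
    exact h3
  have hpos : 0 < s.ncard := (Set.ncard_pos (Set.toFinite s)).mpr ⟨a, (hmem a).mpr hya⟩
  have hsn : s.ncard = p := by
    obtain ⟨m, hm⟩ := hpd
    rw [hm] at hlt hpos
    have hm2 : m < 2 := Nat.lt_of_mul_lt_mul_left (a := p) (by rw [mul_comm 2 p] at hlt; exact hlt)
    have hm0 : 0 < m := Nat.pos_of_mul_pos_left hpos
    have hm1 : m = 1 := by omega
    rw [hm, hm1, mul_one]
  have hcardc : sᶜ.ncard = p := by
    have h1 := Set.ncard_add_ncard_compl s
    rw [hcardΩ, hsn] at h1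
    omega
  -- the fixing subgroup of `s` is transitive on the complement
  have hs_trans : MulAction.IsPretransitive (fixingSubgroup G s)
      (SubMulAction.ofFixingSubgroup G s) := by
    rw [MulAction.isPretransitive_iff]
    rintro ⟨b, hb⟩ ⟨c, hc⟩
    rw [SubMulAction.mem_ofFixingSubgroup_iff] at hb hc
    have hsub : MulAction.orbit H b ⊆ sᶜ := by
      rintro z ⟨h, rfl⟩ hz
      apply hb
      have h1 : h⁻¹ • (h • b) = h • b := (MulAction.mem_fixedPoints.mp hz) h⁻¹
      rw [inv_smul_smul] at h1
      rw [h1]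
      exact hz
    have hcardo : (MulAction.orbit H b).ncard = p := by
      have h1 : (MulAction.stabilizer H b).index = (MulAction.orbit H b).ncard :=
        MulAction.index_stabilizer H b
      have h3 : (MulAction.stabilizer H b).index ∣ Nat.card H := Subgroup.index_dvd_card _
      rw [h1, hHcard] at h3
      rcases (Nat.dvd_prime hp).mp h3 with h4 | h4
      · exfalso
        apply hb
        rw [hmem]
        obtain ⟨a1, ha1⟩ := Set.ncard_eq_one.mp h4
        have hyb : y • b ∈ MulAction.orbit H b := ⟨⟨y, Subgroup.mem_zpowers y⟩, rfl⟩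
        have hbb : b ∈ MulAction.orbit H b := MulAction.mem_orbit_self b
        rw [ha1] at hyb hbb
        rw [Set.mem_singleton_iff] at hyb hbb
        rw [hyb, hbb]
      · exact h4
    have heq : MulAction.orbit H b = sᶜ :=
      Set.eq_of_subset_of_ncard_le hsub (by rw [hcardc, hcardo]) (Set.toFinite _)
    have horb : c ∈ MulAction.orbit H b := by
      rw [heq]
      exact hc
    obtain ⟨⟨g, hg⟩, hgc⟩ := horb
    have hgfix : g ∈ fixingSubgroup G s := by
      rw [mem_fixingSubgroup_iff]
      intro z hz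
      exact (MulAction.mem_fixedPoints.mp hz) ⟨g, hg⟩
    refine ⟨⟨g, hgfix⟩, ?_⟩
    apply Subtype.ext
    exact hgc
  exact hprim.is_two_pretransitive (s := s) (n := p - 1) (by rw [hsn]; omega)
    (by rw [hcardΩ]; omega) hs_trans

/-- W2P-REDUCE: Jordan. -/
theorem exists_semiregular {p : ℕ} (hp : p.Prime) (hodd : p ≠ 2) [Finite G] [Fintype Ω]
    [FaithfulSMul G Ω] (hcard : Fintype.card Ω = 2 * p) (hprim : MulAction.IsPreprimitive G Ω)
    (h2 : ¬ MulAction.IsMultiplyPretransitive G Ω 2) :
    ∃ P : Subgroup G, Nat.card P = p ∧ ¬ p ∣ P.index ∧ Semireg P Ω := by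
  classical
  haveI : Fact p.Prime := ⟨hp⟩
  have hp3 : 3 ≤ p := by
    have := hp.two_le
    omega
  have htr : MulAction.IsPretransitive G Ω := hprim.toIsPretransitive
  have hne : Nonempty Ω := by
    rw [← Fintype.card_pos_iff, hcard]
    omega
  obtain ⟨a0⟩ := hne
  have hcardΩ : Nat.card Ω = 2 * p := by rw [Nat.card_eq_fintype_card, hcard]
  have hdvd : p ∣ Nat.card G := by
    have h1 : (MulAction.stabilizer G a0).index = Nat.card Ω :=
      MulAction.index_stabilizer_of_transitive G a0
    have h3 : (MulAction.stabilizer G a0).index ∣ Nat.card G := Subgroup.index_dvd_card _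
    rw [h1, hcardΩ] at h3
    exact dvd_trans (Dvd.intro_left 2 rfl) h3
  let P : Sylow p G := default
  have hPcard : Nat.card (P : Subgroup G) = p ^ (Nat.card G).factorization p :=
    Sylow.card_eq_multiplicity P
  have hkpos : 0 < (Nat.card G).factorization p :=
    hp.factorization_pos_of_dvd Nat.card_pos.ne' hdvd
  have hsemi : Semireg (P : Subgroup G) Ω := by
    intro x hx hx1 a hxa
    obtain ⟨m, hm⟩ := (IsPGroup.iff_orderOf.mp P.isPGroup') ⟨x, hx⟩
    rw [Subgroup.orderOf_mk] at hm
    have hm0 : m ≠ 0 := by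
      rintro rfl
      rw [pow_zero, orderOf_eq_one_iff] at hm
      exact hx1 hm
    have hpd : p ∣ orderOf x := by
      rw [hm]
      exact dvd_pow_self p hm0
    have hy : orderOf (x ^ (orderOf x / p)) = p :=
      orderOf_pow_orderOf_div (orderOf_pos x).ne' hpd
    have hya : (x ^ (orderOf x / p)) • a = a :=
      MulAction.mem_stabilizer_iff.mp
        (Subgroup.pow_mem _ (MulAction.mem_stabilizer_iff.mpr hxa) _)
    exact smul_ne_of_orderOf_eq hp hodd hcard hprim h2 _ hy a hya
  have hle : Nat.card (P : Subgroup G) ≤ 2 * p := by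
    have hinj : Function.Injective (fun x : (P : Subgroup G) => (x : G) • a0) := by
      intro x y hxy
      simp only at hxy
      by_contra hne
      have h1 : ((y : G)⁻¹ * (x : G)) • a0 = a0 := by rw [mul_smul, hxy, inv_smul_smul]
      have h2' : (y : G)⁻¹ * (x : G) ≠ 1 := by
        intro h
        apply hne
        apply Subtype.ext
        exact (inv_mul_eq_one.mp h).symm
      exact hsemi _ ((P : Subgroup G).mul_mem ((P : Subgroup G).inv_mem y.2) x.2) h2' a0 h1
    have h3 := Nat.card_le_card_of_injective _ hinj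
    rw [hcardΩ] at h3
    exact h3
  have hk1 : (Nat.card G).factorization p = 1 := by
    rw [hPcard] at hle
    by_contra hne
    have hk2 : 2 ≤ (Nat.card G).factorization p := by omega
    have h3 : p ^ 2 ≤ p ^ (Nat.card G).factorization p := Nat.pow_le_pow_right hp.pos hk2
    nlinarith
  refine ⟨(P : Subgroup G), ?_, P.not_dvd_index, hsemi⟩
  rw [hPcard, hk1, pow_one]

end perm

end Cfsg.Agent.Lib.Helper16.W2PREDUCE
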