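/-
helper16: S0720 (Wielandt 2p) leaf W2P-TWIN (`notes/S0720_leaves.lean`): `α ≠ β` have the same `S'`-neighbourhood
(`S' = {E-entry ≠ 0}`); "same neighbourhood" is a `G`-congruence, so by primitivity all neighbourhoods coincide, so
every point is a neighbour of `α`: `P ∖ 1 ⊆ S`, against `|S| + 1 < p`.
-/
import Mathlib
import Cfsg.Agent.Lib.Helper19.W2PDefs
import Cfsg.Agent.Lib.Lead.PermChar

set_option autoImplicit false

namespace Cfsg.Agent.Lib.Helper16.W2PTWIN

open Cfsg Cfsg.Agent.CharLib Cfsg.Agent.Lib.Helper19.CentAlg Cfsg.Agent.Lib.Helper19.W2P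

open scoped Pointwise

universe u v

section orb

open scoped Classical

variable {G : Type u} [Group G] [Fintype G] {Ω : Type v} [Fintype Ω] [DecidableEq Ω] [MulAction G Ω]

/-- W2P-TWIN: the final contradiction: `α ≠ β` have the same `S'`-neighbourhood, "same neighbourhood" is a
`G`-congruence, so by primitivity all neighbourhoods are equal, so everything is a neighbour of `α`:
`|S| + 1 = p`. -/
theorem false_of_twin {p : ℕ} (hp : p.Prime) (hodd : p ≠ 2)
    (hcard : Fintype.card Ω = 2 * p) (hprim : MulAction.IsPreprimitive G Ω)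
    (P : Subgroup G) (hP : Nat.card P = p) (hsemi : Semireg P Ω) (χ₁ : G → ℂ)
    (a : ℕ) (S : Set G) (d : OrbData (Ω := Ω) P χ₁ a S)
    (hlt : Nat.card S + 1 < p)
    (α β : Ω) (hαβ : ∀ y ∈ P, y • α ≠ β)
    (hX : ∀ y ∈ P, (ent χ₁ α (y • β) ≠ 0 ↔ y = 1 ∨ y ∈ S)) : False := by
  -- the entries along `P`
  have key : ∀ γ : Ω, ∀ x ∈ P, (ent χ₁ γ (x • γ) ≠ 0 ↔ x = 1 ∨ x ∈ S) := by
    intro γ x hx
    by_cases hx1 : x = 1
    · subst hx1
      rw [one_smul, d.ent_diag γ]
      constructor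
      · intro _
        exact Or.inl rfl
      · intro _
        norm_num
    · rw [d.supp x hx hx1 γ]
      constructor
      · intro h
        exact Or.inr h
      · rintro (h | h)
        · exact absurd h hx1
        · exact h
  -- `S` is closed under inverses
  have hSinv : ∀ x ∈ P, x ∈ S → x⁻¹ ∈ S := by
    intro x hx hxS
    have hx1 : x ≠ 1 := (d.S_sub x hxS).2
    have hx1' : x⁻¹ ≠ 1 := fun h => hx1 (inv_eq_one.mp h)
    have h1 : ent χ₁ α (x • α) ≠ 0 := (d.supp x hx hx1 α).mpr hxS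
    have h2 := d.supp x⁻¹ (P.inv_mem hx) hx1' (x • α)
    rw [inv_smul_smul, d.ent_symm (x • α) α] at h2
    exact h2.mp h1
  have hSinv' : ∀ x ∈ P, (x⁻¹ = 1 ∨ x⁻¹ ∈ S ↔ x = 1 ∨ x ∈ S) := by
    intro x hx
    constructor
    · rintro (h | h)
      · exact Or.inl (inv_eq_one.mp h)
      · have := hSinv x⁻¹ (P.inv_mem hx) h
        rw [inv_inv] at this
        exact Or.inr this
    · rintro (h | h)
      · exact Or.inl (inv_eq_one.mpr h)
      · exact Or.inr (hSinv x hx h)
  -- `Ω = P α ∪ P β`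
  have hcover : ∀ ε : Ω, ∃ x ∈ P, ε = x • α ∨ ε = x • β := by
    let f : P ⊕ P → Ω := fun z => Sum.elim (fun x : P => (x : G) • α) (fun x : P => (x : G) • β) z
    have hreg : ∀ (γ : Ω) (x y : P), (x : G) • γ = (y : G) • γ → x = y := by
      intro γ x y hxy
      by_contra hne
      have h1 : ((y : G)⁻¹ * (x : G)) • γ = γ := by rw [mul_smul, hxy, inv_smul_smul]
      have h2' : (y : G)⁻¹ * (x : G) ≠ 1 := by
        intro h
        apply hne
        apply Subtype.ext
        exact (inv_mul_eq_one.mp h).symm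
      exact hsemi _ (P.mul_mem (P.inv_mem y.2) x.2) h2' γ h1
    have hinj : Function.Injective f := by
      rintro (x | x) (y | y) hxy
      · exact congrArg Sum.inl (hreg α x y hxy)
      · exfalso
        have h1 : ((y : G)⁻¹ * (x : G)) • α = β := by
          change (x : G) • α = (y : G) • β at hxy
          rw [mul_smul, hxy, inv_smul_smul]
        exact hαβ _ (P.mul_mem (P.inv_mem y.2) x.2) h1
      · exfalso
        have h1 : ((x : G)⁻¹ * (y : G)) • α = β := by
          change (x : G) • β = (y : G) • α at hxy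
          rw [mul_smul, ← hxy, inv_smul_smul]
        exact hαβ _ (P.mul_mem (P.inv_mem x.2) y.2) h1
      · exact congrArg Sum.inr (hreg β x y hxy)
    have hbij : Function.Bijective f := by
      apply Function.Injective.bijective_of_nat_card_le hinj
      rw [Nat.card_sum, hP, Nat.card_eq_fintype_card, hcard]
      omega
    intro ε
    obtain ⟨z, hz⟩ := hbij.2 ε
    rcases z with x | x
    · exact ⟨x, x.2, Or.inl hz.symm⟩
    · exact ⟨x, x.2, Or.inr hz.symm⟩
  -- `α` and `β` have the same neighbourhood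
  have hnbβ : ∀ ε : Ω, (ent χ₁ β ε ≠ 0 ↔ ent χ₁ α ε ≠ 0) := by
    intro ε
    obtain ⟨x, hx, rfl | rfl⟩ := hcover ε
    · rw [key α x hx]
      have h1 : ent χ₁ β (x • α) = ent χ₁ α (x⁻¹ • β) := by
        rw [d.ent_symm β (x • α), ← d.ent_smul x⁻¹ (x • α) β, inv_smul_smul]
      rw [h1, hX x⁻¹ (P.inv_mem hx)]
      exact hSinv' x hx
    · rw [key β x hx, hX x hx]
  -- the congruence
  set B : Set Ω := {γ | ∀ ε : Ω, (ent χ₁ γ ε ≠ 0 ↔ ent χ₁ α ε ≠ 0)} with hB
  have hmove : ∀ (g : G) (γ δ : Ω), (∀ ε : Ω, (ent χ₁ γ ε ≠ 0 ↔ ent χ₁ δ ε ≠ 0)) →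
      ∀ ε : Ω, (ent χ₁ (g • γ) ε ≠ 0 ↔ ent χ₁ (g • δ) ε ≠ 0) := by
    intro g γ δ h ε
    have h1 : ∀ γ' : Ω, ent χ₁ (g • γ') ε = ent χ₁ γ' (g⁻¹ • ε) := by
      intro γ'
      rw [← d.ent_smul g γ' (g⁻¹ • ε), smul_inv_smul]
    rw [h1 γ, h1 δ]
    exact h (g⁻¹ • ε)
  have hblock : MulAction.IsBlock G B := by
    rw [MulAction.isBlock_iff_smul_eq_of_mem]
    intro g a0 ha0 hga0
    ext γ
    rw [Set.mem_smul_set_iff_inv_smul_mem]
    constructor
    · intro hγ ε
      -- `g⁻¹ γ ~ α ~ a0`, so `γ ~ g a0 ~ α`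
      have h1 : ∀ ε : Ω, (ent χ₁ (g⁻¹ • γ) ε ≠ 0 ↔ ent χ₁ a0 ε ≠ 0) :=
        fun ε => (hγ ε).trans (ha0 ε).symm
      have h2 := hmove g (g⁻¹ • γ) a0 h1 ε
      rw [smul_inv_smul] at h2
      exact h2.trans (hga0 ε)
    · intro hγ ε
      have h1 : ∀ ε : Ω, (ent χ₁ γ ε ≠ 0 ↔ ent χ₁ (g • a0) ε ≠ 0) :=
        fun ε => (hγ ε).trans (hga0 ε).symm
      have h2 := hmove g⁻¹ γ (g • a0) h1 ε
      rw [inv_smul_smul] at h2
      exact h2.trans (ha0 ε)
  have hαB : α ∈ B := fun ε => Iff.rfl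
  have hβB : β ∈ B := hnbβ
  have hne : α ≠ β := by
    have := hαβ 1 P.one_mem
    rwa [one_smul] at this
  have huniv : B = Set.univ := by
    rcases hprim.isTrivialBlock_of_isBlock hblock with h | h
    · exact absurd (h hαB hβB) hne
    · exact h
  -- every non-identity element of `P` lies in `S`
  have hall : ∀ x ∈ P, x ≠ 1 → x ∈ S := by
    intro x hx hx1
    have hmem : x • α ∈ B := by
      rw [huniv]
      exact Set.mem_univ _
    have h1 := hmem (x • α)
    rw [d.ent_diag] at h1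
    have h2 : ent χ₁ α (x • α) ≠ 0 := h1.mp (by norm_num)
    exact (d.supp x hx hx1 α).mp h2
  have hsub : (P : Set G) \ {1} ⊆ S := by
    rintro x ⟨hx, hx1⟩
    exact hall x hx hx1
  have hc1 : ((P : Set G) \ {1}).ncard = p - 1 := by
    rw [Set.ncard_diff_singleton_of_mem (P.one_mem), ← Nat.card_coe_set_eq]
    exact congrArg (fun n => n - 1) hP
  have hc2 : ((P : Set G) \ {1}).ncard ≤ S.ncard := Set.ncard_le_ncard hsub (Set.toFinite S)
  rw [hc1, ← Nat.card_coe_set_eq] at hc2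
  omega

end orb

end Cfsg.Agent.Lib.Helper16.W2PTWIN
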