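import Mathlib
import Cfsg.Agent.Lib.Helper10.WGDefs

set_option autoImplicit false

namespace Cfsg.Agent.Lib.Helper16.WGSXCB

open Matrix Cfsg.Agent.Lib.Helper11.LS Cfsg.Agent.Lib.Helper10.WG

universe u

variable {F : Type*} [Field F]

theorem xZ_zero {n : ℕ} : (xZ (0 : F) : SpG F (n + 1)) = 1 := by
  apply Subtype.ext
  show fromBlocks 1 (single 0 0 (0 : F)) 0 1 = (1 : Matrix _ _ F)
  rw [single_zero, fromBlocks_one]

theorem sw0_word : (sw 0 : SpG F 2) * xZ 1 * sw 0 = xZ (-1) * sw 0 * xZ (-1) := by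
  apply Subtype.ext
  show swMat 0 * fromBlocks 1 (single 0 0 (1 : F)) 0 1 * swMat 0 =
    fromBlocks 1 (single 0 0 (-1 : F)) 0 1 * swMat 0 * fromBlocks 1 (single 0 0 (-1 : F)) 0 1
  ext i j
  rcases i with i | i <;> rcases j with j | j <;> fin_cases i <;> fin_cases j <;>
    simp [swMat, Matrix.mul_apply, Fintype.sum_sum_type, Matrix.one_apply, single]

theorem tvG_val {n : ℕ} (i j : Fin n) (hij : i ≠ j) (c : F) :
    ((tvG i j hij c : GL (Fin n) F) : Matrix (Fin n) (Fin n) F) = transvection i j c := rfl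

theorem tvG_inv {n : ℕ} (i j : Fin n) (hij : i ≠ j) (c : F) :
    (tvG i j hij c)⁻¹ = tvG i j hij (-c) := by
  apply inv_eq_of_mul_eq_one_right
  apply Units.ext
  rw [Units.val_mul, tvG_val, tvG_val, transvection_mul_transvection_same _ _ hij, add_neg_cancel,
    transvection_zero, Units.val_one]

theorem uPP_val (c : F) : (uPP 0 c : SpG F 2).1 =
    fromBlocks (transvection 1 0 c) 0 0 (transvection 1 0 (-c))ᵀ := by
  show (LvG (tvG (Fin.succ 0) 0 _ c) : SpG F 2).1 = _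
  rw [LvG_val, tvG_inv]
  rfl

theorem uP_val (c : F) : (uP 0 c : SpG F 2).1 =
    fromBlocks (transvection 0 1 c) 0 0 (transvection 0 1 (-c))ᵀ := by
  show (LvG (tvG 0 (Fin.succ 0) _ c) : SpG F 2).1 = _
  rw [LvG_val, tvG_inv]
  rfl

theorem sw0_xA (c : F) : (sw 0 : SpG F 2) * xA 0 c = uPP 0 (-c) * sw 0 := by
  apply Subtype.ext
  show swMat 0 * (xA 0 c : SpG F 2).1 = (uPP 0 (-c) : SpG F 2).1 * swMat 0
  rw [uPP_val]
  show swMat 0 * fromBlocks 1 (single 0 (Fin.succ 0) c + single (Fin.succ 0) 0 c) 0 1 = _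
  ext i j
  rcases i with i | i <;> rcases j with j | j <;> fin_cases i <;> fin_cases j <;>
    simp [swMat, Matrix.mul_apply, Fintype.sum_sum_type, Matrix.one_apply, single, transvection]

theorem mono_Xs (c : F) :
    (uPP 0 (-1) * uP 0 1 : SpG F 2) * Xs (single 1 1 c) (by simp) = xZ c * (uPP 0 (-1) * uP 0 1) := by
  apply Subtype.ext
  show (uPP 0 (-1) : SpG F 2).1 * (uP 0 1 : SpG F 2).1 * fromBlocks 1 (single 1 1 c) 0 1 =
    fromBlocks 1 (single 0 0 c) 0 1 * ((uPP 0 (-1) : SpG F 2).1 * (uP 0 1 : SpG F 2).1)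
  rw [uPP_val, uP_val]
  ext i j
  rcases i with i | i <;> rcases j with j | j <;> fin_cases i <;> fin_cases j <;>
    simp [Matrix.mul_apply, Fintype.sum_sum_type, Matrix.one_apply, single, transvection]

variable {V : Type u} [AddCommGroup V] [Module ℂ V]

/-- the 'otherwise' half of (SXC), with (F1) as a hypothesis -/
theorem sxc_fixed_zero_of (ψ : AddChar F ℂ) (hψ : ψ.IsPrimitive)
    (ρ : Representation ℂ (SpG F 2) V)
    (hF1 : ∀ v ∈ Ysp ρ, (∀ (j : Fin 1) (c : F), ρ (xA j c) v = v) ∧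
      (∀ (j : Fin 1) (c : F), ρ (uP j c) v = v))
    (d : F) (hd : d ≠ 0) (x : V) (hx1 : x ∈ Ysp ρ) (hx2 : ρ ((sw 0)⁻¹) x ∈ Ysp ρ)
    (hxd : ∀ c : F, ρ (Xs (single 1 1 c) (by simp)) x = ψ (d * c) • x) : x = 0 := by
  have hZ : ∀ c, ρ (xZ c) x = x := hx1
  have hY : ∀ c, ρ (sw 0 * xZ c * (sw 0)⁻¹) x = x := by
    intro c
    rw [map_mul, map_mul, Module.End.mul_apply, Module.End.mul_apply, hx2 c,
      ← Module.End.mul_apply, ← map_mul, mul_inv_cancel, map_one, Module.End.one_apply]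
  have hword : (sw 0 : SpG F 2) = xZ (-1) * (sw 0 * xZ (-1) * (sw 0)⁻¹) * xZ (-1) := by
    have h1 : xZ (-1) * (sw 0 * xZ (-1) * (sw 0)⁻¹) * xZ (-1) =
        (xZ (-1) * sw 0 * xZ (-1) : SpG F 2) * (sw 0)⁻¹ * xZ (-1) := by group
    rw [h1, ← sw0_word]
    have h2 : (sw 0 * xZ 1 * sw 0 : SpG F 2) * (sw 0)⁻¹ * xZ (-1) = sw 0 * (xZ 1 * xZ (-1)) := by
      group
    rw [h2, xZ_mul, add_neg_cancel, xZ_zero, mul_one]
  have hw : ρ (sw 0) x = x := by
    rw [hword, map_mul, map_mul, Module.End.mul_apply, Module.End.mul_apply, hZ, hY, hZ]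
  have hw' : ρ ((sw 0)⁻¹) x = x := by
    conv_lhs => rw [← hw]
    rw [← Module.End.mul_apply, ← map_mul, inv_mul_cancel, map_one, Module.End.one_apply]
  have hA : ∀ c, ρ (xA 0 c) x = x := fun c => (hF1 x hx1).1 0 c
  have hU : ∀ c, ρ (uP 0 c) x = x := fun c => (hF1 x hx1).2 0 c
  have hUU : ∀ c, ρ (uPP 0 c) x = x := by
    intro c
    have h1 : (uPP 0 c : SpG F 2) = sw 0 * xA 0 (-c) * (sw 0)⁻¹ := by
      rw [sw0_xA, neg_neg, mul_inv_cancel_right]
    rw [h1, map_mul, map_mul, Module.End.mul_apply, Module.End.mul_apply, hw', hA, hw]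
  have hm : ρ (uPP 0 (-1) * uP 0 1) x = x := by
    rw [map_mul, Module.End.mul_apply, hU, hUU]
  have hz : ∀ c, ρ (xZ c) x = ψ (d * c) • x := by
    intro c
    conv_lhs => rw [← hm]
    rw [← Module.End.mul_apply, ← map_mul, ← mono_Xs, map_mul, Module.End.mul_apply, hxd, map_smul, hm]
  obtain ⟨c, hc⟩ : ∃ c, ψ (d * c) ≠ 1 := by
    have := hψ hd
    rw [AddChar.ne_one_iff] at this
    obtain ⟨c, hc⟩ := this
    exact ⟨c, by simpa [AddChar.mulShift_apply] using hc⟩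
  have h3 : (ψ (d * c) - 1) • x = 0 := by
    rw [sub_smul, one_smul, ← hz c, hZ c, sub_self]
  rcases smul_eq_zero.mp h3 with h | h
  · exact absurd (sub_eq_zero.mp h) hc
  · exact h

end Cfsg.Agent.Lib.Helper16.WGSXCB
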