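import Mathlib
import Cfsg.Agent.Lib.Helper10.WGDefs
import Cfsg.Agent.Lib.Helper16.WGSXCB

set_option autoImplicit false

namespace Cfsg.Agent.Lib.Helper16.WGSXCA

open Matrix Cfsg.Agent.Lib.Helper11.LS Cfsg.Agent.Lib.Helper10.WG

universe u

variable {F : Type*} [Field F]

@[simp] theorem bd_01 (c : F) (A : Matrix (Fin 1) (Fin 1) F) : bd c A 0 1 = 0 := rfl
@[simp] theorem bd_10 (c : F) (A : Matrix (Fin 1) (Fin 1) F) : bd c A 1 0 = 0 := rfl
@[simp] theorem bd_11 (c : F) (A : Matrix (Fin 1) (Fin 1) F) : bd c A 1 1 = A 0 0 := rfl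

theorem iota_Xs (ι : SpG F 1 →* SpG F 2) (hι : IsIota ι) (S : Matrix (Fin 1) (Fin 1) F)
    (hS : Sᵀ = S) : ι (Xs S hS) = Xs (single 1 1 (S 0 0)) (by simp) := by
  apply Subtype.ext
  rw [hι]
  show iotaMat (fromBlocks 1 S 0 1) = fromBlocks 1 (single 1 1 (S 0 0)) 0 1
  ext i j
  rcases i with i | i <;> rcases j with j | j <;> fin_cases i <;> fin_cases j <;>
    simp [iotaMat, single]

theorem iota_comm_xZ (ι : SpG F 1 →* SpG F 2) (hι : IsIota ι) (g : SpG F 1) (c : F) :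
    ι g * xZ c = xZ c * ι g := by
  apply Subtype.ext
  show (ι g).1 * fromBlocks 1 (single 0 0 c) 0 1 = fromBlocks 1 (single 0 0 c) 0 1 * (ι g).1
  rw [hι]
  ext i j
  rcases i with i | i <;> rcases j with j | j <;> fin_cases i <;> fin_cases j <;>
    simp [iotaMat, Matrix.mul_apply, Fintype.sum_sum_type, Matrix.one_apply, single]

theorem iota_comm_sw (ι : SpG F 1 →* SpG F 2) (hι : IsIota ι) (g : SpG F 1) :
    ι g * sw 0 = sw 0 * ι g := by
  apply Subtype.ext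
  show (ι g).1 * swMat 0 = swMat 0 * (ι g).1
  rw [hι]
  ext i j
  rcases i with i | i <;> rcases j with j | j <;> fin_cases i <;> fin_cases j <;>
    simp [iotaMat, swMat, Matrix.mul_apply, Fintype.sum_sum_type, Matrix.one_apply, single]

theorem Xs_comm {n : ℕ} (S S' : Matrix (Fin n) (Fin n) F) (hS : Sᵀ = S) (hS' : S'ᵀ = S') :
    Xs S hS * Xs S' hS' = Xs S' hS' * Xs S hS := by
  apply Subtype.ext
  show fromBlocks 1 S 0 1 * fromBlocks 1 S' 0 1 = fromBlocks 1 S' 0 1 * fromBlocks 1 S 0 1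
  rw [fromBlocks_multiply, fromBlocks_multiply]
  simp [add_comm]

theorem psi_inj (ψ : AddChar F ℂ) (hψ : ψ.IsPrimitive) (a b : F)
    (h : ∀ c : F, ψ (a * c) = ψ (b * c)) : a = b := by
  by_contra hne
  have h1 : a - b ≠ 0 := sub_ne_zero.mpr hne
  have h2 := hψ h1
  apply h2
  ext c
  rw [AddChar.mulShift_apply, AddChar.one_apply]
  have h3 : ψ ((a - b) * c) * ψ (b * c) = ψ (b * c) := by
    rw [← AddChar.map_add_eq_mul, ← h c]
    congr 1
    ring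
  have h4 : ψ (b * c) ≠ 0 := by
    have : ψ (b * c) * ψ (-(b * c)) = 1 := by
      rw [← AddChar.map_add_eq_mul, add_neg_cancel, AddChar.map_zero_eq_one]
    exact left_ne_zero_of_mul_eq_one this
  exact mul_right_cancel₀ h4 (by rw [h3, one_mul])

variable [Fintype F] [DecidableEq F] {V : Type u} [AddCommGroup V] [Module ℂ V]

/-- a non-zero vector with `Z`-eigenvalue `a` and `Q'`-weight `d` in a (W)-module of `Sp_4`:
`a d` is a square -/
theorem sq_of_weight (ψ : AddChar F ℂ) (hψ : ψ.IsPrimitive)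
    (ρ : Representation ℂ (SpG F 2) V) (hW : IsW ψ ρ)
    (hwmem : ∀ B v, wtProj ψ ρ B v ∈ wt ψ ρ B)
    (hwsum : ∀ v, ∑ B : SymM F 2, wtProj ψ ρ B.1 v = v)
    (hwcomm : ∀ (φ : V →ₗ[ℂ] V), (∀ S hS, Comm ρ ρ φ (Xs S hS)) →
      ∀ B v, φ (wtProj ψ ρ B v) = wtProj ψ ρ B (φ v))
    (a d : F) (y : V) (hy : y ≠ 0) (hya : y ∈ zsp ψ ρ a)
    (hyd : ∀ c : F, ρ (Xs (single 1 1 c) (by simp)) y = ψ (d * c) • y) :
    ∃ b : F, a * d = b * b := by
  obtain ⟨B, hB⟩ : ∃ B : SymM F 2, wtProj ψ ρ B.1 y ≠ 0 := by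
    by_contra hcon
    push Not at hcon
    apply hy
    rw [← hwsum y]
    exact Finset.sum_eq_zero (fun B _ => hcon B)
  set z := wtProj ψ ρ B.1 y with hz
  have hzB : z ∈ wt ψ ρ B.1 := hwmem _ _
  have hcomm : ∀ (S₀ : Matrix (Fin 2) (Fin 2) F) (hS₀ : S₀ᵀ = S₀),
      ρ (Xs S₀ hS₀) z = wtProj ψ ρ B.1 (ρ (Xs S₀ hS₀) y) := by
    intro S₀ hS₀
    apply hwcomm (ρ (Xs S₀ hS₀))
    intro S hS v
    rw [← Module.End.mul_apply, ← Module.End.mul_apply, ← map_mul, ← map_mul, Xs_comm]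
  have h00 : B.1 0 0 = a := by
    apply psi_inj ψ hψ
    intro c
    have h1 := hzB (single 0 0 c) (by simp)
    have h2 := hcomm (single 0 0 c) (by simp)
    have h3 : ρ (Xs (single 0 0 c) (by simp)) y = ψ (a * c) • y := hya c
    rw [h3, map_smul, ← hz] at h2
    rw [h2] at h1
    have h4 : trace (B.1 * single 0 0 c) = B.1 0 0 * c := by
      simp [trace, Matrix.mul_apply, single, Fin.sum_univ_two]
    rw [h4] at h1
    have h5 : (ψ (a * c) - ψ (B.1 0 0 * c)) • z = 0 := by rw [sub_smul, h1, sub_self]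
    rcases smul_eq_zero.mp h5 with h | h
    · exact (sub_eq_zero.mp h).symm
    · exact absurd h hB
  have h11 : B.1 1 1 = d := by
    apply psi_inj ψ hψ
    intro c
    have h1 := hzB (single 1 1 c) (by simp)
    have h2 := hcomm (single 1 1 c) (by simp)
    rw [hyd c, map_smul, ← hz] at h2
    rw [h2] at h1
    have h4 : trace (B.1 * single 1 1 c) = B.1 1 1 * c := by
      simp [trace, Matrix.mul_apply, single, Fin.sum_univ_two]
    rw [h4] at h1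
    have h5 : (ψ (d * c) - ψ (B.1 1 1 * c)) • z = 0 := by rw [sub_smul, h1, sub_self]
    rcases smul_eq_zero.mp h5 with h | h
    · exact (sub_eq_zero.mp h).symm
    · exact absurd h hB
  have hne : wt ψ ρ B.1 ≠ ⊥ := by
    intro h
    rw [h] at hzB
    exact hB ((Submodule.mem_bot ℂ).mp hzB)
  obtain ⟨α, v, hv⟩ := hW B.1 B.2 hne
  refine ⟨α * v 0 * v 1, ?_⟩
  rw [← h00, ← h11, hv]
  simp only [Matrix.smul_apply, vecMulVec_apply, smul_eq_mul]
  ring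


theorem zProj_comm_iota (ψ : AddChar F ℂ) (ι : SpG F 1 →* SpG F 2) (hι : IsIota ι)
    (ρ : Representation ℂ (SpG F 2) V) (a : F) (g : SpG F 1) (v : V) :
    zProj ψ ρ a (ρ (ι g) v) = ρ (ι g) (zProj ψ ρ a v) := by
  simp only [zProj, LinearMap.smul_apply, LinearMap.sum_apply, map_smul, map_sum]
  congr 1
  refine Finset.sum_congr rfl (fun c _ => ?_)
  congr 1
  rw [← Module.End.mul_apply, ← Module.End.mul_apply, ← map_mul, ← map_mul, iota_comm_xZ ι hι]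

/-- (SXC) with the wave-1 leaves (ZD), (WD), (F1) as hypotheses -/
theorem adm1_resY_of (ψ : AddChar F ℂ) (hψ : ψ.IsPrimitive)
    (ι : SpG F 1 →* SpG F 2) (hι : IsIota ι)
    (ρ : Representation ℂ (SpG F 2) V) (hW : IsW ψ ρ)
    (hinv : ∀ g, ∀ v ∈ Ysp ρ, ρ (ι g) v ∈ Ysp ρ)
    (hF1 : ∀ v ∈ Ysp ρ, (∀ (j : Fin 1) (c : F), ρ (xA j c) v = v) ∧
      (∀ (j : Fin 1) (c : F), ρ (uP j c) v = v))
    (hzmem : ∀ l v, zProj ψ ρ l v ∈ zsp ψ ρ l)
    (hzsum : ∀ v, ∑ l : F, zProj ψ ρ l v = v)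
    (hz0 : zsp ψ ρ 0 = Ysp ρ)
    (hwmem : ∀ B v, wtProj ψ ρ B v ∈ wt ψ ρ B)
    (hwsum : ∀ v, ∑ B : SymM F 2, wtProj ψ ρ B.1 v = v)
    (hwcomm : ∀ (φ : V →ₗ[ℂ] V), (∀ S hS, Comm ρ ρ φ (Xs S hS)) →
      ∀ B v, φ (wtProj ψ ρ B v) = wtProj ψ ρ B (φ v)) :
    Adm1 ψ (resY ρ ι hinv) := by
  intro N hN hirr d d' hd hd' hNd hNd'
  obtain ⟨x, hx, hx0⟩ := Submodule.exists_mem_ne_zero_of_ne_bot hNd
  obtain ⟨x', hx', hx'0⟩ := Submodule.exists_mem_ne_zero_of_ne_bot hNd'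
  rw [Submodule.mem_inf] at hx hx'
  have hQ : ∀ (e : F) (y : ↥(Ysp ρ)), y ∈ wt ψ (resY ρ ι hinv) (single 0 0 e) →
      ∀ c : F, ρ (Xs (single 1 1 c) (by simp)) (y : V) = ψ (e * c) • (y : V) := by
    intro e y hy c
    have h1 := hy (single 0 0 c) (by simp)
    have h2 := congrArg Subtype.val h1
    rw [resY_apply, iota_Xs ι hι] at h2
    have h3 : trace ((single 0 0 e : Matrix (Fin 1) (Fin 1) F) * single 0 0 c) = e * c := by
      simp [trace, Matrix.mul_apply, single]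
    rw [h3] at h2
    simpa using h2
  have hswc : ∀ g : SpG F 1, (sw 0 : SpG F 2)⁻¹ * ι g = ι g * (sw 0)⁻¹ := by
    intro g
    rw [inv_mul_eq_iff_eq_mul, ← mul_assoc, ← iota_comm_sw ι hι, mul_assoc, mul_inv_cancel, mul_one]
  have hTc : ∀ (a : F) (g : SpG F 1) (v : V),
      zProj ψ ρ a (ρ ((sw 0)⁻¹) (ρ (ι g) v)) = ρ (ι g) (zProj ψ ρ a (ρ ((sw 0)⁻¹) v)) := by
    intro a g v
    have h1 : ρ ((sw 0)⁻¹) (ρ (ι g) v) = ρ (ι g) (ρ ((sw 0)⁻¹) v) := by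
      rw [← Module.End.mul_apply, ← Module.End.mul_apply, ← map_mul, ← map_mul, hswc]
    rw [h1, zProj_comm_iota ψ ι hι]
  by_cases hex : ∃ a : F, a ≠ 0 ∧ zProj ψ ρ a (ρ ((sw 0)⁻¹) (x : V)) ≠ 0
  · obtain ⟨a, ha, hTx⟩ := hex
    -- the kernel of `T` on `N`
    let T : V →ₗ[ℂ] V := zProj ψ ρ a ∘ₗ ρ ((sw 0)⁻¹)
    let N' : Submodule ℂ ↥(Ysp ρ) := N ⊓ LinearMap.ker (T ∘ₗ (Ysp ρ).subtype)
    have hN'inv : ∀ g, ∀ v ∈ N', resY ρ ι hinv g v ∈ N' := by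
      intro g v hv
      rw [Submodule.mem_inf] at hv ⊢
      refine ⟨hN g v hv.1, ?_⟩
      rw [LinearMap.mem_ker] at hv ⊢
      show zProj ψ ρ a (ρ ((sw 0)⁻¹) ((resY ρ ι hinv g v : ↥(Ysp ρ)) : V)) = 0
      rw [resY_apply, hTc]
      have : zProj ψ ρ a (ρ ((sw 0)⁻¹) (v : V)) = 0 := hv.2
      rw [this, map_zero]
    have hN'bot : N' = ⊥ := by
      rcases hirr N' inf_le_left hN'inv with h | h
      · exact h
      · exfalso
        have : x ∈ N' := by rw [h]; exact hx.1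
        rw [Submodule.mem_inf, LinearMap.mem_ker] at this
        exact hTx this.2
    have hTx' : zProj ψ ρ a (ρ ((sw 0)⁻¹) (x' : V)) ≠ 0 := by
      intro h
      have : x' ∈ N' := by
        rw [Submodule.mem_inf, LinearMap.mem_ker]
        exact ⟨hx'.1, h⟩
      rw [hN'bot] at this
      exact hx'0 ((Submodule.mem_bot ℂ).mp this)
    -- `T` commutes with `Q'`
    have hTQ : ∀ (e : F) (y : ↥(Ysp ρ)), y ∈ wt ψ (resY ρ ι hinv) (single 0 0 e) → ∀ c : F,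
        ρ (Xs (single 1 1 c) (by simp)) (zProj ψ ρ a (ρ ((sw 0)⁻¹) (y : V))) =
          ψ (e * c) • zProj ψ ρ a (ρ ((sw 0)⁻¹) (y : V)) := by
      intro e y hy c
      have h1 : (Xs (single 1 1 c) (by simp) : SpG F 2) = ι (Xs (single 0 0 c) (by simp)) := by
        rw [iota_Xs ι hι]
        congr 1
      rw [h1, ← hTc, ← h1, hQ e y hy c, map_smul, map_smul]
    obtain ⟨b, hb⟩ := sq_of_weight ψ hψ ρ hW hwmem hwsum hwcomm a d _ hTx (hzmem _ _)
      (hTQ d x hx.2)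
    obtain ⟨b', hb'⟩ := sq_of_weight ψ hψ ρ hW hwmem hwsum hwcomm a d' _ hTx' (hzmem _ _)
      (hTQ d' x' hx'.2)
    refine ⟨b * b' / a, ?_⟩
    field_simp
    linear_combination (a * d') * hb + (b * b) * hb'
  · exfalso
    push Not at hex
    have h1' : ρ ((sw 0)⁻¹) (x : V) ∈ zsp ψ ρ 0 := by
      rw [← hzsum (ρ ((sw 0)⁻¹) (x : V)),
        Finset.sum_eq_single (0 : F) (fun a _ ha => hex a ha) (fun h => absurd (Finset.mem_univ _) h)]
      exact hzmem _ _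
    have h1 : ρ ((sw 0)⁻¹) (x : V) ∈ Ysp ρ := (SetLike.ext_iff.mp hz0 _).mp h1'
    have h2 := WGSXCB.sxc_fixed_zero_of ψ hψ ρ hF1 d hd (x : V) x.2 h1 (hQ d x hx.2)
    exact hx0 (Subtype.ext h2)

end Cfsg.Agent.Lib.Helper16.WGSXCA
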