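import Cfsg.Agent.Lib.Helper16.Minimal

set_option autoImplicit false
open Cfsg
open scoped Pointwise

namespace Cfsg.Agent.Lib.Helper16

variable {G : Type*} [Group G] {p : ℕ}

theorem map_conj_injective (g : G) {A B : Subgroup G}
    (h : A.map (MulAut.conj g).toMonoidHom = B.map (MulAut.conj g).toMonoidHom) : A = B :=
  Subgroup.map_injective (MulAut.conj g).injective h

theorem map_conj_inv_map_conj (Q : Subgroup G) (g : G) :
    (Q.map (MulAut.conj g).toMonoidHom).map (MulAut.conj g⁻¹).toMonoidHom = Q := by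
  rw [map_conj_map_conj, inv_mul_cancel, map_conj_one]

theorem map_conj_map_conj_inv (Q : Subgroup G) (g : G) :
    (Q.map (MulAut.conj g⁻¹).toMonoidHom).map (MulAut.conj g).toMonoidHom = Q := by
  rw [map_conj_map_conj, mul_inv_cancel, map_conj_one]

/-- Burnside-type fusion argument. -/
theorem mem_normalizer_of_sylow_fusion [Finite G] [Fact p.Prime] (S : Sylow p G) (Q : Subgroup G)
    (g : G) (h1 : Subgroup.normalizer ((S : Subgroup G) : Set G) ≤ Subgroup.normalizer (Q : Set G))
    (h2 : (S : Subgroup G) ≤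
      Subgroup.normalizer ((Q.map (MulAut.conj g).toMonoidHom : Subgroup G) : Set G)) :
    g ∈ Subgroup.normalizer (Q : Set G) := by
  have hSN : (S : Subgroup G) ≤ Subgroup.normalizer (Q : Set G) := Subgroup.le_normalizer.trans h1
  have h3 : (S : Subgroup G).map (MulAut.conj g⁻¹).toMonoidHom ≤ Subgroup.normalizer (Q : Set G) := by
    have := Subgroup.map_mono (f := (MulAut.conj g⁻¹).toMonoidHom) h2
    rwa [← normalizer_map_conj, map_conj_inv_map_conj] at this
  obtain ⟨n, hn, hle⟩ := exists_conj_le_sylow S hSN h3 (isPGroup_map_conj S.isPGroup' _)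
  rw [map_conj_map_conj] at hle
  have h4 : n * g⁻¹ ∈ Subgroup.normalizer (Q : Set G) := h1 (mem_normalizer_of_map_conj_le hle)
  have h5 : g⁻¹ ∈ Subgroup.normalizer (Q : Set G) := by
    have e : g⁻¹ = n⁻¹ * (n * g⁻¹) := by group
    rw [e]; exact Subgroup.mul_mem _ (Subgroup.inv_mem _ hn) h4
  simpa using Subgroup.inv_mem _ h5


/-- weakly closed ⟹ normalizers of overgroups. -/
theorem wc_imp_normalizer [Finite G] [Fact p.Prime] {Q : Subgroup G}
    (hwc : IsWeaklyClosedSubgroup p Q) (R : Subgroup G) (hR : IsPGroup p R) (hQR : Q ≤ R) :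
    Subgroup.normalizer (R : Set G) ≤ Subgroup.normalizer (Q : Set G) := by
  obtain ⟨T, hQT, hT⟩ := hwc
  intro g hg
  obtain ⟨y, -, hy⟩ := exists_conj_le_sylow T (le_top : (T : Subgroup G) ≤ ⊤) (le_top : R ≤ ⊤) hR
  have h1 : Q.map (MulAut.conj y).toMonoidHom = Q := hT y ((Subgroup.map_mono hQR).trans hy)
  have hRg : R.map (MulAut.conj g).toMonoidHom = R := Subgroup.mem_normalizer_iff_map_conj_eq.mp hg
  have h2 : Q.map (MulAut.conj (y * g)).toMonoidHom = Q := by
    apply hT
    rw [← map_conj_map_conj]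
    refine (Subgroup.map_mono ?_).trans hy
    rw [← hRg]; exact Subgroup.map_mono hQR
  rw [Subgroup.mem_normalizer_iff_map_conj_eq]
  apply map_conj_injective y
  show (Q.map (MulAut.conj g).toMonoidHom).map (MulAut.conj y).toMonoidHom = _
  rw [map_conj_map_conj, h2, h1]

theorem normalizer_imp_wc [Finite G] [Fact p.Prime] {Q : Subgroup G} (hQp : IsPGroup p Q)
    (hb : ∀ R : Subgroup G, IsPGroup p R → Q ≤ R →
      Subgroup.normalizer (R : Set G) ≤ Subgroup.normalizer (Q : Set G)) :
    IsWeaklyClosedSubgroup p Q := by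
  obtain ⟨T, hQT⟩ := hQp.exists_le_sylow
  refine ⟨T, hQT, ?_⟩
  intro g hg
  have h1 := hb T T.isPGroup' hQT
  have h2 : (T : Subgroup G) ≤
      Subgroup.normalizer ((Q.map (MulAut.conj g).toMonoidHom : Subgroup G) : Set G) := by
    have h3 : Q ≤ (T : Subgroup G).map (MulAut.conj g⁻¹).toMonoidHom := by
      have := Subgroup.map_mono (f := (MulAut.conj g⁻¹).toMonoidHom) hg
      rwa [map_conj_inv_map_conj] at this
    have h4 := hb _ (isPGroup_map_conj T.isPGroup' g⁻¹) h3
    have h5 := Subgroup.map_mono (f := (MulAut.conj g).toMonoidHom) h4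
    rw [← normalizer_map_conj, ← normalizer_map_conj, map_conj_map_conj_inv] at h5
    exact Subgroup.le_normalizer.trans h5
  exact Subgroup.mem_normalizer_iff_map_conj_eq.mp (mem_normalizer_of_sylow_fusion T Q g h1 h2)

theorem wc_imp_comm [Finite G] [Fact p.Prime] {Q : Subgroup G} (hQp : IsPGroup p Q)
    (hwc : IsWeaklyClosedSubgroup p Q) (g : G)
    (h : ⁅Q, Q.map (MulAut.conj g).toMonoidHom⁆ ≤ Q ⊓ Q.map (MulAut.conj g).toMonoidHom) :
    Q.map (MulAut.conj g).toMonoidHom = Q := by
  have h1 : Q.map (MulAut.conj g).toMonoidHom ≤ Subgroup.normalizer (Q : Set G) :=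
    Subgroup.le_normalizer_iff_commutator_le_left.mpr (h.trans inf_le_left)
  have hD : IsPGroup p ↥(Q.map (MulAut.conj g).toMonoidHom ⊔ Q) :=
    IsPGroup.to_sup_of_normal_right' (isPGroup_map_conj hQp g) hQp h1
  obtain ⟨T, hQT, hT⟩ := hwc
  obtain ⟨y, -, hy⟩ := exists_conj_le_sylow T (le_top : (T : Subgroup G) ≤ ⊤)
    (le_top : Q.map (MulAut.conj g).toMonoidHom ⊔ Q ≤ ⊤) hD
  have h3 : Q.map (MulAut.conj y).toMonoidHom = Q :=
    hT y ((Subgroup.map_mono le_sup_right).trans hy)
  have h4 : Q.map (MulAut.conj (y * g)).toMonoidHom = Q := by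
    apply hT
    rw [← map_conj_map_conj]
    exact (Subgroup.map_mono le_sup_left).trans hy
  apply map_conj_injective y
  rw [map_conj_map_conj, h4, h3]

theorem comm_imp_normalizer [Finite G] [Fact p.Prime] {Q : Subgroup G}
    (ha : ∀ g : G, ⁅Q, Q.map (MulAut.conj g).toMonoidHom⁆ ≤ Q ⊓ Q.map (MulAut.conj g).toMonoidHom →
      Q.map (MulAut.conj g).toMonoidHom = Q)
    (R : Subgroup G) (hR : IsPGroup p R) (hQR : Q ≤ R) :
    Subgroup.normalizer (R : Set G) ≤ Subgroup.normalizer (Q : Set G) := by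
  -- key: if Q ≤ K ≤ N(Q) and x normalizes K then x normalizes Q
  have key : ∀ K : Subgroup G, Q ≤ K → K ≤ Subgroup.normalizer (Q : Set G) →
      ∀ x ∈ Subgroup.normalizer (K : Set G), x ∈ Subgroup.normalizer (Q : Set G) := by
    intro K hQK hKN x hx
    have hKx : K.map (MulAut.conj x).toMonoidHom = K := Subgroup.mem_normalizer_iff_map_conj_eq.mp hx
    have h1 : Q.map (MulAut.conj x).toMonoidHom ≤ K := by rw [← hKx]; exact Subgroup.map_mono hQK
    have h2 : K ≤ Subgroup.normalizer ((Q.map (MulAut.conj x).toMonoidHom : Subgroup G) : Set G) := by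
      rw [normalizer_map_conj]
      have := Subgroup.map_mono (f := (MulAut.conj x).toMonoidHom) hKN
      rwa [hKx] at this
    rw [Subgroup.mem_normalizer_iff_map_conj_eq]
    apply ha
    apply le_inf
    · exact Subgroup.le_normalizer_iff_commutator_le_left.mp (h1.trans hKN)
    · exact Subgroup.le_normalizer_iff_commutator_le_right.mp (hQK.trans h2)
  have hRN : R ≤ Subgroup.normalizer (Q : Set G) := by
    by_contra hne
    have hne' : R ⊓ Subgroup.normalizer (Q : Set G) ≠ R := by
      intro h; apply hne; rw [← h]; exact inf_le_right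
    obtain ⟨x, hxR, hxN, hxn⟩ := exists_mem_normalizer_not_mem hR inf_le_left hne'
    have := key (R ⊓ Subgroup.normalizer (Q : Set G)) (le_inf hQR Subgroup.le_normalizer)
      inf_le_right x hxN
    exact hxn ⟨hxR, this⟩
  exact key R hQR hRN

end Cfsg.Agent.Lib.Helper16
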