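import Cfsg.Agent.Lib.Helper16.Large

set_option autoImplicit false
open Cfsg
open scoped Pointwise commutatorElement

namespace Cfsg.Agent.Lib.Helper16

variable {G : Type*} [Group G] {p : ℕ}

/-- A weakly closed subgroup `Q` equals any of its conjugates lying with it in a common
`p`-subgroup. -/
theorem wc_eq_of_le_pgroup [Finite G] [Fact p.Prime] {Q : Subgroup G}
    (hwc : IsWeaklyClosedSubgroup p Q) {R : Subgroup G} (hR : IsPGroup p R) (hQR : Q ≤ R) (g : G)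
    (hg : Q.map (MulAut.conj g).toMonoidHom ≤ R) : Q.map (MulAut.conj g).toMonoidHom = Q := by
  obtain ⟨T, hQT, hT⟩ := hwc
  obtain ⟨y, -, hy⟩ := exists_conj_le_sylow T (le_top : (T : Subgroup G) ≤ ⊤) (le_top : R ≤ ⊤) hR
  have h3 : Q.map (MulAut.conj y).toMonoidHom = Q := hT y ((Subgroup.map_mono hQR).trans hy)
  have h4 : Q.map (MulAut.conj (y * g)).toMonoidHom = Q := by
    apply hT
    rw [← map_conj_map_conj]
    exact (Subgroup.map_mono hg).trans hy
  apply map_conj_injective y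
  rw [map_conj_map_conj, h4, h3]

/-- `H`-conjugates of a weakly closed `Q` inside `K ≥ Q` are `K`-conjugates. -/
theorem wc_conj_in_subgroup [Finite G] [Fact p.Prime] {Q : Subgroup G} (hQp : IsPGroup p Q)
    (hwc : IsWeaklyClosedSubgroup p Q) {K : Subgroup G} (hQK : Q ≤ K) (g : G)
    (hg : Q.map (MulAut.conj g).toMonoidHom ≤ K) :
    ∃ k ∈ K, Q.map (MulAut.conj g).toMonoidHom = Q.map (MulAut.conj k).toMonoidHom := by
  obtain ⟨T', hT'⟩ := (hQp.comap_subtype : IsPGroup p (Q.subgroupOf K)).exists_le_sylow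
  set T1 : Subgroup G := (T' : Subgroup K).map K.subtype with hT1
  have hT1p : IsPGroup p T1 := T'.isPGroup'.map _
  have hT1K : T1 ≤ K := Subgroup.map_subtype_le _
  have hQT1 : Q ≤ T1 := by
    intro x hx
    exact ⟨⟨x, hQK hx⟩, hT' (by rw [Subgroup.mem_comap]; exact hx), rfl⟩
  obtain ⟨k, hk, hle⟩ := exists_conj_le_of_maximal hg (isPGroup_map_conj hQp g) hT1K hT1p
    (fun R'' h1 h2 h3 => sylow_map_maximal T' h1 h2 h3)
  rw [map_conj_map_conj] at hle
  have h1 := wc_eq_of_le_pgroup hwc hT1p hQT1 (k * g) hle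
  refine ⟨k⁻¹, K.inv_mem hk, ?_⟩
  apply map_conj_injective k
  rw [map_conj_map_conj, map_conj_map_conj, h1, mul_inv_cancel, map_conj_one]


theorem wc_normal_decomp [Finite G] [Fact p.Prime] (Q : Subgroup G) (hQp : IsPGroup p ↥Q)
    (hwc : Cfsg.IsWeaklyClosedSubgroup p Q) (N' : Subgroup G) [hN' : N'.Normal] :
    (∀ n : G, n ∈ N' → ∃ a ∈ N' ⊓ Subgroup.normalizer ((Q : Subgroup G) : Set G),
      ∃ b ∈ ⁅N', Q⁆, n = a * b) ∧
    (∀ c : G, c ∈ ⁅N', Q⁆ → ∃ a ∈ Q ⊓ ⁅N', Q⁆, ∃ b ∈ ⁅⁅N', Q⁆, Q⁆, c = a * b) := by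
  set M : Subgroup G := ⁅N', Q⁆ with hM
  have hMN' : M ≤ N' := Subgroup.commutator_le_left N' Q
  have hN'M : N' ≤ Subgroup.normalizer (M : Set G) := Subgroup.normalizer_commutator_ge_left N' Q
  have hQM : Q ≤ Subgroup.normalizer (M : Set G) := Subgroup.normalizer_commutator_ge_right N' Q
  have part1 : ∀ n : G, n ∈ N' → ∃ a ∈ N' ⊓ Subgroup.normalizer ((Q : Subgroup G) : Set G),
      ∃ b ∈ M, n = a * b := by
    intro n hn
    have hQn : Q.map (MulAut.conj n).toMonoidHom ≤ M ⊔ Q := by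
      rintro _ ⟨q, hq, rfl⟩
      simp only [MulEquiv.coe_toMonoidHom, MulAut.conj_apply]
      have e : n * q * n⁻¹ = ⁅n, q⁆ * q := by rw [commutatorElement_def]; group
      rw [e]
      exact Subgroup.mul_mem _ (Subgroup.mem_sup_left (Subgroup.commutator_mem_commutator hn hq))
        (Subgroup.mem_sup_right hq)
    obtain ⟨k, hk, hk2⟩ := wc_conj_in_subgroup hQp hwc (le_sup_right : Q ≤ M ⊔ Q) n hQn
    have hk' : k ∈ ((M ⊔ Q : Subgroup G) : Set G) := hk
    rw [Subgroup.coe_mul_of_right_le_normalizer_left M Q hQM] at hk'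
    obtain ⟨c, hc, q, hq, rfl⟩ := hk'
    have hq' : Q.map (MulAut.conj q).toMonoidHom = Q := map_conj_eq_self_of_mem hq
    rw [← map_conj_map_conj, hq'] at hk2
    -- a := c⁻¹ * n normalizes Q
    have ha : c⁻¹ * n ∈ Subgroup.normalizer (Q : Set G) := by
      rw [Subgroup.mem_normalizer_iff_map_conj_eq]
      show Q.map (MulAut.conj (c⁻¹ * n)).toMonoidHom = Q
      rw [← map_conj_map_conj, hk2, map_conj_map_conj, inv_mul_cancel, map_conj_one]
    have haN : c⁻¹ * n ∈ N' := N'.mul_mem (N'.inv_mem (hMN' hc)) hn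
    refine ⟨c⁻¹ * n, ⟨haN, ha⟩, (c⁻¹ * n)⁻¹ * c * (c⁻¹ * n), ?_, by group⟩
    have h1 := (Subgroup.mem_normalizer_iff.mp (Subgroup.inv_mem _ (hN'M haN)) c).mp hc
    simpa using h1
  refine ⟨part1, ?_⟩
  set M2 : Subgroup G := ⁅M, Q⁆ with hM2
  have hQM2 : Q ≤ Subgroup.normalizer (M2 : Set G) := Subgroup.normalizer_commutator_ge_right M Q
  have hMle : M ≤ (Q ⊓ M) ⊔ M2 := by
    rw [hM, Subgroup.commutator_le]
    intro n hn q hq
    obtain ⟨a, ⟨haN, haQ⟩, b, hb, rfl⟩ := part1 n hn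
    rw [commutatorElement_mul_left_eq_conj_mul]
    have h1 : ⁅b, q⁆ ∈ M2 := Subgroup.commutator_mem_commutator hb hq
    have h2 : a * ⁅b, q⁆ * a⁻¹ ∈ M2 := by
      have hMa : M.map (MulAut.conj a).toMonoidHom = M :=
        Subgroup.mem_normalizer_iff_map_conj_eq.mp (hN'M haN)
      have hQa : Q.map (MulAut.conj a).toMonoidHom = Q :=
        Subgroup.mem_normalizer_iff_map_conj_eq.mp haQ
      have h3 : M2.map (MulAut.conj a).toMonoidHom = M2 := by
        rw [hM2, Subgroup.map_commutator, hMa, hQa]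
      rw [← h3]
      exact ⟨⁅b, q⁆, h1, rfl⟩
    have h4 : ⁅a, q⁆ ∈ Q ⊓ M := by
      refine ⟨?_, Subgroup.commutator_mem_commutator haN hq⟩
      have h5 : a * q * a⁻¹ ∈ Q := (Subgroup.mem_normalizer_iff.mp haQ q).mp hq
      have e : ⁅a, q⁆ = a * q * a⁻¹ * q⁻¹ := commutatorElement_def a q
      rw [e]; exact Q.mul_mem h5 (Q.inv_mem hq)
    exact Subgroup.mul_mem _ (Subgroup.mem_sup_right h2) (Subgroup.mem_sup_left h4)
  intro c hc
  have hc' : c ∈ (((Q ⊓ M) ⊔ M2 : Subgroup G) : Set G) := hMle hc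
  rw [Subgroup.coe_mul_of_left_le_normalizer_right (Q ⊓ M) M2 (inf_le_left.trans hQM2)] at hc'
  obtain ⟨a, ha, b, hb, rfl⟩ := hc'
  exact ⟨a, ha, b, hb, rfl⟩

end Cfsg.Agent.Lib.Helper16
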