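import Mathlib
import Cfsg.Prelude.Def_LocalStructure
import Cfsg.Prelude.Def_Amalgam
import Cfsg.Prelude.Def_Solvable
import Cfsg.Prelude.Def_Transfer
import Cfsg.Agent.Lib.Helper16.Minimal2
import Cfsg.Agent.Lib.Helper16.PCore
import Cfsg.Agent.Lib.Helper16.Frattini
import Cfsg.Agent.Lib.Helper1.PGroup
import Cfsg.Agent.Lib.Helper8.SupNormalizer

set_option autoImplicit false
open Cfsg
open scoped Pointwise commutatorElement

namespace Cfsg.Agent.Lib.Helper16

variable {G : Type*} [Group G] {p : ℕ}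

/-- Two abelian subgroups `B`, `C` with `⁅B, C⁆ ≤ N` for a normal `N`: then `⁅B ⊔ C, B ⊔ C⁆ ≤ N`. -/
theorem commutator_sup_sup_le {B C N : Subgroup G} (hN : N.Normal)
    (hB : ∀ x ∈ B, ∀ y ∈ B, x * y = y * x) (hC : ∀ x ∈ C, ∀ y ∈ C, x * y = y * x)
    (hBC : ⁅B, C⁆ ≤ N) : ⁅B ⊔ C, B ⊔ C⁆ ≤ N := by
  have hnorm : ∀ X : Subgroup G, X ≤ Subgroup.normalizer (N : Set G) := by
    intro X
    rw [Subgroup.normalizer_eq_top_iff.mpr hN]
    exact le_top
  have hBB : ⁅B, B⁆ ≤ N := by
    rw [Subgroup.commutator_le]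
    intro x hx y hy
    rw [commutatorElement_def, hB x hx y hy]
    simp
  have hCC : ⁅C, C⁆ ≤ N := by
    rw [Subgroup.commutator_le]
    intro x hx y hy
    rw [commutatorElement_def, hC x hx y hy]
    simp
  have hCB : ⁅C, B⁆ ≤ N := by rw [Subgroup.commutator_comm]; exact hBC
  have h1 : ⁅B, B ⊔ C⁆ ≤ N := by
    rw [sup_eq_iSup]
    apply commutator_iSup_le (fun i => hnorm _)
    intro i; cases i <;> simpa
  have h2 : ⁅C, B ⊔ C⁆ ≤ N := by
    rw [sup_eq_iSup]
    apply commutator_iSup_le (fun i => hnorm _)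
    intro i; cases i <;> simpa
  rw [Subgroup.commutator_comm]
  rw [sup_eq_iSup]
  apply commutator_iSup_le (fun i => hnorm _)
  intro i
  cases i
  · simp only [Bool.cond_false]
    rw [← sup_eq_iSup]; rw [Subgroup.commutator_comm]; exact h2
  · simp only [Bool.cond_true]
    rw [← sup_eq_iSup]; rw [Subgroup.commutator_comm]; exact h1


theorem yMin_structure [Finite G] [Fact p.Prime] {Y : Subgroup G} {g : G}
    (hYc : ∀ x ∈ Y, ∀ y ∈ Y, x * y = y * x) (hYp : ∀ y ∈ Y, y ^ p = 1)
    (hgen : Y ⊔ Y.map (MulAut.conj g).toMonoidHom = ⊤)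
    (hint : Y ⊓ Y.map (MulAut.conj g).toMonoidHom = Y ⊓ Subgroup.center G)
    (hOY : pCore p G ≤ Subgroup.normalizer (Y : Set G))
    (A : Subgroup G)
    (hA : A = Subgroup.normalClosure (((pCore p G ⊓ Y : Subgroup G)) : Set G)) :
    A = (pCore p G ⊓ Y) ⊔ (pCore p G ⊓ Y.map (MulAut.conj g).toMonoidHom) ∧
    A ≤ pCore p G ∧
    ⁅pCore p G ⊓ Y, pCore p G ⊓ Y.map (MulAut.conj g).toMonoidHom⁆ ≤ Y ⊓ Subgroup.center G ∧
    ⁅A, A⁆ ≤ ⁅pCore p G ⊓ Y, pCore p G ⊓ Y.map (MulAut.conj g).toMonoidHom⁆ ∧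
    Y ⊓ Subgroup.center G ≤ pCore p G ⊓ Y ∧
    A ⊓ Subgroup.center G ≤ Y := by
  have hDn : (pCore p G).Normal := inferInstance
  have hYgc : ∀ x ∈ Y.map (MulAut.conj g).toMonoidHom,
      ∀ y ∈ Y.map (MulAut.conj g).toMonoidHom, x * y = y * x := by
    rintro _ ⟨x, hx, rfl⟩ _ ⟨y, hy, rfl⟩
    simp only [MulEquiv.coe_toMonoidHom, ← map_mul]
    rw [hYc x hx y hy]
  have hDYg : pCore p G ≤ Subgroup.normalizer
      ((Y.map (MulAut.conj g).toMonoidHom : Subgroup G) : Set G) := by
    rw [normalizer_map_conj]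
    intro d hd
    rw [mem_map_conj_iff]
    apply hOY
    have := hDn.conj_mem d hd g⁻¹
    simpa using this
  have hcomDY : ⁅pCore p G, Y⁆ ≤ pCore p G ⊓ Y :=
    le_inf (Subgroup.commutator_le_left _ _)
      (Subgroup.le_normalizer_iff_commutator_le_right.mp hOY)
  have hcomDYg : ⁅pCore p G, Y.map (MulAut.conj g).toMonoidHom⁆ ≤
      pCore p G ⊓ Y.map (MulAut.conj g).toMonoidHom :=
    le_inf (Subgroup.commutator_le_left _ _)
      (Subgroup.le_normalizer_iff_commutator_le_right.mp hDYg)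
  set D := pCore p G with hD
  set Yg := Y.map (MulAut.conj g).toMonoidHom with hYg
  set B := D ⊓ Y with hB
  set Bg := D ⊓ Yg with hBg
  have hYD_B : ⁅Y, D⁆ ≤ B := by rw [Subgroup.commutator_comm]; exact hcomDY
  have hYgD_Bg : ⁅Yg, D⁆ ≤ Bg := by rw [Subgroup.commutator_comm]; exact hcomDYg
  -- Y normalizes K = B ⊔ Bg
  have hYK : ⁅Y, B ⊔ Bg⁆ ≤ B ⊔ Bg := by
    have : ⁅Y, ⨆ b : Bool, cond b B Bg⁆ ≤ B ⊔ Bg := by
      apply commutator_iSup_le
      · intro i; cases i
        · exact le_sup_right.trans Subgroup.le_normalizer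
        · exact le_sup_left.trans Subgroup.le_normalizer
      · intro i; cases i
        · exact ((Subgroup.commutator_mono le_rfl inf_le_left).trans hYD_B).trans le_sup_left
        · exact ((Subgroup.commutator_mono le_rfl inf_le_left).trans hYD_B).trans le_sup_left
    rwa [← sup_eq_iSup] at this
  have hYgK : ⁅Yg, B ⊔ Bg⁆ ≤ B ⊔ Bg := by
    have : ⁅Yg, ⨆ b : Bool, cond b B Bg⁆ ≤ B ⊔ Bg := by
      apply commutator_iSup_le
      · intro i; cases i
        · exact le_sup_right.trans Subgroup.le_normalizer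
        · exact le_sup_left.trans Subgroup.le_normalizer
      · intro i; cases i
        · exact ((Subgroup.commutator_mono le_rfl inf_le_left).trans hYgD_Bg).trans le_sup_right
        · exact ((Subgroup.commutator_mono le_rfl inf_le_left).trans hYgD_Bg).trans le_sup_right
    rwa [← sup_eq_iSup] at this
  have hKn : (B ⊔ Bg).Normal := by
    rw [← Subgroup.normalizer_eq_top_iff, eq_top_iff, ← hgen]
    exact sup_le (Subgroup.le_normalizer_iff_commutator_le_right.mpr hYK)
      (Subgroup.le_normalizer_iff_commutator_le_right.mpr hYgK)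
  have hBA : B ≤ A := by rw [hA]; exact Subgroup.le_normalClosure
  have hAn : A.Normal := by rw [hA]; exact Subgroup.normalClosure_normal
  have hBgA : Bg ≤ A := by
    rintro x ⟨hxD, y, hy, rfl⟩
    have hyD : y ∈ D := by
      have := hDn.conj_mem _ hxD g⁻¹
      simpa [mul_assoc] using this
    exact hAn.conj_mem y (hBA ⟨hyD, hy⟩) g
  have hAK : A = B ⊔ Bg := by
    apply le_antisymm
    · rw [hA]; exact Subgroup.normalClosure_le_normal (le_sup_left : B ≤ B ⊔ Bg)
    · exact sup_le hBA hBgA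
  have hAD : A ≤ D := by rw [hAK]; exact sup_le inf_le_left inf_le_left
  have hBBg : ⁅B, Bg⁆ ≤ Y ⊓ Subgroup.center G := by
    rw [← hint]
    apply le_inf
    · exact ((Subgroup.commutator_mono inf_le_right inf_le_left).trans hYD_B).trans inf_le_right
    · exact ((Subgroup.commutator_mono inf_le_left inf_le_right).trans hcomDYg).trans inf_le_right
  have hNn : (⁅B, Bg⁆).Normal := by
    constructor
    intro n hn x
    have hc : n ∈ Subgroup.center G := (hBBg hn).2
    have : x * n * x⁻¹ = n := by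
      rw [Subgroup.mem_center_iff.mp hc x]; group
    rw [this]; exact hn
  have hAA : ⁅A, A⁆ ≤ ⁅B, Bg⁆ := by
    rw [hAK]
    apply commutator_sup_sup_le hNn _ _ le_rfl
    · intro x hx y hy; exact hYc x hx.2 y hy.2
    · intro x hx y hy; exact hYgc x hx.2 y hy.2
  have hYZ : Y ⊓ Subgroup.center G ≤ B := by
    apply le_inf _ inf_le_left
    apply le_pCore
    · constructor
      intro n hn x
      have : x * n * x⁻¹ = n := by
        rw [Subgroup.mem_center_iff.mp hn.2 x]; group
      rw [this]; exact hn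
    · intro ⟨y, hy⟩
      refine ⟨1, ?_⟩
      ext
      simpa using hYp y hy.1
  refine ⟨hAK, hAD, hBBg, hAA, hYZ, ?_⟩
  rintro a ⟨haA, haZ⟩
  have haA' : a ∈ B ⊔ Bg := hAK ▸ haA
  have hBgN : Bg ≤ Subgroup.normalizer (B : Set G) := by
    rw [Subgroup.le_normalizer_iff_commutator_le_left]
    exact (Subgroup.commutator_mono inf_le_right inf_le_left).trans hYD_B
  obtain ⟨b, hb, b', hb', rfl⟩ := Cfsg.Agent.Lib.Helper8.mem_sup_of_le_normalizer hBgN haA'
  -- b' centralizes Y and Yg
  have hb'Y : b' ∈ Subgroup.centralizer (Y : Set G) := by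
    rw [Subgroup.mem_centralizer_iff]
    intro y hy
    have h1 : y * b = b * y := hYc y hy b hb.2
    have h2 : y * (b * b') = (b * b') * y := Subgroup.mem_center_iff.mp haZ y
    have : b * (y * b') = b * (b' * y) := by
      calc b * (y * b') = (b * y) * b' := by group
        _ = (y * b) * b' := by rw [h1]
        _ = y * (b * b') := by group
        _ = (b * b') * y := h2
        _ = b * (b' * y) := by group
    exact mul_left_cancel this
  have hb'Yg : b' ∈ Subgroup.centralizer (Yg : Set G) := by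
    rw [Subgroup.mem_centralizer_iff]
    intro y hy
    exact hYgc y hy b' hb'.2
  have hb'Z : b' ∈ Subgroup.center G := by
    have := sup_le_centralizer_singleton hb'Y hb'Yg
    rw [hgen] at this
    rw [Subgroup.mem_center_iff]
    intro h
    exact (Subgroup.mem_centralizer_iff.mp this) h (Subgroup.mem_top h)
  have hb'inY : b' ∈ Y := by
    obtain ⟨y, hy, hyb⟩ := hb'.2
    have e : y = b' := by
      have h1 : g * y * g⁻¹ = b' := by simpa using hyb
      have h2 : g * b' = b' * g := Subgroup.mem_center_iff.mp hb'Z g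
      calc y = g⁻¹ * (g * y * g⁻¹) * g := by group
        _ = g⁻¹ * b' * g := by rw [h1]
        _ = g⁻¹ * (b' * g) := by group
        _ = g⁻¹ * (g * b') := by rw [h2]
        _ = b' := by group
    rw [← e]; exact hy
  exact Y.mul_mem hb.2 hb'inY


/-- A finite `p`-group generated by elements of order dividing `p` has `Φ(P) = P'`. -/
theorem frattini_eq_commutator_of_generated {P : Type*} [Group P] [Finite P] [Fact p.Prime]
    (hP : IsPGroup p P) (S : Set P) (hS : Subgroup.closure S = ⊤) (hSp : ∀ s ∈ S, s ^ p = 1) :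
    frattini P = commutator P := by
  apply le_antisymm _ (Cfsg.Agent.Lib.Helper1.IsPGroup.commutator_le_frattini hP)
  have hcomm : ∀ a b : P ⧸ commutator P, a * b = b * a := by
    intro a b
    obtain ⟨a, rfl⟩ := QuotientGroup.mk_surjective a
    obtain ⟨b, rfl⟩ := QuotientGroup.mk_surjective b
    rw [← QuotientGroup.mk_mul, ← QuotientGroup.mk_mul, QuotientGroup.eq]
    have : (a * b)⁻¹ * (b * a) = ⁅b⁻¹, a⁻¹⁆ := by
      rw [commutatorElement_def]; group
    rw [this]
    exact Subgroup.commutator_mem_commutator (Subgroup.mem_top _) (Subgroup.mem_top _)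
  have hexp : ∀ e : P ⧸ commutator P, e ^ p = 1 := by
    intro e
    obtain ⟨x, rfl⟩ := QuotientGroup.mk_surjective e
    have hx : x ∈ Subgroup.closure S := by rw [hS]; exact Subgroup.mem_top x
    induction hx using Subgroup.closure_induction with
    | mem s hs => rw [← QuotientGroup.mk_pow, hSp s hs]; rfl
    | one => simp
    | mul a b _ _ ha hb =>
      rw [QuotientGroup.mk_mul, (show Commute (a : P ⧸ commutator P) (b : P ⧸ commutator P) from hcomm _ _).mul_pow, ha, hb, one_mul]
    | inv a _ ha => rw [QuotientGroup.mk_inv, inv_pow, ha, inv_one]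
  have := frattini_le_ker' hcomm hexp (QuotientGroup.mk' (commutator P))
  rwa [QuotientGroup.ker_mk'] at this

end Cfsg.Agent.Lib.Helper16
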