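import Mathlib
import Cfsg.Prelude.Def_LocalStructure
import Cfsg.Prelude.Def_Amalgam
import Cfsg.Prelude.Def_Solvable
import Cfsg.Prelude.Def_Transfer
import Cfsg.Agent.Lib.Helper16.PReducedSubnormal
import Cfsg.Agent.Lib.Helper16.PReduced3
import Cfsg.Agent.Lib.Helper16.WCPair
import Cfsg.Agent.Lib.Helper16.FrakMExists
import Cfsg.Agent.Lib.Helper10.PGroupBasic

/-! The largest `p`-reduced normal subgroup `Y_L` of a subnormal subgroup `L` (no
characteristic `p` hypothesis), with a module form of Thompson's `A × B`-lemma (helper16). -/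

set_option autoImplicit false
open Cfsg
open scoped Pointwise commutatorElement

namespace Cfsg.Agent.Lib.Helper16

variable {G : Type*} [Group G] {p : ℕ}

theorem isPGroup_of_isElementaryAbelian {V : Subgroup G} (hVe : IsElementaryAbelian p V) :
    IsPGroup p V := by
  intro v
  refine ⟨1, ?_⟩
  apply Subtype.ext
  simpa using hVe.2 v v.2

theorem comm_of_isElementaryAbelian {V : Subgroup G} (hVe : IsElementaryAbelian p V) :
    ∀ a ∈ V, ∀ b ∈ V, a * b = b * a := by
  intro a ha b hb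
  exact congrArg Subtype.val (hVe.1.is_comm.comm ⟨a, ha⟩ ⟨b, hb⟩)

/-- without the characteristic `p` hypothesis. -/
theorem pReduced_le_center_pCore' [Fact p.Prime] {V : Subgroup G}
    (hV : IsPReducedNormal p V) :
    V ≤ pCore p G ⊓ Subgroup.centralizer (pCore p G : Set G) := by
  have h1 := pReduced_pCore_le_centralizer hV
  have h2 : V ≤ Subgroup.centralizer (pCore p G : Set G) := by
    intro v hv
    rw [Subgroup.mem_centralizer_iff]
    intro x hx
    exact ((Subgroup.mem_centralizer_iff.mp (h1 hx)) v hv).symm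
  exact le_inf (le_pCore hV.1 (isPGroup_of_isElementaryAbelian hV.2.1)) h2

theorem pReduced_sup' [Fact p.Prime] {V W : Subgroup G}
    (hV : IsPReducedNormal p V) (hW : IsPReducedNormal p W) : IsPReducedNormal p (V ⊔ W) := by
  have hVZ := pReduced_le_center_pCore' hV
  have hWZ := pReduced_le_center_pCore' hW
  obtain ⟨hVn, hVe, hVPR⟩ := (isPReducedNormal_iff V).mp hV
  obtain ⟨hWn, hWe, hWPR⟩ := (isPReducedNormal_iff W).mp hW
  rw [isPReducedNormal_iff]
  have hle : V ⊔ W ≤ pCore p G ⊓ Subgroup.centralizer (pCore p G : Set G) := sup_le hVZ hWZ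
  have hcomm : ∀ a ∈ V ⊔ W, ∀ b ∈ V ⊔ W, a * b = b * a := by
    intro a ha b hb
    have h1 := (hle ha).2
    have h2 := (hle hb).1
    exact ((Subgroup.mem_centralizer_iff.mp h1) b h2).symm
  refine ⟨inferInstance, ⟨⟨⟨fun a b => Subtype.ext (hcomm a a.2 b b.2)⟩⟩, ?_⟩, ?_⟩
  · intro a ha
    rw [Subgroup.sup_eq_closure] at ha
    induction ha using Subgroup.closure_induction with
    | mem x hx =>
      rcases hx with hx | hx
      · exact hVe.2 x hx
      · exact hWe.2 x hx
    | one => exact one_pow p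
    | mul x y hx hy hx' hy' =>
      rw [← Subgroup.sup_eq_closure] at hx hy
      have hc : Commute x y := hcomm x hx y hy
      rw [hc.mul_pow, hx', hy', one_mul]
    | inv x _ hx' => rw [inv_pow, hx', inv_one]
  · intro D hD hDp
    have h1 : D ≤ Subgroup.centralizer (V : Set G) := by
      apply hVPR D hD
      intro d hd
      obtain ⟨k, hk⟩ := hDp d hd
      exact ⟨k, Subgroup.centralizer_le (le_sup_left : V ≤ V ⊔ W) hk⟩
    have h2 : D ≤ Subgroup.centralizer (W : Set G) := by
      apply hWPR D hD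
      intro d hd
      obtain ⟨k, hk⟩ := hDp d hd
      exact ⟨k, Subgroup.centralizer_le (le_sup_right : W ≤ V ⊔ W) hk⟩
    intro d hd
    exact sup_le_centralizer_singleton (h1 hd) (h2 hd)

theorem largestPReduced_spec' [Finite G] [Fact p.Prime] :
    IsPReducedNormal p (largestPReduced p G) ∧
      ∀ V : Subgroup G, IsPReducedNormal p V → V ≤ largestPReduced p G := by
  obtain ⟨Y, -, hY⟩ := Finite.exists_le_maximal (p := fun V : Subgroup G => IsPReducedNormal p V)
    (a := ⊥) pReduced_bot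
  have hmax : ∀ V : Subgroup G, IsPReducedNormal p V → V ≤ Y := by
    intro V hV
    have h1 := pReduced_sup' hY.prop hV
    have h2 := hY.le_of_ge h1 le_sup_left
    exact le_sup_right.trans h2
  have hsup : largestPReduced p G = Y := by
    unfold largestPReduced
    apply le_antisymm
    · exact sSup_le fun V hV => hmax V hV
    · exact le_sSup hY.prop
  rw [hsup]
  exact ⟨hY.prop, hmax⟩

theorem largestPReducedOf_spec' [Finite G] [Fact p.Prime] (K : Subgroup G) :
    largestPReducedOf p K ≤ K ∧ APR p K (largestPReducedOf p K) ∧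
      (∀ V : Subgroup G, V ≤ K → APR p K V → V ≤ largestPReducedOf p K) := by
  obtain ⟨hY', hmax⟩ := largestPReduced_spec' (G := ↥K) (p := p)
  have hYK : largestPReducedOf p K ≤ K := Subgroup.map_subtype_le _
  have hsub : (largestPReducedOf p K).subgroupOf K = largestPReduced p ↥K :=
    Subgroup.comap_map_eq_self_of_injective K.subtype_injective _
  refine ⟨hYK, ?_, ?_⟩
  · rw [← isPReducedNormal_subgroupOf_iff hYK, hsub]; exact hY'
  · intro V hVK hV
    rw [← isPReducedNormal_subgroupOf_iff hVK] at hV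
    have h1 := hmax _ hV
    unfold largestPReducedOf
    rw [← Subgroup.map_subgroupOf_eq_of_le hVK]
    exact Subgroup.map_mono h1

theorem APR_top_iff [Finite G] [Fact p.Prime] (V : Subgroup G) :
    APR p (⊤ : Subgroup G) V ↔ IsPReducedNormal p V := by
  rw [isPReducedNormal_iff]
  unfold APR PR
  constructor
  · rintro ⟨h1, h2, h3⟩
    refine ⟨Subgroup.normalizer_eq_top_iff.mp (top_le_iff.mp h1), h2, ?_⟩
    intro D hD hDp
    exact h3 D le_top (by rw [Subgroup.normalizer_eq_top_iff.mpr hD]) hDp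
  · rintro ⟨h1, h2, h3⟩
    refine ⟨by rw [Subgroup.normalizer_eq_top_iff.mpr h1], h2, ?_⟩
    intro D _ hKD hDp
    exact h3 D (Subgroup.normalizer_eq_top_iff.mp (top_le_iff.mp hKD)) hDp

theorem comm_mem_of_mem_normalizer {V : Subgroup G} {x v : G}
    (hxN : x ∈ Subgroup.normalizer (V : Set G)) (hv : v ∈ V) : ⁅v, x⁆ ∈ V := by
  rw [commutatorElement_def]
  have h1 : x * v⁻¹ * x⁻¹ ∈ V := (Subgroup.mem_normalizer_iff.mp hxN v⁻¹).mp (V.inv_mem hv)
  have : v * x * v⁻¹ * x⁻¹ = v * (x * v⁻¹ * x⁻¹) := by group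
  rw [this]; exact V.mul_mem hv h1

/-- coprime action: `[V, x] ∩ C_V(x) = 1`, elementwise. -/
theorem comm_eq_one_of_comm_comm_eq_one [Fact p.Prime] {V : Subgroup G} (hVp : IsPGroup p V)
    {x : G} (hxN : x ∈ Subgroup.normalizer (V : Set G)) (hx : (orderOf x).Coprime p) {a : G}
    (ha : a ∈ V) (h1 : ⁅⁅a, x⁆, x⁆ = 1) : ⁅a, x⁆ = 1 := by
  set u : G := ⁅a, x⁆ with hu
  have huV : u ∈ V := comm_mem_of_mem_normalizer hxN ha
  have hux : u * x = x * u := by
    rw [commutatorElement_def] at h1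
    calc u * x = (u * x * u⁻¹ * x⁻¹) * (x * u) := by group
      _ = x * u := by rw [h1, one_mul]
  have hz : x * a * x⁻¹ * a⁻¹ = u⁻¹ := by
    rw [hu, commutatorElement_def]; group
  have h2 : x * a * x⁻¹ * a⁻¹ = 1 := by
    apply coprime_step (p := p) x a hx
    · rw [hz]
      calc x * u⁻¹ = u⁻¹ * (u * x) * u⁻¹ := by group
        _ = u⁻¹ * (x * u) * u⁻¹ := by rw [hux]
        _ = u⁻¹ * x := by group
    · rw [hz]
      obtain ⟨k, hk⟩ := hVp ⟨u, huV⟩
      refine ⟨k, ?_⟩
      have hk' : u ^ (p ^ k) = 1 := by simpa using congrArg Subtype.val hk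
      rw [inv_pow, hk', inv_one]
  rw [hz] at h2
  exact inv_eq_one.mp h2

/-- coprime action on an abelian `p`-subgroup normalized by `x`: `[V, x] = [V, x, x]`. -/
theorem exists_comm_comm_of_coprime' [Finite G] [Fact p.Prime] {V : Subgroup G}
    (hVc : ∀ a ∈ V, ∀ b ∈ V, a * b = b * a) (hVp : IsPGroup p V) {x : G}
    (hxN : x ∈ Subgroup.normalizer (V : Set G)) (hx : (orderOf x).Coprime p) :
    ∀ v ∈ V, ∃ v' ∈ V, ⁅v, x⁆ = ⁅⁅v', x⁆, x⁆ := by
  intro v hv
  have hVN : V ≤ Subgroup.normalizer (V : Set G) := Subgroup.le_normalizer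
  have : (V.subgroupOf (Subgroup.normalizer (V : Set G))).Normal :=
    Subgroup.normal_in_normalizer
  obtain ⟨v', hv', e⟩ := exists_comm_comm_of_coprime (p := p)
    (V.subgroupOf (Subgroup.normalizer (V : Set G)))
    (by
      intro a ha b hb
      apply Subtype.ext
      exact hVc _ (Subgroup.mem_subgroupOf.mp ha) _ (Subgroup.mem_subgroupOf.mp hb))
    (hVp.comap_subtype) ⟨x, hxN⟩ (by rw [Subgroup.orderOf_mk]; exact hx) ⟨v, hVN hv⟩
    (Subgroup.mem_subgroupOf.mpr hv)
  refine ⟨v', Subgroup.mem_subgroupOf.mp hv', ?_⟩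
  have := congrArg Subtype.val e
  simpa [commutatorElement_def] using this

/-- a `p'`-element normalizing the abelian `p`-subgroup `V` and centralizing `[V, x]`
centralizes `V`. -/
theorem mem_centralizer_of_comm_centralized [Finite G] [Fact p.Prime] {V : Subgroup G}
    (hVc : ∀ a ∈ V, ∀ b ∈ V, a * b = b * a) (hVp : IsPGroup p V) {x : G}
    (hxN : x ∈ Subgroup.normalizer (V : Set G)) (hx : (orderOf x).Coprime p)
    (h : ∀ v ∈ V, ⁅⁅v, x⁆, x⁆ = 1) : x ∈ Subgroup.centralizer (V : Set G) := by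
  rw [Subgroup.mem_centralizer_iff]
  intro v hv
  obtain ⟨v', hv', e⟩ := exists_comm_comm_of_coprime' hVc hVp hxN hx v hv
  rw [h v' hv'] at e
  exact (commutatorElement_eq_one_iff_commute.mp e).eq

/-- some `p`-power of `x` has order prime to `p`. -/
theorem exists_pow_coprime [Finite G] [Fact p.Prime] (x : G) :
    ∃ j : ℕ, (orderOf (x ^ (p ^ j))).Coprime p := by
  obtain ⟨j, m, hm, hord⟩ := Nat.exists_eq_pow_mul_and_not_dvd (orderOf_pos x).ne' p
    (Fact.out : p.Prime).ne_one
  refine ⟨j, ?_⟩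
  have h1 : orderOf (x ^ (p ^ j)) = m := by
    rw [orderOf_pow' x (pow_ne_zero j (Fact.out : p.Prime).ne_zero), hord]
    rw [Nat.gcd_eq_right (dvd_mul_right _ _)]
    exact Nat.mul_div_cancel_left m (pow_pos (Fact.out : p.Prime).pos j)
  rw [h1]
  exact ((Nat.Prime.coprime_iff_not_dvd Fact.out).mpr hm).symm

/-- if a `p`-power of the `p'`-element `x` lies in `C` then `x ∈ C`. -/
theorem mem_of_pow_mem_of_coprime {C : Subgroup G} {x : G} {k : ℕ} (hx : (orderOf x).Coprime p)
    (hk : x ^ (p ^ k) ∈ C) : x ∈ C := by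
  have hcop : (p ^ k).Coprime (orderOf x) := (Nat.Coprime.pow_right k hx).symm
  obtain ⟨m, hm⟩ := exists_pow_eq_self_of_coprime hcop
  rw [← hm]; exact Subgroup.pow_mem _ hk m

theorem APR.le_centralizer_of_subnormal [Finite G] [Fact p.Prime] {L V R P : Subgroup G}
    (hV : APR p L V) (hVL : V ≤ L) (hRL : R ≤ L) (hLR : L ≤ Subgroup.normalizer (R : Set G))
    (hPR : P ≤ R) (hRP : R ≤ Subgroup.normalizer (P : Set G))
    (hP : ∀ x ∈ P, ∃ k : ℕ, x ^ (p ^ k) ∈ Subgroup.centralizer (V : Set G)) :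
    P ≤ Subgroup.centralizer (V : Set G) := by
  have hV' : IsPReducedNormal p (V.subgroupOf L) := (isPReducedNormal_subgroupOf_iff hVL).mpr hV
  obtain ⟨hVn, hVe, hCn, hO⟩ := hV'
  have hR'n : (R.subgroupOf L).Normal := (Subgroup.normal_subgroupOf_iff_le_normalizer hRL).mpr hLR
  have hle : P.subgroupOf L ≤ R.subgroupOf L := Subgroup.subgroupOf_mono L hPR
  have hnorm : R.subgroupOf L ≤ Subgroup.normalizer ((P.subgroupOf L : Subgroup ↥L) : Set ↥L) := by
    intro r hr
    rw [Subgroup.mem_subgroupOf] at hr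
    rw [Subgroup.mem_normalizer_iff]
    intro y
    rw [Subgroup.mem_subgroupOf, Subgroup.mem_subgroupOf]
    have := Subgroup.mem_normalizer_iff.mp (hRP hr) (y : G)
    simpa using this
  have hsub : (P.subgroupOf L).IsSubnormal :=
    Subgroup.IsSubnormal.step _ _ hle hR'n.isSubnormal
      ((Subgroup.normal_subgroupOf_iff_le_normalizer hle).mpr hnorm)
  have himg : (P.subgroupOf L).map
      (QuotientGroup.mk' (Subgroup.centralizer ((V.subgroupOf L : Subgroup ↥L) : Set ↥L))) ≤
      pCore p (↥L ⧸ Subgroup.centralizer ((V.subgroupOf L : Subgroup ↥L) : Set ↥L)) := by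
    apply le_pCore_of_subnormal _ (hsub.map (QuotientGroup.mk'_surjective _))
    rintro ⟨_, ⟨d, hd, rfl⟩⟩
    have hd' : (d : G) ∈ P := Subgroup.mem_subgroupOf.mp hd
    obtain ⟨k, hk⟩ := hP _ hd'
    refine ⟨k, ?_⟩
    apply Subtype.ext
    simp only [Subgroup.coe_pow, Subgroup.coe_one]
    rw [← map_pow, QuotientGroup.mk'_apply, QuotientGroup.eq_one_iff,
      mem_centralizer_subgroupOf hVL]
    simpa using hk
  rw [hO] at himg
  intro x hx
  have hxL : x ∈ L := hRL (hPR hx)
  have := himg ⟨⟨x, hxL⟩, Subgroup.mem_subgroupOf.mpr hx, rfl⟩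
  rw [Subgroup.mem_bot, QuotientGroup.mk'_apply, QuotientGroup.eq_one_iff,
    mem_centralizer_subgroupOf hVL] at this
  exact this

theorem exists_sylow_mul_ambient [Finite G] [Fact p.Prime] {A N : Subgroup G} (hNA : N ≤ A)
    (hAN : A ≤ Subgroup.normalizer (N : Set G)) (hAp : ∀ a ∈ A, ∃ k : ℕ, a ^ (p ^ k) ∈ N)
    (T : Sylow p ↥A) :
    ∀ a ∈ A, ∃ t ∈ (T : Subgroup ↥A).map A.subtype, ∃ c ∈ N, a = t * c := by
  have hN' : (N.subgroupOf A).Normal :=
    (Subgroup.normal_subgroupOf_iff_le_normalizer hNA).mpr hAN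
  have key := exists_sylow_mul_of_pquotient (G := ↥A) T (N := N.subgroupOf A) (D := ⊤)
    Subgroup.normal_top le_top (by
      intro d _
      obtain ⟨k, hk⟩ := hAp d d.2
      exact ⟨k, by rw [Subgroup.mem_subgroupOf]; simpa using hk⟩)
  intro a ha
  obtain ⟨t, ht, c, hc, e⟩ := key ⟨a, ha⟩ (Subgroup.mem_top _)
  refine ⟨t, ⟨t, ht.1, rfl⟩, c, Subgroup.mem_subgroupOf.mp hc, ?_⟩
  have := congrArg Subtype.val e
  simpa using this

theorem comm_mul_of_abelian {V : Subgroup G} (hVc : ∀ a ∈ V, ∀ b ∈ V, a * b = b * a) {x : G}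
    (hxN : x ∈ Subgroup.normalizer (V : Set G)) {a b : G} (ha : a ∈ V) (hb : b ∈ V) :
    ⁅a * b, x⁆ = ⁅a, x⁆ * ⁅b, x⁆ := by
  have hbx : ⁅b, x⁆ ∈ V := comm_mem_of_mem_normalizer hxN hb
  have hax : ⁅a, x⁆ ∈ V := comm_mem_of_mem_normalizer hxN ha
  have h1 : ⁅a * b, x⁆ = a * ⁅b, x⁆ * a⁻¹ * ⁅a, x⁆ := by
    simp only [commutatorElement_def]; group
  have h2 : a * ⁅b, x⁆ = ⁅b, x⁆ * a := hVc _ ha _ hbx
  rw [h1, h2, mul_assoc ⁅b, x⁆ a a⁻¹, mul_inv_cancel, mul_one]
  exact hVc _ hbx _ hax

/-- Thompson's `A × B`-lemma in module form: a `p'`-element `y` acting on the abelian `p`-group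
`W` and commuting (in its action on `W`) with the `p`-group `PA`, which centralizes
`C_W(PA)`, centralizes `W`. -/
theorem axb_module [Finite G] [Fact p.Prime] {W PA : Subgroup G} {y : G}
    (hWc : ∀ a ∈ W, ∀ b ∈ W, a * b = b * a) (hWp : IsPGroup p W)
    (hyN : y ∈ Subgroup.normalizer (W : Set G)) (hy : (orderOf y).Coprime p)
    (hPA : IsPGroup p PA) (hPAW : PA ≤ Subgroup.normalizer (W : Set G))
    (hcomm : ∀ u ∈ PA, ⁅y, u⁆ ∈ Subgroup.centralizer (W : Set G))
    (hfix : ∀ w ∈ W, (∀ u ∈ PA, u * w = w * u) → y * w = w * y) :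
    y ∈ Subgroup.centralizer (W : Set G) := by
  by_contra hne
  -- X = [W, y]
  let X : Subgroup G :=
    { carrier := {g | ∃ w ∈ W, g = ⁅w, y⁆}
      one_mem' := ⟨1, W.one_mem, by simp⟩
      mul_mem' := by
        rintro _ _ ⟨a, ha, rfl⟩ ⟨b, hb, rfl⟩
        exact ⟨a * b, W.mul_mem ha hb, (comm_mul_of_abelian hWc hyN ha hb).symm⟩
      inv_mem' := by
        rintro _ ⟨a, ha, rfl⟩
        refine ⟨a⁻¹, W.inv_mem ha, ?_⟩
        have h := comm_mul_of_abelian hWc hyN ha (W.inv_mem ha)
        rw [mul_inv_cancel] at h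
        have h1 : ⁅(1 : G), y⁆ = 1 := by simp
        rw [h1] at h
        exact inv_eq_of_mul_eq_one_right h.symm }
  have hX_mem : ∀ g : G, g ∈ X ↔ ∃ w ∈ W, g = ⁅w, y⁆ := fun g => Iff.rfl
  have hXW : X ≤ W := by
    rintro _ ⟨w, hw, rfl⟩
    exact comm_mem_of_mem_normalizer hyN hw
  have hXp : IsPGroup p X := hWp.to_le hXW
  -- the actions of `y` and `PA` on `W` commute
  have hact : ∀ u ∈ PA, ∀ w ∈ W, y * (u * w * u⁻¹) * y⁻¹ = u * (y * w * y⁻¹) * u⁻¹ := by
    intro u hu w hw
    have hz : u * (y * w * y⁻¹) * u⁻¹ ∈ W :=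
      (Subgroup.mem_normalizer_iff.mp (hPAW hu) _).mp
        ((Subgroup.mem_normalizer_iff.mp hyN _).mp hw)
    have hc := Subgroup.mem_centralizer_iff.mp (hcomm u hu) _ hz
    have h1 : y * (u * w * u⁻¹) * y⁻¹ = ⁅y, u⁆ * (u * (y * w * y⁻¹) * u⁻¹) * ⁅y, u⁆⁻¹ := by
      simp only [commutatorElement_def]; group
    rw [h1, ← hc, mul_assoc, mul_inv_cancel, mul_one]
  have hPAX : PA ≤ Subgroup.normalizer (X : Set G) := by
    intro u hu
    apply mem_normalizer_of_map_conj_le
    rintro _ ⟨_, ⟨w, hw, rfl⟩, rfl⟩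
    have hw' : u * w * u⁻¹ ∈ W := (Subgroup.mem_normalizer_iff.mp (hPAW hu) _).mp hw
    refine ⟨u * w * u⁻¹, hw', ?_⟩
    have h2 := hact u hu w⁻¹ (W.inv_mem hw)
    simp only [MulEquiv.coe_toMonoidHom, MulAut.conj_apply]
    have e1 : ⁅u * w * u⁻¹, y⁆ = (u * w * u⁻¹) * (y * (u * w⁻¹ * u⁻¹) * y⁻¹) := by
      simp only [commutatorElement_def]; group
    rw [e1, h2]
    simp only [commutatorElement_def]; group
  -- X ≠ ⊥
  have hXne : ∃ w ∈ W, ⁅w, y⁆ ≠ 1 := by
    by_contra hall
    apply hne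
    rw [Subgroup.mem_centralizer_iff]
    intro w hw
    by_contra hcm
    exact hall ⟨w, hw, fun h => hcm (commutatorElement_eq_one_iff_commute.mp h).eq⟩
  obtain ⟨w₁, hw₁, hw₁ne⟩ := hXne
  have hΓp : IsPGroup p ↥(PA ⊔ X) := IsPGroup.to_sup_of_normal_right' hPA hXp hPAX
  have hXΓ : X ≤ PA ⊔ X := le_sup_right
  have hΓX : PA ⊔ X ≤ Subgroup.normalizer (X : Set G) := sup_le hPAX Subgroup.le_normalizer
  have hNn : (X.subgroupOf (PA ⊔ X)).Normal :=
    (Subgroup.normal_subgroupOf_iff_le_normalizer hXΓ).mpr hΓX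
  have hNne : X.subgroupOf (PA ⊔ X) ≠ ⊥ := by
    intro h
    have hmem : (⟨⁅w₁, y⁆, hXΓ ⟨w₁, hw₁, rfl⟩⟩ : ↥(PA ⊔ X)) ∈ X.subgroupOf (PA ⊔ X) := by
      rw [Subgroup.mem_subgroupOf]; exact ⟨w₁, hw₁, rfl⟩
    rw [h, Subgroup.mem_bot] at hmem
    exact hw₁ne (congrArg Subtype.val hmem)
  obtain ⟨x₀, hx₀N, hx₀c, hx₀ne⟩ :=
    Cfsg.Agent.Lib.Helper10.exists_mem_center_of_normal_ne_bot p hΓp _ hNne
  rw [Subgroup.mem_subgroupOf] at hx₀N
  obtain ⟨w₂, hw₂, e⟩ := hx₀N
  have hfix' : ∀ u ∈ PA, u * (x₀ : G) = (x₀ : G) * u := by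
    intro u hu
    have := (Subgroup.mem_center_iff.mp hx₀c) ⟨u, (le_sup_left : PA ≤ PA ⊔ X) hu⟩
    exact congrArg Subtype.val this
  have h3 := hfix (x₀ : G) (hXW ⟨w₂, hw₂, e⟩) hfix'
  have h4 : ⁅⁅w₂, y⁆, y⁆ = 1 := by
    rw [← e, commutatorElement_eq_one_iff_commute]
    exact h3.symm
  have h5 := comm_eq_one_of_comm_comm_eq_one hWp hyN hy hw₂ h4
  apply hx₀ne
  apply Subtype.ext
  rw [e, h5]; rfl

theorem isElementaryAbelian_map_conj {V : Subgroup G} (hV : IsElementaryAbelian p V) (g : G) :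
    IsElementaryAbelian p (V.map (MulAut.conj g).toMonoidHom) := by
  have hc := comm_of_isElementaryAbelian hV
  refine ⟨⟨⟨?_⟩⟩, ?_⟩
  · rintro ⟨_, ⟨a, ha, rfl⟩⟩ ⟨_, ⟨b, hb, rfl⟩⟩
    apply Subtype.ext
    show (MulAut.conj g).toMonoidHom a * (MulAut.conj g).toMonoidHom b =
      (MulAut.conj g).toMonoidHom b * (MulAut.conj g).toMonoidHom a
    rw [← map_mul, ← map_mul, hc a ha b hb]
  · rintro _ ⟨a, ha, rfl⟩
    rw [← map_pow, hV.2 a ha, map_one]

theorem APR_map_conj_of_mem_normalizer [Finite G] {L V : Subgroup G} (h : APR p L V) {g : G}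
    (hg : g ∈ Subgroup.normalizer (L : Set G)) :
    APR p L (V.map (MulAut.conj g).toMonoidHom) := by
  obtain ⟨h1, h2, h3⟩ := h
  have hLg : L.map (MulAut.conj g).toMonoidHom = L := map_conj_eq_of_mem_normalizer hg
  have hginv : g⁻¹ ∈ Subgroup.normalizer (L : Set G) := Subgroup.inv_mem _ hg
  have hLg' : L.map (MulAut.conj g⁻¹).toMonoidHom = L := map_conj_eq_of_mem_normalizer hginv
  refine ⟨?_, isElementaryAbelian_map_conj h2 g, ?_⟩
  · rw [normalizer_map_conj]
    conv_lhs => rw [← hLg]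
    exact Subgroup.map_mono h1
  · intro D hDL hLD hDp
    have hD'L : D.map (MulAut.conj g⁻¹).toMonoidHom ≤ L := by
      conv_rhs => rw [← hLg']
      exact Subgroup.map_mono hDL
    have hLD' : L ≤ Subgroup.normalizer
        ((D.map (MulAut.conj g⁻¹).toMonoidHom : Subgroup G) : Set G) := by
      rw [normalizer_map_conj]
      conv_lhs => rw [← hLg']
      exact Subgroup.map_mono hLD
    have hD'p : ∀ d ∈ D.map (MulAut.conj g⁻¹).toMonoidHom, ∃ k : ℕ,
        d ^ (p ^ k) ∈ Subgroup.centralizer (V : Set G) := by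
      rintro _ ⟨d, hd, rfl⟩
      obtain ⟨k, hk⟩ := hDp d hd
      refine ⟨k, ?_⟩
      rw [centralizer_map_conj, mem_map_conj_iff] at hk
      rw [← map_pow]
      simp only [MulEquiv.coe_toMonoidHom, MulAut.conj_apply, inv_inv]
      exact hk
    have h4 := h3 _ hD'L hLD' hD'p
    have h5 := Subgroup.map_mono (f := (MulAut.conj g).toMonoidHom) h4
    rw [map_conj_map_conj_inv, ← centralizer_map_conj] at h5
    exact h5

theorem le_normalizer_largestPReducedOf [Finite G] [Fact p.Prime] (L : Subgroup G) :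
    Subgroup.normalizer (L : Set G) ≤
      Subgroup.normalizer ((largestPReducedOf p L : Subgroup G) : Set G) := by
  obtain ⟨hVL, hVapr, hVmax⟩ := largestPReducedOf_spec' (p := p) L
  intro g hg
  apply mem_normalizer_of_map_conj_le
  apply hVmax _ _ (APR_map_conj_of_mem_normalizer hVapr hg)
  calc (largestPReducedOf p L).map (MulAut.conj g).toMonoidHom
      ≤ L.map (MulAut.conj g).toMonoidHom := Subgroup.map_mono hVL
    _ = L := map_conj_eq_of_mem_normalizer hg

theorem conj_mul_inv_mem_of_mem_normalizer {A : Subgroup G} {y u : G}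
    (hy : y ∈ Subgroup.normalizer (A : Set G)) (hu : u ∈ A) : ⁅y, u⁆ ∈ A := by
  rw [commutatorElement_def]
  exact A.mul_mem ((Subgroup.mem_normalizer_iff.mp hy u).mp hu) (A.inv_mem hu)

theorem comm_mem_of_mem_normalizer' {R : Subgroup G} {y u : G}
    (hu : u ∈ Subgroup.normalizer (R : Set G)) (hy : y ∈ R) : ⁅y, u⁆ ∈ R := by
  rw [commutatorElement_def]
  have h1 : u * y⁻¹ * u⁻¹ ∈ R := (Subgroup.mem_normalizer_iff.mp hu y⁻¹).mp (R.inv_mem hy)
  have : y * u * y⁻¹ * u⁻¹ = y * (u * y⁻¹ * u⁻¹) := by group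
  rw [this]; exact R.mul_mem hy h1

/-- normal case: for `L ⊴ K`, `C_L(Y_K) ≤ C_L(Y_L)`. -/
theorem largestPReducedOf_centralizer_normal [Finite G] [Fact p.Prime] {L K : Subgroup G}
    (hLK : L ≤ K) (hKL : K ≤ Subgroup.normalizer (L : Set G)) :
    L ⊓ Subgroup.centralizer ((largestPReducedOf p K : Subgroup G) : Set G) ≤
      Subgroup.centralizer ((largestPReducedOf p L : Subgroup G) : Set G) := by
  obtain ⟨hYKK, hYKapr, hYKmax⟩ := largestPReducedOf_spec' (p := p) K
  obtain ⟨hVL, hVapr, hVmax⟩ := largestPReducedOf_spec' (p := p) L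
  have hKV : K ≤ Subgroup.normalizer ((largestPReducedOf p L : Subgroup G) : Set G) :=
    hKL.trans (le_normalizer_largestPReducedOf L)
  have hVe : IsElementaryAbelian p (largestPReducedOf p L) := hVapr.2.1
  have hVc := comm_of_isElementaryAbelian hVe
  have hVp := isPGroup_of_isElementaryAbelian hVe
  have hKD : K ≤ Subgroup.normalizer
      ((L ⊓ Subgroup.centralizer ((largestPReducedOf p K : Subgroup G) : Set G) : Subgroup G) :
        Set G) :=
    inf_le_normalizer_inf hKL (hYKapr.1.trans (normalizer_le_normalizer_centralizer _))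
  have hKR : K ≤ Subgroup.normalizer ((OpOf p
      (L ⊓ Subgroup.centralizer ((largestPReducedOf p K : Subgroup G) : Set G)) : Subgroup G) :
        Set G) := hKD.trans (normalizer_le_normalizer_OpOf _)
  have hRD : OpOf p (L ⊓ Subgroup.centralizer ((largestPReducedOf p K : Subgroup G) : Set G)) ≤
      L ⊓ Subgroup.centralizer ((largestPReducedOf p K : Subgroup G) : Set G) := OpOf_le _
  -- abbreviations via generalization
  generalize hVdef : largestPReducedOf p L = V at *
  generalize hRdef : OpOf p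
    (L ⊓ Subgroup.centralizer ((largestPReducedOf p K : Subgroup G) : Set G)) = R at *
  have hRL : R ≤ L := hRD.trans inf_le_left
  have hRK : R ≤ K := hRL.trans hLK
  have hRV : R ≤ Subgroup.normalizer (V : Set G) := hRK.trans hKV
  have hW0V : ⁅V, R⁆ ≤ V := Subgroup.le_normalizer_iff_commutator_le_left.mp hRV
  have hKW0 : K ≤ Subgroup.normalizer ((⁅V, R⁆ : Subgroup G) : Set G) :=
    le_normalizer_commutator hKV hKR
  -- (F)
  have hF : ∀ P : Subgroup G, P ≤ R → R ≤ Subgroup.normalizer (P : Set G) →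
      (∀ x ∈ P, ∃ k : ℕ, x ^ (p ^ k) ∈ Subgroup.centralizer ((⁅V, R⁆ : Subgroup G) : Set G)) →
      P ≤ Subgroup.centralizer (V : Set G) := by
    intro P hPR hRP hP
    have h1 : ∀ x ∈ P, (orderOf x).Coprime p → x ∈ Subgroup.centralizer (V : Set G) := by
      intro x hx hxp
      obtain ⟨k, hk⟩ := hP x hx
      have hxW0 : x ∈ Subgroup.centralizer ((⁅V, R⁆ : Subgroup G) : Set G) :=
        mem_of_pow_mem_of_coprime hxp hk
      apply mem_centralizer_of_comm_centralized hVc hVp (hRV (hPR hx)) hxp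
      intro v hv
      rw [commutatorElement_eq_one_iff_commute]
      exact (Subgroup.mem_centralizer_iff.mp hxW0 _
        (Subgroup.commutator_mem_commutator hv (hPR hx)))
    apply APR.le_centralizer_of_subnormal hVapr hVL hRL (hLK.trans hKR) hPR hRP
    intro x hx
    obtain ⟨j, hj⟩ := exists_pow_coprime (p := p) x
    exact ⟨j, h1 _ (P.pow_mem hx _) hj⟩
  -- the descending induction
  have hInd : ∀ n : ℕ, ∀ W : Subgroup G, Nat.card W ≤ n → W ≤ ⁅V, R⁆ →
      K ≤ Subgroup.normalizer (W : Set G) →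
      R ⊓ Subgroup.centralizer (W : Set G) ≤
        Subgroup.centralizer ((⁅V, R⁆ : Subgroup G) : Set G) →
      ∃ U : Subgroup G, U ≤ W ∧ APR p K U ∧ R ⊓ Subgroup.centralizer (U : Set G) ≤
        Subgroup.centralizer ((⁅V, R⁆ : Subgroup G) : Set G) := by
    intro n
    induction n with
    | zero =>
      intro W hc
      exfalso
      have : 0 < Nat.card W := Nat.card_pos
      omega
    | succ n ih =>
      intro W hcard hWW0 hKW hRW
      by_cases hapr : APR p K W
      · exact ⟨W, le_rfl, hapr, hRW⟩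
      have hWV : W ≤ V := hWW0.trans hW0V
      have hWe : IsElementaryAbelian p W := isElementaryAbelian_of_le hWV hVe
      have hWc := comm_of_isElementaryAbelian hWe
      have hWp := isPGroup_of_isElementaryAbelian hWe
      have hexA : ∃ A : Subgroup G, A ≤ K ∧ K ≤ Subgroup.normalizer (A : Set G) ∧
          (∀ a ∈ A, ∃ k : ℕ, a ^ (p ^ k) ∈ Subgroup.centralizer (W : Set G)) ∧
          ¬ A ≤ Subgroup.centralizer (W : Set G) := by
        by_contra hno
        apply hapr
        refine ⟨hKW, hWe, ?_⟩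
        intro D hDK hKD hDp
        by_contra hD
        exact hno ⟨D, hDK, hKD, hDp, hD⟩
      obtain ⟨A, hAK, hKA, hAp, hAnot⟩ := hexA
      obtain ⟨T⟩ : Nonempty (Sylow p ↥A) := inferInstance
      have hPAA : (T : Subgroup ↥A).map A.subtype ≤ A := Subgroup.map_subtype_le _
      have hPAp : IsPGroup p ((T : Subgroup ↥A).map A.subtype) := T.isPGroup'.map _
      have hdec := exists_sylow_mul_ambient
        (N := A ⊓ Subgroup.centralizer (W : Set G)) inf_le_left
        (inf_le_normalizer_inf Subgroup.le_normalizer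
          (hAK.trans (hKW.trans (normalizer_le_normalizer_centralizer W))))
        (fun a ha => by
          obtain ⟨k, hk⟩ := hAp a ha
          exact ⟨k, ⟨A.pow_mem ha _, hk⟩⟩) T
      have hKW' : K ≤ Subgroup.normalizer
          ((W ⊓ Subgroup.centralizer (A : Set G) : Subgroup G) : Set G) :=
        inf_le_normalizer_inf hKW (hKA.trans (normalizer_le_normalizer_centralizer A))
      have hW'ne : W ⊓ Subgroup.centralizer (A : Set G) ≠ W := by
        intro h
        rw [inf_eq_left] at h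
        exact hAnot (Subgroup.le_centralizer_iff.mp h)
      have hcard' : Nat.card ↥(W ⊓ Subgroup.centralizer (A : Set G)) ≤ n := by
        by_contra hlt
        push Not at hlt
        apply hW'ne
        exact Subgroup.eq_of_le_of_card_ge inf_le_left (by omega)
      have hAR : A ⊓ R ≤ Subgroup.centralizer (V : Set G) := by
        apply hF (A ⊓ R) inf_le_right
          (inf_le_normalizer_inf (hRK.trans hKA) Subgroup.le_normalizer)
        intro a ha
        obtain ⟨k, hk⟩ := hAp a ha.1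
        exact ⟨k, hRW ⟨R.pow_mem ha.2 _, hk⟩⟩
      have hARW : A ⊓ R ≤ Subgroup.centralizer (W : Set G) :=
        hAR.trans (Subgroup.centralizer_le hWV)
      have hRW' : R ⊓ Subgroup.centralizer
          ((W ⊓ Subgroup.centralizer (A : Set G) : Subgroup G) : Set G) ≤
          Subgroup.centralizer ((⁅V, R⁆ : Subgroup G) : Set G) := by
        refine (hF _ inf_le_left (inf_le_normalizer_inf Subgroup.le_normalizer
          (hRK.trans (hKW'.trans (normalizer_le_normalizer_centralizer _)))) ?_).trans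
          (Subgroup.centralizer_le hW0V)
        intro x hx
        obtain ⟨j, hj⟩ := exists_pow_coprime (p := p) x
        refine ⟨j, ?_⟩
        have hyR : x ^ (p ^ j) ∈ R := R.pow_mem hx.1 _
        have hyC : x ^ (p ^ j) ∈ Subgroup.centralizer
            ((W ⊓ Subgroup.centralizer (A : Set G) : Subgroup G) : Set G) :=
          Subgroup.pow_mem _ hx.2 _
        apply hRW
        refine ⟨hyR, ?_⟩
        apply axb_module (PA := (T : Subgroup ↥A).map A.subtype) hWc hWp (hKW (hRK hyR)) hj hPAp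
          (hPAA.trans (hAK.trans hKW))
        · intro u hu
          apply hARW
          exact ⟨conj_mul_inv_mem_of_mem_normalizer (hKA (hRK hyR)) (hPAA hu),
            comm_mem_of_mem_normalizer' (hKR (hAK (hPAA hu))) hyR⟩
        · intro w hw hwPA
          have hwA : w ∈ Subgroup.centralizer (A : Set G) := by
            rw [Subgroup.mem_centralizer_iff]
            intro a ha
            obtain ⟨t, ht, c, hc, rfl⟩ := hdec a ha
            have h1 := hwPA t ht
            have h2 := Subgroup.mem_centralizer_iff.mp hc.2 w hw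
            calc t * c * w = t * (c * w) := by group
              _ = t * (w * c) := by rw [h2]
              _ = (t * w) * c := by group
              _ = (w * t) * c := by rw [h1]
              _ = w * (t * c) := by group
          exact (Subgroup.mem_centralizer_iff.mp hyC w ⟨hw, hwA⟩).symm
      obtain ⟨U, hUW', hUapr, hRU⟩ := ih _ hcard' (inf_le_left.trans hWW0) hKW' hRW'
      exact ⟨U, hUW'.trans inf_le_left, hUapr, hRU⟩
  obtain ⟨U, hUW0, hUapr, hRU⟩ := hInd _ ⁅V, R⁆ le_rfl le_rfl hKW0 inf_le_right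
  have hUK : U ≤ K := hUW0.trans (hW0V.trans (hVL.trans hLK))
  have hUY : U ≤ largestPReducedOf p K := hYKmax U hUK hUapr
  have hRU' : R ≤ Subgroup.centralizer (U : Set G) :=
    (hRD.trans inf_le_right).trans (Subgroup.centralizer_le hUY)
  have hRW0 : R ≤ Subgroup.centralizer ((⁅V, R⁆ : Subgroup G) : Set G) :=
    (le_inf le_rfl hRU').trans hRU
  -- R centralizes V
  have hRV' : R ≤ Subgroup.centralizer (V : Set G) :=
    hF R le_rfl Subgroup.le_normalizer (fun x hx => ⟨0, by simpa using hRW0 hx⟩)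
  -- conclude with the `p`-reducedness of `V` in `L`
  apply hVapr.2.2 _ inf_le_left (hLK.trans hKD)
  intro d hd
  obtain ⟨b, hb⟩ := exists_pow_mem_OpOf (p := p) _ hd
  rw [hRdef] at hb
  exact ⟨b, hRV' hb⟩

/-- a subnormal subgroup `D` whose `O^p(D)` centralizes `Y ∩ D` (`Y` a `p`-reduced normal
subgroup) centralizes `Y`. -/
theorem subnormal_le_centralizer_of_pReduced [Finite G] [Fact p.Prime] {Y : Subgroup G}
    (hY : IsPReducedNormal p Y) {D : Subgroup G} (hD : D.IsSubnormal)
    (h : OpOf p D ≤ Subgroup.centralizer ((Y ⊓ D : Subgroup G) : Set G)) :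
    D ≤ Subgroup.centralizer (Y : Set G) := by
  obtain ⟨hYn, hYe, hCn, hO⟩ := hY
  have hYc := comm_of_isElementaryAbelian hYe
  have hYp := isPGroup_of_isElementaryAbelian hYe
  have h0 : ⁅Y, OpOf p D⁆ ≤ Y ⊓ D :=
    le_inf (Subgroup.commutator_le_left Y _) (commutator_OpOf_le_of_subnormal Y hYc hYp D hD)
  have h1 : ∀ d ∈ D, (orderOf d).Coprime p → d ∈ Subgroup.centralizer (Y : Set G) := by
    intro d hd hdp
    have hdO : d ∈ OpOf p D := Subgroup.subset_closure ⟨hd, hdp⟩
    apply mem_centralizer_of_comm_centralized hYc hYp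
      (by rw [Subgroup.normalizer_eq_top_iff.mpr hYn]; exact Subgroup.mem_top d) hdp
    intro v hv
    rw [commutatorElement_eq_one_iff_commute]
    exact (Subgroup.mem_centralizer_iff.mp (h hdO) _
      (h0 (Subgroup.commutator_mem_commutator hv hdO)))
  have himg : D.map (QuotientGroup.mk' (Subgroup.centralizer (Y : Set G))) ≤
      pCore p (G ⧸ Subgroup.centralizer (Y : Set G)) := by
    apply le_pCore_of_subnormal _ (hD.map (QuotientGroup.mk'_surjective _))
    rintro ⟨_, ⟨d, hd, rfl⟩⟩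
    obtain ⟨j, hj⟩ := exists_pow_coprime (p := p) d
    refine ⟨j, ?_⟩
    apply Subtype.ext
    simp only [Subgroup.coe_pow, Subgroup.coe_one]
    rw [← map_pow, QuotientGroup.mk'_apply, QuotientGroup.eq_one_iff]
    exact h1 _ (D.pow_mem hd _) hj
  rw [hO] at himg
  intro d hd
  have := himg ⟨d, hd, rfl⟩
  rw [Subgroup.mem_bot, QuotientGroup.mk'_apply, QuotientGroup.eq_one_iff] at this
  exact this

theorem APR_inf_of_subnormal [Finite G] [Fact p.Prime] {Y L : Subgroup G}
    (hY : IsPReducedNormal p Y) (hL : L.IsSubnormal) : APR p L (Y ⊓ L) := by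
  have hYn : Y.Normal := hY.1
  refine ⟨inf_le_normalizer_inf (by rw [Subgroup.normalizer_eq_top_iff.mpr hYn]; exact le_top)
    Subgroup.le_normalizer, isElementaryAbelian_of_le inf_le_left hY.2.1, ?_⟩
  intro D hDL hLD hDp
  have hDsub : D.IsSubnormal := Subgroup.IsSubnormal.step D L hDL hL
    ((Subgroup.normal_subgroupOf_iff_le_normalizer hDL).mpr hLD)
  refine (subnormal_le_centralizer_of_pReduced hY hDsub ?_).trans
    (Subgroup.centralizer_le inf_le_left)
  unfold OpOf
  rw [Subgroup.closure_le]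
  rintro x ⟨hx, hxp⟩
  obtain ⟨k, hk⟩ := hDp x hx
  exact Subgroup.centralizer_le (inf_le_inf_left Y hDL) (mem_of_pow_mem_of_coprime hxp hk)

theorem inf_centralizer_inf_le_of_subnormal [Finite G] [Fact p.Prime] {Y L : Subgroup G}
    (hY : IsPReducedNormal p Y) (hL : L.IsSubnormal) :
    L ⊓ Subgroup.centralizer ((Y ⊓ L : Subgroup G) : Set G) ≤
      Subgroup.centralizer (Y : Set G) := by
  have hYn : Y.Normal := hY.1
  have hLYL : L ≤ Subgroup.normalizer ((Y ⊓ L : Subgroup G) : Set G) :=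
    inf_le_normalizer_inf (by rw [Subgroup.normalizer_eq_top_iff.mpr hYn]; exact le_top)
      Subgroup.le_normalizer
  have hLD : L ≤ Subgroup.normalizer
      ((L ⊓ Subgroup.centralizer ((Y ⊓ L : Subgroup G) : Set G) : Subgroup G) : Set G) :=
    inf_le_normalizer_inf Subgroup.le_normalizer
      (hLYL.trans (normalizer_le_normalizer_centralizer _))
  have hDsub : (L ⊓ Subgroup.centralizer ((Y ⊓ L : Subgroup G) : Set G)).IsSubnormal :=
    Subgroup.IsSubnormal.step _ L inf_le_left hL
      ((Subgroup.normal_subgroupOf_iff_le_normalizer inf_le_left).mpr hLD)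
  apply subnormal_le_centralizer_of_pReduced hY hDsub
  exact (OpOf_le _).trans (inf_le_right.trans
    (Subgroup.centralizer_le (inf_le_inf_left Y inf_le_left)))

theorem inf_centralizer_le_of_subnormal [Finite G] [Fact p.Prime] {L : Subgroup G}
    (hL : L.IsSubnormal) :
    L ⊓ Subgroup.centralizer ((largestPReduced p G : Subgroup G) : Set G) ≤
      Subgroup.centralizer ((largestPReducedOf p L : Subgroup G) : Set G) := by
  obtain ⟨hY, hYmax⟩ := largestPReduced_spec' (G := G) (p := p)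
  induction hL with
  | top =>
    obtain ⟨-, hapr, -⟩ := largestPReducedOf_spec' (p := p) (⊤ : Subgroup G)
    exact inf_le_right.trans (Subgroup.centralizer_le (hYmax _ ((APR_top_iff _).mp hapr)))
  | step L K hLK hK hN ih =>
    have hKL : K ≤ Subgroup.normalizer (L : Set G) :=
      (Subgroup.normal_subgroupOf_iff_le_normalizer hLK).mp hN
    refine le_trans ?_ (largestPReducedOf_centralizer_normal (p := p) hLK hKL)
    exact le_inf inf_le_left ((inf_le_inf_right _ hLK).trans ih)

theorem largestPReduced_subnormal_main [Finite G] [Fact p.Prime] (L : Subgroup G)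
    (hL : L.IsSubnormal) :
    Cfsg.largestPReduced p G ⊓ L = Cfsg.largestPReduced p G ⊓ (Cfsg.largestPReducedOf p L) ∧
    Cfsg.IsPReducedNormal p ((Cfsg.largestPReduced p G ⊓ L).subgroupOf L) ∧
    L ⊓ Subgroup.centralizer ((Cfsg.largestPReducedOf p L : Subgroup G) : Set G) =
      L ⊓ Subgroup.centralizer (Cfsg.largestPReduced p G : Set G) ∧
    L ⊓ Subgroup.centralizer (Cfsg.largestPReduced p G : Set G) =
      L ⊓ Subgroup.centralizer ((Cfsg.largestPReduced p G ⊓ L : Subgroup G) : Set G) ∧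
    (Cfsg.pResidual p G ≤ L → (⁅(Cfsg.largestPReducedOf p L), L⁆ = ⊥ ↔
      ⁅Cfsg.largestPReduced p G, (⊤ : Subgroup G)⁆ = ⊥)) := by
  obtain ⟨hY, hYmax⟩ := largestPReduced_spec' (G := G) (p := p)
  obtain ⟨hYLL, hYLapr, hYLmax⟩ := largestPReducedOf_spec' (p := p) L
  have hapr : APR p L (largestPReduced p G ⊓ L) := APR_inf_of_subnormal hY hL
  have hle : largestPReduced p G ⊓ L ≤ largestPReducedOf p L := hYLmax _ inf_le_right hapr
  have hF4 := inf_centralizer_inf_le_of_subnormal hY hL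
  have hF5 := inf_centralizer_le_of_subnormal (p := p) hL
  have h3 : L ⊓ Subgroup.centralizer ((Cfsg.largestPReducedOf p L : Subgroup G) : Set G) =
      L ⊓ Subgroup.centralizer (Cfsg.largestPReduced p G : Set G) := by
    apply le_antisymm
    · exact le_inf inf_le_left ((inf_le_inf_left L (Subgroup.centralizer_le hle)).trans hF4)
    · exact le_inf inf_le_left hF5
  refine ⟨?_, ?_, h3, ?_, ?_⟩
  · exact le_antisymm (le_inf inf_le_left hle) (inf_le_inf_left _ hYLL)
  · exact (isPReducedNormal_subgroupOf_iff inf_le_right).mpr hapr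
  · exact le_antisymm (inf_le_inf_left L (Subgroup.centralizer_le inf_le_left))
      (le_inf inf_le_left hF4)
  · intro hres
    constructor
    · intro h
      have h1 : L ≤ Subgroup.centralizer ((Cfsg.largestPReducedOf p L : Subgroup G) : Set G) :=
        Subgroup.le_centralizer_iff.mp (Subgroup.commutator_eq_bot_iff_le_centralizer.mp h)
      have h2 : L ≤ Subgroup.centralizer (Cfsg.largestPReduced p G : Set G) := by
        have : L ≤ L ⊓ Subgroup.centralizer
            ((Cfsg.largestPReducedOf p L : Subgroup G) : Set G) := le_inf le_rfl h1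
        rw [h3] at this
        exact this.trans inf_le_right
      obtain ⟨-, -, hPR⟩ := (isPReducedNormal_iff _).mp hY
      have h4 : (⊤ : Subgroup G) ≤ Subgroup.centralizer (Cfsg.largestPReduced p G : Set G) := by
        apply hPR ⊤ Subgroup.normal_top
        intro d hd
        obtain ⟨b, hb⟩ := exists_pow_mem_OpOf (p := p) (⊤ : Subgroup G) hd
        rw [← pResidual_eq_OpOf_top] at hb
        exact ⟨b, h2 (hres hb)⟩
      exact Subgroup.commutator_eq_bot_iff_le_centralizer.mpr (Subgroup.le_centralizer_iff.mp h4)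
    · intro h
      have h4 : (⊤ : Subgroup G) ≤ Subgroup.centralizer (Cfsg.largestPReduced p G : Set G) :=
        Subgroup.le_centralizer_iff.mp (Subgroup.commutator_eq_bot_iff_le_centralizer.mp h)
      have h1 : L ≤ Subgroup.centralizer ((Cfsg.largestPReducedOf p L : Subgroup G) : Set G) :=
        (le_inf le_rfl (le_top.trans h4)).trans hF5
      exact Subgroup.commutator_eq_bot_iff_le_centralizer.mpr (Subgroup.le_centralizer_iff.mp h1)

end Cfsg.Agent.Lib.Helper16
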